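import Mathlib
import Groth.Agent.Lib.Helper13.UR2

/-!
# Local sections of étale maps over a finite piece (helper5)

`exists_local_section`: let `Φ : Q ⟶ P` be étale, `p : P ⟶ Y'` separated, `T ⊆ Q` an open which is
finite over `Y'`, with a unique point `t` over `y'`, with purely inseparable residue field extension
`κ(t)/κ(y')`.  Then there is an open neighbourhood `O` of `Φ t` in `P` and a section `σ : O ⟶ Q` of
`Φ` over `O`, with values in `T`, through `t`; moreover `Φ` is "injective on maps into `T` over `O`".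
-/

set_option autoImplicit false

namespace Groth.Agent.Lib.helper5.FinSplit

open AlgebraicGeometry CategoryTheory Limits
open Groth.Agent.Lib.helper13

universe u

lemma isPurelyInseparable_of_bijective {F E : Type*} [Field F] [Field E] (φ : F →+* E)
    (h : Function.Bijective φ) : φ.IsPurelyInseparable := by
  algebraize [φ]
  rw [RingHom.IsPurelyInseparable]
  rw [isPurelyInseparable_iff]
  intro x
  obtain ⟨a, rfl⟩ := h.2 x
  exact ⟨isIntegral_algebraMap, fun _ => ⟨a, rfl⟩⟩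

theorem exists_local_section {P Q Y' : Scheme.{u}} (Φ : Q ⟶ P) [Etale Φ] (p : P ⟶ Y')
    [IsSeparated p] (T : Q.Opens) (t : Q) (ht : t ∈ T) (hfin : IsFinite (T.ι ≫ Φ ≫ p))
    (y' : Y') (huniq : ∀ w ∈ T, p (Φ w) = y' → w = t) (hy : p (Φ t) = y')
    (hPI : ((Φ ≫ p).residueFieldMap t).hom.IsPurelyInseparable) :
    ∃ (O : P.Opens), Φ t ∈ O ∧ ∃ σ : (O : Scheme.{u}) ⟶ Q, σ ≫ Φ = O.ι ∧ (∀ o, σ o ∈ T) ∧
      (∀ o : (O : Scheme.{u}), O.ι o = Φ t → σ o = t) ∧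
      (∀ (Z : Scheme.{u}) (a b : Z ⟶ Q), (∀ z, a z ∈ T) → (∀ z, b z ∈ T) → (∀ z, Φ (a z) ∈ O) →
        a ≫ Φ = b ≫ Φ → a = b) := by
  let π : (T : Scheme.{u}) ⟶ P := T.ι ≫ Φ
  have hπfin : IsFinite π := by
    have : IsFinite (π ≫ p) := by
      simpa only [π, Category.assoc] using hfin
    exact IsFinite.of_comp π p
  let t' : (T : Scheme.{u}) := ⟨t, ht⟩
  have hπt : π t' = Φ t := rfl
  have huniq' : ∀ v' : (T : Scheme.{u}), π v' = Φ t → v' = t' := by
    intro v' hv'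
    apply Subtype.ext
    apply huniq v'.1 v'.2
    have : Φ v'.1 = Φ t := hv'
    rw [this, hy]
  have hπPI : (π.residueFieldMap t').hom.IsPurelyInseparable := by
    have k1 : ((T.ι ≫ (Φ ≫ p)).residueFieldMap t').hom =
        (T.ι.residueFieldMap t').hom.comp ((Φ ≫ p).residueFieldMap (T.ι t')).hom :=
      congrArg CommRingCat.Hom.hom (Scheme.residueFieldMap_comp T.ι (Φ ≫ p) t')
    have k2 : ((π ≫ p).residueFieldMap t').hom =
        (π.residueFieldMap t').hom.comp (p.residueFieldMap (π t')).hom :=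
      congrArg CommRingCat.Hom.hom (Scheme.residueFieldMap_comp π p t')
    have k3 : ((T.ι ≫ (Φ ≫ p)).residueFieldMap t').hom.IsPurelyInseparable := by
      rw [k1]
      refine RingHom.IsPurelyInseparable.comp hPI ?_
      apply isPurelyInseparable_of_bijective
      have : IsIso (T.ι.residueFieldMap t') := inferInstance
      exact ConcreteCategory.bijective_of_isIso (T.ι.residueFieldMap t')
    have k4 : ((π ≫ p).residueFieldMap t').hom.IsPurelyInseparable := k3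
    rw [k2] at k4
    exact EL.isPurelyInseparable_of_comp _ _ k4
  have hπfinres : (π.residueFieldMap t').hom.Finite := by
    have h2 : π.QuasiFiniteAt t' := Scheme.Hom.quasiFiniteAt _ _
    exact EL.finite_residueFieldMap_of_quasiFiniteAt h2
  have hbij : Function.Bijective (π.residueFieldMap t') :=
    UR.bijective_residueFieldMap_of_isPurelyInseparable π t' hπfinres hπPI
  obtain ⟨O₀, hO₀, hcl⟩ := UR.exists_isClosedImmersion_morphismRestrict π (Φ t) t' hπt huniq' hbij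
  have hcl₀ : IsClosedImmersion (π ∣_ O₀) := hcl O₀ le_rfl
  have hoi : IsOpenImmersion (π ∣_ O₀) := IsOpenImmersion.of_flat_of_mono _
  let ψ : ((π ⁻¹ᵁ O₀ : (T : Scheme.{u}).Opens) : Scheme.{u}) ⟶ P := (π ⁻¹ᵁ O₀).ι ≫ π
  have hψ : ψ = (π ∣_ O₀) ≫ O₀.ι := (morphismRestrict_ι π O₀).symm
  have hψoi : IsOpenImmersion ψ := by rw [hψ]; infer_instance
  let O : P.Opens := ψ.opensRange
  let σ : (O : Scheme.{u}) ⟶ Q := ψ.isoOpensRange.inv ≫ (π ⁻¹ᵁ O₀).ι ≫ T.ι
  have hσ : σ ≫ Φ = O.ι := by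
    simp only [σ, Category.assoc]
    exact Scheme.Hom.isoOpensRange_inv_comp ψ
  have hσT : ∀ o, σ o ∈ T := by
    intro o
    exact ((π ⁻¹ᵁ O₀).ι (ψ.isoOpensRange.inv o)).2
  have htO : Φ t ∈ O := ⟨⟨t', hO₀⟩, rfl⟩
  refine ⟨O, htO, σ, hσ, hσT, ?_, ?_⟩
  · intro o ho
    have h1 : Φ (σ o) = Φ t := by
      rw [← ho, ← hσ]
      rfl
    exact huniq _ (hσT o) (by rw [h1, hy])
  · intro Z a b ha hb haO hab
    have hOO₀ : ∀ z, Φ (a z) ∈ O₀ := by
      intro z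
      obtain ⟨q, hq⟩ := haO z
      rw [← hq]
      have : ψ q = O₀.ι ((π ∣_ O₀) q) := by rw [hψ]; rfl
      rw [this]
      exact ((π ∣_ O₀) q).2
    -- lift `a` and `b`
    have haT : Set.range a ⊆ Set.range T.ι := by
      rintro _ ⟨z, rfl⟩
      rw [Scheme.Opens.range_ι]
      exact ha z
    have hbT : Set.range b ⊆ Set.range T.ι := by
      rintro _ ⟨z, rfl⟩
      rw [Scheme.Opens.range_ι]
      exact hb z
    let a₁ : Z ⟶ T := IsOpenImmersion.lift T.ι a haT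
    let b₁ : Z ⟶ T := IsOpenImmersion.lift T.ι b hbT
    have ha₁ : a₁ ≫ T.ι = a := IsOpenImmersion.lift_fac _ _ _
    have hb₁ : b₁ ≫ T.ι = b := IsOpenImmersion.lift_fac _ _ _
    have hπa : ∀ z, π (a₁ z) ∈ O₀ := by
      intro z
      have : π (a₁ z) = Φ (a z) := by
        show Φ (T.ι (a₁ z)) = Φ (a z)
        rw [← Scheme.Hom.comp_apply a₁ T.ι, ha₁]
      rw [this]
      exact hOO₀ z
    have hab₁ : a₁ ≫ π = b₁ ≫ π := by
      show a₁ ≫ T.ι ≫ Φ = b₁ ≫ T.ι ≫ Φ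
      rw [← Category.assoc, ha₁, ← Category.assoc b₁, hb₁, hab]
    have hπb : ∀ z, π (b₁ z) ∈ O₀ := by
      intro z
      have : π (b₁ z) = π (a₁ z) := by
        rw [← Scheme.Hom.comp_apply, ← Scheme.Hom.comp_apply, hab₁]
      rw [this]
      exact hπa z
    have ha₂ : Set.range a₁ ⊆ Set.range (π ⁻¹ᵁ O₀).ι := by
      rintro _ ⟨z, rfl⟩
      rw [Scheme.Opens.range_ι]
      exact hπa z
    have hb₂ : Set.range b₁ ⊆ Set.range (π ⁻¹ᵁ O₀).ι := by
      rintro _ ⟨z, rfl⟩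
      rw [Scheme.Opens.range_ι]
      exact hπb z
    let a₂ := IsOpenImmersion.lift (π ⁻¹ᵁ O₀).ι a₁ ha₂
    let b₂ := IsOpenImmersion.lift (π ⁻¹ᵁ O₀).ι b₁ hb₂
    have ha₂' : a₂ ≫ (π ⁻¹ᵁ O₀).ι = a₁ := IsOpenImmersion.lift_fac _ _ _
    have hb₂' : b₂ ≫ (π ⁻¹ᵁ O₀).ι = b₁ := IsOpenImmersion.lift_fac _ _ _
    have e1 : a₂ ≫ ψ = a₁ ≫ π := by
      show a₂ ≫ (π ⁻¹ᵁ O₀).ι ≫ π = a₁ ≫ π
      rw [← Category.assoc, ha₂']
    have e2 : b₂ ≫ ψ = b₁ ≫ π := by
      show b₂ ≫ (π ⁻¹ᵁ O₀).ι ≫ π = b₁ ≫ π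
      rw [← Category.assoc, hb₂']
    have h2 : a₂ ≫ ψ = b₂ ≫ ψ := by rw [e1, e2, hab₁]
    have h3 : a₂ = b₂ := (cancel_mono ψ).1 h2
    rw [← ha₁, ← hb₁, ← ha₂', ← hb₂', h3]

end Groth.Agent.Lib.helper5.FinSplit
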