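import Mathlib
import Groth.Agent.Lib.Helper5.FinSplit1
import Groth.Agent.Lib.Helper13.WT6

/-!
# Étale-local splitting of a finite morphism relative to an étale map covering a fibre (helper5)

`exists_split_pre`: `f : X ⟶ Y` finite, `g : U ⟶ X` étale whose image contains the fibre over `y`.
There are an étale neighbourhood `(Y', e, y')` of `y`, an open `Y'' ∋ y'` and finitely many opens
`W a` of `X ×_Y Y'`, pairwise disjoint and covering over `Y''`, each with a unique point `z a` over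
`y'`, and sections `σ : W a ⟶ U ×_Y Y'` of the étale map `Φ : U ×_Y Y' ⟶ X ×_Y Y'`.
Marked points of `U` over `y` are hit by (suitable) sections.
-/

set_option autoImplicit false

namespace Groth.Agent.Lib.helper5.FinSplit

open AlgebraicGeometry CategoryTheory Limits
open Groth.Agent.Lib.helper13

universe u

lemma isPurelyInseparable_of_comp_bot {F E K : Type*} [Field F] [Field E] [Field K]
    (φ : F →+* E) (ψ : E →+* K) (h : (ψ.comp φ).IsPurelyInseparable) : φ.IsPurelyInseparable := by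
  algebraize [φ, ψ, ψ.comp φ]
  exact IsPurelyInseparable.tower_bot F E K

lemma pi_congr {P Y' : Scheme.{u}} (p : P ⟶ Y') {q q' : P} (h : q = q')
    (hq : (p.residueFieldMap q).hom.IsPurelyInseparable) :
    (p.residueFieldMap q').hom.IsPurelyInseparable := by
  subst h
  exact hq

variable {X Y U : Scheme.{u}} (f : X ⟶ Y) [IsFinite f] (g : U ⟶ X) [Etale g]

/-- The étale map `U ×_Y Y' ⟶ X ×_Y Y'`. -/
noncomputable abbrev Φ {Y' : Scheme.{u}} (e : Y' ⟶ Y) : pullback (g ≫ f) e ⟶ pullback f e :=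
  WT.mapComp g f e

instance {Y' : Scheme.{u}} (e : Y' ⟶ Y) : Etale (Φ f g e) :=
  MorphismProperty.of_isPullback (P := @Etale) (WT.isPullback_mapComp g f e) inferInstance

theorem exists_split_pre (y : Y) (hcov : ∀ x, f x = y → x ∈ Set.range g) {M : Type} [Finite M]
    (m : M → U) (hm : ∀ k, f (g (m k)) = y) :
    ∃ (Y' : Scheme.{u}) (e : Y' ⟶ Y) (y' : Y'), Etale e ∧ e y' = y ∧
      ∃ (Y'' : Y'.Opens), y' ∈ Y'' ∧
      ∃ (A : Type u) (_ : Finite A) (W : A → (pullback f e).Opens) (z : A → ↑(pullback f e)),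
        (∀ a, z a ∈ W a) ∧ (∀ a, pullback.snd f e (z a) = y') ∧
        (∀ a w, w ∈ W a → pullback.snd f e w = y' → w = z a) ∧
        (∀ a b, a ≠ b → ∀ w, w ∈ W a → w ∈ W b → pullback.snd f e w ∉ Y'') ∧
        (∀ w, pullback.snd f e w ∈ Y'' → ∃ a, w ∈ W a) ∧
        (∀ a, ((pullback.snd f e).residueFieldMap (z a)).hom.IsPurelyInseparable) ∧
        (∀ a, ∃ σ : (W a : Scheme.{u}) ⟶ pullback (g ≫ f) e, σ ≫ Φ f g e = (W a).ι) ∧
        (∀ (k : M) (w : ↑(pullback (g ≫ f) e)), pullback.fst (g ≫ f) e w = m k →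
          pullback.snd (g ≫ f) e w = y' →
          ∃ (a : A) (σ : (W a : Scheme.{u}) ⟶ pullback (g ≫ f) e) (T : (pullback (g ≫ f) e).Opens),
            σ ≫ Φ f g e = (W a).ι ∧ Φ f g e w = z a ∧ w ∈ T ∧ (∀ o, σ o ∈ T) ∧
            (∀ (Z : Scheme.{u}) (a' b' : Z ⟶ pullback (g ≫ f) e), (∀ z, a' z ∈ T) →
              (∀ z, b' z ∈ T) → (∀ z, Φ f g e (a' z) ∈ W a) → a' ≫ Φ f g e = b' ≫ Φ f g e →
              a' = b')) := by
  classical
  -- the fibre
  have hfib : (f ⁻¹' {y}).Finite := f.finite_preimage_singleton y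
  have : Finite ↥(f ⁻¹' {y}) := hfib
  let n := Nat.card ↥(f ⁻¹' {y})
  let en : ↥(f ⁻¹' {y}) ≃ Fin n := Finite.equivFin _
  have hxfib : ∀ i : Fin n, f (en.symm i).1 = y := fun i => (en.symm i).2
  choose uu huu using fun i : Fin n => hcov (en.symm i).1 (hxfib i)
  let pts : M ⊕ Fin n → U := Sum.elim m uu
  have hpts : ∀ i, (g ≫ f) (pts i) = y := by
    rintro (k | i)
    · exact hm k
    · show f (g (uu i)) = y
      rw [huu i]
      exact hxfib i
  have hlqf : LocallyQuasiFinite g := UR.locallyQuasiFinite_of_formallyUnramified g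
  have hqf : ∀ i, (g ≫ f).QuasiFiniteAt (pts i) := fun i => Scheme.Hom.quasiFiniteAt _ _
  obtain ⟨Y', e, y', he, hey, J, hJ, V, v, hgood, hPI, -, hexh⟩ :=
    EL.exists_etale_nbhd_purelyInseparable (f := g ≫ f) y pts hpts hqf
  refine ⟨Y', e, y', he, hey, ?_⟩
  let p : pullback f e ⟶ Y' := pullback.snd f e
  have hΦp : Φ f g e ≫ p = pullback.snd (g ≫ f) e := WT.mapComp_snd g f e
  have hΦp' : ∀ w, p (Φ f g e w) = pullback.snd (g ≫ f) e w := WT.mapComp_snd_apply g f e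
  -- all the good opens
  let B := Σ i, J i
  have : Finite B := inferInstance
  let T : B → (pullback (g ≫ f) e).Opens := fun b => V b.1 b.2
  let t : B → ↑(pullback (g ≫ f) e) := fun b => v b.1 b.2
  have hTgood : ∀ b : B, EL.IsGoodOpen (g ≫ f) e y' (pts b.1) (T b) (t b) := fun b => hgood b.1 b.2
  have hfinT : ∀ b : B, IsFinite ((T b).ι ≫ Φ f g e ≫ p) := by
    intro b
    rw [hΦp]
    exact (hTgood b).finite
  have hunT : ∀ (b : B) (w : ↑(pullback (g ≫ f) e)), w ∈ T b → p (Φ f g e w) = y' → w = t b := by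
    intro b w hw hwy
    rw [hΦp'] at hwy
    exact (hTgood b).uniq w hw hwy
  have hyT : ∀ b : B, p (Φ f g e (t b)) = y' := by
    intro b
    rw [hΦp']
    exact (hTgood b).snd_eq
  have hPIT : ∀ b : B, ((Φ f g e ≫ p).residueFieldMap (t b)).hom.IsPurelyInseparable := by
    intro b
    rw [hΦp]
    exact hPI b.1 b.2
  choose O hOt σ hσ hσT hσpt hσmono using fun b : B =>
    exists_local_section (Φ f g e) p (T b) (t b) (hTgood b).mem (hfinT b) y' (hunT b) (hyT b)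
      (hPIT b)
  -- closed images
  have hfinπ : ∀ b : B, IsFinite ((T b).ι ≫ Φ f g e) := by
    intro b
    have : IsFinite (((T b).ι ≫ Φ f g e) ≫ p) := by
      rw [Category.assoc]
      exact hfinT b
    exact IsFinite.of_comp ((T b).ι ≫ Φ f g e) p
  let C : B → Set ↑(pullback f e) := fun b => Set.range ((T b).ι ≫ Φ f g e)
  have hCcl : ∀ b, IsClosed (C b) := fun b => by
    have := hfinπ b
    exact ((T b).ι ≫ Φ f g e).isClosedMap.isClosed_range
  have hCy : ∀ b c, c ∈ C b → p c = y' → c = Φ f g e (t b) := by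
    rintro b _ ⟨w, rfl⟩ hw
    have : w.1 = t b := hunT b w.1 w.2 hw
    show Φ f g e w.1 = _
    rw [this]
  have hOC : ∀ b c, c ∈ O b → c ∈ C b := by
    intro b c hc
    have h1 : Φ f g e (σ b ⟨c, hc⟩) = c := by
      rw [← Scheme.Hom.comp_apply, hσ b]
      rfl
    exact ⟨⟨σ b ⟨c, hc⟩, hσT b _⟩, h1⟩
  -- the points over `y'`
  let A := {c : ↑(pullback f e) // p c = y'}
  have hAfin : Finite A := (p.finite_preimage_singleton y').to_subtype
  have hex : ∀ c : A, ∃ b : B, Φ f g e (t b) = c.1 := by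
    intro c
    have h1 : f (pullback.fst f e c.1) = y := by
      rw [← Scheme.Hom.comp_apply, pullback.condition, Scheme.Hom.comp_apply]
      show e (p c.1) = y
      rw [c.2, hey]
    let i₀ : Fin n := en ⟨pullback.fst f e c.1, h1⟩
    have h2 : g (uu i₀) = pullback.fst f e c.1 := by
      rw [huu i₀]
      simp only [i₀, Equiv.symm_apply_apply]
    obtain ⟨w, hw1, hw2⟩ := WT.exists_preimage_of_isPullback (WT.isPullback_mapComp g f e)
      (uu i₀) c.1 h2
    have hw3 : pullback.snd (g ≫ f) e w = y' := by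
      rw [← hΦp', hw2, c.2]
    obtain ⟨j, hj⟩ := hexh w (Sum.inr i₀) hw3 hw1
    refine ⟨⟨Sum.inr i₀, j⟩, ?_⟩
    show Φ f g e (v (Sum.inr i₀) j) = c.1
    rw [← hj, hw2]
  let Bz : A → Type := fun c => {b : B // Φ f g e (t b) = c.1}
  have hBzfin : ∀ c, Finite (Bz c) := fun c => Subtype.finite
  let W : A → (pullback f e).Opens := fun c => ⨅ b : Bz c, O b.1
  have hWmem : ∀ (c : A) (w : ↑(pullback f e)), w ∈ W c ↔ ∀ b : Bz c, w ∈ O b.1 := by
    intro c w
    have : (w ∈ W c) ↔ w ∈ ((⨅ b : Bz c, O b.1 : (pullback f e).Opens) : Set ↑(pullback f e)) :=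
      Iff.rfl
    rw [this, TopologicalSpace.Opens.coe_iInf]
    exact Set.mem_iInter
  have hWO : ∀ (c : A) (b : Bz c), W c ≤ O b.1 := fun c b => iInf_le _ b
  -- closed sets to remove
  let B₁ : Set Y' := ⋃ bb : {bb : B × B // Φ f g e (t bb.1) ≠ Φ f g e (t bb.2)},
    p '' (C bb.1.1 ∩ C bb.1.2)
  have hB₁cl : IsClosed B₁ := isClosed_iUnion_of_finite fun bb =>
    p.isClosedMap _ ((hCcl _).inter (hCcl _))
  have hB₁y : y' ∉ B₁ := by
    intro h
    obtain ⟨⟨⟨b, b'⟩, hbb⟩, c, ⟨hc, hc'⟩, hcy⟩ := Set.mem_iUnion.mp h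
    exact hbb ((hCy b c hc hcy).symm.trans (hCy b' c hc' hcy))
  let K : Set ↑(pullback f e) := (⋃ c : A, (W c : Set ↑(pullback f e)))ᶜ
  have hKcl : IsClosed K := (isOpen_iUnion fun c => (W c).2).isClosed_compl
  let B₂ : Set Y' := p '' K
  have hB₂cl : IsClosed B₂ := p.isClosedMap _ hKcl
  have hzW : ∀ c : A, c.1 ∈ W c := by
    intro c
    rw [hWmem]
    intro b
    have h := hOt b.1
    rw [b.2] at h
    exact h
  have hB₂y : y' ∉ B₂ := by
    rintro ⟨c, hcK, hcy⟩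
    apply hcK
    exact Set.mem_iUnion.mpr ⟨⟨c, hcy⟩, hzW ⟨c, hcy⟩⟩
  let Y'' : Y'.Opens := ⟨(B₁ ∪ B₂)ᶜ, (hB₁cl.union hB₂cl).isOpen_compl⟩
  have hy'' : y' ∈ Y'' := by
    show y' ∉ B₁ ∪ B₂
    rintro (h | h)
    · exact hB₁y h
    · exact hB₂y h
  refine ⟨Y'', hy'', A, hAfin, W, fun c => c.1, hzW, fun c => c.2, ?_, ?_, ?_, ?_, ?_, ?_⟩
  · -- unique point
    intro c w hw hwy
    obtain ⟨b, hb⟩ := hex c
    have h1 : w ∈ O b := (hWmem c w).1 hw ⟨b, hb⟩
    rw [hCy b w (hOC b w h1) hwy, hb]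
  · -- disjoint
    intro c₁ c₂ hc w hw₁ hw₂ hY
    obtain ⟨b₁, hb₁⟩ := hex c₁
    obtain ⟨b₂, hb₂⟩ := hex c₂
    apply hY
    left
    refine Set.mem_iUnion.mpr ⟨⟨⟨b₁, b₂⟩, ?_⟩, w, ⟨?_, ?_⟩, rfl⟩
    · show Φ f g e (t b₁) ≠ Φ f g e (t b₂)
      rw [hb₁, hb₂]
      exact fun h => hc (Subtype.ext h)
    · exact hOC b₁ w ((hWmem c₁ w).1 hw₁ ⟨b₁, hb₁⟩)
    · exact hOC b₂ w ((hWmem c₂ w).1 hw₂ ⟨b₂, hb₂⟩)
  · -- cover
    intro w hw
    by_contra hne
    apply hw
    right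
    refine ⟨w, ?_, rfl⟩
    intro hmem
    obtain ⟨c, hc⟩ := Set.mem_iUnion.mp hmem
    exact hne ⟨c, hc⟩
  · -- purely inseparable
    intro c
    obtain ⟨b, hb⟩ := hex c
    have k2 : ((Φ f g e ≫ p).residueFieldMap (t b)).hom =
        ((Φ f g e).residueFieldMap (t b)).hom.comp (p.residueFieldMap (Φ f g e (t b))).hom :=
      congrArg CommRingCat.Hom.hom (Scheme.residueFieldMap_comp (Φ f g e) p (t b))
    have k3 := hPIT b
    rw [k2] at k3
    have k4 := isPurelyInseparable_of_comp_bot _ _ k3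
    exact pi_congr p hb k4
  · -- sections
    intro c
    obtain ⟨b, hb⟩ := hex c
    refine ⟨Scheme.homOfLE _ (hWO c ⟨b, hb⟩) ≫ σ b, ?_⟩
    rw [Category.assoc, hσ b, Scheme.homOfLE_ι]
  · -- marked points
    intro k w hw1 hw2
    obtain ⟨j, hj⟩ := hexh w (Sum.inl k) hw2 hw1
    let b : B := ⟨Sum.inl k, j⟩
    have hwb : w = t b := hj
    have hc : p (Φ f g e w) = y' := by rw [hΦp', hw2]
    let c : A := ⟨Φ f g e w, hc⟩
    have hb : Φ f g e (t b) = c.1 := by rw [← hwb]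
    refine ⟨c, Scheme.homOfLE _ (hWO c ⟨b, hb⟩) ≫ σ b, T b, ?_, rfl, ?_, ?_, ?_⟩
    · rw [Category.assoc, hσ b, Scheme.homOfLE_ι]
    · rw [hwb]
      exact (hTgood b).mem
    · intro o
      exact hσT b _
    · intro Z a' b' ha' hb' hW hab
      exact hσmono b Z a' b' ha' hb' (fun z => hWO c ⟨b, hb⟩ (hW z)) hab

end Groth.Agent.Lib.helper5.FinSplit
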