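import Mathlib
import Groth.Agent.Lib.Helper5.FinSplit2

/-!
# Étale-local splitting of a finite morphism (helper5)

`exists_split`: `f : X ⟶ Y` finite, `g : U ⟶ X` étale whose image contains the fibre over `y`.
There are an étale neighbourhood `(Y₁, e₁, y₁)` of `y` and a finite decomposition of `X ×_Y Y₁` into
pairwise disjoint opens each of which maps to `U` over `X`.
-/

set_option autoImplicit false

namespace Groth.Agent.Lib.helper5.FinSplit

open AlgebraicGeometry CategoryTheory Limits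
open Groth.Agent.Lib.helper13

universe u

variable {X Y U : Scheme.{u}} (f : X ⟶ Y) [IsFinite f] (g : U ⟶ X) [Etale g]

theorem exists_split (y : Y) (hcov : ∀ x, f x = y → x ∈ Set.range g) :
    ∃ (Y₁ : Scheme.{u}) (e₁ : Y₁ ⟶ Y) (y₁ : Y₁), Etale e₁ ∧ e₁ y₁ = y ∧
      ∃ (A : Type u) (_ : Finite A) (W : A → (pullback f e₁).Opens),
        (∀ a b, a ≠ b → Disjoint (W a) (W b)) ∧ (⨆ a, W a) = ⊤ ∧
        ∀ a, ∃ h : (W a : Scheme.{u}) ⟶ U, h ≫ g = (W a).ι ≫ pullback.fst f e₁ := by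
  obtain ⟨Y', e, y', he, hey, Y'', hy'', A, hA, W, z, -, -, -, hdisj, hcover, -, hσ, -⟩ :=
    exists_split_pre f g y hcov (M := PEmpty) (fun k => k.elim) (fun k => k.elim)
  refine ⟨Y'', Y''.ι ≫ e, ⟨y', hy''⟩, inferInstance, ?_, A, hA,
    fun a => (UR.resMap f e Y'') ⁻¹ᵁ W a, ?_, ?_, ?_⟩
  · show e y' = y
    exact hey
  · intro a b hab
    rw [disjoint_iff, eq_bot_iff]
    rintro w ⟨hw, hw'⟩
    exfalso
    refine hdisj a b hab (UR.resMap f e Y'' w) hw hw' ?_
    rw [EL.refineMap_snd_apply]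
    exact (pullback.snd f (Y''.ι ≫ e) w).2
  · rw [eq_top_iff]
    intro w _
    have h1 : pullback.snd f e (UR.resMap f e Y'' w) ∈ Y'' := by
      rw [EL.refineMap_snd_apply]
      exact (pullback.snd f (Y''.ι ≫ e) w).2
    obtain ⟨a, ha⟩ := hcover _ h1
    exact TopologicalSpace.Opens.mem_iSup.mpr ⟨a, ha⟩
  · intro a
    obtain ⟨σ, hσa⟩ := hσ a
    refine ⟨(UR.resMap f e Y'' ∣_ W a) ≫ σ ≫ pullback.fst (g ≫ f) e, ?_⟩
    have h1 : pullback.fst (g ≫ f) e ≫ g = Φ f g e ≫ pullback.fst f e :=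
      (WT.mapComp_fst g f e).symm
    rw [Category.assoc, Category.assoc, h1, ← Category.assoc σ, hσa, ← Category.assoc,
      morphismRestrict_ι, Category.assoc, EL.refineMap_fst]

end Groth.Agent.Lib.helper5.FinSplit
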