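import Mathlib
import Groth.Prelude.Def_BigSite
import Groth.Agent.Lib.Helper5.FinSplit3

/-!
# Finite morphisms satisfy condition (B) (helper5)
-/

set_option autoImplicit false

namespace Groth.Agent.Lib.helper5.FinSplit

open AlgebraicGeometry CategoryTheory Limits
open Groth.Agent.Lib.helper13

universe u

/-- Decompose an open `W` mapping to a coproduct `∐ U` according to the components. -/
theorem refine_by_sigma {P : Scheme.{u}} {ι : Type u} (U : ι → Scheme.{u}) (W : P.Opens)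
    (h : (W : Scheme.{u}) ⟶ ∐ U) :
    ∃ (N : ι → P.Opens) (hN : ∀ i, N i ≤ W), (∀ w, w ∈ W → ∃ i, w ∈ N i) ∧
      (∀ i j, i ≠ j → Disjoint (N i) (N j)) ∧
      ∀ i, ∃ k : (N i : Scheme.{u}) ⟶ U i, k ≫ Sigma.ι U i = Scheme.homOfLE _ (hN i) ≫ h := by
  let N₀ : ι → (W : Scheme.{u}).Opens := fun i => h ⁻¹ᵁ (Sigma.ι U i).opensRange
  let N : ι → P.Opens := fun i => W.ι ''ᵁ N₀ i
  have hN : ∀ i, N i ≤ W := by
    intro i
    rintro _ ⟨w, -, rfl⟩
    exact w.2
  have hmem : ∀ i (w : ↑P), w ∈ N i ↔ ∃ hw : w ∈ W, h ⟨w, hw⟩ ∈ (Sigma.ι U i).opensRange := by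
    intro i w
    constructor
    · rintro ⟨w', hw', rfl⟩
      exact ⟨w'.2, hw'⟩
    · rintro ⟨hw, hw'⟩
      exact ⟨⟨w, hw⟩, hw', rfl⟩
  refine ⟨N, hN, ?_, ?_, ?_⟩
  · intro w hw
    obtain ⟨i, x, hx⟩ := (sigmaOpenCover U).exists_eq (h ⟨w, hw⟩)
    exact ⟨i, (hmem i w).2 ⟨hw, ⟨x, hx⟩⟩⟩
  · intro i j hij
    rw [disjoint_iff, eq_bot_iff]
    rintro w ⟨hwi, hwj⟩
    obtain ⟨hw, hi⟩ := (hmem i w).1 hwi
    obtain ⟨_, hj⟩ := (hmem j w).1 hwj
    have := disjoint_opensRange_sigmaι U i j hij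
    rw [disjoint_iff, eq_bot_iff] at this
    exact (this ⟨hi, hj⟩).elim
  · intro i
    have hr : Set.range (Scheme.homOfLE P (hN i) ≫ h) ⊆ Set.range (Sigma.ι U i) := by
      rintro _ ⟨n, rfl⟩
      obtain ⟨hw, hi⟩ := (hmem i n.1).1 n.2
      have e : (Scheme.homOfLE P (hN i)) n = ⟨n.1, hw⟩ :=
        Subtype.ext (Scheme.homOfLE_apply (hN i) n)
      show h ((Scheme.homOfLE P (hN i)) n) ∈ _
      rw [e]
      exact hi
    exact ⟨IsOpenImmersion.lift (Sigma.ι U i) _ hr, IsOpenImmersion.lift_fac _ _ _⟩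

theorem propB_of_isFinite {X Y : Scheme.{u}} (f : X ⟶ Y) [IsFinite f] : BigSite.PropB f := by
  intro V v _ ι U g hg hsurj
  let gt : (∐ U) ⟶ pullback f v := Sigma.desc g
  have hgt : Etale gt := IsZariskiLocalAtSource.sigmaDesc (P := @Etale) hg
  have hgtι : ∀ i, Sigma.ι U i ≫ gt = g i := fun i => Sigma.ι_desc _ _
  have hcov : ∀ (y : V) (x : ↑(pullback f v)), pullback.snd f v x = y → x ∈ Set.range gt := by
    intro y x _
    obtain ⟨i, u, hu⟩ := hsurj x
    refine ⟨Sigma.ι U i u, ?_⟩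
    rw [← Scheme.Hom.comp_apply, hgtι]
    exact hu
  choose Y₁ e₁ y₁ he₁ hey₁ A hA W hdisj hcover hh using fun y : V =>
    exists_split (pullback.snd f v) gt y (hcov y)
  refine ⟨V, Y₁, e₁, he₁, fun y => ⟨y, y₁ y, hey₁ y⟩, fun y => ?_⟩
  choose h hh' using hh y
  choose N hN hNcov hNdisj hk using fun a => refine_by_sigma U (W y a) (h a)
  choose k hk' using hk
  let θ := pullbackLeftPullbackSndIso f v (e₁ y)
  let mm := pullback.map f (e₁ y ≫ v) f v (𝟙 X) (e₁ y) (𝟙 Y) (by simp) (by simp)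
  have hθm : θ.hom ≫ mm = pullback.fst (pullback.snd f v) (e₁ y) := by
    apply pullback.hom_ext
    · simp only [mm, θ, Category.assoc, pullback.map]
      rw [pullback.lift_fst, Category.comp_id, pullbackLeftPullbackSndIso_hom_fst]
    · simp only [mm, θ, Category.assoc, pullback.map]
      rw [pullback.lift_snd, ← Category.assoc, pullbackLeftPullbackSndIso_hom_snd,
        pullback.condition]
  refine ⟨A y × ι, fun ai => θ.hom ''ᵁ N ai.1 ai.2, ?_, ?_, ?_⟩
  · rintro ⟨a, i⟩ ⟨a', i'⟩ hne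
    rw [disjoint_iff, eq_bot_iff]
    rintro _ ⟨⟨w, hw, rfl⟩, ⟨w', hw', hww'⟩⟩
    have : w' = w := θ.hom.homeomorph.injective hww'
    subst this
    by_cases haa : a = a'
    · subst haa
      have hii : i ≠ i' := fun hii => hne (by rw [hii])
      have := hNdisj a i i' hii
      rw [disjoint_iff, eq_bot_iff] at this
      exact (this ⟨hw, hw'⟩).elim
    · have := hdisj y a a' haa
      rw [disjoint_iff, eq_bot_iff] at this
      exact (this ⟨hN a i hw, hN a' i' hw'⟩).elim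
  · rw [eq_top_iff]
    intro w _
    have hw : θ.inv w ∈ (⨆ a, W y a : (pullback (pullback.snd f v) (e₁ y)).Opens) := by
      rw [hcover y]
      trivial
    obtain ⟨a, ha⟩ := TopologicalSpace.Opens.mem_iSup.mp hw
    obtain ⟨i, hi⟩ := hNcov a _ ha
    have hθw : θ.hom (θ.inv w) = w := by
      rw [← Scheme.Hom.comp_apply, Iso.inv_hom_id]
      rfl
    exact TopologicalSpace.Opens.mem_iSup.mpr ⟨⟨a, i⟩, θ.inv w, hi, hθw⟩
  · rintro ⟨a, i⟩
    refine ⟨i, (θ.hom.isoImage (N a i)).inv ≫ k a i, ?_⟩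
    have h1 : k a i ≫ g i = (N a i).ι ≫ pullback.fst (pullback.snd f v) (e₁ y) := by
      rw [← hgtι i, ← Category.assoc, hk' a i, Category.assoc, hh' a, ← Category.assoc,
        Scheme.homOfLE_ι]
    rw [Category.assoc, h1, ← hθm, ← Category.assoc (N a i).ι, ← Category.assoc]
    congr 1
    exact Scheme.Hom.isoImage_inv_ι _ _

end Groth.Agent.Lib.helper5.FinSplit
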