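import Groth.Agent.Lib.Helper5.PushEpi
import Groth.Agent.Lib.Helper5.PropBFinite

/-!
# Direct image along a morphism satisfying (B), in particular a finite morphism, is exact (helper5)

* `preservesHomology_push_of_propB`, `isZero_Rpush_of_propB`.
* `preservesEpimorphisms_push_of_isFinite`, `isZero_Rpush_of_isFinite`.
-/

set_option autoImplicit false

namespace Groth.Agent.Lib.helper5.FinitePush

open CategoryTheory CategoryTheory.Limits AlgebraicGeometry Opposite

universe u

section General

variable {C D : Type*} [Category C] [Category D] [Abelian C] [Abelian D]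
  [HasInjectiveResolutions C]

lemma isZero_rightDerived_succ_of_preservesHomology (F : C ⥤ D) [F.Additive]
    [F.PreservesHomology] (n : ℕ) (X : C) : IsZero ((F.rightDerived (n+1)).obj X) := by
  let I : InjectiveResolution X := injectiveResolution X
  refine IsZero.of_iso ?_ (I.isoRightDerivedObj F (n+1))
  erw [← HomologicalComplex.exactAt_iff_isZero_homology]
  have h := I.cocomplex_exactAt_succ n
  exact ShortComplex.Exact.map h F

omit [HasInjectiveResolutions C] in
lemma preservesHomology_of_rightAdjoint_of_preservesEpi {L : D ⥤ C} (F : C ⥤ D) [F.Additive]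
    (adj : L ⊣ F) [F.PreservesEpimorphisms] : F.PreservesHomology := by
  have hlim : PreservesFiniteLimits F := by
    have h : PreservesLimitsOfSize.{0, 0} F := adj.rightAdjoint_preservesLimits
    exact PreservesLimitsOfSize.preservesFiniteLimits _
  have hcolim : PreservesFiniteColimits F := by
    have h03 := (Functor.preservesFiniteColimits_tfae F).out 0 3
    have h30 := (Functor.preservesFiniteLimits_tfae F).out 3 0
    refine h03.1 ?_
    intro S hS
    refine ⟨(h30.1 hlim S hS).1, ?_⟩
    have := hS.epi_g
    infer_instance
  have h32 := (Functor.exact_tfae F).out 3 2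
  exact h32.1 ⟨hlim, hcolim⟩

end General

variable {X Y : Scheme.{u}} (f : X ⟶ Y)

theorem preservesHomology_push_of_propB (hB : BigSite.PropB f) :
    (EtCoh.push f).PreservesHomology := by
  have := PushEpi.preservesEpimorphisms_push f hB
  exact preservesHomology_of_rightAdjoint_of_preservesEpi (EtCoh.push f) (EtCoh.pullPushAdj f)

theorem isZero_Rpush_of_propB (hB : BigSite.PropB f) (F : EtCoh.Ab X) (q : ℕ) (hq : 1 ≤ q) :
    IsZero ((EtCoh.Rpush f q).obj F) := by
  have := preservesHomology_push_of_propB f hB
  obtain ⟨n, rfl⟩ : ∃ n, q = n + 1 := ⟨q - 1, by omega⟩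
  exact isZero_rightDerived_succ_of_preservesHomology _ n F

theorem preservesEpimorphisms_push_of_isFinite [IsFinite f] :
    (EtCoh.push f).PreservesEpimorphisms :=
  PushEpi.preservesEpimorphisms_push f (FinSplit.propB_of_isFinite f)

theorem preservesEpimorphisms_pushSh_of_isFinite [IsFinite f] :
    (EtDesc.pushSh f).PreservesEpimorphisms :=
  PushEpi.preservesEpimorphisms_pushSh f (FinSplit.propB_of_isFinite f)

theorem isZero_Rpush_of_isFinite [IsFinite f] (F : EtCoh.Ab X) (q : ℕ) (hq : 1 ≤ q) :
    IsZero ((EtCoh.Rpush f q).obj F) :=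
  isZero_Rpush_of_propB f (FinSplit.propB_of_isFinite f) F q hq

end Groth.Agent.Lib.helper5.FinitePush
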