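import Groth.Agent.S9885
import Groth.Agent.S10510
import Mathlib.CategoryTheory.Sites.RegularEpi

/-!
# Local surjectivity of morphisms of fppf sheaves through lifting sieves (helper5)

* `liftSieve f η`: for `f : X ⟶ Y` and `η : h_T ⟶ Y`, the sieve of `t : T' ⟶ T` such that `h_t ≫ η` lifts through `f`.
* `isLocallySurjective_iff`: `f` is locally surjective iff all lifting sieves are covering.
* `liftSieve_mem_of_factor`: lifting sieves through a locally surjective morphism of schemes.
* `liftSieve_mem_of_charts`: local surjectivity can be checked Zariski locally on a chart of the target.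
* `isIso_of_mono_of_liftSieve`: mono + all lifting sieves covering ⇒ iso.
-/

set_option autoImplicit false
universe u

open CategoryTheory CategoryTheory.Limits AlgebraicGeometry Opposite

namespace Groth.Agent.Lib.helper5.Epi

open AlgSp

variable {S : Scheme.{u}}

/-- The sieve of `t : T' ⟶ T` such that `h_t ≫ η` lifts through `f`. -/
def liftSieve {X Y : Sp S} (f : X ⟶ Y) {T : Over S} (η : (yon S).obj T ⟶ Y) : Sieve T where
  arrows T' t := ∃ x : (yon S).obj T' ⟶ X, x ≫ f = (yon S).map t ≫ η
  downward_closed := by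
    rintro T' T'' t ⟨x, hx⟩ s
    exact ⟨(yon S).map s ≫ x, by rw [Category.assoc, hx, Functor.map_comp, Category.assoc]⟩

theorem liftSieve_pullback {X Y : Sp S} (f : X ⟶ Y) {T T' : Over S} (η : (yon S).obj T ⟶ Y)
    (t : T' ⟶ T) : (liftSieve f η).pullback t = liftSieve f ((yon S).map t ≫ η) := by
  ext T'' s
  change (∃ x : (yon S).obj T'' ⟶ X, x ≫ f = (yon S).map (s ≫ t) ≫ η) ↔
    (∃ x : (yon S).obj T'' ⟶ X, x ≫ f = (yon S).map s ≫ (yon S).map t ≫ η)
  rw [Functor.map_comp, Category.assoc]

theorem imageSieve_eq_liftSieve {X Y : Sp S} (f : X ⟶ Y) {T : Over S}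
    (y : Y.obj.obj (op T)) :
    Presheaf.imageSieve f.hom y = liftSieve f ((AlgSp.J S).uliftYonedaEquiv.symm y) := by
  ext T' t
  constructor
  · rintro ⟨x, hx⟩
    refine ⟨(AlgSp.J S).uliftYonedaEquiv.symm x, ?_⟩
    apply (AlgSp.J S).uliftYonedaEquiv.injective
    rw [GrothendieckTopology.uliftYonedaEquiv_comp, Equiv.apply_symm_apply,
      ← GrothendieckTopology.uliftYonedaEquiv_naturality, Equiv.apply_symm_apply]
    exact hx
  · rintro ⟨x, hx⟩
    refine ⟨(AlgSp.J S).uliftYonedaEquiv x, ?_⟩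
    have e1 := GrothendieckTopology.uliftYonedaEquiv_comp (AlgSp.J S) x f
    rw [hx, ← GrothendieckTopology.uliftYonedaEquiv_naturality, Equiv.apply_symm_apply] at e1
    exact e1.symm

theorem isLocallySurjective_iff {X Y : Sp S} (f : X ⟶ Y) :
    Sheaf.IsLocallySurjective f ↔
      ∀ (T : Over S) (η : (yon S).obj T ⟶ Y), liftSieve f η ∈ (AlgSp.J S) T := by
  constructor
  · intro h T η
    have := h.imageSieve_mem ((AlgSp.J S).uliftYonedaEquiv η)
    rwa [imageSieve_eq_liftSieve, Equiv.symm_apply_apply] at this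
  · intro h
    refine ⟨fun {T} y => ?_⟩
    rw [imageSieve_eq_liftSieve]
    exact h T _

/-- Lifting sieves through a locally surjective morphism `h_g : h_A ⟶ h_B` of schemes with a lift `x : h_A ⟶ X`. -/
theorem liftSieve_mem_of_factor {X Y : Sp S} (f : X ⟶ Y) {A B : Over S} (g : A ⟶ B)
    (hg : Sheaf.IsLocallySurjective ((yon S).map g)) (x : (yon S).obj A ⟶ X)
    (b : (yon S).obj B ⟶ Y) (hx : x ≫ f = (yon S).map g ≫ b) (T : Over S) (w : T ⟶ B) :
    liftSieve f ((yon S).map w ≫ b) ∈ (AlgSp.J S) T := by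
  refine (AlgSp.J S).superset_covering ?_ ((isLocallySurjective_iff _).1 hg T ((yon S).map w))
  rintro T' t ⟨a, ha⟩
  refine ⟨a ≫ x, ?_⟩
  rw [Category.assoc, hx, ← Category.assoc, ha, Category.assoc]

/-- Local surjectivity can be checked Zariski locally on a chart of the target. -/
theorem liftSieve_mem_of_charts {X Y : Sp S} (f : X ⟶ Y) {V : Over S} (e : (yon S).obj V ⟶ Y)
    (he : Sheaf.IsLocallySurjective e)
    (hV : ∀ v : ↥V.left, ∃ (Vk : Over S) (jk : Vk ⟶ V), IsOpenImmersion jk.left ∧
        v ∈ Set.range jk.left ∧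
        ∀ (T : Over S) (w : T ⟶ Vk), liftSieve f ((yon S).map (w ≫ jk) ≫ e) ∈ (AlgSp.J S) T)
    (T : Over S) (η : (yon S).obj T ⟶ Y) : liftSieve f η ∈ (AlgSp.J S) T := by
  refine (AlgSp.J S).transitive ((isLocallySurjective_iff e).1 he T η) _ ?_
  rintro T' t ⟨v', hv⟩
  obtain ⟨v, rfl⟩ := (yon S).map_surjective v'
  rw [liftSieve_pullback, ← hv]
  choose Vk jk hopen hmem hlift using hV
  let Tk : ↥T'.left → Over S := fun τ => pullback v (jk (v.left τ))
  let c : ∀ τ, Tk τ ⟶ T' := fun τ => pullback.fst v (jk (v.left τ))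
  have sq1 : ∀ τ, IsPullback (c τ).left (pullback.snd v (jk (v.left τ))).left v.left
      (jk (v.left τ)).left :=
    fun τ => (IsPullback.of_hasPullback v (jk (v.left τ))).map (Over.forget S)
  have hc : ∀ τ, IsOpenImmersion (c τ).left := fun τ =>
    MorphismProperty.of_isPullback (P := @IsOpenImmersion) (sq1 τ).flip (hopen _)
  have hcov : Sieve.ofArrows Tk c ∈ (AlgSp.J S) T' := by
    refine Groth.Agent.S10510.cover_mem_family Tk c (fun τ => ?_) (fun τ => ?_) (fun τ => ?_)
    · have := hc τ; infer_instance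
    · have := hc τ; infer_instance
    · obtain ⟨x, hx⟩ := hmem (v.left τ)
      obtain ⟨z, hz1, hz2⟩ := Scheme.Pullback.exists_preimage_pullback
        (f := v.left) (g := (jk (v.left τ)).left) τ x hx.symm
      refine ⟨τ, (sq1 τ).isoPullback.inv z, ?_⟩
      rw [← Scheme.Hom.comp_apply, IsPullback.isoPullback_inv_fst]
      exact hz1
  refine (AlgSp.J S).transitive hcov _ ?_
  rintro T'' s ⟨_, u, _, ⟨τ⟩, rfl⟩
  rw [liftSieve_pullback]
  have : (yon S).map (u ≫ c τ) ≫ (yon S).map v ≫ e =
      (yon S).map ((u ≫ pullback.snd v (jk (v.left τ))) ≫ jk (v.left τ)) ≫ e := by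
    rw [← Category.assoc, ← Functor.map_comp, Category.assoc, Category.assoc]
    congr 2
    congr 1
    exact pullback.condition
  rw [this]
  exact hlift _ _ _

/-- A monomorphism of fppf sheaves all of whose lifting sieves are covering is an isomorphism. -/
theorem isIso_of_mono_of_liftSieve {X Y : Sp S} (f : X ⟶ Y) [Mono f]
    (h : ∀ (T : Over S) (η : (yon S).obj T ⟶ Y), liftSieve f η ∈ (AlgSp.J S) T) : IsIso f := by
  have : Sheaf.IsLocallySurjective f := (isLocallySurjective_iff f).2 h
  have : Epi f := inferInstance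
  exact isIso_of_mono_of_epi f

end Groth.Agent.Lib.helper5.Epi
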