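import Groth.Agent.Lib.Helper5.AlgSpInf2
import Groth.Agent.S9885

/-!
# Lifting along first order thickenings of algebraic spaces (helper5)

`existsUnique_lift_of_isFOThickMor`: a formally étale morphism of fppf sheaves lifts uniquely along every
first order thickening `T ⟶ T'` with `T'` an algebraic space; `lift_unique_of_isFOThickMor`: uniqueness
for formally unramified morphisms.
-/

set_option autoImplicit false
universe u

open CategoryTheory CategoryTheory.Limits AlgebraicGeometry Opposite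

namespace Groth.Agent.Lib.helper5

open AlgSp

variable {S : Scheme.{u}}

/-! ## Gluing maps out of a representable sheaf -/

theorem exists_glue {G : Sp S} {V : Over S} {κ : Type u} (Vk : κ → Over S) (c : ∀ k, Vk k ⟶ V)
    (h1 : ∀ k, Flat (c k).left) (h2 : ∀ k, LocallyOfFinitePresentation (c k).left)
    (h3 : ∀ x : ↥V.left, ∃ k, x ∈ Set.range (c k).left)
    (l : ∀ k, (yon S).obj (Vk k) ⟶ G)
    (hl : ∀ i j (Z : Over S) (gi : Z ⟶ Vk i) (gj : Z ⟶ Vk j), gi ≫ c i = gj ≫ c j →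
      (yon S).map gi ≫ l i = (yon S).map gj ≫ l j) :
    ∃ m : (yon S).obj V ⟶ G, ∀ k, (yon S).map (c k) ≫ m = l k := by
  have hsh : Presieve.IsSheafFor G.obj (Presieve.ofArrows Vk c) := by
    rw [Presieve.isSheafFor_iff_generate]
    exact ((isSheaf_iff_isSheaf_of_type _ _).1 G.property) _
      (Groth.Agent.S10510.cover_mem_family Vk c h1 h2 h3)
  rw [Presieve.isSheafFor_arrows_iff] at hsh
  obtain ⟨t, ht, -⟩ := hsh (fun k => (AlgSp.J S).uliftYonedaEquiv (l k)) (by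
    intro i j Z gi gj comm
    rw [GrothendieckTopology.uliftYonedaEquiv_naturality,
      GrothendieckTopology.uliftYonedaEquiv_naturality, hl i j Z gi gj comm])
  refine ⟨(AlgSp.J S).uliftYonedaEquiv.symm t, fun k => ?_⟩
  apply (AlgSp.J S).uliftYonedaEquiv.injective
  rw [← GrothendieckTopology.uliftYonedaEquiv_naturality, Equiv.apply_symm_apply, ht k]

theorem epi_of_etale_surjective {F : Sp S} {V : Over S} (q : (yon S).obj V ⟶ F)
    (hqe : RepWith @Etale q) (hqs : RepWith @Surjective q) : Epi q := by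
  have h1 : RepWith @Flat q := ⟨hqe.rep, fun _ _ g fst snd sq => by
    have : Etale snd.left := hqe.2 g fst snd sq
    exact (inferInstance : Flat snd.left)⟩
  have h2 : RepWith @LocallyOfFinitePresentation q := ⟨hqe.rep, fun _ _ g fst snd sq => by
    have : Etale snd.left := hqe.2 g fst snd sq
    exact (inferInstance : LocallyOfFinitePresentation snd.left)⟩
  have : Sheaf.IsLocallySurjective q := Groth.Agent.S9885.result S _ _ q h1 h2 hqs
  infer_instance

/-! ## Affine refinements -/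

theorem exists_affineOpen_mem_le {X : Scheme.{u}} (U : X.Opens) (x : ↥X) (hx : x ∈ U) :
    ∃ W : X.Opens, IsAffineOpen W ∧ x ∈ W ∧ W ≤ U := by
  obtain ⟨W, hW, hxW, hWU⟩ := TopologicalSpace.Opens.isBasis_iff_nbhd.mp X.isBasis_affineOpens hx
  exact ⟨W, hW, hxW, hWU⟩

/-- Every map from a scheme to an algebraic space factors, étale locally on the source by affine
schemes, through affine étale charts. -/
theorem exists_affine_refinement {T' : Sp S} (hT' : IsAlgSpace T') {Z : Over S}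
    (β : (yon S).obj Z ⟶ T') :
    ∃ (κ : Type u) (Zk : κ → Over S) (c : ∀ k, Zk k ⟶ Z) (Vk : κ → Over S)
      (βk : ∀ k, (yon S).obj (Vk k) ⟶ T') (w : ∀ k, Zk k ⟶ Vk k),
      (∀ k, IsAffine (Zk k).left) ∧ (∀ k, IsAffine (Vk k).left) ∧ (∀ k, RepWith @Etale (βk k)) ∧
      (∀ k, Flat (c k).left) ∧ (∀ k, LocallyOfFinitePresentation (c k).left) ∧
      (∀ x : ↥Z.left, ∃ k, x ∈ Set.range (c k).left) ∧
      ∀ k, (yon S).map (c k) ≫ β = (yon S).map (w k) ≫ βk k := by
  obtain ⟨V, q, hqe, hqs⟩ := hT'.atlas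
  obtain ⟨Z₁, p, r', sq⟩ := hqe.rep β
  obtain ⟨r, rfl⟩ := (yon S).map_surjective r'
  have hpe : Etale p.left := hqe.2 β _ p sq
  have hps : Surjective p.left := hqs.2 β _ p sq
  have hV : ∀ z : ↥Z₁.left, ∃ V' : V.left.Opens, IsAffineOpen V' ∧ r.left z ∈ V' := fun z => by
    obtain ⟨W, hW, hz, -⟩ := exists_affineOpen_mem_le (⊤ : V.left.Opens) (r.left z) trivial
    exact ⟨W, hW, hz⟩
  choose V' hV'a hV'z using hV
  have hZ : ∀ z : ↥Z₁.left, ∃ Z' : Z₁.left.Opens, IsAffineOpen Z' ∧ z ∈ Z' ∧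
      Z' ≤ r.left ⁻¹ᵁ (V' z) := fun z =>
    exists_affineOpen_mem_le (r.left ⁻¹ᵁ (V' z)) z (hV'z z)
  choose Z' hZ'a hZ'z hZ'le using hZ
  refine ⟨↥Z₁.left, fun z => Over.mk ((Z' z).ι ≫ Z₁.hom),
    fun z => (Over.homMk (Z' z).ι rfl : Over.mk ((Z' z).ι ≫ Z₁.hom) ⟶ Z₁) ≫ p,
    fun z => Over.mk ((V' z).ι ≫ V.hom),
    fun z => (yon S).map (Over.homMk (V' z).ι rfl : Over.mk ((V' z).ι ≫ V.hom) ⟶ V) ≫ q,
    fun z => Over.homMk (r.left.resLE (V' z) (Z' z) (hZ'le z)) ?_, ?_, ?_, ?_, ?_, ?_, ?_, ?_⟩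
  · show r.left.resLE (V' z) (Z' z) (hZ'le z) ≫ (V' z).ι ≫ V.hom = (Z' z).ι ≫ Z₁.hom
    rw [Scheme.Hom.resLE_comp_ι_assoc, Over.w]
  · intro z
    exact hZ'a z
  · intro z
    exact hV'a z
  · intro z
    refine (repWith_isMultiplicative (S := S) @Etale).comp_mem _ _ ?_ hqe
    refine (repWith_yon_map_iff _ _).2 ?_
    show Etale (V' z).ι
    infer_instance
  · intro z
    show Flat ((Z' z).ι ≫ p.left)
    infer_instance
  · intro z
    show LocallyOfFinitePresentation ((Z' z).ι ≫ p.left)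
    infer_instance
  · intro x
    obtain ⟨z, rfl⟩ := hps.surj x
    exact ⟨z, ⟨z, hZ'z z⟩, rfl⟩
  · intro z
    rw [Functor.map_comp, Category.assoc, ← sq.w, ← Category.assoc, ← Category.assoc,
      ← Functor.map_comp, ← Functor.map_comp]
    congr 2
    ext
    simp [Scheme.Hom.resLE_comp_ι]

/-- An affine scheme over an affine first order thickening carries thickening data over it. -/
theorem exists_thk_over' {W₀ Z₀ : Over S} (t₀ : W₀ ⟶ Z₀) (hZ₀ : IsAffine Z₀.left)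
    (ht₀ : MoreMor.IsFirstOrderThickening t₀.left) {Z : Over S} (hZ : IsAffine Z.left)
    (c : Z ⟶ Z₀) :
    ∃ (D' : Thk S) (e : D'.ptT' ≅ Z) (c₀ : D'.ptT ⟶ W₀), c₀ ≫ t₀ = D'.j ≫ e.hom ≫ c := by
  obtain ⟨D, e1, e2, sq⟩ := exists_thk_of_affine t₀ hZ₀ ht₀
  obtain ⟨D', e, c₀, hc⟩ := exists_thk_over D hZ (c ≫ e2.hom)
  refine ⟨D', e, c₀ ≫ e1.inv, ?_⟩
  have sq' : e1.inv ≫ t₀ = D.j ≫ e2.inv := by
    rw [Iso.inv_comp_eq, ← Category.assoc, sq, Category.assoc, Iso.hom_inv_id, Category.comp_id]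
  rw [Category.assoc, sq', ← Category.assoc, hc]
  simp

/-! ## Lifts over a test scheme -/

section Lift

variable {X Y T T' : Sp S} (f : X ⟶ Y) (j : T ⟶ T') (a : T ⟶ X) (b : T' ⟶ Y)

/-- `m` is a lift of the lifting problem `(a, b)` pulled back along `β : h_Z ⟶ T'`. -/
def IsLiftOver {Z : Over S} (β : (yon S).obj Z ⟶ T') (m : (yon S).obj Z ⟶ X) : Prop :=
  (∀ ⦃P : Sp S⦄ (fst : P ⟶ T) (snd : P ⟶ (yon S).obj Z), fst ≫ j = snd ≫ β →
    snd ≫ m = fst ≫ a) ∧ m ≫ f = β ≫ b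

variable {f j a b}

theorem IsLiftOver.precomp {Z Z' : Over S} {β : (yon S).obj Z ⟶ T'} {m : (yon S).obj Z ⟶ X}
    (h : IsLiftOver f j a b β m) (g : Z' ⟶ Z) :
    IsLiftOver f j a b ((yon S).map g ≫ β) ((yon S).map g ≫ m) := by
  refine ⟨fun P fst snd comm => ?_, by rw [Category.assoc, h.2, Category.assoc]⟩
  rw [← Category.assoc]
  exact h.1 fst (snd ≫ (yon S).map g) (by rw [comm, Category.assoc])

theorem IsLiftOver.of_cover {Z : Over S} {β : (yon S).obj Z ⟶ T'} {m : (yon S).obj Z ⟶ X}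
    (R : Sieve Z) (hR : R ∈ (AlgSp.J S) Z)
    (H : ∀ ⦃Z' : Over S⦄ (g : Z' ⟶ Z), R g →
      IsLiftOver f j a b ((yon S).map g ≫ β) ((yon S).map g ≫ m)) :
    IsLiftOver f j a b β m := by
  refine ⟨fun P fst snd comm => ?_, ?_⟩
  · apply hom_ext_yon
    intro U s
    obtain ⟨u, hu⟩ := (yon S).map_surjective (s ≫ snd)
    refine yon_hom_ext_of_cover _ _ (R.pullback u) ((AlgSp.J S).pullback_stable u hR) ?_
    intro U'' v hv
    have key := (H (v ≫ u) hv).1 ((yon S).map v ≫ s ≫ fst) (𝟙 _) (by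
      rw [Category.id_comp, Category.assoc, Category.assoc, comm, ← Category.assoc s, ← hu,
        ← Category.assoc, ← Functor.map_comp])
    rw [Category.id_comp] at key
    rw [← Category.assoc s, ← hu, ← Category.assoc, ← Functor.map_comp, key]
    simp only [Category.assoc]
  · refine yon_hom_ext_of_cover _ _ R hR fun Z' g hg => ?_
    rw [← Category.assoc, (H g hg).2, Category.assoc]

theorem isLiftOver_of_lift (l : T' ⟶ X) {Z : Over S} (β : (yon S).obj Z ⟶ T') :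
    IsLiftOver f j (j ≫ l) (l ≫ f) β (β ≫ l) := by
  refine ⟨fun P fst snd comm => ?_, by rw [Category.assoc]⟩
  rw [← Category.assoc, ← comm, Category.assoc]

theorem existsUnique_isLiftOver_of_affine (hf : IsFormallyEtaleMor f) (hj : IsFOThickMor j)
    (w : a ≫ f = j ≫ b) {Z : Over S} (hZ : IsAffine Z.left) (β : (yon S).obj Z ⟶ T')
    (hβ : RepWith @Etale β) : ∃! m, IsLiftOver f j a b β m := by
  obtain ⟨W, t, fst, sq⟩ := hj.1.rep β
  have ht : MoreMor.IsFirstOrderThickening t.left :=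
    ⟨hj.1.2 β fst t sq, hj.2 β fst t hZ hβ sq⟩
  obtain ⟨hs, hu⟩ := (isFormallyEtaleMor_iff f).1 hf
  obtain ⟨m, hm1, hm2⟩ := liftExists_of_affine hs t hZ ht (fst ≫ a) (β ≫ b) (by
    rw [Category.assoc, w, ← Category.assoc, sq.w, Category.assoc])
  refine ⟨m, ⟨fun P fst' snd' comm => ?_, hm2⟩, fun m' hm' => ?_⟩
  · obtain ⟨σ, hσ1, hσ2⟩ := sq.exists_lift fst' snd' comm
    rw [← hσ2, Category.assoc, hm1, ← Category.assoc, hσ1]
  · refine liftUniq_of_affine hu t hZ ht m' m ?_ ?_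
    · rw [hm1]
      exact hm'.1 fst _ sq.w
    · rw [hm2, hm'.2]

theorem IsLiftOver.unique_of_affine (hf : IsFormallyUnramifiedMor f) (hj : IsFOThickMor j)
    {Z₀ : Over S} (hZ₀ : IsAffine Z₀.left) (β₀ : (yon S).obj Z₀ ⟶ T') (hβ₀ : RepWith @Etale β₀)
    {Z : Over S} (hZ : IsAffine Z.left) (c : Z ⟶ Z₀) {m m' : (yon S).obj Z ⟶ X}
    (hm : IsLiftOver f j a b ((yon S).map c ≫ β₀) m)
    (hm' : IsLiftOver f j a b ((yon S).map c ≫ β₀) m') : m = m' := by
  obtain ⟨W₀, t₀, fst₀, sq₀⟩ := hj.1.rep β₀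
  have ht₀ : MoreMor.IsFirstOrderThickening t₀.left :=
    ⟨hj.1.2 β₀ fst₀ t₀ sq₀, hj.2 β₀ fst₀ t₀ hZ₀ hβ₀ sq₀⟩
  obtain ⟨D', e, c₀, hc⟩ := exists_thk_over' t₀ hZ₀ ht₀ hZ c
  have comm : ((yon S).map c₀ ≫ fst₀) ≫ j =
      (yon S).map (D'.j ≫ e.hom) ≫ (yon S).map c ≫ β₀ := by
    rw [Category.assoc, sq₀.w, ← Category.assoc, ← Functor.map_comp, hc, ← Category.assoc D'.j,
      Functor.map_comp, Category.assoc]
  have k1 := hm.1 _ _ comm
  have k2 := hm'.1 _ _ comm
  have key := (isFormallyUnramifiedMor_iff f).1 hf D' ((yon S).map e.hom ≫ m)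
    ((yon S).map e.hom ≫ m') (by
      rw [← Category.assoc, ← Functor.map_comp, k1, ← Category.assoc, ← Functor.map_comp, k2])
    (by rw [Category.assoc, Category.assoc, hm.2, hm'.2])
  have : IsIso ((yon S).map e.hom) := inferInstance
  exact (cancel_epi ((yon S).map e.hom)).1 key

theorem IsLiftOver.unique (hf : IsFormallyUnramifiedMor f) (hj : IsFOThickMor j)
    (hT' : IsAlgSpace T') {Z : Over S} {β : (yon S).obj Z ⟶ T'} {m m' : (yon S).obj Z ⟶ X}
    (hm : IsLiftOver f j a b β m) (hm' : IsLiftOver f j a b β m') : m = m' := by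
  obtain ⟨κ, Zk, c, Vk, βk, w, hZk, hVk, hβk, hc1, hc2, hc3, hcw⟩ :=
    exists_affine_refinement hT' β
  refine yon_hom_ext_of_family m m' Zk c hc1 hc2 hc3 fun k => ?_
  have h1 := hm.precomp (c k)
  have h2 := hm'.precomp (c k)
  rw [hcw k] at h1 h2
  exact IsLiftOver.unique_of_affine hf hj (hVk k) (βk k) (hβk k) (hZk k) (w k) h1 h2

theorem exists_isLiftOver (hf : IsFormallyEtaleMor f) (hj : IsFOThickMor j)
    (hT' : IsAlgSpace T') (w : a ≫ f = j ≫ b) {Z : Over S} (β : (yon S).obj Z ⟶ T') :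
    ∃ m, IsLiftOver f j a b β m := by
  obtain ⟨κ, Zk, c, Vk, βk, wk, hZk, hVk, hβk, hc1, hc2, hc3, hcw⟩ :=
    exists_affine_refinement hT' β
  have hu := ((isFormallyEtaleMor_iff f).1 hf).2
  choose l hl _ using fun k => existsUnique_isLiftOver_of_affine hf hj w (hVk k) (βk k) (hβk k)
  have hlk : ∀ k, IsLiftOver f j a b ((yon S).map (c k) ≫ β) ((yon S).map (wk k) ≫ l k) :=
    fun k => by
      rw [hcw k]
      exact (hl k).precomp (wk k)
  obtain ⟨m, hm⟩ := exists_glue Zk c hc1 hc2 hc3 (fun k => (yon S).map (wk k) ≫ l k) (by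
    intro i i' Z' gi gi' comm
    refine IsLiftOver.unique (a := a) (b := b) hu hj hT' (β := (yon S).map (gi ≫ c i) ≫ β) ?_ ?_
    · have := (hlk i).precomp gi
      rwa [← Category.assoc, ← Functor.map_comp] at this
    · have := (hlk i').precomp gi'
      rwa [← Category.assoc, ← Functor.map_comp, ← comm] at this)
  refine ⟨m, IsLiftOver.of_cover (Sieve.ofArrows Zk c)
    (Groth.Agent.S10510.cover_mem_family Zk c hc1 hc2 hc3) ?_⟩
  rintro Z' g ⟨_, g', _, ⟨k⟩, rfl⟩
  rw [Functor.map_comp, Category.assoc, Category.assoc, hm k]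
  exact (hlk k).precomp g'

/-- Uniqueness of lifts along first order thickenings of algebraic spaces for formally unramified
morphisms. -/
theorem lift_unique_of_isFOThickMor (hf : IsFormallyUnramifiedMor f) (hj : IsFOThickMor j)
    (hT' : IsAlgSpace T') {l l' : T' ⟶ X} (h1 : j ≫ l = j ≫ l') (h2 : l ≫ f = l' ≫ f) :
    l = l' := by
  apply hom_ext_yon
  intro Z β
  have k1 : IsLiftOver f j (j ≫ l) (l ≫ f) β (β ≫ l) := isLiftOver_of_lift l β
  have k2 : IsLiftOver f j (j ≫ l') (l' ≫ f) β (β ≫ l') := isLiftOver_of_lift l' β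
  rw [← h1, ← h2] at k2
  exact IsLiftOver.unique hf hj hT' k1 k2

/-- Existence of lifts along first order thickenings of algebraic spaces for formally étale
morphisms. -/
theorem exists_lift_of_isFOThickMor (hf : IsFormallyEtaleMor f) (hj : IsFOThickMor j)
    (hT' : IsAlgSpace T') (w : a ≫ f = j ≫ b) : ∃ l : T' ⟶ X, j ≫ l = a ∧ l ≫ f = b := by
  have hu := ((isFormallyEtaleMor_iff f).1 hf).2
  choose m hm using fun (Z : Over S) (β : (yon S).obj Z ⟶ T') =>
    exists_isLiftOver hf hj hT' w β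
  have hnat : ∀ {Z Z' : Over S} (g : Z' ⟶ Z) (β : (yon S).obj Z ⟶ T'),
      m Z' ((yon S).map g ≫ β) = (yon S).map g ≫ m Z β :=
    fun g β => IsLiftOver.unique hu hj hT' (hm _ _) ((hm _ β).precomp g)
  let η : T'.obj ⟶ X.obj :=
    { app := fun U => TypeCat.ofHom fun s =>
        (AlgSp.J S).uliftYonedaEquiv (m U.unop ((AlgSp.J S).uliftYonedaEquiv.symm s))
      naturality := by
        intro U U' g
        ext s
        show (AlgSp.J S).uliftYonedaEquiv (m U'.unop ((AlgSp.J S).uliftYonedaEquiv.symm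
            (T'.obj.map g s))) =
          X.obj.map g ((AlgSp.J S).uliftYonedaEquiv (m U.unop
            ((AlgSp.J S).uliftYonedaEquiv.symm s)))
        have e : (AlgSp.J S).uliftYonedaEquiv.symm (T'.obj.map g s) =
            (yon S).map g.unop ≫ (AlgSp.J S).uliftYonedaEquiv.symm s :=
          (GrothendieckTopology.uliftYonedaEquiv_symm_naturality_left (J := AlgSp.J S) g.unop T'
            s).symm
        rw [GrothendieckTopology.uliftYonedaEquiv_naturality', e, hnat] }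
  let l : T' ⟶ X := (fullyFaithfulSheafToPresheaf _ _).preimage η
  have hl : ∀ {Z : Over S} (β : (yon S).obj Z ⟶ T'), β ≫ l = m Z β := by
    intro Z β
    apply (AlgSp.J S).uliftYonedaEquiv.injective
    rw [GrothendieckTopology.uliftYonedaEquiv_comp]
    have : l.hom = η := (fullyFaithfulSheafToPresheaf _ _).map_preimage η
    rw [this]
    show (AlgSp.J S).uliftYonedaEquiv (m Z ((AlgSp.J S).uliftYonedaEquiv.symm
      ((AlgSp.J S).uliftYonedaEquiv β))) = _
    rw [Equiv.symm_apply_apply]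
  refine ⟨l, ?_, ?_⟩
  · apply hom_ext_yon
    intro Z s
    rw [← Category.assoc, hl]
    have := (hm Z (s ≫ j)).1 s (𝟙 _) (by rw [Category.id_comp])
    rwa [Category.id_comp] at this
  · apply hom_ext_yon
    intro Z s
    rw [← Category.assoc, hl, (hm Z s).2]

theorem existsUnique_lift_of_isFOThickMor (hf : IsFormallyEtaleMor f) (hj : IsFOThickMor j)
    (hT' : IsAlgSpace T') (w : a ≫ f = j ≫ b) : ∃! l : T' ⟶ X, j ≫ l = a ∧ l ≫ f = b := by
  obtain ⟨l, hl1, hl2⟩ := exists_lift_of_isFOThickMor hf hj hT' w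
  refine ⟨l, ⟨hl1, hl2⟩, fun l' hl' => ?_⟩
  exact lift_unique_of_isFOThickMor ((isFormallyEtaleMor_iff f).1 hf).2 hj hT'
    (hl'.1.trans hl1.symm) (hl'.2.trans hl2.symm)

end Lift

end Groth.Agent.Lib.helper5
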