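import Mathlib

/-!
# Quasi-finite flat refinements of fppf ring maps, part 1 (helper5)

* `krullDimLE_zero_of_finite_maximalSpectrum`, `exists_nonZeroDivisor_not_isUnit` : a Noetherian
  Jacobson ring of positive dimension has a non-unit nonzerodivisor.
* `ringKrullDim_le_of_isLocalization`, `exists_nat_ringKrullDim_le` (finite type over a field).
* `flat_pi`, `quasiFinite_pi` : finite products of flat / quasi-finite algebras.
* `nontrivial_fiber_of_comap_eq`, `exists_prime_of_nontrivial_fiber` : the fibre ring `κ(p) ⊗ T` is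
  nontrivial iff some prime of `T` lies over `p`.
* `base_case` : a zero-dimensional fibre gives a quasi-finite principal localization meeting it.
-/

set_option autoImplicit false
universe u
open TensorProduct nonZeroDivisors

namespace Groth.Agent.Lib.helper5.QFRefine


/-- A Jacobson ring with finitely many maximal ideals is zero-dimensional. -/
theorem krullDimLE_zero_of_finite_maximalSpectrum (A : Type*) [CommRing A] [IsJacobsonRing A]
    [Finite (MaximalSpectrum A)] : Ring.KrullDimLE 0 A := by
  classical
  rw [Ring.krullDimLE_zero_iff]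
  intro P hP
  have hJ : P.jacobson = P := IsJacobsonRing.out inferInstance hP.isRadical
  set S : Set (Ideal A) := {J | P ≤ J ∧ J.IsMaximal} with hS
  have hfin : S.Finite := by
    have h1 : S ⊆ Set.range (fun m : MaximalSpectrum A => m.asIdeal) := by
      rintro J ⟨-, hJ⟩
      exact ⟨⟨J, hJ⟩, rfl⟩
    exact (Set.finite_range _).subset h1
  have hinf : hfin.toFinset.inf id ≤ P := by
    rw [Finset.inf_id_eq_sInf, Set.Finite.coe_toFinset]
    exact hJ.le
  obtain ⟨J, hJS, hJP⟩ := (Ideal.IsPrime.inf_le' hP).mp hinf
  rw [Set.Finite.mem_toFinset] at hJS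
  have : J = P := hJS.2.eq_of_le hP.ne_top hJP
  exact this ▸ hJS.2

/-- In a Noetherian Jacobson ring of positive dimension there is a non-unit nonzerodivisor. -/
theorem exists_nonZeroDivisor_not_isUnit (A : Type*) [CommRing A] [IsNoetherianRing A]
    [IsJacobsonRing A] (h : ¬ Ring.KrullDimLE 0 A) : ∃ f : A, f ∈ A⁰ ∧ ¬ IsUnit f := by
  by_contra hcon
  push Not at hcon
  haveI : IsFractionRing A A := IsFractionRing.self_iff_nonZeroDivisors_le_isUnit.mpr hcon
  exact h (krullDimLE_zero_of_finite_maximalSpectrum A)

theorem ringKrullDim_le_of_isLocalization {R : Type*} [CommRing R] (M : Submonoid R)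
    (S : Type*) [CommRing S] [Algebra R S] [IsLocalization M S] :
    ringKrullDim S ≤ ringKrullDim R := by
  rw [ringKrullDim_le_iff_height_le]
  intro 𝔓 h𝔓
  rw [← IsLocalization.height_under M]
  exact Ideal.height_le_ringKrullDim_of_ne_top (Ideal.comap_ne_top _ h𝔓.ne_top)

/-- A finite type algebra over a field has finite Krull dimension. -/
theorem exists_nat_ringKrullDim_le (K A : Type*) [Field K] [CommRing A] [Algebra K A]
    [Algebra.FiniteType K A] : ∃ n : ℕ, ringKrullDim A ≤ n := by
  obtain ⟨n, f, hf⟩ := Algebra.FiniteType.iff_quotient_mvPolynomial''.mp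
    (inferInstance : Algebra.FiniteType K A)
  refine ⟨n, ?_⟩
  have h1 := ringKrullDim_le_of_surjective f.toRingHom hf
  rw [MvPolynomial.ringKrullDim_of_isNoetherianRing, ringKrullDim_eq_zero_of_field] at h1
  simpa using h1

section Pi

variable {R : Type*} [CommRing R] {ι : Type*} [Finite ι] (S : ι → Type*) [∀ i, CommRing (S i)]
  [∀ i, Algebra R (S i)]

theorem flat_pi [∀ i, Module.Flat R (S i)] : Module.Flat R (Π i, S i) := by
  classical
  haveI := Fintype.ofFinite ι
  exact Module.Flat.of_linearEquiv (DFinsupp.linearEquivFunOnFintype (R := R) (M := S)).symm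

theorem quasiFinite_pi [∀ i, Algebra.QuasiFinite R (S i)] : Algebra.QuasiFinite R (Π i, S i) := by
  classical
  haveI := Fintype.ofFinite ι
  refine ⟨fun P _ => ?_⟩
  exact Module.Finite.equiv (TensorProduct.piRight R P.ResidueField P.ResidueField S).symm

end Pi



section Fibre

variable {R : Type u} [CommRing R] (p : Ideal R) [p.IsPrime] (T : Type u) [CommRing T] [Algebra R T]

/-- a prime over `p` gives a nontrivial fibre ring. -/
theorem nontrivial_fiber_of_comap_eq (q : Ideal T) [q.IsPrime]
    (hq : q.comap (algebraMap R T) = p) : Nontrivial (p.Fiber T) := by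
  have : Nonempty (PrimeSpectrum (p.Fiber T)) :=
    ⟨PrimeSpectrum.preimageEquivFiber R T ⟨p, inferInstance⟩
      ⟨⟨q, inferInstance⟩, PrimeSpectrum.ext hq⟩⟩
  exact (PrimeSpectrum.nonempty_iff_nontrivial).mp this

theorem comap_includeRight_comap (Q : Ideal (p.Fiber T)) [Q.IsPrime] :
    (Q.comap (Algebra.TensorProduct.includeRight : T →ₐ[R] p.Fiber T).toRingHom).comap
      (algebraMap R T) = p := by
  rw [Ideal.comap_comap]
  have : (Algebra.TensorProduct.includeRight : T →ₐ[R] p.Fiber T).toRingHom.comp
      (algebraMap R T) = algebraMap R (p.Fiber T) := by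
    ext x; simp
  rw [this]
  exact (Q.over_def p).symm

theorem exists_prime_of_nontrivial_fiber [Nontrivial (p.Fiber T)] :
    ∃ q : Ideal T, q.IsPrime ∧ q.comap (algebraMap R T) = p := by
  obtain ⟨Q, hQ⟩ := Ideal.exists_maximal (p.Fiber T)
  haveI := hQ.isPrime
  exact ⟨Q.comap (Algebra.TensorProduct.includeRight : T →ₐ[R] p.Fiber T).toRingHom,
    inferInstance, comap_includeRight_comap p T Q⟩

/-- **Base case**: if the fibre over `p` is zero-dimensional, some principal localization is
quasi-finite and still meets the fibre. -/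
theorem base_case [Algebra.FiniteType R T] [Nontrivial (p.Fiber T)]
    (h0 : Ring.KrullDimLE 0 (p.Fiber T)) :
    ∃ r : T, Algebra.QuasiFinite R (Localization.Away r) ∧
      Nontrivial (p.Fiber (Localization.Away r)) := by
  haveI : Algebra.FiniteType p.ResidueField (p.Fiber T) := inferInstance
  haveI : IsNoetherianRing (p.Fiber T) := Algebra.FiniteType.isNoetherianRing p.ResidueField _
  haveI : Module.Finite p.ResidueField (p.Fiber T) := (Module.finite_iff_krullDimLE_zero _ _).mpr h0
  obtain ⟨Q, hQ⟩ := Ideal.exists_maximal (p.Fiber T)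
  haveI := hQ.isPrime
  set q : Ideal T := Q.comap (Algebra.TensorProduct.includeRight : T →ₐ[R] p.Fiber T).toRingHom
    with hq
  haveI : q.IsPrime := Ideal.comap_isPrime _ _
  have hqp : q.comap (algebraMap R T) = p := comap_includeRight_comap p T Q
  haveI : q.LiesOver p := ⟨hqp.symm⟩
  haveI : Algebra.QuasiFiniteAt p.ResidueField Q := inferInstance
  haveI : Algebra.QuasiFiniteAt R q :=
    Algebra.QuasiFiniteAt.of_quasiFiniteAt_residueField p q Q rfl
  obtain ⟨S', hS', r, hrp, H⟩ :=
    Algebra.QuasiFiniteAt.exists_fg_and_exists_notMem_and_awayMap_bijective (R := R) q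
  haveI : Module.Finite R S' := ⟨(Submodule.fg_top _).mpr hS'⟩
  haveI : Algebra.QuasiFinite R (Localization.Away r) := .trans _ S' _
  have hqf : Algebra.QuasiFinite R (Localization.Away r.1) :=
    .of_surjective_algHom (Localization.awayMapₐ S'.val r) H.2
  refine ⟨r.1, hqf, ?_⟩
  -- the prime `q` survives in the localization
  have hdisj : Disjoint (Submonoid.powers r.1 : Set T) (q : Set T) := by
    rw [Set.disjoint_left]
    rintro x ⟨n, rfl⟩ hx
    exact hrp (Ideal.IsPrime.mem_of_pow_mem inferInstance n hx)
  haveI : (Ideal.map (algebraMap T (Localization.Away r.1)) q).IsPrime :=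
    IsLocalization.isPrime_of_isPrime_disjoint (Submonoid.powers r.1) _ q inferInstance hdisj
  apply nontrivial_fiber_of_comap_eq p (Localization.Away r.1)
    (Ideal.map (algebraMap T (Localization.Away r.1)) q)
  rw [IsScalarTower.algebraMap_eq R T (Localization.Away r.1), ← Ideal.comap_comap]
  have := IsLocalization.under_map_of_isPrime_disjoint (Submonoid.powers r.1)
    (Localization.Away r.1) (I := q) inferInstance hdisj
  rw [Ideal.under] at this
  rw [this]
  exact hqp

end Fibre

end Groth.Agent.Lib.helper5.QFRefine
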