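import Mathlib
import Groth.Agent.Lib.Helper5.QFRefine1
import Groth.Agent.LibFibReg5_29

/-!
# Quasi-finite flat refinements of fppf ring maps, part 2: the inductive step (helper5)

`step` : `T` flat of finite presentation over `R`, the fibre `κ(p) ⊗ T` of positive dimension.  Then
for suitable `g, s ∈ T` the algebra `T_g/(s)` is flat, of finite presentation, its fibre over `p` is
nontrivial and of smaller dimension (uses helper29's fibrewise regular sequences
`LibFibReg29.exists_away_regFlat`).
-/

set_option autoImplicit false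
universe u
open TensorProduct nonZeroDivisors RingTheory.Sequence Groth.Agent.LibFibReg29

namespace Groth.Agent.Lib.helper5.QFRefine


section Step

variable {R : Type u} [CommRing R] (p : Ideal R) [p.IsPrime] (T : Type u) [CommRing T] [Algebra R T]

/-- **Inductive step**: if the fibre over `p` of the flat finitely presented `R`-algebra `T` has
positive dimension, some `T_g/(s)` is flat, finitely presented, still meets the fibre, and its fibre
has smaller dimension. -/
theorem step [Module.Flat R T] [Algebra.FinitePresentation R T] [Nontrivial (p.Fiber T)]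
    (h0 : ¬ Ring.KrullDimLE 0 (p.Fiber T)) :
    ∃ (S₁ : Type u) (_ : CommRing S₁) (_ : Algebra R S₁), Module.Flat R S₁ ∧
      Algebra.FinitePresentation R S₁ ∧ Nontrivial (p.Fiber S₁) ∧
      ringKrullDim (p.Fiber S₁) + 1 ≤ ringKrullDim (p.Fiber T) ∧ Nonempty (T →ₐ[R] S₁) := by
  haveI : Algebra.FiniteType p.ResidueField (p.Fiber T) := inferInstance
  haveI : IsNoetherianRing (p.Fiber T) := Algebra.FiniteType.isNoetherianRing p.ResidueField _
  haveI : IsJacobsonRing (p.Fiber T) := isJacobsonRing_of_finiteType (A := p.ResidueField)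
  obtain ⟨f, hf, hfu⟩ := exists_nonZeroDivisor_not_isUnit (p.Fiber T) h0
  obtain ⟨r, hr, s, hs⟩ := Ideal.Fiber.exists_smul_eq_one_tmul p f
  set a : p.Fiber T := (1 : p.ResidueField) ⊗ₜ[R] s with ha
  have hunit : IsUnit (algebraMap R (p.Fiber T) r) := by
    rw [IsScalarTower.algebraMap_apply R p.ResidueField (p.Fiber T)]
    apply IsUnit.map
    rw [isUnit_iff_ne_zero, Ne, Ideal.algebraMap_residueField_eq_zero]
    exact hr
  have ha_eq : a = algebraMap R (p.Fiber T) r * f := by rw [← Algebra.smul_def, hs]
  have ha0 : a ∈ (p.Fiber T)⁰ := by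
    rw [ha_eq]; exact mul_mem hunit.mem_nonZeroDivisors hf
  have hau : ¬ IsUnit a := by
    rw [ha_eq]; intro h; exact hfu (IsUnit.mul_iff.mp h).2
  obtain ⟨Q, hQ, haQ⟩ := exists_max_ideal_of_mem_nonunits (mem_nonunits_iff.mpr hau)
  haveI := hQ.isPrime
  have hreg : IsWeaklyRegular (Localization.AtPrime Q) ([s].map (fibMap p Q)) := by
    simp only [List.map_cons, List.map_nil]
    rw [isWeaklyRegular_cons_iff]
    refine ⟨?_, IsWeaklyRegular.nil _ _⟩
    rw [fibMap_apply]
    exact IsSMulRegular.of_isLocalization (Localization.AtPrime Q) Q.primeCompl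
      (isRegular_iff_mem_nonZeroDivisors.mpr ha0).left.isSMulRegular
  obtain ⟨g, hg, H⟩ := exists_away_regFlat p Q [s] hreg
  have HB := H (Localization.Away g)
  set B := Localization.Away g with hB
  set s' : B := algebraMap T B s with hs'
  set I : Ideal B := Ideal.span {s'} with hI
  have hflat : Module.Flat R (B ⧸ I) := by
    have := HB.2 1
    have h1 : Ideal.ofList (List.take 1 (List.map (algebraMap T (Localization.Away g)) [s])) = I := by
      simp only [List.map_cons, List.map_nil, List.take_succ_cons, List.take_zero]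
      exact Ideal.ofList_singleton _
    rw [h1] at this
    exact this
  haveI : Algebra.FinitePresentation T B := IsLocalization.Away.finitePresentation g
  haveI : Algebra.FinitePresentation R B := Algebra.FinitePresentation.trans R T B
  have hfp : Algebra.FinitePresentation R (B ⧸ I) :=
    Algebra.FinitePresentation.quotient (Submodule.fg_span_singleton s')
  -- the fibre
  set Ag := Localization.Away ((1 : p.ResidueField) ⊗ₜ[R] g : p.Fiber T) with hAg
  set ag : Ag := algebraMap (p.Fiber T) Ag a with hag
  have hag0 : ag ∈ Ag⁰ :=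
    IsLocalization.nonZeroDivisors_le_comap
      (Submonoid.powers ((1 : p.ResidueField) ⊗ₜ[R] g : p.Fiber T)) Ag ha0
  have hdim1 : ringKrullDim Ag ≤ ringKrullDim (p.Fiber T) :=
    ringKrullDim_le_of_isLocalization
      (Submonoid.powers ((1 : p.ResidueField) ⊗ₜ[R] g : p.Fiber T)) Ag
  have hgQ : ((1 : p.ResidueField) ⊗ₜ[R] g : p.Fiber T) ∉ Q := hg
  have hdisj : Disjoint (Submonoid.powers ((1 : p.ResidueField) ⊗ₜ[R] g : p.Fiber T) : Set _)
      (Q : Set (p.Fiber T)) := by
    rw [Set.disjoint_left]
    rintro x ⟨n, rfl⟩ hx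
    exact hgQ (Ideal.IsPrime.mem_of_pow_mem inferInstance n hx)
  have hprime : (Ideal.map (algebraMap (p.Fiber T) Ag) Q).IsPrime :=
    IsLocalization.isPrime_of_isPrime_disjoint
      (Submonoid.powers ((1 : p.ResidueField) ⊗ₜ[R] g : p.Fiber T)) _ Q inferInstance hdisj
  have hne : Ideal.span {ag} ≠ ⊤ := by
    intro htop
    apply hprime.ne_top
    rw [eq_top_iff, ← htop, Ideal.span_le, Set.singleton_subset_iff]
    exact Ideal.mem_map_of_mem _ haQ
  -- the isomorphisms
  let e₁ := Algebra.TensorProduct.tensorQuotientEquiv (R := R) p.ResidueField B p.ResidueField I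
  let e₂ := IsLocalization.Away.tensorProductEquivTMulRight R p.ResidueField g B
  have he₂ : e₂ ((1 : p.ResidueField) ⊗ₜ[R] s') = ag :=
    IsLocalization.Away.tensorProductEquivTMulRight_tmul (R := R) (S := p.ResidueField) T g B 1 s
  have hIJ : Ideal.span {ag} =
      (I.map (Algebra.TensorProduct.includeRight (R := R) (A := p.ResidueField) (B := B))).map
        (e₂.toRingEquiv : p.ResidueField ⊗[R] B →+* Ag) := by
    rw [hI, Ideal.map_span, Ideal.map_span, Set.image_singleton, Set.image_singleton]
    congr 2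
    exact he₂.symm
  let e₃ := Ideal.quotientEquiv _ _ e₂.toRingEquiv hIJ
  let e : p.Fiber (B ⧸ I) ≃+* Ag ⧸ Ideal.span {ag} := e₁.toRingEquiv.trans e₃
  refine ⟨B ⧸ I, inferInstance, inferInstance, hflat, hfp, ?_, ?_, ?_⟩
  · haveI : Nontrivial (Ag ⧸ Ideal.span {ag}) := Ideal.Quotient.nontrivial_iff.mpr hne
    exact e.toEquiv.nontrivial
  · rw [ringKrullDim_eq_of_ringEquiv e]
    exact (ringKrullDim_quotient_succ_le_of_nonZeroDivisor hag0).trans hdim1
  · exact ⟨(Ideal.Quotient.mkₐ R I).comp (IsScalarTower.toAlgHom R T B)⟩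

end Step

end Groth.Agent.Lib.helper5.QFRefine
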