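import Mathlib
import Groth.Agent.Lib.Helper5.QFRefine2

/-!
# Quasi-finite flat refinements of fppf ring maps, part 3 (helper5)

* `local_refinement'` : `T` flat of finite presentation over `R` with a prime over `p`; then there is
  an `R`-algebra map `T → S'` with `S'` flat, finitely presented, quasi-finite and with a prime over `p`.
* `main` : a faithfully flat finitely presented `R`-algebra `S` admits an `R`-algebra map to a
  quasi-finite faithfully flat finitely presented `R`-algebra (Stacks 10.168.10 / 0CKP type statement,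
  no Noetherian hypothesis).
-/

set_option autoImplicit false
universe u
open TensorProduct nonZeroDivisors

namespace Groth.Agent.Lib.helper5.QFRefine


section Local

variable {R : Type u} [CommRing R] (p : Ideal R) [p.IsPrime]

theorem of_base_case (T : Type u) [CommRing T] [Algebra R T] [Module.Flat R T]
    [Algebra.FinitePresentation R T] [Nontrivial (p.Fiber T)]
    (h0 : Ring.KrullDimLE 0 (p.Fiber T)) :
    ∃ (S' : Type u) (_ : CommRing S') (_ : Algebra R S'), Module.Flat R S' ∧
      Algebra.FinitePresentation R S' ∧ Algebra.QuasiFinite R S' ∧ Nontrivial (p.Fiber S') ∧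
      Nonempty (T →ₐ[R] S') := by
  obtain ⟨r, hqf, hnt⟩ := base_case p T h0
  haveI : Module.Flat T (Localization.Away r) := IsLocalization.flat _ (Submonoid.powers r)
  haveI : Algebra.FinitePresentation T (Localization.Away r) :=
    IsLocalization.Away.finitePresentation r
  exact ⟨Localization.Away r, inferInstance, inferInstance, Module.Flat.trans R T _,
    Algebra.FinitePresentation.trans R T _, hqf, hnt, ⟨IsScalarTower.toAlgHom R T _⟩⟩

theorem le_of_add_one_le {x y : WithBot ℕ∞} {n : ℕ} (h1 : x + 1 ≤ y) (h2 : y ≤ ((n + 1 : ℕ) : WithBot ℕ∞)) :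
    x ≤ (n : WithBot ℕ∞) := by
  have h := h1.trans h2
  induction x using WithBot.recBotCoe with
  | bot => exact bot_le
  | coe m =>
    have h' : ((m + 1 : ℕ∞) : WithBot ℕ∞) ≤ (((n + 1 : ℕ) : ℕ∞) : WithBot ℕ∞) := by
      simpa using h
    rw [WithBot.coe_le_coe] at h'
    have : m ≤ (n : ℕ∞) := by
      have h'' : m + 1 ≤ (n : ℕ∞) + 1 := by simpa using h'
      exact (ENat.add_le_add_iff_right (by simp)).mp h''
    exact_mod_cast this

/-- **Local quasi-finite flat refinement** at a prime `p` of the base. -/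
theorem local_refinement : ∀ (n : ℕ) (T : Type u) [CommRing T] [Algebra R T] [Module.Flat R T]
    [Algebra.FinitePresentation R T] [Nontrivial (p.Fiber T)],
    ringKrullDim (p.Fiber T) ≤ n →
    ∃ (S' : Type u) (_ : CommRing S') (_ : Algebra R S'), Module.Flat R S' ∧
      Algebra.FinitePresentation R S' ∧ Algebra.QuasiFinite R S' ∧ Nontrivial (p.Fiber S') ∧
      Nonempty (T →ₐ[R] S') := by
  intro n
  induction n with
  | zero =>
    intro T _ _ _ _ _ hdim
    exact of_base_case p T ((Ring.krullDimLE_iff).mpr (by simpa using hdim))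
  | succ n ih =>
    intro T _ _ _ _ _ hdim
    by_cases h0 : Ring.KrullDimLE 0 (p.Fiber T)
    · exact of_base_case p T h0
    · obtain ⟨S₁, _, _, hfl, hfp, hnt, hd, ⟨φ⟩⟩ := step p T h0
      obtain ⟨S', _, _, h1, h2, h3, h4, ⟨ψ⟩⟩ := ih S₁ (le_of_add_one_le hd hdim)
      exact ⟨S', _, _, h1, h2, h3, h4, ⟨ψ.comp φ⟩⟩

theorem local_refinement' (T : Type u) [CommRing T] [Algebra R T] [Module.Flat R T]
    [Algebra.FinitePresentation R T] [Nontrivial (p.Fiber T)] :
    ∃ (S' : Type u) (_ : CommRing S') (_ : Algebra R S'), Module.Flat R S' ∧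
      Algebra.FinitePresentation R S' ∧ Algebra.QuasiFinite R S' ∧ Nontrivial (p.Fiber S') ∧
      Nonempty (T →ₐ[R] S') := by
  haveI : Algebra.FiniteType p.ResidueField (p.Fiber T) := inferInstance
  obtain ⟨n, hn⟩ := exists_nat_ringKrullDim_le p.ResidueField (p.Fiber T)
  exact local_refinement p n T hn

end Local



/-- **Quasi-finite refinement of fppf ring maps** (Stacks 10.168.10 type statement). -/
theorem main (R : Type u) [CommRing R] (S : Type u) [CommRing S] [Algebra R S]
    [Module.FaithfullyFlat R S] [Algebra.FinitePresentation R S] :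
    ∃ (S' : Type u) (_ : CommRing S') (_ : Algebra R S'),
      Algebra.QuasiFinite R S' ∧ Algebra.FiniteType R S' ∧ Module.FaithfullyFlat R S' ∧
        Algebra.FinitePresentation R S' ∧ Nonempty (S →ₐ[R] S') := by
  classical
  have hloc : ∀ p : PrimeSpectrum R, ∃ (S' : Type u) (_ : CommRing S') (_ : Algebra R S'),
      Module.Flat R S' ∧ Algebra.FinitePresentation R S' ∧ Algebra.QuasiFinite R S' ∧
      p ∈ Set.range (PrimeSpectrum.comap (algebraMap R S')) ∧ Nonempty (S →ₐ[R] S') := by
    intro p
    haveI := p.2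
    haveI : Nontrivial (p.asIdeal.Fiber S) := by
      obtain ⟨q, hq⟩ := PrimeSpectrum.comap_surjective_of_faithfullyFlat (A := R) (B := S) p
      exact nontrivial_fiber_of_comap_eq p.asIdeal S q.asIdeal (by rw [← hq]; rfl)
    obtain ⟨S', _, _, h1, h2, h3, h4, h5⟩ := local_refinement' p.asIdeal S
    obtain ⟨q, hq, hqp⟩ := exists_prime_of_nontrivial_fiber p.asIdeal S'
    exact ⟨S', _, _, h1, h2, h3, ⟨⟨q, hq⟩, PrimeSpectrum.ext hqp⟩, h5⟩
  choose S' hring halg hfl hfp hqf hmem hhom using hloc
  have hopen : ∀ p, IsOpen (Set.range (PrimeSpectrum.comap (algebraMap R (S' p)))) := fun p =>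
    (PrimeSpectrum.isOpenMap_comap_of_hasGoingDown_of_finitePresentation
      (R := R) (S := S' p)).isOpen_range
  obtain ⟨F, hF⟩ := isCompact_univ.elim_finite_subcover _ hopen
    (fun p _ => Set.mem_iUnion.mpr ⟨p, hmem p⟩)
  haveI : ∀ i : F, Module.Flat R (S' i.1) := fun i => hfl i.1
  haveI : ∀ i : F, Algebra.FinitePresentation R (S' i.1) := fun i => hfp i.1
  haveI : ∀ i : F, Algebra.QuasiFinite R (S' i.1) := fun i => hqf i.1
  haveI hflat : Module.Flat R (Π i : F, S' i.1) := flat_pi (fun i : F => S' i.1)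
  haveI hfpres : Algebra.FinitePresentation R (Π i : F, S' i.1) := inferInstance
  refine ⟨Π i : F, S' i.1, inferInstance, inferInstance, quasiFinite_pi (fun i : F => S' i.1),
    inferInstance, ?_, hfpres, ⟨AlgHom.pi (fun i : F => (hhom i.1).some)⟩⟩
  apply Module.FaithfullyFlat.of_comap_surjective
  intro x
  have hx := hF (Set.mem_univ x)
  simp only [Set.mem_iUnion] at hx
  obtain ⟨i, hi, q, hq⟩ := hx
  refine ⟨PrimeSpectrum.comap (Pi.evalRingHom (fun i : F => S' i.1) ⟨i, hi⟩) q, ?_⟩
  rw [← hq, ← PrimeSpectrum.comap_comp_apply]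
  rfl

end Groth.Agent.Lib.helper5.QFRefine
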