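import Mathlib
import Groth.Agent.Lib.Helper5.QFRefine3

/-!
# Quasi-finite flat refinements of fppf covers of schemes (helper5)

* `exists_affine_refinement_at` : for `f : X ⟶ S` flat, locally of finite presentation and `x : X` there
  is `h : Spec A ⟶ X` with `h ≫ f` flat, locally of finite presentation, locally quasi-finite and `f x`
  in its image (EGA IV 17.16.2-type quasi-sections, no CM hypothesis needed for mere quasi-finiteness).
* `exists_refinement` (= S2735) : a surjective flat lfp `f : X ⟶ S` is refined by a surjective flat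
  lfp locally quasi-finite `g : S' ⟶ S` factoring through `f`; `S'` affine if `S` is quasi-compact.
-/

set_option autoImplicit false
universe u
open AlgebraicGeometry CategoryTheory Limits

namespace Groth.Agent.Lib.helper5.QFRefineSch

open Groth.Agent.Lib.helper5

/-- **Quasi-finite flat quasi-sections through a point** (EGA IV 17.16.2-type, affine form):
for `f : X ⟶ S` flat, locally of finite presentation and `x : X` there are an affine scheme `Spec A`,
`h : Spec A ⟶ X` such that `h ≫ f` is flat, locally of finite presentation, locally quasi-finite,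
with `f x` in its image. -/
theorem exists_affine_refinement_at {X S : Scheme.{u}} (f : X ⟶ S) [Flat f]
    [LocallyOfFinitePresentation f] (x : X) :
    ∃ (A : CommRingCat.{u}) (g : Spec A ⟶ S) (h : Spec A ⟶ X), h ≫ f = g ∧ Flat g ∧
      LocallyOfFinitePresentation g ∧ LocallyQuasiFinite g ∧ f x ∈ Set.range g := by
  obtain ⟨V, hV, hsV, -⟩ := exists_isAffineOpen_mem_and_subset (x := f x) (U := ⊤) trivial
  obtain ⟨U, hU, hxU, hUV⟩ := exists_isAffineOpen_mem_and_subset (x := x) (U := f ⁻¹ᵁ V) hsV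
  let φ := f.appLE V U hUV
  letI : Algebra Γ(S, V) Γ(X, U) := φ.hom.toAlgebra
  haveI : Module.Flat Γ(S, V) Γ(X, U) :=
    HasRingHomProperty.appLE (P := @Flat) f inferInstance ⟨V, hV⟩ ⟨U, hU⟩ hUV
  haveI : Algebra.FinitePresentation Γ(S, V) Γ(X, U) :=
    HasRingHomProperty.appLE (P := @LocallyOfFinitePresentation) f inferInstance ⟨V, hV⟩ ⟨U, hU⟩ hUV
  let p := (hV.primeIdealOf ⟨f x, hsV⟩).asIdeal
  haveI : p.IsPrime := (hV.primeIdealOf ⟨f x, hsV⟩).2
  haveI : Nontrivial (p.Fiber Γ(X, U)) :=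
    QFRefine.nontrivial_fiber_of_comap_eq p Γ(X, U) (hU.primeIdealOf ⟨x, hxU⟩).asIdeal
      (congrArg PrimeSpectrum.asIdeal
        (IsAffineOpen.comap_primeIdealOf_appLE (f := f) (x := x) V hV U hU hUV hxU))
  obtain ⟨B, _, _, hfl, hfp, hqf, hnt, ⟨ψ⟩⟩ := QFRefine.local_refinement' p Γ(X, U)
  obtain ⟨q, hq, hqp⟩ := QFRefine.exists_prime_of_nontrivial_fiber p B
  have hcomp : φ ≫ CommRingCat.ofHom ψ.toRingHom = CommRingCat.ofHom (algebraMap Γ(S, V) B) := by
    ext a
    exact ψ.commutes a
  refine ⟨CommRingCat.of B, Spec.map (CommRingCat.ofHom (algebraMap Γ(S, V) B)) ≫ hV.fromSpec,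
    Spec.map (CommRingCat.ofHom ψ.toRingHom) ≫ hU.fromSpec, ?_, ?_, ?_, ?_, ?_⟩
  · rw [Category.assoc, ← IsAffineOpen.SpecMap_appLE_fromSpec f hV hU hUV, ← Category.assoc,
      ← Spec.map_comp, hcomp]
  · haveI : Flat (Spec.map (CommRingCat.ofHom (algebraMap Γ(S, V) B))) :=
      (HasRingHomProperty.Spec_iff (P := @Flat)).mpr (RingHom.flat_algebraMap_iff.mpr hfl)
    infer_instance
  · haveI : LocallyOfFinitePresentation (Spec.map (CommRingCat.ofHom (algebraMap Γ(S, V) B))) :=
      (HasRingHomProperty.Spec_iff (P := @LocallyOfFinitePresentation)).mpr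
        (RingHom.finitePresentation_algebraMap.mpr hfp)
    infer_instance
  · haveI : LocallyQuasiFinite (Spec.map (CommRingCat.ofHom (algebraMap Γ(S, V) B))) :=
      (HasRingHomProperty.Spec_iff (P := @LocallyQuasiFinite)).mpr
        (RingHom.quasiFinite_algebraMap.mpr hqf)
    infer_instance
  · refine ⟨(⟨q, hq⟩ : PrimeSpectrum B), ?_⟩
    rw [Scheme.Hom.comp_apply]
    have h1 : (Spec.map (CommRingCat.ofHom (algebraMap Γ(S, V) B))) (⟨q, hq⟩ : PrimeSpectrum B) =
        hV.primeIdealOf ⟨f x, hsV⟩ := PrimeSpectrum.ext hqp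
    rw [h1]
    exact hV.fromSpec_primeIdealOf ⟨f x, hsV⟩


/-- **Quasi-finite flat refinement of an fppf cover** (= S2735). -/
theorem exists_refinement {X S : Scheme.{u}} (f : X ⟶ S) [Flat f] [LocallyOfFinitePresentation f]
    [Surjective f] :
    ∃ (S' : Scheme.{u}) (g : S' ⟶ S) (h : S' ⟶ X), h ≫ f = g ∧ Flat g ∧
      LocallyOfFinitePresentation g ∧ LocallyQuasiFinite g ∧ Surjective g ∧
      (CompactSpace S → IsAffine S') := by
  classical
  have hpt : ∀ s : S, ∃ (A : CommRingCat.{u}) (g : Spec A ⟶ S) (h : Spec A ⟶ X), h ≫ f = g ∧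
      Flat g ∧ LocallyOfFinitePresentation g ∧ LocallyQuasiFinite g ∧ s ∈ Set.range g := by
    intro s
    obtain ⟨x, rfl⟩ := f.surjective s
    exact exists_affine_refinement_at f x
  choose A g h hfac hfl hfp hqf hmem using hpt
  have hopen : ∀ s, IsOpen (Set.range (g s)) := fun s => by
    haveI := hfl s
    haveI := hfp s
    exact (g s).isOpenMap.isOpen_range
  obtain ⟨I, hI, hIfin⟩ : ∃ I : Set S, (⋃ s ∈ I, Set.range (g s)) = Set.univ ∧
      (CompactSpace S → I.Finite) := by
    by_cases hc : CompactSpace S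
    · obtain ⟨t, ht⟩ := isCompact_univ.elim_finite_subcover _ hopen
        (fun s _ => Set.mem_iUnion.mpr ⟨s, hmem s⟩)
      refine ⟨(t : Set S), ?_, fun _ => t.finite_toSet⟩
      exact Set.eq_univ_of_univ_subset (by simpa using ht)
    · refine ⟨Set.univ, ?_, fun h => absurd h hc⟩
      apply Set.eq_univ_of_forall
      intro s
      simp only [Set.mem_univ, Set.iUnion_true, Set.mem_iUnion]
      exact ⟨s, hmem s⟩
  refine ⟨∐ (fun i : I => Spec (A i.1)), Sigma.desc (fun i : I => g i.1),
    Sigma.desc (fun i : I => h i.1), ?_, ?_, ?_, ?_, ?_, ?_⟩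
  · apply Sigma.hom_ext
    intro i
    simp [hfac]
  · exact IsZariskiLocalAtSource.sigmaDesc (fun i : I => hfl i.1)
  · exact IsZariskiLocalAtSource.sigmaDesc (fun i : I => hfp i.1)
  · exact IsZariskiLocalAtSource.sigmaDesc (fun i : I => hqf i.1)
  · apply Surjective.sigmaDesc_of_union_range_eq_univ
    rw [← hI]
    ext s
    simp only [Set.mem_iUnion, Subtype.exists, exists_prop]
    constructor
    · rintro ⟨a, ha, hs⟩
      exact ⟨a, ha, hs⟩
    · rintro ⟨a, ha, hs⟩
      exact ⟨a, ha, hs⟩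
  · intro hc
    haveI : Finite I := (hIfin hc).to_subtype
    infer_instance

end Groth.Agent.Lib.helper5.QFRefineSch
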