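import Groth.Prelude.Def_AlgSp

/-!
# Fibre products of algebraic spaces (helper5)

* `isPullback_of_exists_lift`: a criterion for `IsPullback` by existence and uniqueness of lifts.
* `exists_equalizer`: for a sheaf `Y` with representable diagonal, the equalizer of two maps
  `h_A ⇉ Y` is represented by a scheme over `A`.
* `representable_to_pullback`: every map from a scheme to a fibre product `X ×_H Y` of sheaves with
  representable diagonals is representable.
* `isAlgSpace_of_isPullback`: the fibre product of algebraic spaces over a sheaf with representable diagonal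
  is an algebraic space.
-/

set_option autoImplicit false
universe u

open CategoryTheory CategoryTheory.Limits AlgebraicGeometry Opposite

namespace Groth.Agent.Lib.helper5

/-- A criterion for `IsPullback` by existence and uniqueness of lifts. -/
theorem isPullback_of_exists_lift {C : Type*} [Category C] {P X Y Z : C} {fst : P ⟶ X}
    {snd : P ⟶ Y} {f : X ⟶ Z} {g : Y ⟶ Z} (w : fst ≫ f = snd ≫ g)
    (hlift : ∀ {T : C} (a : T ⟶ X) (b : T ⟶ Y), a ≫ f = b ≫ g →
      ∃ l : T ⟶ P, l ≫ fst = a ∧ l ≫ snd = b)
    (huniq : ∀ {T : C} (l l' : T ⟶ P), l ≫ fst = l' ≫ fst → l ≫ snd = l' ≫ snd → l = l') :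
    IsPullback fst snd f g :=
  ⟨⟨w⟩, ⟨PullbackCone.IsLimit.mk w (fun s => (hlift s.fst s.snd s.condition).choose)
    (fun s => (hlift s.fst s.snd s.condition).choose_spec.1)
    (fun s => (hlift s.fst s.snd s.condition).choose_spec.2)
    (fun s _ h1 h2 => huniq _ _ (h1.trans (hlift s.fst s.snd s.condition).choose_spec.1.symm)
      (h2.trans (hlift s.fst s.snd s.condition).choose_spec.2.symm))⟩⟩

open AlgSp

variable {S : Scheme.{u}}

/-- For a sheaf `Y` with representable diagonal, the equalizer of two maps `h_A ⇉ Y` is represented by a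
scheme over `A`. -/
theorem exists_equalizer {Y : Sp S} (hY : Representable (Limits.diag Y)) {A : Over S}
    (u v : (yon S).obj A ⟶ Y) :
    ∃ (W : Over S) (w : W ⟶ A), (yon S).map w ≫ u = (yon S).map w ≫ v ∧
      (∀ {Z : Sp S} (z : Z ⟶ (yon S).obj A), z ≫ u = z ≫ v → ∃ l : Z ⟶ (yon S).obj W,
        l ≫ (yon S).map w = z) ∧ Mono ((yon S).map w) := by
  obtain ⟨W, w, fstW, sq⟩ := hY (prod.lift u v)
  have h1 : fstW = (yon S).map w ≫ u := by
    have := congrArg (· ≫ prod.fst) sq.w
    simp only [Category.assoc] at this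
    rw [prod.lift_fst] at this
    erw [prod.lift_fst] at this
    rw [Category.comp_id] at this
    exact this
  have h2 : fstW = (yon S).map w ≫ v := by
    have := congrArg (· ≫ prod.snd) sq.w
    simp only [Category.assoc] at this
    rw [prod.lift_snd] at this
    erw [prod.lift_snd] at this
    rw [Category.comp_id] at this
    exact this
  refine ⟨W, w, h1.symm.trans h2, ?_, sq.mono_snd_of_mono⟩
  intro Z z hz
  refine ⟨sq.lift (z ≫ u) z ?_, sq.lift_snd _ _ _⟩
  apply Limits.prod.hom_ext <;> simp [hz]

/-- Every map from a scheme to a fibre product `X ×_H Y` of sheaves with representable diagonals is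
representable. -/
theorem representable_to_pullback {H X Y P : Sp S} (hX : Representable (Limits.diag X))
    (hY : Representable (Limits.diag Y)) {f : X ⟶ H} {g : Y ⟶ H} {fst : P ⟶ X} {snd : P ⟶ Y}
    (h : IsPullback fst snd f g) {T : Over S} (a : (yon S).obj T ⟶ P) : Representable a := by
  intro T' b
  obtain ⟨A, α', fstA, sqA⟩ := (Functor.relativelyRepresentable.of_diag hX (a ≫ fst)) (b ≫ fst)
  obtain ⟨α, rfl⟩ := (yon S).map_surjective fstA
  obtain ⟨W, w, hw, hlift, hmono⟩ :=
    exists_equalizer hY ((yon S).map α ≫ a ≫ snd) ((yon S).map α' ≫ b ≫ snd)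
  refine ⟨W, w ≫ α', (yon S).map (w ≫ α), ?_⟩
  apply isPullback_of_exists_lift
  · apply h.hom_ext
    · simp only [Functor.map_comp, Category.assoc]
      rw [sqA.w]
    · simp only [Functor.map_comp, Category.assoc]
      exact hw
  · intro Z z z' hz
    have e1 : z ≫ a ≫ fst = z' ≫ b ≫ fst := by
      rw [← Category.assoc, hz, Category.assoc]
    obtain ⟨l₁, hl₁a, hl₁b⟩ := sqA.exists_lift z z' e1
    obtain ⟨l₂, hl₂⟩ := hlift l₁ (by
      rw [← Category.assoc, hl₁a, ← Category.assoc l₁, hl₁b, ← Category.assoc, hz, Category.assoc])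
    refine ⟨l₂, ?_, ?_⟩
    · rw [Functor.map_comp, ← Category.assoc, hl₂, hl₁a]
    · rw [Functor.map_comp, ← Category.assoc, hl₂, hl₁b]
  · intro Z l l' h1 h2
    rw [← cancel_mono ((yon S).map w)]
    apply sqA.hom_ext
    · simpa only [Functor.map_comp, Category.assoc] using h1
    · simpa only [Functor.map_comp, Category.assoc] using h2

/-- The fibre product of algebraic spaces over a sheaf with representable diagonal is an algebraic
space. -/
theorem isAlgSpace_of_isPullback {H X Y P : Sp S} (hH : Representable (Limits.diag H))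
    (hX : IsAlgSpace X) (hY : IsAlgSpace Y) {f : X ⟶ H} {g : Y ⟶ H} {fst : P ⟶ X} {snd : P ⟶ Y}
    (h : IsPullback fst snd f g) : IsAlgSpace P := by
  refine ⟨Functor.relativelyRepresentable.diag_of_map_from_obj
    (fun T a => representable_to_pullback hX.diag hY.diag h a), ?_⟩
  obtain ⟨U, p, hpe, hps⟩ := hX.atlas
  obtain ⟨V, q, hqe, hqs⟩ := hY.atlas
  have sqA : IsPullback (pullback.fst fst p) (pullback.snd fst p) fst p :=
    IsPullback.of_hasPullback fst p
  have sqC : IsPullback (pullback.fst (pullback.fst fst p ≫ snd) q)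
      (pullback.snd (pullback.fst fst p ≫ snd) q) (pullback.fst fst p ≫ snd) q :=
    IsPullback.of_hasPullback _ _
  have sqD : IsPullback (pullback.fst fst p ≫ snd) (pullback.snd fst p) g (p ≫ f) :=
    sqA.paste_horiz h.flip
  have sqE := sqC.flip.paste_vert sqD
  obtain ⟨W, sndW, fstW, sqW⟩ := (Functor.relativelyRepresentable.of_diag hH (q ≫ g)) (p ≫ f)
  refine ⟨W, (sqW.isoIsPullback _ _ sqE).hom ≫
    pullback.fst (pullback.fst fst p ≫ snd) q ≫ pullback.fst fst p, ?_, ?_⟩
  · refine MorphismProperty.RespectsIso.precomp _ _ _ ?_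
    exact (repWith_isMultiplicative (S := S) @Etale).comp_mem _ _
      ((repWith_isStableUnderBaseChange (S := S) @Etale).of_isPullback sqC.flip hqe)
      ((repWith_isStableUnderBaseChange (S := S) @Etale).of_isPullback sqA.flip hpe)
  · refine MorphismProperty.RespectsIso.precomp _ _ _ ?_
    exact (repWith_isMultiplicative (S := S) @Surjective).comp_mem _ _
      ((repWith_isStableUnderBaseChange (S := S) @Surjective).of_isPullback sqC.flip hqs)
      ((repWith_isStableUnderBaseChange (S := S) @Surjective).of_isPullback sqA.flip hps)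

end Groth.Agent.Lib.helper5
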