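import Groth.Agent.S10194
import Groth.Agent.S9888
import Groth.Agent.Lib.Helper5.AlgSpFibreProduct
import Mathlib.CategoryTheory.Sites.Subsheaf

/-!
# The open subspace of a sheaf attached to an open set of points (helper5)

For a sheaf `X : Sp S` and an open `Ω ⊆ |X|`, `OpenSub.sub X Ω` is the subsheaf of sections all of whose
points lie in `Ω`, and `OpenSub.ι` its inclusion.  It is representable by open immersions, its image on
points is `Ω`, and it is an algebraic space when `X` is.
-/

set_option autoImplicit false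
universe u

open CategoryTheory CategoryTheory.Limits AlgebraicGeometry Opposite

namespace Groth.Agent.Lib.helper5.OpenSub

open AlgSp

variable {S : Scheme.{u}}

/-- Covering sieves of the fppf topology are jointly surjective on points. -/
theorem exists_mem_of_mem_fppfTopology {X : Scheme.{u}} (R : Sieve X)
    (hR : R ∈ Scheme.fppfTopology X) (x : ↥X) :
    ∃ (Y : Scheme.{u}) (f : Y ⟶ X) (y : ↥Y), R f ∧ f y = x := by
  have : Scheme.fppfPrecoverage.{u}.HasIsos :=
    ⟨fun f _ => f.singleton_mem_fppfPrecoverage⟩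
  have : Scheme.fppfPrecoverage.{u}.HasPullbacks := ⟨fun f _ => inferInstance⟩
  obtain ⟨R', hR', hle⟩ := Precoverage.mem_toGrothendieck_iff_of_isStableUnderComposition.1 hR
  obtain ⟨𝒰, rfl⟩ := R'.exists_eq_preZeroHypercover
  rw [Scheme.fppfPrecoverage, Scheme.ofArrows_mem_precoverage_iff] at hR'
  obtain ⟨i, y, hy⟩ := hR'.1 x
  exact ⟨_, 𝒰.f i, y, hle _ _ (Presieve.ofArrows.mk i), hy⟩

/-- Covering sieves of the fppf topology over `S` are jointly surjective on points. -/
theorem exists_mem_of_mem_J {T : Over S} (R : Sieve T) (hR : R ∈ J S T) (t : ↥T.left) :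
    ∃ (T' : Over S) (f : T' ⟶ T) (t' : ↥T'.left), R f ∧ f.left t' = t := by
  rw [GrothendieckTopology.mem_over_iff] at hR
  obtain ⟨Y, f, y, h1, hy⟩ := exists_mem_of_mem_fppfTopology _ hR t
  rw [Sieve.overEquiv_iff] at h1
  exact ⟨Over.mk (f ≫ T.hom), Over.homMk f, y, h1, hy⟩

/-- A morphism of sheaves factors through an open subsheaf iff it does so on points. -/
theorem factors_iff {X X' Y : Sp S}
    (j : X' ⟶ X) (hj : RepWith @IsOpenImmersion j) (f : Y ⟶ X) :
    (∃ g : Y ⟶ X', g ≫ j = f) ↔
      Set.range (Points.map f) ⊆ Set.range (Points.map j) := by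
  constructor
  · rintro ⟨g, rfl⟩
    rintro _ ⟨y, rfl⟩
    exact ⟨Points.map g y, (Points.map_comp g j y).symm⟩
  · intro hsub
    have sq : IsPullback (pullback.fst f j) (pullback.snd f j) f j := IsPullback.of_hasPullback _ _
    have h1 : RepWith @IsOpenImmersion (pullback.fst f j) :=
      (repWith_isStableUnderBaseChange (S := S) @IsOpenImmersion).of_isPullback sq.flip hj
    have h2 : IsSurjectiveMor (pullback.fst f j) := by
      intro y
      obtain ⟨x', hx'⟩ := hsub ⟨y, rfl⟩
      obtain ⟨w, hw, _⟩ := Groth.Agent.Lib.helper10.exists_point_of_isPullback sq y x' hx'.symm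
      exact ⟨w, hw⟩
    have hiso : IsIso (pullback.fst f j) :=
      Groth.Agent.S10194.isIso_of_openImmersion_of_surjective _ h1 h2
    refine ⟨inv (pullback.fst f j) ≫ pullback.snd f j, ?_⟩
    rw [Category.assoc, ← pullback.condition, IsIso.inv_hom_id_assoc]

/-- The subfunctor of sections of `X` all of whose points lie in `Ω`. -/
def subfunctor (X : Sp S) (Ω : Set (Points X)) : Subfunctor X.obj where
  obj T := {x | ∀ t : ↥(unop T).left, Points.ofPt ((J S).uliftYonedaEquiv.symm x) t ∈ Ω}
  map {T T'} i x hx t := by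
    rw [GrothendieckTopology.uliftYonedaEquiv_symm_map, Groth.Agent.Lib.helper11.ofPt_yon_map_comp]
    exact hx _

theorem subfunctor_isSheaf (X : Sp S) (Ω : Set (Points X)) :
    Presheaf.IsSheaf (J S) (subfunctor X Ω).toFunctor := by
  rw [isSheaf_iff_isSheaf_of_type]
  have hX : Presieve.IsSheaf (J S) X.obj := (isSheaf_iff_isSheaf_of_type _ _).1 X.property
  rw [Subfunctor.isSheaf_iff _ hX]
  intro T x hx t
  obtain ⟨T', f, t', hf, rfl⟩ := exists_mem_of_mem_J _ hx t
  have h1 : Points.ofPt ((J S).uliftYonedaEquiv.symm (X.obj.map f.op x)) t' ∈ Ω := hf t'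
  rwa [GrothendieckTopology.uliftYonedaEquiv_symm_map,
    Groth.Agent.Lib.helper11.ofPt_yon_map_comp] at h1

/-- The open subsheaf of `X` on the set `Ω` of points. -/
def sub (X : Sp S) (Ω : Set (Points X)) : Sp S := ⟨(subfunctor X Ω).toFunctor, subfunctor_isSheaf X Ω⟩

/-- The inclusion of the open subsheaf. -/
def ι (X : Sp S) (Ω : Set (Points X)) : sub X Ω ⟶ X := ⟨(subfunctor X Ω).ι⟩

instance (X : Sp S) (Ω : Set (Points X)) : Mono (ι X Ω) := by
  have : Mono (ι X Ω).hom := inferInstanceAs (Mono (subfunctor X Ω).ι)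
  exact Sheaf.Hom.mono_of_presheaf_mono _ _ _

/-- A morphism `h_T ⟶ X` all of whose points lie in `Ω` lifts to the open subsheaf. -/
noncomputable def lift {X : Sp S} {Ω : Set (Points X)} {T : Over S} (g : (yon S).obj T ⟶ X)
    (hg : ∀ t : ↥T.left, Points.ofPt g t ∈ Ω) : (yon S).obj T ⟶ sub X Ω :=
  (J S).uliftYonedaEquiv.symm (⟨(J S).uliftYonedaEquiv g, fun t => by
    change Points.ofPt ((J S).uliftYonedaEquiv.symm ((J S).uliftYonedaEquiv g)) t ∈ Ω
    rw [Equiv.symm_apply_apply]; exact hg t⟩ : (subfunctor X Ω).toFunctor.obj (op T))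

theorem lift_ι {X : Sp S} {Ω : Set (Points X)} {T : Over S} (g : (yon S).obj T ⟶ X)
    (hg : ∀ t : ↥T.left, Points.ofPt g t ∈ Ω) : lift g hg ≫ ι X Ω = g := by
  apply (J S).uliftYonedaEquiv.injective
  rw [GrothendieckTopology.uliftYonedaEquiv_comp]
  unfold lift
  rw [Equiv.apply_symm_apply]
  rfl

/-- Points of the open subsheaf lie in `Ω`. -/
theorem ofPt_comp_ι_mem {X : Sp S} {Ω : Set (Points X)} {T : Over S}
    (a : (yon S).obj T ⟶ sub X Ω) (t : ↥T.left) : Points.ofPt (a ≫ ι X Ω) t ∈ Ω := by
  have h := ((J S).uliftYonedaEquiv a).2 t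
  have e : (J S).uliftYonedaEquiv.symm (((J S).uliftYonedaEquiv a).1) = a ≫ ι X Ω := by
    apply (J S).uliftYonedaEquiv.injective
    rw [Equiv.apply_symm_apply, GrothendieckTopology.uliftYonedaEquiv_comp]
    rfl
  rwa [e] at h

theorem range_map_ι (X : Sp S) (Ω : Set (Points X)) :
    Set.range (Points.map (ι X Ω)) = Ω := by
  apply Set.Subset.antisymm
  · rintro _ ⟨x', rfl⟩
    induction x' using Points.ind with
    | h p =>
    have h1 := ofPt_comp_ι_mem p.toHom (IsLocalRing.closedPoint p.K)
    rwa [← Points.map_ofPt, Points.ofPt_toHom] at h1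
  · intro ω hω
    induction ω using Points.ind with
    | h q =>
    have hq : ∀ t : ↥q.pt.left, Points.ofPt q.toHom t ∈ Ω := fun t => by
      rw [Points.ofPt_toHom]; exact hω
    refine ⟨Points.ofPt (lift q.toHom hq) (IsLocalRing.closedPoint q.K), ?_⟩
    rw [Points.map_ofPt, lift_ι, Points.ofPt_toHom]

/-- The open subscheme `D` of `T` as a scheme over `S`. -/
abbrev subOver (T : Over S) (D : T.left.Opens) : Over S := Over.mk (D.ι ≫ T.hom)

/-- The inclusion of the open subscheme `D` of `T` over `S`. -/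
abbrev subOverι (T : Over S) (D : T.left.Opens) : subOver T D ⟶ T := Over.homMk D.ι rfl

theorem repWith_subOverι (T : Over S) (D : T.left.Opens) :
    RepWith @IsOpenImmersion ((yon S).map (subOverι T D)) :=
  (repWith_yon_map_iff _ _).2 (inferInstanceAs (IsOpenImmersion D.ι))

theorem range_map_subOverι (T : Over S) (D : T.left.Opens) :
    Set.range (Points.map ((yon S).map (subOverι T D))) = Points.schemeHomeo T '' (D : Set ↥T.left) := by
  ext x
  constructor
  · rintro ⟨y, rfl⟩
    obtain ⟨t, rfl⟩ := (Points.schemeHomeo (subOver T D)).surjective y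
    rw [Points.map_yon_map_apply]
    exact ⟨_, t.2, rfl⟩
  · rintro ⟨t, ht, rfl⟩
    refine ⟨Points.schemeHomeo (subOver T D) ⟨t, ht⟩, ?_⟩
    rw [Points.map_yon_map_apply]
    rfl

/-- The preimage of `Ω` in `T` under `g : h_T ⟶ X`, as an open of `T`. -/
def preim {X : Sp S} {Ω : Set (Points X)} (hΩ : IsOpen Ω) {T : Over S} (g : (yon S).obj T ⟶ X) :
    T.left.Opens :=
  ⟨Points.ofPt g ⁻¹' Ω, hΩ.preimage (Points.continuous_ofPt g)⟩

theorem isPullback_preim {X : Sp S} {Ω : Set (Points X)} (hΩ : IsOpen Ω) {T : Over S}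
    (g : (yon S).obj T ⟶ X) :
    ∃ fst : (yon S).obj (subOver T (preim hΩ g)) ⟶ sub X Ω,
      IsPullback fst ((yon S).map (subOverι T (preim hΩ g))) (ι X Ω) g := by
  have hmem : ∀ t : ↥(subOver T (preim hΩ g)).left,
      Points.ofPt ((yon S).map (subOverι T (preim hΩ g)) ≫ g) t ∈ Ω := by
    intro t
    rw [Groth.Agent.Lib.helper11.ofPt_yon_map_comp]
    exact t.2
  refine ⟨lift _ hmem, ?_⟩
  have hmono : Mono ((yon S).map (subOverι T (preim hΩ g))) :=
    Groth.Agent.S9928.mono_of_repWith_mono _
      (Groth.Agent.S10194.repWith_mono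
        (fun X Y g hg => by have : IsOpenImmersion g := hg; infer_instance)
        (repWith_subOverι T (preim hΩ g)))
  refine Groth.Agent.Lib.helper5.isPullback_of_exists_lift (lift_ι _ hmem) ?_ ?_
  · intro Z a b hab
    -- `b` factors through the open subscheme
    have hsub : Set.range (Points.map b) ⊆
        Set.range (Points.map ((yon S).map (subOverι T (preim hΩ g)))) := by
      rintro _ ⟨z, rfl⟩
      rw [range_map_subOverι]
      obtain ⟨t, ht⟩ := (Points.schemeHomeo T).surjective (Points.map b z)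
      refine ⟨t, ?_, ht⟩
      change Points.ofPt g t ∈ Ω
      have e1 : Points.ofPt g t = Points.map g (Points.schemeHomeo T t) :=
        Points.ofPt_eq_map_ofScheme g t
      rw [e1, ht, ← Points.map_comp, ← hab, Points.map_comp]
      exact (range_map_ι X Ω).subset ⟨_, rfl⟩
    obtain ⟨l, hl⟩ := (factors_iff _ (repWith_subOverι T (preim hΩ g)) b).2 hsub
    refine ⟨l, ?_, hl⟩
    rw [← cancel_mono (ι X Ω), Category.assoc, lift_ι, ← Category.assoc, hl, hab]
  · intro Z l l' _ h2
    exact (cancel_mono _).1 h2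

/-- The inclusion of the open subsheaf on an open set of points is representable by open immersions. -/
theorem repWith_ι (X : Sp S) {Ω : Set (Points X)} (hΩ : IsOpen Ω) :
    RepWith @IsOpenImmersion (ι X Ω) := by
  refine MorphismProperty.relative.of_exists ?_
  intro T g
  obtain ⟨fst, sq⟩ := isPullback_preim hΩ g
  exact ⟨_, fst, _, sq, inferInstanceAs (IsOpenImmersion (preim hΩ g).ι)⟩

/-- The open subsheaf of an algebraic space on an open set of points is an algebraic space. -/
theorem isAlgSpace_sub {X : Sp S} (hX : IsAlgSpace X) {Ω : Set (Points X)} (hΩ : IsOpen Ω) :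
    IsAlgSpace (sub X Ω) where
  diag := by
    refine Functor.relativelyRepresentable.diag_of_map_from_obj (fun T a => ?_)
    intro T' b
    obtain ⟨W, snd, fst, sq⟩ := hX.representable_from_yon (a ≫ ι X Ω) (b ≫ ι X Ω)
    exact ⟨W, snd, fst, (Groth.Agent.S9888.isPullback_comp_mono_iff (ι X Ω)).1 sq⟩
  atlas := by
    obtain ⟨U, p, hpe, hps⟩ := hX.atlas
    obtain ⟨fst, sq⟩ := isPullback_preim hΩ p
    exact ⟨_, fst,
      (repWith_isStableUnderBaseChange (S := S) @Etale).of_isPullback sq.flip hpe,
      (repWith_isStableUnderBaseChange (S := S) @Surjective).of_isPullback sq.flip hps⟩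

/-- Existence of the open subspace of an algebraic space with prescribed open set of points. -/
theorem exists_openSub (X : Space S) (W : Set (Points X.obj)) (hW : IsOpen W) :
    ∃ (X' : Space S) (j : X' ⟶ X),
      RepWith @IsOpenImmersion j.hom ∧ Set.range (Points.map j.hom) = W ∧ Mono j.hom :=
  ⟨⟨sub X.obj W, isAlgSpace_sub X.property hW⟩, ObjectProperty.homMk (ι X.obj W),
    repWith_ι X.obj hW, range_map_ι X.obj W, inferInstanceAs (Mono (ι X.obj W))⟩

end Groth.Agent.Lib.helper5.OpenSub
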