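import Mathlib
import Groth.Prelude.Def_Grpd
import Groth.Prelude.Def_AlgSp

/-!
# The groupoid scheme of an equivalence relation (helper5)

For `s t : R ⟶ U` in `Over S` with `AlgSp.IsEqvRel s t`, `ofEqvRel h : Grpd.GroupoidScheme S` is the
groupoid with `U = U.left`, `R = R.left`, `s = s.left`, `t = t.left`; identity, inverse and composition
come from reflexivity, symmetry and transitivity, and all axioms from the injectivity of `(t, s)`.
-/

set_option autoImplicit false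
universe u

open AlgebraicGeometry CategoryTheory CategoryTheory.Limits

namespace Groth.Agent.Lib.helper5.EqvGrpd

variable {S : Scheme.{u}} {R U : Over S} {s t : R ⟶ U} (h : AlgSp.IsEqvRel s t)

include h

theorem rel_unique {T : Scheme.{u}} (ρ ρ' : T ⟶ R.left) (h1 : ρ ≫ t.left = ρ' ≫ t.left)
    (h2 : ρ ≫ s.left = ρ' ≫ s.left) : ρ = ρ' := by
  have w : ρ' ≫ R.hom = ρ ≫ R.hom := by
    rw [← Over.w t, ← Category.assoc, ← Category.assoc, h1]
  have := h.injective (Over.mk (ρ ≫ R.hom)) (Over.homMk ρ rfl) (Over.homMk ρ' w)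
    (by ext; exact h1) (by ext; exact h2)
  exact congrArg (fun k => k.left) this

theorem rel_refl {T : Scheme.{u}} (a : T ⟶ U.left) :
    ∃ ρ : T ⟶ R.left, ρ ≫ t.left = a ∧ ρ ≫ s.left = a := by
  obtain ⟨r, h1, h2⟩ := (h.equivalence (Over.mk (a ≫ U.hom))).refl (Over.homMk a rfl)
  exact ⟨r.left, congrArg (fun k => k.left) h1, congrArg (fun k => k.left) h2⟩

theorem rel_symm {T : Scheme.{u}} (ρ : T ⟶ R.left) :
    ∃ ρ' : T ⟶ R.left, ρ' ≫ t.left = ρ ≫ s.left ∧ ρ' ≫ s.left = ρ ≫ t.left := by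
  let ρO : Over.mk (ρ ≫ R.hom) ⟶ R := Over.homMk ρ rfl
  obtain ⟨r, h1, h2⟩ := (h.equivalence (Over.mk (ρ ≫ R.hom))).symm
    (x := ρO ≫ t) (y := ρO ≫ s) ⟨ρO, rfl, rfl⟩
  exact ⟨r.left, congrArg (fun k => k.left) h1, congrArg (fun k => k.left) h2⟩

theorem rel_trans {T : Scheme.{u}} (ρ₁ ρ₂ : T ⟶ R.left) (h12 : ρ₁ ≫ s.left = ρ₂ ≫ t.left) :
    ∃ ρ : T ⟶ R.left, ρ ≫ t.left = ρ₁ ≫ t.left ∧ ρ ≫ s.left = ρ₂ ≫ s.left := by
  have w : ρ₂ ≫ R.hom = ρ₁ ≫ R.hom := by
    calc ρ₂ ≫ R.hom = ρ₂ ≫ t.left ≫ U.hom := by rw [Over.w t]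
      _ = (ρ₁ ≫ s.left) ≫ U.hom := by rw [h12, Category.assoc]
      _ = ρ₁ ≫ R.hom := by rw [Category.assoc, Over.w s]
  let ρ₁O : Over.mk (ρ₁ ≫ R.hom) ⟶ R := Over.homMk ρ₁ rfl
  let ρ₂O : Over.mk (ρ₁ ≫ R.hom) ⟶ R := Over.homMk ρ₂ w
  have e : ρ₁O ≫ s = ρ₂O ≫ t := by ext; exact h12
  obtain ⟨r, h1, h2⟩ := (h.equivalence (Over.mk (ρ₁ ≫ R.hom))).trans
    (x := ρ₁O ≫ t) (y := ρ₁O ≫ s) (z := ρ₂O ≫ s) ⟨ρ₁O, rfl, rfl⟩ ⟨ρ₂O, e.symm, rfl⟩
  exact ⟨r.left, congrArg (fun k => k.left) h1, congrArg (fun k => k.left) h2⟩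

/-- identity -/
noncomputable def eR : U.left ⟶ R.left := (rel_refl h (𝟙 U.left)).choose

theorem eR_t : eR h ≫ t.left = 𝟙 _ := (rel_refl h (𝟙 U.left)).choose_spec.1
theorem eR_s : eR h ≫ s.left = 𝟙 _ := (rel_refl h (𝟙 U.left)).choose_spec.2

/-- inverse -/
noncomputable def iR : R.left ⟶ R.left := (rel_symm h (𝟙 R.left)).choose

theorem iR_t : iR h ≫ t.left = s.left :=
  ((rel_symm h (𝟙 R.left)).choose_spec.1).trans (Category.id_comp _)
theorem iR_s : iR h ≫ s.left = t.left :=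
  ((rel_symm h (𝟙 R.left)).choose_spec.2).trans (Category.id_comp _)

/-- composition -/
noncomputable def cR : pullback s.left t.left ⟶ R.left :=
  (rel_trans h (pullback.fst s.left t.left) (pullback.snd s.left t.left)
    pullback.condition).choose

theorem cR_t : cR h ≫ t.left = pullback.fst s.left t.left ≫ t.left :=
  (rel_trans h (pullback.fst s.left t.left) (pullback.snd s.left t.left)
    pullback.condition).choose_spec.1
theorem cR_s : cR h ≫ s.left = pullback.snd s.left t.left ≫ s.left :=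
  (rel_trans h (pullback.fst s.left t.left) (pullback.snd s.left t.left)
    pullback.condition).choose_spec.2

theorem lift_cR_t {T : Scheme.{u}} (α β : T ⟶ R.left) (hαβ : α ≫ s.left = β ≫ t.left) :
    (pullback.lift α β hαβ ≫ cR h) ≫ t.left = α ≫ t.left := by
  rw [Category.assoc, cR_t, pullback.lift_fst_assoc]

theorem lift_cR_s {T : Scheme.{u}} (α β : T ⟶ R.left) (hαβ : α ≫ s.left = β ≫ t.left) :
    (pullback.lift α β hαβ ≫ cR h) ≫ s.left = β ≫ s.left := by
  rw [Category.assoc, cR_s, pullback.lift_snd_assoc]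

/-- the groupoid scheme of an equivalence relation. -/
noncomputable def ofEqvRel : Grpd.GroupoidScheme S where
  U := U.left
  R := R.left
  pU := U.hom
  pR := R.hom
  s := s.left
  t := t.left
  e := eR h
  i := iR h
  c := cR h
  s_over := Over.w s
  t_over := Over.w t
  comp_s := fun α β hαβ => lift_cR_s h α β hαβ
  comp_t := fun α β hαβ => lift_cR_t h α β hαβ
  assoc := fun α β γ h₁ h₂ => by
    apply rel_unique h
    · rw [lift_cR_t, lift_cR_t, lift_cR_t]
    · rw [lift_cR_s, lift_cR_s, lift_cR_s]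
  e_s := eR_s h
  e_t := eR_t h
  comp_e := fun α => by
    apply rel_unique h
    · rw [lift_cR_t]
    · rw [lift_cR_s, Category.assoc, Category.assoc, eR_s, Category.comp_id]
  e_comp := fun α => by
    apply rel_unique h
    · rw [lift_cR_t, Category.assoc, Category.assoc, eR_t, Category.comp_id]
    · rw [lift_cR_s]
  i_s := iR_s h
  i_t := iR_t h
  comp_i := fun α => by
    apply rel_unique h
    · rw [lift_cR_t, Category.assoc, Category.assoc, eR_t, Category.comp_id]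
    · rw [lift_cR_s, Category.assoc, iR_s, Category.assoc, Category.assoc, eR_s, Category.comp_id]
  i_comp := fun α => by
    apply rel_unique h
    · rw [lift_cR_t, Category.assoc, iR_t, Category.assoc, Category.assoc, eR_t, Category.comp_id]
    · rw [lift_cR_s, Category.assoc, Category.assoc, eR_s, Category.comp_id]

@[simp] theorem ofEqvRel_U : (ofEqvRel h).U = U.left := rfl
@[simp] theorem ofEqvRel_R : (ofEqvRel h).R = R.left := rfl
@[simp] theorem ofEqvRel_s : (ofEqvRel h).s = s.left := rfl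
@[simp] theorem ofEqvRel_t : (ofEqvRel h).t = t.left := rfl
@[simp] theorem ofEqvRel_pU : (ofEqvRel h).pU = U.hom := rfl
@[simp] theorem ofEqvRel_pR : (ofEqvRel h).pR = R.hom := rfl

end Groth.Agent.Lib.helper5.EqvGrpd
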