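import Mathlib
import Groth.Prelude.Def_Grpd
import Groth.Agent.Lib.Helper4.GrpdTc

/-!
# Translation invariance for `h = s ∘ pr₁ : U' ×_{g,U,t} R ⟶ U` (helper5)

Let `G = (U,R,s,t,c,e,i)` be a groupoid scheme and `g : U' ⟶ U` a morphism.  Put `T = U' ×_{g,U,t} R`
and `h = pr₂ ≫ s : T ⟶ U`.  Then `P = T ×_{h,U,t} R` is *also* the fibre product `T ×_{h,U,s} R` via
`(u', r, r₂) ↦ ((u', r ∘ r₂), r₂)`.  Hence any local property `Q` of morphisms at points which is
invariant under base change by `s` and `t` satisfies `Q h z ↔ Q h (ε (pr₁ z))` with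
`ε u' = (u', e (g u'))`.

* `isPullback_transl` : the second cartesian square.
* `transl_iff` : the translation invariance.
-/

set_option autoImplicit false
universe u

open AlgebraicGeometry CategoryTheory CategoryTheory.Limits

namespace Groth.Agent.Lib.helper5.GSlice

open Groth.Agent.Lib.Helper4.GrpdTc

variable {S : Scheme.{u}} (G : Grpd.GroupoidScheme S) {U' : Scheme.{u}} (g : U' ⟶ G.U)

/-- `h = pr₂ ≫ s : U' ×_{g,U,t} R ⟶ U`. -/
noncomputable abbrev hMap : pullback g G.t ⟶ G.U := pullback.snd g G.t ≫ G.s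

/-- `ε : U' ⟶ U' ×_{g,U,t} R`, `u' ↦ (u', e (g u'))`. -/
noncomputable def epsMap : U' ⟶ pullback g G.t :=
  pullback.lift (𝟙 U') (g ≫ G.e) (by rw [Category.assoc, G.e_t, Category.comp_id, Category.id_comp])

@[reassoc (attr := simp)]
theorem epsMap_fst : epsMap G g ≫ pullback.fst g G.t = 𝟙 U' := pullback.lift_fst _ _ _

@[reassoc (attr := simp)]
theorem epsMap_snd : epsMap G g ≫ pullback.snd g G.t = g ≫ G.e := pullback.lift_snd _ _ _

/-- the translation map `(u', r, r₂) ↦ (u', r ∘ r₂)`. -/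
noncomputable def translMap : pullback (hMap G g) G.t ⟶ pullback g G.t :=
  pullback.lift (pullback.fst (hMap G g) G.t ≫ pullback.fst g G.t)
    (tc G (pullback.fst (hMap G g) G.t ≫ pullback.snd g G.t) (pullback.snd (hMap G g) G.t))
    (by
      rw [tc_t G _ _ (by simpa [hMap] using pullback.condition (f := hMap G g) (g := G.t))]
      simp only [Category.assoc, pullback.condition])

theorem cond_P : (pullback.fst (hMap G g) G.t ≫ pullback.snd g G.t) ≫ G.s =
    pullback.snd (hMap G g) G.t ≫ G.t := by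
  simpa [hMap] using pullback.condition (f := hMap G g) (g := G.t)

@[reassoc]
theorem translMap_fst : translMap G g ≫ pullback.fst g G.t =
    pullback.fst (hMap G g) G.t ≫ pullback.fst g G.t := pullback.lift_fst _ _ _

@[reassoc]
theorem translMap_snd : translMap G g ≫ pullback.snd g G.t =
    tc G (pullback.fst (hMap G g) G.t ≫ pullback.snd g G.t) (pullback.snd (hMap G g) G.t) :=
  pullback.lift_snd _ _ _

theorem translMap_h : translMap G g ≫ hMap G g = pullback.snd (hMap G g) G.t ≫ G.s := by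
  show translMap G g ≫ pullback.snd g G.t ≫ G.s = _
  rw [translMap_snd_assoc, tc_s G _ _ (cond_P G g)]

/-- The second cartesian square: `P = T ×_{h,U,t} R` is the fibre product of `h` and `s` via the
translation map. -/
theorem isPullback_transl :
    IsPullback (translMap G g) (pullback.snd (hMap G g) G.t) (hMap G g) G.s := by
  -- inverse map
  let q₁ := pullback.fst (hMap G g) G.s
  let q₂ := pullback.snd (hMap G g) G.s
  have hq : (q₁ ≫ pullback.snd g G.t) ≫ G.s = (q₂ ≫ G.i) ≫ G.t := by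
    rw [Category.assoc, Category.assoc, G.i_t]
    simpa [hMap] using pullback.condition (f := hMap G g) (g := G.s)
  have hq' : (q₁ ≫ pullback.snd g G.t) ≫ G.s = q₂ ≫ G.s := by
    rw [Category.assoc]; exact pullback.condition
  let ρ : pullback (hMap G g) G.s ⟶ pullback g G.t :=
    pullback.lift (q₁ ≫ pullback.fst g G.t) (tc G (q₁ ≫ pullback.snd g G.t) (q₂ ≫ G.i))
      (by rw [tc_t G _ _ hq]; simp only [Category.assoc, pullback.condition])
  have hρ1 : ρ ≫ pullback.fst g G.t = q₁ ≫ pullback.fst g G.t := pullback.lift_fst _ _ _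
  have hρ2 : ρ ≫ pullback.snd g G.t = tc G (q₁ ≫ pullback.snd g G.t) (q₂ ≫ G.i) :=
    pullback.lift_snd _ _ _
  have hρh : ρ ≫ hMap G g = q₂ ≫ G.t := by
    show ρ ≫ pullback.snd g G.t ≫ G.s = _
    rw [← Category.assoc, hρ2, tc_s G _ _ hq, Category.assoc, G.i_s]
  let ψ : pullback (hMap G g) G.s ⟶ pullback (hMap G g) G.t := pullback.lift ρ q₂ hρh
  have hψ1 : ψ ≫ pullback.fst (hMap G g) G.t = ρ := pullback.lift_fst _ _ _
  have hψ2 : ψ ≫ pullback.snd (hMap G g) G.t = q₂ := pullback.lift_snd _ _ _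
  let φ : pullback (hMap G g) G.t ⟶ pullback (hMap G g) G.s :=
    pullback.lift (translMap G g) (pullback.snd (hMap G g) G.t) (translMap_h G g)
  have hφ1 : φ ≫ q₁ = translMap G g := pullback.lift_fst _ _ _
  have hφ2 : φ ≫ q₂ = pullback.snd (hMap G g) G.t := pullback.lift_snd _ _ _
  have hφψ : φ ≫ ψ = 𝟙 _ := by
    apply pullback.hom_ext
    · rw [Category.assoc, hψ1, Category.id_comp]
      apply pullback.hom_ext
      · rw [Category.assoc, hρ1, ← Category.assoc, hφ1, translMap_fst]
      · rw [Category.assoc, hρ2, pre_tc G _ _ _ hq, ← Category.assoc, ← Category.assoc, hφ1, hφ2,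
          translMap_snd]
        rw [tc_assoc G _ _ _ (cond_P G g) (by rw [Category.assoc, G.i_t]), tc_i,
          ← Category.assoc, tc_e G _ _ (cond_P G g)]
    · rw [Category.assoc, hψ2, hφ2, Category.id_comp]
  have hψφ : ψ ≫ φ = 𝟙 _ := by
    apply pullback.hom_ext
    · rw [Category.assoc, hφ1, Category.id_comp]
      apply pullback.hom_ext
      · rw [Category.assoc, translMap_fst, ← Category.assoc, hψ1, hρ1]
      · rw [Category.assoc, translMap_snd, pre_tc G _ _ _ (cond_P G g), ← Category.assoc, hψ1, hψ2,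
          hρ2, tc_assoc G _ _ _ hq (by rw [Category.assoc, G.i_s]), i_tc,
          ← Category.assoc, tc_e G _ _ hq']
    · rw [Category.assoc, hφ2, hψ2, Category.id_comp]
  exact IsPullback.of_iso_pullback ⟨translMap_h G g⟩ ⟨φ, ψ, hφψ, hψφ⟩ hφ1 hφ2

/-- the section `z ↦ (z, (pr₂ z)⁻¹)` of `P ⟶ T`. -/
noncomputable def omegaMap : pullback g G.t ⟶ pullback (hMap G g) G.t :=
  pullback.lift (𝟙 _) (pullback.snd g G.t ≫ G.i) (by
    rw [Category.id_comp, Category.assoc, G.i_t])

@[reassoc (attr := simp)]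
theorem omegaMap_fst : omegaMap G g ≫ pullback.fst (hMap G g) G.t = 𝟙 _ := pullback.lift_fst _ _ _

@[reassoc (attr := simp)]
theorem omegaMap_snd : omegaMap G g ≫ pullback.snd (hMap G g) G.t = pullback.snd g G.t ≫ G.i :=
  pullback.lift_snd _ _ _

theorem omegaMap_transl : omegaMap G g ≫ translMap G g = pullback.fst g G.t ≫ epsMap G g := by
  apply pullback.hom_ext
  · rw [Category.assoc, translMap_fst, omegaMap_fst_assoc, Category.assoc, epsMap_fst,
      Category.comp_id]
  · rw [Category.assoc, translMap_snd, pre_tc G _ _ _ (cond_P G g), omegaMap_fst_assoc,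
      omegaMap_snd, tc_i, Category.assoc, epsMap_snd, pullback.condition_assoc]

/-- **Translation invariance.**  A local property `Q` of morphisms at points which is invariant
under flat, locally finitely presented base change (of a fixed locally finite type morphism) holds
for `h` at `z` iff it holds at `ε (pr₁ z)`. -/
theorem transl_iff [Flat G.s] [LocallyOfFinitePresentation G.s] [Flat G.t]
    [LocallyOfFinitePresentation G.t] [LocallyOfFiniteType (hMap G g)]
    (Q : ∀ {X Y : Scheme.{u}} (_ : X ⟶ Y), X → Prop)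
    (hQ : ∀ {X' X Y' Y : Scheme.{u}} {f' : X' ⟶ Y'} {g' : X' ⟶ X} {f : X ⟶ Y} {k : Y' ⟶ Y}
      (_ : IsPullback g' f' f k) [Flat k] [LocallyOfFinitePresentation k]
      [LocallyOfFiniteType f] (x' : X'), Q f' x' ↔ Q f (g' x'))
    (z : ↑(pullback g G.t)) :
    Q (hMap G g) z ↔ Q (hMap G g) (epsMap G g (pullback.fst g G.t z)) := by
  have h1 := hQ (IsPullback.of_hasPullback (hMap G g) G.t) (omegaMap G g z)
  have h2 := hQ (isPullback_transl G g) (omegaMap G g z)
  have e1 : pullback.fst (hMap G g) G.t (omegaMap G g z) = z := by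
    rw [← Scheme.Hom.comp_apply, omegaMap_fst]; rfl
  have e2 : translMap G g (omegaMap G g z) = epsMap G g (pullback.fst g G.t z) := by
    rw [← Scheme.Hom.comp_apply, omegaMap_transl]; rfl
  rw [e1] at h1
  rw [e2] at h2
  exact h1.symm.trans h2

/-- the open immersion `V ×_U R ⟶ U' ×_U R` for an open `V ⊆ U'`. -/
noncomputable def restrMap (V : U'.Opens) : pullback (V.ι ≫ g) G.t ⟶ pullback g G.t :=
  pullback.map (V.ι ≫ g) G.t g G.t V.ι (𝟙 _) (𝟙 _) (by simp) (by simp)

instance (V : U'.Opens) : IsOpenImmersion (restrMap G g V) := by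
  unfold restrMap; infer_instance

@[reassoc]
theorem restrMap_fst (V : U'.Opens) :
    restrMap G g V ≫ pullback.fst g G.t = pullback.fst (V.ι ≫ g) G.t ≫ V.ι :=
  pullback.lift_fst _ _ _

@[reassoc]
theorem restrMap_snd (V : U'.Opens) :
    restrMap G g V ≫ pullback.snd g G.t = pullback.snd (V.ι ≫ g) G.t :=
  (pullback.lift_snd _ _ _).trans (Category.comp_id _)

theorem restrMap_h (V : U'.Opens) : restrMap G g V ≫ hMap G g = hMap G (V.ι ≫ g) := by
  simp [hMap, restrMap_snd_assoc]

/-- **Shrinking.**  If `Q` is open, local on the source, translation invariant and holds for `h` at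
`ε u'`, then after shrinking `U'` to an affine open neighbourhood of `u'` it holds everywhere. -/
theorem exists_shrink [Flat G.s] [LocallyOfFinitePresentation G.s] [Flat G.t]
    [LocallyOfFinitePresentation G.t] [LocallyOfFiniteType (hMap G g)]
    (Q : ∀ {X Y : Scheme.{u}} (_ : X ⟶ Y), X → Prop)
    (hQ : ∀ {X' X Y' Y : Scheme.{u}} {f' : X' ⟶ Y'} {g' : X' ⟶ X} {f : X ⟶ Y} {k : Y' ⟶ Y}
      (_ : IsPullback g' f' f k) [Flat k] [LocallyOfFinitePresentation k]
      [LocallyOfFiniteType f] (x' : X'), Q f' x' ↔ Q f (g' x'))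
    (hQimm : ∀ {X Y Z : Scheme.{u}} (k : X ⟶ Y) [IsOpenImmersion k] (f : Y ⟶ Z)
      [LocallyOfFiniteType f] (x : X),
      Q (k ≫ f) x ↔ Q f (k x))
    (hopen : IsOpen {z : ↑(pullback g G.t) | Q (hMap G g) z})
    (u' : U') (h0 : Q (hMap G g) (epsMap G g u')) :
    ∃ V : U'.Opens, IsAffineOpen V ∧ u' ∈ V ∧
      ∀ z : ↑(pullback (V.ι ≫ g) G.t), Q (hMap G (V.ι ≫ g)) z := by
  let W : U'.Opens := ⟨(epsMap G g) ⁻¹' {z | Q (hMap G g) z}, hopen.preimage (epsMap G g).continuous⟩
  have hu'W : u' ∈ W := h0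
  obtain ⟨_, ⟨V, hV, rfl⟩, hu'V, hVW⟩ :=
    U'.isBasis_affineOpens.exists_subset_of_mem_open hu'W W.2
  change U'.Opens at V
  refine ⟨V, hV, hu'V, fun z => ?_⟩
  rw [← restrMap_h, hQimm, transl_iff G g Q hQ]
  have : pullback.fst g G.t (restrMap G g V z) = V.ι (pullback.fst (V.ι ≫ g) G.t z) := by
    rw [← Scheme.Hom.comp_apply, restrMap_fst]; rfl
  rw [this]
  exact hVW (pullback.fst (V.ι ≫ g) G.t z).2

end Groth.Agent.Lib.helper5.GSlice
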