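import Mathlib
import Groth.Agent.Lib.Helper5.GSlice5

/-!
# The inverse of the restricted groupoid `R' = (U' ×_{g,U,t} R) ×_{h,U,g} U'` (helper5)

`invRestr G g : R' ⟶ R'`, `(u'₁, r, u'₂) ↦ (u'₂, r⁻¹, u'₁)` is an involution exchanging the source
`s' = pr₂` and the target `t' = pr₁ ≫ pr₁`.
-/

set_option autoImplicit false
universe u

open AlgebraicGeometry CategoryTheory CategoryTheory.Limits

namespace Groth.Agent.Lib.helper5.GSlice

open Groth.Agent.Lib.Helper4.GrpdTc

variable {S : Scheme.{u}} (G : Grpd.GroupoidScheme S) {U' : Scheme.{u}} (g : U' ⟶ G.U)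

theorem invRestr_aux1 : pullback.snd (hMap G g) g ≫ g =
    (pullback.fst (hMap G g) g ≫ pullback.snd g G.t ≫ G.i) ≫ G.t := by
  rw [Category.assoc, Category.assoc, G.i_t, ← pullback.condition]

theorem invRestr_aux2 :
    pullback.lift (pullback.snd (hMap G g) g) (pullback.fst (hMap G g) g ≫ pullback.snd g G.t ≫ G.i)
      (invRestr_aux1 G g) ≫ hMap G g = (pullback.fst (hMap G g) g ≫ pullback.fst g G.t) ≫ g := by
  show _ ≫ pullback.snd g G.t ≫ G.s = _
  rw [pullback.lift_snd_assoc, Category.assoc, Category.assoc, G.i_s, Category.assoc,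
    pullback.condition]

/-- the inverse of the restricted groupoid. -/
noncomputable def invRestr : pullback (hMap G g) g ⟶ pullback (hMap G g) g :=
  pullback.lift (pullback.lift (pullback.snd (hMap G g) g)
    (pullback.fst (hMap G g) g ≫ pullback.snd g G.t ≫ G.i) (invRestr_aux1 G g))
    (pullback.fst (hMap G g) g ≫ pullback.fst g G.t) (invRestr_aux2 G g)

@[reassoc]
theorem invRestr_snd : invRestr G g ≫ pullback.snd (hMap G g) g =
    pullback.fst (hMap G g) g ≫ pullback.fst g G.t := pullback.lift_snd _ _ _

@[reassoc]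
theorem invRestr_fst_fst : invRestr G g ≫ pullback.fst (hMap G g) g ≫ pullback.fst g G.t =
    pullback.snd (hMap G g) g := by
  unfold invRestr
  rw [pullback.lift_fst_assoc, pullback.lift_fst]

@[reassoc]
theorem invRestr_fst_snd : invRestr G g ≫ pullback.fst (hMap G g) g ≫ pullback.snd g G.t =
    pullback.fst (hMap G g) g ≫ pullback.snd g G.t ≫ G.i := by
  unfold invRestr
  rw [pullback.lift_fst_assoc, pullback.lift_snd]

@[reassoc (attr := simp)]
theorem invRestr_invRestr : invRestr G g ≫ invRestr G g = 𝟙 _ := by
  apply pullback.hom_ext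
  · apply pullback.hom_ext
    · rw [Category.assoc, Category.assoc, invRestr_fst_fst, invRestr_snd, Category.id_comp]
    · rw [Category.assoc, Category.assoc, invRestr_fst_snd, invRestr_fst_snd_assoc,
        i_i, Category.comp_id, Category.id_comp]
  · rw [Category.assoc, invRestr_snd, invRestr_fst_fst, Category.id_comp]

instance : IsIso (invRestr G g) :=
  ⟨invRestr G g, invRestr_invRestr G g, invRestr_invRestr G g⟩

/-- the target of the restriction is the source composed with the inverse. -/
theorem tRestr_eq : pullback.fst (hMap G g) g ≫ pullback.fst g G.t =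
    invRestr G g ≫ pullback.snd (hMap G g) g := (invRestr_snd G g).symm

end Groth.Agent.Lib.helper5.GSlice
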