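import Mathlib
import Groth.Agent.Lib.Helper5.EqvGrpd1
import Groth.Agent.Lib.Helper5.GSlice11

/-!
# The restriction of an equivalence relation along `σ : U' ⟶ U` (helper5)

For a groupoid `G` and `σ : U' ⟶ G.U`: `R' = (U' ×_{σ,U,t} R) ×_{h,U,σ} U'` with `rsch : R' ⟶ R`,
`ssch tsch : R' ⟶ U'`, lifting property `exists_lift_sch` and extensionality `restr_ext_sch`.

For `h : AlgSp.IsEqvRel s t` and `G = ofEqvRel h`, the restricted relation as objects and morphisms of
`Over S`: `restrU`, `restrG : restrU ⟶ U`, `restrR`, `restrS restrT : restrR ⟶ restrU`,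
`restrRmap : restrR ⟶ R`, with `isEqvRel_restr` and the lifting property `exists_lift_restr`.
-/

set_option autoImplicit false
universe u

open AlgebraicGeometry CategoryTheory CategoryTheory.Limits

namespace Groth.Agent.Lib.helper5.EqvGrpd

open Groth.Agent.Lib.helper5.GSlice

section sch

variable {S : Scheme.{u}} (G : Grpd.GroupoidScheme S) {U' : Scheme.{u}} (σ : U' ⟶ G.U)

/-- the scheme `R'`. -/
noncomputable abbrev restrRsch : Scheme.{u} := pullback (hMap G σ) σ

/-- `R' ⟶ R`. -/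
noncomputable abbrev rsch : restrRsch G σ ⟶ G.R :=
  pullback.fst (hMap G σ) σ ≫ pullback.snd σ G.t

noncomputable abbrev ssch : restrRsch G σ ⟶ U' := pullback.snd (hMap G σ) σ

noncomputable abbrev tsch : restrRsch G σ ⟶ U' :=
  pullback.fst (hMap G σ) σ ≫ pullback.fst σ G.t

theorem rsch_s : rsch G σ ≫ G.s = ssch G σ ≫ σ := by
  rw [Category.assoc]
  exact pullback.condition

theorem rsch_t : rsch G σ ≫ G.t = tsch G σ ≫ σ := by
  rw [Category.assoc, Category.assoc, pullback.condition]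

/-- lifting property of the restriction (scheme level). -/
theorem exists_lift_sch {T : Scheme.{u}} (a b : T ⟶ U') (ρ : T ⟶ G.R)
    (h1 : ρ ≫ G.t = a ≫ σ) (h2 : ρ ≫ G.s = b ≫ σ) :
    ∃ l : T ⟶ restrRsch G σ, l ≫ tsch G σ = a ∧ l ≫ ssch G σ = b ∧ l ≫ rsch G σ = ρ := by
  have w2 : pullback.lift a ρ h1.symm ≫ hMap G σ = b ≫ σ := by
    rw [pullback.lift_snd_assoc, h2]
  refine ⟨pullback.lift (pullback.lift a ρ h1.symm) b w2, ?_, ?_, ?_⟩
  · rw [pullback.lift_fst_assoc, pullback.lift_fst]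
  · rw [pullback.lift_snd]
  · rw [pullback.lift_fst_assoc, pullback.lift_snd]

theorem restr_ext_sch {T : Scheme.{u}} (l l' : T ⟶ restrRsch G σ)
    (ht : l ≫ tsch G σ = l' ≫ tsch G σ) (hs : l ≫ ssch G σ = l' ≫ ssch G σ)
    (hr : l ≫ rsch G σ = l' ≫ rsch G σ) : l = l' := by
  apply pullback.hom_ext
  · apply pullback.hom_ext
    · simpa only [Category.assoc] using ht
    · simpa only [Category.assoc] using hr
  · exact hs

end sch

variable {S : Scheme.{u}} {R U : Over S} {s t : R ⟶ U} (h : AlgSp.IsEqvRel s t)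
  {U' : Scheme.{u}} (σ : U' ⟶ (ofEqvRel h).U)

/-- `U'` over `S`. -/
noncomputable abbrev restrU : Over S := Over.mk (σ ≫ U.hom)

/-- `g : U' ⟶ U` over `S`. -/
noncomputable abbrev restrG : restrU h σ ⟶ U := Over.homMk (U := restrU h σ) (V := U) σ rfl

/-- `R'` over `S`. -/
noncomputable abbrev restrR : Over S := Over.mk (rsch (ofEqvRel h) σ ≫ R.hom)

noncomputable abbrev restrRmap : restrR h σ ⟶ R :=
  Over.homMk (U := restrR h σ) (V := R) (rsch (ofEqvRel h) σ) rfl

theorem restr_w_s : ssch (ofEqvRel h) σ ≫ σ ≫ U.hom = rsch (ofEqvRel h) σ ≫ R.hom := by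
  have h1 := rsch_s (ofEqvRel h) σ
  have h2 : (ofEqvRel h).s ≫ U.hom = R.hom := Over.w s
  rw [← Category.assoc, ← h1, Category.assoc, h2]

theorem restr_w_t : tsch (ofEqvRel h) σ ≫ σ ≫ U.hom = rsch (ofEqvRel h) σ ≫ R.hom := by
  have h1 := rsch_t (ofEqvRel h) σ
  have h2 : (ofEqvRel h).t ≫ U.hom = R.hom := Over.w t
  rw [← Category.assoc, ← h1, Category.assoc, h2]

noncomputable abbrev restrS : restrR h σ ⟶ restrU h σ :=
  Over.homMk (U := restrR h σ) (V := restrU h σ) (ssch (ofEqvRel h) σ) (restr_w_s h σ)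

noncomputable abbrev restrT : restrR h σ ⟶ restrU h σ :=
  Over.homMk (U := restrR h σ) (V := restrU h σ) (tsch (ofEqvRel h) σ) (restr_w_t h σ)

theorem restrRmap_s : restrRmap h σ ≫ s = restrS h σ ≫ restrG h σ := by
  ext; exact rsch_s (ofEqvRel h) σ

theorem restrRmap_t : restrRmap h σ ≫ t = restrT h σ ≫ restrG h σ := by
  ext; exact rsch_t (ofEqvRel h) σ

/-- lifting property of the restriction (over `S`). -/
theorem exists_lift_restr {T : Over S} (a b : T ⟶ restrU h σ) (ρ : T ⟶ R)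
    (h1 : ρ ≫ t = a ≫ restrG h σ) (h2 : ρ ≫ s = b ≫ restrG h σ) :
    ∃ l : T ⟶ restrR h σ, l ≫ restrT h σ = a ∧ l ≫ restrS h σ = b ∧ l ≫ restrRmap h σ = ρ := by
  obtain ⟨l, hl1, hl2, hl3⟩ := exists_lift_sch (ofEqvRel h) σ a.left b.left ρ.left
    (congrArg (fun k => k.left) h1) (congrArg (fun k => k.left) h2)
  have hw : l ≫ rsch (ofEqvRel h) σ ≫ R.hom = T.hom := by
    rw [← Category.assoc, hl3]
    exact Over.w ρ
  refine ⟨Over.homMk (U := T) (V := restrR h σ) l hw, ?_, ?_, ?_⟩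
  · ext; exact hl1
  · ext; exact hl2
  · ext; exact hl3

theorem isEqvRel_restr : AlgSp.IsEqvRel (restrS h σ) (restrT h σ) where
  injective := by
    intro T r₁ r₂ ht hs
    ext
    have ht' : r₁.left ≫ tsch (ofEqvRel h) σ = r₂.left ≫ tsch (ofEqvRel h) σ :=
      congrArg (fun k => k.left) ht
    have hs' : r₁.left ≫ ssch (ofEqvRel h) σ = r₂.left ≫ ssch (ofEqvRel h) σ :=
      congrArg (fun k => k.left) hs
    apply restr_ext_sch (ofEqvRel h) σ _ _ ht' hs'
    apply rel_unique h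
    · have e1 : ∀ r : T.left ⟶ restrRsch (ofEqvRel h) σ,
          (r ≫ rsch (ofEqvRel h) σ) ≫ (ofEqvRel h).t = (r ≫ tsch (ofEqvRel h) σ) ≫ σ := by
        intro r
        exact (Category.assoc _ _ _).trans ((congrArg (fun k => r ≫ k)
          (rsch_t (ofEqvRel h) σ)).trans (Category.assoc _ _ _).symm)
      have := (e1 r₁.left).trans ((congrArg (fun k => k ≫ σ) ht').trans (e1 r₂.left).symm)
      exact this
    · have e1 : ∀ r : T.left ⟶ restrRsch (ofEqvRel h) σ,
          (r ≫ rsch (ofEqvRel h) σ) ≫ (ofEqvRel h).s = (r ≫ ssch (ofEqvRel h) σ) ≫ σ := by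
        intro r
        exact (Category.assoc _ _ _).trans ((congrArg (fun k => r ≫ k)
          (rsch_s (ofEqvRel h) σ)).trans (Category.assoc _ _ _).symm)
      have := (e1 r₁.left).trans ((congrArg (fun k => k ≫ σ) hs').trans (e1 r₂.left).symm)
      exact this
  equivalence := by
    intro T
    have key : ∀ a b : T ⟶ restrU h σ,
        (∃ r : T ⟶ restrR h σ, r ≫ restrT h σ = a ∧ r ≫ restrS h σ = b) ↔
        (∃ r : T ⟶ R, r ≫ t = a ≫ restrG h σ ∧ r ≫ s = b ≫ restrG h σ) := by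
      intro a b
      constructor
      · rintro ⟨r, rfl, rfl⟩
        exact ⟨r ≫ restrRmap h σ, by rw [Category.assoc, restrRmap_t, Category.assoc],
          by rw [Category.assoc, restrRmap_s, Category.assoc]⟩
      · rintro ⟨ρ, h1, h2⟩
        obtain ⟨l, hl1, hl2, -⟩ := exists_lift_restr h σ a b ρ h1 h2
        exact ⟨l, hl1, hl2⟩
    have hE := h.equivalence T
    refine ⟨fun a => (key a a).mpr (hE.refl _), fun {a b} hab => (key b a).mpr
      (hE.symm ((key a b).mp hab)), fun {a b c} hab hbc => (key a c).mpr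
      (hE.trans ((key a b).mp hab) ((key b c).mp hbc))⟩

end Groth.Agent.Lib.helper5.EqvGrpd
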