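import Mathlib
import Groth.Agent.Lib.Helper5.EqvGrpd4
import Groth.Agent.Lib.Helper14.AlgSpQuot4

/-!
# Restricting an fppf equivalence relation along a "slice" induces an isomorphism of quotients (helper5)

* `flat_ssch`, `lfp_ssch`, `lqf_ssch`, `flat_tsch`, `lfp_tsch`, `lqf_tsch`: the source and target of the
  restriction of a groupoid `G` along `σ : U' ⟶ G.U` inherit the properties of `hMap G σ`.
* `quotDescOfRestr`: the map `U'/R' ⟶ U/R` induced by `g : U' ⟶ U`, `r : R' ⟶ R` and its compatibility
  `quotπ_quotDescOfRestr`.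
* `isIso_of_orbMap_surjective`: if `R'` is the restriction of the equivalence relation `R` along `g`
  (lifting property) and the orbit map `U' ×_U R ⟶ U` is flat, lfp and surjective, then any `ψ : U'/R' ⟶ U/R`
  compatible with `g` is an isomorphism.
* `isIso_restr`: the special case of `restrR h σ` with `hMap (ofEqvRel h) σ` flat, lfp and surjective.
-/

set_option autoImplicit false
universe u

open AlgebraicGeometry CategoryTheory CategoryTheory.Limits

namespace Groth.Agent.Lib.helper5.EqvGrpd

open Groth.Agent.Lib.helper5.GSlice Groth.Agent.Lib.Helper14.AlgSpQuot Groth.Agent.Lib.Helper14.RepSh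

section sch

variable {S : Scheme.{u}} (G : Grpd.GroupoidScheme S) {U' : Scheme.{u}} (σ : U' ⟶ G.U)

theorem flat_ssch [Flat (hMap G σ)] : Flat (ssch G σ) :=
  MorphismProperty.pullback_snd _ _ inferInstance

theorem lfp_ssch [LocallyOfFinitePresentation (hMap G σ)] :
    LocallyOfFinitePresentation (ssch G σ) :=
  MorphismProperty.pullback_snd _ _ inferInstance

theorem lqf_ssch [LocallyQuasiFinite (hMap G σ)] : LocallyQuasiFinite (ssch G σ) :=
  MorphismProperty.pullback_snd _ _ inferInstance

theorem tsch_eq : tsch G σ = invRestr G σ ≫ ssch G σ := tRestr_eq G σ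

theorem flat_tsch [Flat (hMap G σ)] : Flat (tsch G σ) := by
  have := flat_ssch G σ
  rw [tsch_eq]
  infer_instance

theorem lfp_tsch [LocallyOfFinitePresentation (hMap G σ)] :
    LocallyOfFinitePresentation (tsch G σ) := by
  have := lfp_ssch G σ
  rw [tsch_eq]
  infer_instance

theorem lqf_tsch [LocallyQuasiFinite (hMap G σ)] : LocallyQuasiFinite (tsch G σ) := by
  have := lqf_ssch G σ
  rw [tsch_eq]
  infer_instance

end sch

variable {S : Scheme.{u}}

section desc

variable {R U R' U' : Over S} (s t : R ⟶ U) (s' t' : R' ⟶ U') (g : U' ⟶ U) (r : R' ⟶ R)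

theorem quotDescOfRestr_aux (hs : r ≫ s = s' ≫ g) (ht : r ≫ t = t' ≫ g) :
    QuotSh.repMap Scheme.fppfPrecoverage s' ≫
      (QuotSh.repMap Scheme.fppfPrecoverage g ≫ QuotSh.quotπ Scheme.fppfPrecoverage s t) =
    QuotSh.repMap Scheme.fppfPrecoverage t' ≫
      (QuotSh.repMap Scheme.fppfPrecoverage g ≫ QuotSh.quotπ Scheme.fppfPrecoverage s t) := by
  rw [← Category.assoc, ← Category.assoc, ← repMap_comp, ← repMap_comp, ← hs, ← ht, repMap_comp,
    repMap_comp, Category.assoc, Category.assoc, QuotSh.quot_condition]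

/-- the map `U'/R' ⟶ U/R` induced by a morphism of pre-relations. -/
noncomputable def quotDescOfRestr (hs : r ≫ s = s' ≫ g) (ht : r ≫ t = t' ≫ g) :
    QuotSh.quot Scheme.fppfPrecoverage s' t' ⟶ QuotSh.quot Scheme.fppfPrecoverage s t :=
  coequalizer.desc
    (QuotSh.repMap Scheme.fppfPrecoverage g ≫ QuotSh.quotπ Scheme.fppfPrecoverage s t)
    (quotDescOfRestr_aux s t s' t' g r hs ht)

theorem quotπ_quotDescOfRestr (hs : r ≫ s = s' ≫ g) (ht : r ≫ t = t' ≫ g) :
    QuotSh.quotπ Scheme.fppfPrecoverage s' t' ≫ quotDescOfRestr s t s' t' g r hs ht =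
      QuotSh.repMap Scheme.fppfPrecoverage g ≫ QuotSh.quotπ Scheme.fppfPrecoverage s t := by
  unfold quotDescOfRestr QuotSh.quotπ
  exact coequalizer.π_desc _ _

end desc

/-- the restriction of an equivalence relation along a map whose orbit map is an fppf covering has the
same quotient sheaf. -/
theorem isIso_of_orbMap_surjective {R U R' U' : Over S} (s t : R ⟶ U) (g : U' ⟶ U)
    (s' t' : R' ⟶ U') (hR : AlgSp.IsEqvRel s t)
    (hlift : ∀ {T : Over S} (a b : T ⟶ U') (ρ : T ⟶ R), ρ ≫ t = a ≫ g → ρ ≫ s = b ≫ g →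
      ∃ l : T ⟶ R', l ≫ t' = a ∧ l ≫ s' = b)
    (hf : Flat (orbMap s t g).left) (hl : LocallyOfFinitePresentation (orbMap s t g).left)
    (hsurj : Function.Surjective (orbMap s t g).left)
    (ψ : QuotSh.quot Scheme.fppfPrecoverage s' t' ⟶ QuotSh.quot Scheme.fppfPrecoverage s t)
    (hψ : QuotSh.quotπ Scheme.fppfPrecoverage s' t' ≫ ψ =
      QuotSh.repMap Scheme.fppfPrecoverage g ≫ QuotSh.quotπ Scheme.fppfPrecoverage s t) :
    IsIso ψ := by
  have hOQ : OpenQuot s t g (quotMap s t) (quotMap s' t') ψ ⊤ :=
    { comm := quotMap_comm s t s' t' g ψ hψ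
      rel := by
        intro T ρ
        rw [Functor.map_comp, Functor.map_comp, Category.assoc, Category.assoc, quotMap_condition]
      ker := by
        intro T x₁ x₂ h
        obtain ⟨ρ, hρ⟩ := (AlgSp.yon S).map_surjective ((isPullback_quotMap hR).lift _ _ h)
        have : relSieve s t x₁ x₂ = ⊤ := by
          rw [← Sieve.id_mem_iff_eq_top]
          refine ⟨ρ, ?_, ?_⟩
          · apply (AlgSp.yon S).map_injective
            rw [Functor.map_comp, hρ, IsPullback.lift_fst, Category.id_comp]
          · apply (AlgSp.yon S).map_injective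
            rw [Functor.map_comp, hρ, IsPullback.lift_snd, Category.id_comp]
        rw [this]
        exact (AlgSp.J S).top_mem _
      ker' := by
        intro T x₁' x₂' ρ h1 h2
        obtain ⟨ρ', e1, e2⟩ := hlift x₁' x₂' ρ h1 h2
        rw [← e1, ← e2, Functor.map_comp, Functor.map_comp, Category.assoc, Category.assoc,
          quotMap_condition]
      memW := fun _ _ _ _ => trivial
      surjW := by
        intro T a _
        apply mem_J_of_forall_exists_flat
        intro τ
        obtain ⟨p, hp⟩ := hsurj (a.left τ)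
        obtain ⟨z, hz1, -⟩ := exists_point_pullback_over a (orbMap s t g) τ p hp.symm
        have sq : IsPullback (pullback.fst a (orbMap s t g)).left
            (pullback.snd a (orbMap s t g)).left a.left (orbMap s t g).left :=
          (IsPullback.of_hasPullback a (orbMap s t g)).map (Over.forget S)
        refine ⟨pullback a (orbMap s t g), pullback.fst a (orbMap s t g),
          ⟨pullback.snd a (orbMap s t g) ≫ pullback.snd g t,
            pullback.snd a (orbMap s t g) ≫ pullback.fst g t, ?_, ?_⟩, ⟨z, hz1⟩, ?_, ?_⟩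
        · rw [Category.assoc, Category.assoc, pullback.condition]
        · rw [Category.assoc, pullback.condition]
        · exact MorphismProperty.of_isPullback (P := @Flat) sq.flip hf
        · exact MorphismProperty.of_isPullback (P := @LocallyOfFinitePresentation) sq.flip hl }
  have hmono := hOQ.mono
  apply isIso_of_mono_of_liftSieve
  intro T η
  have h1 := liftSieve_mem_of_epi (quotMap s t) η
  refine (AlgSp.J S).transitive h1 _ ?_
  rintro T' c ⟨x, hx⟩
  obtain ⟨a, rfl⟩ := (AlgSp.yon S).map_surjective x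
  refine (AlgSp.J S).superset_covering ?_ (hOQ.surjW a (fun _ => trivial))
  rintro T'' d ⟨ρ, u', e1, e2⟩
  refine ⟨(AlgSp.yon S).map u' ≫ quotMap s' t', ?_⟩
  rw [Category.assoc, hOQ.comm, ← Category.assoc, ← Functor.map_comp, ← e1, hOQ.rel ρ, e2,
    Functor.map_comp, Category.assoc, hx, Functor.map_comp, Category.assoc]

/-- the comparison of the orbit map in `Over S` with the scheme-level orbit map. -/
theorem exists_iso_orbMap_left {R U U' : Over S} (s t : R ⟶ U) (g : U' ⟶ U) :
    ∃ e : (pullback g t).left ≅ pullback g.left t.left,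
      (orbMap s t g).left = e.hom ≫ pullback.snd g.left t.left ≫ s.left := by
  have sq : IsPullback (pullback.fst g t).left (pullback.snd g t).left g.left t.left :=
    (IsPullback.of_hasPullback g t).map (Over.forget S)
  refine ⟨sq.isoPullback, ?_⟩
  rw [Over.comp_left, ← Category.assoc, IsPullback.isoPullback_hom_snd]

theorem orbMap_left_props {R U U' : Over S} (s t : R ⟶ U) (g : U' ⟶ U)
    (hf : Flat (pullback.snd g.left t.left ≫ s.left))
    (hl : LocallyOfFinitePresentation (pullback.snd g.left t.left ≫ s.left))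
    (hsurj : Function.Surjective (pullback.snd g.left t.left ≫ s.left)) :
    Flat (orbMap s t g).left ∧ LocallyOfFinitePresentation (orbMap s t g).left ∧
      Function.Surjective (orbMap s t g).left := by
  obtain ⟨e, he⟩ := exists_iso_orbMap_left s t g
  rw [he]
  refine ⟨inferInstance, inferInstance, ?_⟩
  intro x
  obtain ⟨y, rfl⟩ := hsurj x
  exact ⟨e.inv y, by rw [← Scheme.Hom.comp_apply, Iso.inv_hom_id_assoc]⟩

section restr

variable {R U : Over S} {s t : R ⟶ U} (h : AlgSp.IsEqvRel s t)
  {U' : Scheme.{u}} (σ : U' ⟶ (ofEqvRel h).U)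

theorem isIso_restr (hf : Flat (hMap (ofEqvRel h) σ))
    (hl : LocallyOfFinitePresentation (hMap (ofEqvRel h) σ))
    (hsurj : Function.Surjective (hMap (ofEqvRel h) σ))
    (ψ : QuotSh.quot Scheme.fppfPrecoverage (restrS h σ) (restrT h σ) ⟶
      QuotSh.quot Scheme.fppfPrecoverage s t)
    (hψ : QuotSh.quotπ Scheme.fppfPrecoverage (restrS h σ) (restrT h σ) ≫ ψ =
      QuotSh.repMap Scheme.fppfPrecoverage (restrG h σ) ≫
        QuotSh.quotπ Scheme.fppfPrecoverage s t) :
    IsIso ψ := by
  obtain ⟨h1, h2, h3⟩ := orbMap_left_props s t (restrG h σ) hf hl hsurj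
  refine isIso_of_orbMap_surjective s t (restrG h σ) (restrS h σ) (restrT h σ) h ?_ h1 h2 h3 ψ hψ
  intro T a b ρ h1 h2
  obtain ⟨l, hl1, hl2, -⟩ := exists_lift_restr h σ a b ρ h1 h2
  exact ⟨l, hl1, hl2⟩

end restr

end Groth.Agent.Lib.helper5.EqvGrpd
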