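import Mathlib
import Groth.Agent.Lib.Helper5.EqvGrpd5

/-!
# Restrictions of pre-relations over `S` and their quotient sheaves (helper5)

`IsRestr s t g s' t'` : the pre-relation `s', t' : R' ⟶ U'` is the restriction of `s, t : R ⟶ U` along
`g : U' ⟶ U` (there is `r : R' ⟶ R` over `g × g`, and every arrow of `R` between points of `U'` lifts to `R'`).

* `IsRestr.comp`, `IsRestr.equivalence`, `IsRestr.isEqvRel`.
* `IsRestr.desc : U'/R' ⟶ U/R` and `IsRestr.π_desc`.
* `IsRestr.repWith_isOpenImmersion`: for an fppf equivalence relation and `g` flat, locally of finite presentation,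
  `U'/R' ⟶ U/R` is representable by open immersions.
* `IsRestr.isIso`: if the orbit map `U' ×_U R ⟶ U` is flat, lfp and surjective, `U'/R' ⟶ U/R` is an isomorphism.
-/

set_option autoImplicit false
universe u

open AlgebraicGeometry CategoryTheory CategoryTheory.Limits

namespace Groth.Agent.Lib.helper5.EqvRestr

open Groth.Agent.Lib.Helper14.AlgSpQuot Groth.Agent.Lib.Helper14.RepSh Groth.Agent.Lib.helper5.EqvGrpd

variable {S : Scheme.{u}}

/-- `(R', s', t')` is the restriction of the pre-relation `(R, s, t)` along `g : U' ⟶ U`. -/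
structure IsRestr {R U R' U' : Over S} (s t : R ⟶ U) (g : U' ⟶ U) (s' t' : R' ⟶ U') : Prop where
  exists_map : ∃ r : R' ⟶ R, r ≫ s = s' ≫ g ∧ r ≫ t = t' ≫ g
  lift : ∀ {T : Over S} (a b : T ⟶ U') (ρ : T ⟶ R), ρ ≫ t = a ≫ g → ρ ≫ s = b ≫ g →
    ∃ l : T ⟶ R', l ≫ t' = a ∧ l ≫ s' = b

namespace IsRestr

variable {R U R' U' : Over S} {s t : R ⟶ U} {g : U' ⟶ U} {s' t' : R' ⟶ U'}

theorem comp {R'' U'' : Over S} {g' : U'' ⟶ U'} {s'' t'' : R'' ⟶ U''}
    (h : IsRestr s t g s' t') (h' : IsRestr s' t' g' s'' t'') :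
    IsRestr s t (g' ≫ g) s'' t'' := by
  obtain ⟨r, hr1, hr2⟩ := h.exists_map
  obtain ⟨r', hr'1, hr'2⟩ := h'.exists_map
  refine ⟨⟨r' ≫ r, ?_, ?_⟩, ?_⟩
  · rw [Category.assoc, hr1, ← Category.assoc, hr'1, Category.assoc]
  · rw [Category.assoc, hr2, ← Category.assoc, hr'2, Category.assoc]
  · intro T a b ρ h1 h2
    obtain ⟨l, hl1, hl2⟩ := h.lift (a ≫ g') (b ≫ g') ρ (by rw [h1, Category.assoc])
      (by rw [h2, Category.assoc])
    exact h'.lift a b l hl1 hl2

theorem rel_iff (h : IsRestr s t g s' t') {T : Over S} (a b : T ⟶ U') :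
    (∃ r : T ⟶ R', r ≫ t' = a ∧ r ≫ s' = b) ↔
      (∃ ρ : T ⟶ R, ρ ≫ t = a ≫ g ∧ ρ ≫ s = b ≫ g) := by
  obtain ⟨r, hr1, hr2⟩ := h.exists_map
  constructor
  · rintro ⟨l, rfl, rfl⟩
    exact ⟨l ≫ r, by rw [Category.assoc, hr2, Category.assoc],
      by rw [Category.assoc, hr1, Category.assoc]⟩
  · rintro ⟨ρ, h1, h2⟩
    exact h.lift a b ρ h1 h2

theorem equivalence (h : IsRestr s t g s' t') (hR : AlgSp.IsEqvRel s t) (T : Over S) :
    Equivalence (fun a b : T ⟶ U' => ∃ r : T ⟶ R', r ≫ t' = a ∧ r ≫ s' = b) := by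
  have hE := hR.equivalence T
  refine ⟨fun a => (h.rel_iff a a).mpr (hE.refl _), fun {a b} hab => (h.rel_iff b a).mpr
    (hE.symm ((h.rel_iff a b).mp hab)), fun {a b c} hab hbc => (h.rel_iff a c).mpr
    (hE.trans ((h.rel_iff a b).mp hab) ((h.rel_iff b c).mp hbc))⟩

theorem isEqvRel (h : IsRestr s t g s' t') (hR : AlgSp.IsEqvRel s t)
    (hinj : ∀ (T : Over S) (r r' : T ⟶ R'), r ≫ t' = r' ≫ t' → r ≫ s' = r' ≫ s' → r = r') :
    AlgSp.IsEqvRel s' t' :=
  ⟨hinj, h.equivalence hR⟩

/-- the induced map of quotient sheaves `U'/R' ⟶ U/R`. -/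
noncomputable def desc (h : IsRestr s t g s' t') :
    QuotSh.quot Scheme.fppfPrecoverage s' t' ⟶ QuotSh.quot Scheme.fppfPrecoverage s t :=
  quotDescOfRestr s t s' t' g h.exists_map.choose h.exists_map.choose_spec.1
    h.exists_map.choose_spec.2

theorem π_desc (h : IsRestr s t g s' t') :
    QuotSh.quotπ Scheme.fppfPrecoverage s' t' ≫ h.desc =
      QuotSh.repMap Scheme.fppfPrecoverage g ≫ QuotSh.quotπ Scheme.fppfPrecoverage s t :=
  quotπ_quotDescOfRestr s t s' t' g _ _ _

theorem quotMap_desc (h : IsRestr s t g s' t') :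
    quotMap s' t' ≫ h.desc = (AlgSp.yon S).map g ≫ quotMap s t :=
  quotMap_comm s t s' t' g h.desc h.π_desc

/-- the hypotheses of helper14's core lemma hold for a restriction along a flat lfp map. -/
theorem openQuot (h : IsRestr s t g s' t') (hR : AlgSp.IsEqvRel s t)
    [Flat s.left] [LocallyOfFinitePresentation s.left]
    [Flat g.left] [LocallyOfFinitePresentation g.left]
    (φ : QuotSh.quot Scheme.fppfPrecoverage s' t' ⟶ QuotSh.quot Scheme.fppfPrecoverage s t)
    (hφ : QuotSh.quotπ Scheme.fppfPrecoverage s' t' ≫ φ =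
      QuotSh.repMap Scheme.fppfPrecoverage g ≫ QuotSh.quotπ Scheme.fppfPrecoverage s t) :
    OpenQuot s t g (quotMap s t) (quotMap s' t') φ (orbOpen s t g) where
  comm := quotMap_comm s t s' t' g φ hφ
  rel := by
    intro T ρ
    rw [Functor.map_comp, Functor.map_comp, Category.assoc, Category.assoc, quotMap_condition]
  ker := by
    intro T x₁ x₂ hx
    obtain ⟨ρ, hρ⟩ := (AlgSp.yon S).map_surjective ((isPullback_quotMap hR).lift _ _ hx)
    have : relSieve s t x₁ x₂ = ⊤ := by
      rw [← Sieve.id_mem_iff_eq_top]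
      refine ⟨ρ, ?_, ?_⟩
      · apply (AlgSp.yon S).map_injective
        rw [Functor.map_comp, hρ, IsPullback.lift_fst, Category.id_comp]
      · apply (AlgSp.yon S).map_injective
        rw [Functor.map_comp, hρ, IsPullback.lift_snd, Category.id_comp]
    rw [this]
    exact (AlgSp.J S).top_mem _
  ker' := by
    intro T x₁' x₂' ρ h1 h2
    obtain ⟨ρ', e1, e2⟩ := h.lift x₁' x₂' ρ h1 h2
    rw [← e1, ← e2, Functor.map_comp, Functor.map_comp, Category.assoc, Category.assoc,
      quotMap_condition]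
  memW := by
    intro T ρ u' hu τ
    refine ⟨(pullback.lift u' ρ hu.symm).left τ, ?_⟩
    rw [← Scheme.Hom.comp_apply, ← Over.comp_left, orbMap, pullback.lift_snd_assoc]
  surjW := by
    intro T a ha
    have hf := orbMap_left_flat s t g
    have hl := orbMap_left_lfp s t g
    apply mem_J_of_forall_exists_flat
    intro τ
    obtain ⟨p, hp⟩ := ha τ
    obtain ⟨z, hz1, -⟩ := exists_point_pullback_over a (orbMap s t g) τ p hp.symm
    have sq : IsPullback (pullback.fst a (orbMap s t g)).left (pullback.snd a (orbMap s t g)).left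
        a.left (orbMap s t g).left :=
      (IsPullback.of_hasPullback a (orbMap s t g)).map (Over.forget S)
    refine ⟨pullback a (orbMap s t g), pullback.fst a (orbMap s t g),
      ⟨pullback.snd a (orbMap s t g) ≫ pullback.snd g t,
        pullback.snd a (orbMap s t g) ≫ pullback.fst g t, ?_, ?_⟩, ⟨z, hz1⟩, ?_, ?_⟩
    · rw [Category.assoc, Category.assoc, pullback.condition]
    · rw [Category.assoc, pullback.condition]
    · exact MorphismProperty.of_isPullback (P := @Flat) sq.flip hf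
    · exact MorphismProperty.of_isPullback (P := @LocallyOfFinitePresentation) sq.flip hl

/-- `U'/R' ⟶ U/R` is representable by open immersions when `g` is flat and lfp. -/
theorem repWith_isOpenImmersion (h : IsRestr s t g s' t') (hR : AlgSp.IsEqvRel s t)
    [Flat s.left] [LocallyOfFinitePresentation s.left]
    [Flat g.left] [LocallyOfFinitePresentation g.left] :
    AlgSp.RepWith @IsOpenImmersion h.desc :=
  (h.openQuot hR h.desc h.π_desc).repWith

/-- `U'/R' ⟶ U/R` is an isomorphism when the orbit map is an fppf covering. -/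
theorem isIso (h : IsRestr s t g s' t') (hR : AlgSp.IsEqvRel s t)
    (hf : Flat (pullback.snd g.left t.left ≫ s.left))
    (hl : LocallyOfFinitePresentation (pullback.snd g.left t.left ≫ s.left))
    (hsurj : Function.Surjective (pullback.snd g.left t.left ≫ s.left)) :
    IsIso h.desc := by
  obtain ⟨h1, h2, h3⟩ := orbMap_left_props s t g hf hl hsurj
  exact isIso_of_orbMap_surjective s t g s' t' hR (fun a b ρ e1 e2 => h.lift a b ρ e1 e2) h1 h2 h3
    h.desc h.π_desc

end IsRestr

end Groth.Agent.Lib.helper5.EqvRestr
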