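import Mathlib
import Groth.Agent.Lib.Helper5.EqvRestr1
import Groth.Agent.Lib.Helper4.GrpdRestrGen

/-!
# Groupoid schemes as pre-relations over `S` (helper5)

For a groupoid scheme `G` over `S`: `GU G = Over.mk G.pU`, `GR G = Over.mk G.pR`, `Gs G Gt G : GR G ⟶ GU G`.

* `isEqvRel_of_mono_j`: if `j = (t, s)` is a monomorphism then `(Gs G, Gt G)` is an equivalence relation.
* `homU φ : GU G' ⟶ GU G`, `homR φ : GR G' ⟶ GR G` for a morphism of groupoids `φ : G' ⟶ G`.
* `isRestr_of_hom`: if `G'.R` is the base change of `G.j` along `φ.fU × φ.fU` then `(Gs G', Gt G')` is the restriction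
  of `(Gs G, Gt G)` along `homU φ`.
-/

set_option autoImplicit false
universe u

open AlgebraicGeometry CategoryTheory CategoryTheory.Limits

namespace Groth.Agent.Lib.helper5.EqvRestr

open Groth.Agent.S7457 Groth.Agent.Lib.Helper4.GrpdRestrGen

variable {S : Scheme.{u}}

section rel

variable (G : Grpd.GroupoidScheme S)

/-- the objects of `G` over `S`. -/
abbrev GU : Over S := Over.mk G.pU

/-- the arrows of `G` over `S`. -/
abbrev GR : Over S := Over.mk G.pR

/-- the source map over `S`. -/
abbrev Gs : GR G ⟶ GU G := Over.homMk (U := GR G) (V := GU G) G.s G.s_over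

/-- the target map over `S`. -/
abbrev Gt : GR G ⟶ GU G := Over.homMk (U := GR G) (V := GU G) G.t G.t_over

theorem e_pR : G.e ≫ G.pR = G.pU := by
  rw [← G.s_over, ← Category.assoc, G.e_s, Category.id_comp]

theorem i_pR : G.i ≫ G.pR = G.pR := by
  calc G.i ≫ G.pR = G.i ≫ G.s ≫ G.pU := by rw [G.s_over]
    _ = G.t ≫ G.pU := by rw [← Category.assoc, G.i_s]
    _ = G.pR := G.t_over

theorem j_fst' : G.j ≫ pullback.fst G.pU G.pU = G.t := pullback.lift_fst _ _ _

theorem j_snd' : G.j ≫ pullback.snd G.pU G.pU = G.s := pullback.lift_snd _ _ _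

theorem eq_of_mono_j [Mono G.j] {T : Scheme.{u}} (r r' : T ⟶ G.R) (ht : r ≫ G.t = r' ≫ G.t)
    (hs : r ≫ G.s = r' ≫ G.s) : r = r' := by
  rw [← cancel_mono G.j]
  apply pullback.hom_ext
  · rw [Category.assoc, Category.assoc, j_fst', ht]
  · rw [Category.assoc, Category.assoc, j_snd', hs]

/-- a groupoid scheme with `j` a monomorphism is an equivalence relation over `S`. -/
theorem isEqvRel_of_mono_j [Mono G.j] : AlgSp.IsEqvRel (Gs G) (Gt G) where
  injective := by
    intro T r r' ht hs
    ext
    exact eq_of_mono_j G r.left r'.left (congrArg (fun k => k.left) ht)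
      (congrArg (fun k => k.left) hs)
  equivalence := by
    intro T
    refine ⟨?_, ?_, ?_⟩
    · intro a
      have hw : (a.left ≫ G.e) ≫ G.pR = T.hom := by
        rw [Category.assoc, e_pR]
        exact Over.w a
      refine ⟨Over.homMk (U := T) (V := GR G) (a.left ≫ G.e) hw, ?_, ?_⟩
      · ext
        change (a.left ≫ G.e) ≫ G.t = a.left
        rw [Category.assoc, G.e_t]
        exact Category.comp_id _
      · ext
        change (a.left ≫ G.e) ≫ G.s = a.left
        rw [Category.assoc, G.e_s]
        exact Category.comp_id _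
    · rintro a b ⟨r, rfl, rfl⟩
      have hw : (r.left ≫ G.i) ≫ G.pR = T.hom := by
        rw [Category.assoc, i_pR]
        exact Over.w r
      refine ⟨Over.homMk (U := T) (V := GR G) (r.left ≫ G.i) hw, ?_, ?_⟩
      · ext
        change (r.left ≫ G.i) ≫ G.t = r.left ≫ G.s
        rw [Category.assoc, G.i_t]
      · ext
        change (r.left ≫ G.i) ≫ G.s = r.left ≫ G.t
        rw [Category.assoc, G.i_s]
    · rintro a b c ⟨r₁, rfl, hb⟩ ⟨r₂, hb', rfl⟩
      have hcomp : r₁.left ≫ G.s = r₂.left ≫ G.t := by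
        have := hb.trans hb'.symm
        exact congrArg (fun k => k.left) this
      have hw : cmp G r₁.left r₂.left hcomp ≫ G.pR = T.hom := by
        rw [← G.s_over, ← Category.assoc, cmp_s, Category.assoc, G.s_over]
        exact Over.w r₂
      refine ⟨Over.homMk (U := T) (V := GR G) (cmp G r₁.left r₂.left hcomp) hw, ?_, ?_⟩
      · ext
        exact cmp_t G _ _ _
      · ext
        exact cmp_s G _ _ _

end rel

section hom

variable {G' G : Grpd.GroupoidScheme S} (φ : Grpd.GroupoidScheme.Hom G' G)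

theorem fR_over : φ.fR ≫ G.pR = G'.pR := by
  rw [← G.s_over, ← Category.assoc, φ.comm_s, Category.assoc, φ.fU_over, G'.s_over]

/-- the map on objects over `S`. -/
abbrev homU : GU G' ⟶ GU G := Over.homMk (U := GU G') (V := GU G) φ.fU φ.fU_over

/-- the map on arrows over `S`. -/
abbrev homR : GR G' ⟶ GR G := Over.homMk (U := GR G') (V := GR G) φ.fR (fR_over φ)

theorem homR_s : homR φ ≫ Gs G = Gs G' ≫ homU φ := by
  ext
  exact φ.comm_s

theorem homR_t : homR φ ≫ Gt G = Gt G' ≫ homU φ := by
  ext
  exact φ.comm_t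

/-- lifting property of a cartesian morphism of groupoids. -/
theorem exists_lift_of_isPullback
    (hpb : IsPullback φ.fR G'.j G.j
      (pullback.map G'.pU G'.pU G.pU G.pU φ.fU φ.fU (𝟙 S)
        ((Category.comp_id _).trans φ.fU_over.symm) ((Category.comp_id _).trans φ.fU_over.symm)))
    {T : Scheme.{u}} (a b : T ⟶ G'.U) (ρ : T ⟶ G.R) (h1 : ρ ≫ G.t = a ≫ φ.fU)
    (h2 : ρ ≫ G.s = b ≫ φ.fU) :
    ∃ l : T ⟶ G'.R, l ≫ G'.t = a ∧ l ≫ G'.s = b ∧ l ≫ φ.fR = ρ := by
  have hab : a ≫ G'.pU = b ≫ G'.pU := by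
    rw [← φ.fU_over, ← Category.assoc, ← h1, ← Category.assoc, ← h2, Category.assoc,
      Category.assoc, G.t_over, G.s_over]
  have hw : ρ ≫ G.j = pullback.lift a b hab ≫
      pullback.map G'.pU G'.pU G.pU G.pU φ.fU φ.fU (𝟙 S)
        ((Category.comp_id _).trans φ.fU_over.symm) ((Category.comp_id _).trans φ.fU_over.symm) := by
    apply pullback.hom_ext
    · rw [Category.assoc, Category.assoc, j_fst', pullback.lift_fst, pullback.lift_fst_assoc, h1]
    · rw [Category.assoc, Category.assoc, j_snd', pullback.lift_snd, pullback.lift_snd_assoc, h2]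
  refine ⟨hpb.lift ρ (pullback.lift a b hab) hw, ?_, ?_, hpb.lift_fst _ _ _⟩
  · have := congrArg (fun k => k ≫ pullback.fst G'.pU G'.pU) (hpb.lift_snd ρ _ hw)
    simp only [Category.assoc, j_fst', pullback.lift_fst] at this
    exact this
  · have := congrArg (fun k => k ≫ pullback.snd G'.pU G'.pU) (hpb.lift_snd ρ _ hw)
    simp only [Category.assoc, j_snd', pullback.lift_snd] at this
    exact this

/-- a cartesian morphism of groupoids exhibits the source as a restriction of the target. -/
theorem isRestr_of_hom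
    (hpb : IsPullback φ.fR G'.j G.j
      (pullback.map G'.pU G'.pU G.pU G.pU φ.fU φ.fU (𝟙 S)
        ((Category.comp_id _).trans φ.fU_over.symm) ((Category.comp_id _).trans φ.fU_over.symm))) :
    IsRestr (Gs G) (Gt G) (homU φ) (Gs G') (Gt G') where
  exists_map := ⟨homR φ, homR_s φ, homR_t φ⟩
  lift := by
    intro T a b ρ h1 h2
    obtain ⟨l, hl1, hl2, hl3⟩ := exists_lift_of_isPullback φ hpb a.left b.left ρ.left
      (congrArg (fun k => k.left) h1) (congrArg (fun k => k.left) h2)
    have hw : l ≫ G'.pR = T.hom := by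
      rw [← G'.s_over, ← Category.assoc, hl2]
      exact Over.w b
    refine ⟨Over.homMk (U := T) (V := GR G') l hw, ?_, ?_⟩
    · ext
      exact hl1
    · ext
      exact hl2

/-- `j` of a cartesian morphism of groupoids is a monomorphism if the one of the target is. -/
theorem mono_j_of_isPullback
    (hpb : IsPullback φ.fR G'.j G.j
      (pullback.map G'.pU G'.pU G.pU G.pU φ.fU φ.fU (𝟙 S)
        ((Category.comp_id _).trans φ.fU_over.symm) ((Category.comp_id _).trans φ.fU_over.symm)))
    [Mono G.j] : Mono G'.j :=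
  PullbackCone.mono_snd_of_is_pullback_of_mono hpb.isLimit

end hom

end Groth.Agent.Lib.helper5.EqvRestr
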