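import Mathlib
import Groth.Agent.Lib.Helper5.EqvRestr2
import Groth.Prelude.Def_Dual3

/-!
# Properties of the source and target of a restricted groupoid (helper5)

* `restrData G σ : RestrDataG G σ`: helper5's model `(U' ×_{σ,U,t} R) ×_{h,U,σ} U'` as restriction data.
* `RestrDataG.exists_iso'`: two restriction data along the same morphism are isomorphic.
* `dataOfHom φ hpb`: a cartesian morphism of groupoids `φ : G' ⟶ G` as restriction data along `φ.fU`.
* `prop_sW_tW`, `prop_s_t_of_hom`: if `σ` and `G.s` have a property `P` (stable under base change and composition) then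
  so do the source and target of the restriction.
* `isSeparated_s_of_isAffine`, `locallyOfFiniteType_j`, `locallyQuasiFinite_j`, `quasiFiniteAt_of_locallyQuasiFinite`.
-/

set_option autoImplicit false
universe u

open AlgebraicGeometry CategoryTheory CategoryTheory.Limits

namespace Groth.Agent.Lib.helper5.EqvRestr

open Groth.Agent.S7457 Groth.Agent.Lib.Helper4.GrpdRestrGen Groth.Agent.Lib.helper5.GSlice
  Groth.Agent.Lib.helper5.EqvGrpd

variable {S : Scheme.{u}}

section data

variable (G : Grpd.GroupoidScheme S) {W : Scheme.{u}} (σ : W ⟶ G.U)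

/-- helper5's model of the restriction as restriction data. -/
noncomputable def restrData : RestrDataG G σ where
  RW := restrRsch G σ
  ιR := rsch G σ
  sW := ssch G σ
  tW := tsch G σ
  ιR_s := rsch_s G σ
  ιR_t := rsch_t G σ
  ex := by
    intro T α a b hs ht
    obtain ⟨l, h1, h2, h3⟩ := exists_lift_sch G σ b a α ht hs
    exact ⟨l, h3, h2, h1⟩
  ext := by
    intro T l l' h1 h2 h3
    exact restr_ext_sch G σ l l' h3 h2 h1

variable {G σ}

/-- two restriction data along the same morphism are isomorphic. -/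
theorem exists_iso' (d d' : RestrDataG G σ) :
    ∃ e : d.RW ≅ d'.RW, e.hom ≫ d'.ιR = d.ιR ∧ e.hom ≫ d'.sW = d.sW ∧ e.hom ≫ d'.tW = d.tW := by
  obtain ⟨f, hf1, hf2, hf3⟩ := d'.ex d.ιR d.sW d.tW d.ιR_s d.ιR_t
  obtain ⟨g, hg1, hg2, hg3⟩ := d.ex d'.ιR d'.sW d'.tW d'.ιR_s d'.ιR_t
  refine ⟨⟨f, g, ?_, ?_⟩, hf1, hf2, hf3⟩
  · apply d.ext
    · rw [Category.assoc, hg1, hf1, Category.id_comp]
    · rw [Category.assoc, hg2, hf2, Category.id_comp]
    · rw [Category.assoc, hg3, hf3, Category.id_comp]
  · apply d'.ext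
    · rw [Category.assoc, hf1, hg1, Category.id_comp]
    · rw [Category.assoc, hf2, hg2, Category.id_comp]
    · rw [Category.assoc, hf3, hg3, Category.id_comp]

/-- the source and target of a restriction inherit the properties of `σ` and `G.s`. -/
theorem prop_sW_tW (P : MorphismProperty Scheme.{u}) [P.RespectsIso] [P.IsStableUnderBaseChange]
    [P.IsStableUnderComposition] (d : RestrDataG G σ) (hσ : P σ) (hs : P G.s) :
    P d.sW ∧ P d.tW := by
  have hh : P (hMap G σ) := P.comp_mem _ _ (P.pullback_snd _ _ hσ) hs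
  have h1 : P (ssch G σ) := P.pullback_snd _ _ hh
  have h2 : P (tsch G σ) := by
    rw [tsch_eq]
    exact (P.cancel_left_of_respectsIso _ _).mpr h1
  obtain ⟨e, -, he2, he3⟩ := exists_iso' d (restrData G σ)
  constructor
  · rw [← he2]
    exact (P.cancel_left_of_respectsIso e.hom _).mpr h1
  · rw [← he3]
    exact (P.cancel_left_of_respectsIso e.hom _).mpr h2

end data

section hom

variable {G' G : Grpd.GroupoidScheme S} (φ : Grpd.GroupoidScheme.Hom G' G)
  (hpb : IsPullback φ.fR G'.j G.j
      (pullback.map G'.pU G'.pU G.pU G.pU φ.fU φ.fU (𝟙 S)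
        ((Category.comp_id _).trans φ.fU_over.symm) ((Category.comp_id _).trans φ.fU_over.symm)))

include hpb in
theorem ext_of_isPullback {T : Scheme.{u}} (l l' : T ⟶ G'.R) (h1 : l ≫ φ.fR = l' ≫ φ.fR)
    (h2 : l ≫ G'.s = l' ≫ G'.s) (h3 : l ≫ G'.t = l' ≫ G'.t) : l = l' := by
  apply hpb.hom_ext h1
  apply pullback.hom_ext
  · rw [Category.assoc, Category.assoc, j_fst', h3]
  · rw [Category.assoc, Category.assoc, j_snd', h2]

/-- a cartesian morphism of groupoids as restriction data. -/
noncomputable def dataOfHom : RestrDataG G φ.fU where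
  RW := G'.R
  ιR := φ.fR
  sW := G'.s
  tW := G'.t
  ιR_s := φ.comm_s
  ιR_t := φ.comm_t
  ex := by
    intro T α a b hs ht
    obtain ⟨l, h1, h2, h3⟩ := exists_lift_of_isPullback φ hpb b a α ht hs
    exact ⟨l, h3, h2, h1⟩
  ext := by
    intro T l l' h1 h2 h3
    exact ext_of_isPullback φ hpb l l' h1 h2 h3

include hpb in
theorem prop_s_t_of_hom (P : MorphismProperty Scheme.{u}) [P.RespectsIso]
    [P.IsStableUnderBaseChange] [P.IsStableUnderComposition] (hφ : P φ.fU) (hs : P G.s) :
    P G'.s ∧ P G'.t :=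
  prop_sW_tW P (dataOfHom φ hpb) hφ hs

end hom

section misc

variable (G : Grpd.GroupoidScheme S)

theorem s_eq_j_snd : G.s = G.j ≫ pullback.snd G.pU G.pU := (j_snd' G).symm

theorem t_eq_j_fst : G.t = G.j ≫ pullback.fst G.pU G.pU := (j_fst' G).symm

theorem isSeparated_s_of_isAffine [IsAffine G.U] [Mono G.j] : IsSeparated G.s := by
  rw [s_eq_j_snd]
  infer_instance

theorem isSeparated_t_of_isAffine [IsAffine G.U] [Mono G.j] : IsSeparated G.t := by
  rw [t_eq_j_fst]
  infer_instance

theorem locallyOfFiniteType_j [LocallyOfFiniteType G.s] : LocallyOfFiniteType G.j := by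
  haveI : LocallyOfFiniteType (G.j ≫ pullback.snd G.pU G.pU) := by
    rw [j_snd']
    infer_instance
  exact locallyOfFiniteType_of_comp G.j (pullback.snd G.pU G.pU)

theorem locallyQuasiFinite_j [LocallyOfFiniteType G.s] [Mono G.j] : LocallyQuasiFinite G.j := by
  haveI := locallyOfFiniteType_j G
  exact LocallyQuasiFinite.of_injective (Scheme.Hom.injective G.j)

theorem quasiFiniteAt_of_locallyQuasiFinite {X Y : Scheme.{u}} (f : X ⟶ Y) [LocallyOfFiniteType f]
    [LocallyQuasiFinite f] (x : X) : Dual3.QuasiFiniteAt f x :=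
  Scheme.Hom.quasiFiniteAt_iff_isOpen_singleton_asFiber.mp (f.quasiFiniteAt x)

end misc

end Groth.Agent.Lib.helper5.EqvRestr
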