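import Groth.Agent.Lib.Helper5.FppfSource3
import Mathlib.AlgebraicGeometry.Morphisms.FinitePresentation
import Mathlib.AlgebraicGeometry.Morphisms.Flat
import Mathlib.AlgebraicGeometry.Morphisms.UniversallyOpen
import Mathlib.AlgebraicGeometry.Sites.Fpqc

/-!
# Finite type / finite presentation are fppf local on the source, for schemes (helper5)

* `ringHom_finiteType_of_comp`, `ringHom_finitePresentation_of_comp`
* `comap_appLE_surjective`
* `exists_affine_finiteType`, `exists_affine_finitePresentation` : pointwise statement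
* `locallyOfFiniteType_of_comp`, `locallyOfFinitePresentation_of_comp`
-/

set_option autoImplicit false
universe u
open AlgebraicGeometry CategoryTheory TopologicalSpace

namespace Groth.Agent.Lib.helper5.FppfSource

section RingHom

variable {R A B : Type u} [CommRing R] [CommRing A] [CommRing B]

theorem ringHom_finiteType_of_comp (f : R →+* A) (g : A →+* B) (hfl : g.Flat)
    (hfp : g.FinitePresentation) (hs : Function.Surjective (PrimeSpectrum.comap g))
    (h : (g.comp f).FiniteType) : f.FiniteType := by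
  algebraize [f, g, g.comp f]
  haveI : Module.FaithfullyFlat A B := Module.FaithfullyFlat.of_comap_surjective hs
  exact finiteType_of_faithfullyFlat (R := R) (A := A) (B := B)

theorem ringHom_finitePresentation_of_comp (f : R →+* A) (g : A →+* B) (hfl : g.Flat)
    (hfp : g.FinitePresentation) (hs : Function.Surjective (PrimeSpectrum.comap g))
    (h : (g.comp f).FinitePresentation) : f.FinitePresentation := by
  algebraize [f, g, g.comp f]
  haveI : Module.FaithfullyFlat A B := Module.FaithfullyFlat.of_comap_surjective hs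
  exact finitePresentation_of_faithfullyFlat (R := R) (A := A) (B := B)

end RingHom

section Scheme

variable {U X Y : Scheme.{u}}

/-- surjectivity on spectra of `appLE` from surjectivity on points. -/
theorem comap_appLE_surjective (g : U ⟶ X) {W : X.Opens} {U₁ : U.Opens} (hW : IsAffineOpen W)
    (hU₁ : IsAffineOpen U₁) (e : U₁ ≤ g ⁻¹ᵁ W) (h : ∀ w ∈ W, ∃ u' ∈ U₁, g u' = w) :
    Function.Surjective (PrimeSpectrum.comap (g.appLE W U₁ e).hom) := by
  intro p
  have hw : hW.fromSpec p ∈ W := by
    rw [← SetLike.mem_coe, ← hW.range_fromSpec]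
    exact ⟨p, rfl⟩
  obtain ⟨u', hu', hgu'⟩ := h _ hw
  have hu'' : u' ∈ Set.range hU₁.fromSpec := by
    rw [hU₁.range_fromSpec]
    exact hu'
  obtain ⟨q, rfl⟩ := hu''
  refine ⟨q, ?_⟩
  have hsq := IsAffineOpen.SpecMap_appLE_fromSpec g hW hU₁ e
  have h2 : hW.fromSpec (Spec.map (g.appLE W U₁ e) q) = hW.fromSpec p := by
    rw [← Scheme.Hom.comp_apply, hsq, Scheme.Hom.comp_apply, hgu']
  exact hW.fromSpec.isOpenEmbedding.injective h2

/-- **Pointwise form.** If `g : U ⟶ X` is flat and locally of finite presentation and `g ≫ f` has the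
property `P` (induced by `Q`), where `Q` descends along faithfully flat finitely presented ring maps
on the source, then `f` satisfies `Q` on an affine neighbourhood of every point of the image of `g`. -/
theorem exists_affine_of_comp {P : MorphismProperty Scheme.{u}}
    {Q : ∀ {R S : Type u} [CommRing R] [CommRing S], (R →+* S) → Prop} [HasRingHomProperty P Q]
    (hQ : ∀ {R A B : Type u} [CommRing R] [CommRing A] [CommRing B] (f : R →+* A) (g : A →+* B),
      g.Flat → g.FinitePresentation → Function.Surjective (PrimeSpectrum.comap g) →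
      Q (g.comp f) → Q f)
    (g : U ⟶ X) (f : X ⟶ Y) [Flat g] [LocallyOfFinitePresentation g] (h : P (g ≫ f)) (u : U) :
    ∃ (V : Y.affineOpens) (W : X.affineOpens) (_ : g u ∈ W.1) (e : W.1 ≤ f ⁻¹ᵁ V.1),
      Q (f.appLE V W e).hom := by
  obtain ⟨V, hV, hfV, -⟩ := Opens.isBasis_iff_nbhd.mp Y.isBasis_affineOpens
    (Opens.mem_top (f (g u)))
  obtain ⟨W₀, hW₀, hgW₀, eW₀⟩ := Opens.isBasis_iff_nbhd.mp X.isBasis_affineOpens
    (show g u ∈ f ⁻¹ᵁ V from hfV)
  obtain ⟨U₀, hU₀, huU₀, eU₀⟩ := Opens.isBasis_iff_nbhd.mp U.isBasis_affineOpens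
    (show u ∈ g ⁻¹ᵁ W₀ from hgW₀)
  let O : X.Opens := ⟨g '' U₀, g.isOpenMap _ U₀.isOpen⟩
  have hgO : g u ∈ O := ⟨u, huU₀, rfl⟩
  obtain ⟨a, haO, hga⟩ := hW₀.exists_basicOpen_le (V := O) ⟨g u, hgO⟩ hgW₀
  have hW : IsAffineOpen (X.basicOpen a) := hW₀.basicOpen a
  have hU₁ : IsAffineOpen (U.basicOpen (g.appLE W₀ U₀ eU₀ a)) := hU₀.basicOpen _
  have hU₁eq : U.basicOpen (g.appLE W₀ U₀ eU₀ a) = U₀ ⊓ g ⁻¹ᵁ (X.basicOpen a) :=
    Scheme.basicOpen_appLE g U₀ W₀ eU₀ a
  have e₁ : U.basicOpen (g.appLE W₀ U₀ eU₀ a) ≤ g ⁻¹ᵁ (X.basicOpen a) := by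
    rw [hU₁eq]; exact inf_le_right
  have eW : X.basicOpen a ≤ f ⁻¹ᵁ V := (X.basicOpen_le a).trans eW₀
  refine ⟨⟨V, hV⟩, ⟨X.basicOpen a, hW⟩, hga, eW, ?_⟩
  apply hQ (f.appLE V _ eW).hom (g.appLE _ _ e₁).hom
  · exact HasRingHomProperty.appLE @Flat g inferInstance ⟨_, hW⟩ ⟨_, hU₁⟩ e₁
  · exact HasRingHomProperty.appLE @LocallyOfFinitePresentation g inferInstance
      ⟨_, hW⟩ ⟨_, hU₁⟩ e₁
  · apply comap_appLE_surjective g hW hU₁ e₁
    intro w hw
    obtain ⟨u', hu', rfl⟩ := haO hw
    exact ⟨u', by rw [hU₁eq]; exact ⟨hu', hw⟩, rfl⟩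
  · rw [← CommRingCat.hom_comp, Scheme.Hom.appLE_comp_appLE]
    exact HasRingHomProperty.appLE P (g ≫ f) h ⟨V, hV⟩ ⟨_, hU₁⟩ _

/-- family form. -/
theorem of_jointly_surjective {P : MorphismProperty Scheme.{u}}
    {Q : ∀ {R S : Type u} [CommRing R] [CommRing S], (R →+* S) → Prop} [HasRingHomProperty P Q]
    (hQ : ∀ {R A B : Type u} [CommRing R] [CommRing A] [CommRing B] (f : R →+* A) (g : A →+* B),
      g.Flat → g.FinitePresentation → Function.Surjective (PrimeSpectrum.comap g) →
      Q (g.comp f) → Q f)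
    (hQs : RingHom.StableUnderCompositionWithLocalizationAwaySource Q)
    (f : X ⟶ Y) {ι : Type*} (T : ι → Scheme.{u}) (g : ∀ i, T i ⟶ X)
    (hfl : ∀ i, Flat (g i)) (hfp : ∀ i, LocallyOfFinitePresentation (g i))
    (hsurj : ∀ x : X, ∃ i, ∃ t : T i, g i t = x) (h : ∀ i, P (g i ≫ f)) : P f := by
  rw [HasRingHomProperty.iff_exists_appLE (P := P) hQs]
  intro x
  obtain ⟨i, t, rfl⟩ := hsurj x
  haveI := hfl i
  haveI := hfp i
  exact exists_affine_of_comp (P := P) hQ (g i) f (h i) t

theorem finiteType_stable :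
    RingHom.StableUnderCompositionWithLocalizationAwaySource @RingHom.FiniteType :=
  (RingHom.finiteType_stableUnderComposition.stableUnderCompositionWithLocalizationAway
    RingHom.finiteType_holdsForLocalizationAway).left

theorem finitePresentation_stable :
    RingHom.StableUnderCompositionWithLocalizationAwaySource @RingHom.FinitePresentation :=
  (RingHom.finitePresentation_stableUnderComposition.stableUnderCompositionWithLocalizationAway
    RingHom.finitePresentation_holdsForLocalizationAway).left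

/-- **Local finite type descends along an fppf cover of the source.** -/
theorem locallyOfFiniteType_of_comp (f : X ⟶ Y) {S : Scheme.{u}} (q : Y ⟶ S) [Surjective f] [Flat f]
    [LocallyOfFinitePresentation f] [LocallyOfFiniteType (f ≫ q)] : LocallyOfFiniteType q :=
  of_jointly_surjective (P := @LocallyOfFiniteType) (Q := @RingHom.FiniteType)
    (fun f g => ringHom_finiteType_of_comp f g) finiteType_stable q (fun _ : Unit => X)
    (fun _ => f) (fun _ => inferInstance) (fun _ => inferInstance)
    (fun y => ⟨(), f.surjective y⟩) (fun _ => inferInstance)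

/-- **Local finite presentation descends along an fppf cover of the source.** -/
theorem locallyOfFinitePresentation_of_comp (f : X ⟶ Y) {S : Scheme.{u}} (q : Y ⟶ S) [Surjective f]
    [Flat f] [LocallyOfFinitePresentation f] [LocallyOfFinitePresentation (f ≫ q)] :
    LocallyOfFinitePresentation q :=
  of_jointly_surjective (P := @LocallyOfFinitePresentation) (Q := @RingHom.FinitePresentation)
    (fun f g => ringHom_finitePresentation_of_comp f g) finitePresentation_stable q
    (fun _ : Unit => X) (fun _ => f) (fun _ => inferInstance) (fun _ => inferInstance)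
    (fun y => ⟨(), f.surjective y⟩) (fun _ => inferInstance)

/-- fppf locality on the source of a property induced by `Q`. -/
theorem isLocalAtSource_fppf {P : MorphismProperty Scheme.{u}}
    {Q : ∀ {R S : Type u} [CommRing R] [CommRing S], (R →+* S) → Prop} [HasRingHomProperty P Q]
    (hQ : ∀ {R A B : Type u} [CommRing R] [CommRing A] [CommRing B] (f : R →+* A) (g : A →+* B),
      g.Flat → g.FinitePresentation → Function.Surjective (PrimeSpectrum.comap g) →
      Q (g.comp f) → Q f)
    (hQs : RingHom.StableUnderCompositionWithLocalizationAwaySource Q)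
    (hcomp : ∀ {X Y Z : Scheme.{u}} (g : X ⟶ Y) (f : Y ⟶ Z), Flat g →
      LocallyOfFinitePresentation g → P f → P (g ≫ f)) :
    P.IsLocalAtSource Scheme.fppfPrecoverage := by
  haveI : P.RespectsIso := inferInstance
  refine .mk_of_iff_of_zeroHypercover fun {X Y} f 𝒰 => ?_
  have h𝒰 : Presieve.ofArrows 𝒰.X 𝒰.f ∈
      Scheme.precoverage (@Flat ⊓ @LocallyOfFinitePresentation) X := 𝒰.mem₀
  rw [Scheme.ofArrows_mem_precoverage_iff] at h𝒰
  obtain ⟨hsurj, hP⟩ := h𝒰
  constructor
  · intro hf i
    exact hcomp (𝒰.f i) f (hP i).1 (hP i).2 hf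
  · intro h
    exact of_jointly_surjective (P := P) hQ hQs f 𝒰.X 𝒰.f (fun i => (hP i).1) (fun i => (hP i).2)
      hsurj h

theorem isLocalAtSource_fppf_locallyOfFiniteType :
    MorphismProperty.IsLocalAtSource (@LocallyOfFiniteType : MorphismProperty Scheme.{u})
      Scheme.fppfPrecoverage :=
  isLocalAtSource_fppf (P := @LocallyOfFiniteType) (Q := @RingHom.FiniteType)
    (fun f g => ringHom_finiteType_of_comp f g) finiteType_stable
    (fun g f _ _ hf => by
      haveI : LocallyOfFiniteType f := hf
      infer_instance)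

theorem isLocalAtSource_fppf_locallyOfFinitePresentation :
    MorphismProperty.IsLocalAtSource (@LocallyOfFinitePresentation : MorphismProperty Scheme.{u})
      Scheme.fppfPrecoverage :=
  isLocalAtSource_fppf (P := @LocallyOfFinitePresentation) (Q := @RingHom.FinitePresentation)
    (fun f g => ringHom_finitePresentation_of_comp f g) finitePresentation_stable
    (fun g f _ _ hf => by
      haveI : LocallyOfFinitePresentation f := hf
      infer_instance)

end Scheme

end Groth.Agent.Lib.helper5.FppfSource
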