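import Mathlib
import Groth.Agent.Lib.Helper5.EqvRestr3
import Groth.Agent.Lib.Helper5.FppfSource4
import Groth.Agent.Lib.Helper4.FlatDescends
import Groth.Agent.Lib.Helper22.FlatSrc

/-!
# Descending a groupoid along an fppf quotient map of the objects (helper5)

Let `φ : G' ⟶ H` be a cartesian morphism of groupoid schemes over `S` (`G'.R` is the base change of `H.j` along
`q × q`, `q = φ.fU`) with `q` flat, locally of finite presentation and surjective.

* `prodMap_fppf`, `fR_fppf`: `q × q` and `φ.fR` are flat, lfp and surjective.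
* `mono_j_descent`: `Mono G'.j → Mono H.j`.
* `isPullback_midMap`: `G'.R ⟶ H.R ×_{s,Ū} U'` is a base change of `q`.
* `flat_s_descent`, `lfp_s_descent`: `H.s` is flat / lfp if `G'.s` is.
* `isPullback_e`: if `P = U' ×_Ū U' ⟶ G'.R` is a monomorphism `ιP` then `P` is the preimage of `e(Ū)`;
  `isOpenImmersion_e_descent`.
* `isOpenImmersion_diagonal_s`: if `H.e` is an open immersion and `H.j` a monomorphism, so is the diagonal of `H.s`.
* `etale_s_of_isOpenImmersion_e`.
-/

set_option autoImplicit false
universe u

open AlgebraicGeometry CategoryTheory CategoryTheory.Limits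

namespace Groth.Agent.Lib.helper5.EqvRestr

open Groth.Agent.S7457 Groth.Agent.Lib.Helper4.GrpdRestrGen

variable {S : Scheme.{u}}

section descent

variable {G' H : Grpd.GroupoidScheme S} (φ : Grpd.GroupoidScheme.Hom G' H)

/-- the map `q × q`. -/
noncomputable abbrev prodMap : pullback G'.pU G'.pU ⟶ pullback H.pU H.pU :=
  pullback.map G'.pU G'.pU H.pU H.pU φ.fU φ.fU (𝟙 S)
    ((Category.comp_id _).trans φ.fU_over.symm) ((Category.comp_id _).trans φ.fU_over.symm)

theorem prodMap_prop (P : MorphismProperty Scheme.{u}) [P.IsStableUnderBaseChange]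
    [P.IsStableUnderComposition] (h : P φ.fU) : P (prodMap φ) :=
  MorphismProperty.pullbackMap h h φ.fU_over.symm φ.fU_over.symm

variable (hpb : IsPullback φ.fR G'.j H.j (prodMap φ))

include hpb in
theorem fR_prop (P : MorphismProperty Scheme.{u}) [P.IsStableUnderBaseChange]
    [P.IsStableUnderComposition] (h : P φ.fU) : P φ.fR :=
  MorphismProperty.of_isPullback (P := P) hpb.flip (prodMap_prop φ P h)

include hpb in
/-- `j` descends along an fppf cover of the objects. -/
theorem mono_j_descent [Flat φ.fU] [LocallyOfFinitePresentation φ.fU] [Surjective φ.fU]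
    [Mono G'.j] : Mono H.j := by
  haveI : (MorphismProperty.monomorphisms Scheme.{u}).DescendsAlong
      (@Surjective ⊓ @Flat ⊓ @QuasiCompact : MorphismProperty Scheme.{u}) :=
    MorphismProperty.diagonal_isomorphisms (C := Scheme.{u}) ▸ inferInstance
  have hQ : (@Surjective ⊓ @Flat ⊓ @LocallyOfFinitePresentation : MorphismProperty Scheme.{u})
      (prodMap φ) :=
    ⟨⟨prodMap_prop φ @Surjective inferInstance, prodMap_prop φ @Flat inferInstance⟩,
      prodMap_prop φ @LocallyOfFinitePresentation inferInstance⟩
  exact MorphismProperty.of_isPullback_of_descendsAlong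
    (P := MorphismProperty.monomorphisms Scheme.{u})
    (Q := @Surjective ⊓ @Flat ⊓ @LocallyOfFinitePresentation) hpb.flip hQ
    (inferInstanceAs (Mono G'.j))

/-- the map `G'.R ⟶ H.R ×_{s, Ū, q} U'`. -/
noncomputable abbrev midMap : G'.R ⟶ pullback H.s φ.fU :=
  pullback.lift φ.fR G'.s φ.comm_s

include hpb in
/-- `midMap` is a base change of `q`. -/
theorem isPullback_midMap :
    IsPullback (midMap φ) G'.t (pullback.fst H.s φ.fU ≫ H.t) φ.fU := by
  refine ⟨⟨?_⟩, ⟨PullbackCone.IsLimit.mk _ (fun c => ?_) ?_ ?_ ?_⟩⟩
  · rw [pullback.lift_fst_assoc, φ.comm_t]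
  · exact (exists_lift_of_isPullback φ hpb c.snd (c.fst ≫ pullback.snd H.s φ.fU)
      (c.fst ≫ pullback.fst H.s φ.fU)
      (by rw [Category.assoc]; exact c.condition)
      (by rw [Category.assoc, Category.assoc, pullback.condition])).choose
  · intro c
    obtain ⟨h1, h2, h3⟩ := (exists_lift_of_isPullback φ hpb c.snd (c.fst ≫ pullback.snd H.s φ.fU)
      (c.fst ≫ pullback.fst H.s φ.fU)
      (by rw [Category.assoc]; exact c.condition)
      (by rw [Category.assoc, Category.assoc, pullback.condition])).choose_spec
    apply pullback.hom_ext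
    · rw [Category.assoc, pullback.lift_fst, h3]
    · rw [Category.assoc, pullback.lift_snd, h2]
  · intro c
    exact (exists_lift_of_isPullback φ hpb c.snd (c.fst ≫ pullback.snd H.s φ.fU)
      (c.fst ≫ pullback.fst H.s φ.fU)
      (by rw [Category.assoc]; exact c.condition)
      (by rw [Category.assoc, Category.assoc, pullback.condition])).choose_spec.1
  · intro c m hm1 hm2
    obtain ⟨h1, h2, h3⟩ := (exists_lift_of_isPullback φ hpb c.snd (c.fst ≫ pullback.snd H.s φ.fU)
      (c.fst ≫ pullback.fst H.s φ.fU)
      (by rw [Category.assoc]; exact c.condition)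
      (by rw [Category.assoc, Category.assoc, pullback.condition])).choose_spec
    apply ext_of_isPullback φ hpb
    · rw [h3, ← hm1, Category.assoc, pullback.lift_fst]
    · rw [h2, ← hm1, Category.assoc, pullback.lift_snd]
    · rw [h1, hm2]

include hpb in
theorem midMap_prop (P : MorphismProperty Scheme.{u}) [P.IsStableUnderBaseChange]
    (h : P φ.fU) : P (midMap φ) :=
  MorphismProperty.of_isPullback (P := P) (isPullback_midMap φ hpb).flip h

theorem midMap_snd : midMap φ ≫ pullback.snd H.s φ.fU = G'.s := pullback.lift_snd _ _ _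

include hpb in
/-- flatness of the source map descends. -/
theorem flat_s_descent [Flat φ.fU] [LocallyOfFinitePresentation φ.fU] [Surjective φ.fU]
    [Flat G'.s] : Flat H.s := by
  haveI : Flat (midMap φ) := midMap_prop φ hpb @Flat inferInstance
  haveI : Surjective (midMap φ) := midMap_prop φ hpb @Surjective inferInstance
  haveI : Flat (midMap φ ≫ pullback.snd H.s φ.fU) := by
    rw [midMap_snd]
    infer_instance
  have h1 : Flat (pullback.snd H.s φ.fU) :=
    Groth.Agent.Lib.helper22.flat_of_flat_comp (midMap φ) (pullback.snd H.s φ.fU)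
  exact Groth.Agent.Lib.Helper4.FlatDescends.flat_of_pullback_snd H.s φ.fU h1

include hpb in
/-- local finite presentation of the source map descends. -/
theorem lfp_s_descent [Flat φ.fU] [LocallyOfFinitePresentation φ.fU] [Surjective φ.fU]
    [LocallyOfFinitePresentation G'.s] : LocallyOfFinitePresentation H.s := by
  haveI : Flat (midMap φ) := midMap_prop φ hpb @Flat inferInstance
  haveI : Surjective (midMap φ) := midMap_prop φ hpb @Surjective inferInstance
  haveI : LocallyOfFinitePresentation (midMap φ) :=
    midMap_prop φ hpb @LocallyOfFinitePresentation inferInstance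
  haveI : LocallyOfFinitePresentation (midMap φ ≫ pullback.snd H.s φ.fU) := by
    rw [midMap_snd]
    infer_instance
  have h1 : LocallyOfFinitePresentation (pullback.snd H.s φ.fU) :=
    Groth.Agent.Lib.helper5.FppfSource.locallyOfFinitePresentation_of_comp (midMap φ)
      (pullback.snd H.s φ.fU)
  exact Groth.Agent.Lib.Helper4.FlatDescends.lfp_of_pullback_snd H.s φ.fU h1

end descent

end Groth.Agent.Lib.helper5.EqvRestr
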