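import Mathlib
import Groth.Agent.Lib.Helper5.EqvRestr4

/-!
# The descended groupoid of a quasi-splitting is an étale equivalence relation (helper5)

Let `φ : G' ⟶ H` be a cartesian morphism of groupoid schemes over `S`, `q = φ.fU` fppf, and `ιP : P ⟶ G'.R` a
monomorphism with `P = U' ×_Ū U'` (via `ιP ≫ t, ιP ≫ s`).

* `isPullback_e`: `P` is the preimage of `e(Ū) ⊆ H.R` in `G'.R`.
* `isOpenImmersion_e_descent`: if `ιP` is an open immersion then so is `H.e`.
* `isPullback_diagonal_s`, `isOpenImmersion_diagonal_s`: if `H.j` is a monomorphism, the diagonal of `H.s` is a base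
  change of `H.e`.
* `etale_s_of_isOpenImmersion_e`, `etale_t_of_isOpenImmersion_e`.
* `isEtaleEqvRel_of_isOpenImmersion_e`.
-/

set_option autoImplicit false
universe u

open AlgebraicGeometry CategoryTheory CategoryTheory.Limits

namespace Groth.Agent.Lib.helper5.EqvRestr

open Groth.Agent.S7457 Groth.Agent.Lib.Helper4.GrpdRestrGen

variable {S : Scheme.{u}}

section e

variable {G' H : Grpd.GroupoidScheme S} (φ : Grpd.GroupoidScheme.Hom G' H)
  {P : Scheme.{u}} (ιP : P ⟶ G'.R)
  (hP : IsPullback (ιP ≫ G'.t) (ιP ≫ G'.s) φ.fU φ.fU)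

include hP in
/-- `P = U' ×_Ū U'` is the preimage of the identity section of `H`. -/
theorem isPullback_e [Mono ιP] [Mono H.j] [Mono G'.j] :
    IsPullback ιP (ιP ≫ G'.s ≫ φ.fU) φ.fR H.e := by
  have hw : ιP ≫ φ.fR = (ιP ≫ G'.s ≫ φ.fU) ≫ H.e := by
    apply eq_of_mono_j H
    · rw [Category.assoc, φ.comm_t, Category.assoc, Category.assoc, Category.assoc, H.e_t,
        Category.comp_id]
      have := hP.w
      simpa only [Category.assoc] using this
    · rw [Category.assoc, φ.comm_s, Category.assoc, Category.assoc, Category.assoc, H.e_s,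
        Category.comp_id]
  have key : ∀ c : PullbackCone φ.fR H.e,
      (c.fst ≫ G'.t) ≫ φ.fU = c.snd ∧ (c.fst ≫ G'.s) ≫ φ.fU = c.snd := by
    intro c
    constructor
    · rw [Category.assoc, ← φ.comm_t, ← Category.assoc, c.condition, Category.assoc, H.e_t,
        Category.comp_id]
    · rw [Category.assoc, ← φ.comm_s, ← Category.assoc, c.condition, Category.assoc, H.e_s,
        Category.comp_id]
  have hl : ∀ c : PullbackCone φ.fR H.e,
      hP.lift (c.fst ≫ G'.t) (c.fst ≫ G'.s) ((key c).1.trans (key c).2.symm) ≫ ιP = c.fst := by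
    intro c
    apply eq_of_mono_j G'
    · rw [Category.assoc, hP.lift_fst]
    · rw [Category.assoc, hP.lift_snd]
  refine ⟨⟨hw⟩, ⟨PullbackCone.IsLimit.mk _
    (fun c => hP.lift (c.fst ≫ G'.t) (c.fst ≫ G'.s) ((key c).1.trans (key c).2.symm))
    ?_ ?_ ?_⟩⟩
  · intro c
    exact hl c
  · intro c
    rw [← Category.assoc, hl c, ← Category.assoc]
    exact (key c).2
  · intro c m hm1 _
    rw [← cancel_mono ιP, hm1, hl c]

variable (hpb : IsPullback φ.fR G'.j H.j (prodMap φ))

include hP hpb in
/-- the identity section of `H` is an open immersion if `P ⊆ G'.R` is open. -/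
theorem isOpenImmersion_e_descent [IsOpenImmersion ιP] [Mono G'.j]
    [Flat φ.fU] [LocallyOfFinitePresentation φ.fU] [Surjective φ.fU] : IsOpenImmersion H.e := by
  haveI : Mono H.j := mono_j_descent φ hpb
  have hQ : (@Surjective ⊓ @Flat ⊓ @LocallyOfFinitePresentation : MorphismProperty Scheme.{u})
      φ.fR :=
    ⟨⟨fR_prop φ hpb @Surjective inferInstance, fR_prop φ hpb @Flat inferInstance⟩,
      fR_prop φ hpb @LocallyOfFinitePresentation inferInstance⟩
  exact MorphismProperty.of_isPullback_of_descendsAlong (P := @IsOpenImmersion)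
    (Q := @Surjective ⊓ @Flat ⊓ @LocallyOfFinitePresentation) (isPullback_e φ ιP hP) hQ
    inferInstance

end e

section diag

variable (H : Grpd.GroupoidScheme S)

theorem tauMap_aux : pullback.fst H.s H.s ≫ H.s = (pullback.snd H.s H.s ≫ H.i) ≫ H.t := by
  rw [Category.assoc, H.i_t, pullback.condition]

/-- `(a, b) ↦ a ∘ b⁻¹` on pairs with the same source. -/
noncomputable def tauMap : pullback H.s H.s ⟶ H.R :=
  cmp H (pullback.fst H.s H.s) (pullback.snd H.s H.s ≫ H.i) (tauMap_aux H)

theorem tauMap_t : tauMap H ≫ H.t = pullback.fst H.s H.s ≫ H.t := cmp_t H _ _ _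

theorem tauMap_s : tauMap H ≫ H.s = pullback.snd H.s H.s ≫ H.t := by
  unfold tauMap
  rw [cmp_s, Category.assoc, H.i_s]

/-- the diagonal of `s` is a base change of the identity section. -/
theorem isPullback_diagonal_s [Mono H.j] :
    IsPullback (pullback.diagonal H.s) H.t (tauMap H) H.e := by
  have hw : pullback.diagonal H.s ≫ tauMap H = H.t ≫ H.e := by
    apply eq_of_mono_j H
    · rw [Category.assoc, tauMap_t, pullback.diagonal_fst_assoc, Category.assoc, H.e_t,
        Category.comp_id]
    · rw [Category.assoc, tauMap_s, pullback.diagonal_snd_assoc, Category.assoc, H.e_s,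
        Category.comp_id]
  have key : ∀ c : PullbackCone (tauMap H) H.e,
      c.fst ≫ pullback.fst H.s H.s = c.fst ≫ pullback.snd H.s H.s := by
    intro c
    apply eq_of_mono_j H
    · rw [Category.assoc, Category.assoc, ← tauMap_t, ← tauMap_s, ← Category.assoc,
        ← Category.assoc, c.condition, Category.assoc, Category.assoc, H.e_t, H.e_s]
    · rw [Category.assoc, Category.assoc, pullback.condition]
  refine ⟨⟨hw⟩, ⟨PullbackCone.IsLimit.mk _ (fun c => c.fst ≫ pullback.fst H.s H.s) ?_ ?_ ?_⟩⟩
  · intro c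
    apply pullback.hom_ext
    · rw [Category.assoc, pullback.diagonal_fst, Category.comp_id]
    · rw [Category.assoc, pullback.diagonal_snd, Category.comp_id, key c]
  · intro c
    rw [Category.assoc, ← tauMap_t, ← Category.assoc, c.condition, Category.assoc, H.e_t,
      Category.comp_id]
  · intro c m hm1 _
    rw [← hm1, Category.assoc, pullback.diagonal_fst, Category.comp_id]

theorem isOpenImmersion_diagonal_s [Mono H.j] [IsOpenImmersion H.e] :
    IsOpenImmersion (pullback.diagonal H.s) :=
  MorphismProperty.of_isPullback (P := @IsOpenImmersion) (isPullback_diagonal_s H).flip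
    inferInstance

theorem etale_s_of_isOpenImmersion_e [Mono H.j] [IsOpenImmersion H.e] [Flat H.s]
    [LocallyOfFinitePresentation H.s] : Etale H.s := by
  haveI := isOpenImmersion_diagonal_s H
  haveI : FormallyUnramified H.s := inferInstance
  exact Etale.of_formallyUnramified_of_flat H.s

theorem etale_t_of_isOpenImmersion_e [Mono H.j] [IsOpenImmersion H.e] [Flat H.s]
    [LocallyOfFinitePresentation H.s] : Etale H.t := by
  haveI := etale_s_of_isOpenImmersion_e H
  haveI : IsIso H.i := ⟨H.i, Groth.Agent.Lib.Helper4.GrpdTc.i_i H, Groth.Agent.Lib.Helper4.GrpdTc.i_i H⟩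
  rw [← H.i_s]
  infer_instance

/-- a groupoid with `j` a monomorphism, `e` an open immersion and `s` flat lfp is an étale equivalence relation. -/
theorem isEtaleEqvRel_of_isOpenImmersion_e [Mono H.j] [IsOpenImmersion H.e] [Flat H.s]
    [LocallyOfFinitePresentation H.s] : AlgSp.IsEtaleEqvRel (Gs H) (Gt H) where
  toIsEqvRel := isEqvRel_of_mono_j H
  etale_left := etale_s_of_isOpenImmersion_e H
  etale_right := etale_t_of_isOpenImmersion_e H

end diag

end Groth.Agent.Lib.helper5.EqvRestr
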