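import Mathlib
import Groth.Agent.Lib.Helper5.EqvRestr5
import Groth.Agent.S12202
import Groth.Agent.S10140
import Groth.Agent.S9868

/-!
# Étale-local charts of the quotient of a quasi-finite fppf equivalence relation (helper5)

`exists_chart`: let `G` be a groupoid scheme over `S` with `j` a monomorphism and `s, t` flat, locally of finite
presentation and locally quasi-finite.  Every point `u` of `G.U` lies in the image of an étale morphism
`g : U' ⟶ U` such that the restriction `(R', s', t')` of `G` along `g` has an algebraic space as quotient sheaf.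
(Restrict to an affine open, quasi-split étale locally (helper4, S12202), divide by the finite locally free open
subgroupoid (helper4, S10140): the descended groupoid is an étale equivalence relation with the same quotient.)
-/

set_option autoImplicit false
universe u

open AlgebraicGeometry CategoryTheory CategoryTheory.Limits

namespace Groth.Agent.Lib.helper5.EqvRestr

open Groth.Agent.S7457 Groth.Agent.Lib.Helper4.GrpdRestrGen Groth.Agent.Lib.Helper14.RepSh
  Groth.Agent.Lib.Helper14.AlgSpQuot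

variable {S : Scheme.{u}}

/-- an epimorphism of representable fppf sheaves is surjective on points. -/
theorem surjective_of_epi_repMap {U M : Over S} (q : U ⟶ M)
    [Epi (QuotSh.repMap Scheme.fppfPrecoverage q)] : Surjective q.left := by
  have hT : factSieve q ∈ AlgSp.J S M := (epi_repMap_iff Scheme.fppfPrecoverage q).1 inferInstance
  refine ⟨fun x => ?_⟩
  obtain ⟨T', f, τ', ⟨h, hh⟩, hτ, -, -⟩ := exists_flat_mem_of_mem_J _ hT x
  refine ⟨h.left τ', ?_⟩
  rw [← Scheme.Hom.comp_apply, ← Over.comp_left, hh, hτ]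

/-- the quotient by the descended groupoid is an algebraic space, and agrees with the quotient upstairs. -/
theorem isAlgSpace_quot_of_quasiSplit {G' H : Grpd.GroupoidScheme S}
    (φ : Grpd.GroupoidScheme.Hom G' H) (hpb : IsPullback φ.fR G'.j H.j (prodMap φ))
    {P : Scheme.{u}} (ιP : P ⟶ G'.R) [IsOpenImmersion ιP]
    (hP : IsPullback (ιP ≫ G'.t) (ιP ≫ G'.s) φ.fU φ.fU)
    [Mono G'.j] [Flat G'.s] [LocallyOfFinitePresentation G'.s]
    [Flat φ.fU] [LocallyOfFinitePresentation φ.fU] [Surjective φ.fU] :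
    AlgSp.IsAlgSpace (QuotSh.quot Scheme.fppfPrecoverage (Gs G') (Gt G')) := by
  haveI : Mono H.j := mono_j_descent φ hpb
  haveI : Flat H.s := flat_s_descent φ hpb
  haveI : LocallyOfFinitePresentation H.s := lfp_s_descent φ hpb
  haveI : IsOpenImmersion H.e := isOpenImmersion_e_descent φ ιP hP hpb
  have hEt : AlgSp.IsEtaleEqvRel (Gs H) (Gt H) := isEtaleEqvRel_of_isOpenImmersion_e H
  have hH : AlgSp.IsAlgSpace (QuotSh.quot Scheme.fppfPrecoverage (Gs H) (Gt H)) :=
    Groth.Agent.S9868.result S (Gs H) (Gt H) hEt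
  have hr : IsRestr (Gs H) (Gt H) (homU φ) (Gs G') (Gt G') := isRestr_of_hom φ hpb
  haveI : Surjective H.s := by
    refine ⟨fun x => ⟨H.e x, ?_⟩⟩
    rw [← Scheme.Hom.comp_apply, H.e_s]
    rfl
  have hf : Flat (pullback.snd φ.fU H.t ≫ H.s) := inferInstance
  have hl : LocallyOfFinitePresentation (pullback.snd φ.fU H.t ≫ H.s) := inferInstance
  have hsurj : Function.Surjective (pullback.snd φ.fU H.t ≫ H.s) :=
    (inferInstance : Surjective (pullback.snd φ.fU H.t ≫ H.s)).surj
  haveI : IsIso hr.desc := hr.isIso hEt.toIsEqvRel hf hl hsurj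
  exact hH.of_iso (asIso hr.desc).symm

/-- **Étale-local charts.** -/
theorem exists_chart (G : Grpd.GroupoidScheme S) [Mono G.j]
    [Flat G.s] [LocallyOfFinitePresentation G.s] [LocallyQuasiFinite G.s]
    [Flat G.t] [LocallyOfFinitePresentation G.t] (u : G.U) :
    ∃ (R' U' : Over S) (s' t' : R' ⟶ U') (g : U' ⟶ GU G), IsRestr (Gs G) (Gt G) g s' t' ∧
      Etale g.left ∧ u ∈ Set.range g.left ∧
      AlgSp.IsAlgSpace (QuotSh.quot Scheme.fppfPrecoverage s' t') := by
  classical
  -- an affine open neighbourhood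
  let i := G.U.affineCover.idx u
  let ιV : G.U.affineCover.X i ⟶ G.U := G.U.affineCover.f i
  obtain ⟨u₁, hu₁⟩ := G.U.affineCover.covers u
  haveI : IsOpenImmersion ιV := inferInstance
  let d₁ : RestrDataG G ιV := restrData G ιV
  let G₁ : Grpd.GroupoidScheme S := d₁.restr
  let φ₁ : Grpd.GroupoidScheme.Hom G₁ G := d₁.hom
  have hpb₁ : IsPullback φ₁.fR G₁.j G.j (prodMap φ₁) := d₁.isPullback
  haveI : IsAffine G₁.U := inferInstanceAs (IsAffine (G.U.affineCover.X i))
  haveI : Mono G₁.j := mono_j_of_isPullback φ₁ hpb₁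
  have hιV : IsOpenImmersion φ₁.fU := inferInstanceAs (IsOpenImmersion ιV)
  obtain ⟨hf1, hf2⟩ := prop_s_t_of_hom φ₁ hpb₁ @Flat (inferInstance : Flat φ₁.fU) inferInstance
  obtain ⟨hl1, hl2⟩ := prop_s_t_of_hom φ₁ hpb₁ @LocallyOfFinitePresentation
    (inferInstance : LocallyOfFinitePresentation φ₁.fU) inferInstance
  obtain ⟨hq1, -⟩ := prop_s_t_of_hom φ₁ hpb₁ @LocallyQuasiFinite
    (inferInstance : LocallyQuasiFinite φ₁.fU) inferInstance
  haveI := hf1
  haveI := hf2
  haveI := hl1
  haveI := hl2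
  haveI := hq1
  haveI : IsSeparated G₁.s := isSeparated_s_of_isAffine G₁
  haveI : IsSeparated G₁.t := isSeparated_t_of_isAffine G₁
  have hqf : Dual3.QuasiFiniteAt G₁.s (G₁.e u₁) := quasiFiniteAt_of_locallyQuasiFinite G₁.s _
  -- quasi-splitting
  obtain ⟨G', φ, u', hA, hE, hu', -, hpb, P, ιP, hoi, heP, hiP, hcP, hfs, hft⟩ :=
    Groth.Agent.S12202.result S G₁ u₁ hqf
  haveI := hA
  haveI := hE
  haveI := hoi
  haveI := hfs
  haveI := hft
  have hpb' : IsPullback φ.fR G'.j G₁.j (prodMap φ) := hpb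
  haveI : Mono G'.j := mono_j_of_isPullback φ hpb'
  obtain ⟨hf1', hf2'⟩ := prop_s_t_of_hom φ hpb' @Flat (inferInstance : Flat φ.fU) inferInstance
  obtain ⟨hl1', hl2'⟩ := prop_s_t_of_hom φ hpb' @LocallyOfFinitePresentation
    (inferInstance : LocallyOfFinitePresentation φ.fU) inferInstance
  haveI := hf1'
  haveI := hf2'
  haveI := hl1'
  haveI := hl2'
  haveI : LocallyOfFiniteType G'.j := locallyOfFiniteType_j G'
  haveI : LocallyQuasiFinite G'.j := locallyQuasiFinite_j G'
  -- the quotient by the finite locally free subgroupoid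
  obtain ⟨H, φ', -, hquot, -, hflat, hlfp, hPq, hpbH⟩ :=
    Groth.Agent.S10140.result S G' P ιP heP hiP hcP
  haveI := hflat
  haveI := hlfp
  haveI : Epi (QuotSh.repMap Scheme.fppfPrecoverage
      (Over.homMk φ'.fU φ'.fU_over : Over.mk G'.pU ⟶ Over.mk H.pU)) := epi_of_isQuotient _ hquot
  haveI : Surjective φ'.fU :=
    surjective_of_epi_repMap (Over.homMk φ'.fU φ'.fU_over : Over.mk G'.pU ⟶ Over.mk H.pU)
  have hAlg := isAlgSpace_quot_of_quasiSplit φ' hpbH ιP hPq
  -- assemble
  have hr₁ : IsRestr (Gs G) (Gt G) (homU φ₁) (Gs G₁) (Gt G₁) := isRestr_of_hom φ₁ hpb₁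
  have hr₂ : IsRestr (Gs G₁) (Gt G₁) (homU φ) (Gs G') (Gt G') := isRestr_of_hom φ hpb'
  refine ⟨GR G', GU G', Gs G', Gt G', homU φ ≫ homU φ₁, hr₁.comp hr₂, ?_, ?_, hAlg⟩
  · rw [Over.comp_left]
    haveI : Etale (homU φ).left := hE
    haveI : Etale (homU φ₁).left := inferInstanceAs (Etale ιV)
    infer_instance
  · refine ⟨u', ?_⟩
    rw [Over.comp_left, Scheme.Hom.comp_apply]
    change ιV (φ.fU u') = u
    rw [hu', hu₁]

end Groth.Agent.Lib.helper5.EqvRestr
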