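import Groth.Agent.Lib.Helper5.AlgSpCoprod6

/-!
Charts of a coproduct of sheaves (helper5): the coproduct of étale surjective charts is an étale surjective chart.
-/

set_option autoImplicit false
universe u
open CategoryTheory CategoryTheory.Limits AlgebraicGeometry Opposite
open AlgSp

namespace Groth.Agent.Lib.helper5.Coprod

variable {S : Scheme.{u}}

/-- The coproduct of étale surjective charts of the summands is an étale surjective chart of the coproduct. -/
theorem repWith_desc_chart {κ : Type u} (F : κ → Sp S) (c : Cofan F) (hc : IsColimit c)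
    (U : κ → Over S) (p : ∀ k, (yon S).obj (U k) ⟶ F k) (hpe : ∀ k, RepWith @Etale (p k))
    (hps : ∀ k, RepWith @Surjective (p k)) (π : (yon S).obj (sigmaOver U) ⟶ c.pt)
    (hπ : ∀ k, (yon S).map (sigmaOverι U k) ≫ π = p k ≫ c.inj k) :
    RepWith @Etale π ∧ RepWith @Surjective π := by
  let hYon := isColimitYonSigma U
  have sqU : ∀ k, IsPullback (p k) ((yon S).map (sigmaOverι U k)) (c.inj k) π := fun k =>
    (isPullback_of_isColimit F c hc π _ (fun k => (yon S).map (sigmaOverι U k)) p hπ hYon k).flip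
  have key : ∀ (T : Over S) (ξ : (yon S).obj T ⟶ c.pt),
      ∃ (Tk : κ → Over S) (t : ∀ k, Tk k ⟶ T) (Pk : κ → Over S) (v : ∀ k, Pk k ⟶ U k) (v' : ∀ k, Pk k ⟶ Tk k),
        (∀ k, IsOpenImmersion (t k).left) ∧ (∀ x : T.left, ∃ k, x ∈ Set.range (t k).left) ∧
        (∀ k, Etale (v' k).left) ∧ (∀ k, Surjective (v' k).left) ∧
        IsPullback ((yon S).map (sigmaOverDesc Pk (fun k => v k ≫ sigmaOverι U k)))
          ((yon S).map (sigmaOverDesc Pk (fun k => v' k ≫ t k))) π ξ := by
    intro T ξ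
    obtain ⟨Tk, t, fb, sqB, hoi, hcov⟩ := exists_decomposition F c hc ξ
    choose Pk v' fst sqP using fun k => (hpe k).1 (fb k)
    let v : ∀ k, Pk k ⟶ U k := fun k => (yon S).preimage (fst k)
    have sqP' : ∀ k, IsPullback ((yon S).map (v k)) ((yon S).map (v' k)) (p k) (fb k) := by
      intro k
      rw [Functor.map_preimage]
      exact sqP k
    refine ⟨Tk, t, Pk, v, v', hoi, hcov, fun k => (hpe k).2 (fb k) _ (v' k) (sqP' k),
      fun k => (hps k).2 (fb k) _ (v' k) (sqP' k), ?_⟩
    exact isPullback_sigmaOver F c hc π ξ U (sigmaOverι U) p sqU Tk t fb sqB Pk v v' sqP'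
  refine ⟨repWith_of_forall_exists _ π (fun T ξ => ?_), repWith_of_forall_exists _ π (fun T ξ => ?_)⟩
  · obtain ⟨Tk, t, Pk, v, v', hoi, hcov, het, hsurj, sq⟩ := key T ξ
    refine ⟨_, _, _, sq, ?_⟩
    show Etale (Sigma.desc (fun k => (v' k ≫ t k).left))
    refine IsZariskiLocalAtSource.sigmaDesc (P := @Etale) (fun k => ?_)
    have := het k
    have := hoi k
    rw [Over.comp_left]
    infer_instance
  · obtain ⟨Tk, t, Pk, v, v', hoi, hcov, het, hsurj, sq⟩ := key T ξ
    refine ⟨_, _, _, sq, ?_⟩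
    show Surjective (Sigma.desc (fun k => (v' k ≫ t k).left))
    apply Surjective.sigmaDesc_of_union_range_eq_univ
    rw [Set.eq_univ_iff_forall]
    intro x
    obtain ⟨k, y, rfl⟩ := hcov x
    obtain ⟨z, rfl⟩ := (hsurj k).surj y
    refine Set.mem_iUnion.2 ⟨k, z, ?_⟩
    rw [Over.comp_left, Scheme.Hom.comp_apply]

/-- A finite coproduct of quasi-compact schemes is quasi-compact. -/
theorem compactSpace_sigma {κ : Type u} [Finite κ] (X : κ → Scheme.{u}) [∀ k, CompactSpace (X k)] :
    CompactSpace ↥(∐ X) :=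
  (sigmaMk X).compactSpace

/-- A finite coproduct of quasi-compact sheaves is quasi-compact. -/
theorem isQuasiCompactSp_cofan_pt {κ : Type u} [Finite κ] (F : κ → Sp S) (c : Cofan F) (hc : IsColimit c)
    (hqc : ∀ k, IsQuasiCompactSp (F k)) : IsQuasiCompactSp c.pt := by
  choose U p hpe hps hU using hqc
  let hYon := isColimitYonSigma U
  let π : (yon S).obj (sigmaOver U) ⟶ c.pt := hYon.desc (Cofan.mk c.pt (fun k => p k ≫ c.inj k))
  have hπ : ∀ k, (yon S).map (sigmaOverι U k) ≫ π = p k ≫ c.inj k := fun k => hYon.fac _ ⟨k⟩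
  obtain ⟨h1, h2⟩ := repWith_desc_chart F c hc U p hpe hps π hπ
  exact ⟨sigmaOver U, π, h1, h2, compactSpace_sigma (fun k => (U k).left)⟩

end Groth.Agent.Lib.helper5.Coprod
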