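import Groth.Prelude.Def_AlgSpCov
import Groth.Agent.Lib.Helper5.AlgSpFibreProduct

/-!
# Base change of `AlgSp.LocP P` (helper5)

Generalises helper1's `LocPFlatBC` from `@Flat` to any property `P` of morphisms of schemes which is stable under base
change, stable under pre- and postcomposition with étale morphisms, cancels étale morphisms on the right and descends
along étale surjections on the source.

* `repWith_etale_of_comp`: cancellation for representable étale maps out of a scheme.
* `exists_chart`: the chart construction for a base change (helper1's `exists_flat_chart` for general `P`).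
* `LocPData`: the bundle of hypotheses on `P`.
* `locP_of_isPullback`: `LocP P` is stable under base change between algebraic spaces.
* `locP_of_chart`: for `LocP P f`, any square `a ≫ f = h_h ≫ b` with `b` arbitrary and `h_U ⟶ F ×_G h_V` étale has `P h`.
-/

set_option autoImplicit false
universe u
open CategoryTheory CategoryTheory.Limits AlgebraicGeometry
open AlgSp

namespace Groth.Agent.Lib.helper5.LocPBC

variable {S : Scheme.{u}}

/-- If `pr` and `m ≫ pr` are representable étale, with `m` a map out of a scheme, then `m` is representable étale. -/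
theorem repWith_etale_of_comp {F G : Sp S} {U : Over S} (m : (yon S).obj U ⟶ F) (pr : F ⟶ G)
    (hpr : RepWith @Etale pr) (hm : RepWith @Etale (m ≫ pr)) : RepWith @Etale m := by
  obtain ⟨Q, q, m', sqQ⟩ := hpr.1 (m ≫ pr)
  have hq : Etale q.left := hpr.2 _ _ _ sqQ
  have hm' : RepWith @Etale m' := (RepWith (S := S) @Etale).of_isPullback sqQ.flip hm
  obtain ⟨s', hs1, hs2⟩ := sqQ.exists_lift m (𝟙 _) (by rw [Category.id_comp])
  obtain ⟨s, rfl⟩ := (yon S).map_surjective s'
  have hs2' : s ≫ q = 𝟙 U := (yon S).map_injective (by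
    rw [Functor.map_comp, hs2, CategoryTheory.Functor.map_id])
  have hs : Etale s.left := by
    have h1 : Etale (s.left ≫ q.left) := by
      rw [← Over.comp_left, hs2']
      show Etale (𝟙 U.left)
      infer_instance
    exact MorphismProperty.of_postcomp (W := @Etale) (W' := @Etale) s.left q.left hq h1
  rw [← hs1]
  exact (RepWith (S := S) @Etale).comp_mem _ _ ((repWith_yon_map_iff @Etale s).2 hs) hm'

/-- The hypotheses on a property `P` of morphisms of schemes under which `LocP P` is stable under base change. -/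
structure LocPData (P : MorphismProperty Scheme.{u}) : Prop where
  baseChange : P.IsStableUnderBaseChange
  pre : ∀ {X Y Z : Scheme.{u}} (e : X ⟶ Y) (g : Y ⟶ Z), Etale e → P g → P (e ≫ g)
  post : ∀ {X Y Z : Scheme.{u}} (k : X ⟶ Y) (e : Y ⟶ Z), P k → Etale e → P (k ≫ e)
  cancel : ∀ {X Y Z : Scheme.{u}} (k : X ⟶ Y) (b : Y ⟶ Z), Etale b → P (k ≫ b) → P k
  descend : ∀ {X' X Y : Scheme.{u}} (f : X' ⟶ X) (g : X ⟶ Y), Etale f → Surjective f →
    P (f ≫ g) → P g

/-- The chart construction for base change (after helper1): for `f : F ⟶ G` with `LocP P f` and a pullback square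
`F' = F ×_G G'` of algebraic spaces there are a morphism of schemes `π : U₃ ⟶ V₂` with `P π`, a representable
etale `β : h_{V₂} ⟶ G'` and a representable etale surjective `c : h_{U₃} ⟶ F'` over it. -/
theorem exists_chart {P : MorphismProperty Scheme.{u}} [P.IsStableUnderBaseChange]
    {F G G' F' : Sp S} (hF : IsAlgSpace F) (hG : IsAlgSpace G)
    (hG' : IsAlgSpace G') {f : F ⟶ G} {g : G' ⟶ G} {fst : F' ⟶ F} {snd : F' ⟶ G'}
    (sq : IsPullback fst snd f g) (hf : LocP P f) :
    ∃ (U3 V2 : Over S) (π : U3 ⟶ V2) (β : (yon S).obj V2 ⟶ G') (c : (yon S).obj U3 ⟶ F'),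
      P π.left ∧ RepWith @Etale β ∧ RepWith @Etale c ∧ RepWith @Surjective c ∧
      c ≫ snd = (yon S).map π ≫ β := by
  obtain ⟨V, p, hpe, hps⟩ := hG.atlas
  -- `F_V = F ×_G V`
  have sqF : IsPullback (pullback.fst f p) (pullback.snd f p) f p := IsPullback.of_hasPullback _ _
  have hFV : IsAlgSpace (pullback f p) :=
    Groth.Agent.Lib.helper5.isAlgSpace_of_isPullback hG.diag hF (IsAlgSpace.yon_obj V) sqF
  obtain ⟨U, q, hqe, hqs⟩ := hFV.atlas
  obtain ⟨h, hh⟩ := (yon S).map_surjective (q ≫ pullback.snd f p)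
  have hfe : RepWith @Etale (pullback.fst f p) :=
    (RepWith (S := S) @Etale).of_isPullback sqF.flip hpe
  have hPh : P h.left := by
    refine hf (q ≫ pullback.fst f p) p h ((RepWith (S := S) @Etale).comp_mem _ _ hqe hfe) hpe ?_
    rw [Category.assoc, sqF.w, hh, Category.assoc]
  -- `G'_V = G' ×_G V`
  have sqG : IsPullback (pullback.fst g p) (pullback.snd g p) g p := IsPullback.of_hasPullback _ _
  have hGV : IsAlgSpace (pullback g p) :=
    Groth.Agent.Lib.helper5.isAlgSpace_of_isPullback hG.diag hG' (IsAlgSpace.yon_obj V) sqG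
  obtain ⟨V2, β0, hβ0e, hβ0s⟩ := hGV.atlas
  obtain ⟨s2, hs2⟩ := (yon S).map_surjective (β0 ≫ pullback.snd g p)
  have hge : RepWith @Etale (pullback.fst g p) :=
    (RepWith (S := S) @Etale).of_isPullback sqG.flip hpe
  have hgs : RepWith @Surjective (pullback.fst g p) :=
    (RepWith (S := S) @Surjective).of_isPullback sqG.flip hps
  have hβe : RepWith @Etale (β0 ≫ pullback.fst g p) :=
    (RepWith (S := S) @Etale).comp_mem _ _ hβ0e hge
  have hβs : RepWith @Surjective (β0 ≫ pullback.fst g p) :=
    (RepWith (S := S) @Surjective).comp_mem _ _ hβ0s hgs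
  have hβg : (β0 ≫ pullback.fst g p) ≫ g = (yon S).map s2 ≫ p := by
    rw [Category.assoc, sqG.w, hs2, Category.assoc]
  -- `E₁ = F' ×_{G'} V₂`
  have sqE1 : IsPullback (pullback.fst snd (β0 ≫ pullback.fst g p))
      (pullback.snd snd (β0 ≫ pullback.fst g p)) snd (β0 ≫ pullback.fst g p) :=
    IsPullback.of_hasPullback _ _
  have he1e : RepWith @Etale (pullback.fst snd (β0 ≫ pullback.fst g p)) :=
    (RepWith (S := S) @Etale).of_isPullback sqE1.flip hβe
  have he1s : RepWith @Surjective (pullback.fst snd (β0 ≫ pullback.fst g p)) :=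
    (RepWith (S := S) @Surjective).of_isPullback sqE1.flip hβs
  have big1 := sqE1.paste_horiz sq
  rw [hβg] at big1
  have hl1 : (pullback.fst snd (β0 ≫ pullback.fst g p) ≫ fst) ≫ f =
      (pullback.snd snd (β0 ≫ pullback.fst g p) ≫ (yon S).map s2) ≫ p := by
    rw [big1.w, Category.assoc]
  have sqE1' : IsPullback (sqF.lift _ _ hl1) (pullback.snd snd (β0 ≫ pullback.fst g p))
      (pullback.snd f p) ((yon S).map s2) := by
    refine IsPullback.of_right ?_ (sqF.lift_snd _ _ _) sqF
    rw [sqF.lift_fst]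
    exact big1
  -- `U₃ = U ×_V V₂`
  have sqU0 := IsPullback.of_hasPullback h s2
  have sqU := sqU0.map (yon S)
  have hπ : P (pullback.snd h s2).left := by
    have := sqU0.map (Over.forget S)
    exact MorphismProperty.of_isPullback (P := P) this hPh
  have hc1 : ((yon S).map (pullback.fst h s2) ≫ q) ≫ pullback.snd f p =
      (yon S).map (pullback.snd h s2) ≫ (yon S).map s2 := by
    rw [Category.assoc, ← hh]
    exact sqU.w
  have sqC1 : IsPullback ((yon S).map (pullback.fst h s2)) (sqE1'.lift _ _ hc1) q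
      (sqF.lift _ _ hl1) := by
    refine IsPullback.of_bot ?_ (sqE1'.lift_fst _ _ _).symm sqE1'
    rw [sqE1'.lift_snd, ← hh]
    exact sqU
  have hc1e : RepWith @Etale (sqE1'.lift _ _ hc1) :=
    (RepWith (S := S) @Etale).of_isPullback sqC1 hqe
  have hc1s : RepWith @Surjective (sqE1'.lift _ _ hc1) :=
    (RepWith (S := S) @Surjective).of_isPullback sqC1 hqs
  refine ⟨_, V2, pullback.snd h s2, β0 ≫ pullback.fst g p,
    sqE1'.lift _ _ hc1 ≫ pullback.fst snd (β0 ≫ pullback.fst g p), hπ, hβe,
    (RepWith (S := S) @Etale).comp_mem _ _ hc1e he1e,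
    (RepWith (S := S) @Surjective).comp_mem _ _ hc1s he1s, ?_⟩
  rw [Category.assoc, sqE1.w, ← Category.assoc, sqE1'.lift_snd]

/-- `LocP P` is stable under base change between algebraic spaces. -/
theorem locP_of_isPullback {P : MorphismProperty Scheme.{u}} (hP : LocPData P)
    {F G G' F' : Sp S} (hF : IsAlgSpace F) (hG : IsAlgSpace G)
    (hG' : IsAlgSpace G') {f : F ⟶ G} {g : G' ⟶ G} {fst : F' ⟶ F} {snd : F' ⟶ G'}
    (sq : IsPullback fst snd f g) (hf : LocP P f) : LocP P snd := by
  have := hP.baseChange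
  obtain ⟨U3, V2, π, β, c, hπ, hβe, hce, hcs, hc⟩ := exists_chart hF hG hG' sq hf
  intro U' V' a' b' h' ha' hb' hsq
  -- `U₂ = U₃ ×_{F'} U'`
  obtain ⟨U2, r, s', sqT⟩ := hce.1 a'
  have hr_et : Etale r.left := hce.2 _ _ _ sqT
  have hr_surj : Surjective r.left := hcs.2 _ _ _ sqT
  obtain ⟨s, rfl⟩ := (yon S).map_surjective s'
  have hs_et : Etale s.left := ha'.2 _ _ _ sqT.flip
  -- `V₃ = V₂ ×_{G'} V'`
  obtain ⟨V3, v2, v1', sqV⟩ := hβe.1 b'
  have hv2 : Etale v2.left := hβe.2 _ _ _ sqV
  obtain ⟨v1, rfl⟩ := (yon S).map_surjective v1'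
  have hv1 : Etale v1.left := hb'.2 _ _ _ sqV.flip
  -- the map `k : U₂ ⟶ V₃`
  obtain ⟨k', hk1, hk2⟩ := sqV.exists_lift ((yon S).map (s ≫ π)) ((yon S).map (r ≫ h')) (by
    rw [Functor.map_comp, Category.assoc, ← hc, ← Category.assoc, sqT.w, Category.assoc, hsq,
      Functor.map_comp, Category.assoc])
  obtain ⟨k, rfl⟩ := (yon S).map_surjective k'
  have hk1' : k ≫ v1 = s ≫ π := (yon S).map_injective (by rw [Functor.map_comp, hk1])
  have hk2' : k ≫ v2 = r ≫ h' := (yon S).map_injective (by rw [Functor.map_comp, hk2])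
  have h1 : P (s.left ≫ π.left) := hP.pre _ _ hs_et hπ
  have h2 : P k.left := by
    refine hP.cancel k.left v1.left hv1 ?_
    rw [← Over.comp_left, hk1']
    exact h1
  have h3 : P (r.left ≫ h'.left) := by
    have := hP.post k.left v2.left h2 hv2
    rwa [← Over.comp_left, hk2'] at this
  exact hP.descend r.left h'.left hr_et hr_surj h3

/-- For `LocP P f` and any commutative square `a ≫ f = h_h ≫ b` with `b : h_V ⟶ G` arbitrary such that
`(a, h_h) : h_U ⟶ F ×_G h_V` is representable étale, `P h` holds. -/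
theorem locP_of_chart {P : MorphismProperty Scheme.{u}} (hP : LocPData P) {F G : Sp S}
    (hF : IsAlgSpace F) (hG : IsAlgSpace G) {f : F ⟶ G} (hf : LocP P f) {U V : Over S}
    (a : (yon S).obj U ⟶ F) (b : (yon S).obj V ⟶ G) (h : U ⟶ V) (w : a ≫ f = (yon S).map h ≫ b)
    (hm : RepWith @Etale (pullback.lift a ((yon S).map h) w)) : P h.left := by
  have sq := IsPullback.of_hasPullback f b
  have h1 : LocP P (pullback.snd f b) := locP_of_isPullback hP hF hG (IsAlgSpace.yon_obj V) sq hf
  refine h1 (pullback.lift a _ w) (𝟙 _) h hm (repWith_id _ V) ?_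
  rw [pullback.lift_snd, Category.comp_id]

/-- The chart `h_U ⟶ F ×_G h_V` of a chart diagram with both charts étale is étale. -/
theorem repWith_etale_lift {F G : Sp S} {f : F ⟶ G} {U V : Over S}
    (a : (yon S).obj U ⟶ F) (b : (yon S).obj V ⟶ G) (h : U ⟶ V) (ha : RepWith @Etale a)
    (hb : RepWith @Etale b) (w : a ≫ f = (yon S).map h ≫ b) :
    RepWith @Etale (pullback.lift a ((yon S).map h) w) := by
  have hpr : RepWith @Etale (pullback.fst f b) :=
    (RepWith (S := S) @Etale).of_isPullback (IsPullback.of_hasPullback f b).flip hb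
  refine repWith_etale_of_comp _ (pullback.fst f b) hpr ?_
  rw [pullback.lift_fst]
  exact ha

/-- Base change of a chart diagram along a map to a member of a covering. -/
theorem exists_chart_baseChange {X Y Xi Yi : Sp S} {f : X ⟶ Y} {g : Yi ⟶ Y} {p : Xi ⟶ Yi}
    {q : Xi ⟶ X} (sq : IsPullback q p f g) {U V : Over S} (a : (yon S).obj U ⟶ X)
    (b : (yon S).obj V ⟶ Y) (h : U ⟶ V) (hsq : a ≫ f = (yon S).map h ≫ b)
    (hm : RepWith @Etale (pullback.lift a ((yon S).map h) hsq))
    {T E : Over S} (sndE : E ⟶ T) (uE : (yon S).obj E ⟶ (yon S).obj U)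
    (tV : (yon S).obj T ⟶ (yon S).obj V)
    (sqUV : IsPullback uE ((yon S).map sndE) ((yon S).map h) tV)
    (τ : (yon S).obj T ⟶ Yi) (hτ : τ ≫ g = tV ≫ b) :
    ∃ (aE : (yon S).obj E ⟶ Xi) (w : aE ≫ p = (yon S).map sndE ≫ τ),
      RepWith @Etale (pullback.lift aE ((yon S).map sndE) w) := by
  have hcomm : (uE ≫ a) ≫ f = ((yon S).map sndE ≫ τ) ≫ g := by
    rw [Category.assoc, hsq, ← Category.assoc, sqUV.w, Category.assoc, Category.assoc, hτ]
  obtain ⟨aE, haE1, haE2⟩ := sq.exists_lift (uE ≫ a) ((yon S).map sndE ≫ τ) hcomm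
  refine ⟨aE, haE2, ?_⟩
  -- `κ : Xi ×_{Yi} h_T ⟶ X ×_Y h_V`
  have hκ : (pullback.fst p τ ≫ q) ≫ f = (pullback.snd p τ ≫ tV) ≫ b := by
    rw [Category.assoc, sq.w, ← Category.assoc, pullback.condition, Category.assoc, hτ,
      Category.assoc]
  let κ : pullback p τ ⟶ pullback f b := pullback.lift _ _ hκ
  -- the bottom square
  have hbot : IsPullback κ (pullback.snd p τ) (pullback.snd f b) tV := by
    have hout : IsPullback (κ ≫ pullback.fst f b) (pullback.snd p τ) f (tV ≫ b) := by
      have h1 := (IsPullback.of_hasPullback p τ).paste_horiz sq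
      rw [hτ] at h1
      have h2 : κ ≫ pullback.fst f b = pullback.fst p τ ≫ q := pullback.lift_fst _ _ _
      rw [h2]
      exact h1
    exact IsPullback.of_right hout (pullback.lift_snd _ _ _) (IsPullback.of_hasPullback f b)
  -- the top square
  have htop : IsPullback uE (pullback.lift aE ((yon S).map sndE) haE2) (pullback.lift a _ hsq) κ := by
    refine IsPullback.of_bot ?_ ?_ hbot
    · rw [pullback.lift_snd, pullback.lift_snd]
      exact sqUV
    · apply pullback.hom_ext
      · rw [Category.assoc, pullback.lift_fst, Category.assoc, pullback.lift_fst,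
          ← Category.assoc, pullback.lift_fst, haE1]
      · rw [Category.assoc, pullback.lift_snd, Category.assoc, pullback.lift_snd,
          ← Category.assoc, pullback.lift_snd, sqUV.w]
  exact (RepWith (S := S) @Etale).of_isPullback htop hm

end Groth.Agent.Lib.helper5.LocPBC
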