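import Groth.Agent.S1179
import Groth.Agent.S1180
import Groth.Agent.Lib.Helper22.FlatSrc

/-!
# Source descent of finite presentation along étale surjections (helper5)

Extends helper16's `S1179` (finite type) to finite presentation.

* `finitePresentation_of_etale_tensor`: if `B₀` is étale over `A₀`, `A` is an `A₀`-algebra, `A ⊗[A₀] B₀` is of finite
  presentation over `A₀` and `Spec (A ⊗ B₀) ⟶ Spec A` is surjective, then `A` is of finite presentation over `A₀`.
* `finitePresentation_of_etale_comp`: `R ⟶ A ⟶ B` with `A ⟶ B` étale and surjective on spectra and `R ⟶ B` of finite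
  presentation: `R ⟶ A` is of finite presentation.
* `locallyOfFinitePresentation_of_etale_comp`, `etale_of_etale_comp`: scheme versions.
-/

set_option autoImplicit false
open CategoryTheory CategoryTheory.Limits AlgebraicGeometry Opposite
universe u

namespace Groth.Agent.Lib.helper5.EtSrc

open TensorProduct TopologicalSpace Groth.Agent.S1179

set_option maxHeartbeats 1000000
set_option synthInstance.maxHeartbeats 200000

/-- the descent step, for an auxiliary finitely presented algebra `A₂` -/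
lemma finitePresentation_aux {A₀ A₂ A B₀ : Type u} [CommRing A₀] [CommRing A₂] [CommRing A]
    [CommRing B₀] [Algebra A₀ A₂] [Algebra A₂ A] [Algebra A₀ A] [IsScalarTower A₀ A₂ A]
    [Algebra A₀ B₀] [Algebra.Etale A₀ B₀] [Algebra.FinitePresentation A₀ A₂]
    [Algebra.FinitePresentation A₀ (A ⊗[A₀] B₀)]
    [Module.FaithfullyFlat A₂ (A₂ ⊗[A₀] B₀)] : Algebra.FinitePresentation A₀ A := by
  have hB₂ft : Algebra.FiniteType A₀ (A₂ ⊗[A₀] B₀) := by
    have h1 : Algebra.FiniteType A₂ (A₂ ⊗[A₀] B₀) := inferInstance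
    have h2 : Algebra.FiniteType A₀ A₂ := inferInstance
    exact Algebra.FiniteType.trans h2 h1
  let e : (A₂ ⊗[A₀] B₀) ⊗[A₂] A ≃ₐ[A₀] A ⊗[A₀] B₀ :=
    ((Algebra.TensorProduct.comm A₂ (A₂ ⊗[A₀] B₀) A).restrictScalars A₀).trans
      ((Algebra.TensorProduct.cancelBaseChange A₀ A₂ A A B₀).restrictScalars A₀)
  have hCfp : Algebra.FinitePresentation A₀ ((A₂ ⊗[A₀] B₀) ⊗[A₂] A) :=
    Algebra.FinitePresentation.equiv e.symm
  have hCfp' : Algebra.FinitePresentation (A₂ ⊗[A₀] B₀) ((A₂ ⊗[A₀] B₀) ⊗[A₂] A) :=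
    Algebra.FinitePresentation.of_restrict_scalars_finitePresentation A₀ (A₂ ⊗[A₀] B₀) _
  have hA₂A : Algebra.FinitePresentation A₂ A :=
    Algebra.FinitePresentation.of_finitePresentation_tensorProduct_of_faithfullyFlat (A₂ ⊗[A₀] B₀)
  exact Algebra.FinitePresentation.trans A₀ A₂ A

/-- key ring lemma, finite presentation version -/
lemma finitePresentation_of_etale_tensor {A₀ A B₀ : Type u} [CommRing A₀] [CommRing A] [CommRing B₀]
    [Algebra A₀ A] [Algebra A₀ B₀] [Algebra.Etale A₀ B₀]
    [Algebra.FinitePresentation A₀ (A ⊗[A₀] B₀)]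
    (hsurj : Function.Surjective (PrimeSpectrum.comap (algebraMap A (A ⊗[A₀] B₀)))) :
    Algebra.FinitePresentation A₀ A := by
  classical
  -- (i) the image of Spec B₀ → Spec A₀ is open
  have hopen : IsOpen (Set.range (PrimeSpectrum.comap (algebraMap A₀ B₀))) :=
    (PrimeSpectrum.isOpenMap_comap_of_hasGoingDown_of_finitePresentation).isOpen_range
  obtain ⟨I, hI⟩ : ∃ I : Ideal A₀, (Set.range (PrimeSpectrum.comap (algebraMap A₀ B₀)))ᶜ =
      PrimeSpectrum.zeroLocus I :=
    (PrimeSpectrum.isClosed_iff_zeroLocus_ideal _).mp hopen.isClosed_compl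
  have hmem : ∀ {C : Type u} [CommRing C] [Algebra A₀ C] (q : PrimeSpectrum C),
      ¬ I ≤ q.asIdeal.comap (algebraMap A₀ C) →
      q ∈ Set.range (PrimeSpectrum.comap (algebraMap C (C ⊗[A₀] B₀))) := by
    intro C _ _ q hq
    rw [range_comap_tensor]
    show PrimeSpectrum.comap (algebraMap A₀ C) q ∈
      Set.range (PrimeSpectrum.comap (algebraMap A₀ B₀))
    by_contra hcon
    have : PrimeSpectrum.comap (algebraMap A₀ C) q ∈ PrimeSpectrum.zeroLocus (I : Set A₀) := by
      rw [← hI]; exact hcon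
    exact hq this
  -- (ii) I A = A
  have hmap : I.map (algebraMap A₀ A) = ⊤ := by
    by_contra hne
    obtain ⟨M, hM, hle⟩ := Ideal.exists_le_maximal _ hne
    have hP : (⟨M, hM.isPrime⟩ : PrimeSpectrum A) ∈
        Set.range (PrimeSpectrum.comap (algebraMap A (A ⊗[A₀] B₀))) := hsurj _
    rw [range_comap_tensor] at hP
    have h1 : PrimeSpectrum.comap (algebraMap A₀ A) ⟨M, hM.isPrime⟩ ∈
        PrimeSpectrum.zeroLocus (I : Set A₀) := by
      show (I : Set A₀) ⊆ _
      exact Ideal.map_le_iff_le_comap.mp hle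
    rw [← hI] at h1
    exact h1 hP
  -- (iii) write 1 as a combination
  have h1mem : (1 : A) ∈ Submodule.span A ((algebraMap A₀ A) '' (I : Set A₀)) := by
    have : (1 : A) ∈ I.map (algebraMap A₀ A) := hmap ▸ Submodule.mem_top
    exact this
  obtain ⟨t, htI, c, hc⟩ := (Submodule.mem_span_image_iff_exists_fun A).mp h1mem
  -- (iv) the finitely presented algebra `A₂ = A₀[yᵢ]/(∑ aᵢ yᵢ - 1)`
  let rel : MvPolynomial t A₀ := ∑ i : t, MvPolynomial.X i * MvPolynomial.C (i : A₀) - 1
  let J : Ideal (MvPolynomial t A₀) := Ideal.span {rel}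
  let A₂ := MvPolynomial t A₀ ⧸ J
  have hA₂fp : Algebra.FinitePresentation A₀ A₂ :=
    Algebra.FinitePresentation.quotient ⟨{rel}, by simp [J]⟩
  have hrelA : MvPolynomial.aeval (R := A₀) c rel = 0 := by
    simp only [rel, map_sub, map_sum, map_mul, MvPolynomial.aeval_X, MvPolynomial.aeval_C, map_one]
    rw [sub_eq_zero, ← hc]
    simp [smul_eq_mul]
  let φ : A₂ →ₐ[A₀] A := Ideal.Quotient.liftₐ J (MvPolynomial.aeval c) (by
    intro x hx
    rw [Ideal.mem_span_singleton] at hx
    obtain ⟨y, rfl⟩ := hx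
    rw [map_mul, hrelA, zero_mul])
  let _ : Algebra A₂ A := φ.toRingHom.toAlgebra
  have : IsScalarTower A₀ A₂ A := IsScalarTower.of_algHom φ
  have hone : (1 : A₂) = ∑ i : t, (Ideal.Quotient.mk J (MvPolynomial.X i)) * algebraMap A₀ A₂ (i : A₀) := by
    have h1 : Ideal.Quotient.mk J rel = 0 :=
      Ideal.Quotient.eq_zero_iff_mem.mpr (Ideal.subset_span rfl)
    simp only [rel, map_sub, map_sum, map_mul, map_one] at h1
    rw [sub_eq_zero] at h1
    rw [← h1]
    rfl
  -- (v) faithful flatness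
  have hff : Module.FaithfullyFlat A₂ (A₂ ⊗[A₀] B₀) := by
    refine Module.FaithfullyFlat.of_comap_surjective (A := A₂) (B := A₂ ⊗[A₀] B₀) ?_
    intro q
    apply hmem q
    intro hle
    have h1 : (1 : A₂) ∈ q.asIdeal := by
      rw [hone]
      exact Ideal.sum_mem _ fun i _ => Ideal.mul_mem_left _ _ (hle (htI i.2))
    exact q.isPrime.ne_top ((Ideal.eq_top_iff_one _).mpr h1)
  exact finitePresentation_aux (A₀ := A₀) (A₂ := A₂) (A := A) (B₀ := B₀)

/-- change of base ring: a finitely presented model `A₁` of the base -/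
lemma finitePresentation_of_etale_comp_aux {R A₀ A₁ A B B₀ : Type u} [CommRing R] [CommRing A₀]
    [CommRing A₁] [CommRing A] [CommRing B] [CommRing B₀]
    [Algebra R A₁] [Algebra A₀ A₁] [Algebra A₁ A] [Algebra A₀ A] [IsScalarTower A₀ A₁ A]
    [Algebra R A] [IsScalarTower R A₁ A] [Algebra A B] [Algebra R B] [IsScalarTower R A B]
    [Algebra A₀ B₀] [Algebra.Etale A₀ B₀]
    [Algebra.FinitePresentation R A₁] [Algebra.FinitePresentation R B]
    (e : B ≃ₐ[A] A ⊗[A₀] B₀)
    (hsurj : Function.Surjective (PrimeSpectrum.comap (algebraMap A B))) :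
    Algebra.FinitePresentation R A := by
  let _ : Algebra A₁ B := ((algebraMap A B).comp (algebraMap A₁ A)).toAlgebra
  have : IsScalarTower A₁ A B := IsScalarTower.of_algebraMap_eq' rfl
  have : IsScalarTower R A₁ B := IsScalarTower.of_algebraMap_eq (fun x => by
    rw [IsScalarTower.algebraMap_apply R A B, IsScalarTower.algebraMap_apply R A₁ A]
    rfl)
  have h1 : Algebra.FinitePresentation A₁ B :=
    Algebra.FinitePresentation.of_restrict_scalars_finitePresentation R A₁ B
  let E : A ⊗[A₁] (A₁ ⊗[A₀] B₀) ≃ₐ[A] B :=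
    (Algebra.TensorProduct.cancelBaseChange A₀ A₁ A A B₀).trans e.symm
  have h2 : Algebra.FinitePresentation A₁ (A ⊗[A₁] (A₁ ⊗[A₀] B₀)) :=
    Algebra.FinitePresentation.equiv (E.symm.restrictScalars A₁)
  have hsurj' : Function.Surjective
      (PrimeSpectrum.comap (algebraMap A (A ⊗[A₁] (A₁ ⊗[A₀] B₀)))) := by
    intro p
    obtain ⟨q, hq⟩ := hsurj p
    refine ⟨PrimeSpectrum.comap (E : A ⊗[A₁] (A₁ ⊗[A₀] B₀) →+* B) q, ?_⟩
    rw [← PrimeSpectrum.comap_comp_apply]
    have : (E : A ⊗[A₁] (A₁ ⊗[A₀] B₀) →+* B).comp (algebraMap A (A ⊗[A₁] (A₁ ⊗[A₀] B₀))) =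
        algebraMap A B := by
      ext x
      exact E.commutes x
    rw [this, hq]
  have h3 : Algebra.FinitePresentation A₁ A :=
    finitePresentation_of_etale_tensor (A₀ := A₁) (A := A) (B₀ := A₁ ⊗[A₀] B₀) hsurj'
  exact Algebra.FinitePresentation.trans R A₁ A

/-- Finite presentation descends along étale surjections on the source (ring version). -/
lemma finitePresentation_of_etale_comp {R A B : Type u} [CommRing R] [CommRing A] [CommRing B]
    [Algebra R A] [Algebra A B] [Algebra R B] [IsScalarTower R A B] [Algebra.Etale A B]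
    (hsurj : Function.Surjective (PrimeSpectrum.comap (algebraMap A B)))
    [Algebra.FinitePresentation R B] : Algebra.FinitePresentation R A := by
  obtain ⟨A₀, B₀, _, _, hfg, hét, ⟨e⟩⟩ := Algebra.Etale.exists_subalgebra_fg ℤ A B
  have hA₀fp : Algebra.FinitePresentation ℤ A₀ := by
    have : Algebra.FiniteType ℤ A₀ := (Subalgebra.fg_iff_finiteType A₀).mp hfg
    exact Algebra.FinitePresentation.of_finiteType.mp this
  let _ : Algebra A₀ (R ⊗[ℤ] A₀) := Algebra.TensorProduct.rightAlgebra
  let ψ : R ⊗[ℤ] A₀ →ₐ[R] A := Algebra.TensorProduct.productLeftAlgHom (Algebra.ofId R A) A₀.val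
  let _ : Algebra (R ⊗[ℤ] A₀) A := ψ.toRingHom.toAlgebra
  have : IsScalarTower R (R ⊗[ℤ] A₀) A := IsScalarTower.of_algHom ψ
  have : IsScalarTower A₀ (R ⊗[ℤ] A₀) A := IsScalarTower.of_algebraMap_eq (fun x => by
    show (x : A) = ψ (1 ⊗ₜ x)
    simp [ψ])
  have : Algebra.FinitePresentation R (R ⊗[ℤ] A₀) := inferInstance
  exact finitePresentation_of_etale_comp_aux (R := R) (A₀ := A₀) (A₁ := R ⊗[ℤ] A₀) e hsurj

lemma ringHom_finitePresentation_of_etale_comp {R A B : Type u} [CommRing R] [CommRing A]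
    [CommRing B] (φ : R →+* A) (ψ : A →+* B) (hψ : ψ.Etale)
    (hs : Function.Surjective (PrimeSpectrum.comap ψ)) (h : (ψ.comp φ).FinitePresentation) :
    φ.FinitePresentation := by
  algebraize [φ, ψ, ψ.comp φ]
  exact finitePresentation_of_etale_comp (R := R) (A := A) (B := B) hs

/-- locally of finite presentation descends along an étale surjection on the source. -/
theorem locallyOfFinitePresentation_of_etale_comp {X' X Y : Scheme.{u}} (f : X' ⟶ X) (g : X ⟶ Y)
    [Etale f] [Surjective f] [LocallyOfFinitePresentation (f ≫ g)] :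
    LocallyOfFinitePresentation g :=
  descend_source (P := @LocallyOfFinitePresentation) ringHom_finitePresentation_of_etale_comp f g
    inferInstance

/-- étaleness descends along an étale surjection on the source. -/
theorem etale_of_etale_comp {X' X Y : Scheme.{u}} (f : X' ⟶ X) (g : X ⟶ Y)
    [Etale f] [Surjective f] [Etale (f ≫ g)] : Etale g := by
  have h1 : LocallyOfFinitePresentation g := locallyOfFinitePresentation_of_etale_comp f g
  have h2 : FormallyUnramified g := (Groth.Agent.S1180.result f g).1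
  have h3 : Flat g := Groth.Agent.Lib.helper22.flat_of_flat_comp f g
  exact Etale.of_formallyUnramified_of_flat g

end Groth.Agent.Lib.helper5.EtSrc
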