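import Mathlib

/-!
# fpqc descent for locally quasi-finite morphisms (helper5)

* `Algebra.QuasiFinite` codescends along faithfully flat ring maps;
* `LocallyQuasiFinite` descends along fpqc covers.
-/

set_option autoImplicit false
universe u

open TensorProduct CategoryTheory AlgebraicGeometry MorphismProperty

namespace Groth.Agent.Lib.helper5.QFDescent

/-- If `S ⊗[R] T` is quasi-finite over `S` and `S` is faithfully flat over `R`, then `T` is quasi-finite over `R`. -/
lemma quasiFinite_of_faithfullyFlat (R S T : Type*) [CommRing R] [CommRing S] [CommRing T]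
    [Algebra R S] [Algebra R T] [Module.FaithfullyFlat R S] [Algebra.QuasiFinite S (S ⊗[R] T)] :
    Algebra.QuasiFinite R T := by
  refine ⟨fun P hP => ?_⟩
  obtain ⟨⟨Q, hQ⟩, hQP⟩ :=
    PrimeSpectrum.comap_surjective_of_faithfullyFlat (A := R) (B := S) ⟨P, hP⟩
  have hPQ : P = Q.under R := (congrArg PrimeSpectrum.asIdeal hQP).symm
  subst hPQ
  let := Localization.AtPrime.algebraOfLiesOver (Q.under R) Q
  let e : Q.Fiber (S ⊗[R] T) ≃ₐ[Q.ResidueField]
      Q.ResidueField ⊗[(Q.under R).ResidueField] ((Q.under R).Fiber T) :=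
    (Algebra.TensorProduct.cancelBaseChange _ _ _ _ _).trans
      (Algebra.TensorProduct.cancelBaseChange _ _ _ _ _).symm
  have h1 : Module.Finite Q.ResidueField (Q.Fiber (S ⊗[R] T)) := inferInstance
  have h2 : Module.Finite Q.ResidueField
      (Q.ResidueField ⊗[(Q.under R).ResidueField] ((Q.under R).Fiber T)) :=
    .of_surjective e.toLinearMap e.surjective
  exact Module.Finite.of_finite_tensorProduct_of_faithfullyFlat Q.ResidueField

lemma codescendsAlong_quasiFinite :
    RingHom.CodescendsAlong RingHom.QuasiFinite RingHom.FaithfullyFlat := by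
  refine .mk _ RingHom.QuasiFinite.respectsIso fun R S T _ _ _ _ _ h h' ↦ ?_
  rw [RingHom.quasiFinite_algebraMap] at h' ⊢
  rw [RingHom.faithfullyFlat_algebraMap_iff] at h
  exact quasiFinite_of_faithfullyFlat R S T

instance : DescendsAlong @LocallyQuasiFinite.{u} (@Surjective ⊓ @Flat ⊓ @QuasiCompact) :=
  HasRingHomProperty.descendsAlong_flat codescendsAlong_quasiFinite

end Groth.Agent.Lib.helper5.QFDescent
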