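import Groth.Agent.Lib.Helper5.AlgSpLocPFpqc
import Groth.Agent.Lib.Helper5.EtaleSourceDescent
import Groth.Agent.Lib.Helper7.LfpOfComp
import Groth.Agent.Lib.Helper5.QuasiFiniteDescent
import Groth.Agent.S10265

/-!
# Instances of `LocPData` (helper5)

`LocPData P` for `P` = locally of finite type, locally of finite presentation, unramified, étale.
-/

set_option autoImplicit false
universe u
open CategoryTheory CategoryTheory.Limits AlgebraicGeometry
open AlgSp

namespace Groth.Agent.Lib.helper5.LocPBC

theorem locPData_lft : LocPData.{u} @LocallyOfFiniteType where
  baseChange := inferInstance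
  pre e g he hg := by
    have := he; have := hg
    infer_instance
  post k e hk he := by
    have := he; have := hk
    infer_instance
  cancel k b _ h := by
    have := h
    exact locallyOfFiniteType_of_comp k b
  descend f g hf hs h := by
    have := hf; have := hs; have := h
    exact Groth.Agent.S1179.locallyOfFiniteType_of_etale_comp f g

theorem locPData_lfp : LocPData.{u} @LocallyOfFinitePresentation where
  baseChange := inferInstance
  pre e g he hg := by
    have := he; have := hg
    infer_instance
  post k e hk he := by
    have := he; have := hk
    infer_instance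
  cancel k b hb h := by
    have := h; have := hb
    exact Groth.Agent.Lib.helper7.locallyOfFinitePresentation_of_comp k b
  descend f g hf hs h := by
    have := hf; have := hs; have := h
    exact EtSrc.locallyOfFinitePresentation_of_etale_comp f g

theorem locPData_unramified : LocPData.{u} (@LocallyOfFiniteType ⊓ @FormallyUnramified) where
  baseChange := inferInstance
  pre e g he hg := by
    have := he; have h1 : LocallyOfFiniteType g := hg.1; have h2 : FormallyUnramified g := hg.2
    exact ⟨inferInstanceAs (LocallyOfFiniteType (e ≫ g)),
      MorphismProperty.comp_mem @FormallyUnramified e g inferInstance h2⟩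
  post k e hk he := by
    have := he; have h1 : LocallyOfFiniteType k := hk.1; have h2 : FormallyUnramified k := hk.2
    exact ⟨inferInstanceAs (LocallyOfFiniteType (k ≫ e)),
      MorphismProperty.comp_mem @FormallyUnramified k e h2 inferInstance⟩
  cancel k b _ h := by
    have h1 : LocallyOfFiniteType (k ≫ b) := h.1
    have h2 : FormallyUnramified (k ≫ b) := h.2
    exact ⟨locallyOfFiniteType_of_comp k b, FormallyUnramified.of_comp k b⟩
  descend f g hf hs h := by
    have := hf; have := hs
    have h1 : LocallyOfFiniteType (f ≫ g) := h.1
    have h2 : FormallyUnramified (f ≫ g) := h.2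
    have := Groth.Agent.S1180.result f g
    exact ⟨this.2, this.1⟩

theorem locPData_etale : LocPData.{u} @Etale where
  baseChange := inferInstance
  pre e g he hg := by
    have := he; have := hg
    infer_instance
  post k e hk he := by
    have := he; have := hk
    infer_instance
  cancel k b hb h :=
    MorphismProperty.of_postcomp (W := @Etale) (W' := @Etale) k b hb h
  descend f g hf hs h := by
    have := hf; have := hs; have := h
    exact EtSrc.etale_of_etale_comp f g

theorem locPData_lqf : LocPData.{u} (@LocallyQuasiFinite ⊓ @LocallyOfFiniteType) where
  baseChange := inferInstance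
  pre e g he hg := by
    have := he; have h1 : LocallyQuasiFinite g := hg.1; have h2 : LocallyOfFiniteType g := hg.2
    have : LocallyQuasiFinite e := Groth.Agent.S10265.lqf_of_etale e
    exact ⟨inferInstanceAs (LocallyQuasiFinite (e ≫ g)),
      inferInstanceAs (LocallyOfFiniteType (e ≫ g))⟩
  post k e hk he := by
    have := he; have h1 : LocallyQuasiFinite k := hk.1; have h2 : LocallyOfFiniteType k := hk.2
    have : LocallyQuasiFinite e := Groth.Agent.S10265.lqf_of_etale e
    exact ⟨inferInstanceAs (LocallyQuasiFinite (k ≫ e)),
      inferInstanceAs (LocallyOfFiniteType (k ≫ e))⟩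
  cancel k b _ h := by
    have h1 : LocallyQuasiFinite (k ≫ b) := h.1
    have h2 : LocallyOfFiniteType (k ≫ b) := h.2
    exact ⟨LocallyQuasiFinite.of_comp k b, locallyOfFiniteType_of_comp k b⟩
  descend f g hf hs h := by
    have := hf; have := hs
    have h1 : LocallyQuasiFinite (f ≫ g) := h.1
    have h2 : LocallyOfFiniteType (f ≫ g) := h.2
    exact Groth.Agent.S1179.result f g

end Groth.Agent.Lib.helper5.LocPBC
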