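import Groth.Agent.Lib.Helper5.AlgSpLargestOpen
import Groth.Agent.Lib.Helper5.AlgSpEpi
import Groth.Agent.S9885
import Groth.Agent.S10194

/-!
Etale monomorphisms of algebraic spaces are open immersions; etale universally injective morphisms are
monomorphisms (helper5).
-/

set_option autoImplicit false
universe u
open CategoryTheory CategoryTheory.Limits AlgebraicGeometry
open AlgSp

namespace Groth.Agent.Lib.helper5.EtMono

variable {S : Scheme.{u}}

open Groth.Agent.Lib.helper11 in
/-- An etale morphism of algebraic spaces that is surjective on points is an epimorphism of sheaves. -/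
theorem epi_of_etale_surjective {X Y : Sp S} (hX : IsAlgSpace X) (f : X ⟶ Y)
    (hf : IsEtaleMor f) (hs : Function.Surjective (Points.map f)) : Epi f := by
  obtain ⟨U, p, hpe, hps⟩ := hX.atlas
  have hpf : RepWith @Etale (p ≫ f) := hf p hpe
  have hsurj : Function.Surjective (Points.ofPt (p ≫ f)) := by
    intro y
    obtain ⟨x, rfl⟩ := hs y
    obtain ⟨u, rfl⟩ := surjective_ofPt p hps x
    exact ⟨u, rfl⟩
  have hpfs : RepWith @Surjective (p ≫ f) := repWith_surjective_of_surjective _ hpf.1 hsurj
  have hls : Sheaf.IsLocallySurjective (p ≫ f) :=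
    Groth.Agent.S9885.result S _ _ _
      (Groth.Agent.S10194.repWith_mono (fun _ _ g hg => by
        have : Etale g := hg
        exact (inferInstance : Flat g)) hpf)
      (Groth.Agent.S10194.repWith_mono (fun _ _ g hg => by
        have : Etale g := hg
        exact (inferInstance : LocallyOfFinitePresentation g)) hpf) hpfs
  have : Epi (p ≫ f) := inferInstance
  exact epi_of_epi p f

/-- An etale monomorphism of algebraic spaces that is surjective on points is an isomorphism. -/
theorem isIso_of_etale_mono_surjective {X Y : Sp S} (hX : IsAlgSpace X) (f : X ⟶ Y) [Mono f]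
    (hf : IsEtaleMor f) (hs : Function.Surjective (Points.map f)) : IsIso f := by
  have := epi_of_etale_surjective hX f hf hs
  exact isIso_of_mono_of_epi f

open Groth.Agent.Lib.helper5.SmLocal Groth.Agent.Lib.helper5.LargestOpen in
/-- An etale monomorphism of algebraic spaces is an open immersion. -/
theorem repWith_oi_of_etale_mono {X Y : Sp S} (hX : IsAlgSpace X) (hY : IsAlgSpace Y) (f : X ⟶ Y)
    [Mono f] (hf : IsEtaleMor f) : RepWith @IsOpenImmersion f := by
  have hopen : IsOpenMap (Points.map f) :=
    isOpenMap_of_locP (Q₀ := @Etale) (fun g hg => by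
      have : Etale g := hg
      exact g.isOpenMap) hX hY f
      (Groth.Agent.S10265.locP_etale_of_isEtaleMor _ hf)
  obtain ⟨Y', j, hj, hrange, -⟩ :=
    Groth.Agent.Lib.helper5.OpenSub.exists_openSub (⟨Y, hY⟩ : Space S) (Set.range (Points.map f))
      hopen.isOpen_range
  obtain ⟨f', hf', sq⟩ := exists_factor j.hom hj f (by rw [hrange])
  have hf'e : IsEtaleMor f' := isEtaleMor_of_isPullback hX hY Y'.2 sq hf
  have hm : Mono f' := mono_of_mono_fac hf'
  have hs : Function.Surjective (Points.map f') := by
    intro y'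
    have hy : Points.map j.hom y' ∈ Set.range (Points.map f) := by
      rw [← hrange]; exact ⟨y', rfl⟩
    obtain ⟨x, hx⟩ := hy
    refine ⟨x, injective_of_oi hj ?_⟩
    rw [← Points.map_comp, hf', hx]
  have hiso := isIso_of_etale_mono_surjective hX f' hf'e hs
  rw [← hf']
  exact (RepWith (S := S) @IsOpenImmersion).comp_mem f' j.hom
    (Groth.Agent.Lib.helper7.repWith_of_isIso @IsOpenImmersion f') hj

open Groth.Agent.Lib.helper5.SmLocal in
/-- An etale, universally injective morphism of algebraic spaces is a monomorphism. -/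
theorem mono_of_etale_univInjective {X Y : Sp S} (hX : IsAlgSpace X) (hY : IsAlgSpace Y) (f : X ⟶ Y)
    (het : IsEtaleMor f) (hinj : IsUnivInjectiveMor f) : Mono f := by
  have sq : IsPullback (pullback.fst f f) (pullback.snd f f) f f := IsPullback.of_hasPullback f f
  have hP : IsAlgSpace (pullback f f) :=
    Groth.Agent.Lib.helper5.isAlgSpace_of_isPullback hY.diag hX hX sq
  have hpr2 : IsEtaleMor (pullback.snd f f) := isEtaleMor_of_isPullback hX hY hX sq het
  let Δ : X ⟶ pullback f f := pullback.lift (𝟙 X) (𝟙 X) rfl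
  have hΔ1 : Δ ≫ pullback.fst f f = 𝟙 X := pullback.lift_fst _ _ _
  have hΔ2 : Δ ≫ pullback.snd f f = 𝟙 X := pullback.lift_snd _ _ _
  have hΔe : IsEtaleMor Δ := isEtaleMor_of_comp_eq_id hP Δ _ hpr2 hΔ2
  have hΔm : Mono Δ := mono_of_mono_fac hΔ2
  have hΔoi : RepWith @IsOpenImmersion Δ := repWith_oi_of_etale_mono hX hP Δ hΔe
  have hinj2 : Function.Injective (Points.map (pullback.snd f f)) := hinj hX f _ _ sq
  have hΔs : IsSurjectiveMor Δ := fun z =>
    ⟨Points.map (pullback.snd f f) z, hinj2 (by rw [← Points.map_comp, hΔ2, Points.map_id])⟩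
  have hΔiso := Groth.Agent.S10194.isIso_of_openImmersion_of_surjective Δ hΔoi hΔs
  have hpr : pullback.fst f f = pullback.snd f f := by
    rw [← cancel_epi Δ, hΔ1, hΔ2]
  refine ⟨fun a b h => ?_⟩
  obtain ⟨l, h1, h2⟩ := sq.exists_lift a b h
  rw [← h1, ← h2, hpr]

end Groth.Agent.Lib.helper5.EtMono
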