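import Groth.Agent.Lib.Helper5.AlgSpWhereSurjFlat
import Groth.Agent.Lib.Helper5.AlgSpLocPBC
import Groth.Agent.Lib.Helper5.AlgSpLocPInst
import Groth.Agent.S10194
import Groth.Agent.S10211
import Groth.Agent.S10261
import Groth.Agent.S10265
import Groth.Agent.S10266

/-!
# Isomorphisms of algebraic spaces: local characterisation (helper5)

* `isEtaleMor_of_isIso`, `locP_etale_of_isIso`
* `isUnivInjectiveMor_of_isIso`, `isSurjectiveMor_of_isIso`
* `isIso_of_flat_unram_univInj_surj` : flat + lfp + unramified + universally injective + surjective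
  ⇒ isomorphism.
* `isOpen_range_of_oi` : the image on points of a representable open immersion is open.
-/

set_option autoImplicit false
universe u
open CategoryTheory CategoryTheory.Limits AlgebraicGeometry
open AlgSp

namespace Groth.Agent.Lib.helper5.AlgSpWhereIso

variable {S : Scheme.{u}}

theorem repWith_etale_of_isIso {F G : Sp S} (f : F ⟶ G) [IsIso f] : RepWith @Etale f := by
  have h1 : RepWith @Etale (𝟙 G) := (RepWith (S := S) @Etale).id_mem G
  have sq : IsPullback f f (𝟙 G) (𝟙 G) := IsPullback.of_vert_isIso ⟨by simp⟩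
  exact (RepWith (S := S) @Etale).of_isPullback sq.flip h1

theorem isEtaleMor_of_isIso {F G : Sp S} (f : F ⟶ G) [IsIso f] : IsEtaleMor f := fun _ φ hφ =>
  (RepWith (S := S) @Etale).comp_mem φ f hφ (repWith_etale_of_isIso f)

theorem locP_etale_of_isIso {F G : Sp S} (f : F ⟶ G) [IsIso f] : LocP @Etale f :=
  Groth.Agent.S10265.locP_etale_of_isEtaleMor f (isEtaleMor_of_isIso f)

theorem isSurjectiveMor_of_isIso {F G : Sp S} (f : F ⟶ G) [IsIso f] : IsSurjectiveMor f := by
  intro y
  refine ⟨Points.map (inv f) y, ?_⟩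
  rw [← Points.map_comp, IsIso.inv_hom_id, Points.map_id]

theorem injective_map_of_isIso {F G : Sp S} (f : F ⟶ G) [IsIso f] :
    Function.Injective (Points.map f) := by
  intro x y hxy
  have := congrArg (Points.map (inv f)) hxy
  rwa [← Points.map_comp, ← Points.map_comp, IsIso.hom_inv_id, Points.map_id, Points.map_id] at this

theorem isUnivInjectiveMor_of_isIso {F G : Sp S} (f : F ⟶ G) [IsIso f] :
    IsUnivInjectiveMor f := by
  intro Z Z' _ g fst snd sq
  haveI : IsIso snd := by
    have := sq.flip
    exact IsPullback.isIso_fst_of_isIso sq.flip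
  exact injective_map_of_isIso snd

theorem isIso_of_flat_unram_univInj_surj {X Y : Space S} (f : X ⟶ Y)
    (hfp : LocP @LocallyOfFinitePresentation f.hom) (hfl : LocP @Flat f.hom)
    (hun : LocP (@LocallyOfFiniteType ⊓ @FormallyUnramified) f.hom)
    (hinj : IsUnivInjectiveMor f.hom) (hsurj : IsSurjectiveMor f.hom) : IsIso f.hom := by
  have het : LocP @Etale f.hom := by
    intro U V a b h ha hb hc
    change Etale h.left
    rw [Etale.iff_flat_and_formallyUnramified]
    exact ⟨hfl a b h ha hb hc, (hun a b h ha hb hc).2, hfp a b h ha hb hc⟩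
  have het' : IsEtaleMor f.hom := Groth.Agent.S10266.isEtaleMor_of_locP_etale Y.2 f.hom het
  have hoi : RepWith @IsOpenImmersion f.hom := Groth.Agent.S10261.result f het' hinj
  exact Groth.Agent.S10194.isIso_of_openImmersion_of_surjective f.hom hoi hsurj

theorem isOpen_range_of_oi {X Y : Space S} (w : X ⟶ Y) (hw : RepWith @IsOpenImmersion w.hom) :
    IsOpen (Set.range (Points.map w.hom)) :=
  (Groth.Agent.S10211.result w
    (Groth.Agent.Lib.helper5.LargestOpen.isEtaleMor_of_oi w.hom hw)).isOpen_range

end Groth.Agent.Lib.helper5.AlgSpWhereIso
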