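import Mathlib
import Groth.Prelude.Def_MoreMor
import Groth.Agent.Lib.Helper18.StalkDescent
import Groth.Agent.Lib.Helper17.FlatStalkBC
import Groth.Agent.Lib.Helper17.CMBaseChange2

/-!
# Fibrewise flatness at a point: independence of the field point (helper5)

* `flat_comp_left_iff`, `flat_comp_right_iff` : flatness at a point and composition with morphisms
  inducing isomorphisms on stalks.
* `flat_stalkMap_descent_of_comm` : descent of flatness at a point along a commutative square.
* `FibFlatAt f g x` : the fibre morphism `X_s ⟶ Y_s` (`s = g (f x)`) is flat at `x`.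
* `fibFlatAt_iff_of_isPullback` : `FibFlatAt` may be tested on the base change to any field point
  `Spec K ⟶ S` (and any choice of pullbacks).
-/

set_option autoImplicit false
universe u
open CategoryTheory CategoryTheory.Limits AlgebraicGeometry

namespace Groth.Agent.Lib.helper5.FibCrit

section Basic

variable {X Y Z : Scheme.{u}}

theorem flat_stalkMap_comp (f : X ⟶ Y) (g : Y ⟶ Z) (x : X) (hf : (f.stalkMap x).hom.Flat)
    (hg : (g.stalkMap (f x)).hom.Flat) : ((f ≫ g).stalkMap x).hom.Flat := by
  rw [Scheme.Hom.stalkMap_comp]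
  exact RingHom.Flat.comp hg hf

theorem flat_stalkMap_congr {f g : X ⟶ Y} (h : f = g) (x : X) :
    (f.stalkMap x).hom.Flat ↔ (g.stalkMap x).hom.Flat := by
  subst h; rfl

theorem flat_stalkMap_of_bijective (f : X ⟶ Y) (x : X)
    (h : Function.Bijective (f.stalkMap x).hom) : (f.stalkMap x).hom.Flat :=
  RingHom.Flat.of_bijective h

theorem bijective_stalkMap_of_isOpenImmersion (f : X ⟶ Y) [IsOpenImmersion f] (x : X) :
    Function.Bijective (f.stalkMap x).hom :=
  ConcreteCategory.bijective_of_isIso (f.stalkMap x)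

/-- precomposition with a morphism inducing an isomorphism on the stalk. -/
theorem flat_comp_left_iff (j : X ⟶ Y) (f : Y ⟶ Z) (x : X)
    (hj : Function.Bijective (j.stalkMap x).hom) :
    ((j ≫ f).stalkMap x).hom.Flat ↔ (f.stalkMap (j x)).hom.Flat := by
  rw [Scheme.Hom.stalkMap_comp]
  constructor
  · intro h
    let e := RingEquiv.ofBijective (j.stalkMap x).hom hj
    have h2 : (e.symm.toRingHom.comp ((j.stalkMap x).hom.comp (f.stalkMap (j x)).hom)).Flat :=
      RingHom.Flat.comp h (RingHom.Flat.of_bijective e.symm.bijective)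
    have h3 : e.symm.toRingHom.comp ((j.stalkMap x).hom.comp (f.stalkMap (j x)).hom) =
        (f.stalkMap (j x)).hom := by
      ext a
      exact e.symm_apply_apply _
    rwa [h3] at h2
  · intro h
    exact RingHom.Flat.comp h (RingHom.Flat.of_bijective hj)

/-- postcomposition with a morphism inducing an isomorphism on the stalk. -/
theorem flat_comp_right_iff (f : X ⟶ Y) (j : Y ⟶ Z) (x : X)
    (hj : Function.Bijective (j.stalkMap (f x)).hom) :
    ((f ≫ j).stalkMap x).hom.Flat ↔ (f.stalkMap x).hom.Flat := by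
  rw [Scheme.Hom.stalkMap_comp]
  constructor
  · intro h
    let e := RingEquiv.ofBijective (j.stalkMap (f x)).hom hj
    have h2 : (((f.stalkMap x).hom.comp (j.stalkMap (f x)).hom).comp e.symm.toRingHom).Flat :=
      RingHom.Flat.comp (RingHom.Flat.of_bijective e.symm.bijective) h
    have h3 : ((f.stalkMap x).hom.comp (j.stalkMap (f x)).hom).comp e.symm.toRingHom =
        (f.stalkMap x).hom := by
      ext a
      change (f.stalkMap x).hom ((j.stalkMap (f x)).hom (e.symm a)) = _
      congr 1
      exact e.apply_symm_apply a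
    rwa [h3] at h2
  · intro h
    exact RingHom.Flat.comp (RingHom.Flat.of_bijective hj) h

/-- descent of flatness at a point along a commutative square whose vertical maps are flat at the
relevant points. -/
theorem flat_stalkMap_descent_of_comm {X' Y' : Scheme.{u}} {f : X ⟶ Y} {f' : X' ⟶ Y'}
    {g' : X' ⟶ X} {g : Y' ⟶ Y} (w : g' ≫ f = f' ≫ g) (x' : X')
    (hg : (g.stalkMap (f' x')).hom.Flat) (hg' : (g'.stalkMap x').hom.Flat)
    (h' : (f'.stalkMap x').hom.Flat) : (f.stalkMap (g' x')).hom.Flat := by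
  have h1 : ((g' ≫ f).stalkMap x').hom.Flat := by
    rw [flat_stalkMap_congr w]
    exact flat_stalkMap_comp f' g x' h' hg
  exact H18Stalk.stalk_flat_descent f g' x' hg' h1

end Basic

section Fibre

variable {X Y S : Scheme.{u}}

theorem isPullback_fiberMap (f : X ⟶ Y) (g : Y ⟶ S) (s : S) :
    IsPullback ((f ≫ g).fiberι s) (MoreMor.fiberMap f g s) f (g.fiberι s) := by
  have hfst : MoreMor.fiberMap f g s ≫ g.fiberι s = (f ≫ g).fiberι s ≫ f :=
    pullback.lift_fst _ _ _
  have hsnd : MoreMor.fiberMap f g s ≫ g.fiberToSpecResidueField s =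
      (f ≫ g).fiberToSpecResidueField s := pullback.lift_snd _ _ _
  have big : IsPullback ((f ≫ g).fiberι s)
      (MoreMor.fiberMap f g s ≫ g.fiberToSpecResidueField s) (f ≫ g)
      (S.fromSpecResidueField s) := by
    rw [hsnd]
    exact IsPullback.of_hasPullback _ _
  have bot : IsPullback (g.fiberι s) (g.fiberToSpecResidueField s) g
      (S.fromSpecResidueField s) := IsPullback.of_hasPullback _ _
  exact IsPullback.of_bot big hfst.symm bot

/-- the fibre morphism `X_s ⟶ Y_s`, `s = g (f x)`, is flat at `x`. -/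
def FibFlatAt (f : X ⟶ Y) (g : Y ⟶ S) (x : X) : Prop :=
  ((MoreMor.fiberMap f g (g (f x))).stalkMap ((f ≫ g).asFiber x)).hom.Flat

theorem fibFlatAt_iff_of_fiberι_eq (f : X ⟶ Y) (g : Y ⟶ S) (x : X) (s : S)
    (z₀ : (f ≫ g).fiber s) (hz : (f ≫ g).fiberι s z₀ = x) :
    ((MoreMor.fiberMap f g s).stalkMap z₀).hom.Flat ↔ FibFlatAt f g x := by
  have hs : (f ≫ g) x = s := by
    have : x ∈ (f ≫ g) ⁻¹' {s} := by
      rw [← (f ≫ g).range_fiberι s]; exact ⟨z₀, hz⟩
    exact this
  subst hs
  have : z₀ = (f ≫ g).asFiber x :=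
    ((f ≫ g).fiberι _).isEmbedding.injective (by rw [hz, Scheme.Hom.fiberι_asFiber])
  subst this
  rfl

/-- `FibFlatAt` can be tested after base change to a field point factoring through the residue
field of `s`, for any choice of the pullbacks. -/
theorem fibFlatAt_iff_of_isPullback_aux (f : X ⟶ Y) (g : Y ⟶ S) (s : S) {K : Type u} [Field K]
    (φ : S.residueField s ⟶ .of K) {YK XK : Scheme.{u}} (ιV : YK ⟶ Y)
    (pV : YK ⟶ Spec (.of K)) (sqV : IsPullback ιV pV g (Spec.map φ ≫ S.fromSpecResidueField s))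
    (ιU : XK ⟶ X) (hw : XK ⟶ YK) (sqU : IsPullback ιU hw f ιV) (z : XK) :
    (hw.stalkMap z).hom.Flat ↔ FibFlatAt f g (ιU z) := by
  have sqV₀ : IsPullback (g.fiberι s) (g.fiberToSpecResidueField s) g
      (S.fromSpecResidueField s) := IsPullback.of_hasPullback _ _
  have sqU₀ := isPullback_fiberMap f g s
  -- the map `Y_K ⟶ Y_s`
  let b : YK ⟶ g.fiber s := sqV₀.lift ιV (pV ≫ Spec.map φ) (by rw [sqV.w, Category.assoc])
  have hb1 : b ≫ g.fiberι s = ιV := sqV₀.lift_fst _ _ _
  have hb2 : b ≫ g.fiberToSpecResidueField s = pV ≫ Spec.map φ := sqV₀.lift_snd _ _ _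
  have sqb : IsPullback b pV (g.fiberToSpecResidueField s) (Spec.map φ) := by
    refine IsPullback.of_right ?_ hb2 sqV₀
    rw [hb1]
    exact sqV
  haveI : Flat (Spec.map φ) := by
    rw [HasRingHomProperty.Spec_iff (P := @Flat)]
    letI : Field (S.residueField s) := inferInstanceAs (Field (IsLocalRing.ResidueField _))
    letI := φ.hom.toAlgebra
    exact (RingHom.flat_algebraMap_iff).mpr inferInstance
  haveI : Flat b := MorphismProperty.of_isPullback sqb.flip inferInstance
  -- the map `X_K ⟶ X_s`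
  let a : XK ⟶ (f ≫ g).fiber s := sqU₀.lift ιU (hw ≫ b) (by rw [sqU.w, Category.assoc, hb1])
  have ha1 : a ≫ (f ≫ g).fiberι s = ιU := sqU₀.lift_fst _ _ _
  have ha2 : a ≫ MoreMor.fiberMap f g s = hw ≫ b := sqU₀.lift_snd _ _ _
  have sqa : IsPullback a hw (MoreMor.fiberMap f g s) b := by
    refine IsPullback.of_right ?_ ha2 sqU₀
    rw [ha1, hb1]
    exact sqU
  haveI : Flat a := MorphismProperty.of_isPullback sqa.flip inferInstance
  have hz : (f ≫ g).fiberι s (a z) = ιU z := by
    rw [← Scheme.Hom.comp_apply, ha1]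
  rw [← fibFlatAt_iff_of_fiberι_eq f g (ιU z) s (a z) hz]
  constructor
  · intro h
    exact Groth.Agent.Lib.helper17.CMBaseChange.flat_stalkMap_descent sqa z
      (Flat.stalkMap b _) (Flat.stalkMap a z) h
  · intro h
    exact Groth.Agent.Lib.helper17.FlatStalkBC.flat_stalkMap_of_isPullback sqa.flip z h

/-- `FibFlatAt` can be tested after base change to any field point, for any choice of the
pullbacks. -/
theorem fibFlatAt_iff_of_isPullback (f : X ⟶ Y) (g : Y ⟶ S) {K : Type u} [Field K]
    (t : Spec (.of K) ⟶ S) {YK XK : Scheme.{u}} (ιV : YK ⟶ Y)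
    (pV : YK ⟶ Spec (.of K)) (sqV : IsPullback ιV pV g t)
    (ιU : XK ⟶ X) (hw : XK ⟶ YK) (sqU : IsPullback ιU hw f ιV) (z : XK) :
    (hw.stalkMap z).hom.Flat ↔ FibFlatAt f g (ιU z) := by
  have ht := Scheme.descResidueField_stalkClosedPointTo_fromSpecResidueField K S t
  have sqV' : IsPullback ιV pV g
      (Spec.map (Scheme.descResidueField (Scheme.stalkClosedPointTo t)) ≫
        S.fromSpecResidueField (t (IsLocalRing.closedPoint K))) := by
    rw [ht]; exact sqV
  exact fibFlatAt_iff_of_isPullback_aux f g _ _ ιV pV sqV' ιU hw sqU z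

end Fibre

end Groth.Agent.Lib.helper5.FibCrit
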