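import Groth.Agent.Lib.Helper5.AlgSpUniv2

/-!
# Descent of `UnivSp Q` along general covers of the target (helper5)

* `univSp_of_cover`: `UnivSp Q f` descends along a morphism `p : h_V ⟶ Y` with a base-change-stable property `R`
  such that `Q` descends along pullback squares whose bottom map has `R`.
* `isSurjectiveMor_of_isPullback`: surjectivity on points is stable under base change.
* `injective_of_isPullback_of_surjective`: injectivity on points descends along base change by a
  morphism surjective on points.
-/

set_option autoImplicit false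
universe u

open CategoryTheory CategoryTheory.Limits AlgebraicGeometry Opposite Topology

namespace Groth.Agent.Lib.helper5

open AlgSp

variable {S : Scheme.{u}}

/-- `UnivSp Q` descends along a cover `p : h_V ⟶ Y` of the target with property `R`. -/
theorem univSp_of_cover {Q R : MorphismProperty (Sp S)}
    (hR : ∀ {A B C D : Sp S} {fst : A ⟶ B} {snd : A ⟶ C} {k : B ⟶ D} {g : C ⟶ D},
      IsPullback fst snd k g → R g → R fst)
    (hQ : ∀ {F G F' G' : Sp S} {a : F' ⟶ F} {s : F' ⟶ G'} {t : F ⟶ G} {b : G' ⟶ G},
      IsPullback a s t b → R b → Q s → Q t)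
    {X Y : Sp S} (hY : Representable (Limits.diag Y)) (f : X ⟶ Y) {V : Over S}
    (p : (yon S).obj V ⟶ Y) (hp : R p) {P : Sp S}
    {fst : P ⟶ X} {snd : P ⟶ (yon S).obj V} (sq : IsPullback fst snd f p) (h : UnivSp Q snd) :
    UnivSp Q f := by
  intro Z Z' hZ g fstZ sndZ sqZ
  have sqV : IsPullback (pullback.fst g p) (pullback.snd g p) g p := IsPullback.of_hasPullback g p
  have hZV : IsAlgSpace (pullback g p) :=
    isAlgSpace_of_isPullback hY hZ (IsAlgSpace.yon_obj V) sqV
  have hpR : R (pullback.fst g p) := hR sqV hp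
  have sqT : IsPullback (pullback.fst sndZ (pullback.fst g p)) (pullback.snd sndZ (pullback.fst g p))
      sndZ (pullback.fst g p) := IsPullback.of_hasPullback _ _
  have sq2 := sqT.paste_horiz sqZ
  rw [sqV.w] at sq2
  have hl : (pullback.fst sndZ (pullback.fst g p) ≫ fstZ) ≫ f =
      (pullback.snd sndZ (pullback.fst g p) ≫ pullback.snd g p) ≫ p := by
    rw [sq2.w, Category.assoc]
  have sq3 : IsPullback (sq.lift _ _ hl) (pullback.snd sndZ (pullback.fst g p)) snd
      (pullback.snd g p) := by
    refine IsPullback.of_right ?_ (sq.lift_snd _ _ _) sq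
    rw [sq.lift_fst]
    exact sq2
  exact hQ sqT hpR (h hZV _ _ _ sq3)

/-- Surjectivity on points is stable under base change. -/
theorem isSurjectiveMor_of_isPullback {A B C D : Sp S} {fst : A ⟶ B} {snd : A ⟶ C} {k : B ⟶ D}
    {g : C ⟶ D} (sq : IsPullback fst snd k g) (hg : IsSurjectiveMor g) : IsSurjectiveMor fst := by
  intro w
  obtain ⟨z, hz⟩ := hg (Points.map k w)
  obtain ⟨x, hx, _⟩ := Groth.Agent.Lib.helper10.exists_point_of_isPullback sq w z hz.symm
  exact ⟨x, hx⟩

/-- Injectivity on points descends along base change by a morphism surjective on points. -/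
theorem injective_of_isPullback_of_surjective {F G F' G' : Sp S} {a : F' ⟶ F} {s : F' ⟶ G'}
    {t : F ⟶ G} {b : G' ⟶ G} (sq : IsPullback a s t b) (hb : IsSurjectiveMor b)
    (hs : Function.Injective (Points.map s)) : Function.Injective (Points.map t) := by
  intro y1 y2 hy
  obtain ⟨c, hc⟩ := hb (Points.map t y1)
  obtain ⟨x1, hx1, hx1'⟩ := Groth.Agent.Lib.helper10.exists_point_of_isPullback sq y1 c hc.symm
  obtain ⟨x2, hx2, hx2'⟩ :=
    Groth.Agent.Lib.helper10.exists_point_of_isPullback sq y2 c (hy ▸ hc.symm)
  rw [← hx1, ← hx2, hs (hx1'.trans hx2'.symm)]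

end Groth.Agent.Lib.helper5
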