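import Groth.Agent.Lib.Helper7.AlgSpQC
import Groth.Agent.Lib.Helper5.AlgSpUniv3

/-!
# Quasi-compactness of sheaves tested on families of etale charts of the base (helper5)

* `isQuasiCompactSp_of_family`: if `W' ⟶ W` is a map of sheaves, `W'` has an atlas, `|W|` is compact, and
  `c i : h_{Z i} ⟶ W` is a jointly surjective family of representable etale maps such that every
  `W' ×_W h_{Z i}` is quasi-compact, then `W'` is quasi-compact.
* `isQuasiCompactMor_of_isPullback`: quasi-compact morphisms are stable under base change.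
* `isQuasiCompactMor_of_etale_cover`: quasi-compactness of a morphism descends along a representable etale
  surjective chart of the target.
-/

set_option autoImplicit false
universe u

open CategoryTheory CategoryTheory.Limits AlgebraicGeometry Opposite Topology

namespace Groth.Agent.Lib.helper5

open AlgSp Groth.Agent.Lib.helper11 Groth.Agent.Lib.helper7.AlgSpFibre Groth.Agent.Lib.helper7.AlgSpQC

variable {S : Scheme.{u}}

/-- Quasi-compactness of `W'` over a base `W` with compact space of points, tested on a jointly surjective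
family of etale charts of `W`. -/
theorem isQuasiCompactSp_of_family {W W' : Sp S} (sndW : W' ⟶ W) (hat : HasAtlas W')
    [CompactSpace (Points W)] {ι : Type*} (Z : ι → Over S) (c : ∀ i, (yon S).obj (Z i) ⟶ W)
    (hc : ∀ i, RepWith @Etale (c i)) (hsurj : ∀ w : Points W, ∃ i z, Points.ofPt (c i) z = w)
    (hQ : ∀ i, IsQuasiCompactSp (pullback sndW (c i))) : IsQuasiCompactSp W' := by
  have hopen : ∀ i, IsOpen (Set.range (Points.ofPt (c i))) := fun i =>
    (isOpenMap_ofPt (c i) (hc i)).isOpen_range
  obtain ⟨s, hs⟩ := isCompact_univ.elim_finite_subcover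
    (fun i => Set.range (Points.ofPt (c i))) hopen (by
      intro w _
      obtain ⟨i, z, hz⟩ := hsurj w
      exact Set.mem_iUnion.mpr ⟨i, z, hz⟩)
  have sqT : ∀ i, IsPullback (pullback.fst sndW (c i)) (pullback.snd sndW (c i)) sndW (c i) :=
    fun i => IsPullback.of_hasPullback _ _
  have hcomp : ∀ i, IsCompact (Set.range (Points.map (pullback.fst sndW (c i)))) := by
    intro i
    have := compactSpace_of_isQuasiCompactSp (hQ i)
    exact isCompact_range (Points.continuous_map _)
  have hcs : CompactSpace (Points W') := by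
    constructor
    have : (Set.univ : Set (Points W')) =
        ⋃ i ∈ s, Set.range (Points.map (pullback.fst sndW (c i))) := by
      symm
      rw [Set.eq_univ_iff_forall]
      intro w'
      have := hs (Set.mem_univ (Points.map sndW w'))
      simp only [Set.mem_iUnion] at this
      obtain ⟨i, hi, z, hz⟩ := this
      have e : Points.map sndW w' = Points.map (c i) (Points.ofScheme (Z i) z) := by
        rw [← Points.ofPt_eq_map_ofScheme, hz]
      obtain ⟨x, hx, _⟩ := Groth.Agent.Lib.helper10.exists_point_of_isPullback (sqT i) w' _ e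
      exact Set.mem_iUnion₂.mpr ⟨i, hi, x, hx⟩
    rw [this]
    exact s.isCompact_biUnion fun i _ => hcomp i
  exact isQuasiCompactSp_of_compactSpace hat

/-- Variant of `isQuasiCompactSp_of_family` with open images instead of etale charts. -/
theorem isQuasiCompactSp_of_family' {W W' : Sp S} (sndW : W' ⟶ W) (hat : HasAtlas W')
    [CompactSpace (Points W)] {ι : Type*} (Z : ι → Over S) (c : ∀ i, (yon S).obj (Z i) ⟶ W)
    (hopen : ∀ i, IsOpen (Set.range (Points.ofPt (c i))))
    (hsurj : ∀ w : Points W, ∃ i z, Points.ofPt (c i) z = w)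
    (hQ : ∀ i, IsQuasiCompactSp (pullback sndW (c i))) : IsQuasiCompactSp W' := by
  obtain ⟨s, hs⟩ := isCompact_univ.elim_finite_subcover
    (fun i => Set.range (Points.ofPt (c i))) hopen (by
      intro w _
      obtain ⟨i, z, hz⟩ := hsurj w
      exact Set.mem_iUnion.mpr ⟨i, z, hz⟩)
  have sqT : ∀ i, IsPullback (pullback.fst sndW (c i)) (pullback.snd sndW (c i)) sndW (c i) :=
    fun i => IsPullback.of_hasPullback _ _
  have hcomp : ∀ i, IsCompact (Set.range (Points.map (pullback.fst sndW (c i)))) := by
    intro i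
    have := compactSpace_of_isQuasiCompactSp (hQ i)
    exact isCompact_range (Points.continuous_map _)
  have hcs : CompactSpace (Points W') := by
    constructor
    have : (Set.univ : Set (Points W')) =
        ⋃ i ∈ s, Set.range (Points.map (pullback.fst sndW (c i))) := by
      symm
      rw [Set.eq_univ_iff_forall]
      intro w'
      have := hs (Set.mem_univ (Points.map sndW w'))
      simp only [Set.mem_iUnion] at this
      obtain ⟨i, hi, z, hz⟩ := this
      have e : Points.map sndW w' = Points.map (c i) (Points.ofScheme (Z i) z) := by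
        rw [← Points.ofPt_eq_map_ofScheme, hz]
      obtain ⟨x, hx, _⟩ := Groth.Agent.Lib.helper10.exists_point_of_isPullback (sqT i) w' _ e
      exact Set.mem_iUnion₂.mpr ⟨i, hi, x, hx⟩
    rw [this]
    exact s.isCompact_biUnion fun i _ => hcomp i
  exact isQuasiCompactSp_of_compactSpace hat

/-- Quasi-compact morphisms of sheaves are stable under base change. -/
theorem isQuasiCompactMor_of_isPullback {F G F' G' : Sp S} {a : F' ⟶ F} {s : F' ⟶ G'} {t : F ⟶ G}
    {b : G' ⟶ G} (sq : IsPullback a s t b) (ht : IsQuasiCompactMor t) : IsQuasiCompactMor s := by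
  intro Z Z' hZ hZc k u v sqZ
  exact ht hZ hZc (k ≫ b) (u ≫ a) v (sqZ.paste_horiz sq)

/-- Quasi-compactness of a morphism descends along a representable etale surjective chart of the
target. -/
theorem isQuasiCompactMor_of_etale_cover {X Y : Sp S} (hX : HasAtlas X)
    (hY : Representable (Limits.diag Y)) (f : X ⟶ Y) {A : Over S} (c : (yon S).obj A ⟶ Y)
    (hce : RepWith @Etale c) (hcs : RepWith @Surjective c) {X'' : Sp S} {q₁ : X'' ⟶ X}
    {q₂ : X'' ⟶ (yon S).obj A} (sq : IsPullback q₁ q₂ f c) (hq : IsQuasiCompactMor q₂) :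
    IsQuasiCompactMor f := by
  intro W W' hW hWc k fstW sndW sqW
  have := compactSpace_of_isQuasiCompactSp hWc
  have hat : HasAtlas W' := hasAtlas_of_isPullback hY hX hW.atlas sqW
  -- the base change of the chart to `W`
  have sqV : IsPullback (pullback.fst k c) (pullback.snd k c) k c := IsPullback.of_hasPullback k c
  have hWA : IsAlgSpace (pullback k c) := isAlgSpace_of_isPullback hY hW (IsAlgSpace.yon_obj A) sqV
  have hπe : RepWith @Etale (pullback.fst k c) :=
    (repWith_isStableUnderBaseChange (S := S) @Etale).of_isPullback sqV.flip hce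
  have hπs : RepWith @Surjective (pullback.fst k c) :=
    (repWith_isStableUnderBaseChange (S := S) @Surjective).of_isPullback sqV.flip hcs
  obtain ⟨B, b, hbe, hbs⟩ := hWA.atlas
  let Zi : B.left.affineOpens → Over S := fun i => Over.mk ((i : B.left.Opens).ι ≫ B.hom)
  let bi : ∀ i, (yon S).obj (Zi i) ⟶ pullback k c := fun i =>
    (yon S).map (Over.homMk (U := Zi i) (V := B) (i : B.left.Opens).ι rfl) ≫ b
  have hbi : ∀ i, RepWith @Etale (bi i) ∧ ∀ v : (i : B.left.Opens),
      Points.ofPt (bi i) v = Points.ofPt b ((i : B.left.Opens).ι v) :=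
    fun i => chart_comp b hbe (i : B.left.Opens).ι
  refine isQuasiCompactSp_of_family sndW hat Zi (fun i => bi i ≫ pullback.fst k c)
    (fun i => (repWith_isMultiplicative (S := S) @Etale).comp_mem _ _ (hbi i).1 hπe) ?_ ?_
  · intro w
    obtain ⟨x, rfl⟩ := surjective_map_of_repWith_surjective _ hπs w
    obtain ⟨u, rfl⟩ := surjective_ofPt b hbs x
    obtain ⟨_, ⟨U₀, hU₀, rfl⟩, hu, -⟩ :=
      (B.left.isBasis_affineOpens).exists_subset_of_mem_open (Set.mem_univ u) isOpen_univ
    refine ⟨⟨U₀, hU₀⟩, ⟨u, hu⟩, ?_⟩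
    rw [← Points.map_ofPt, (hbi ⟨U₀, hU₀⟩).2 ⟨u, hu⟩]
    rfl
  · intro i
    have sqT : IsPullback (pullback.fst sndW (bi i ≫ pullback.fst k c))
        (pullback.snd sndW (bi i ≫ pullback.fst k c)) sndW (bi i ≫ pullback.fst k c) :=
      IsPullback.of_hasPullback _ _
    have sq2 := sqT.paste_horiz sqW
    have e : (bi i ≫ pullback.fst k c) ≫ k = (bi i ≫ pullback.snd k c) ≫ c :=
      (Category.assoc _ _ _).trans ((congrArg (bi i ≫ ·) sqV.w).trans (Category.assoc _ _ _).symm)
    rw [e] at sq2
    have hl : (pullback.fst sndW (bi i ≫ pullback.fst k c) ≫ fstW) ≫ f =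
        (pullback.snd sndW (bi i ≫ pullback.fst k c) ≫ bi i ≫ pullback.snd k c) ≫ c :=
      sq2.w.trans (Category.assoc _ _ _).symm
    have sq3 : IsPullback (sq.lift _ _ hl) (pullback.snd sndW (bi i ≫ pullback.fst k c)) q₂
        (bi i ≫ pullback.snd k c) := by
      refine IsPullback.of_right ?_ (sq.lift_snd _ _ _) sq
      rw [sq.lift_fst]
      exact sq2
    have hZc : CompactSpace ↥(Zi i).left := by
      change CompactSpace ↥((i : B.left.Opens) : Scheme.{u})
      exact isCompact_iff_compactSpace.mp (i.2 : IsAffineOpen _).isCompact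
    exact hq (IsAlgSpace.yon_obj _) (isQuasiCompactSp_yon _) _ _ _ sq3

/-- Composition of quasi-compact morphisms (the middle sheaf an algebraic space, the target with
representable diagonal). -/
theorem isQuasiCompactMor_comp {F G H : Sp S} (hG : IsAlgSpace G) (hH : Representable (Limits.diag H))
    {a : F ⟶ G} {b : G ⟶ H} (ha : IsQuasiCompactMor a) (hb : IsQuasiCompactMor b) :
    IsQuasiCompactMor (a ≫ b) := by
  intro W W' hW hWc k u v sqW
  have sq1 : IsPullback (pullback.fst b k) (pullback.snd b k) b k := IsPullback.of_hasPullback b k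
  have hW1 : IsAlgSpace (pullback b k) := isAlgSpace_of_isPullback hH hG hW sq1
  have hW1c : IsQuasiCompactSp (pullback b k) := hb hW hWc k _ _ sq1
  have hl : u ≫ a ≫ b = v ≫ k := sqW.w
  have sq2 : IsPullback u (sq1.lift (u ≫ a) v (by rw [Category.assoc, hl])) a (pullback.fst b k) := by
    refine IsPullback.of_bot ?_ (sq1.lift_fst _ _ _).symm sq1
    rw [sq1.lift_snd]
    exact sqW
  exact ha hW1 hW1c _ _ _ sq2

/-- Quasi-compactness of a morphism descends along a universally open surjective base change by an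
algebraic space. -/
theorem isQuasiCompactMor_of_univOpen_cover {X Y Y' : Sp S} (hX : HasAtlas X)
    (hY : Representable (Limits.diag Y)) (hY' : IsAlgSpace Y') (f : X ⟶ Y) (g : Y' ⟶ Y)
    (hg : IsUnivOpenMor g) (hgs : IsSurjectiveMor g) {X' : Sp S} {q₁ : X' ⟶ X}
    {q₂ : X' ⟶ Y'} (sq : IsPullback q₁ q₂ f g) (hq : IsQuasiCompactMor q₂) :
    IsQuasiCompactMor f := by
  intro W W' hW hWc k fstW sndW sqW
  have := compactSpace_of_isQuasiCompactSp hWc
  have hat : HasAtlas W' := hasAtlas_of_isPullback hY hX hW.atlas sqW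
  have sqV : IsPullback (pullback.fst g k) (pullback.snd g k) g k := IsPullback.of_hasPullback g k
  have hWA : IsAlgSpace (pullback g k) := isAlgSpace_of_isPullback hY hY' hW sqV
  have hπo : IsOpenMap (Points.map (pullback.snd g k)) := hg hW k _ _ sqV
  have hπs : Function.Surjective (Points.map (pullback.snd g k)) :=
    isSurjectiveMor_of_isPullback sqV.flip hgs
  obtain ⟨B, b, hbe, hbs⟩ := hWA.atlas
  let Zi : B.left.affineOpens → Over S := fun i => Over.mk ((i : B.left.Opens).ι ≫ B.hom)
  let bi : ∀ i, (yon S).obj (Zi i) ⟶ pullback g k := fun i =>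
    (yon S).map (Over.homMk (U := Zi i) (V := B) (i : B.left.Opens).ι rfl) ≫ b
  have hbi : ∀ i, RepWith @Etale (bi i) ∧ ∀ v : (i : B.left.Opens),
      Points.ofPt (bi i) v = Points.ofPt b ((i : B.left.Opens).ι v) :=
    fun i => chart_comp b hbe (i : B.left.Opens).ι
  refine isQuasiCompactSp_of_family' sndW hat Zi (fun i => bi i ≫ pullback.snd g k) ?_ ?_ ?_
  · intro i
    have : Set.range (Points.ofPt (bi i ≫ pullback.snd g k)) =
        Points.map (pullback.snd g k) '' Set.range (Points.ofPt (bi i)) := by
      rw [← Set.range_comp]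
      rfl
    rw [this]
    exact hπo _ (isOpenMap_ofPt (bi i) (hbi i).1).isOpen_range
  · intro w
    obtain ⟨x, rfl⟩ := hπs w
    obtain ⟨u, rfl⟩ := surjective_ofPt b hbs x
    obtain ⟨_, ⟨U₀, hU₀, rfl⟩, hu, -⟩ :=
      (B.left.isBasis_affineOpens).exists_subset_of_mem_open (Set.mem_univ u) isOpen_univ
    refine ⟨⟨U₀, hU₀⟩, ⟨u, hu⟩, ?_⟩
    rw [← Points.map_ofPt, (hbi ⟨U₀, hU₀⟩).2 ⟨u, hu⟩]
    rfl
  · intro i
    have sqT : IsPullback (pullback.fst sndW (bi i ≫ pullback.snd g k))
        (pullback.snd sndW (bi i ≫ pullback.snd g k)) sndW (bi i ≫ pullback.snd g k) :=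
      IsPullback.of_hasPullback _ _
    have sq2 := sqT.paste_horiz sqW
    have e : (bi i ≫ pullback.snd g k) ≫ k = (bi i ≫ pullback.fst g k) ≫ g :=
      (Category.assoc _ _ _).trans ((congrArg (bi i ≫ ·) sqV.w.symm).trans (Category.assoc _ _ _).symm)
    rw [e] at sq2
    have hl : (pullback.fst sndW (bi i ≫ pullback.snd g k) ≫ fstW) ≫ f =
        (pullback.snd sndW (bi i ≫ pullback.snd g k) ≫ bi i ≫ pullback.fst g k) ≫ g :=
      sq2.w.trans (Category.assoc _ _ _).symm
    have sq3 : IsPullback (sq.lift _ _ hl) (pullback.snd sndW (bi i ≫ pullback.snd g k)) q₂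
        (bi i ≫ pullback.fst g k) := by
      refine IsPullback.of_right ?_ (sq.lift_snd _ _ _) sq
      rw [sq.lift_fst]
      exact sq2
    have hZc : CompactSpace ↥(Zi i).left := by
      change CompactSpace ↥((i : B.left.Opens) : Scheme.{u})
      exact isCompact_iff_compactSpace.mp (i.2 : IsAffineOpen _).isCompact
    exact hq (IsAlgSpace.yon_obj _) (isQuasiCompactSp_yon _) _ _ _ sq3

end Groth.Agent.Lib.helper5
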