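import Groth.Prelude.Def_AlgSp4
import Groth.Agent.Lib.Helper11.AlgSpBasic

/-!
# Universal topological properties of representable morphisms of algebraic spaces (helper5)

For a representable morphism `f` of fppf sheaves, and a topological property `Q` of maps, we compare
`AlgSp.RepWith (universally (topologically Q)) f` with `AlgSp.UnivSp (Q on Points.map) f`.

* `ChartSq`: the point-set situation of a chart square
  `|V| → |Z'|`, `|V| → |U|`, `|Z'| → |Z|`, `|U| → |Z|` with `|U| → |Z|` a quotient map and
  `|V| → |Z'| ×_{|Z|} |U|` surjective; descent of closed/open/surjective/injective/quotient maps.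
* `exists_chartSq`: existence of a chart square for the base change of a `RepWith P` morphism to an
  algebraic space.
* `univSp_yon_of_isPullback`: base change of a represented pullback square along a morphism of schemes.
-/

set_option autoImplicit false
universe u

open CategoryTheory CategoryTheory.Limits AlgebraicGeometry Opposite Topology

namespace Groth.Agent.Lib.helper5

/-- The point-set shape of a chart square. -/
structure ChartSq {A B C D : Type*} [TopologicalSpace A] [TopologicalSpace B] [TopologicalSpace C]
    [TopologicalSpace D] (a : A → B) (s : A → C) (t : B → D) (b : C → D) : Prop where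
  comm : ∀ x, t (a x) = b (s x)
  fib : ∀ y c, t y = b c → ∃ x, a x = y ∧ s x = c
  a_cont : Continuous a
  t_cont : Continuous t
  b_quot : IsQuotientMap b

namespace ChartSq

variable {A B C D : Type*} [TopologicalSpace A] [TopologicalSpace B] [TopologicalSpace C]
    [TopologicalSpace D] {a : A → B} {s : A → C} {t : B → D} {b : C → D}

theorem a_surj (h : ChartSq a s t b) : Function.Surjective a := by
  intro y
  obtain ⟨c, hc⟩ := h.b_quot.surjective (t y)
  obtain ⟨x, hx, _⟩ := h.fib y c hc.symm
  exact ⟨x, hx⟩

theorem preimage_image (h : ChartSq a s t b) (K : Set B) : b ⁻¹' (t '' K) = s '' (a ⁻¹' K) := by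
  ext c
  constructor
  · rintro ⟨y, hy, hyc⟩
    obtain ⟨x, hx1, hx2⟩ := h.fib y c hyc
    exact ⟨x, by simpa [hx1] using hy, hx2⟩
  · rintro ⟨x, hx, rfl⟩
    exact ⟨a x, hx, h.comm x⟩

theorem isClosedMap (h : ChartSq a s t b) (hs : IsClosedMap s) : IsClosedMap t := by
  intro K hK
  rw [← h.b_quot.isClosed_preimage, h.preimage_image]
  exact hs _ (hK.preimage h.a_cont)

theorem isOpenMap (h : ChartSq a s t b) (hs : IsOpenMap s) : IsOpenMap t := by
  intro K hK
  rw [← h.b_quot.isOpen_preimage, h.preimage_image]
  exact hs _ (hK.preimage h.a_cont)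

theorem surjective (h : ChartSq a s t b) (hs : Function.Surjective s) : Function.Surjective t := by
  intro d
  obtain ⟨c, rfl⟩ := h.b_quot.surjective d
  obtain ⟨x, rfl⟩ := hs c
  exact ⟨a x, h.comm x⟩

theorem injective (h : ChartSq a s t b) (hs : Function.Injective s) : Function.Injective t := by
  intro y1 y2 hy
  obtain ⟨x1, rfl⟩ := h.a_surj y1
  obtain ⟨x2, hx2, hx2'⟩ := h.fib y2 (s x1) (by rw [← hy, h.comm])
  rw [← hx2, hs hx2']

theorem isQuotientMap (h : ChartSq a s t b) (hs : IsQuotientMap s) : IsQuotientMap t := by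
  rw [isQuotientMap_iff]
  refine ⟨.of_isOpen_preimage_iff_isOpen fun W => ⟨fun hW => ?_, fun hW => hW.preimage h.t_cont⟩,
    h.surjective hs.surjective⟩
  rw [← h.b_quot.isOpen_preimage, ← hs.isOpen_preimage]
  have : s ⁻¹' (b ⁻¹' W) = a ⁻¹' (t ⁻¹' W) := by
    ext x
    simp only [Set.mem_preimage, h.comm]
  rw [this]
  exact hW.preimage h.a_cont

theorem isHomeomorph (h : ChartSq a s t b) (hs : IsHomeomorph s) : IsHomeomorph t := by
  exact ⟨h.t_cont, h.isOpenMap hs.isOpenMap, h.injective hs.bijective.1, h.surjective hs.bijective.2⟩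

end ChartSq

open AlgSp Groth.Agent.Lib.helper11

variable {S : Scheme.{u}}

/-- Base change of a representable morphism is representable. -/
theorem representable_of_isPullback {F G Z Z' : Sp S} {f : F ⟶ G} (hf : Representable f)
    {g : Z ⟶ G} {fst : Z' ⟶ F} {snd : Z' ⟶ Z} (sq : IsPullback fst snd f g) : Representable snd :=
  (Functor.relativelyRepresentable.isStableUnderBaseChange (F := yon S)).of_isPullback sq hf

/-- A chart square for the base change of a `RepWith P` morphism to an algebraic space. -/
theorem exists_chartSq {P : MorphismProperty Scheme.{u}} {F G Z Z' : Sp S} {f : F ⟶ G}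
    (hf : RepWith P f) (hZ : IsAlgSpace Z) {g : Z ⟶ G} {fst : Z' ⟶ F} {snd : Z' ⟶ Z}
    (sq : IsPullback fst snd f g) :
    ∃ (U V : Over S) (q : (yon S).obj U ⟶ Z) (fst' : (yon S).obj V ⟶ Z') (s : V ⟶ U),
      P s.left ∧
      ChartSq (Points.ofPt fst') (fun v => s.left v) (Points.map snd) (Points.ofPt q) := by
  obtain ⟨U, q, hqe, hqs⟩ := hZ.atlas
  have hsnd : Representable snd := representable_of_isPullback hf.rep sq
  obtain ⟨V, s, fst', sq'⟩ := hsnd q
  refine ⟨U, V, q, fst', s, hf.2 (q ≫ g) (fst' ≫ fst) s (sq'.paste_horiz sq), ?_⟩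
  refine ⟨fun v => ?_, fun y c h => exists_of_isPullback_scheme sq' y c h,
    Points.continuous_ofPt _, Points.continuous_map _, isQuotientMap_ofPt q hqe hqs⟩
  rw [Points.map_ofPt, sq'.w, ofPt_yon_map_comp]

/-- Base change of a represented pullback square of `f` along a morphism of schemes, fed to `UnivSp`. -/
theorem univSp_apply_scheme {Q : MorphismProperty (Sp S)} {F G : Sp S} {f : F ⟶ G}
    (hf : UnivSp Q f) {U V : Over S} {g : (yon S).obj U ⟶ G} {fst : (yon S).obj V ⟶ F} {snd : V ⟶ U}
    (sq : IsPullback fst ((yon S).map snd) f g) {T T' : Scheme.{u}} {a : T' ⟶ V.left} {b : T' ⟶ T}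
    {h : T ⟶ U.left} (sq2 : IsPullback a b snd.left h) :
    Q ((yon S).map (Over.homMk b rfl : Over.mk (b ≫ h ≫ U.hom) ⟶ Over.mk (h ≫ U.hom))) := by
  let b' : Over.mk (b ≫ h ≫ U.hom) ⟶ Over.mk (h ≫ U.hom) := Over.homMk b rfl
  let h' : Over.mk (h ≫ U.hom) ⟶ U := Over.homMk h rfl
  let a' : Over.mk (b ≫ h ≫ U.hom) ⟶ V := Over.homMk a (by
    have := Over.w snd
    dsimp at this ⊢
    rw [← this, ← Category.assoc, sq2.w, Category.assoc])
  have sq3 : IsPullback a' b' snd h' := by
    refine IsPullback.of_map (Over.forget S) ?_ ?_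
    · apply Over.OverMorphism.ext
      simpa [a', b', h'] using sq2.w
    · exact sq2
  have sq4 := (sq3.map (yon S)).paste_horiz sq
  exact hf (IsAlgSpace.yon_obj _) _ _ _ sq4

/-- The general comparison: for a representable morphism `f` of fppf sheaves and a topological property `Q`
(given at the universe levels `u` of schemes and `u + 1` of spaces of points) which descends along chart
squares and is invariant under conjugation by homeomorphisms, `f` is representable with property
`universally (topologically Q)` iff all base changes of `f` to algebraic spaces have `Q` on points. -/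
theorem repWith_universally_iff
    (Q₀ : ∀ {α β : Type u} [TopologicalSpace α] [TopologicalSpace β] (_ : α → β), Prop)
    (Q₁ : ∀ {α β : Type (u + 1)} [TopologicalSpace α] [TopologicalSpace β] (_ : α → β), Prop)
    (hdesc : ∀ {A C : Type u} {B D : Type (u + 1)} [TopologicalSpace A] [TopologicalSpace B]
      [TopologicalSpace C] [TopologicalSpace D] {a : A → B} {s : A → C} {t : B → D} {b : C → D},
      ChartSq a s t b → Q₀ s → Q₁ t)
    (hconj : ∀ {A C : Type u} {B D : Type (u + 1)} [TopologicalSpace A] [TopologicalSpace B]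
      [TopologicalSpace C] [TopologicalSpace D] (e : A ≃ₜ B) (e' : C ≃ₜ D) (φ : A → C),
      Q₁ (e' ∘ φ ∘ e.symm) → Q₀ φ)
    {F G : Sp S} (f : F ⟶ G) (hf : Representable f) :
    RepWith (MorphismProperty.universally (topologically Q₀)) f ↔
      UnivSp (fun _ _ k => Q₁ (Points.map k)) f := by
  constructor
  · intro hf' Z Z' hZ g fst snd sq
    obtain ⟨U, V, q, fst', s, hs, csq⟩ := exists_chartSq hf' hZ sq
    exact hdesc csq (MorphismProperty.universally_le _ _ hs)
  · intro hU
    refine ⟨hf, ?_⟩
    intro U V g fst snd sq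
    change MorphismProperty.universally (topologically Q₀) snd.left
    intro T' T a h b sq2
    have key := univSp_apply_scheme hU sq sq2.flip
    change Q₁ (Points.map _) at key
    rw [Points.map_yon_map_eq] at key
    exact hconj _ _ _ key

end Groth.Agent.Lib.helper5
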