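import Groth.Agent.Lib.Helper5.AlgSpUniv
import Groth.Agent.Lib.Helper5.AlgSpFibreProduct

/-!
# Descent of universal topological properties along etale surjective covers (helper5)

* `isOpenMap_map_of_repWith_etale`, `surjective_map_of_repWith_surjective`: a representable etale
  (resp. surjective) morphism of fppf sheaves is open (resp. surjective) on points.
* `chartSq_of_isPullback`: a pullback square of sheaves whose bottom map is representable etale surjective gives
  a `ChartSq` on points.
* `univSp_of_etale_cover`: `UnivSp Q` descends along an etale surjective chart of the target.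
-/

set_option autoImplicit false
universe u

open CategoryTheory CategoryTheory.Limits AlgebraicGeometry Opposite Topology

namespace Groth.Agent.Lib.helper5

open AlgSp Groth.Agent.Lib.helper11

variable {S : Scheme.{u}}

/-- A representable etale morphism of sheaves is open on points. -/
theorem isOpenMap_map_of_repWith_etale {F G : Sp S} (m : F ⟶ G) (hm : RepWith @Etale m) :
    IsOpenMap (Points.map m) := by
  intro W hW
  rw [Points.isOpen_iff]
  intro T g
  obtain ⟨V, snd, fst, hpb⟩ := hm.rep g
  have het : Etale snd.left := hm.2 g _ snd hpb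
  have hopen : IsOpenMap snd.left := snd.left.isOpenMap
  have : Points.ofPt g ⁻¹' (Points.map m '' W) = snd.left '' (Points.ofPt fst ⁻¹' W) := by
    ext t
    constructor
    · rintro ⟨w, hw, hwt⟩
      obtain ⟨v, hv1, hv2⟩ := exists_of_isPullback_scheme hpb w t hwt
      exact ⟨v, by simpa [hv1] using hw, hv2⟩
    · rintro ⟨v, hv, rfl⟩
      refine ⟨Points.ofPt fst v, hv, ?_⟩
      rw [Points.map_ofPt, hpb.w, ofPt_yon_map_comp]
  rw [this]
  exact hopen _ (hW.preimage (Points.continuous_ofPt fst))

/-- A representable surjective morphism of sheaves is surjective on points. -/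
theorem surjective_map_of_repWith_surjective {F G : Sp S} (m : F ⟶ G) (hm : RepWith @Surjective m) :
    Function.Surjective (Points.map m) := by
  intro x
  induction x using Points.ind with
  | h q =>
  obtain ⟨V, snd, fst, hpb⟩ := hm.rep q.toHom
  have hsur : Surjective snd.left := hm.2 q.toHom _ snd hpb
  obtain ⟨v, hv⟩ := hsur.surj (IsLocalRing.closedPoint q.K)
  refine ⟨Points.ofPt fst v, ?_⟩
  rw [Points.map_ofPt, hpb.w, ofPt_yon_map_comp, Points.ofPt_toHom]

/-- A representable etale surjective morphism of sheaves is a quotient map on points. -/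
theorem isQuotientMap_map {F G : Sp S} (m : F ⟶ G) (hme : RepWith @Etale m)
    (hms : RepWith @Surjective m) : IsQuotientMap (Points.map m) :=
  (isOpenMap_map_of_repWith_etale m hme).isQuotientMap (Points.continuous_map m)
    (surjective_map_of_repWith_surjective m hms)

/-- A pullback square of sheaves whose bottom map is representable etale surjective gives a chart square on
points. -/
theorem chartSq_of_isPullback {F G F' G' : Sp S} {a : F' ⟶ F} {s : F' ⟶ G'} {t : F ⟶ G}
    {b : G' ⟶ G} (sq : IsPullback a s t b) (hbe : RepWith @Etale b) (hbs : RepWith @Surjective b) :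
    ChartSq (Points.map a) (Points.map s) (Points.map t) (Points.map b) := by
  refine ⟨fun x => ?_, fun y c h => Groth.Agent.Lib.helper10.exists_point_of_isPullback sq y c h,
    Points.continuous_map _, Points.continuous_map _, isQuotientMap_map b hbe hbs⟩
  rw [← Points.map_comp, ← Points.map_comp, sq.w]

/-- `UnivSp Q` descends along an etale surjective chart of the target, for `Q` descending along chart
squares. -/
theorem univSp_of_etale_cover {Q : MorphismProperty (Sp S)}
    (hQ : ∀ {F G F' G' : Sp S} {a : F' ⟶ F} {s : F' ⟶ G'} {t : F ⟶ G} {b : G' ⟶ G},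
      IsPullback a s t b → RepWith @Etale b → RepWith @Surjective b → Q s → Q t)
    {X Y : Sp S} (hY : Representable (Limits.diag Y)) (f : X ⟶ Y) {V : Over S}
    (p : (yon S).obj V ⟶ Y) (hp : RepWith @Etale p) (hps : RepWith @Surjective p) {P : Sp S}
    {fst : P ⟶ X} {snd : P ⟶ (yon S).obj V} (sq : IsPullback fst snd f p) (h : UnivSp Q snd) :
    UnivSp Q f := by
  intro Z Z' hZ g fstZ sndZ sqZ
  have sqV : IsPullback (pullback.fst g p) (pullback.snd g p) g p := IsPullback.of_hasPullback g p
  have hZV : IsAlgSpace (pullback g p) :=
    isAlgSpace_of_isPullback hY hZ (IsAlgSpace.yon_obj V) sqV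
  have hpe : RepWith @Etale (pullback.fst g p) :=
    (repWith_isStableUnderBaseChange (S := S) @Etale).of_isPullback sqV.flip hp
  have hpss : RepWith @Surjective (pullback.fst g p) :=
    (repWith_isStableUnderBaseChange (S := S) @Surjective).of_isPullback sqV.flip hps
  have sqT : IsPullback (pullback.fst sndZ (pullback.fst g p)) (pullback.snd sndZ (pullback.fst g p))
      sndZ (pullback.fst g p) := IsPullback.of_hasPullback _ _
  have sq2 := sqT.paste_horiz sqZ
  rw [sqV.w] at sq2
  have hl : (pullback.fst sndZ (pullback.fst g p) ≫ fstZ) ≫ f =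
      (pullback.snd sndZ (pullback.fst g p) ≫ pullback.snd g p) ≫ p := by
    rw [sq2.w, Category.assoc]
  have sq3 : IsPullback (sq.lift _ _ hl) (pullback.snd sndZ (pullback.fst g p)) snd
      (pullback.snd g p) := by
    refine IsPullback.of_right ?_ (sq.lift_snd _ _ _) sq
    rw [sq.lift_fst]
    exact sq2
  exact hQ sqT hpe hpss (h hZV _ _ _ sq3)

end Groth.Agent.Lib.helper5
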