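import Mathlib
import Groth.Agent.S10310
import Groth.Agent.S0402
import Groth.Agent.Lib.Helper3.FibreDimNat

/-!
# Isolated points of fibres and base change (helper5)

* `isol_of_isPullback`: for a pullback square of schemes `U' = U ×_V V'`, if `u'` is isolated in its fibre
  of `h' : U' ⟶ V'`, then its image in `U` is isolated in its fibre of `h : U ⟶ V` (fibres change by a field
  extension, which is universally open).
* `isol_baseChange`: conversely isolatedness is stable under base change.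
* `isOpen_isol`: for `h` locally of finite type the set of points isolated in their fibres is open.
* `lqf_near_of_isol`: for `h` locally of finite type and `u` isolated in its fibre, `h` is locally quasi-finite
  on an open neighbourhood of `u`.
-/

set_option autoImplicit false
universe u
open CategoryTheory CategoryTheory.Limits AlgebraicGeometry

namespace Groth.Agent.Lib.helper5.IsolBC

open Groth.Agent.S10310

theorem isol_of_isPullback {U' U V' V : Scheme.{u}} {p : U' ⟶ U} {h' : U' ⟶ V'} {h : U ⟶ V} {k : V' ⟶ V}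
    (sq : IsPullback p h' h k) (u' : U') (hu' : Isol h' u') : Isol h (p u') := by
  let φ : h'.fiber (h' u') ⟶ h.fiber (k (h' u')) :=
    pullback.map h' (V'.fromSpecResidueField (h' u')) h (V.fromSpecResidueField (k (h' u')))
      p (Spec.map (k.residueFieldMap (h' u'))) k sq.w.symm (by simp)
  have hφ : IsPullback φ (h'.fiberToSpecResidueField (h' u')) (h.fiberToSpecResidueField (k (h' u')))
      (Spec.map (k.residueFieldMap (h' u'))) :=
    isPullback_fiberToSpecResidueField_of_isPullback sq (h' u')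
  have hφι : φ ≫ h.fiberι (k (h' u')) = h'.fiberι (h' u') ≫ p := pullback.lift_fst _ _ _
  haveI : UniversallyOpen (Spec.map (k.residueFieldMap (h' u'))) := inferInstance
  haveI : UniversallyOpen φ := MorphismProperty.of_isPullback hφ.flip inferInstance
  obtain ⟨O', hO', hu'O', hO'u⟩ := hu'
  set z' := h'.asFiber u' with hz'
  have hz'ι : h'.fiberι (h' u') z' = u' := h'.fiberι_asFiber u'
  have hA : (h'.fiberι (h' u')) ⁻¹' O' = {z'} := by
    ext z
    constructor
    · intro hz
      have h1 : h'.fiberι (h' u') z ∈ h' ⁻¹' {h' u'} := by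
        rw [← h'.range_fiberι]; exact ⟨z, rfl⟩
      have h2 : h'.fiberι (h' u') z = u' := hO'u _ hz h1
      exact (h'.fiberι (h' u')).isEmbedding.injective (h2.trans hz'ι.symm)
    · intro hz
      have : z = z' := hz
      subst this
      show h'.fiberι (h' u') z' ∈ O'
      rw [hz'ι]; exact hu'O'
  have hAo : IsOpen ({z'} : Set (h'.fiber (h' u'))) := by
    rw [← hA]; exact hO'.preimage (h'.fiberι (h' u')).continuous
  have hB : IsOpen ({φ z'} : Set (h.fiber (k (h' u')))) := by
    have h1 := φ.isOpenMap _ hAo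
    rwa [Set.image_singleton] at h1
  obtain ⟨O, hO, hOe⟩ := (h.fiberι (k (h' u'))).isEmbedding.isInducing.isOpen_iff.1 hB
  have hpu : p u' = h.fiberι (k (h' u')) (φ z') := by
    have h1 : (φ ≫ h.fiberι (k (h' u'))) z' = (h'.fiberι (h' u') ≫ p) z' := by rw [hφι]
    rw [Scheme.Hom.comp_apply, Scheme.Hom.comp_apply, hz'ι] at h1
    exact h1.symm
  have hhp : h (p u') = k (h' u') := by
    have h1 : (p ≫ h) u' = (h' ≫ k) u' := by rw [sq.w]
    rwa [Scheme.Hom.comp_apply, Scheme.Hom.comp_apply] at h1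
  refine ⟨O, hO, ?_, fun y hy hfy => ?_⟩
  · have : φ z' ∈ (h.fiberι (k (h' u'))) ⁻¹' O := by rw [hOe]; rfl
    rw [hpu]; exact this
  · have h1 : y ∈ Set.range (h.fiberι (k (h' u'))) := by
      rw [h.range_fiberι]; exact hfy.trans hhp
    obtain ⟨z, rfl⟩ := h1
    have h2 : z ∈ (h.fiberι (k (h' u'))) ⁻¹' O := hy
    rw [hOe] at h2
    have : z = φ z' := h2
    rw [this, hpu]

/-- "`h` is locally quasi-finite (and locally of finite type) near `u`". -/
abbrev LqfNear {U V : Scheme.{u}} (h : U ⟶ V) (u : U) : Prop :=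
  ∃ W : U.Opens, u ∈ W ∧ LocallyQuasiFinite (W.ι ≫ h) ∧ LocallyOfFiniteType (W.ι ≫ h)

theorem isol_of_lqfNear {U V : Scheme.{u}} (h : U ⟶ V) (u : U) (hu : LqfNear h u) : Isol h u := by
  obtain ⟨W, huW, h1, h2⟩ := hu
  exact isol_descend W.ι h ⟨u, huW⟩ W.ι.isOpenEmbedding.isOpenMap (isol_of_lqf (W.ι ≫ h) ⟨u, huW⟩)

theorem lqfNear_of_isol {U V : Scheme.{u}} (h : U ⟶ V) [LocallyOfFiniteType h] (u : U) (hu : Isol h u) :
    LqfNear h u := by
  refine ⟨h.quasiFiniteLocus, ?_, inferInstance, inferInstance⟩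
  rw [Scheme.Hom.mem_quasiFiniteLocus, Scheme.Hom.quasiFiniteAt_iff_isOpen_singleton_asFiber,
    isOpen_asFiber_iff]
  exact hu

theorem lqfNear_iff_isol {U V : Scheme.{u}} (h : U ⟶ V) [LocallyOfFiniteType h] (u : U) :
    LqfNear h u ↔ Isol h u :=
  ⟨isol_of_lqfNear h u, lqfNear_of_isol h u⟩

theorem one_le_fibreDimAt_of_not_isol {U V : Scheme.{u}} (h : U ⟶ V) [LocallyOfFiniteType h] (u : U)
    (hu : ¬ Isol h u) : 1 ≤ FlatMor.fibreDimAt h u := by
  obtain ⟨d, hd⟩ := Groth.Agent.Lib.helper3.DimFibre.exists_nat_fibreDimAt h u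
  rw [← fibreDimAt_eq_zero_iff, hd] at hu
  rw [hd]
  have hd0 : d ≠ 0 := by
    rintro rfl
    exact hu rfl
  have : 1 ≤ d := Nat.one_le_iff_ne_zero.2 hd0
  exact_mod_cast this

/-- local quasi-finiteness near a point is compatible with base change. -/
theorem lqfNear_iff_of_isPullback {U' U V' V : Scheme.{u}} {p : U' ⟶ U} {h' : U' ⟶ V'} {h : U ⟶ V}
    {k : V' ⟶ V} (sq : IsPullback p h' h k) [LocallyOfFiniteType h] (u' : U') :
    LqfNear h' u' ↔ LqfNear h (p u') := by
  constructor
  · intro hu'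
    exact lqfNear_of_isol h _ (isol_of_isPullback sq u' (isol_of_lqfNear h' u' hu'))
  · rintro ⟨W, huW, h1, h2⟩
    have sq' : IsPullback (p ∣_ W) ((p ⁻¹ᵁ W).ι ≫ h') (W.ι ≫ h) k :=
      (isPullback_morphismRestrict p W).paste_vert sq
    exact ⟨p ⁻¹ᵁ W, huW, MorphismProperty.of_isPullback sq' h1, MorphismProperty.of_isPullback sq' h2⟩

end Groth.Agent.Lib.helper5.IsolBC
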