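import Mathlib
import Groth.Agent.Lib.Helper5.GSlice5
import Groth.Agent.Lib.Helper5.IsolBaseChange
import Groth.Agent.Lib.Helper5.FibCrit1
import Groth.Agent.Lib.Helper18.PullbackSquare
import Groth.Agent.Lib.Helper3.FlatDescI

/-!
# Flat and quasi-finite at a point: the property `FlatLqfAt` (helper5)

`FlatLqfAt f x` : `f` is flat at `x` and locally quasi-finite near `x`.  It is invariant under flat
base change, local on the source, open for `f` locally of finite presentation, so that the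
translation/shrinking argument of `GSlice5` applies: `exists_shrink_flat_lqf`.
-/

set_option autoImplicit false
universe u

open AlgebraicGeometry CategoryTheory CategoryTheory.Limits

namespace Groth.Agent.Lib.helper5.GSlice

open Groth.Agent.Lib.helper5.IsolBC Groth.Agent.S10310 Groth.Agent.Lib.helper5.FibCrit

/-- `f` is flat at `x` and locally quasi-finite near `x`. -/
def FlatLqfAt {X Y : Scheme.{u}} (f : X ⟶ Y) (x : X) : Prop :=
  (f.stalkMap x).hom.Flat ∧ LqfNear f x

theorem flatLqfAt_iff_of_isPullback {X' X Y' Y : Scheme.{u}} {f' : X' ⟶ Y'} {g' : X' ⟶ X}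
    {f : X ⟶ Y} {k : Y' ⟶ Y} (sq : IsPullback g' f' f k) [Flat k]
    [LocallyOfFiniteType f] (x' : X') : FlatLqfAt f' x' ↔ FlatLqfAt f (g' x') := by
  unfold FlatLqfAt
  rw [lqfNear_iff_of_isPullback sq x']
  refine and_congr_left fun _ => ⟨fun h => ?_, fun h => ?_⟩
  · exact Groth.Agent.Lib.Helper18.PullbackStalk.flat_stalk_descent_of_isPullback sq x'
      (Flat.stalkMap k _) h
  · exact Groth.Agent.Lib.Helper18.PullbackStalk.flat_stalk_baseChange_of_isPullback sq x' h

theorem isol_comp_openImmersion {X Y Z : Scheme.{u}} (k : X ⟶ Y) [IsOpenImmersion k] (f : Y ⟶ Z)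
    (x : X) : Isol (k ≫ f) x ↔ Isol f (k x) := by
  constructor
  · rintro ⟨O, hO, hxO, h⟩
    refine ⟨k '' O, k.isOpenEmbedding.isOpenMap O hO, ⟨x, hxO, rfl⟩, ?_⟩
    rintro _ ⟨y, hy, rfl⟩ hfy
    rw [h y hy hfy]
  · rintro ⟨O, hO, hxO, h⟩
    refine ⟨k ⁻¹' O, hO.preimage k.continuous, hxO, fun y hy hfy => ?_⟩
    exact k.isOpenEmbedding.injective (h (k y) hy hfy)

theorem flatLqfAt_comp_openImmersion {X Y Z : Scheme.{u}} (k : X ⟶ Y) [IsOpenImmersion k]
    (f : Y ⟶ Z) [LocallyOfFiniteType f] (x : X) : FlatLqfAt (k ≫ f) x ↔ FlatLqfAt f (k x) := by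
  unfold FlatLqfAt
  rw [lqfNear_iff_isol, lqfNear_iff_isol, isol_comp_openImmersion,
    flat_comp_left_iff k f x (bijective_stalkMap_of_isOpenImmersion k x)]

theorem isOpen_flatLqfAt {X Y : Scheme.{u}} (f : X ⟶ Y) [LocallyOfFinitePresentation f] :
    IsOpen {x : X | FlatLqfAt f x} := by
  have h1 := Groth.Agent.Lib.helper3.FlatDesc.isOpen_flatLocus_of_locallyOfFinitePresentation f
  have h2 : IsOpen {x : X | LqfNear f x} := by
    have : {x : X | LqfNear f x} = (f.quasiFiniteLocus : Set X) := by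
      ext x
      simp only [Set.mem_ofPred_eq, SetLike.mem_coe, Scheme.Hom.mem_quasiFiniteLocus]
      rw [lqfNear_iff_isol, Scheme.Hom.quasiFiniteAt_iff_isOpen_singleton_asFiber,
        isOpen_asFiber_iff]
    rw [this]
    exact f.quasiFiniteLocus.2
  exact h1.inter h2

theorem flat_lqf_of_forall_flatLqfAt {X Y : Scheme.{u}} (f : X ⟶ Y) [LocallyOfFiniteType f]
    (h : ∀ x, FlatLqfAt f x) : Flat f ∧ LocallyQuasiFinite f := by
  refine ⟨Flat.of_stalkMap f fun x => (h x).1, ?_⟩
  rw [← Scheme.Hom.quasiFiniteLocus_eq_top_iff]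
  refine top_le_iff.mp fun x _ => ?_
  rw [Scheme.Hom.mem_quasiFiniteLocus, Scheme.Hom.quasiFiniteAt_iff_isOpen_singleton_asFiber,
    isOpen_asFiber_iff]
  exact isol_of_lqfNear f x (h x).2

variable {S : Scheme.{u}} (G : Grpd.GroupoidScheme S) {U' : Scheme.{u}} (g : U' ⟶ G.U)

/-- **Shrinking for flat + quasi-finite.** -/
theorem exists_shrink_flat_lqf [Flat G.s] [LocallyOfFinitePresentation G.s] [Flat G.t]
    [LocallyOfFinitePresentation G.t] [LocallyOfFinitePresentation g]
    (u' : U') (h0 : FlatLqfAt (hMap G g) (epsMap G g u')) :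
    ∃ V : U'.Opens, IsAffineOpen V ∧ u' ∈ V ∧
      Flat (hMap G (V.ι ≫ g)) ∧ LocallyQuasiFinite (hMap G (V.ι ≫ g)) ∧
      LocallyOfFinitePresentation (hMap G (V.ι ≫ g)) := by
  haveI : LocallyOfFinitePresentation (hMap G g) := by
    unfold hMap; infer_instance
  obtain ⟨V, hV, hu'V, h⟩ := exists_shrink G g (fun f x => FlatLqfAt f x)
    (fun sq _ _ _ x' => flatLqfAt_iff_of_isPullback sq x')
    (fun k _ f _ x => flatLqfAt_comp_openImmersion k f x) (isOpen_flatLqfAt _) u' h0
  haveI : LocallyOfFinitePresentation (hMap G (V.ι ≫ g)) := by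
    unfold hMap; infer_instance
  obtain ⟨h1, h2⟩ := flat_lqf_of_forall_flatLqfAt _ h
  exact ⟨V, hV, hu'V, h1, h2, inferInstance⟩

end Groth.Agent.Lib.helper5.GSlice
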