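import Mathlib
import Groth.Agent.Lib.Helper5.EqvGrpd1
import Groth.Agent.Lib.Helper5.GSlice6
import Groth.Agent.Lib.Helper4.GrpdRestrGen

/-!
# Equivalence relations as groupoids: stabilizers, finite type points, covers (helper5)

* `mono_j`, `stab_dim_le_zero` : the stabilizer of the groupoid of an equivalence relation has
  zero-dimensional fibres.
* `locallyOfFiniteType_fromSpecResidueField_of_isMaximal` : a closed point of an affine open is a finite
  type point.
* `flat_lqf_hMap_of_openCover` : `h = s ∘ pr₂ : U' ×_U R ⟶ U` is flat and locally quasi-finite as soon as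
  this holds for the members of an open cover of `U'`.
-/

set_option autoImplicit false
universe u

open AlgebraicGeometry CategoryTheory CategoryTheory.Limits IsLocalRing

namespace Groth.Agent.Lib.helper5.EqvGrpd

open Groth.Agent.Lib.helper5.GSlice

section stab

variable {S : Scheme.{u}} {R U : Over S} {s t : R ⟶ U} (h : AlgSp.IsEqvRel s t)

instance mono_j : Mono (ofEqvRel h).j := by
  constructor
  intro T α β hαβ
  apply rel_unique h
  · have := hαβ =≫ pullback.fst _ _
    rw [Category.assoc, Category.assoc,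
      Groth.Agent.Lib.Helper4.GrpdRestrGen.RestrDataG.j_fst (ofEqvRel h)] at this
    exact this
  · have := hαβ =≫ pullback.snd _ _
    rw [Category.assoc, Category.assoc,
      Groth.Agent.Lib.Helper4.GrpdRestrGen.RestrDataG.j_snd (ofEqvRel h)] at this
    exact this

theorem topologicalKrullDim_fiber_le_zero_of_mono {X Y : Scheme.{u}} (f : X ⟶ Y) [Mono f] (y : Y) :
    topologicalKrullDim (f.fiber y) ≤ 0 := by
  haveI : Subsingleton ↥(f ⁻¹' {y}) := by
    constructor
    rintro ⟨a, ha⟩ ⟨b, hb⟩
    exact Subtype.ext (f.injective (ha.trans hb.symm))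
  rw [IsHomeomorph.topologicalKrullDim_eq _ (f.fiberHomeo y).isHomeomorph]
  exact topologicalKrullDim_zero_of_discreteTopology _

theorem stab_dim_le_zero (u : (ofEqvRel h).U) :
    topologicalKrullDim ((ofEqvRel h).stabilizerToU.fiber u) ≤ 0 := by
  haveI : Mono (ofEqvRel h).stabilizerToU := by
    unfold Grpd.GroupoidScheme.stabilizerToU
    haveI := mono_j h
    exact pullback.snd_of_mono
  exact topologicalKrullDim_fiber_le_zero_of_mono _ u

end stab

/-- a closed point of an affine open is a finite type point. -/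
theorem locallyOfFiniteType_fromSpecResidueField_of_isMaximal {X : Scheme.{u}} {W : X.Opens}
    (hW : IsAffineOpen W) (x : X) (hx : x ∈ W)
    (hmax : (hW.primeIdealOf ⟨x, hx⟩).asIdeal.IsMaximal) :
    LocallyOfFiniteType (X.fromSpecResidueField x) := by
  have h1 : X.fromSpecResidueField x =
      Spec.map (X.presheaf.germ W x hx ≫ X.residue x) ≫ hW.fromSpec := by
    rw [Spec.map_comp, Category.assoc]
    change Spec.map (X.residue x) ≫ X.fromSpecStalk x = _
    rw [← hW.fromSpecStalk_eq_fromSpecStalk hx, IsAffineOpen.fromSpecStalk]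
  letI a1 : Algebra Γ(X, W) (X.presheaf.stalk x) := X.presheaf.algebra_section_stalk (⟨x, hx⟩ : W)
  haveI l1 : IsLocalization.AtPrime (X.presheaf.stalk x) (hW.primeIdealOf ⟨x, hx⟩).asIdeal :=
    hW.isLocalization_stalk ⟨x, hx⟩
  have hunder : (maximalIdeal (X.presheaf.stalk x)).under Γ(X, W) =
      (hW.primeIdealOf ⟨x, hx⟩).asIdeal :=
    IsLocalization.AtPrime.under_maximalIdeal (X.presheaf.stalk x) _
  have hsurj : Function.Surjective (X.presheaf.germ W x hx ≫ X.residue x).hom := by
    have h2 := IsLocalization.surjective_quotientMap_of_maximal_of_localization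
      (M := (hW.primeIdealOf ⟨x, hx⟩).asIdeal.primeCompl) (S := X.presheaf.stalk x)
      (I := maximalIdeal (X.presheaf.stalk x)) (J := ⊥) (H := bot_le) (by rw [hunder]; exact hmax)
    intro z
    obtain ⟨r, hr⟩ := h2 z
    obtain ⟨r, rfl⟩ := Ideal.Quotient.mk_surjective r
    exact ⟨r, hr⟩
  haveI : IsClosedImmersion (Spec.map (X.presheaf.germ W x hx ≫ X.residue x)) :=
    IsClosedImmersion.spec_of_surjective _ hsurj
  rw [h1]
  infer_instance

section cover

variable {S : Scheme.{u}} (G : Grpd.GroupoidScheme S) {U' : Scheme.{u}} (g : U' ⟶ G.U)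

/-- the open immersion `V ×_U R ⟶ U' ×_U R` for an open immersion `j : V ⟶ U'`. -/
noncomputable def restrMapOI {V : Scheme.{u}} (j : V ⟶ U') :
    pullback (j ≫ g) G.t ⟶ pullback g G.t :=
  pullback.map (j ≫ g) G.t g G.t j (𝟙 _) (𝟙 _) (by simp) (by simp)

instance {V : Scheme.{u}} (j : V ⟶ U') [IsOpenImmersion j] : IsOpenImmersion (restrMapOI G g j) := by
  unfold restrMapOI; infer_instance

@[reassoc]
theorem restrMapOI_fst {V : Scheme.{u}} (j : V ⟶ U') :
    restrMapOI G g j ≫ pullback.fst g G.t = pullback.fst (j ≫ g) G.t ≫ j :=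
  pullback.lift_fst _ _ _

@[reassoc]
theorem restrMapOI_snd {V : Scheme.{u}} (j : V ⟶ U') :
    restrMapOI G g j ≫ pullback.snd g G.t = pullback.snd (j ≫ g) G.t :=
  (pullback.lift_snd _ _ _).trans (Category.comp_id _)

theorem restrMapOI_h {V : Scheme.{u}} (j : V ⟶ U') :
    restrMapOI G g j ≫ hMap G g = hMap G (j ≫ g) := by
  simp [hMap, restrMapOI_snd_assoc]

theorem isPullback_restrMapOI {V : Scheme.{u}} (j : V ⟶ U') :
    IsPullback (restrMapOI G g j) (pullback.fst (j ≫ g) G.t) (pullback.fst g G.t) j := by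
  have outer : IsPullback (restrMapOI G g j ≫ pullback.snd g G.t) (pullback.fst (j ≫ g) G.t)
      G.t (j ≫ g) := by
    rw [restrMapOI_snd]
    exact (IsPullback.of_hasPullback (j ≫ g) G.t).flip
  exact IsPullback.of_right outer (restrMapOI_fst G g j) (IsPullback.of_hasPullback g G.t).flip

theorem mem_range_restrMapOI {V : Scheme.{u}} (j : V ⟶ U') (z : ↑(pullback g G.t))
    (hz : pullback.fst g G.t z ∈ Set.range j) : z ∈ Set.range (restrMapOI G g j) := by
  obtain ⟨v, hv⟩ := hz
  obtain ⟨w, hw1, -⟩ := Scheme.Pullback.exists_preimage_pullback (f := pullback.fst g G.t) (g := j)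
    z v hv.symm
  refine ⟨(isPullback_restrMapOI G g j).isoPullback.inv w, ?_⟩
  rw [← Scheme.Hom.comp_apply, IsPullback.isoPullback_inv_fst]
  exact hw1

theorem flatLqfAt_of_flat_lqf {X Y : Scheme.{u}} (f : X ⟶ Y) [Flat f] [LocallyQuasiFinite f]
    [LocallyOfFiniteType f] (x : X) : FlatLqfAt f x :=
  ⟨Flat.stalkMap f x, ⟨⊤, trivial, inferInstance, inferInstance⟩⟩

/-- `h = s ∘ pr₂` is flat and locally quasi-finite if it is so over each member of an open cover
of `U'`. -/
theorem flat_lqf_hMap_of_openCover [LocallyOfFinitePresentation G.s] [LocallyOfFinitePresentation g]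
    (𝒰 : U'.OpenCover)
    (H : ∀ i, Flat (hMap G (𝒰.f i ≫ g)) ∧ LocallyQuasiFinite (hMap G (𝒰.f i ≫ g))) :
    Flat (hMap G g) ∧ LocallyQuasiFinite (hMap G g) := by
  haveI : LocallyOfFinitePresentation (hMap G g) := by
    unfold hMap; infer_instance
  apply flat_lqf_of_forall_flatLqfAt
  intro z
  obtain ⟨i, v, hv⟩ := 𝒰.exists_eq (pullback.fst g G.t z)
  obtain ⟨w, rfl⟩ := mem_range_restrMapOI G g (𝒰.f i) z ⟨v, hv⟩
  rw [← flatLqfAt_comp_openImmersion, restrMapOI_h]
  haveI := (H i).1
  haveI := (H i).2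
  haveI : LocallyOfFinitePresentation (hMap G (𝒰.f i ≫ g)) := by
    unfold hMap; infer_instance
  exact flatLqfAt_of_flat_lqf _ w

end cover

end Groth.Agent.Lib.helper5.EqvGrpd
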