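import Groth.Agent.Lib.Helper1.ZarRep

/-!
# Zariski-local representability over a scheme, for a basis of opens (helper5)

Generalisation of helper1's `ZarRep.exists_rep`: for `π : P ⟶ h_T` a map of fppf sheaves over `S` such that
over every open `V` in a basis `B` of `T` the base change `P ×_{h_T} h_V` is representable, `P` is representable
by a scheme `W` over `T`.  Consequence: representability is local for arbitrary open covers of `T`.
-/

set_option autoImplicit false
universe u
open CategoryTheory CategoryTheory.Limits AlgebraicGeometry Opposite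
open AlgSp Groth.Agent.H1.ZarRep

namespace Groth.Agent.Lib.helper5.ZarRepB

variable {S : Scheme.{u}}

section Cover

variable {X : Scheme.{u}} (B : Set X.Opens) (hB : TopologicalSpace.Opens.IsBasis B)

include hB in
theorem exists_mem_le_of_isBasis (U : X.Opens) (x : X) (hx : x ∈ U) : ∃ W ∈ B, x ∈ W ∧ W ≤ U :=
  TopologicalSpace.Opens.isBasis_iff_nbhd.mp hB hx

/-- The open cover of `X` by the members of a basis. -/
def basisCover : X.OpenCover where
  I₀ := ↥B
  X U := U.1
  f U := U.1.ι
  mem₀ := by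
    rw [Scheme.presieve₀_mem_precoverage_iff]
    refine ⟨fun x => ?_, inferInstance⟩
    obtain ⟨W, hW, hxW, -⟩ := exists_mem_le_of_isBasis B hB ⊤ x trivial
    exact ⟨⟨W, hW⟩, by simpa using hxW⟩

instance : Preorder (basisCover B hB).I₀ := inferInstanceAs (Preorder ↥B)

set_option backward.isDefEq.respectTransparency.types false in
set_option backward.defeqAttrib.useBackward true in
noncomputable instance : Scheme.Cover.LocallyDirected (basisCover B hB) :=
  .ofIsBasisOpensRange (by intros; simp [basisCover]; rfl) <| by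
    convert! hB
    simp [basisCover]

set_option backward.isDefEq.respectTransparency.types false in
@[simp]
lemma basisCover_trans {U V : ↥B} (hUV : U ≤ V) :
    Scheme.Cover.trans (basisCover B hB) (homOfLE hUV) = X.homOfLE hUV := rfl

theorem iSup_basis_eq_top {B : Set X.Opens} (hB : TopologicalSpace.Opens.IsBasis B) :
    (⨆ V : ↥B, V.1) = ⊤ := by
  rw [eq_top_iff]
  intro x _
  obtain ⟨W, hW, hxW, -⟩ := exists_mem_le_of_isBasis B hB ⊤ x trivial
  exact TopologicalSpace.Opens.mem_iSup.2 ⟨⟨W, hW⟩, hxW⟩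

end Cover


/-! ## The gluing data -/

section Glue

variable {T : Over S} {P : Sp S} {π : P ⟶ (yon S).obj T}
variable {B : Set T.left.Opens} (hB : TopologicalSpace.Opens.IsBasis B)
variable (D : ∀ V : ↥B, LocRep π V.1)

/-- The chosen transition maps. -/
noncomputable def tr {V V' : ↥B} (h : V ≤ V') : (D V).W ⟶ (D V').W :=
  (exists_tr (T := T) (show V.1 ≤ V'.1 from h) (D V) (D V')).choose

theorem tr_a {V V' : ↥B} (h : V ≤ V') : (yon S).map (tr D h) ≫ (D V').a = (D V).a :=
  (exists_tr (T := T) (show V.1 ≤ V'.1 from h) (D V) (D V')).choose_spec.1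

theorem tr_w {V V' : ↥B} (h : V ≤ V') :
    tr D h ≫ (D V').w = (D V).w ≫ ovLE T (show V.1 ≤ V'.1 from h) :=
  (exists_tr (T := T) (show V.1 ≤ V'.1 from h) (D V) (D V')).choose_spec.2

theorem tr_id (V : ↥B) : tr D (le_refl V) = 𝟙 _ := by
  apply tr_unique (D V)
  · rw [tr_a, CategoryTheory.Functor.map_id, Category.id_comp]
  · rw [tr_w, Category.id_comp]
    have : ovLE T (le_refl V.1) = 𝟙 _ := by
      apply Over.OverMorphism.ext
      exact Scheme.homOfLE_rfl _ _
    rw [this, Category.comp_id]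

theorem tr_comp {V V' V'' : ↥B} (h : V ≤ V') (h' : V' ≤ V'') :
    tr D h ≫ tr D h' = tr D (h.trans h') := by
  apply tr_unique (D V'')
  · rw [Functor.map_comp, Category.assoc, tr_a, tr_a, tr_a]
  · rw [Category.assoc, tr_w, ← Category.assoc, tr_w, tr_w, Category.assoc]
    congr 1
    apply Over.OverMorphism.ext
    exact Scheme.homOfLE_homOfLE _ (show V.1 ≤ V'.1 from h) (show V'.1 ≤ V''.1 from h')

/-- The functor of local representing schemes. -/
noncomputable def gFunctor : (basisCover B hB).I₀ ⥤ Scheme.{u} where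
  obj V := (D V).W.left
  map f := (tr D (leOfHom f)).left
  map_id V := by
    have := tr_id D V
    exact congrArg (fun m => m.left) this
  map_comp f g := by
    have := tr_comp D (leOfHom f) (leOfHom g)
    exact (congrArg (fun m => m.left) this).symm


/-- The structure maps of the local representing schemes. -/
noncomputable def gNatTrans : gFunctor hB D ⟶ (basisCover B hB).functorOfLocallyDirected where
  app V := (D V).w.left
  naturality V V' f := by
    have h := congrArg (fun m => m.left) (tr_w D (leOfHom f))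
    exact h

theorem gNatTrans_equifibered : (gNatTrans hB D).Equifibered := by
  intro V V' f
  have h := isPullback_tr (T := T) (show V.1 ≤ V'.1 from leOfHom f) (D V) (D V') (tr D (leOfHom f))
    (tr_a D (leOfHom f)) (tr_w D (leOfHom f))
  exact h.map (Over.forget S)

/-- The relative gluing datum. -/
noncomputable def gData : Scheme.Cover.RelativeGluingData (basisCover B hB) where
  functor := gFunctor hB D
  natTrans := gNatTrans hB D
  equifibered := gNatTrans_equifibered hB D


/-- The glued scheme, over `S`. -/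
noncomputable def gW : Over S := Over.mk ((gData hB D).toBase ≫ T.hom)

/-- The structure map of the glued scheme. -/
noncomputable def gw : gW hB D ⟶ T := Over.homMk (gData hB D).toBase rfl

theorem gj_w (V : ↥B) :
    colimit.ι (gData hB D).functor V ≫ (gW hB D).hom = (D V).W.hom := by
  show colimit.ι (gData hB D).functor V ≫ (gData hB D).toBase ≫ T.hom = _
  rw [← Category.assoc, Scheme.Cover.RelativeGluingData.ι_toBase]
  have := Over.w (D V).w
  rw [← this]
  rfl

/-- The inclusions of the local representing schemes into the glued scheme. -/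
noncomputable def gj (V : ↥B) : (D V).W ⟶ gW hB D :=
  Over.homMk (colimit.ι (gData hB D).functor V) (gj_w hB D V)

theorem gj_gw (V : ↥B) : gj hB D V ≫ gw hB D = (D V).w ≫ ovι T V.1 := by
  apply Over.OverMorphism.ext
  show colimit.ι (gData hB D).functor V ≫ (gData hB D).toBase = (D V).w.left ≫ V.1.ι
  rw [Scheme.Cover.RelativeGluingData.ι_toBase]
  rfl

theorem tr_gj {V V' : ↥B} (h : V ≤ V') : tr D h ≫ gj hB D V' = gj hB D V := by
  apply Over.OverMorphism.ext
  show (gData hB D).functor.map (homOfLE h) ≫ colimit.ι (gData hB D).functor V' = colimit.ι (gData hB D).functor V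
  exact colimit.w _ _

instance (V : ↥B) : IsOpenImmersion (gj hB D V).left := by
  show IsOpenImmersion (colimit.ι (gData hB D).functor V)
  exact ((gData hB D).cover).map_prop V

theorem isPullback_gj (V : ↥B) :
    IsPullback (D V).w.left (gj hB D V).left V.1.ι (gw hB D).left :=
  (gData hB D).isPullback_natTrans_ι_toBase V

theorem exists_gj_mem (x : ↥(gW hB D).left) : ∃ V, x ∈ Set.range (gj hB D V).left :=
  ⟨_, (gData hB D).cover.covers x⟩


theorem mem_range_gj_iff (V : ↥B) (x : ↥(gW hB D).left) :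
    x ∈ Set.range (gj hB D V).left ↔ (gw hB D).left x ∈ V.1 := by
  have h := (gData hB D).preimage_toBase_eq_range_ι V
  have h2 : Set.range ((basisCover B hB).f V) = (V.1 : Set ↥T.left) := by
    show Set.range V.1.ι = _
    exact Scheme.Opens.range_ι _
  rw [h2] at h
  show x ∈ Set.range (colimit.ι (gData hB D).functor V) ↔ _
  rw [← h]
  rfl

instance (V : ↥B) : Mono (gj hB D V) := by
  have : Mono ((Over.forget S).map (gj hB D V)) := by
    show Mono (gj hB D V).left
    infer_instance
  exact (Over.forget S).mono_of_mono_map this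

/-- Locally on the source, a map to the glued scheme factors through a local representing scheme. -/
theorem exists_local_factor {Z : Over S} (ζ : Z ⟶ gW hB D) (V : ↥B) :
    ∃ (ξ : ov Z ((ζ ≫ gw hB D).left ⁻¹ᵁ V.1) ⟶ (D V).W),
      ξ ≫ gj hB D V = ovι Z ((ζ ≫ gw hB D).left ⁻¹ᵁ V.1) ≫ ζ := by
  let Z' : Z.left.Opens := (ζ ≫ gw hB D).left ⁻¹ᵁ V.1
  have hr : Set.range (Z'.ι ≫ ζ.left) ⊆ Set.range (gj hB D V).left := by
    rintro _ ⟨y, rfl⟩
    have : (Z'.ι y) ∈ Z' := by
      have := Scheme.Opens.range_ι Z'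
      rw [← SetLike.mem_coe, ← this]
      exact ⟨y, rfl⟩
    exact (mem_range_gj_iff hB D V _).2 this
  let ξ₀ : (Z' : Scheme.{u}) ⟶ (D V).W.left := IsOpenImmersion.lift (gj hB D V).left (Z'.ι ≫ ζ.left) hr
  have hξ₀ : ξ₀ ≫ (gj hB D V).left = Z'.ι ≫ ζ.left := IsOpenImmersion.lift_fac _ _ _
  have hover : ξ₀ ≫ (D V).W.hom = (ov Z Z').hom := by
    show _ = Z'.ι ≫ Z.hom
    rw [← Over.w (gj hB D V), ← Category.assoc, hξ₀, Category.assoc, Over.w ζ]
  refine ⟨Over.homMk ξ₀ hover, ?_⟩
  apply Over.OverMorphism.ext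
  exact hξ₀

theorem exists_local_factor' {Z : Over S} (ζ : Z ⟶ gW hB D) (τ : Z ⟶ T) (hτ : ζ ≫ gw hB D = τ)
    (V : ↥B) :
    ∃ (ξ : ov Z (τ.left ⁻¹ᵁ V.1) ⟶ (D V).W), ξ ≫ gj hB D V = ovι Z (τ.left ⁻¹ᵁ V.1) ≫ ζ := by
  subst hτ
  exact exists_local_factor hB D ζ V

theorem gw_gj_mem (V : ↥B) {Z : Over S} (g : Z ⟶ (D V).W) (z : ↥Z.left) :
    (gw hB D).left ((g ≫ gj hB D V).left z) ∈ V.1 := by
  have h : (g ≫ gj hB D V) ≫ gw hB D = (g ≫ (D V).w) ≫ ovι T V.1 := by
    rw [Category.assoc, gj_gw, Category.assoc]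
  have h' := congrArg (fun m => m.left z) h
  simp only [Over.comp_left, Scheme.Hom.comp_apply] at h'
  show (gw hB D).left ((gj hB D V).left (g.left z)) ∈ V.1
  rw [h']
  exact ((D V).w.left (g.left z)).2

open Groth.Agent.Lib.helper5 in
theorem compat_aux {V V' : ↥B} {Z : Over S} (gi : Z ⟶ (D V).W) (gj' : Z ⟶ (D V').W)
    (ζ : Z ⟶ gW hB D) (hζ1 : gi ≫ gj hB D V = ζ) (hζ2 : gj' ≫ gj hB D V' = ζ) :
    (yon S).map gi ≫ (D V).a = (yon S).map gj' ≫ (D V').a := by
  have hchoice : ∀ z : ↥Z.left, ∃ V'' : ↥B, V'' ≤ V ∧ V'' ≤ V' ∧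
      (gw hB D).left (ζ.left z) ∈ V''.1 := by
    intro z
    have m1 := gw_gj_mem hB D V gi z
    have m2 := gw_gj_mem hB D V' gj' z
    rw [hζ1] at m1
    rw [hζ2] at m2
    obtain ⟨W, hW, hzW, hWle⟩ := exists_mem_le_of_isBasis B hB (V.1 ⊓ V'.1) _ ⟨m1, m2⟩
    exact ⟨⟨W, hW⟩, hWle.trans inf_le_left, hWle.trans inf_le_right, hzW⟩
  choose V'' h1 h2 h3 using hchoice
  choose ξ hξ using fun z => exists_local_factor hB D ζ (V'' z)
  refine yon_hom_ext_of_family _ _ (fun z => ov Z ((ζ ≫ gw hB D).left ⁻¹ᵁ (V'' z).1))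
    (fun z => ovι Z _)
    (fun z => by show Flat (Scheme.Opens.ι _); infer_instance)
    (fun z => by show LocallyOfFinitePresentation (Scheme.Opens.ι _); infer_instance)
    (fun z => ⟨z, by
      show z ∈ Set.range (Scheme.Opens.ι _)
      rw [Scheme.Opens.range_ι]
      exact h3 z⟩) ?_
  intro z
  have e1 : ovι Z _ ≫ gi = ξ z ≫ tr D (h1 z) := by
    rw [← cancel_mono (gj hB D V), Category.assoc, Category.assoc, tr_gj, hξ, hζ1]
  have e2 : ovι Z _ ≫ gj' = ξ z ≫ tr D (h2 z) := by
    rw [← cancel_mono (gj hB D V'), Category.assoc, Category.assoc, tr_gj, hξ, hζ2]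
  rw [← Category.assoc, ← Functor.map_comp, e1, ← Category.assoc, ← Functor.map_comp, e2,
    Functor.map_comp, Functor.map_comp, Category.assoc, Category.assoc, tr_a, tr_a]

theorem compat {V V' : ↥B} {Z : Over S} (gi : Z ⟶ (D V).W) (gj' : Z ⟶ (D V').W)
    (h : gi ≫ gj hB D V = gj' ≫ gj hB D V') :
    (yon S).map gi ≫ (D V).a = (yon S).map gj' ≫ (D V').a :=
  compat_aux hB D gi gj' _ h rfl

open Groth.Agent.Lib.helper5 in
/-- The glued map from the glued scheme to `P`. -/
theorem exists_ga : ∃ a : (yon S).obj (gW hB D) ⟶ P, ∀ V, (yon S).map (gj hB D V) ≫ a = (D V).a :=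
  exists_glue (fun V => (D V).W) (gj hB D)
    (fun _ => inferInstance) (fun _ => inferInstance) (exists_gj_mem hB D) (fun V => (D V).a)
    (fun _ _ _ gi gj' h => compat hB D gi gj' h)


section Iso

open Groth.Agent.Lib.helper5

variable (a : (yon S).obj (gW hB D) ⟶ P) (ha : ∀ V, (yon S).map (gj hB D V) ≫ a = (D V).a)
include ha

theorem ga_π : a ≫ π = (yon S).map (gw hB D) := by
  refine yon_hom_ext_of_family _ _ (fun V => (D V).W) (gj hB D) (fun _ => inferInstance)
    (fun _ => inferInstance) (exists_gj_mem hB D) ?_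
  intro V
  rw [← Category.assoc, ha, (D V).sq.w, ← Functor.map_comp, ← Functor.map_comp, gj_gw]

instance (V : T.left.Opens) : Mono (ovι T V) := by
  have : Mono ((Over.forget S).map (ovι T V)) := by
    show Mono V.ι
    infer_instance
  exact (Over.forget S).mono_of_mono_map this

theorem ga_inj {Z : Over S} (ζ₁ ζ₂ : Z ⟶ gW hB D) (h : (yon S).map ζ₁ ≫ a = (yon S).map ζ₂ ≫ a) :
    ζ₁ = ζ₂ := by
  have hgw : ζ₁ ≫ gw hB D = ζ₂ ≫ gw hB D := by
    apply (yon S).map_injective
    rw [Functor.map_comp, Functor.map_comp, ← ga_π hB D a ha, ← Category.assoc, h, Category.assoc]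
  obtain ⟨τ, hτ1, hτ2⟩ : ∃ τ : Z ⟶ T, ζ₁ ≫ gw hB D = τ ∧ ζ₂ ≫ gw hB D = τ := ⟨_, rfl, hgw.symm⟩
  have hchoice : ∀ z : ↥Z.left, ∃ V : ↥B, τ.left z ∈ V.1 := by
    intro z
    obtain ⟨W, hW, hzW, -⟩ := exists_mem_le_of_isBasis B hB (⊤ : T.left.Opens) (τ.left z) trivial
    exact ⟨⟨W, hW⟩, hzW⟩
  choose V hV using hchoice
  apply (yon S).map_injective
  refine yon_hom_ext_of_family _ _ (fun z => ov Z (τ.left ⁻¹ᵁ (V z).1))
    (fun z => ovι Z _)
    (fun z => by show Flat (Scheme.Opens.ι _); infer_instance)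
    (fun z => by show LocallyOfFinitePresentation (Scheme.Opens.ι _); infer_instance)
    (fun z => ⟨z, by
      show z ∈ Set.range (Scheme.Opens.ι _)
      rw [Scheme.Opens.range_ι]
      exact hV z⟩) ?_
  intro z
  obtain ⟨ξ₁, hξ₁⟩ := exists_local_factor' hB D ζ₁ τ hτ1 (V z)
  obtain ⟨ξ₂, hξ₂⟩ := exists_local_factor' hB D ζ₂ τ hτ2 (V z)
  have hξ : ξ₁ = ξ₂ := by
    apply tr_unique (D (V z))
    · rw [← ha, ← Category.assoc, ← Functor.map_comp, hξ₁, ← Category.assoc, ← Functor.map_comp, hξ₂,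
        Functor.map_comp, Functor.map_comp, Category.assoc, Category.assoc, h]
    · rw [← cancel_mono (ovι T (V z).1), Category.assoc, Category.assoc, ← gj_gw hB, ← Category.assoc,
        ← Category.assoc, hξ₁, hξ₂, Category.assoc, Category.assoc, hτ1, hτ2]
  rw [← Functor.map_comp, ← Functor.map_comp, ← hξ₁, ← hξ₂, hξ]

theorem ga_mono : Mono a := by
  constructor
  intro Q u v huv
  apply hom_ext_yon
  intro Z s
  obtain ⟨ζ₁, h1⟩ := (yon S).map_surjective (s ≫ u)
  obtain ⟨ζ₂, h2⟩ := (yon S).map_surjective (s ≫ v)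
  rw [← h1, ← h2]
  congr 1
  apply ga_inj hB D a ha
  rw [h1, h2, Category.assoc, Category.assoc, huv]


omit ha in
/-- The restriction of a map `τ : Z ⟶ T` over `S` to the preimage of an open. -/
theorem exists_restrict {Z : Over S} (τ : Z ⟶ T) (V : T.left.Opens) :
    ∃ ρ : ov Z (τ.left ⁻¹ᵁ V) ⟶ ov T V, ρ ≫ ovι T V = ovι Z (τ.left ⁻¹ᵁ V) ≫ τ := by
  have h : (τ.left ∣_ V) ≫ V.ι = (τ.left ⁻¹ᵁ V).ι ≫ τ.left := morphismRestrict_ι _ _
  refine ⟨Over.homMk (τ.left ∣_ V) ?_, ?_⟩
  · show (τ.left ∣_ V) ≫ V.ι ≫ T.hom = (τ.left ⁻¹ᵁ V).ι ≫ Z.hom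
    rw [← Category.assoc, h, Category.assoc, Over.w τ]
  · apply Over.OverMorphism.ext
    exact h

theorem ga_liftSieve {Z : Over S} (η : (yon S).obj Z ⟶ P) :
    Epi.liftSieve a η ∈ (AlgSp.J S) Z := by
  obtain ⟨τ, hτ⟩ := (yon S).map_surjective (η ≫ π)
  have hchoice : ∀ z : ↥Z.left, ∃ V : ↥B, τ.left z ∈ V.1 := by
    intro z
    obtain ⟨W, hW, hzW, -⟩ := exists_mem_le_of_isBasis B hB (⊤ : T.left.Opens) (τ.left z) trivial
    exact ⟨⟨W, hW⟩, hzW⟩
  choose V hV using hchoice
  have hcov := Groth.Agent.S10510.cover_mem_family (fun z : ↥Z.left => ov Z (τ.left ⁻¹ᵁ (V z).1))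
    (fun z => ovι Z _)
    (fun z => by show Flat (Scheme.Opens.ι _); infer_instance)
    (fun z => by show LocallyOfFinitePresentation (Scheme.Opens.ι _); infer_instance)
    (fun z => ⟨z, by
      show z ∈ Set.range (Scheme.Opens.ι _)
      rw [Scheme.Opens.range_ι]
      exact hV z⟩)
  refine (AlgSp.J S).superset_covering ?_ hcov
  rintro T' t ⟨Z₁, c, b, ⟨z⟩, rfl⟩
  obtain ⟨ρ, hρ⟩ := exists_restrict τ (V z).1
  obtain ⟨l, hl1, -⟩ := (D (V z)).sq.exists_lift ((yon S).map (ovι Z _) ≫ η) ((yon S).map ρ) (by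
    rw [Category.assoc, ← hτ, ← Functor.map_comp, ← Functor.map_comp, hρ])
  refine ⟨(yon S).map c ≫ l ≫ (yon S).map (gj hB D (V z)), ?_⟩
  rw [Category.assoc, Category.assoc, ha, hl1, Functor.map_comp, Category.assoc]

theorem ga_isIso : IsIso a := by
  have := ga_mono hB D a ha
  exact Epi.isIso_of_mono_of_liftSieve a (fun Z η => ga_liftSieve hB D a ha η)

end Iso


/-- Properties local at the target pass from the local representing schemes to the glued one. -/
theorem gw_prop (Q : MorphismProperty Scheme.{u}) [IsZariskiLocalAtTarget Q]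
    (h : ∀ V : ↥B, Q (D V).w.left) : Q (gw hB D).left := by
  apply IsZariskiLocalAtTarget.of_iSup_eq_top (fun V : ↥B => V.1)
    (iSup_basis_eq_top hB)
  intro V
  have h1 : IsPullback (D V).w.left (gj hB D V).left V.1.ι (gw hB D).left := isPullback_gj hB D V
  have h2 := isPullback_morphismRestrict (gw hB D).left V.1
  let e := h1.isoIsPullback _ _ h2
  have he : e.hom ≫ ((gw hB D).left ∣_ V.1) = (D V).w.left := IsPullback.isoIsPullback_hom_fst _ _ h1 h2
  rw [← Q.cancel_left_of_respectsIso e.hom, he]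
  exact h V

end Glue

/-- **Zariski-local representability.** If the base change of `π : P ⟶ h_T` to every affine open of `T` is
representable, then `P` is representable by a scheme over `T`; a property local at the target which holds for all
local representing schemes holds for it. -/
theorem exists_rep {T : Over S} {P : Sp S} (π : P ⟶ (yon S).obj T)
    {B : Set T.left.Opens} (hB : TopologicalSpace.Opens.IsBasis B)
    (h : ∀ V : ↥B, Nonempty (LocRep π V.1)) :
    ∃ (W : Over S) (w : W ⟶ T) (a : (yon S).obj W ⟶ P), IsIso a ∧ a ≫ π = (yon S).map w ∧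
      ∀ (Q : MorphismProperty Scheme.{u}) [IsZariskiLocalAtTarget Q],
        (∀ (V : ↥B) (L : LocRep π V.1), Q L.w.left) → Q w.left := by
  let D : ∀ V : ↥B, LocRep π V.1 := fun V => (h V).some
  obtain ⟨a, ha⟩ := exists_ga hB D
  exact ⟨gW hB D, gw hB D, a, ga_isIso hB D a ha, ga_π hB D a ha, fun Q _ hQ => gw_prop hB D Q (fun V => hQ V (D V))⟩



/-- Restriction of a local representation to a smaller open. -/
noncomputable def restrict {T : Over S} {P : Sp S} {π : P ⟶ (yon S).obj T} {V V' : T.left.Opens} (h : V ≤ V')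
    (L : LocRep π V') : LocRep π V where
  W := pullback L.w (ovLE T h)
  w := pullback.snd _ _
  a := (yon S).map (pullback.fst _ _) ≫ L.a
  sq := by
    have h1 : IsPullback ((yon S).map (pullback.fst L.w (ovLE T h))) ((yon S).map (pullback.snd L.w (ovLE T h)))
        ((yon S).map L.w) ((yon S).map (ovLE T h)) := (IsPullback.of_hasPullback _ _).map (yon S)
    have h2 := h1.paste_horiz L.sq
    rwa [← Functor.map_comp, ovLE_ovι] at h2

theorem restrict_prop {T : Over S} {P : Sp S} {π : P ⟶ (yon S).obj T} {V V' : T.left.Opens} (h : V ≤ V')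
    (L : LocRep π V') (Q : MorphismProperty Scheme.{u}) [IsZariskiLocalAtTarget Q] (hQ : Q L.w.left) :
    Q (restrict h L).w.left := by
  have h1 : IsPullback (pullback.fst L.w (ovLE T h)).left (pullback.snd L.w (ovLE T h)).left
      L.w.left (ovLE T h).left := (IsPullback.of_hasPullback L.w (ovLE T h)).map (Over.forget S)
  have : IsOpenImmersion (ovLE T h).left := by
    show IsOpenImmersion (T.left.homOfLE h)
    infer_instance
  exact IsZariskiLocalAtTarget.of_isPullback h1 hQ

/-- **Zariski-local representability for open covers.** If the base change of `π : P ⟶ h_T` to every member of an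
open cover of `T` is representable, then `P` is representable by a scheme over `T`; a property local at the target
which holds for all local representing schemes holds for it. -/
theorem exists_rep_of_cover {T : Over S} {P : Sp S} (π : P ⟶ (yon S).obj T) {κ : Type*}
    (V : κ → T.left.Opens) (hV : ∀ x : T.left, ∃ k, x ∈ V k) (h : ∀ k, Nonempty (LocRep π (V k))) :
    ∃ (W : Over S) (w : W ⟶ T) (a : (yon S).obj W ⟶ P), IsIso a ∧ a ≫ π = (yon S).map w ∧
      ∀ (Q : MorphismProperty Scheme.{u}) [IsZariskiLocalAtTarget Q],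
        (∀ (k : κ) (L : LocRep π (V k)), Q L.w.left) → Q w.left := by
  let B : Set T.left.Opens := {U | ∃ k, U ≤ V k}
  have hB : TopologicalSpace.Opens.IsBasis B := by
    rw [TopologicalSpace.Opens.isBasis_iff_nbhd]
    intro U x hx
    obtain ⟨k, hk⟩ := hV x
    exact ⟨U ⊓ V k, ⟨k, inf_le_right⟩, ⟨hx, hk⟩, inf_le_left⟩
  have hloc : ∀ U : ↥B, Nonempty (LocRep π U.1) := by
    rintro ⟨U, k, hk⟩
    exact ⟨restrict hk (h k).some⟩
  obtain ⟨W, w, a, ha, haπ, hprop⟩ := exists_rep π hB hloc
  refine ⟨W, w, a, ha, haπ, fun Q _ hQ => hprop Q ?_⟩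
  rintro ⟨U, k, hk⟩ L
  exact prop_of_locRep Q L (restrict hk (h k).some) (restrict_prop hk _ Q (hQ k _))

/-- Representability of a base change is local for open covers of the base scheme: if `f : F ⟶ G` has representable
base change along `h_{T_k} ⟶ h_T ⟶ G` for an open cover `T_k ⟶ T`, then it has representable base change along
`g : h_T ⟶ G`; a property local at the target which holds for all representing morphisms over the `T_k` holds for
the representing morphism over `T`. -/
theorem exists_isPullback_of_cover {F G : Sp S} (f : F ⟶ G) {T : Over S} (g : (yon S).obj T ⟶ G) {κ : Type*}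
    (Tk : κ → Over S) (t : ∀ k, Tk k ⟶ T) (hoi : ∀ k, IsOpenImmersion (t k).left)
    (hcov : ∀ x : T.left, ∃ k, x ∈ Set.range (t k).left)
    (Q : MorphismProperty Scheme.{u}) [IsZariskiLocalAtTarget Q]
    (h : ∀ k, ∃ (W : Over S) (i : W ⟶ Tk k) (fst : (yon S).obj W ⟶ F),
      IsPullback fst ((yon S).map i) f ((yon S).map (t k) ≫ g) ∧ Q i.left) :
    ∃ (W : Over S) (w : W ⟶ T) (fst : (yon S).obj W ⟶ F), IsPullback fst ((yon S).map w) f g ∧ Q w.left := by
  have : Q.RespectsIso := inferInstance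
  have : ∀ k, IsOpenImmersion (t k).left := hoi
  let V : κ → T.left.Opens := fun k => (t k).left.opensRange
  have hV : ∀ x : T.left, ∃ k, x ∈ V k := hcov
  -- the isomorphism `T_k ≅ V_k` over `S`
  let e₀ : ∀ k, (Tk k).left ≅ ((V k : T.left.Opens) : Scheme.{u}) := fun k =>
    IsOpenImmersion.isoOfRangeEq (t k).left (V k).ι (by
      rw [Scheme.Opens.range_ι]; rfl)
  have he₀ : ∀ k, (e₀ k).hom ≫ (V k).ι = (t k).left := fun k =>
    IsOpenImmersion.isoOfRangeEq_hom_fac _ _ _
  let e : ∀ k, Tk k ≅ ov T (V k) := fun k => Over.isoMk (e₀ k) (by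
    show (e₀ k).hom ≫ (V k).ι ≫ T.hom = (Tk k).hom
    rw [← Category.assoc, he₀, Over.w])
  have he : ∀ k, (e k).hom ≫ ovι T (V k) = t k := by
    intro k
    apply Over.OverMorphism.ext
    exact he₀ k
  have hL : ∀ k, ∃ L : LocRep (pullback.snd f g) (V k), Q L.w.left := by
    intro k
    obtain ⟨W, i, fst, sq, hQ⟩ := h k
    have hsq2 : IsPullback ((yon S).map (t k) ≫ g) ((yon S).map (e k).hom) (𝟙 G)
        ((yon S).map (ovι T (V k)) ≫ g) :=
      IsPullback.of_vert_isIso ⟨by
        rw [Category.comp_id, ← Category.assoc, ← Functor.map_comp, he]⟩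
    have hsq3 := sq.paste_vert hsq2
    rw [Category.comp_id, ← Functor.map_comp] at hsq3
    refine ⟨locRepOfPullback f g (V k) W (i ≫ (e k).hom) fst hsq3, ?_⟩
    show Q (i ≫ (e k).hom).left
    rw [Over.comp_left]
    exact (Q.cancel_right_of_respectsIso i.left (e k).hom.left).2 hQ
  obtain ⟨W, w, a, ha, haπ, hprop⟩ := exists_rep_of_cover (pullback.snd f g) V hV (fun k => ⟨(hL k).choose⟩)
  refine ⟨W, w, a ≫ pullback.fst f g, ?_, ?_⟩
  · have h1 : IsPullback a ((yon S).map w) (pullback.snd f g) (𝟙 _) :=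
      IsPullback.of_horiz_isIso ⟨by rw [haπ, Category.comp_id]⟩
    have h2 := h1.paste_horiz (IsPullback.of_hasPullback f g)
    rwa [Category.id_comp] at h2
  · exact hprop Q (fun k L => prop_of_locRep Q L _ (hL k).choose_spec)

end Groth.Agent.Lib.helper5.ZarRepB
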