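import Groth.Agent.Lib.Helper5.AlgSpCoprod5

/-!
A coproduct of algebraic spaces is an algebraic space (helper5).
-/

set_option autoImplicit false
universe u
open CategoryTheory CategoryTheory.Limits AlgebraicGeometry Opposite
open AlgSp

namespace Groth.Agent.Lib.helper5.Coprod

variable {S : Scheme.{u}}

/-- A scheme mapping to a coproduct of sheaves decomposes into open pieces mapping to the summands. -/
theorem exists_decomposition {κ : Type u} (F : κ → Sp S) (c : Cofan F) (hc : IsColimit c) {T : Over S}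
    (a : (yon S).obj T ⟶ c.pt) :
    ∃ (Tk : κ → Over S) (t : ∀ k, Tk k ⟶ T) (fa : ∀ k, (yon S).obj (Tk k) ⟶ F k),
      (∀ k, IsPullback (fa k) ((yon S).map (t k)) (c.inj k) a) ∧ (∀ k, IsOpenImmersion (t k).left) ∧
      (∀ x : T.left, ∃ k, x ∈ Set.range (t k).left) := by
  have hrep := fun k => repWith_openClosed_inj F c hc k
  choose Tk t fa sqA using fun k => (hrep k).1 a
  have hoi : ∀ k, IsOpenImmersion (t k).left := fun k => ((hrep k).2 a (fa k) (t k) (sqA k)).1
  refine ⟨Tk, t, fa, sqA, hoi, ?_⟩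
  obtain ⟨hT⟩ := nonempty_isColimit_of_isPullback' F c hc a (fun k => (yon S).obj (Tk k))
    (fun k => (yon S).map (t k)) fa (fun k => (sqA k).flip)
  exact cover_of_isColimit_yon Tk t hoi hT

/-- Every map from a scheme to a coproduct of algebraic spaces is representable. -/
theorem representable_to_cofan_pt {κ : Type u} (F : κ → Sp S) (hF : ∀ k, IsAlgSpace (F k)) (c : Cofan F)
    (hc : IsColimit c) {T : Over S} (a : (yon S).obj T ⟶ c.pt) : Representable a := by
  intro T' b
  obtain ⟨Tk, t, fa, sqA, -, -⟩ := exists_decomposition F c hc a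
  obtain ⟨T'k, t', fb, sqB, -, -⟩ := exists_decomposition F c hc b
  choose Pk v' fst sqP using fun k => (hF k).representable_from_yon (fa k) (fb k)
  let v : ∀ k, Pk k ⟶ Tk k := fun k => (yon S).preimage (fst k)
  have sqP' : ∀ k, IsPullback ((yon S).map (v k)) ((yon S).map (v' k)) (fa k) (fb k) := by
    intro k
    rw [Functor.map_preimage]
    exact sqP k
  exact ⟨_, _, _, isPullback_sigmaOver F c hc a b Tk t fa sqA T'k t' fb sqB Pk v v' sqP'⟩

/-- A coproduct of algebraic spaces (indexed by a type in the universe of the base) is an algebraic space. -/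
theorem isAlgSpace_cofan_pt {κ : Type u} (F : κ → Sp S) (hF : ∀ k, IsAlgSpace (F k)) (c : Cofan F)
    (hc : IsColimit c) : IsAlgSpace c.pt := by
  refine ⟨Functor.relativelyRepresentable.diag_of_map_from_obj
    (fun T a => representable_to_cofan_pt F hF c hc a), ?_⟩
  choose U p hpe hps using fun k => (hF k).atlas
  let hYon := isColimitYonSigma U
  let π : (yon S).obj (sigmaOver U) ⟶ c.pt := hYon.desc (Cofan.mk c.pt (fun k => p k ≫ c.inj k))
  have hπ : ∀ k, (yon S).map (sigmaOverι U k) ≫ π = p k ≫ c.inj k := fun k => hYon.fac _ ⟨k⟩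
  have sqU : ∀ k, IsPullback (p k) ((yon S).map (sigmaOverι U k)) (c.inj k) π := fun k =>
    (isPullback_of_isColimit F c hc π _ (fun k => (yon S).map (sigmaOverι U k)) p hπ hYon k).flip
  have key : ∀ (T : Over S) (ξ : (yon S).obj T ⟶ c.pt),
      ∃ (Tk : κ → Over S) (t : ∀ k, Tk k ⟶ T) (Pk : κ → Over S) (v : ∀ k, Pk k ⟶ U k) (v' : ∀ k, Pk k ⟶ Tk k),
        (∀ k, IsOpenImmersion (t k).left) ∧ (∀ x : T.left, ∃ k, x ∈ Set.range (t k).left) ∧
        (∀ k, Etale (v' k).left) ∧ (∀ k, Surjective (v' k).left) ∧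
        IsPullback ((yon S).map (sigmaOverDesc Pk (fun k => v k ≫ sigmaOverι U k)))
          ((yon S).map (sigmaOverDesc Pk (fun k => v' k ≫ t k))) π ξ := by
    intro T ξ
    obtain ⟨Tk, t, fb, sqB, hoi, hcov⟩ := exists_decomposition F c hc ξ
    choose Pk v' fst sqP using fun k => (hpe k).1 (fb k)
    let v : ∀ k, Pk k ⟶ U k := fun k => (yon S).preimage (fst k)
    have sqP' : ∀ k, IsPullback ((yon S).map (v k)) ((yon S).map (v' k)) (p k) (fb k) := by
      intro k
      rw [Functor.map_preimage]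
      exact sqP k
    refine ⟨Tk, t, Pk, v, v', hoi, hcov, fun k => (hpe k).2 (fb k) _ (v' k) (sqP' k),
      fun k => (hps k).2 (fb k) _ (v' k) (sqP' k), ?_⟩
    exact isPullback_sigmaOver F c hc π ξ U (sigmaOverι U) p sqU Tk t fb sqB Pk v v' sqP'
  refine ⟨sigmaOver U, π, repWith_of_forall_exists _ π (fun T ξ => ?_),
    repWith_of_forall_exists _ π (fun T ξ => ?_)⟩
  · obtain ⟨Tk, t, Pk, v, v', hoi, hcov, het, hsurj, sq⟩ := key T ξ
    refine ⟨_, _, _, sq, ?_⟩
    show Etale (Sigma.desc (fun k => (v' k ≫ t k).left))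
    refine IsZariskiLocalAtSource.sigmaDesc (P := @Etale) (fun k => ?_)
    have := het k
    have := hoi k
    rw [Over.comp_left]
    infer_instance
  · obtain ⟨Tk, t, Pk, v, v', hoi, hcov, het, hsurj, sq⟩ := key T ξ
    refine ⟨_, _, _, sq, ?_⟩
    show Surjective (Sigma.desc (fun k => (v' k ≫ t k).left))
    apply Surjective.sigmaDesc_of_union_range_eq_univ
    rw [Set.eq_univ_iff_forall]
    intro x
    obtain ⟨k, y, rfl⟩ := hcov x
    obtain ⟨z, rfl⟩ := (hsurj k).surj y
    refine Set.mem_iUnion.2 ⟨k, z, ?_⟩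
    rw [Over.comp_left, Scheme.Hom.comp_apply]

end Groth.Agent.Lib.helper5.Coprod
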