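import Mathlib
import Groth.Agent.Lib.Helper5.EqvRestr6
import Groth.Agent.Lib.Helper5.EqvGrpd2
import Groth.Agent.S9877
import Groth.Agent.S9881

/-!
# Gluing the quotient sheaf from flat-local charts (helper5)

`isAlgSpace_quot_of_charts`: an fppf equivalence relation `s, t : R ⟶ U` (flat, lfp) such that every point of `U` lies
in the image of a flat lfp map `g : U' ⟶ U` for which the quotient of the restricted relation is an algebraic space,
has an algebraic space as quotient sheaf.

`isAlgSpace_quot_of_lqf`: the quotient of a flat, lfp, locally quasi-finite equivalence relation is an algebraic space.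
-/

set_option autoImplicit false
universe u

open AlgebraicGeometry CategoryTheory CategoryTheory.Limits

namespace Groth.Agent.Lib.helper5.EqvRestr

open Groth.Agent.Lib.Helper14.RepSh Groth.Agent.Lib.Helper14.AlgSpQuot

variable {S : Scheme.{u}}

theorem isAlgSpace_quot_of_charts {R U : Over S} (s t : R ⟶ U) (hR : AlgSp.IsEqvRel s t)
    [Flat s.left] [LocallyOfFinitePresentation s.left]
    (hch : ∀ u : U.left, ∃ (R' U' : Over S) (s' t' : R' ⟶ U') (g : U' ⟶ U),
      IsRestr s t g s' t' ∧ Flat g.left ∧ LocallyOfFinitePresentation g.left ∧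
      u ∈ Set.range g.left ∧ AlgSp.IsAlgSpace (QuotSh.quot Scheme.fppfPrecoverage s' t')) :
    AlgSp.IsAlgSpace (QuotSh.quot Scheme.fppfPrecoverage s t) := by
  classical
  choose R' U' s' t' g hr hfl hlfp hmem halg using hch
  let Fi : U.left → AlgSp.Sp S := fun u => QuotSh.quot Scheme.fppfPrecoverage (s' u) (t' u)
  let f : ∀ u, Fi u ⟶ QuotSh.quot Scheme.fppfPrecoverage s t := fun u => (hr u).desc
  have hopen : ∀ u, AlgSp.RepWith @IsOpenImmersion (f u) := by
    intro u
    haveI := hfl u
    haveI := hlfp u
    exact (hr u).repWith_isOpenImmersion hR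
  let c : Cofan Fi := Cofan.mk (∐ Fi) (Sigma.ι Fi)
  let hc : IsColimit c := coproductIsCoproduct Fi
  have hcop : AlgSp.IsAlgSpace c.pt := Groth.Agent.S9881.result S Fi halg c hc
  refine Groth.Agent.S9877.result S _ Fi f halg hopen c hc ?_ hcop
  rw [isLocallySurjective_iff]
  intro T η
  have h1 := liftSieve_mem_of_epi (quotMap s t) η
  refine (AlgSp.J S).transitive h1 _ ?_
  rintro T' c' ⟨x, hx⟩
  obtain ⟨a, rfl⟩ := (AlgSp.yon S).map_surjective x
  apply mem_J_of_forall_exists_flat
  intro τ
  obtain ⟨υ, hυ⟩ := hmem (a.left τ)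
  obtain ⟨z, hz1, -⟩ := exists_point_pullback_over a (g (a.left τ)) τ υ hυ.symm
  have sq : IsPullback (pullback.fst a (g (a.left τ))).left (pullback.snd a (g (a.left τ))).left
      a.left (g (a.left τ)).left :=
    (IsPullback.of_hasPullback a (g (a.left τ))).map (Over.forget S)
  refine ⟨pullback a (g (a.left τ)), pullback.fst a (g (a.left τ)), ?_, ⟨z, hz1⟩, ?_, ?_⟩
  · refine ⟨(AlgSp.yon S).map (pullback.snd a (g (a.left τ))) ≫
      quotMap (s' (a.left τ)) (t' (a.left τ)) ≫ c.inj (a.left τ), ?_⟩
    rw [Category.assoc, Category.assoc, Cofan.IsColimit.fac hc f (a.left τ)]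
    change (AlgSp.yon S).map (pullback.snd a (g (a.left τ))) ≫
      quotMap (s' (a.left τ)) (t' (a.left τ)) ≫ (hr (a.left τ)).desc = _
    rw [(hr (a.left τ)).quotMap_desc, ← Category.assoc, ← Functor.map_comp, ← pullback.condition,
      Functor.map_comp, Category.assoc, hx, Functor.map_comp, Category.assoc]
  · exact MorphismProperty.of_isPullback (P := @Flat) sq.flip (hfl _)
  · exact MorphismProperty.of_isPullback (P := @LocallyOfFinitePresentation) sq.flip (hlfp _)

/-- the quotient of a flat, lfp, locally quasi-finite equivalence relation is an algebraic space. -/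
theorem isAlgSpace_quot_of_lqf {R U : Over S} (s t : R ⟶ U) (hR : AlgSp.IsEqvRel s t)
    [Flat s.left] [LocallyOfFinitePresentation s.left] [LocallyQuasiFinite s.left]
    [Flat t.left] [LocallyOfFinitePresentation t.left] :
    AlgSp.IsAlgSpace (QuotSh.quot Scheme.fppfPrecoverage s t) := by
  let G : Grpd.GroupoidScheme S := Groth.Agent.Lib.helper5.EqvGrpd.ofEqvRel hR
  haveI : Mono G.j := Groth.Agent.Lib.helper5.EqvGrpd.mono_j hR
  haveI : Flat G.s := inferInstanceAs (Flat s.left)
  haveI : Flat G.t := inferInstanceAs (Flat t.left)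
  haveI : LocallyOfFinitePresentation G.s := inferInstanceAs (LocallyOfFinitePresentation s.left)
  haveI : LocallyOfFinitePresentation G.t := inferInstanceAs (LocallyOfFinitePresentation t.left)
  haveI : LocallyQuasiFinite G.s := inferInstanceAs (LocallyQuasiFinite s.left)
  apply isAlgSpace_quot_of_charts s t hR
  intro u
  obtain ⟨R', U', s', t', g, hr, hE, hu, hA⟩ := exists_chart G u
  haveI := hE
  have hgf : Flat g.left := inferInstance
  have hgl : LocallyOfFinitePresentation g.left := inferInstance
  exact ⟨R', U', s', t', g, hr, hgf, hgl, hu, hA⟩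

end Groth.Agent.Lib.helper5.EqvRestr
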