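import Mathlib
import Groth.Prelude.Def_CAlg
import Groth.Agent.Lib.Helper26.Depth8
import Groth.Agent.Lib.Helper17.CIField4

/-!
# Slicing Cohen–Macaulay fibres, ring level, part 1 (helper5)

* `exists_regular_sop` : a Cohen–Macaulay local ring has a weakly regular sequence in its maximal
  ideal whose quotient has dimension `≤ 0` (a regular system of parameters).
* `eq_of_le_of_krullDimLE_zero` : two comparable primes containing an ideal `J` of `B` with
  `L/JL` of dimension `≤ 0` (`L` the localization at the bigger one) coincide.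
-/

set_option autoImplicit false
universe u

open IsLocalRing RingTheory.Sequence LocCoh

namespace Groth.Agent.Lib.helper5.CMSlice

/-- A Cohen–Macaulay local ring has a (weakly) regular sequence in the maximal ideal with
zero-dimensional quotient. -/
theorem exists_regular_sop (F : Type u) [CommRing F] [IsCohenMacaulayLocalRing F] :
    ∃ rs : List F, (∀ r ∈ rs, r ∈ maximalIdeal F) ∧ IsWeaklyRegular F rs ∧
      Ring.KrullDimLE 0 (F ⧸ Ideal.ofList rs) := by
  have hIM : maximalIdeal F • (⊤ : Submodule F F) ≠ ⊤ := by
    rw [smul_eq_mul, Ideal.mul_top]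
    exact (maximalIdeal.isMaximal F).ne_top
  obtain ⟨rs, -, hreg, hmem, hmax⟩ :=
    Groth.Agent.Lib.helper26.Depth.exists_maximal_extension (maximalIdeal F) F hIM []
      (IsWeaklyRegular.nil F F) (by simp)
  have hlen := Groth.Agent.Lib.helper26.Depth.length_eq_idealDepth_of_maximal
    (maximalIdeal F) F hIM rs hreg hmem hmax
  have hcm : Module.supportDim F F = ((LocCoh.depth F F : ℕ∞) : WithBot ℕ∞) :=
    IsCohenMacaulayLocalRing.supportDim_eq_depth
  rw [Module.supportDim_self_eq_ringKrullDim] at hcm
  have hdim : ringKrullDim F = ((rs.length : ℕ) : WithBot ℕ∞) := by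
    rw [hcm]
    change ((idealDepth (maximalIdeal F) F : ℕ∞) : WithBot ℕ∞) = _
    rw [← hlen]
    rfl
  have hle := Groth.Agent.Lib.helper17.CIField.dim_quot_add_length_le rs.length F rs rfl hreg
  rw [hdim] at hle
  refine ⟨rs, hmem, hreg, ?_⟩
  rw [Ring.krullDimLE_iff]
  -- cancel the natural number
  generalize ringKrullDim (F ⧸ Ideal.ofList rs) = a at hle
  induction a with
  | bot => exact bot_le
  | coe a =>
    have h1 : ((a + (rs.length : ℕ∞) : ℕ∞) : WithBot ℕ∞) ≤ ((rs.length : ℕ∞) : WithBot ℕ∞) := by
      exact_mod_cast hle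
    have h2 : a + (rs.length : ℕ∞) ≤ (rs.length : ℕ∞) := by exact_mod_cast h1
    have h3 : a ≤ 0 := by
      induction a with
      | top => simp at h2
      | coe a =>
        have : a + rs.length ≤ rs.length := by exact_mod_cast h2
        have : a = 0 := by omega
        simp [this]
    exact_mod_cast h3

end Groth.Agent.Lib.helper5.CMSlice

namespace Groth.Agent.Lib.helper5.CMSlice

/-- Two comparable primes `q' ≤ q` of `B` containing an ideal `J` such that `B_q / J B_q` has
dimension `≤ 0` coincide. -/
theorem eq_of_le_of_krullDimLE_zero {B : Type*} [CommRing B] (q : Ideal B) [q.IsPrime]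
    (L : Type*) [CommRing L] [Algebra B L] [IsLocalization.AtPrime L q] (J : Ideal B)
    (h0 : Ring.KrullDimLE 0 (L ⧸ J.map (algebraMap B L)))
    (q' : Ideal B) [hq' : q'.IsPrime] (hle : q' ≤ q) (hJ : J ≤ q') : q' = q := by
  have hd' : Disjoint (q.primeCompl : Set B) (q' : Set B) := by
    rw [Set.disjoint_left]
    intro b hb hb'
    exact hb (hle hb')
  have hd : Disjoint (q.primeCompl : Set B) (q : Set B) := by
    rw [Set.disjoint_left]
    intro b hb hb'
    exact hb hb'
  have hQ' : (q'.map (algebraMap B L)).IsPrime :=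
    IsLocalization.isPrime_of_isPrime_disjoint q.primeCompl L q' hq' hd'
  have hQ : (q.map (algebraMap B L)).IsPrime :=
    IsLocalization.isPrime_of_isPrime_disjoint q.primeCompl L q inferInstance hd
  have hJQ' : J.map (algebraMap B L) ≤ q'.map (algebraMap B L) := Ideal.map_mono hJ
  obtain ⟨P, hP, hPle⟩ := Ideal.exists_minimalPrimes_le hJQ'
  have hPmax : P.IsMaximal :=
    Ideal.krullDimLE_zero_quotient_iff_forall_minimalPrimes_isMaximal.mp h0 P hP
  have h1 : P = q'.map (algebraMap B L) := hPmax.eq_of_le hQ'.ne_top hPle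
  have h2 : P = q.map (algebraMap B L) :=
    hPmax.eq_of_le hQ.ne_top (hPle.trans (Ideal.map_mono hle))
  have h3 : q'.map (algebraMap B L) = q.map (algebraMap B L) := h1.symm.trans h2
  have e1 := IsLocalization.under_map_of_isPrime_disjoint q.primeCompl L hq' hd'
  have e2 := IsLocalization.under_map_of_isPrime_disjoint q.primeCompl L
    (inferInstance : q.IsPrime) hd
  rw [← e1, ← e2, h3]

end Groth.Agent.Lib.helper5.CMSlice
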