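import Mathlib
import Groth.Prelude.Def_CAlg
import Groth.Agent.Lib.Helper5.CMSlice1
import Groth.Agent.Lib.Helper3.FibreChev
import Groth.Agent.Lib.Helper2.SpreadOut
import Groth.Agent.LibFibReg6_29

/-!
# Slicing Cohen–Macaulay fibres, ring level, part 2 (helper5)

* `quasiFinite_of_forall_quasiFiniteAt` : a finite type algebra quasi-finite at all primes is
  quasi-finite.
* `fibIdeal p L` : the ideal `pL` of a localization `L` of an `A`-algebra `B`.
* `exists_lift_forall₂` : lift a list of elements of `L/pL` to `B`, up to units.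
-/

set_option autoImplicit false
universe u

open IsLocalRing RingTheory.Sequence LocCoh AlgebraicGeometry CategoryTheory

namespace Groth.Agent.Lib.helper5.CMSlice

section QF

variable {R S : Type u} [CommRing R] [CommRing S] [Algebra R S]

theorem quasiFiniteAt_Spec_iff (x : PrimeSpectrum S) :
    (Spec.map (CommRingCat.ofHom (algebraMap R S))).QuasiFiniteAt x ↔
      Algebra.QuasiFiniteAt R x.asIdeal := by
  let := Localization.AtPrime.algebraOfLiesOver (x.asIdeal.under R) x.asIdeal
  trans Algebra.QuasiFinite (Localization.AtPrime (x.asIdeal.under R))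
    (Localization.AtPrime x.asIdeal)
  · rw [← RingHom.quasiFinite_algebraMap]
    exact RingHom.QuasiFinite.respectsIso.arrow_mk_iso_iff (Scheme.arrowStalkMapSpecIso ..)
  exact ⟨fun _ ↦ .trans _ (Localization.AtPrime (x.asIdeal.under R)) _,
    fun _ ↦ .of_restrictScalars R _ _⟩

theorem quasiFinite_of_forall_quasiFiniteAt [Algebra.FiniteType R S]
    (h : ∀ (Q : Ideal S) [Q.IsPrime], Algebra.QuasiFiniteAt R Q) : Algebra.QuasiFinite R S := by
  set f := Spec.map (CommRingCat.ofHom (algebraMap R S)) with hf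
  haveI : LocallyOfFiniteType f := by
    rw [hf, HasRingHomProperty.Spec_iff (P := @LocallyOfFiniteType)]
    exact RingHom.finiteType_algebraMap.mpr inferInstance
  have h1 : f.quasiFiniteLocus = ⊤ := by
    rw [eq_top_iff]
    intro x _
    rw [Scheme.Hom.mem_quasiFiniteLocus]
    exact (quasiFiniteAt_Spec_iff x).mpr (h x.asIdeal)
  have h2 : LocallyQuasiFinite f := (Scheme.Hom.quasiFiniteLocus_eq_top_iff f).mp h1
  rw [hf, HasRingHomProperty.Spec_iff (P := @LocallyQuasiFinite)] at h2
  exact RingHom.quasiFinite_algebraMap.mp h2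

end QF

section Lift

theorem ofList_eq_of_forall₂_unit {R : Type*} [CommRing R] {rs rs' : List R}
    (h : List.Forall₂ (fun r r' : R => ∃ u : Rˣ, r' = u * r) rs rs') :
    Ideal.ofList rs = Ideal.ofList rs' := by
  induction h with
  | nil => rfl
  | @cons r r' rs rs' hr _ ih =>
    obtain ⟨u, rfl⟩ := hr
    rw [Ideal.ofList_cons, Ideal.ofList_cons, ih, Ideal.span_singleton_mul_left_unit u.isUnit]

variable {A B : Type u} [CommRing A] [CommRing B] [Algebra A B]
  (p : Ideal A) (q : Ideal B) [q.IsPrime]
  (L : Type u) [CommRing L] [Algebra B L] [IsLocalization.AtPrime L q]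

/-- the ideal `pL` of the localization `L` of the `A`-algebra `B`. -/
def fibIdeal : Ideal L := (p.map (algebraMap A B)).map (algebraMap B L)

/-- the canonical map `B → L/pL`. -/
def toFib : B →+* L ⧸ fibIdeal (B := B) p L :=
  (Ideal.Quotient.mk _).comp (algebraMap B L)

theorem isUnit_toFib {b : B} (hb : b ∉ q) : IsUnit (toFib p L b) :=
  ((IsLocalization.AtPrime.isUnit_to_map_iff L q b).mpr hb).map (Ideal.Quotient.mk _)

include q in
theorem exists_lift_forall₂ (ts : List (L ⧸ fibIdeal (B := B) p L)) :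
    ∃ ys : List B, List.Forall₂
      (fun t t' : L ⧸ fibIdeal (B := B) p L => ∃ u : (L ⧸ fibIdeal (B := B) p L)ˣ, t' = u * t) ts
      (ys.map (toFib p L)) := by
  induction ts with
  | nil => exact ⟨[], by simp⟩
  | cons t ts ih =>
    obtain ⟨ys, hys⟩ := ih
    obtain ⟨l, rfl⟩ := Ideal.Quotient.mk_surjective t
    obtain ⟨b, s, rfl⟩ := IsLocalization.exists_mk'_eq q.primeCompl l
    refine ⟨b :: ys, ?_⟩
    rw [List.map_cons]
    refine List.Forall₂.cons ⟨(isUnit_toFib p q L s.2).unit, ?_⟩ hys
    change Ideal.Quotient.mk _ (algebraMap B L b) =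
      Ideal.Quotient.mk _ (algebraMap B L s) * Ideal.Quotient.mk _ (IsLocalization.mk' L b s)
    rw [← map_mul, mul_comm, IsLocalization.mk'_spec]

end Lift

end Groth.Agent.Lib.helper5.CMSlice
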