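import Mathlib
import Groth.Prelude.Def_CAlg
import Groth.Agent.Lib.Helper5.CMSlice2
import Groth.Agent.LibFibReg8_29

/-!
# Slicing Cohen–Macaulay fibres, ring level, part 3 (helper5)

`exists_slice` : `A → B` flat of finite presentation, `q` a prime of `B` over `p`, closed in its
fibre, with Cohen–Macaulay fibre local ring `B_q / p B_q`.  Then there are `ys ⊆ q` and `g ∉ q`
such that on `B_g` the sequence `ys` is weakly regular with all successive quotients flat over `A`,
`B_g/(ys)` is quasi-finite over `A` and `q` is its only prime over `p`.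
-/

set_option autoImplicit false
universe u

open IsLocalRing RingTheory.Sequence LocCoh Groth.Agent.LibFibReg29

namespace Groth.Agent.Lib.helper5.CMSlice

section

variable {A B : Type u} [CommRing A] [CommRing B] [Algebra A B]
  (p : Ideal A) [p.IsPrime] (q : Ideal B) [q.IsPrime] [q.LiesOver p]
  (L : Type u) [CommRing L] [Algebra B L] [IsLocalization.AtPrime L q]

/-- `(L/pL)/(ys) ≃ L/(pL + (ys)L)` has dimension `≤ 0` as soon as the left side has. -/
theorem krullDimLE_zero_of_fib (ys : List B)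
    (h : Ring.KrullDimLE 0 ((L ⧸ fibIdeal (B := B) p L) ⧸ Ideal.ofList (ys.map (toFib p L)))) :
    Ring.KrullDimLE 0 (L ⧸ (p.map (algebraMap A B) ⊔ Ideal.ofList ys).map (algebraMap B L)) := by
  have h1 : Ideal.ofList (ys.map (toFib p L)) =
      ((Ideal.ofList ys).map (algebraMap B L)).map (Ideal.Quotient.mk (fibIdeal (B := B) p L)) := by
    rw [Ideal.map_map, Ideal.map_ofList]
    rfl
  have h2 : (p.map (algebraMap A B) ⊔ Ideal.ofList ys).map (algebraMap B L) =
      fibIdeal (B := B) p L ⊔ (Ideal.ofList ys).map (algebraMap B L) := by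
    rw [Ideal.map_sup]
    rfl
  let e : ((L ⧸ fibIdeal (B := B) p L) ⧸ Ideal.ofList (ys.map (toFib p L))) ≃+*
      (L ⧸ (p.map (algebraMap A B) ⊔ Ideal.ofList ys).map (algebraMap B L)) :=
    (Ideal.quotEquivOfEq h1).trans
      ((DoubleQuot.quotQuotEquivQuotSup _ _).trans (Ideal.quotEquivOfEq h2.symm))
  rw [Ring.krullDimLE_iff] at h ⊢
  rwa [← ringKrullDim_eq_of_ringEquiv e]

/-- the image of `q` in `B/I` is a quasi-finite point as soon as `B_q/(pB_q + IB_q)` has dimension
`≤ 0` and `q` is closed in its fibre. -/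
theorem quasiFiniteAt_quotient [Algebra.FiniteType A B] (I : Ideal B)
    (h0 : Ring.KrullDimLE 0 (L ⧸ (p.map (algebraMap A B) ⊔ I).map (algebraMap B L)))
    (hspec : ∀ q' : Ideal B, q'.IsPrime → q ≤ q' → q'.comap (algebraMap A B) = p → q' = q)
    (Q : Ideal (B ⧸ I)) [Q.IsPrime] (hQ : Q.comap (Ideal.Quotient.mk I) = q) :
    Algebra.QuasiFiniteAt A Q := by
  have hp : q.comap (algebraMap A B) = p := (q.over_def p).symm
  have hcomap : ∀ Q' : Ideal (B ⧸ I), Q'.comap (algebraMap A (B ⧸ I)) =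
      (Q'.comap (Ideal.Quotient.mk I)).comap (algebraMap A B) := by
    intro Q'
    rw [Ideal.comap_comap]
    rfl
  have hmap : ∀ Q' : Ideal (B ⧸ I), (Q'.comap (Ideal.Quotient.mk I)).map (Ideal.Quotient.mk I) = Q' :=
    fun Q' => Ideal.map_comap_of_surjective _ Ideal.Quotient.mk_surjective Q'
  have hI : ∀ Q' : Ideal (B ⧸ I), I ≤ Q'.comap (Ideal.Quotient.mk I) := by
    intro Q' x hx
    rw [Ideal.mem_comap, Ideal.Quotient.eq_zero_iff_mem.mpr hx]
    exact Q'.zero_mem
  have key : ∀ Q' : Ideal (B ⧸ I), Q'.IsPrime → Q'.comap (Ideal.Quotient.mk I) = q → Q' = Q := by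
    intro Q' _ h
    rw [← hmap Q', h, ← hQ, hmap Q]
  refine Groth.Agent.Lib.helper3.FibreParam.quasiFiniteAt_of_isolated Q ?_ ?_
  · intro Q' hQ' hle hfib
    haveI := hQ'
    refine key Q' hQ' ?_
    have h1 : Q'.comap (Ideal.Quotient.mk I) ≤ q := hQ ▸ Ideal.comap_mono hle
    have h2 : (Q'.comap (Ideal.Quotient.mk I)).comap (algebraMap A B) = p := by
      rw [← hcomap, hfib, hcomap, hQ, hp]
    haveI : (Q'.comap (Ideal.Quotient.mk I)).IsPrime := Ideal.comap_isPrime _ _
    refine eq_of_le_of_krullDimLE_zero q L _ h0 _ h1 (sup_le ?_ (hI Q'))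
    rw [Ideal.map_le_iff_le_comap, h2]
  · intro Q' hQ' hle hfib
    haveI := hQ'
    refine key Q' hQ' ?_
    have h1 : q ≤ Q'.comap (Ideal.Quotient.mk I) := hQ ▸ Ideal.comap_mono hle
    have h2 : (Q'.comap (Ideal.Quotient.mk I)).comap (algebraMap A B) = p := by
      rw [← hcomap, hfib, hcomap, hQ, hp]
    exact hspec _ (Ideal.comap_isPrime _ _) h1 h2

/-- quasi-finiteness of `C/(ys)` for `C = B_g`, `g` a multiple of `g₂`, if all primes of
`B/(ys)` not containing `g₂` are quasi-finite points. -/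
theorem quasiFinite_away_quotient [Algebra.FiniteType A B] (I : Ideal B) (g₂ g : B)
    (hdvd : g₂ ∣ g)
    (H₂ : ∀ (Q' : Ideal (B ⧸ I)) [Q'.IsPrime], Ideal.Quotient.mk I g₂ ∉ Q' →
      Algebra.QuasiFiniteAt A Q')
    (C : Type u) [CommRing C] [Algebra B C] [Algebra A C] [IsScalarTower A B C]
    [IsLocalization.Away g C] :
    Algebra.QuasiFinite A (C ⧸ I.map (algebraMap B C)) := by
  haveI : Algebra.FiniteType B C := IsLocalization.finiteType_of_monoid_fg (Submonoid.powers g) C
  haveI : Algebra.FiniteType A C := Algebra.FiniteType.trans (S := B) inferInstance inferInstance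
  refine quasiFinite_of_forall_quasiFiniteAt fun Q _ => ?_
  let θ : B ⧸ I →ₐ[A] C ⧸ I.map (algebraMap B C) :=
    Ideal.quotientMapₐ (I.map (algebraMap B C)) (IsScalarTower.toAlgHom A B C) Ideal.le_comap_map
  have hθ : θ.toRingHom.comp (Ideal.Quotient.mk I) =
      (Ideal.Quotient.mk (I.map (algebraMap B C))).comp (algebraMap B C) := by
    ext b
    rfl
  have hsurj : θ.toRingHom.SurjectiveOnStalks := by
    refine RingHom.SurjectiveOnStalks.of_comp (f := Ideal.Quotient.mk I) ?_
    rw [hθ]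
    exact (RingHom.surjectiveOnStalks_of_surjective Ideal.Quotient.mk_surjective).comp
      (RingHom.surjectiveOnStalks_of_isLocalization (Submonoid.powers g) C)
  haveI : (Q.comap θ.toRingHom).IsPrime := Ideal.comap_isPrime _ _
  have hunit : IsUnit (algebraMap B C g₂) := by
    obtain ⟨c, rfl⟩ := hdvd
    have := IsLocalization.Away.algebraMap_isUnit (S := C) (g₂ * c)
    rw [map_mul] at this
    exact isUnit_of_mul_isUnit_left this
  have hnot : Ideal.Quotient.mk I g₂ ∉ Q.comap θ.toRingHom := by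
    intro hmem
    rw [Ideal.mem_comap] at hmem
    have h1 : θ.toRingHom (Ideal.Quotient.mk I g₂) =
        Ideal.Quotient.mk (I.map (algebraMap B C)) (algebraMap B C g₂) := rfl
    rw [h1] at hmem
    exact (Ideal.IsPrime.ne_top inferInstance)
      (Ideal.eq_top_of_isUnit_mem _ hmem (hunit.map _))
  haveI := H₂ (Q.comap θ.toRingHom) hnot
  exact Algebra.QuasiFiniteAt.of_surjectiveOnStalks (Q.comap θ.toRingHom) θ hsurj Q rfl

/-- `RegFlat` on `B_{g₁}` gives `RegFlat` on `B_{g₁ h}`. -/
theorem regFlat_away_mul (g₁ h : B) (ys : List B)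
    (H₁ : ∀ (B₁ : Type u) [CommRing B₁] [Algebra B B₁] [Algebra A B₁] [IsScalarTower A B B₁]
      [IsLocalization.Away g₁ B₁], RegFlat A B₁ (ys.map (algebraMap B B₁)))
    (C : Type u) [CommRing C] [Algebra B C] [Algebra A C] [IsScalarTower A B C]
    [IsLocalization.Away (g₁ * h) C] :
    RegFlat A C (ys.map (algebraMap B C)) := by
  let B₁ := Localization.Away g₁
  let C₀ := Localization.Away (algebraMap B B₁ h)
  have h1 : RegFlat A B₁ (ys.map (algebraMap B B₁)) := H₁ B₁
  haveI : IsScalarTower A B C₀ := IsScalarTower.of_algebraMap_eq fun a => by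
    calc algebraMap A C₀ a = algebraMap B₁ C₀ (algebraMap A B₁ a) :=
          IsScalarTower.algebraMap_apply A B₁ C₀ a
      _ = algebraMap B₁ C₀ (algebraMap B B₁ (algebraMap A B a)) := by
          rw [IsScalarTower.algebraMap_apply A B B₁]
      _ = algebraMap B C₀ (algebraMap A B a) :=
          (IsScalarTower.algebraMap_apply B B₁ C₀ _).symm
  have h2 : RegFlat A C₀ ((ys.map (algebraMap B B₁)).map (algebraMap B₁ C₀)) :=
    RegFlat.of_isLocalization (Submonoid.powers (algebraMap B B₁ h)) C₀ h1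
  have h3 : (ys.map (algebraMap B B₁)).map (algebraMap B₁ C₀) = ys.map (algebraMap B C₀) := by
    rw [List.map_map]
    refine List.map_congr_left fun b _ => ?_
    exact (IsScalarTower.algebraMap_apply B B₁ C₀ b).symm
  rw [h3] at h2
  haveI : IsLocalization.Away (g₁ * h) C₀ := inferInstance
  let e : C₀ ≃ₐ[B] C := IsLocalization.algEquiv (Submonoid.powers (g₁ * h)) C₀ C
  exact RegFlat.of_algEquiv e ys h2

/-- **Slicing a Cohen–Macaulay fibre to a quasi-finite flat algebra** (ring level). -/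
theorem exists_slice [Module.Flat A B] [Algebra.FinitePresentation A B]
    [IsCohenMacaulayLocalRing (L ⧸ fibIdeal (B := B) p L)]
    (hspec : ∀ q' : Ideal B, q'.IsPrime → q ≤ q' → q'.comap (algebraMap A B) = p → q' = q) :
    ∃ (ys : List B) (g : B), (∀ y ∈ ys, y ∈ q) ∧ g ∉ q ∧
      (∀ (C : Type u) [CommRing C] [Algebra B C] [Algebra A C] [IsScalarTower A B C]
        [IsLocalization.Away g C], RegFlat A C (ys.map (algebraMap B C)) ∧
          Algebra.QuasiFinite A (C ⧸ (Ideal.ofList ys).map (algebraMap B C))) ∧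
      ∀ q' : Ideal B, q'.IsPrime → g ∉ q' → Ideal.ofList ys ≤ q' →
        q'.comap (algebraMap A B) = p → q' = q := by
  classical
  obtain ⟨ts, hts_mem, hts_reg, hts_dim⟩ := exists_regular_sop (L ⧸ fibIdeal (B := B) p L)
  obtain ⟨ys, hys⟩ := exists_lift_forall₂ p q L ts
  have hreg : IsWeaklyRegular (L ⧸ fibIdeal (B := B) p L) (ys.map (toFib p L)) :=
    Groth.Agent.Lib.helper2.SpreadOut.isWeaklyRegular_of_forall₂_unit hys _ hts_reg
  have hideal : Ideal.ofList ts = Ideal.ofList (ys.map (toFib p L)) :=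
    ofList_eq_of_forall₂_unit hys
  have hle_max : Ideal.ofList ts ≤ maximalIdeal (L ⧸ fibIdeal (B := B) p L) :=
    Ideal.span_le.mpr fun t ht => hts_mem t ht
  have hyq : ∀ y ∈ ys, y ∈ q := by
    intro y hy
    by_contra hyq
    have h1 : toFib p L y ∈ maximalIdeal (L ⧸ fibIdeal (B := B) p L) := by
      apply hle_max
      rw [hideal]
      exact Ideal.subset_span (List.mem_map_of_mem hy)
    exact (mem_maximalIdeal _).mp h1 (isUnit_toFib p q L hyq)
  have hIq : Ideal.ofList ys ≤ q := Ideal.span_le.mpr fun y hy => hyq y hy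
  -- dimension zero of the sliced fibre ring
  have hdim : Ring.KrullDimLE 0
      (L ⧸ (p.map (algebraMap A B) ⊔ Ideal.ofList ys).map (algebraMap B L)) := by
    apply krullDimLE_zero_of_fib
    rw [← hideal]
    exact hts_dim
  -- flatness and regularity near `q`
  obtain ⟨g₁, hg₁, H₁⟩ := exists_away_regFlat_of_surjective p q L
    (L ⧸ fibIdeal (B := B) p L) (Ideal.Quotient.mk _) Ideal.Quotient.mk_surjective
    (Ideal.mk_ker) ys hreg
  -- quasi-finiteness
  set I : Ideal B := Ideal.ofList ys with hI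
  set Q : Ideal (B ⧸ I) := q.map (Ideal.Quotient.mk I) with hQdef
  have hQcomap : Q.comap (Ideal.Quotient.mk I) = q := by
    rw [hQdef, Ideal.comap_map_of_surjective _ Ideal.Quotient.mk_surjective,
      ← RingHom.ker_eq_comap_bot, Ideal.mk_ker, sup_eq_left]
    exact hIq
  haveI hQprime : Q.IsPrime := by
    refine Ideal.map_isPrime_of_surjective Ideal.Quotient.mk_surjective ?_
    rw [Ideal.mk_ker]
    exact hIq
  haveI : Algebra.FiniteType A B := inferInstance
  haveI hQqf : Algebra.QuasiFiniteAt A Q := quasiFiniteAt_quotient p q L I hdim hspec Q hQcomap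
  haveI : Algebra.FiniteType A (B ⧸ I) := inferInstance
  obtain ⟨g₂', hg₂', H₂⟩ :=
    Groth.Agent.Lib.helper3.FibreParam.exists_notMem_forall_quasiFiniteAt (A := A) Q
  haveI : Q.LiesOver p := ⟨by
    rw [Ideal.under_def, show algebraMap A (B ⧸ I) =
      (Ideal.Quotient.mk I).comp (algebraMap A B) from rfl, ← Ideal.comap_comap, hQcomap]
    exact q.over_def p⟩
  obtain ⟨g₃', hg₃', H₃⟩ := Ideal.exists_not_mem_forall_mem_of_ne_of_liesOver p Q
  obtain ⟨g₂, rfl⟩ := Ideal.Quotient.mk_surjective g₂'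
  obtain ⟨g₃, rfl⟩ := Ideal.Quotient.mk_surjective g₃'
  have hg₂ : g₂ ∉ q := fun h => hg₂' (Ideal.mem_map_of_mem _ h)
  have hg₃ : g₃ ∉ q := fun h => hg₃' (Ideal.mem_map_of_mem _ h)
  refine ⟨ys, g₁ * (g₂ * g₃), hyq, ?_, ?_, ?_⟩
  · intro h
    rcases (inferInstance : q.IsPrime).mem_or_mem h with h | h
    · exact hg₁ h
    · rcases (inferInstance : q.IsPrime).mem_or_mem h with h | h
      · exact hg₂ h
      · exact hg₃ h
  · intro C _ _ _ _ _
    refine ⟨regFlat_away_mul g₁ (g₂ * g₃) ys H₁ C, ?_⟩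
    exact quasiFinite_away_quotient I g₂ (g₁ * (g₂ * g₃)) ⟨g₁ * g₃, by ring⟩
      (fun Q' _ h => H₂ Q' h) C
  · intro q' hq' hg hIq' hfib
    haveI := hq'
    set Q' : Ideal (B ⧸ I) := q'.map (Ideal.Quotient.mk I) with hQ'def
    have hQ'comap : Q'.comap (Ideal.Quotient.mk I) = q' := by
      rw [hQ'def, Ideal.comap_map_of_surjective _ Ideal.Quotient.mk_surjective,
        ← RingHom.ker_eq_comap_bot, Ideal.mk_ker, sup_eq_left]
      exact hIq'
    have hQ'prime : Q'.IsPrime := by
      refine Ideal.map_isPrime_of_surjective Ideal.Quotient.mk_surjective ?_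
      rw [Ideal.mk_ker]
      exact hIq'
    have hQ'over : Q'.LiesOver p := ⟨by
      rw [Ideal.under_def, show algebraMap A (B ⧸ I) =
        (Ideal.Quotient.mk I).comp (algebraMap A B) from rfl, ← Ideal.comap_comap, hQ'comap, hfib]⟩
    by_cases hne : Q' = Q
    · rw [← hQ'comap, hne, hQcomap]
    · exfalso
      have h3 := H₃ Q' hQ'prime hne hQ'over
      have h4 : g₃ ∈ q' := by
        rw [← hQ'comap]
        exact h3
      exact hg (Ideal.mul_mem_left _ _ (Ideal.mul_mem_left _ _ h4))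

end

end Groth.Agent.Lib.helper5.CMSlice
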