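import Mathlib
import Groth.Prelude.Def_Mor2
import Groth.Prelude.Def_MoreMor
import Groth.Agent.S9808
import Groth.Agent.Lib.Helper5.CMSlice3
import Groth.Agent.Lib.Helper3.FlatDescI
import Groth.Agent.Lib.Helper17.FibreStalk
import Groth.Agent.LibFibRegSch29

/-!
# Slicing Cohen–Macaulay fibres, scheme level, part 2 (helper5)

`exists_affine_slice` : `f` locally of finite presentation, Cohen–Macaulay at a point `x` closed in
its fibre.  Then there are affine opens `V ∋ x`, `W ∋ f x`, `V ⊆ f⁻¹ W`, and sections `ys` on `V`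
vanishing at `x` such that `ys` is weakly regular with all successive quotients flat over `Γ(S, W)`,
`Γ(X, V)/(ys)` is quasi-finite over `Γ(S, W)` and `x` is the only common zero of `ys` in `V` over
`f x`.
-/

set_option autoImplicit false
universe u

open AlgebraicGeometry CategoryTheory IsLocalRing RingTheory.Sequence LocCoh
  Groth.Agent.LibFibReg29

namespace Groth.Agent.Lib.helper5.CMSliceSch

open Groth.Agent.Lib.helper5.CMSlice

theorem eq_of_specializes_of_isClosed_asFiber {X S : Scheme.{u}} (f : X ⟶ S) (x x' : X)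
    (hcl : IsClosed ({f.asFiber x} : Set ↑(f.fiber (f x)))) (hsp : x ⤳ x') (hf : f x' = f x) :
    x' = x := by
  have hmem : x' ∈ Set.range (f.fiberι (f x)) := by
    rw [f.range_fiberι]
    exact hf
  obtain ⟨z', rfl⟩ := hmem
  have h1 : f.asFiber x ⤳ z' := by
    rw [← (f.fiberι (f x)).isEmbedding.isInducing.specializes_iff, f.fiberι_asFiber]
    exact hsp
  have h2 : z' ∈ closure ({f.asFiber x} : Set ↑(f.fiber (f x))) :=
    specializes_iff_mem_closure.mp h1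
  rw [hcl.closure_eq, Set.mem_singleton_iff] at h2
  rw [h2, f.fiberι_asFiber]

/-- the ideal `m_{f x} O_{X,x}` in terms of affine charts. -/
theorem map_maximalIdeal_stalkMap_eq {X S : Scheme.{u}} (f : X ⟶ S) {U : X.Opens} {W : S.Opens}
    (hW : IsAffineOpen W) (e : U ≤ f ⁻¹ᵁ W) (x : X) (hx : x ∈ U) :
    (maximalIdeal (S.presheaf.stalk (f x))).map (f.stalkMap x).hom =
      (((hW.primeIdealOf ⟨f x, e hx⟩).asIdeal.map (f.appLE W U e).hom).map
        (X.presheaf.germ U x hx).hom) := by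
  let p : Ideal Γ(S, W) := (hW.primeIdealOf ⟨f x, e hx⟩).asIdeal
  letI a2 : Algebra Γ(S, W) (S.presheaf.stalk (f x)) :=
    S.presheaf.algebra_section_stalk (⟨f x, e hx⟩ : W)
  haveI l2 : IsLocalization.AtPrime (S.presheaf.stalk (f x)) p :=
    hW.isLocalization_stalk ⟨f x, e hx⟩
  rw [← IsLocalization.AtPrime.map_eq_maximalIdeal p (S.presheaf.stalk (f x)),
    Ideal.map_map, Ideal.map_map]
  congr 1
  have := appLE_germ f U W e x hx
  exact (congrArg CommRingCat.Hom.hom this).symm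

/-- flatness of an affine chart contained in the flat locus. -/
theorem flat_of_forall_flat_stalkMap {X S : Scheme.{u}} (f : X ⟶ S) {U : X.Opens}
    (hU : IsAffineOpen U) {W : S.Opens} (hW : IsAffineOpen W) (e : U ≤ f ⁻¹ᵁ W)
    (h : ∀ x' ∈ U, (f.stalkMap x').hom.Flat) :
    letI := (f.appLE W U e).hom.toAlgebra
    Module.Flat Γ(S, W) Γ(X, U) := by
  letI := (f.appLE W U e).hom.toAlgebra
  apply Module.flat_of_isLocalized_maximal Γ(X, U) Γ(X, U) (fun P => Localization.AtPrime P)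
    (fun P => Algebra.linearMap Γ(X, U) _)
  intro P hP
  let Q : PrimeSpectrum Γ(X, U) := ⟨P, hP.isPrime⟩
  have hyU : hU.fromSpec Q ∈ U := by
    rw [← SetLike.mem_coe, ← hU.range_fromSpec]
    exact Set.mem_range_self Q
  have hq' : hU.primeIdealOf ⟨hU.fromSpec Q, hyU⟩ = Q :=
    hU.fromSpec.isOpenEmbedding.injective (hU.fromSpec_primeIdealOf ⟨hU.fromSpec Q, hyU⟩)
  have h1 := (Groth.Agent.Lib.helper3.FlatLocus.flat_stalkMap_iff f W hW U hU e hyU).mp
    (h _ hyU)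
  rw [hq'] at h1
  exact h1

section Dict

variable {X : Scheme.{u}} {U : X.Opens} (hU : IsAffineOpen U)

theorem fromSpec_mem (Q : PrimeSpectrum Γ(X, U)) : hU.fromSpec Q ∈ U := by
  rw [← SetLike.mem_coe, ← hU.range_fromSpec]
  exact Set.mem_range_self Q

theorem primeIdealOf_fromSpec (Q : PrimeSpectrum Γ(X, U)) :
    hU.primeIdealOf ⟨hU.fromSpec Q, fromSpec_mem hU Q⟩ = Q :=
  hU.fromSpec.isOpenEmbedding.injective
    (hU.fromSpec_primeIdealOf ⟨hU.fromSpec Q, fromSpec_mem hU Q⟩)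

theorem mem_basicOpen_iff_notMem_primeIdealOf (x : X) (hx : x ∈ U) (y : Γ(X, U)) :
    x ∈ X.basicOpen y ↔ y ∉ (hU.primeIdealOf ⟨x, hx⟩).asIdeal := by
  have h1 : hU.primeIdealOf ⟨x, hx⟩ ∈ hU.fromSpec ⁻¹ᵁ X.basicOpen y ↔ x ∈ X.basicOpen y := by
    change hU.fromSpec (hU.primeIdealOf ⟨x, hx⟩) ∈ X.basicOpen y ↔ _
    rw [hU.fromSpec_primeIdealOf ⟨x, hx⟩]
  rw [← h1, hU.fromSpec_preimage_basicOpen]
  exact PrimeSpectrum.mem_basicOpen _ _

theorem eq_of_primeIdealOf_asIdeal_eq (x x' : X) (hx : x ∈ U) (hx' : x' ∈ U)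
    (h : (hU.primeIdealOf ⟨x', hx'⟩).asIdeal = (hU.primeIdealOf ⟨x, hx⟩).asIdeal) : x' = x := by
  have h1 : hU.primeIdealOf ⟨x', hx'⟩ = hU.primeIdealOf ⟨x, hx⟩ := PrimeSpectrum.ext h
  have h2 := hU.fromSpec_primeIdealOf ⟨x', hx'⟩
  rw [h1, hU.fromSpec_primeIdealOf ⟨x, hx⟩] at h2
  exact h2.symm

end Dict

/-- **Slicing a Cohen–Macaulay fibre, affine form.** -/
theorem exists_affine_slice {X S : Scheme.{u}} (f : X ⟶ S) [LocallyOfFinitePresentation f] (x : X)
    (hcm : MoreMor.IsCMAt f x) (hcl : IsClosed ({f.asFiber x} : Set ↑(f.fiber (f x)))) :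
    ∃ (V : X.Opens) (_ : IsAffineOpen V) (W : S.Opens) (_ : IsAffineOpen W) (e : V ≤ f ⁻¹ᵁ W)
      (_ : x ∈ V) (ys : List Γ(X, V)),
      (letI := (f.appLE W V e).hom.toAlgebra
       RegFlat Γ(S, W) Γ(X, V) ys ∧ Algebra.QuasiFinite Γ(S, W) (Γ(X, V) ⧸ Ideal.ofList ys)) ∧
      (∀ y ∈ ys, x ∉ X.basicOpen y) ∧
      ∀ x' ∈ V, (∀ y ∈ ys, x' ∉ X.basicOpen y) → f x' = f x → x' = x := by
  obtain ⟨hflat, hCM⟩ := hcm
  -- charts
  obtain ⟨_, ⟨W, hW : IsAffineOpen W, rfl⟩, hfxW, -⟩ :=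
    S.isBasis_affineOpens.exists_subset_of_mem_open (Set.mem_univ (f x)) isOpen_univ
  have hopen := Groth.Agent.Lib.helper3.FlatDesc.isOpen_flatLocus_of_locallyOfFinitePresentation f
  obtain ⟨_, ⟨U, hU : IsAffineOpen U, rfl⟩, hxU, hUsub⟩ :=
    X.isBasis_affineOpens.exists_subset_of_mem_open
      (show x ∈ ((f ⁻¹ᵁ W : Set X) ∩ {x' | (f.stalkMap x').hom.Flat}) from ⟨hfxW, hflat⟩)
      ((f ⁻¹ᵁ W).isOpen.inter hopen)
  have e₀ : U ≤ f ⁻¹ᵁ W := fun x' hx' => (hUsub hx').1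
  have hUflat : ∀ x' ∈ U, (f.stalkMap x').hom.Flat := fun x' hx' => (hUsub hx').2
  letI algAB : Algebra Γ(S, W) Γ(X, U) := (f.appLE W U e₀).hom.toAlgebra
  haveI hflatB : Module.Flat Γ(S, W) Γ(X, U) := flat_of_forall_flat_stalkMap f hU hW e₀ hUflat
  haveI hfp : Algebra.FinitePresentation Γ(S, W) Γ(X, U) :=
    HasRingHomProperty.appLE (P := @LocallyOfFinitePresentation) f inferInstance ⟨W, hW⟩ ⟨U, hU⟩ e₀
  let q : Ideal Γ(X, U) := (hU.primeIdealOf ⟨x, hxU⟩).asIdeal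
  let p : Ideal Γ(S, W) := (hW.primeIdealOf ⟨f x, e₀ hxU⟩).asIdeal
  haveI : q.LiesOver p := ⟨by
    have := IsAffineOpen.comap_primeIdealOf_appLE (f := f) (x := x) W hW U hU e₀ hxU
    exact (congrArg PrimeSpectrum.asIdeal this).symm⟩
  letI a1 : Algebra Γ(X, U) (X.presheaf.stalk x) := X.presheaf.algebra_section_stalk (⟨x, hxU⟩ : U)
  haveI l1 : IsLocalization.AtPrime (X.presheaf.stalk x) q := hU.isLocalization_stalk ⟨x, hxU⟩
  -- the fibre ring
  have hfib : fibIdeal (B := Γ(X, U)) p (X.presheaf.stalk x) =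
      (maximalIdeal (S.presheaf.stalk (f x))).map (f.stalkMap x).hom :=
    (map_maximalIdeal_stalkMap_eq f hW e₀ x hxU).symm
  haveI : IsCohenMacaulayLocalRing
      (X.presheaf.stalk x ⧸ fibIdeal (B := Γ(X, U)) p (X.presheaf.stalk x)) := by
    obtain ⟨e1⟩ := Groth.Agent.Lib.helper17.FibreStalk.nonempty_asFiber_stalk_equiv f x
    haveI := hCM
    exact Groth.Agent.S9808.cm_of_ringEquiv (e1.symm.trans (Ideal.quotEquivOfEq hfib.symm))
  -- dictionary: comap to the base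
  have hbase : ∀ (x' : X) (hx' : x' ∈ U),
      (hU.primeIdealOf ⟨x', hx'⟩).asIdeal.comap (algebraMap Γ(S, W) Γ(X, U)) = p ↔ f x' = f x := by
    intro x' hx'
    have h1 := IsAffineOpen.comap_primeIdealOf_appLE (f := f) (x := x') W hW U hU e₀ hx'
    have h2 : (hU.primeIdealOf ⟨x', hx'⟩).asIdeal.comap (algebraMap Γ(S, W) Γ(X, U)) =
        (hW.primeIdealOf ⟨f x', e₀ hx'⟩).asIdeal := congrArg PrimeSpectrum.asIdeal h1
    rw [h2]
    constructor
    · intro h
      exact eq_of_primeIdealOf_asIdeal_eq hW (f x) (f x') (e₀ hxU) (e₀ hx') h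
    · intro h
      have : (⟨f x', e₀ hx'⟩ : W) = ⟨f x, e₀ hxU⟩ := Subtype.ext h
      rw [this]
  -- closedness in the fibre
  have hspec : ∀ q' : Ideal Γ(X, U), q'.IsPrime → q ≤ q' →
      q'.comap (algebraMap Γ(S, W) Γ(X, U)) = p → q' = q := by
    intro q' hq' hle hcomap
    let Q' : PrimeSpectrum Γ(X, U) := ⟨q', hq'⟩
    have hQ' := primeIdealOf_fromSpec hU Q'
    have hx'U := fromSpec_mem hU Q'
    have hfx' : f (hU.fromSpec Q') = f x := by
      rw [← hbase _ hx'U, hQ']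
      exact hcomap
    have hsp : x ⤳ hU.fromSpec Q' := by
      have h1 : hU.primeIdealOf ⟨x, hxU⟩ ⤳ Q' := (PrimeSpectrum.le_iff_specializes _ _).mp hle
      have h2 := h1.map hU.fromSpec.continuous
      rwa [hU.fromSpec_primeIdealOf ⟨x, hxU⟩] at h2
    have hxx' := eq_of_specializes_of_isClosed_asFiber f x _ hcl hsp hfx'
    have h3 : hU.primeIdealOf ⟨hU.fromSpec Q', hx'U⟩ = hU.primeIdealOf ⟨x, hxU⟩ := by
      congr 1
      exact Subtype.ext hxx'
    rw [hQ'] at h3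
    exact congrArg PrimeSpectrum.asIdeal h3
  obtain ⟨ys, g, hyq, hg, H, Hun⟩ := exists_slice p q (X.presheaf.stalk x) hspec
  -- the smaller chart
  have hxg : x ∈ X.basicOpen g := (mem_basicOpen_iff_notMem_primeIdealOf hU x hxU g).mpr hg
  have hVU : X.basicOpen g ≤ U := X.basicOpen_le g
  have e : X.basicOpen g ≤ f ⁻¹ᵁ W := hVU.trans e₀
  letI algAC : Algebra Γ(S, W) Γ(X, X.basicOpen g) := (f.appLE W (X.basicOpen g) e).hom.toAlgebra
  letI algBC : Algebra Γ(X, U) Γ(X, X.basicOpen g) :=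
    (X.presheaf.map (homOfLE hVU).op).hom.toAlgebra
  haveI : IsScalarTower Γ(S, W) Γ(X, U) Γ(X, X.basicOpen g) := by
    apply IsScalarTower.of_algebraMap_eq'
    have := Scheme.Hom.appLE_map f e₀ (homOfLE hVU).op
    exact (congrArg CommRingCat.Hom.hom this).symm
  haveI : IsLocalization.Away g Γ(X, X.basicOpen g) := hU.isLocalization_basicOpen g
  obtain ⟨H1, H2⟩ := H Γ(X, X.basicOpen g)
  have hbo : ∀ y : Γ(X, U), ∀ x' ∈ X.basicOpen g,
      (x' ∈ X.basicOpen (algebraMap Γ(X, U) Γ(X, X.basicOpen g) y) ↔ x' ∈ X.basicOpen y) := by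
    intro y x' hx'
    change x' ∈ X.basicOpen (X.presheaf.map (homOfLE hVU).op y) ↔ _
    rw [Scheme.basicOpen_res]
    exact ⟨fun h => h.2, fun h => ⟨hx', h⟩⟩
  refine ⟨X.basicOpen g, hU.basicOpen g, W, hW, e, hxg,
    ys.map (algebraMap Γ(X, U) Γ(X, X.basicOpen g)), ⟨H1, ?_⟩, ?_, ?_⟩
  · rw [← Ideal.map_ofList]
    exact H2
  · intro y' hy'
    obtain ⟨y, hy, rfl⟩ := List.mem_map.mp hy'
    rw [hbo y x hxg, mem_basicOpen_iff_notMem_primeIdealOf hU x hxU y, not_not]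
    exact hyq y hy
  · intro x' hx'V hvan hfx'
    have hx'U : x' ∈ U := hVU hx'V
    have hq'eq := Hun (hU.primeIdealOf ⟨x', hx'U⟩).asIdeal inferInstance
      ((mem_basicOpen_iff_notMem_primeIdealOf hU x' hx'U g).mp hx'V) ?_ ((hbase x' hx'U).mpr hfx')
    · exact eq_of_primeIdealOf_asIdeal_eq hU x x' hxU hx'U hq'eq
    · rw [Ideal.span_le]
      intro y hy
      have h1 := hvan _ (List.mem_map_of_mem (f := algebraMap Γ(X, U) Γ(X, X.basicOpen g)) hy)
      rw [hbo y x' hx'V, mem_basicOpen_iff_notMem_primeIdealOf hU x' hx'U y, not_not] at h1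
      exact h1

end Groth.Agent.Lib.helper5.CMSliceSch
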