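import Mathlib
import Groth.Prelude.Def_CAlg
import Groth.Agent.Lib.Helper26.Depth8
import Groth.Agent.Lib.Helper26.DepthLoc2

/-!
# Slicing groupoids, ring level, part 1 (helper5)

* `exists_regular_in_map` : `O` Noetherian, `M` a finite `O`-module, `φ : A →+* O`, `J` an ideal of
  `A` and `I = φ(J) O`.  If `n ≤ depth_I M` (and `IM ≠ M`) there are `f₁, …, fₙ ∈ J` whose images form
  an `M`-regular sequence.  (Prime avoidance in `A`.)
* `exists_regular_in_map_of_cm` : for `O` Cohen–Macaulay local and `dim O/I + n ≤ dim O`.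
-/

set_option autoImplicit false
universe u

open RingTheory.Sequence LocCoh IsLocalRing
open scoped Pointwise

namespace Groth.Agent.Lib.helper5.GSlice

open Groth.Agent.Lib.helper26.Depth

theorem smul_top_quotSMulTop_ne_top {O : Type u} [CommRing O] (I : Ideal O) (M : Type u)
    [AddCommGroup M] [Module O M] (x : O) (hx : x ∈ I)
    (hIM : I • (⊤ : Submodule O M) ≠ ⊤) :
    I • (⊤ : Submodule O (QuotSMulTop x M)) ≠ ⊤ := by
  intro h
  apply hIM
  have h1 : Submodule.map (Submodule.mkQ (x • (⊤ : Submodule O M))) (I • (⊤ : Submodule O M)) =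
      I • (⊤ : Submodule O (QuotSMulTop x M)) := by
    rw [Submodule.map_smul'', Submodule.map_top, Submodule.range_mkQ]
  rw [h] at h1
  rw [Submodule.map_mkQ_eq_top] at h1
  have h2 : x • (⊤ : Submodule O M) ≤ I • (⊤ : Submodule O M) := by
    rw [← Submodule.ideal_span_singleton_smul]
    exact Submodule.smul_mono_left ((Ideal.span_singleton_le_iff_mem I).mpr hx)
  rw [sup_eq_right.mpr h2] at h1
  exact h1

theorem exists_regular_in_map {A O : Type u} [CommRing A] [CommRing O] [IsNoetherianRing O]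
    (φ : A →+* O) (J : Ideal A) (n : ℕ) :
    ∀ (M : Type u) [AddCommGroup M] [Module O M] [Module.Finite O M],
      (J.map φ) • (⊤ : Submodule O M) ≠ ⊤ → (n : ℕ∞) ≤ idealDepth (J.map φ) M →
      ∃ fs : List A, fs.length = n ∧ (∀ f ∈ fs, f ∈ J) ∧ IsWeaklyRegular M (fs.map φ) := by
  classical
  induction n with
  | zero =>
    intro M _ _ _ _ _
    exact ⟨[], rfl, by simp, IsWeaklyRegular.nil O M⟩
  | succ k ih =>
    intro M _ _ _ hIM hn
    set I := J.map φ with hI
    -- a regular element of `I`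
    have h1 : ((1 : ℕ) : ℕ∞) ≤ idealDepth I M := by
      refine le_trans ?_ hn
      exact_mod_cast Nat.succ_le_succ (Nat.zero_le k)
    obtain ⟨rs, hlen, hmem, hreg⟩ := exists_isWeaklyRegular_of_le hIM h1
    obtain ⟨x, rfl⟩ : ∃ x, rs = [x] := List.length_eq_one_iff.mp hlen
    have hxI : x ∈ I := hmem x (by simp)
    have hxreg : IsSMulRegular M x := (isWeaklyRegular_singleton_iff M x).mp hreg
    -- `J` is not contained in the contraction of any associated prime
    have hfin : (associatedPrimes O M).Finite := associatedPrimes.finite O M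
    have hnot : ∀ P ∈ associatedPrimes O M, ¬ J ≤ P.comap φ := by
      intro P hP hJP
      have hIP : I ≤ P := Ideal.map_le_iff_le_comap.mpr hJP
      have hxP : x ∈ P := hIP hxI
      have : x ∈ ⋃ p ∈ associatedPrimes O M, (p : Set O) := Set.mem_biUnion hP hxP
      rw [biUnion_associatedPrimes_eq_compl_regular] at this
      exact this hxreg
    have havoid : ¬ ((J : Set A) ⊆ ⋃ P ∈ (hfin.toFinset : Set (Ideal O)), ((P.comap φ : Ideal A) : Set A)) := by
      intro hsub
      rw [Ideal.subset_union_prime (⊥ : Ideal O) (⊥ : Ideal O)] at hsub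
      · obtain ⟨P, hP, hJP⟩ := hsub
        exact hnot P (hfin.mem_toFinset.mp hP) hJP
      · intro P hP _ _
        haveI : P.IsPrime := (hfin.mem_toFinset.mp hP).isPrime
        exact Ideal.comap_isPrime φ P
    obtain ⟨f, hfJ, hf⟩ := Set.not_subset.mp havoid
    have hfreg : IsSMulRegular M (φ f) := by
      by_contra hcon
      have : φ f ∈ ({r : O | IsSMulRegular M r})ᶜ := hcon
      rw [← biUnion_associatedPrimes_eq_compl_regular] at this
      obtain ⟨P, hP, hfP⟩ := Set.mem_iUnion₂.mp this
      apply hf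
      refine Set.mem_biUnion (hfin.mem_toFinset.mpr hP) ?_
      exact hfP
    have hfI : φ f ∈ I := Ideal.mem_map_of_mem φ hfJ
    -- pass to the quotient
    have hq := idealDepth_quotSMulTop_add_one I M (φ f) hfI hfreg
    have hk : (k : ℕ∞) ≤ idealDepth I (QuotSMulTop (φ f) M) := by
      rw [← hq] at hn
      have : ((k : ℕ∞) + 1) ≤ idealDepth I (QuotSMulTop (φ f) M) + 1 := by
        exact_mod_cast hn
      exact (ENat.add_le_add_iff_right (by simp)).mp this
    obtain ⟨fs, hlen', hmem', hreg'⟩ :=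
      ih (QuotSMulTop (φ f) M) (smul_top_quotSMulTop_ne_top I M (φ f) hfI hIM) hk
    refine ⟨f :: fs, by simp [hlen'], ?_, ?_⟩
    · intro g hg
      rcases List.mem_cons.mp hg with rfl | hg
      · exact hfJ
      · exact hmem' g hg
    · rw [List.map_cons, isWeaklyRegular_cons_iff]
      exact ⟨hfreg, hreg'⟩

/-- Cohen–Macaulay case: `dim O/I + n ≤ dim O` suffices. -/
theorem exists_regular_in_map_of_cm {A O : Type u} [CommRing A] [CommRing O]
    [IsCohenMacaulayLocalRing O]
    (φ : A →+* O) (J : Ideal A) (hJ : J.map φ ≤ maximalIdeal O) (n : ℕ)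
    (hn : ringKrullDim (O ⧸ J.map φ) + (n : WithBot ℕ∞) ≤ ringKrullDim O) :
    ∃ fs : List A, fs.length = n ∧ (∀ f ∈ fs, f ∈ J) ∧ IsWeaklyRegular O (fs.map φ) := by
  set I := J.map φ with hI
  have hItop : I ≠ ⊤ := fun h => (maximalIdeal.isMaximal O).ne_top (top_le_iff.mp (h ▸ hJ))
  have hIM : I • (⊤ : Submodule O O) ≠ ⊤ := by
    rw [smul_eq_mul, Ideal.mul_top]
    exact hItop
  refine exists_regular_in_map φ J n O hIM ?_
  have h1 := depth_le_idealDepth_add_ringKrullDim_quotient I hItop O
  have hcm : Module.supportDim O O = ((LocCoh.depth O O : ℕ∞) : WithBot ℕ∞) :=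
    IsCohenMacaulayLocalRing.supportDim_eq_depth
  rw [Module.supportDim_self_eq_ringKrullDim] at hcm
  rw [← hcm] at h1
  -- arithmetic
  haveI : Nontrivial (O ⧸ I) := Ideal.Quotient.nontrivial_iff.mpr hItop
  have hD : ringKrullDim O ≠ ⊤ := ringKrullDim_ne_top
  have hc0 : (0 : WithBot ℕ∞) ≤ ringKrullDim (O ⧸ I) := ringKrullDim_nonneg_of_nontrivial
  have hcle : ringKrullDim (O ⧸ I) ≤ ringKrullDim O :=
    ringKrullDim_le_of_surjective (Ideal.Quotient.mk I) Ideal.Quotient.mk_surjective
  by_cases ha : idealDepth I O = ⊤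
  · rw [ha]; exact le_top
  obtain ⟨a, ha'⟩ := ENat.ne_top_iff_exists.mp ha
  rw [← ha'] at h1 ⊢
  generalize ringKrullDim (O ⧸ I) = c at *
  generalize ringKrullDim O = D at *
  induction c with
  | bot => simp at hc0
  | coe c =>
    induction D with
    | bot => simp at hcle
    | coe D =>
      have hDtop : D ≠ ⊤ := by
        intro h; apply hD; rw [h]; rfl
      have hctop : c ≠ ⊤ := by
        intro h
        rw [h] at hcle
        have : (⊤ : ℕ∞) ≤ D := by exact_mod_cast hcle
        exact hDtop (top_le_iff.mp this)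
      obtain ⟨c', rfl⟩ := ENat.ne_top_iff_exists.mp hctop
      obtain ⟨D', rfl⟩ := ENat.ne_top_iff_exists.mp hDtop
      have e1 : c' + n ≤ D' := by exact_mod_cast hn
      have e2 : D' ≤ a + c' := by exact_mod_cast h1
      have : n ≤ a := by omega
      exact_mod_cast this

end Groth.Agent.Lib.helper5.GSlice
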