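import Mathlib
import Groth.Agent.Lib.Helper5.CMSliceSch2

/-!
# Fibrewise regular sequences of germs spread out to an affine chart (helper5)

`exists_flat_chart`, `exists_germ_list`, `exists_affine_regFlat`.
-/

set_option autoImplicit false
universe u

open AlgebraicGeometry CategoryTheory IsLocalRing RingTheory.Sequence
  Groth.Agent.LibFibReg29

namespace Groth.Agent.Lib.helper5.CMSliceSch

open Groth.Agent.Lib.helper5.CMSlice

/-- a flat affine chart around a point where `f` is flat, inside a given open. -/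
theorem exists_flat_chart {X S : Scheme.{u}} (f : X ⟶ S) [LocallyOfFinitePresentation f] (x : X)
    (hflat : (f.stalkMap x).hom.Flat) (O : X.Opens) (hxO : x ∈ O) :
    ∃ (U : X.Opens) (_ : IsAffineOpen U) (W : S.Opens) (_ : IsAffineOpen W) (e : U ≤ f ⁻¹ᵁ W)
      (_ : x ∈ U), U ≤ O ∧
      (letI := (f.appLE W U e).hom.toAlgebra
       Module.Flat Γ(S, W) Γ(X, U)) := by
  obtain ⟨_, ⟨W, hW : IsAffineOpen W, rfl⟩, hfxW, -⟩ :=
    S.isBasis_affineOpens.exists_subset_of_mem_open (Set.mem_univ (f x)) isOpen_univ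
  have hopen := Groth.Agent.Lib.helper3.FlatDesc.isOpen_flatLocus_of_locallyOfFinitePresentation f
  obtain ⟨_, ⟨U, hU : IsAffineOpen U, rfl⟩, hxU, hUsub⟩ :=
    X.isBasis_affineOpens.exists_subset_of_mem_open
      (show x ∈ (((f ⁻¹ᵁ W : Set X) ∩ {x' | (f.stalkMap x').hom.Flat}) ∩ (O : Set X)) from
        ⟨⟨hfxW, hflat⟩, hxO⟩)
      (((f ⁻¹ᵁ W).isOpen.inter hopen).inter O.isOpen)
  have e₀ : U ≤ f ⁻¹ᵁ W := fun x' hx' => (hUsub hx').1.1
  have hUflat : ∀ x' ∈ U, (f.stalkMap x').hom.Flat := fun x' hx' => (hUsub hx').1.2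
  exact ⟨U, hU, W, hW, e₀, hxU, fun x' hx' => (hUsub hx').2,
    flat_of_forall_flat_stalkMap f hU hW e₀ hUflat⟩

/-- finitely many germs are defined on a common open neighbourhood. -/
theorem exists_germ_list {X : Scheme.{u}} (x : X) (hs : List ↑(X.presheaf.stalk x)) :
    ∃ (O : X.Opens) (hxO : x ∈ O) (ss : List Γ(X, O)),
      ss.map (X.presheaf.germ O x hxO) = hs := by
  induction hs with
  | nil => exact ⟨⊤, trivial, [], rfl⟩
  | cons h hs ih =>
    obtain ⟨O₂, hxO₂, ss, hss⟩ := ih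
    obtain ⟨O₁, hxO₁, s₁, hs₁⟩ := X.presheaf.exists_germ_eq h
    refine ⟨O₁ ⊓ O₂, ⟨hxO₁, hxO₂⟩,
      (X.presheaf.map (homOfLE inf_le_left).op s₁) ::
        ss.map (X.presheaf.map (homOfLE inf_le_right).op), ?_⟩
    rw [List.map_cons, List.map_map]
    congr 1
    · rw [TopCat.Presheaf.germ_res_apply]
      exact hs₁
    · rw [← hss]
      apply List.map_congr_left
      intro s _
      exact TopCat.Presheaf.germ_res_apply _ _ _ _ _

/-- **Spreading out a fibrewise regular sequence of germs.** -/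
theorem exists_affine_regFlat {X S : Scheme.{u}} (f : X ⟶ S) [LocallyOfFinitePresentation f]
    (x : X) (hflat : (f.stalkMap x).hom.Flat) (hs : List ↑(X.presheaf.stalk x))
    (hreg : IsWeaklyRegular (↑(X.presheaf.stalk x) ⧸
        Ideal.map (f.stalkMap x).hom (maximalIdeal ↑(S.presheaf.stalk (f x))))
      (hs.map (Ideal.Quotient.mk
        (Ideal.map (f.stalkMap x).hom (maximalIdeal ↑(S.presheaf.stalk (f x))))))) :
    ∃ (V : X.Opens) (_ : IsAffineOpen V) (W : S.Opens) (_ : IsAffineOpen W) (e : V ≤ f ⁻¹ᵁ W)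
      (hxV : x ∈ V) (ys : List Γ(X, V)), ys.map (X.presheaf.germ V x hxV) = hs ∧
      (letI := (f.appLE W V e).hom.toAlgebra
       RegFlat Γ(S, W) Γ(X, V) ys) := by
  obtain ⟨O, hxO, ss, hss⟩ := exists_germ_list x hs
  obtain ⟨U, hU, W, hW, e₀, hxU, hUO, hflatB⟩ := exists_flat_chart f x hflat O hxO
  letI algAB : Algebra Γ(S, W) Γ(X, U) := (f.appLE W U e₀).hom.toAlgebra
  haveI := hflatB
  haveI hfp : Algebra.FinitePresentation Γ(S, W) Γ(X, U) :=
    HasRingHomProperty.appLE (P := @LocallyOfFinitePresentation) f inferInstance ⟨W, hW⟩ ⟨U, hU⟩ e₀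
  let q : Ideal Γ(X, U) := (hU.primeIdealOf ⟨x, hxU⟩).asIdeal
  let p : Ideal Γ(S, W) := (hW.primeIdealOf ⟨f x, e₀ hxU⟩).asIdeal
  haveI : q.LiesOver p := ⟨by
    have := IsAffineOpen.comap_primeIdealOf_appLE (f := f) (x := x) W hW U hU e₀ hxU
    exact (congrArg PrimeSpectrum.asIdeal this).symm⟩
  letI a1 : Algebra Γ(X, U) (X.presheaf.stalk x) := X.presheaf.algebra_section_stalk (⟨x, hxU⟩ : U)
  haveI l1 : IsLocalization.AtPrime (X.presheaf.stalk x) q := hU.isLocalization_stalk ⟨x, hxU⟩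
  set I := Ideal.map (f.stalkMap x).hom (maximalIdeal ↑(S.presheaf.stalk (f x))) with hI
  have hker : RingHom.ker (Ideal.Quotient.mk I) =
      (p.map (algebraMap Γ(S, W) Γ(X, U))).map (algebraMap Γ(X, U) (X.presheaf.stalk x)) := by
    rw [Ideal.mk_ker, hI]
    exact map_maximalIdeal_stalkMap_eq f hW e₀ x hxU
  -- the sections on `U`
  obtain ⟨ys₀, hys₀def⟩ : ∃ l : List Γ(X, U), l = ss.map (X.presheaf.map (homOfLE hUO).op) :=
    ⟨_, rfl⟩
  have hys₀ : ys₀.map (X.presheaf.germ U x hxU) = hs := by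
    rw [← hss, hys₀def, List.map_map]
    apply List.map_congr_left
    intro s _
    exact TopCat.Presheaf.germ_res_apply _ _ _ _ _
  have hreg' : IsWeaklyRegular (↑(X.presheaf.stalk x) ⧸ I)
      (ys₀.map ((Ideal.Quotient.mk I).comp (algebraMap Γ(X, U) (X.presheaf.stalk x)))) := by
    have : ys₀.map ((Ideal.Quotient.mk I).comp (algebraMap Γ(X, U) (X.presheaf.stalk x))) =
        hs.map (Ideal.Quotient.mk I) := by
      rw [← hys₀, List.map_map]
      rfl
    rw [this]
    exact hreg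
  obtain ⟨g, hg, H⟩ := exists_away_regFlat_of_surjective p q (X.presheaf.stalk x)
    (↑(X.presheaf.stalk x) ⧸ I) (Ideal.Quotient.mk I) Ideal.Quotient.mk_surjective hker ys₀ hreg'
  have hxg : x ∈ X.basicOpen g := (mem_basicOpen_iff_notMem_primeIdealOf hU x hxU g).mpr hg
  have hVU : X.basicOpen g ≤ U := X.basicOpen_le g
  have e : X.basicOpen g ≤ f ⁻¹ᵁ W := hVU.trans e₀
  letI algAC : Algebra Γ(S, W) Γ(X, X.basicOpen g) := (f.appLE W (X.basicOpen g) e).hom.toAlgebra
  letI algBC : Algebra Γ(X, U) Γ(X, X.basicOpen g) :=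
    (X.presheaf.map (homOfLE hVU).op).hom.toAlgebra
  haveI : IsScalarTower Γ(S, W) Γ(X, U) Γ(X, X.basicOpen g) := by
    apply IsScalarTower.of_algebraMap_eq'
    have := Scheme.Hom.appLE_map f e₀ (homOfLE hVU).op
    exact (congrArg CommRingCat.Hom.hom this).symm
  haveI : IsLocalization.Away g Γ(X, X.basicOpen g) := hU.isLocalization_basicOpen g
  refine ⟨X.basicOpen g, hU.basicOpen g, W, hW, e, hxg,
    ys₀.map (algebraMap Γ(X, U) Γ(X, X.basicOpen g)), ?_, H Γ(X, X.basicOpen g)⟩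
  rw [← hys₀, List.map_map]
  apply List.map_congr_left
  intro s _
  exact TopCat.Presheaf.germ_res_apply _ _ _ _ _

end Groth.Agent.Lib.helper5.CMSliceSch
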