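import Mathlib
import Groth.Prelude.Def_CAlg
import Groth.Agent.Lib.Helper5.CMSlice3

/-!
# Slicing groupoids, ring level, part 2 (helper5)

`exists_slice_of_regular` : the conclusion of `CMSlice.exists_slice` for a *prescribed* sequence
`ys ⊆ q` whose images in the fibre local ring `B_q / p B_q` form a weakly regular sequence with
zero-dimensional quotient.  (No Cohen–Macaulay hypothesis is needed once the sequence is given.)
-/

set_option autoImplicit false
universe u

open IsLocalRing RingTheory.Sequence LocCoh Groth.Agent.LibFibReg29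

namespace Groth.Agent.Lib.helper5.GSlice

open Groth.Agent.Lib.helper5.CMSlice

variable {A B : Type u} [CommRing A] [CommRing B] [Algebra A B]
  (p : Ideal A) [p.IsPrime] (q : Ideal B) [q.IsPrime] [q.LiesOver p]
  (L : Type u) [CommRing L] [Algebra B L] [IsLocalization.AtPrime L q]

theorem exists_slice_of_regular [Module.Flat A B] [Algebra.FinitePresentation A B]
    (hspec : ∀ q' : Ideal B, q'.IsPrime → q ≤ q' → q'.comap (algebraMap A B) = p → q' = q)
    (ys : List B) (hyq : ∀ y ∈ ys, y ∈ q)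
    (hreg : IsWeaklyRegular (L ⧸ fibIdeal (B := B) p L) (ys.map (toFib p L)))
    (hdim : Ring.KrullDimLE 0
      ((L ⧸ fibIdeal (B := B) p L) ⧸ Ideal.ofList (ys.map (toFib p L)))) :
    ∃ g : B, g ∉ q ∧
      (∀ (C : Type u) [CommRing C] [Algebra B C] [Algebra A C] [IsScalarTower A B C]
        [IsLocalization.Away g C], RegFlat A C (ys.map (algebraMap B C)) ∧
          Algebra.QuasiFinite A (C ⧸ (Ideal.ofList ys).map (algebraMap B C))) ∧
      ∀ q' : Ideal B, q'.IsPrime → g ∉ q' → Ideal.ofList ys ≤ q' →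
        q'.comap (algebraMap A B) = p → q' = q := by
  classical
  have hIq : Ideal.ofList ys ≤ q := Ideal.span_le.mpr fun y hy => hyq y hy
  have hdim' : Ring.KrullDimLE 0
      (L ⧸ (p.map (algebraMap A B) ⊔ Ideal.ofList ys).map (algebraMap B L)) :=
    krullDimLE_zero_of_fib p L ys hdim
  obtain ⟨g₁, hg₁, H₁⟩ := exists_away_regFlat_of_surjective p q L
    (L ⧸ fibIdeal (B := B) p L) (Ideal.Quotient.mk _) Ideal.Quotient.mk_surjective
    (Ideal.mk_ker) ys hreg
  set I : Ideal B := Ideal.ofList ys with hI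
  set Q : Ideal (B ⧸ I) := q.map (Ideal.Quotient.mk I) with hQdef
  have hQcomap : Q.comap (Ideal.Quotient.mk I) = q := by
    rw [hQdef, Ideal.comap_map_of_surjective _ Ideal.Quotient.mk_surjective,
      ← RingHom.ker_eq_comap_bot, Ideal.mk_ker, sup_eq_left]
    exact hIq
  haveI hQprime : Q.IsPrime := by
    refine Ideal.map_isPrime_of_surjective Ideal.Quotient.mk_surjective ?_
    rw [Ideal.mk_ker]
    exact hIq
  haveI : Algebra.FiniteType A B := inferInstance
  haveI hQqf : Algebra.QuasiFiniteAt A Q := quasiFiniteAt_quotient p q L I hdim' hspec Q hQcomap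
  haveI : Algebra.FiniteType A (B ⧸ I) := inferInstance
  obtain ⟨g₂', hg₂', H₂⟩ :=
    Groth.Agent.Lib.helper3.FibreParam.exists_notMem_forall_quasiFiniteAt (A := A) Q
  haveI : Q.LiesOver p := ⟨by
    rw [Ideal.under_def, show algebraMap A (B ⧸ I) =
      (Ideal.Quotient.mk I).comp (algebraMap A B) from rfl, ← Ideal.comap_comap, hQcomap]
    exact q.over_def p⟩
  obtain ⟨g₃', hg₃', H₃⟩ := Ideal.exists_not_mem_forall_mem_of_ne_of_liesOver p Q
  obtain ⟨g₂, rfl⟩ := Ideal.Quotient.mk_surjective g₂'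
  obtain ⟨g₃, rfl⟩ := Ideal.Quotient.mk_surjective g₃'
  have hg₂ : g₂ ∉ q := fun h => hg₂' (Ideal.mem_map_of_mem _ h)
  have hg₃ : g₃ ∉ q := fun h => hg₃' (Ideal.mem_map_of_mem _ h)
  refine ⟨g₁ * (g₂ * g₃), ?_, ?_, ?_⟩
  · intro h
    rcases (inferInstance : q.IsPrime).mem_or_mem h with h | h
    · exact hg₁ h
    · rcases (inferInstance : q.IsPrime).mem_or_mem h with h | h
      · exact hg₂ h
      · exact hg₃ h
  · intro C _ _ _ _ _
    refine ⟨regFlat_away_mul g₁ (g₂ * g₃) ys H₁ C, ?_⟩
    exact quasiFinite_away_quotient I g₂ (g₁ * (g₂ * g₃)) ⟨g₁ * g₃, by ring⟩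
      (fun Q' _ h => H₂ Q' h) C
  · intro q' hq' hg hIq' hfib
    haveI := hq'
    set Q' : Ideal (B ⧸ I) := q'.map (Ideal.Quotient.mk I) with hQ'def
    have hQ'comap : Q'.comap (Ideal.Quotient.mk I) = q' := by
      rw [hQ'def, Ideal.comap_map_of_surjective _ Ideal.Quotient.mk_surjective,
        ← RingHom.ker_eq_comap_bot, Ideal.mk_ker, sup_eq_left]
      exact hIq'
    have hQ'prime : Q'.IsPrime := by
      refine Ideal.map_isPrime_of_surjective Ideal.Quotient.mk_surjective ?_
      rw [Ideal.mk_ker]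
      exact hIq'
    have hQ'over : Q'.LiesOver p := ⟨by
      rw [Ideal.under_def, show algebraMap A (B ⧸ I) =
        (Ideal.Quotient.mk I).comp (algebraMap A B) from rfl, ← Ideal.comap_comap, hQ'comap, hfib]⟩
    by_cases hne : Q' = Q
    · rw [← hQ'comap, hne, hQcomap]
    · exfalso
      have h3 := H₃ Q' hQ'prime hne hQ'over
      have h4 : g₃ ∈ q' := by
        rw [← hQ'comap]
        exact h3
      exact hg (Ideal.mul_mem_left _ _ (Ideal.mul_mem_left _ _ h4))

end Groth.Agent.Lib.helper5.GSlice
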