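import Mathlib
import Groth.Agent.Lib.Helper5.GSlice2
import Groth.Agent.Lib.Helper5.CMSliceSch3

/-!
# Slicing by prescribed sections, scheme level (helper5)

`exists_affine_slice_of_sections` : `f : X ⟶ S` locally of finite presentation, flat at a point `x`
closed in its fibre, `ss` sections over an open `O ∋ x` vanishing at `x` whose images in the fibre
local ring `O_{X,x}/m_{f x} O_{X,x}` form a weakly regular sequence with zero-dimensional quotient.
Then there are affine opens `V ∋ x`, `V ⊆ O`, `W ∋ f x`, `V ⊆ f⁻¹ W` such that `ss|_V` is weakly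
regular with all successive quotients flat over `Γ(S, W)`, `Γ(X, V)/(ss)` is quasi-finite over
`Γ(S, W)`, and `x` is the only common zero of `ss` in `V` over `f x`.
-/

set_option autoImplicit false
universe u

open AlgebraicGeometry CategoryTheory IsLocalRing RingTheory.Sequence LocCoh
  Groth.Agent.LibFibReg29

namespace Groth.Agent.Lib.helper5.GSlice

open Groth.Agent.Lib.helper5.CMSlice Groth.Agent.Lib.helper5.CMSliceSch

theorem exists_affine_slice_of_sections {X S : Scheme.{u}} (f : X ⟶ S)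
    [LocallyOfFinitePresentation f] (x : X) (hflat : (f.stalkMap x).hom.Flat)
    (hcl : IsClosed ({f.asFiber x} : Set ↑(f.fiber (f x))))
    (O : X.Opens) (hxO : x ∈ O) (ss : List Γ(X, O)) (hvan : ∀ s ∈ ss, x ∉ X.basicOpen s)
    (hreg : IsWeaklyRegular (↑(X.presheaf.stalk x) ⧸
        Ideal.map (f.stalkMap x).hom (maximalIdeal ↑(S.presheaf.stalk (f x))))
      (ss.map ((Ideal.Quotient.mk
        (Ideal.map (f.stalkMap x).hom (maximalIdeal ↑(S.presheaf.stalk (f x))))).comp
          (X.presheaf.germ O x hxO).hom)))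
    (hdim : Ring.KrullDimLE 0 ((↑(X.presheaf.stalk x) ⧸
        Ideal.map (f.stalkMap x).hom (maximalIdeal ↑(S.presheaf.stalk (f x)))) ⧸
      Ideal.ofList (ss.map ((Ideal.Quotient.mk
        (Ideal.map (f.stalkMap x).hom (maximalIdeal ↑(S.presheaf.stalk (f x))))).comp
          (X.presheaf.germ O x hxO).hom)))) :
    ∃ (V : X.Opens) (_ : IsAffineOpen V) (hVO : V ≤ O) (W : S.Opens) (_ : IsAffineOpen W)
      (e : V ≤ f ⁻¹ᵁ W) (_ : x ∈ V),
      (letI := (f.appLE W V e).hom.toAlgebra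
       RegFlat Γ(S, W) Γ(X, V) (ss.map (X.presheaf.map (homOfLE hVO).op).hom) ∧
        Algebra.QuasiFinite Γ(S, W)
          (Γ(X, V) ⧸ Ideal.ofList (ss.map (X.presheaf.map (homOfLE hVO).op).hom))) ∧
      ∀ x' ∈ V, (∀ s ∈ ss, x' ∉ X.basicOpen s) → f x' = f x → x' = x := by
  classical
  obtain ⟨U, hU, W, hW, e₀, hxU, hUO, hflatB⟩ := exists_flat_chart f x hflat O hxO
  letI algAB : Algebra Γ(S, W) Γ(X, U) := (f.appLE W U e₀).hom.toAlgebra
  haveI := hflatB
  haveI hfp : Algebra.FinitePresentation Γ(S, W) Γ(X, U) :=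
    HasRingHomProperty.appLE (P := @LocallyOfFinitePresentation) f inferInstance ⟨W, hW⟩ ⟨U, hU⟩ e₀
  let q : Ideal Γ(X, U) := (hU.primeIdealOf ⟨x, hxU⟩).asIdeal
  let p : Ideal Γ(S, W) := (hW.primeIdealOf ⟨f x, e₀ hxU⟩).asIdeal
  haveI : q.LiesOver p := ⟨by
    have := IsAffineOpen.comap_primeIdealOf_appLE (f := f) (x := x) W hW U hU e₀ hxU
    exact (congrArg PrimeSpectrum.asIdeal this).symm⟩
  letI a1 : Algebra Γ(X, U) (X.presheaf.stalk x) := X.presheaf.algebra_section_stalk (⟨x, hxU⟩ : U)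
  haveI l1 : IsLocalization.AtPrime (X.presheaf.stalk x) q := hU.isLocalization_stalk ⟨x, hxU⟩
  -- the fibre ideal
  have hfib : fibIdeal (B := Γ(X, U)) p (X.presheaf.stalk x) =
      (maximalIdeal (S.presheaf.stalk (f x))).map (f.stalkMap x).hom :=
    (map_maximalIdeal_stalkMap_eq f hW e₀ x hxU).symm
  -- dictionary: comap to the base
  have hbase : ∀ (x' : X) (hx' : x' ∈ U),
      (hU.primeIdealOf ⟨x', hx'⟩).asIdeal.comap (algebraMap Γ(S, W) Γ(X, U)) = p ↔ f x' = f x := by
    intro x' hx'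
    have h1 := IsAffineOpen.comap_primeIdealOf_appLE (f := f) (x := x') W hW U hU e₀ hx'
    have h2 : (hU.primeIdealOf ⟨x', hx'⟩).asIdeal.comap (algebraMap Γ(S, W) Γ(X, U)) =
        (hW.primeIdealOf ⟨f x', e₀ hx'⟩).asIdeal := congrArg PrimeSpectrum.asIdeal h1
    rw [h2]
    constructor
    · intro h
      exact eq_of_primeIdealOf_asIdeal_eq hW (f x) (f x') (e₀ hxU) (e₀ hx') h
    · intro h
      have : (⟨f x', e₀ hx'⟩ : W) = ⟨f x, e₀ hxU⟩ := Subtype.ext h
      rw [this]
  -- closedness in the fibre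
  have hspec : ∀ q' : Ideal Γ(X, U), q'.IsPrime → q ≤ q' →
      q'.comap (algebraMap Γ(S, W) Γ(X, U)) = p → q' = q := by
    intro q' hq' hle hcomap
    let Q' : PrimeSpectrum Γ(X, U) := ⟨q', hq'⟩
    have hQ' := primeIdealOf_fromSpec hU Q'
    have hx'U := fromSpec_mem hU Q'
    have hfx' : f (hU.fromSpec Q') = f x := by
      rw [← hbase _ hx'U, hQ']
      exact hcomap
    have hsp : x ⤳ hU.fromSpec Q' := by
      have h1 : hU.primeIdealOf ⟨x, hxU⟩ ⤳ Q' := (PrimeSpectrum.le_iff_specializes _ _).mp hle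
      have h2 := h1.map hU.fromSpec.continuous
      rwa [hU.fromSpec_primeIdealOf ⟨x, hxU⟩] at h2
    have hxx' := eq_of_specializes_of_isClosed_asFiber f x _ hcl hsp hfx'
    have h3 : hU.primeIdealOf ⟨hU.fromSpec Q', hx'U⟩ = hU.primeIdealOf ⟨x, hxU⟩ := by
      congr 1
      exact Subtype.ext hxx'
    rw [hQ'] at h3
    exact congrArg PrimeSpectrum.asIdeal h3
  -- the sections on `U`
  set ys₀ : List Γ(X, U) := ss.map (X.presheaf.map (homOfLE hUO).op).hom with hys₀def
  have hbo₀ : ∀ s : Γ(X, O), ∀ x' ∈ U,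
      (x' ∈ X.basicOpen ((X.presheaf.map (homOfLE hUO).op).hom s) ↔ x' ∈ X.basicOpen s) := by
    intro s x' hx'
    change x' ∈ X.basicOpen (X.presheaf.map (homOfLE hUO).op s) ↔ _
    rw [Scheme.basicOpen_res]
    exact ⟨fun h => h.2, fun h => ⟨hx', h⟩⟩
  have hyq : ∀ y ∈ ys₀, y ∈ q := by
    intro y hy
    obtain ⟨s, hs, rfl⟩ := List.mem_map.mp hy
    have h1 := hvan s hs
    rw [← hbo₀ s x hxU, mem_basicOpen_iff_notMem_primeIdealOf hU x hxU, not_not] at h1
    exact h1
  have hmapeq : ys₀.map (toFib p (X.presheaf.stalk x)) =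
      ss.map ((Ideal.Quotient.mk (fibIdeal (B := Γ(X, U)) p (X.presheaf.stalk x))).comp
          (X.presheaf.germ O x hxO).hom) := by
    rw [hys₀def, List.map_map]
    apply List.map_congr_left
    intro s _
    have hg : (X.presheaf.germ U x hxU).hom ((X.presheaf.map (homOfLE hUO).op).hom s) =
        (X.presheaf.germ O x hxO).hom s :=
      TopCat.Presheaf.germ_res_apply X.presheaf (homOfLE hUO) x hxU s
    change Ideal.Quotient.mk _ ((X.presheaf.germ U x hxU).hom
      ((X.presheaf.map (homOfLE hUO).op).hom s)) = _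
    rw [hg]
    rfl
  rw [← hfib] at hreg hdim
  rw [← hmapeq] at hreg hdim
  obtain ⟨g, hg, H, Hun⟩ := exists_slice_of_regular p q (X.presheaf.stalk x) hspec ys₀ hyq hreg hdim
  -- the smaller chart
  have hxg : x ∈ X.basicOpen g := (mem_basicOpen_iff_notMem_primeIdealOf hU x hxU g).mpr hg
  have hVU : X.basicOpen g ≤ U := X.basicOpen_le g
  have e : X.basicOpen g ≤ f ⁻¹ᵁ W := hVU.trans e₀
  letI algAC : Algebra Γ(S, W) Γ(X, X.basicOpen g) := (f.appLE W (X.basicOpen g) e).hom.toAlgebra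
  letI algBC : Algebra Γ(X, U) Γ(X, X.basicOpen g) :=
    (X.presheaf.map (homOfLE hVU).op).hom.toAlgebra
  haveI : IsScalarTower Γ(S, W) Γ(X, U) Γ(X, X.basicOpen g) := by
    apply IsScalarTower.of_algebraMap_eq'
    have := Scheme.Hom.appLE_map f e₀ (homOfLE hVU).op
    exact (congrArg CommRingCat.Hom.hom this).symm
  haveI : IsLocalization.Away g Γ(X, X.basicOpen g) := hU.isLocalization_basicOpen g
  obtain ⟨H1, H2⟩ := H Γ(X, X.basicOpen g)
  have hlist : ys₀.map (algebraMap Γ(X, U) Γ(X, X.basicOpen g)) =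
      ss.map (X.presheaf.map (homOfLE (hVU.trans hUO)).op).hom := by
    rw [hys₀def, List.map_map]
    apply List.map_congr_left
    intro s _
    change (X.presheaf.map (homOfLE hVU).op).hom ((X.presheaf.map (homOfLE hUO).op).hom s) = _
    rw [← CommRingCat.comp_apply, ← Functor.map_comp]
    rfl
  refine ⟨X.basicOpen g, hU.basicOpen g, hVU.trans hUO, W, hW, e, hxg, ⟨?_, ?_⟩, ?_⟩
  · rw [← hlist]
    exact H1
  · rw [← hlist, ← Ideal.map_ofList]
    exact H2
  · intro x' hx'V hvan' hfx'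
    have hx'U : x' ∈ U := hVU hx'V
    have hq'eq := Hun (hU.primeIdealOf ⟨x', hx'U⟩).asIdeal inferInstance
      ((mem_basicOpen_iff_notMem_primeIdealOf hU x' hx'U g).mp hx'V) ?_ ((hbase x' hx'U).mpr hfx')
    · exact eq_of_primeIdealOf_asIdeal_eq hU x x' hxU hx'U hq'eq
    · rw [Ideal.span_le]
      intro y hy
      obtain ⟨s, hs, rfl⟩ := List.mem_map.mp hy
      have h1 := hvan' s hs
      rw [← hbo₀ s x' hx'U, mem_basicOpen_iff_notMem_primeIdealOf hU x' hx'U, not_not] at h1
      exact h1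

end Groth.Agent.Lib.helper5.GSlice
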