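import Mathlib
import Groth.Agent.Lib.Helper5.GSlice3

/-!
# Slicing along a second morphism (helper5)

`exists_qf_slice_local` : `f : X ⟶ Y` locally of finite presentation and flat at `x`, `x` closed in
its fibre, `τ : X ⟶ Y'` a second morphism.  Given germs `fs` in the maximal ideal of `O_{Y', τ x}`
whose images under `τ` in the fibre local ring `O_{X,x}/m_{f x}O_{X,x}` form a weakly regular
sequence with zero-dimensional quotient, there are an affine scheme `U'`, an immersion
`g : U' ⟶ Y'` locally of finite presentation through `τ x`, and an open neighbourhood `N` of the point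
`(u', x)` of `U' ×_{Y'} X` such that `N ⟶ X ⟶ Y` is flat and locally quasi-finite.
-/

set_option autoImplicit false
universe u

open AlgebraicGeometry CategoryTheory CategoryTheory.Limits IsLocalRing RingTheory.Sequence LocCoh
  Groth.Agent.LibFibReg29

namespace Groth.Agent.Lib.helper5.GSlice

open Groth.Agent.Lib.helper5.CMSlice Groth.Agent.Lib.helper5.CMSliceSch

theorem isPullback_comp_mono {C : Type*} [Category C] {P X Y Z W : C} {a : P ⟶ X} {b : P ⟶ Y}
    {f : X ⟶ Z} {g : Y ⟶ Z} (h : IsPullback a b f g) (i : Z ⟶ W) [Mono i] :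
    IsPullback a b (f ≫ i) (g ≫ i) := by
  refine ⟨⟨by rw [← Category.assoc, h.w, Category.assoc]⟩, ⟨PullbackCone.IsLimit.mk _
    (fun s => h.lift s.fst s.snd ((cancel_mono i).mp (by simpa using s.condition)))
    (fun s => h.lift_fst _ _ _) (fun s => h.lift_snd _ _ _) ?_⟩⟩
  intro s m h1 h2
  apply h.hom_ext
  · rw [h1, h.lift_fst]
  · rw [h2, h.lift_snd]

/-- `B/IB` is the pushout of `A/I` and `B` over `A`. -/
theorem isPushout_quotientMap {A B : Type u} [CommRing A] [CommRing B] (φ : A →+* B) (I : Ideal A) :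
    IsPushout (CommRingCat.ofHom (Ideal.Quotient.mk I)) (CommRingCat.ofHom φ)
      (CommRingCat.ofHom (Ideal.quotientMap (I.map φ) φ Ideal.le_comap_map))
      (CommRingCat.ofHom (Ideal.Quotient.mk (I.map φ))) := by
  refine ⟨⟨?_⟩, ⟨PushoutCocone.IsColimit.mk _ (fun s => CommRingCat.ofHom
    (Ideal.Quotient.lift (I.map φ) s.inr.hom ?_)) ?_ ?_ ?_⟩⟩
  · ext a
    rfl
  · intro b hb
    have hle : I.map φ ≤ RingHom.ker s.inr.hom := by
      rw [Ideal.map_le_iff_le_comap]
      intro a ha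
      rw [Ideal.mem_comap, RingHom.mem_ker]
      have h1 := congrArg (fun k => k.hom a) s.condition
      simp only [CommRingCat.hom_comp, CommRingCat.hom_ofHom, RingHom.comp_apply] at h1
      rw [← h1, Ideal.Quotient.eq_zero_iff_mem.mpr ha, map_zero]
    exact hle hb
  · intro s
    ext a
    have h1 := congrArg (fun k => k.hom a) s.condition
    simp only [CommRingCat.hom_comp, CommRingCat.hom_ofHom, RingHom.comp_apply] at h1
    simp only [CommRingCat.hom_comp, CommRingCat.hom_ofHom, RingHom.comp_apply,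
      Ideal.quotientMap_mk, Ideal.Quotient.lift_mk]
    exact h1.symm
  · intro s
    ext b
    simp
  · intro s m h1 h2
    ext b
    have := congrArg (fun k => k.hom b) h2
    simp only [CommRingCat.hom_comp, CommRingCat.hom_ofHom, RingHom.comp_apply] at this
    simp only [CommRingCat.hom_ofHom]
    exact this

theorem exists_qf_slice_local {X Y Y' : Scheme.{u}} (f : X ⟶ Y) [LocallyOfFinitePresentation f]
    (τ : X ⟶ Y') (x : X) (hflat : (f.stalkMap x).hom.Flat)
    (hcl : IsClosed ({f.asFiber x} : Set ↑(f.fiber (f x))))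
    (fs : List ↑(Y'.presheaf.stalk (τ x)))
    (hfs : ∀ a ∈ fs, a ∈ maximalIdeal ↑(Y'.presheaf.stalk (τ x)))
    (hreg : IsWeaklyRegular (↑(X.presheaf.stalk x) ⧸
        Ideal.map (f.stalkMap x).hom (maximalIdeal ↑(Y.presheaf.stalk (f x))))
      (fs.map ((Ideal.Quotient.mk
        (Ideal.map (f.stalkMap x).hom (maximalIdeal ↑(Y.presheaf.stalk (f x))))).comp
          (τ.stalkMap x).hom)))
    (hdim : Ring.KrullDimLE 0 ((↑(X.presheaf.stalk x) ⧸
        Ideal.map (f.stalkMap x).hom (maximalIdeal ↑(Y.presheaf.stalk (f x)))) ⧸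
      Ideal.ofList (fs.map ((Ideal.Quotient.mk
        (Ideal.map (f.stalkMap x).hom (maximalIdeal ↑(Y.presheaf.stalk (f x))))).comp
          (τ.stalkMap x).hom)))) :
    ∃ (U' : Scheme.{u}) (_ : IsAffine U') (g : U' ⟶ Y') (u' : U') (p : ↑(pullback g τ))
      (N : (pullback g τ).Opens),
      IsImmersion g ∧ LocallyOfFinitePresentation g ∧ g u' = τ x ∧
      pullback.fst g τ p = u' ∧ pullback.snd g τ p = x ∧ p ∈ N ∧
      Flat (N.ι ≫ pullback.snd g τ ≫ f) ∧ LocallyQuasiFinite (N.ι ≫ pullback.snd g τ ≫ f) := by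
  classical
  -- Step 1: sections on an affine open of `Y'`
  obtain ⟨O', hτO', fs₀, hfs₀⟩ := exists_germ_list (τ x) fs
  obtain ⟨_, ⟨W', hW' : IsAffineOpen W', rfl⟩, hτW', hW'O'⟩ :=
    Y'.isBasis_affineOpens.exists_subset_of_mem_open hτO' O'.isOpen
  have hWO : W' ≤ O' := hW'O'
  obtain ⟨fs', hfs'def⟩ : ∃ l : List Γ(Y', W'),
    l = fs₀.map (Y'.presheaf.map (homOfLE hWO).op).hom := ⟨_, rfl⟩
  have hfs' : fs'.map (Y'.presheaf.germ W' (τ x) hτW').hom = fs := by
    rw [← hfs₀, hfs'def, List.map_map]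
    apply List.map_congr_left
    intro s _
    exact TopCat.Presheaf.germ_res_apply Y'.presheaf (homOfLE hWO) (τ x) hτW' s
  -- Step 2: pull back to `X`
  have hxO : x ∈ τ ⁻¹ᵁ W' := hτW'
  obtain ⟨ss, hssdef⟩ : ∃ l : List Γ(X, τ ⁻¹ᵁ W'), l = fs'.map (τ.app W').hom := ⟨_, rfl⟩
  have hgerm : ∀ a : Γ(Y', W'), (X.presheaf.germ (τ ⁻¹ᵁ W') x hxO).hom ((τ.app W').hom a) =
      (τ.stalkMap x).hom ((Y'.presheaf.germ W' (τ x) hτW').hom a) := fun a =>
    (Scheme.Hom.germ_stalkMap_apply τ W' x hτW' a).symm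
  have hvan : ∀ s ∈ ss, x ∉ X.basicOpen s := by
    intro s hs
    rw [hssdef] at hs
    obtain ⟨a, ha, rfl⟩ := List.mem_map.mp hs
    intro hx
    have h1 : x ∈ τ ⁻¹ᵁ Y'.basicOpen a := by
      rw [Scheme.preimage_basicOpen]
      exact hx
    have h2 : τ x ∈ Y'.basicOpen a := h1
    have h2' := (Scheme.mem_basicOpen Y' a (τ x) hτW').mp h2
    have h3 : (Y'.presheaf.germ W' (τ x) hτW').hom a ∈ fs := by
      rw [← hfs']
      exact List.mem_map_of_mem ha
    exact (mem_maximalIdeal _).mp (hfs _ h3) h2'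
  have hlist : ss.map ((Ideal.Quotient.mk
        (Ideal.map (f.stalkMap x).hom (maximalIdeal ↑(Y.presheaf.stalk (f x))))).comp
          (X.presheaf.germ (τ ⁻¹ᵁ W') x hxO).hom) =
      fs.map ((Ideal.Quotient.mk
        (Ideal.map (f.stalkMap x).hom (maximalIdeal ↑(Y.presheaf.stalk (f x))))).comp
          (τ.stalkMap x).hom) := by
    rw [← hfs', hssdef, List.map_map, List.map_map]
    apply List.map_congr_left
    intro a _
    change Ideal.Quotient.mk _ ((X.presheaf.germ (τ ⁻¹ᵁ W') x hxO).hom ((τ.app W').hom a)) =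
      Ideal.Quotient.mk _ ((τ.stalkMap x).hom ((Y'.presheaf.germ W' (τ x) hτW').hom a))
    rw [hgerm a]
  rw [← hlist] at hreg hdim
  -- Step 3: the slice
  obtain ⟨V, hV, hVO, W, hW, e, hxV, ⟨H1, H2⟩, -⟩ :=
    exists_affine_slice_of_sections f x hflat hcl (τ ⁻¹ᵁ W') hxO ss hvan hreg hdim
  letI algAB : Algebra Γ(Y, W) Γ(X, V) := (f.appLE W V e).hom.toAlgebra
  -- Step 4: rings
  set φt : Γ(Y', W') →+* Γ(X, V) := (τ.appLE W' V hVO).hom with hφt
  set I' : Ideal Γ(Y', W') := Ideal.ofList fs' with hI'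
  have hys : ss.map (X.presheaf.map (homOfLE hVO).op).hom = fs'.map φt := by
    rw [hssdef, List.map_map]
    apply List.map_congr_left
    intro a _
    rfl
  have hJ : Ideal.ofList (ss.map (X.presheaf.map (homOfLE hVO).op).hom) = I'.map φt := by
    rw [hys, hI', Ideal.map_ofList]
  rw [hJ] at H2
  have H1flat : Module.Flat Γ(Y, W) (Γ(X, V) ⧸ I'.map φt) := by
    have := H1.flat_quotient
    rw [hJ] at this
    exact this
  -- Step 5: the schemes
  let U' : Scheme.{u} := Spec (CommRingCat.of (Γ(Y', W') ⧸ I'))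
  let g : U' ⟶ Y' := Spec.map (CommRingCat.ofHom (Ideal.Quotient.mk I')) ≫ hW'.fromSpec
  let Z : Scheme.{u} := Spec (CommRingCat.of (Γ(X, V) ⧸ I'.map φt))
  let a : Z ⟶ U' := Spec.map (CommRingCat.ofHom
    (Ideal.quotientMap (I'.map φt) φt Ideal.le_comap_map))
  let b : Z ⟶ Spec Γ(X, V) := Spec.map (CommRingCat.ofHom (Ideal.Quotient.mk (I'.map φt)))
  have sq1 : IsPullback a b (Spec.map (CommRingCat.ofHom (Ideal.Quotient.mk I')))
      (Spec.map (CommRingCat.ofHom φt)) :=
    isPullback_SpecMap_of_isPushout _ _ _ _ (isPushout_quotientMap φt I')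
  have sq2 := isPullback_comp_mono sq1 hW'.fromSpec
  have hτ : Spec.map (CommRingCat.ofHom φt) ≫ hW'.fromSpec = hV.fromSpec ≫ τ :=
    IsAffineOpen.SpecMap_appLE_fromSpec τ hW' hV hVO
  rw [hτ] at sq2
  have hw : a ≫ g = (b ≫ hV.fromSpec) ≫ τ := by
    rw [Category.assoc]
    exact sq2.w
  let j : Z ⟶ pullback g τ := pullback.lift a (b ≫ hV.fromSpec) hw
  have hj1 : j ≫ pullback.fst g τ = a := pullback.lift_fst _ _ _
  have hj2 : j ≫ pullback.snd g τ = b ≫ hV.fromSpec := pullback.lift_snd _ _ _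
  have left : IsPullback j b (pullback.snd g τ) hV.fromSpec := by
    refine IsPullback.of_right ?_ hj2 (IsPullback.of_hasPullback g τ)
    rw [hj1]
    exact sq2
  haveI : IsOpenImmersion j :=
    MorphismProperty.of_isPullback (P := @IsOpenImmersion) left.flip inferInstance
  -- Step 6: the point
  set Q := hV.primeIdealOf ⟨x, hxV⟩ with hQ
  have hle : I'.map φt ≤ Q.asIdeal := by
    rw [← hJ, Ideal.ofList, Ideal.span_le]
    intro y hy
    obtain ⟨s, hs, rfl⟩ := List.mem_map.mp hy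
    have h1 := hvan s hs
    have h2 : x ∉ X.basicOpen ((X.presheaf.map (homOfLE hVO).op).hom s) := by
      intro h
      apply h1
      have h3 : x ∈ X.basicOpen (X.presheaf.map (homOfLE hVO).op s) := h
      rw [Scheme.basicOpen_res] at h3
      exact h3.2
    rw [mem_basicOpen_iff_notMem_primeIdealOf hV x hxV, not_not] at h2
    exact h2
  have hker : RingHom.ker (Ideal.Quotient.mk (I'.map φt)) ≤ Q.asIdeal := by
    rw [Ideal.mk_ker]
    exact hle
  haveI hprime : (Q.asIdeal.map (Ideal.Quotient.mk (I'.map φt))).IsPrime :=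
    Ideal.map_isPrime_of_surjective Ideal.Quotient.mk_surjective hker
  let z : Z := ⟨Q.asIdeal.map (Ideal.Quotient.mk (I'.map φt)), hprime⟩
  have hbz : b z = Q := by
    apply PrimeSpectrum.ext
    change (Q.asIdeal.map (Ideal.Quotient.mk (I'.map φt))).comap
      (Ideal.Quotient.mk (I'.map φt)) = Q.asIdeal
    rw [Ideal.comap_map_of_surjective _ Ideal.Quotient.mk_surjective, sup_eq_left]
    exact hker
  have hxz : hV.fromSpec (b z) = x := by
    rw [hbz, hQ, hV.fromSpec_primeIdealOf ⟨x, hxV⟩]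
  -- Step 7: the composite to `Y`
  have hcomp : j ≫ pullback.snd g τ ≫ f =
      Spec.map (CommRingCat.ofHom (algebraMap Γ(Y, W) (Γ(X, V) ⧸ I'.map φt))) ≫ hW.fromSpec := by
    rw [← Category.assoc, hj2, Category.assoc, ← IsAffineOpen.SpecMap_appLE_fromSpec f hW hV e,
      ← Category.assoc]
    congr 1
    change Spec.map _ ≫ Spec.map _ = _
    rw [← Spec.map_comp]
    rfl
  have hN : j.opensRange.ι ≫ pullback.snd g τ ≫ f =
      j.isoOpensRange.inv ≫ Spec.map (CommRingCat.ofHom
        (algebraMap Γ(Y, W) (Γ(X, V) ⧸ I'.map φt))) ≫ hW.fromSpec := by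
    rw [← hcomp, Scheme.Hom.isoOpensRange_inv_comp_assoc]
  refine ⟨U', inferInstance, g, a z, j z, j.opensRange, ?_, ?_, ?_, ?_, ?_, ?_, ?_, ?_⟩
  · infer_instance
  · haveI : Algebra.FinitePresentation Γ(Y', W') (Γ(Y', W') ⧸ I') :=
      Algebra.FinitePresentation.quotient ⟨fs'.toFinset, by
        rw [List.coe_toFinset]⟩
    haveI : LocallyOfFinitePresentation (Spec.map (CommRingCat.ofHom
        (Ideal.Quotient.mk I'))) := by
      rw [HasRingHomProperty.Spec_iff (P := @LocallyOfFinitePresentation)]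
      exact RingHom.finitePresentation_algebraMap.mpr inferInstance
    infer_instance
  · rw [← Scheme.Hom.comp_apply, hw, Scheme.Hom.comp_apply, Scheme.Hom.comp_apply, hxz]
  · rw [← Scheme.Hom.comp_apply, hj1]
  · rw [← Scheme.Hom.comp_apply, hj2, Scheme.Hom.comp_apply, hxz]
  · exact ⟨z, rfl⟩
  · rw [hN]
    haveI : Flat (Spec.map (CommRingCat.ofHom
        (algebraMap Γ(Y, W) (Γ(X, V) ⧸ I'.map φt)))) := by
      rw [HasRingHomProperty.Spec_iff (P := @Flat)]
      exact RingHom.flat_algebraMap_iff.mpr H1flat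
    infer_instance
  · rw [hN]
    haveI : LocallyQuasiFinite (Spec.map (CommRingCat.ofHom
        (algebraMap Γ(Y, W) (Γ(X, V) ⧸ I'.map φt)))) := by
      rw [HasRingHomProperty.Spec_iff (P := @LocallyQuasiFinite)]
      exact RingHom.quasiFinite_algebraMap.mpr H2
    infer_instance

end Groth.Agent.Lib.helper5.GSlice
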