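import Mathlib
import Groth.Agent.Lib.Helper5.GSlice4
import Groth.Agent.Lib.Helper5.GSlice6

/-!
# Quasi-finite slices of a groupoid through a point (helper5)

`exists_slice_flat_lqf` : let `G` be a groupoid scheme with `s, t` flat and locally of finite
presentation, `u ∈ U` such that `e u` is closed in its `s`-fibre, and `fs` germs in the maximal ideal of
`O_{U, t (e u)}` whose `t`-images in the fibre ring `O_{R,e u}/m_u O_{R,e u}` (w.r.t. `s`) are a weakly
regular sequence with zero-dimensional quotient.  Then there are an affine scheme `U'`, an immersion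
`g : U' ⟶ U` locally of finite presentation and `u' ↦ u` such that `h = s ∘ pr₂ : U' ×_{g,U,t} R ⟶ U`
is flat, locally quasi-finite and locally of finite presentation.
-/

set_option autoImplicit false
universe u

open AlgebraicGeometry CategoryTheory CategoryTheory.Limits IsLocalRing RingTheory.Sequence

namespace Groth.Agent.Lib.helper5.GSlice

open Groth.Agent.Lib.helper5.IsolBC Groth.Agent.Lib.helper5.FibCrit

variable {S : Scheme.{u}} (G : Grpd.GroupoidScheme S)

theorem exists_slice_flat_lqf [Flat G.s] [LocallyOfFinitePresentation G.s] [Flat G.t]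
    [LocallyOfFinitePresentation G.t] (u : G.U)
    (hcl : IsClosed ({G.s.asFiber (G.e u)} : Set ↑(G.s.fiber (G.s (G.e u)))))
    (fs : List ↑(G.U.presheaf.stalk (G.t (G.e u))))
    (hfs : ∀ a ∈ fs, a ∈ maximalIdeal ↑(G.U.presheaf.stalk (G.t (G.e u))))
    (hreg : IsWeaklyRegular (↑(G.R.presheaf.stalk (G.e u)) ⧸
        Ideal.map (G.s.stalkMap (G.e u)).hom (maximalIdeal ↑(G.U.presheaf.stalk (G.s (G.e u)))))
      (fs.map ((Ideal.Quotient.mk
        (Ideal.map (G.s.stalkMap (G.e u)).hom
          (maximalIdeal ↑(G.U.presheaf.stalk (G.s (G.e u)))))).comp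
          (G.t.stalkMap (G.e u)).hom)))
    (hdim : Ring.KrullDimLE 0 ((↑(G.R.presheaf.stalk (G.e u)) ⧸
        Ideal.map (G.s.stalkMap (G.e u)).hom (maximalIdeal ↑(G.U.presheaf.stalk (G.s (G.e u))))) ⧸
      Ideal.ofList (fs.map ((Ideal.Quotient.mk
        (Ideal.map (G.s.stalkMap (G.e u)).hom
          (maximalIdeal ↑(G.U.presheaf.stalk (G.s (G.e u)))))).comp
          (G.t.stalkMap (G.e u)).hom)))) :
    ∃ (U' : Scheme.{u}) (_ : IsAffine U') (g : U' ⟶ G.U) (u' : U'),
      IsImmersion g ∧ LocallyOfFinitePresentation g ∧ g u' = u ∧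
      Flat (hMap G g) ∧ LocallyQuasiFinite (hMap G g) ∧
      LocallyOfFinitePresentation (hMap G g) := by
  obtain ⟨U', hU', g, u', p, N, hg1, hg2, hgu, hp1, hp2, hpN, hfl, hqf⟩ :=
    exists_qf_slice_local G.s G.t (G.e u) (Flat.stalkMap G.s _) hcl fs hfs hreg hdim
  haveI := hg1
  haveI := hg2
  have htu : G.t (G.e u) = u := by
    rw [← Scheme.Hom.comp_apply, G.e_t]; rfl
  have hgu' : g u' = u := hgu.trans htu
  haveI : LocallyOfFinitePresentation (hMap G g) := by
    unfold hMap; infer_instance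
  -- `p = ε u'`
  have hpe : p = epsMap G g u' := by
    have hinj : Function.Injective (pullback.snd g G.t) :=
      (pullback.snd g G.t).isEmbedding.injective
    apply hinj
    rw [hp2, ← Scheme.Hom.comp_apply, epsMap_snd, Scheme.Hom.comp_apply, hgu']
  have h0 : FlatLqfAt (hMap G g) (epsMap G g u') := by
    rw [← hpe]
    constructor
    · have h1 := Flat.stalkMap (N.ι ≫ pullback.snd g G.t ≫ G.s) ⟨p, hpN⟩
      exact (flat_comp_left_iff N.ι (hMap G g) ⟨p, hpN⟩
        (bijective_stalkMap_of_isOpenImmersion N.ι _)).mp h1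
    · exact ⟨N, hpN, hqf, inferInstance⟩
  obtain ⟨V, hV, hu'V, h1, h2, h3⟩ := exists_shrink_flat_lqf G g u' h0
  refine ⟨V, hV, V.ι ≫ g, ⟨u', hu'V⟩, inferInstance, inferInstance, ?_, h1, h2, h3⟩
  rw [Scheme.Hom.comp_apply]
  exact hgu'

end Groth.Agent.Lib.helper5.GSlice
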