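import Mathlib
import Groth.Agent.Lib.Helper17.FibreStalk

/-!
# The fibre ring of a second morphism on a fibre (helper5)

`f : X ⟶ Y`, `τ' : X ⟶ Y'`, `y : Y`, `τ = f.fiberι y ≫ τ' : f.fiber y ⟶ Y'`.  For a point `z''` of the
fibre `τ.fiber y'` with images `z` in `f.fiber y` and `x` in `X`:

`(O_{X,x}/m_y O_{X,x}) / m_{y'}(O_{X,x}/m_y O_{X,x}) ≃ O_{τ.fiber y', z''}`.
-/

set_option autoImplicit false
universe u

open AlgebraicGeometry CategoryTheory CategoryTheory.Limits IsLocalRing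

namespace Groth.Agent.Lib.helper5.GSlice

open Groth.Agent.Lib.helper17.FibreStalk

theorem fiberStalkEquiv_mk {X Y : Scheme.{u}} (f : X ⟶ Y) (y : Y) (z : f.fiber y)
    (a : X.presheaf.stalk (f.fiberι y z)) :
    fiberStalkEquiv f y z (Ideal.Quotient.mk _ a) = ((f.fiberι y).stalkMap z).hom a := rfl

/-- `(O_{X,x}/m_y O_{X,x}) / m_{τ' x} ≃ O_{F,z}/m_{τ z}`, `F = f.fiber y`, `x` the image of `z`. -/
theorem nonempty_quot_fibRing_equiv {X Y Y' : Scheme.{u}} (f : X ⟶ Y) (τ' : X ⟶ Y') (y : Y)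
    (z : f.fiber y) :
    Nonempty ((FibRing f (f.fiberι y z) ⧸
        (maximalIdeal (Y'.presheaf.stalk (τ' (f.fiberι y z)))).map
          ((Ideal.Quotient.mk ((maximalIdeal (Y.presheaf.stalk (f (f.fiberι y z)))).map
            (f.stalkMap (f.fiberι y z)).hom)).comp (τ'.stalkMap (f.fiberι y z)).hom)) ≃+*
      FibRing (f.fiberι y ≫ τ') z) := by
  refine ⟨Ideal.quotientEquiv _ _ (fiberStalkEquiv f y z) ?_⟩
  rw [Ideal.map_map]
  have : ((f.fiberι y ≫ τ').stalkMap z).hom =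
      (↑(fiberStalkEquiv f y z) : FibRing f (f.fiberι y z) →+* _).comp
        ((Ideal.Quotient.mk ((maximalIdeal (Y.presheaf.stalk (f (f.fiberι y z)))).map
            (f.stalkMap (f.fiberι y z)).hom)).comp (τ'.stalkMap (f.fiberι y z)).hom) := by
    rw [Scheme.Hom.stalkMap_comp]
    ext a
    rfl
  rw [this]
  rfl

/-- dimension form, down to the stalk of the fibre of `τ`. -/
theorem ringKrullDim_quot_fibRing {X Y Y' : Scheme.{u}} (f : X ⟶ Y) (τ' : X ⟶ Y') (y : Y) (y' : Y')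
    (z'' : (f.fiberι y ≫ τ').fiber y') :
    ringKrullDim (FibRing f (f.fiberι y ((f.fiberι y ≫ τ').fiberι y' z'')) ⧸
        (maximalIdeal (Y'.presheaf.stalk (τ' (f.fiberι y ((f.fiberι y ≫ τ').fiberι y' z''))))).map
          ((Ideal.Quotient.mk ((maximalIdeal (Y.presheaf.stalk
            (f (f.fiberι y ((f.fiberι y ≫ τ').fiberι y' z''))))).map
            (f.stalkMap (f.fiberι y ((f.fiberι y ≫ τ').fiberι y' z''))).hom)).comp
              (τ'.stalkMap (f.fiberι y ((f.fiberι y ≫ τ').fiberι y' z''))).hom)) =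
      ringKrullDim (((f.fiberι y ≫ τ').fiber y').presheaf.stalk z'') := by
  obtain ⟨e1⟩ := nonempty_quot_fibRing_equiv f τ' y ((f.fiberι y ≫ τ').fiberι y' z'')
  exact (ringKrullDim_eq_of_ringEquiv e1).trans
    (ringKrullDim_eq_of_ringEquiv (fiberStalkEquiv (f.fiberι y ≫ τ') y' z''))

end Groth.Agent.Lib.helper5.GSlice
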