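import Groth.Agent.Lib.Helper5.ClosedPtImm

/-!
# Closed points from integral field-valued points (helper5)

* `exists_desc_residueField`: a morphism `Spec L ⟶ S` hitting `s` factors through `Spec κ(s)`.
* `isSeparated_of_isAffine_source`: a morphism from an affine scheme is separated.
* `isClosed_singleton_of_isIntegralHom_comp`: if `j : Spec L ⟶ T` and `j ≫ f` is integral then `j(pt)` is a closed point.
* `isClosed_of_locally_finite_closed_points`.
-/

set_option autoImplicit false
universe u
open CategoryTheory CategoryTheory.Limits AlgebraicGeometry Opposite Topology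

namespace Groth.Agent.Lib.helper5.ClosedPtField

theorem exists_desc_residueField {S : Scheme.{u}} {L : Type u} [Field L] (f : Spec (CommRingCat.of L) ⟶ S)
    (s : ↥S) (hs : f (IsLocalRing.closedPoint L) = s) :
    ∃ d : S.residueField s ⟶ CommRingCat.of L, Spec.map d ≫ S.fromSpecResidueField s = f := by
  subst hs
  exact ⟨_, Scheme.descResidueField_stalkClosedPointTo_fromSpecResidueField L S f⟩

theorem isSeparated_of_isAffine_source {X Y : Scheme.{u}} (f : X ⟶ Y) [IsAffine X] : IsSeparated f := by
  have h1 : IsSeparated (terminal.from X) := IsSeparated.of_isAffineHom _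
  have h2 : IsSeparated (f ≫ terminal.from Y) := by
    rw [show f ≫ terminal.from Y = terminal.from X from Subsingleton.elim _ _]; exact h1
  exact IsSeparated.of_comp f (terminal.from Y)

theorem isClosed_singleton_of_isIntegralHom_comp {T S : Scheme.{u}} (f : T ⟶ S) {L : Type u} [Field L]
    (j : Spec (CommRingCat.of L) ⟶ T) [IsIntegralHom (j ≫ f)] :
    IsClosed ({j (IsLocalRing.closedPoint L)} : Set ↥T) := by
  set z := j (IsLocalRing.closedPoint L) with hz
  rw [← closure_eq_iff_isClosed]
  refine subset_antisymm ?_ subset_closure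
  intro y hy
  have hsp : z ⤳ y := specializes_iff_mem_closure.2 hy
  obtain ⟨_, ⟨(W : T.Opens), hW, rfl⟩, hyW, -⟩ :=
    (T.isBasis_affineOpens).exists_subset_of_mem_open (Set.mem_univ y) isOpen_univ
  have hzW : z ∈ W := hsp.mem_open W.isOpen hyW
  have hrange : Set.range j ⊆ Set.range W.ι := by
    rintro _ ⟨w, rfl⟩
    rw [Scheme.Opens.range_ι]
    rw [show w = IsLocalRing.closedPoint L from Subsingleton.elim _ _]
    exact hzW
  let j' : Spec (CommRingCat.of L) ⟶ W.toScheme := IsOpenImmersion.lift W.ι j hrange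
  have hj' : j' ≫ W.ι = j := IsOpenImmersion.lift_fac _ _ _
  have hWaff : IsAffine W.toScheme := hW
  have hsep : IsSeparated (W.ι ≫ f) := isSeparated_of_isAffine_source _
  have hint : IsIntegralHom (j' ≫ (W.ι ≫ f)) := by
    rw [← Category.assoc, hj']; infer_instance
  have hint' : IsIntegralHom j' := IsIntegralHom.of_comp j' (W.ι ≫ f)
  have hclm : IsClosedMap j' := j'.isClosedMap
  have hcl : IsClosed ({j' (IsLocalRing.closedPoint L)} : Set ↥W.toScheme) := by
    have := hclm _ (isClosed_univ)
    rwa [Set.image_univ, Set.range_eq_singleton_iff.2 ?_] at this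
    intro w
    rw [show w = IsLocalRing.closedPoint L from Subsingleton.elim _ _]
  have hz' : W.ι (j' (IsLocalRing.closedPoint L)) = z := by
    rw [← Scheme.Hom.comp_apply, hj']
  have hsp' : j' (IsLocalRing.closedPoint L) ⤳ (⟨y, hyW⟩ : ↥W) := by
    rw [← W.ι.isOpenEmbedding.isInducing.specializes_iff, hz']
    exact hsp
  have := hsp'.mem_closed hcl rfl
  rw [Set.mem_singleton_iff] at this
  rw [Set.mem_singleton_iff, ← hz', ← this]
  rfl

theorem isClosed_of_locally_finite_closed_points {T : Scheme.{u}} (F : Set ↥T)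
    (h1 : ∀ z ∈ F, IsClosed ({z} : Set ↥T))
    (h2 : ∀ W : T.Opens, IsAffineOpen W → (F ∩ (W : Set ↥T)).Finite) : IsClosed F := by
  rw [← closure_eq_iff_isClosed]
  refine subset_antisymm ?_ subset_closure
  intro y hy
  obtain ⟨_, ⟨(W : T.Opens), hW, rfl⟩, hyW, -⟩ :=
    (T.isBasis_affineOpens).exists_subset_of_mem_open (Set.mem_univ y) isOpen_univ
  have hcl : IsClosed (F ∩ (W : Set ↥T)) := by
    have : F ∩ (W : Set ↥T) = ⋃ z ∈ F ∩ (W : Set ↥T), {z} := (Set.biUnion_of_singleton _).symm
    rw [this]
    exact (h2 W hW).isClosed_biUnion fun z hz => h1 z hz.1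
  have h3 : y ∈ closure (F ∩ (W : Set ↥T)) := by
    rw [Set.inter_comm]
    exact W.isOpen.inter_closure ⟨hyW, hy⟩
  rw [hcl.closure_eq] at h3
  exact h3.1

end Groth.Agent.Lib.helper5.ClosedPtField
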