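import Groth.Agent.Lib.Helper5.FieldBCLocalDim
import Groth.Agent.Lib.Helper3.TopDim

/-!
# Dimension as the supremum of the local dimensions; dimension and base field extension (helper5)

* `dim_eq_iSup_localDim` : `dim T = sup_t dim_t T` for every topological space.
* `dim_eq_of_isPullback_field` : `dim (X ×_k K) = dim X` for `X` locally of finite type over `k`.
-/

set_option autoImplicit false
universe u
open CategoryTheory CategoryTheory.Limits AlgebraicGeometry

namespace Groth.Agent.Lib.helper5.FieldBC

open Groth.Agent.Lib.helper3.TopDim

theorem dim_eq_iSup_localDim (T : Type*) [TopologicalSpace T] :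
    topologicalKrullDim T = ⨆ t : T, FlatMor.localDim T t := by
  apply le_antisymm
  · unfold topologicalKrullDim
    rw [Order.krullDim_eq_iSup_coheight]
    refine iSup_le fun Z => ?_
    obtain ⟨t, ht⟩ := Z.isIrreducible.nonempty
    exact (coheight_le_localDim Z ht).trans (le_iSup (fun t : T => FlatMor.localDim T t) t)
  · exact iSup_le fun t => localDim_le_dim t

/-- the dimension of a scheme locally of finite type over a field is invariant under extension of
the base field. -/
theorem dim_eq_of_isPullback_field {k K : CommRingCat.{u}} (hk : IsField k) (hK : IsField K)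
    (φ : k ⟶ K) {X X' : Scheme.{u}} (f : X ⟶ Spec k) [LocallyOfFiniteType f] (f' : X' ⟶ Spec K)
    (p : X' ⟶ X) (sq : IsPullback f' p (Spec.map φ) f) :
    topologicalKrullDim X' = topologicalKrullDim X := by
  haveI : Surjective (Spec.map φ) := by
    letI := hk.toField
    letI := hK.toField
    constructor
    intro y
    obtain ⟨x⟩ : Nonempty (Spec K) := inferInstance
    exact ⟨x, Subsingleton.elim (α := PrimeSpectrum k) _ _⟩
  haveI : Surjective p := MorphismProperty.of_isPullback sq inferInstance
  rw [dim_eq_iSup_localDim, dim_eq_iSup_localDim]
  apply le_antisymm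
  · refine iSup_le fun x' => ?_
    rw [localDim_eq_of_isPullback hk hK φ f f' p sq x']
    exact le_iSup (fun x : X => FlatMor.localDim X x) (p x')
  · refine iSup_le fun x => ?_
    obtain ⟨x', rfl⟩ := p.surjective x
    rw [← localDim_eq_of_isPullback hk hK φ f f' p sq x']
    exact le_iSup (fun x' : X' => FlatMor.localDim X' x') x'

end Groth.Agent.Lib.helper5.FieldBC
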