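import Mathlib
import Groth.Agent.Lib.Helper3.TopDim
import Groth.Agent.Lib.Helper5.DimSupLocalDim

/-!
# Dimension of finite closed unions and of closures of images (helper5)

* `dim_iUnion_le` : a finite union of closed subsets each of dimension `≤ N` has dimension `≤ N`.
* `dim_closure_image_le` : for `π : C → X` continuous with `C` Noetherian and quasi-sober, `E ⊆ C` closed,
  if `dim cl{π ε} ≤ N` for all `ε ∈ E` then `dim cl(π(E)) ≤ N`.
* `exists_le_localDim_of_le_dim` : if `j ≤ dim T` (`j` a natural number) then `j ≤ dim_t T` for some `t`.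
-/

set_option autoImplicit false
universe u v w
open TopologicalSpace Topology Set

namespace Groth.Agent.Lib.helper5.DimClosure

theorem dim_iUnion_le {X : Type u} [TopologicalSpace X] {ι : Type v} [Finite ι] (Y : ι → Set X)
    (hY : ∀ i, IsClosed (Y i)) (N : WithBot ℕ∞) (h : ∀ i, topologicalKrullDim ↥(Y i) ≤ N) :
    topologicalKrullDim ↥(⋃ i, Y i) ≤ N := by
  have hcov : ⋃ i, (Subtype.val ⁻¹' Y i : Set ↥(⋃ i, Y i)) = univ := by
    ext ⟨x, hx⟩
    simp only [mem_iUnion, mem_preimage, mem_univ, iff_true]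
    exact mem_iUnion.mp hx
  rw [Groth.Agent.Lib.helper3.TopDim.dim_eq_iSup_of_locallyFinite_closed_cover
    (fun i => (Subtype.val ⁻¹' Y i : Set ↥(⋃ i, Y i)))
    (fun i => (hY i).preimage continuous_subtype_val) (locallyFinite_of_finite _) hcov]
  refine iSup_le fun i => le_trans ?_ (h i)
  refine Groth.Agent.Lib.helper3.TopDim.dim_le_of_range_subset (X := X)
    (f := fun y : ↥(Subtype.val ⁻¹' Y i : Set ↥(⋃ i, Y i)) => (y.1.1 : X))
    (g := fun y : ↥(Y i) => (y.1 : X))
    (IsInducing.subtypeVal.comp IsInducing.subtypeVal) IsInducing.subtypeVal ?_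
  rintro _ ⟨y, rfl⟩
  exact ⟨⟨y.1.1, y.2⟩, rfl⟩

theorem dim_closure_image_le {C : Type u} {X : Type v} [TopologicalSpace C] [TopologicalSpace X]
    [NoetherianSpace C] [QuasiSober C] (π : C → X) (hπ : Continuous π) (E : Set C)
    (hE : IsClosed E) (N : WithBot ℕ∞)
    (h : ∀ ε ∈ E, topologicalKrullDim ↥(closure ({π ε} : Set X)) ≤ N) :
    topologicalKrullDim ↥(closure (π '' E)) ≤ N := by
  classical
  obtain ⟨S, hSfin, hSc, hSi, hES⟩ := NoetherianSpace.exists_finite_set_isClosed_irreducible hE
  haveI : Finite ↥S := hSfin.to_subtype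
  have hgen : ∀ Z : ↥S, ∃ ε : C, IsGenericPoint ε (Z : Set C) := fun Z =>
    QuasiSober.sober (hSi Z.1 Z.2) (hSc Z.1 Z.2)
  choose ε hε using hgen
  have hεE : ∀ Z : ↥S, ε Z ∈ E := by
    intro Z
    rw [hES]
    exact ⟨Z.1, Z.2, (hε Z).mem⟩
  have hcl : closure (π '' E) = ⋃ Z : ↥S, closure ({π (ε Z)} : Set X) := by
    apply Subset.antisymm
    · refine closure_minimal ?_ (isClosed_iUnion_of_finite fun Z => isClosed_closure)
      rintro _ ⟨c, hc, rfl⟩
      rw [hES] at hc
      obtain ⟨Z, hZ, hcZ⟩ := hc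
      refine mem_iUnion.mpr ⟨⟨Z, hZ⟩, ?_⟩
      have h1 : c ∈ closure ({ε ⟨Z, hZ⟩} : Set C) := by
        rw [(hε ⟨Z, hZ⟩).def]
        exact hcZ
      have h2 := image_closure_subset_closure_image hπ (s := ({ε ⟨Z, hZ⟩} : Set C))
        (mem_image_of_mem π h1)
      rwa [image_singleton] at h2
    · refine iUnion_subset fun Z => closure_mono ?_
      rintro _ rfl
      exact ⟨ε Z, hεE Z, rfl⟩
  rw [hcl]
  exact dim_iUnion_le _ (fun Z => isClosed_closure) N (fun Z => h _ (hεE Z))

theorem exists_le_localDim_of_le_dim (T : Type u) [TopologicalSpace T] (j : ℕ)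
    (h : (j : WithBot ℕ∞) ≤ topologicalKrullDim T) :
    ∃ t : T, (j : WithBot ℕ∞) ≤ FlatMor.localDim T t := by
  by_contra hcon
  push Not at hcon
  rw [Groth.Agent.Lib.helper5.FieldBC.dim_eq_iSup_localDim] at h
  rcases Nat.eq_zero_or_pos j with rfl | hj
  · -- all local dimensions are `⊥`
    have : (⨆ t : T, FlatMor.localDim T t) ≤ ⊥ := by
      refine iSup_le fun t => ?_
      have := hcon t
      rw [show ((0 : ℕ) : WithBot ℕ∞) = 0 from rfl] at this
      generalize FlatMor.localDim T t = a at this ⊢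
      induction a using WithBot.recBotCoe with
      | bot => exact le_rfl
      | coe a =>
        exact absurd (WithBot.coe_le_coe.mpr (zero_le (a := a))) (not_le.mpr this)
    have h2 := le_trans h this
    simp at h2
  · have : (⨆ t : T, FlatMor.localDim T t) ≤ ((j - 1 : ℕ) : WithBot ℕ∞) := by
      refine iSup_le fun t => ?_
      have := hcon t
      generalize FlatMor.localDim T t = a at this ⊢
      induction a using WithBot.recBotCoe with
      | bot => exact bot_le
      | coe a =>
        have h3 : a < (j : ℕ∞) := by exact_mod_cast this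
        have h4 : a ≤ ((j - 1 : ℕ) : ℕ∞) := by
          have : (j : ℕ∞) = ((j - 1 : ℕ) : ℕ∞) + 1 := by
            have : j = (j - 1) + 1 := by omega
            exact_mod_cast this
          rw [this] at h3
          exact (ENat.lt_add_one_iff (ENat.natCast_ne_top _)).mp h3
        exact WithBot.coe_le_coe.mpr h4
    have h2 := le_trans h this
    have h3 : j ≤ j - 1 := by exact_mod_cast h2
    omega

end Groth.Agent.Lib.helper5.DimClosure
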