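import Mathlib
import Groth.Agent.Lib.Helper3.RelDim
import Groth.Agent.Lib.Helper3.IrredDim
import Groth.Agent.Lib.Helper3.TopDim
import Groth.Agent.Lib.Helper5.DimClosureImage
import Groth.Agent.S0402

/-!
# Loci of large fibre dimension (helper5)

For `π : C ⟶ X` locally of finite type:

* `exists_trdeg_eq_localDim` : for `F` locally of finite type over a field `k` and `z : F` there is a
  point `ζ` with `trdeg_k κ(ζ) = dim_z F`.
* `le_dim_fiber_iff` : `j ≤ dim π⁻¹(x)` iff some `c` over `x` has `j ≤ fibreDimAt π c`.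
* `isClosed_setOf_le_fibreDimAt` : `{c | j ≤ fibreDimAt π c}` is closed.
* `exists_td_ge_of_le_dim_fiber` : if `j ≤ dim π⁻¹(x)` there is `c` over `x` with
  `trdeg κ(c)/κ(x) ≥ j`.
* `le_dim_fiber_of_td` : `trdeg κ(c)/κ(π c) ≤ dim π⁻¹(π c)`.
-/

set_option autoImplicit false
universe u
open CategoryTheory AlgebraicGeometry Function

namespace Groth.Agent.Lib.helper5.FibreDimGE

open Groth.Agent.Lib.helper3.DimIneq Groth.Agent.Lib.helper3.FTField
  Groth.Agent.Lib.helper3.FibreField Groth.Agent.Lib.helper3.QFinTop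
  Groth.Agent.Lib.helper3.DimFibre

theorem exists_trdeg_eq_localDim (k : Type u) [Field k] (F : Scheme.{u})
    [F.Over (Spec (CommRingCat.of k))] [LocallyOfFiniteType (F ↘ Spec (CommRingCat.of k))]
    (z : F) : ∃ (ζ : F) (m : ℕ),
      @Algebra.trdeg k (F.residueField ζ) _ _ (Curv2.resAlgebra k F ζ) = m ∧
        FlatMor.localDim F z = (m : WithBot ℕ∞) := by
  obtain ⟨W, hW, hzW, -⟩ := exists_isAffineOpen_mem_and_subset (x := z) (U := ⊤) trivial
  haveI := isNoetherianRing_of_isAffineOpen k F hW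
  obtain ⟨a, ha⟩ := exists_nat_trdeg_residueField k F z
  have hbne : (hW.primeIdealOf ⟨z, hzW⟩).asIdeal.height ≠ ⊤ := Ideal.height_ne_top_of_isPrime
  obtain ⟨b, hb⟩ := ENat.ne_top_iff_exists.mp hbne
  have hb' : ringKrullDim (F.presheaf.stalk z) = (b : WithBot ℕ∞) := by
    rw [ringKrullDim_stalk_eq_height hW z hzW, ← hb]; rfl
  obtain ⟨q0, hq0min, hq0le, hht⟩ :=
    exists_minimalPrimes_height_map_eq (hW.primeIdealOf ⟨z, hzW⟩).asIdeal
  haveI := hq0min.1.1
  obtain ⟨ζ, hζW, hζq⟩ := exists_point_of_prime hW q0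
  subst hζq
  have key := height_map_add_trdeg_residueField k F hW ζ z hζW hzW hq0le
  rw [hht, ← hb, ha] at key
  refine ⟨ζ, a + b, ?_, localDim_eq k F z a b ha hb'⟩
  rw [← key]
  push_cast
  rw [add_comm]

variable {C X : Scheme.{u}} (π : C ⟶ X)

theorem le_dim_fiber_iff (x : X) (j : ℕ) :
    (j : WithBot ℕ∞) ≤ topologicalKrullDim (π.fiber x) ↔
      ∃ c : C, π c = x ∧ (j : WithBot ℕ∞) ≤ FlatMor.fibreDimAt π c := by
  constructor
  · intro h
    obtain ⟨t, ht⟩ := Groth.Agent.Lib.helper5.DimClosure.exists_le_localDim_of_le_dim _ j h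
    refine ⟨π.fiberι x t, fiberι_mem π x t, ?_⟩
    rw [← Groth.Agent.Lib.helper3.RelDim.localDim_fiber_eq π x (π.fiberι x t)
      (fiberι_mem π x t) t rfl]
    exact ht
  · rintro ⟨c, rfl, hc⟩
    exact le_trans hc (Groth.Agent.Lib.helper3.TopDim.localDim_le_dim _)

theorem isClosed_setOf_le_fibreDimAt [LocallyOfFiniteType π] (j : ℕ) :
    IsClosed {c : C | (j : WithBot ℕ∞) ≤ FlatMor.fibreDimAt π c} := by
  rcases Nat.eq_zero_or_pos j with rfl | hj
  · convert isClosed_univ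
    ext c
    simp only [Set.mem_ofPred_eq, Set.mem_univ, iff_true]
    obtain ⟨d, hd⟩ := exists_nat_fibreDimAt π c
    rw [hd]
    exact_mod_cast Nat.zero_le d
  · have hopen := Groth.Agent.S0402.result π (j - 1)
    rw [← isOpen_compl_iff]
    convert hopen using 1
    ext c
    simp only [Set.mem_compl_iff, Set.mem_ofPred_eq]
    obtain ⟨d, hd⟩ := exists_nat_fibreDimAt π c
    rw [hd]
    have h1 : ((j : ℕ) : WithBot ℕ∞) ≤ (d : WithBot ℕ∞) ↔ j ≤ d := by exact_mod_cast Iff.rfl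
    have h2 : ((d : ℕ) : WithBot ℕ∞) ≤ ((j - 1 : ℕ) : WithBot ℕ∞) ↔ d ≤ j - 1 := by
      exact_mod_cast Iff.rfl
    rw [h1, h2]
    omega

theorem le_dim_fiber_of_td [LocallyOfFiniteType π] (c : C) (a : ℕ)
    (ha : td (π.residueFieldMap c).hom = (a : Cardinal.{u})) :
    (a : WithBot ℕ∞) ≤ topologicalKrullDim (π.fiber (π c)) := by
  obtain ⟨a', b, ha', -, hab⟩ := fibreDimAt_eq_add π c
  have haa : a = a' := by
    have : (a : Cardinal.{u}) = (a' : Cardinal.{u}) := ha.symm.trans ha'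
    exact_mod_cast this
  subst haa
  refine le_trans ?_ (Groth.Agent.Lib.helper3.TopDim.localDim_le_dim (π.asFiber c))
  change _ ≤ FlatMor.fibreDimAt π c
  rw [hab]
  exact_mod_cast Nat.le_add_right a b

theorem exists_td_ge_of_le_dim_fiber [LocallyOfFiniteType π] (x : X) (j : ℕ)
    (h : (j : WithBot ℕ∞) ≤ topologicalKrullDim (π.fiber x)) :
    ∃ (c : C) (a : ℕ), π c = x ∧ td (π.residueFieldMap c).hom = (a : Cardinal.{u}) ∧ j ≤ a := by
  obtain ⟨t, ht⟩ := Groth.Agent.Lib.helper5.DimClosure.exists_le_localDim_of_le_dim _ j h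
  letI := fiberOver π x
  haveI : LocallyOfFiniteType ((π.fiber x) ↘ Spec (CommRingCat.of (X.residueField x))) :=
    locallyOfFiniteType_fiber π x
  obtain ⟨ζ, m, hm, hloc⟩ := exists_trdeg_eq_localDim (X.residueField x) (π.fiber x) t
  refine ⟨π.fiberι x ζ, m, fiberι_mem π x ζ, ?_, ?_⟩
  · rw [← td_resMap_fiber π x ζ]
    exact hm
  · rw [hloc] at ht
    exact_mod_cast ht

end Groth.Agent.Lib.helper5.FibreDimGE
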