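import Mathlib
import Groth.Agent.Lib.Helper11.GenFree4

/-!
# A second field structure on a finite type domain is algebraic over the first (helper5)

Let `k` be a field, `B` a domain of finite type over `k` and `σ : k →+* B` any ring homomorphism.
Then `σ a` is algebraic over `k` for every `a : k` (`isAlgebraic_of_ringHom`).  If moreover there is
a retraction `ρ : B →+* k` of both `algebraMap k B` and `σ`, then `σ = algebraMap k B`
(`eq_algebraMap_of_retraction`).

The proof uses generic freeness (helper11) and Euclid's sequence of pairwise coprime integer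
polynomials.
-/

set_option autoImplicit false
universe u v
open Polynomial

namespace Groth.Agent.Lib.helper5.FieldHomAlg

/-- `P₀ = X`, `Pₙ₊₁ = Pₙ (Pₙ + 1)`. -/
noncomputable def Pn : ℕ → ℤ[X]
  | 0 => X
  | n + 1 => Pn n * (Pn n + 1)

/-- Euclid's sequence `Qₙ = Pₙ + 1`. -/
noncomputable def Qn (n : ℕ) : ℤ[X] := Pn n + 1

theorem Pn_monic_pos (n : ℕ) : (Pn n).Monic ∧ 0 < (Pn n).natDegree := by
  induction n with
  | zero => exact ⟨monic_X, by simp [Pn]⟩
  | succ n ih =>
    obtain ⟨h1, h2⟩ := ih
    have hdeg : (1 : ℤ[X]).degree < (Pn n).degree := by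
      rw [degree_one, degree_eq_natDegree h1.ne_zero]
      exact_mod_cast h2
    have h3 : (Pn n + 1).Monic := h1.add_of_left hdeg
    have h4 : (Pn n + 1).natDegree = (Pn n).natDegree := by
      apply natDegree_add_eq_left_of_natDegree_lt
      rw [natDegree_one]
      exact h2
    refine ⟨h1.mul h3, ?_⟩
    change 0 < (Pn n * (Pn n + 1)).natDegree
    rw [h1.natDegree_mul h3, h4]
    omega

theorem Qn_monic_pos (n : ℕ) : (Qn n).Monic ∧ 0 < (Qn n).natDegree := by
  obtain ⟨h1, h2⟩ := Pn_monic_pos n
  have hdeg : (1 : ℤ[X]).degree < (Pn n).degree := by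
    rw [degree_one, degree_eq_natDegree h1.ne_zero]
    exact_mod_cast h2
  refine ⟨h1.add_of_left hdeg, ?_⟩
  unfold Qn
  rw [natDegree_add_eq_left_of_natDegree_lt (by rw [natDegree_one]; exact h2)]
  exact h2

theorem Qn_dvd_Pn {i n : ℕ} (h : i < n) : Qn i ∣ Pn n := by
  induction n with
  | zero => omega
  | succ n ih =>
    rcases Nat.lt_succ_iff_lt_or_eq.mp h with h' | rfl
    · exact dvd_mul_of_dvd_left (ih h') _
    · exact dvd_mul_left _ _

theorem isCoprime_Qn {i j : ℕ} (h : i ≠ j) : IsCoprime (Qn i) (Qn j) := by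
  wlog hij : i < j generalizing i j
  · exact (this h.symm (lt_of_le_of_ne (not_lt.mp hij) h.symm)).symm
  obtain ⟨c, hc⟩ := Qn_dvd_Pn hij
  refine ⟨-c, 1, ?_⟩
  unfold Qn at hc ⊢
  rw [hc]
  ring

section

variable (k : Type u) [Field k]

/-- the images of Euclid's polynomials in `k[X]` -/
noncomputable def qn (n : ℕ) : k[X] := (Qn n).map (Int.castRingHom k)

theorem qn_not_isUnit (n : ℕ) : ¬ IsUnit (qn k n) := by
  obtain ⟨h1, h2⟩ := Qn_monic_pos n
  have hm : (qn k n).Monic := h1.map _
  have hd : (qn k n).natDegree = (Qn n).natDegree := h1.natDegree_map _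
  intro hu
  have := natDegree_eq_zero_of_isUnit hu
  omega

theorem qn_ne_zero (n : ℕ) : qn k n ≠ 0 := by
  obtain ⟨h1, -⟩ := Qn_monic_pos n
  exact (h1.map (Int.castRingHom k)).ne_zero

theorem isCoprime_qn {i j : ℕ} (h : i ≠ j) : IsCoprime (qn k i) (qn k j) :=
  (isCoprime_Qn h).map (mapRingHom (Int.castRingHom k))

/-- No nonzero polynomial is divisible (up to powers) by all of Euclid's polynomials. -/
theorem exists_qn_not_dvd_pow (g : k[X]) (hg : g ≠ 0) : ∃ i : ℕ, ∀ n : ℕ, ¬ qn k i ∣ g ^ n := by
  classical
  by_contra hcon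
  push Not at hcon
  -- choose an irreducible factor of each `qn i`
  have hirr : ∀ i : ℕ, ∃ π : k[X], Irreducible π ∧ π ∣ qn k i := fun i =>
    WfDvdMonoid.exists_irreducible_factor (qn_not_isUnit k i) (qn_ne_zero k i)
  choose π hπ1 hπ2 using hirr
  have hπg : ∀ i, π i ∣ g := by
    intro i
    obtain ⟨n, hn⟩ := hcon i
    exact (hπ1 i).prime.dvd_of_dvd_pow (dvd_trans (hπ2 i) hn)
  have hfac : ∀ i, ∃ q ∈ UniqueFactorizationMonoid.normalizedFactors g, Associated (π i) q :=
    fun i => UniqueFactorizationMonoid.exists_mem_normalizedFactors_of_dvd hg (hπ1 i) (hπg i)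
  choose q hq1 hq2 using hfac
  have hinj : Function.Injective
      (fun i : ℕ => (⟨q i, Multiset.mem_toFinset.mpr (hq1 i)⟩ :
        (UniqueFactorizationMonoid.normalizedFactors g).toFinset)) := by
    intro i j hij
    by_contra hne
    have hqij : q i = q j := congrArg Subtype.val hij
    have hass : Associated (π i) (π j) := (hq2 i).trans (hqij ▸ (hq2 j).symm)
    have h1 : π i ∣ qn k j := dvd_trans hass.dvd (hπ2 j)
    have h2 : IsUnit (π i) := (isCoprime_qn k hne).isUnit_of_dvd' (hπ2 i) h1
    exact (hπ1 i).not_isUnit h2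
  exact not_injective_infinite_finite _ hinj

end

/-- If `π` acts invertibly on `B` and `B_g` is a nonzero free `A_g`-module, then `π` is a unit of
`A_g`. -/
theorem isUnit_algebraMap_away_of_free {A : Type u} [CommRing A] {B : Type v} [CommRing B]
    [Algebra A B] (g : A)
    [Module.Free (Localization.Away g) (LocalizedModule (Submonoid.powers g) B)]
    [Nontrivial (LocalizedModule (Submonoid.powers g) B)] (π : A)
    (hπ : IsUnit (algebraMap A B π)) : IsUnit (algebraMap A (Localization.Away g) π) := by
  classical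
  obtain ⟨u, hu⟩ := hπ.exists_right_inv
  have hsurj : ∀ z : LocalizedModule (Submonoid.powers g) B, ∃ w, π • w = z := by
    intro z
    induction z using LocalizedModule.induction_on with
    | h b s =>
      refine ⟨LocalizedModule.mk (u * b) s, ?_⟩
      rw [LocalizedModule.smul'_mk, Algebra.smul_def, ← mul_assoc, hu, one_mul]
  let bas := Module.Free.chooseBasis (Localization.Away g)
    (LocalizedModule (Submonoid.powers g) B)
  haveI : Nonempty (Module.Free.ChooseBasisIndex (Localization.Away g)
      (LocalizedModule (Submonoid.powers g) B)) := by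
    by_contra hE
    rw [not_nonempty_iff] at hE
    haveI := hE
    haveI : Subsingleton (LocalizedModule (Submonoid.powers g) B) :=
      (bas.repr.toEquiv.subsingleton_congr).mpr inferInstance
    exact not_subsingleton (LocalizedModule (Submonoid.powers g) B) this
  obtain ⟨i⟩ := ‹Nonempty (Module.Free.ChooseBasisIndex (Localization.Away g)
      (LocalizedModule (Submonoid.powers g) B))›
  obtain ⟨w, hw⟩ := hsurj (bas i)
  have h1 : bas.coord i (π • w) = 1 := by
    rw [hw]
    simp [Module.Basis.coord_apply]
  have h2 : π • w = (algebraMap A (Localization.Away g) π) • w := by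
    rw [algebraMap_smul]
  rw [h2, map_smul, smul_eq_mul] at h1
  exact IsUnit.of_mul_eq_one _ h1

/-- **Key lemma.** A ring homomorphism from a field `k` to a domain of finite type over `k` has
values algebraic over `k`. -/
theorem isAlgebraic_of_ringHom (k : Type u) [Field k] (B : Type u) [CommRing B] [IsDomain B]
    [Algebra k B] [Algebra.FiniteType k B] (σ : k →+* B) (a : k) : IsAlgebraic k (σ a) := by
  classical
  by_contra htr
  -- `f = σ a` is transcendental over `k`
  have htr' : Transcendental k (σ a) := htr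
  have hinj : Function.Injective (aeval (R := k) (σ a)) :=
    transcendental_iff_injective.mp htr'
  -- integer polynomials
  have hev : ∀ p : ℤ[X], aeval (R := k) (σ a) (p.map (Int.castRingHom k)) =
      σ (eval₂ (Int.castRingHom k) a p) := by
    intro p
    rw [aeval_def, eval₂_map, hom_eval₂]
    congr 1
    exact RingHom.ext_int _ _
  have hcase : ∀ p : ℤ[X], p.map (Int.castRingHom k) ≠ 0 → eval₂ (Int.castRingHom k) a p ≠ 0 := by
    intro p hp h0
    apply htr
    refine ⟨p.map (Int.castRingHom k), hp, ?_⟩
    rw [hev, h0, map_zero]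
  -- `B` as a `k[X]`-algebra
  letI : Algebra k[X] B := (aeval (R := k) (σ a)).toRingHom.toAlgebra
  haveI : IsScalarTower k k[X] B := IsScalarTower.of_algebraMap_eq (fun c => by
    change algebraMap k B c = aeval (σ a) (C c)
    rw [aeval_C])
  haveI : Algebra.FiniteType k[X] B := Algebra.FiniteType.of_restrictScalars_finiteType k k[X] B
  obtain ⟨g, hg, hfree⟩ :=
    Groth.Agent.Lib.helper11.GenFree.exists_free_localizedModule_of_finiteType (A := k[X]) B B
  haveI := hfree
  haveI : Nontrivial (LocalizedModule (Submonoid.powers g) B) := by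
    refine ⟨⟨LocalizedModule.mk 1 1, 0, ?_⟩⟩
    intro h0
    rw [← LocalizedModule.zero_mk (1 : Submonoid.powers g), LocalizedModule.mk_eq] at h0
    obtain ⟨c, hc⟩ := h0
    obtain ⟨n, hn⟩ := c.2
    simp only [smul_zero, one_smul] at hc
    have hc' : c.1 • (1 : B) = 0 := hc
    rw [← hn, Algebra.smul_def, mul_one] at hc'
    have : g ^ n = 0 := hinj (by
      change aeval (σ a) (g ^ n) = aeval (σ a) 0
      rw [map_zero]
      exact hc')
    exact hg (pow_eq_zero_iff (M₀ := k[X]) (by
      intro hn0
      rw [hn0, pow_zero] at this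
      exact one_ne_zero this) |>.mp this)
  obtain ⟨i, hi⟩ := exists_qn_not_dvd_pow k g hg
  have hunit : IsUnit (algebraMap k[X] B (qn k i)) := by
    change IsUnit (aeval (σ a) ((Qn i).map (Int.castRingHom k)))
    rw [hev]
    exact (IsUnit.mk0 _ (hcase _ (qn_ne_zero k i))).map σ
  have h1 := isUnit_algebraMap_away_of_free g (qn k i) hunit
  obtain ⟨n, hn⟩ := (IsLocalization.Away.algebraMap_isUnit_iff g).mp h1
  exact hi n hn

/-- With a common retraction, the two structures agree. -/
theorem eq_algebraMap_of_retraction (k : Type u) [Field k] (B : Type u) [CommRing B] [IsDomain B]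
    [Algebra k B] [Algebra.FiniteType k B] (σ : k →+* B) (ρ : B →+* k)
    (h1 : ∀ a, ρ (algebraMap k B a) = a) (h2 : ∀ a, ρ (σ a) = a) (a : k) :
    σ a = algebraMap k B a := by
  have halg := isAlgebraic_of_ringHom k B σ a
  -- `k[σ a]` is a field on which `ρ` is injective
  have hint : IsIntegral k (σ a) := halg.isIntegral
  set b := σ a - algebraMap k B a with hb
  have hbint : IsIntegral k b := hint.sub isIntegral_algebraMap
  have hρb : ρ b = 0 := by rw [hb, map_sub, h1, h2, sub_self]
  by_contra hne
  have hb0 : b ≠ 0 := sub_ne_zero.mpr hne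
  -- minimal polynomial of `b` has nonzero constant term; apply `ρ`
  have hmin := minpoly.aeval k b
  have hirr := minpoly.irreducible hbint
  have hc0 : (minpoly k b).coeff 0 ≠ 0 := minpoly.coeff_zero_ne_zero hbint hb0
  -- apply ρ to the relation
  have h3 : ρ (aeval b (minpoly k b)) = eval (ρ b) (minpoly k b) := by
    rw [aeval_def, hom_eval₂]
    have : ρ.comp (algebraMap k B) = RingHom.id k := RingHom.ext h1
    rw [this, eval₂_id]
  rw [hmin, map_zero, hρb] at h3
  rw [← coeff_zero_eq_eval_zero] at h3
  exact hc0 h3.symm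

end Groth.Agent.Lib.helper5.FieldHomAlg
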