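import Groth.Agent.Lib.Helper5.EtLocalDim

/-!
# The local fibre dimension is étale local on source and target and invariant under thickenings (helper5)

* `localDim_eq_of_isOpenEmbedding`: the local dimension at a point is invariant under open embeddings.
* `fibreDimAt_eq_localDim_preimage`: `fibreDimAt f x` is the local dimension of the subspace `f ⁻¹' {f x}` at `x`.
* `fibreDimAt_comp_etale_left`: `fibreDimAt (g ≫ h) w = fibreDimAt h (g w)` for `g` étale.
* `fibreDimAt_comp_etale_right`: `fibreDimAt (m ≫ k) w = fibreDimAt m w` for `k` étale (locally quasi-finite suffices).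
* `fibreDimAt_eq_of_comm`: for a commutative square `ι ≫ h' = h₀ ≫ κ` with `ι` an open embedding and `κ`
  injective on points, `fibreDimAt h₀ u₀ = fibreDimAt h' (ι u₀)` (e.g. thickenings).
-/

set_option autoImplicit false
universe u
open CategoryTheory CategoryTheory.Limits AlgebraicGeometry Opposite

namespace Groth.Agent.Lib.helper5.FibreDimLocal

open FlatMor

/-- The local dimension at a point is invariant under open embeddings. -/
theorem localDim_eq_of_isOpenEmbedding {X Y : Type*} [TopologicalSpace X] [TopologicalSpace Y]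
    (j : X → Y) (hj : Topology.IsOpenEmbedding j) (x : X) : localDim X x = localDim Y (j x) := by
  unfold FlatMor.localDim
  apply le_antisymm
  · refine le_iInf ?_
    rintro ⟨V, hV⟩
    let U : TopologicalSpace.Opens X := ⟨j ⁻¹' (V : Set Y), V.2.preimage hj.continuous⟩
    have hU : x ∈ U := hV
    refine (iInf_le _ (⟨U, hU⟩ : {W : TopologicalSpace.Opens X // x ∈ W})).trans ?_
    change topologicalKrullDim ((U : Set X)) ≤ topologicalKrullDim ((V : Set Y))
    let r : ↥(U : Set X) → ↥(V : Set Y) := fun a => ⟨j a.1, a.2⟩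
    have hr : Topology.IsInducing r := by
      have h1 : Topology.IsInducing (fun a : ↥(U : Set X) => j a.1) :=
        hj.isInducing.comp Topology.IsInducing.subtypeVal
      exact Topology.IsInducing.of_comp (continuous_induced_rng.2 h1.continuous)
        continuous_subtype_val h1
    exact hr.topologicalKrullDim_le
  · refine le_iInf ?_
    rintro ⟨U, hU⟩
    let V : TopologicalSpace.Opens Y := ⟨j '' (U : Set X), hj.isOpenMap _ U.2⟩
    have hV : j x ∈ V := ⟨x, hU, rfl⟩
    refine (iInf_le _ (⟨V, hV⟩ : {W : TopologicalSpace.Opens Y // j x ∈ W})).trans ?_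
    change topologicalKrullDim ((V : Set Y)) ≤ topologicalKrullDim ((U : Set X))
    let r : ↥(U : Set X) → ↥(V : Set Y) := fun a => ⟨j a.1, a.1, a.2, rfl⟩
    have hr : IsHomeomorph r := by
      have h1 : Topology.IsInducing (fun a : ↥(U : Set X) => j a.1) :=
        hj.isInducing.comp Topology.IsInducing.subtypeVal
      have hri : Topology.IsInducing r :=
        Topology.IsInducing.of_comp (continuous_induced_rng.2 h1.continuous)
          continuous_subtype_val h1
      have hrinj : Function.Injective r := by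
        intro a b hab
        apply Subtype.ext
        apply hj.injective
        exact congrArg Subtype.val hab
      have hrsurj : Function.Surjective r := by
        rintro ⟨_, a, ha, rfl⟩
        exact ⟨⟨a, ha⟩, rfl⟩
      have hre : Topology.IsEmbedding r := ⟨hri, hrinj⟩
      exact (hre.toHomeomorphOfSurjective hrsurj).isHomeomorph
    exact (hr.topologicalKrullDim_eq r).ge

theorem localDim_congr_set {X : Type*} [TopologicalSpace X] {A B : Set X} (h : A = B) (a : X)
    (ha : a ∈ A) : localDim A ⟨a, ha⟩ = localDim B ⟨a, h ▸ ha⟩ := by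
  subst h
  rfl

/-- Local dimension of a relatively open subset of a subspace. -/
theorem localDim_eq_of_inter_open {X : Type*} [TopologicalSpace X] (A B O : Set X) (hO : IsOpen O)
    (hAB : A = B ∩ O) (a : X) (ha : a ∈ A) :
    localDim A ⟨a, ha⟩ = localDim B ⟨a, (hAB ▸ ha : a ∈ B ∩ O).1⟩ := by
  have hsub : A ⊆ B := by rw [hAB]; exact Set.inter_subset_left
  have hemb : Topology.IsOpenEmbedding (Set.inclusion hsub) := by
    refine ⟨Topology.IsEmbedding.inclusion hsub, ?_⟩
    rw [Set.range_inclusion]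
    have : {x : B | (x : X) ∈ A} = Subtype.val ⁻¹' O := by
      ext x
      change (x : X) ∈ A ↔ (x : X) ∈ O
      rw [hAB]
      exact ⟨fun h => h.2, fun h => ⟨x.2, h⟩⟩
    rw [this]
    exact hO.preimage continuous_subtype_val
  exact localDim_eq_of_isOpenEmbedding _ hemb ⟨a, ha⟩

/-- `fibreDimAt f x` is the local dimension of the subspace `f ⁻¹' {f x}` at `x`. -/
theorem fibreDimAt_eq_localDim_preimage {X Y : Scheme.{u}} (f : X ⟶ Y) (x : X) :
    fibreDimAt f x = localDim (f ⁻¹' {f x}) ⟨x, rfl⟩ := by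
  unfold FlatMor.fibreDimAt
  have h := localDim_eq_of_isOpenEmbedding (f.fiberHomeo (f x)) (f.fiberHomeo (f x)).isOpenEmbedding
    (f.asFiber x)
  rw [h]
  congr 1
  exact (f.fiberHomeo (f x)).apply_symm_apply _

/-- A commutative square of continuous maps with `p` an open embedding and `q` injective induces open embeddings
of fibres. -/
theorem localDim_fibre_eq_of_comm {U₁ U₂ V₁ V₂ : Type*} [TopologicalSpace U₁] [TopologicalSpace U₂]
    (p : U₁ → U₂) (hp : Topology.IsOpenEmbedding p) (h₁ : U₁ → V₁) (h₂ : U₂ → V₂) (q : V₁ → V₂)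
    (hq : Function.Injective q) (comm : ∀ x, h₂ (p x) = q (h₁ x)) (u : U₁) :
    localDim (h₁ ⁻¹' {h₁ u}) ⟨u, rfl⟩ = localDim (h₂ ⁻¹' {h₂ (p u)}) ⟨p u, rfl⟩ := by
  have hset : h₁ ⁻¹' {h₁ u} = p ⁻¹' (h₂ ⁻¹' {h₂ (p u)}) := by
    ext x
    simp only [Set.mem_preimage, Set.mem_singleton_iff]
    rw [comm, comm]
    exact ⟨fun h => by rw [h], fun h => hq h⟩
  rw [localDim_congr_set hset u rfl]
  exact localDim_eq_of_isOpenEmbedding _ (hp.restrictPreimage (h₂ ⁻¹' {h₂ (p u)})) ⟨u, _⟩

/-- Thickening-type invariance: `ι` an open embedding on points (e.g. a homeomorphism), `κ` injective on points. -/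
theorem fibreDimAt_eq_of_comm {U₀ U' V₀ V' : Scheme.{u}} (ι : U₀ ⟶ U') (κ : V₀ ⟶ V') (h₀ : U₀ ⟶ V₀)
    (h' : U' ⟶ V') (w : ι ≫ h' = h₀ ≫ κ) (hι : Topology.IsOpenEmbedding ι)
    (hκ : Function.Injective κ) (u₀ : U₀) : fibreDimAt h₀ u₀ = fibreDimAt h' (ι u₀) := by
  rw [fibreDimAt_eq_localDim_preimage, fibreDimAt_eq_localDim_preimage]
  refine localDim_fibre_eq_of_comm ι hι h₀ h' κ hκ (fun x => ?_) u₀
  have := congr(($w) x)
  rw [Scheme.Hom.comp_apply, Scheme.Hom.comp_apply] at this
  exact this

/-- The local fibre dimension is étale local on the target (locally quasi-finite suffices). -/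
theorem fibreDimAt_comp_lqf_right {W T V : Scheme.{u}} (m : W ⟶ T) (k : T ⟶ V) [LocallyQuasiFinite k]
    (w : W) : fibreDimAt (m ≫ k) w = fibreDimAt m w := by
  rw [fibreDimAt_eq_localDim_preimage, fibreDimAt_eq_localDim_preimage]
  have hd : _root_.IsDiscrete (k ⁻¹' {k (m w)}) := k.isDiscrete_preimage_singleton (k (m w))
  obtain ⟨O, hO, hOs⟩ := isDiscrete_iff_forall_mem_exists_isOpen.mp hd (m w) rfl
  have hAB : (m ⁻¹' {m w} : Set W) = ((m ≫ k) ⁻¹' {(m ≫ k) w}) ∩ (m ⁻¹' O) := by
    ext x
    simp only [Set.mem_preimage, Set.mem_singleton_iff, Set.mem_inter_iff, Scheme.Hom.comp_apply]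
    constructor
    · intro h
      rw [h]
      have : m w ∈ O ∩ k ⁻¹' {k (m w)} := by rw [hOs]; rfl
      exact ⟨rfl, this.1⟩
    · rintro ⟨h1, h2⟩
      have : m x ∈ O ∩ k ⁻¹' {k (m w)} := ⟨h2, h1⟩
      rw [hOs] at this
      exact this
  exact (localDim_eq_of_inter_open _ _ _ (hO.preimage m.continuous) hAB w rfl).symm

theorem fibreDimAt_comp_etale_right {W T V : Scheme.{u}} (m : W ⟶ T) (k : T ⟶ V) [Etale k]
    (w : W) : fibreDimAt (m ≫ k) w = fibreDimAt m w := by
  have : LocallyQuasiFinite k := Groth.Agent.S10265.lqf_of_etale k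
  exact fibreDimAt_comp_lqf_right m k w

/-- The local fibre dimension is étale local on the source. -/
theorem fibreDimAt_comp_etale_left {W U V : Scheme.{u}} (g : W ⟶ U) [Etale g] (h : U ⟶ V) (w : W) :
    fibreDimAt (g ≫ h) w = fibreDimAt h (g w) := by
  unfold FlatMor.fibreDimAt
  set v : V := h (g w) with hv
  -- the map on fibres
  have hcomm : ((g ≫ h).fiberι v ≫ g) ≫ h =
      (g ≫ h).fiberToSpecResidueField v ≫ V.fromSpecResidueField v := by
    rw [Category.assoc]
    exact (IsPullback.of_hasPullback (g ≫ h) (V.fromSpecResidueField v)).w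
  let φ : (g ≫ h).fiber v ⟶ h.fiber v := pullback.lift _ _ hcomm
  have hφ1 : φ ≫ h.fiberι v = (g ≫ h).fiberι v ≫ g := pullback.lift_fst _ _ _
  have hφ2 : φ ≫ h.fiberToSpecResidueField v = (g ≫ h).fiberToSpecResidueField v :=
    pullback.lift_snd _ _ _
  have sq : IsPullback ((g ≫ h).fiberι v) φ g (h.fiberι v) := by
    have big : IsPullback ((g ≫ h).fiberι v) (φ ≫ h.fiberToSpecResidueField v) (g ≫ h)
        (V.fromSpecResidueField v) := by
      rw [hφ2]
      exact IsPullback.of_hasPullback (g ≫ h) (V.fromSpecResidueField v)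
    exact IsPullback.of_bot big hφ1.symm (IsPullback.of_hasPullback h (V.fromSpecResidueField v))
  have hφe : Etale φ := MorphismProperty.of_isPullback sq inferInstance
  have hpt : φ ((g ≫ h).asFiber w) = h.asFiber (g w) := by
    apply (h.fiberι v).isEmbedding.injective
    rw [← Scheme.Hom.comp_apply, hφ1, Scheme.Hom.comp_apply]
    rw [h.fiberι_asFiber (g w)]
    exact congrArg g ((g ≫ h).fiberι_asFiber w)
  have := EtLocalDim.localDim_eq_of_etale φ ((g ≫ h).asFiber w)
  rw [hpt] at this
  exact this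

end Groth.Agent.Lib.helper5.FibreDimLocal
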