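import Groth.Agent.Lib.Helper5.FieldBCComponents
import Groth.Agent.Lib.Helper3.IrredDim
import Groth.Agent.Lib.Helper17.FibreDim

/-!
# Local dimension along a flat morphism of schemes locally of finite type over a field (helper5)

* `localDim_eq_add_fibreDimAt` : for a flat `k`-morphism `q : T ⟶ Y` of schemes locally of finite
  type over a field `k` and any `t : T`: `dim_t T = dim_{q t} Y + dim_t (T_{q t})`.
* `fibreDimAt_toSpec_field` : for `f : X ⟶ Spec k`, `fibreDimAt f x = dim_x X`.
* `localDim_pullback_eq_add` : `dim_t (X ×_k Y) = dim_{p t} X + dim_{q t} Y`.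
-/

set_option autoImplicit false
universe u
open CategoryTheory CategoryTheory.Limits AlgebraicGeometry

namespace Groth.Agent.Lib.helper5.FieldBC

open Groth.Agent.Lib.helper3.FTField Groth.Agent.Lib.helper3.DimIneq
  Groth.Agent.Lib.helper3.IrredDim Groth.Agent.Lib.helper3.DimFibre
  Groth.Agent.Lib.helper5.FibreDimLocal

theorem localDim_eq_add_fibreDimAt (k : Type u) [Field k] {T Y : Scheme.{u}}
    (fT : T ⟶ Spec (CommRingCat.of k)) (fY : Y ⟶ Spec (CommRingCat.of k))
    [LocallyOfFiniteType fT] [LocallyOfFiniteType fY] (q : T ⟶ Y) (hq : q ≫ fY = fT) [Flat q]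
    (t : T) :
    FlatMor.localDim T t = FlatMor.localDim Y (q t) + FlatMor.fibreDimAt q t := by
  haveI : LocallyOfFiniteType q := by
    haveI : LocallyOfFiniteType (q ≫ fY) := by rw [hq]; infer_instance
    exact locallyOfFiniteType_of_comp q fY
  letI : T.Over (Spec (CommRingCat.of k)) := ⟨fT⟩
  letI : Y.Over (Spec (CommRingCat.of k)) := ⟨fY⟩
  haveI : LocallyOfFiniteType (T ↘ Spec (CommRingCat.of k)) := ‹LocallyOfFiniteType fT›
  haveI : LocallyOfFiniteType (Y ↘ Spec (CommRingCat.of k)) := ‹LocallyOfFiniteType fY›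
  haveI := isLocallyNoetherian_of_lft k T
  haveI := isLocallyNoetherian_of_lft k Y
  obtain ⟨a, b, ha, hb, hab⟩ := fibreDimAt_eq_add q t
  obtain ⟨c, hc⟩ := exists_nat_trdeg_residueField k Y (q t)
  obtain ⟨e, he⟩ := exists_nat_stalk_dim (X := Y) (q t)
  have hstalk := Groth.Agent.Lib.helper17.FibreDim.dim_stalk_eq q t (Flat.stalkMap q t)
  rw [he, hb] at hstalk
  have htd := trdeg_residueField_add k fT fY q hq t
  have htd' : @Algebra.trdeg k (T.residueField t) _ _ (Curv2.resAlgebra k T t) = ((c + a : ℕ) : Cardinal.{u}) := by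
    change td (Curv2.resMap k T t) = _
    rw [htd, ha]
    change @Algebra.trdeg k (Y.residueField (q t)) _ _ (Curv2.resAlgebra k Y (q t)) + _ = _
    rw [hc]
    simp
  have hstalk' : ringKrullDim (T.presheaf.stalk t) = ((e + b : ℕ) : WithBot ℕ∞) := by
    rw [hstalk]; simp
  rw [localDim_eq k T t (c + a) (e + b) htd' hstalk', localDim_eq k Y (q t) c e hc he, hab]
  push_cast
  ring

/-- for a morphism to the spectrum of a field, the local fibre dimension is the local dimension. -/
theorem fibreDimAt_toSpec_field (k : Type u) [Field k] {X : Scheme.{u}}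
    (f : X ⟶ Spec (CommRingCat.of k)) (x : X) : FlatMor.fibreDimAt f x = FlatMor.localDim X x := by
  rw [fibreDimAt_eq_localDim_preimage]
  have hset : (f ⁻¹' {f x} : Set X) = Set.univ := by
    ext y
    simp only [Set.mem_preimage, Set.mem_singleton_iff, Set.mem_univ, iff_true]
    exact Subsingleton.elim (α := PrimeSpectrum k) _ _
  rw [localDim_congr_set hset x rfl]
  exact localDim_eq_of_isOpenEmbedding (fun y : ↥(Set.univ : Set X) => (y : X))
    isOpen_univ.isOpenEmbedding_subtypeVal ⟨x, trivial⟩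

/-- `dim_t (X ×_k Y) = dim_{p t} X + dim_{q t} Y`. -/
theorem localDim_pullback_eq_add (k : Type u) [Field k] {X Y : Scheme.{u}}
    (fX : X ⟶ Spec (CommRingCat.of k)) (fY : Y ⟶ Spec (CommRingCat.of k))
    [LocallyOfFiniteType fX] [LocallyOfFiniteType fY] (t : ↥(pullback fX fY)) :
    FlatMor.localDim ↥(pullback fX fY) t =
      FlatMor.localDim X (pullback.fst fX fY t) + FlatMor.localDim Y (pullback.snd fX fY t) := by
  haveI : Flat fX := inferInstance
  haveI : LocallyOfFiniteType (pullback.snd fX fY ≫ fY) := inferInstance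
  rw [localDim_eq_add_fibreDimAt k (pullback.snd fX fY ≫ fY) fY (pullback.snd fX fY) rfl t,
    fibreDimAt_eq_of_isPullback (IsPullback.of_hasPullback fX fY) t,
    fibreDimAt_toSpec_field k fX, add_comm]

end Groth.Agent.Lib.helper5.FieldBC
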