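import Mathlib
import Groth.Agent.Lib.Helper5.FlatLocalDimAdd
import Groth.Agent.Lib.Helper5.FibreDimLocal
import Groth.Agent.Lib.Helper5.DimSupLocalDim
import Groth.Agent.Lib.Helper3.IrredDim
import Groth.Agent.Lib.Helper3.RelDim
import Groth.Agent.Lib.Helper7.GrpdShear

/-!
# Homogeneity of groupoid schemes on a field (helper5)

For a groupoid scheme `(U, R, s, t, c)` with `U ≅ Spec k` and `s, t` locally of finite type, the local
dimension of `R` is the same at all points and equals `dim R`.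
-/

set_option autoImplicit false
universe u
open CategoryTheory CategoryTheory.Limits AlgebraicGeometry

namespace Groth.Agent.Lib.helper5.GrpdHomog

theorem localDim_eq_of_iso {X Y : Scheme.{u}} (e : X ≅ Y) (x : X) :
    FlatMor.localDim ↥X x = FlatMor.localDim ↥Y (e.hom x) :=
  Groth.Agent.Lib.helper5.FibreDimLocal.localDim_eq_of_isOpenEmbedding
    (fun x : ↥X => e.hom x) e.hom.homeomorph.isOpenEmbedding x

theorem localDim_eq_add_of_isPullback (k : Type u) [Field k] {P X Y : Scheme.{u}} {p₁ : P ⟶ X}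
    {p₂ : P ⟶ Y} {fX : X ⟶ Spec (CommRingCat.of k)} {fY : Y ⟶ Spec (CommRingCat.of k)}
    [LocallyOfFiniteType fX] [LocallyOfFiniteType fY] (sq : IsPullback p₁ p₂ fX fY) (t : P) :
    FlatMor.localDim ↥P t = FlatMor.localDim ↥X (p₁ t) + FlatMor.localDim ↥Y (p₂ t) := by
  rw [localDim_eq_of_iso sq.isoPullback t,
    Groth.Agent.Lib.helper5.FieldBC.localDim_pullback_eq_add k fX fY]
  congr 2
  · change (sq.isoPullback.hom ≫ pullback.fst fX fY) t = _
    rw [sq.isoPullback_hom_fst]
  · change (sq.isoPullback.hom ≫ pullback.snd fX fY) t = _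
    rw [sq.isoPullback_hom_snd]

variable {S : Scheme.{u}} (G : Grpd.GroupoidScheme S) (k : Type u) [Field k]
  (eU : G.U ≅ Spec (CommRingCat.of k)) [LocallyOfFiniteType G.s] [LocallyOfFiniteType G.t]

include eU in
theorem localDim_eq_const (r : G.R) :
    FlatMor.localDim ↥G.R r = FlatMor.localDim ↥G.R (G.e (G.s r)) := by
  have sq₁ : IsPullback (pullback.fst G.s G.t) (pullback.snd G.s G.t) (G.s ≫ eU.hom)
      (G.t ≫ eU.hom) :=
    ⟨⟨by rw [← Category.assoc, pullback.condition, Category.assoc]⟩,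
      ⟨pullbackIsPullbackOfCompMono G.s G.t eU.hom⟩⟩
  have sq₂ : IsPullback (pullback.fst G.t G.t) (pullback.snd G.t G.t) (G.t ≫ eU.hom)
      (G.t ≫ eU.hom) :=
    ⟨⟨by rw [← Category.assoc, pullback.condition, Category.assoc]⟩,
      ⟨pullbackIsPullbackOfCompMono G.t G.t eU.hom⟩⟩
  have e1 := localDim_eq_add_of_isPullback k sq₁ (Groth.Agent.Lib.helper7.GrpdShear.sec G r)
  have e2 := localDim_eq_add_of_isPullback k sq₂ (pullback.diagonal G.t r)
  have e3 := localDim_eq_of_iso (Groth.Agent.Lib.helper7.GrpdShear.shear G)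
    (Groth.Agent.Lib.helper7.GrpdShear.sec G r)
  have e4 : (Groth.Agent.Lib.helper7.GrpdShear.shear G).hom
      (Groth.Agent.Lib.helper7.GrpdShear.sec G r) = pullback.diagonal G.t r := by
    change (Groth.Agent.Lib.helper7.GrpdShear.sec G ≫
      (Groth.Agent.Lib.helper7.GrpdShear.shear G).hom) r = _
    rw [Groth.Agent.Lib.helper7.GrpdShear.sec_shear]
  rw [e4] at e3
  have f1 : (pullback.fst G.s G.t) (Groth.Agent.Lib.helper7.GrpdShear.sec G r) = r := by
    change (Groth.Agent.Lib.helper7.GrpdShear.sec G ≫ pullback.fst G.s G.t) r = r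
    unfold Groth.Agent.Lib.helper7.GrpdShear.sec
    rw [pullback.lift_fst]
    rfl
  have f2 : (pullback.snd G.s G.t) (Groth.Agent.Lib.helper7.GrpdShear.sec G r) =
      G.e (G.s r) := by
    change (Groth.Agent.Lib.helper7.GrpdShear.sec G ≫ pullback.snd G.s G.t) r = _
    rw [Groth.Agent.Lib.helper7.GrpdShear.sec_snd]
    rfl
  have f3 : (pullback.fst G.t G.t) (pullback.diagonal G.t r) = r := by
    change (pullback.diagonal G.t ≫ pullback.fst G.t G.t) r = r
    rw [pullback.diagonal_fst]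
    rfl
  have f4 : (pullback.snd G.t G.t) (pullback.diagonal G.t r) = r := by
    change (pullback.diagonal G.t ≫ pullback.snd G.t G.t) r = r
    rw [pullback.diagonal_snd]
    rfl
  rw [f1, f2] at e1
  rw [f3, f4] at e2
  have e5 : FlatMor.localDim ↥G.R r + FlatMor.localDim ↥G.R (G.e (G.s r)) =
      FlatMor.localDim ↥G.R r + FlatMor.localDim ↥G.R r := by
    rw [← e1, ← e2]
    exact e3
  letI : G.R.Over (Spec (CommRingCat.of k)) := ⟨G.s ≫ eU.hom⟩
  haveI : LocallyOfFiniteType (G.R ↘ Spec (CommRingCat.of k)) :=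
    inferInstanceAs (LocallyOfFiniteType (G.s ≫ eU.hom))
  obtain ⟨a, b, -, -, hab⟩ :=
    Groth.Agent.Lib.helper3.IrredDim.localDim_eq_trdeg_add_stalk k G.R r
  obtain ⟨a', b', -, -, hab'⟩ :=
    Groth.Agent.Lib.helper3.IrredDim.localDim_eq_trdeg_add_stalk k G.R (G.e (G.s r))
  rw [hab, hab'] at e5 ⊢
  have : a + b + (a' + b') = a + b + (a + b) := by exact_mod_cast e5
  have h5 : a' + b' = a + b := by omega
  rw [h5]

include eU in
theorem localDim_eq_localDim (r r' : G.R) :
    FlatMor.localDim ↥G.R r = FlatMor.localDim ↥G.R r' := by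
  rw [localDim_eq_const G k eU r, localDim_eq_const G k eU r']
  have : G.s r = G.s r' := by
    apply eU.hom.homeomorph.injective
    exact Subsingleton.elim (α := PrimeSpectrum k) _ _
  rw [this]

include eU in
theorem localDim_eq_dim (r : G.R) :
    FlatMor.localDim ↥G.R r = topologicalKrullDim ↥G.R := by
  rw [Groth.Agent.Lib.helper5.FieldBC.dim_eq_iSup_localDim]
  haveI : Nonempty ↥G.R := ⟨r⟩
  have : (fun r' : ↥G.R => FlatMor.localDim ↥G.R r') = fun _ => FlatMor.localDim ↥G.R r :=
    funext fun r' => localDim_eq_localDim G k eU r' r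
  rw [this, iSup_const]

end Groth.Agent.Lib.helper5.GrpdHomog
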