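import Mathlib
import Groth.Agent.Lib.Helper5.FieldHomAlg
import Groth.Agent.Lib.Helper5.FibreDimGE
import Groth.Agent.Lib.Helper5.GrpdHomog

/-!
# The stabilizer of a groupoid scheme on a field has the dimension of the groupoid (helper5)

* `exists_trdeg_eq_localDim_specializes` : variant of `FibreDimGE.exists_trdeg_eq_localDim` that
  records that the point found is a generization.
* `exists_equalizing_of_specializes` : for `τ σ : R ⟶ Spec k` with `τ` locally of finite type and a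
  common section `ε`, every generization `ξ` of the image of `ε` lies in the image of a morphism
  `ι : Z ⟶ R` with `ι ≫ σ = ι ≫ τ`.
* `dim_eq_dim_stabilizer` : `dim R = dim G` for a groupoid scheme on a field with `s, t` locally of
  finite type.
-/

set_option autoImplicit false
universe u
open CategoryTheory CategoryTheory.Limits AlgebraicGeometry Function

namespace Groth.Agent.Lib.helper5.GrpdStabDim

open Groth.Agent.Lib.helper3.DimIneq Groth.Agent.Lib.helper3.FTField
  Groth.Agent.Lib.helper3.FibreField Groth.Agent.Lib.helper3.QFinTop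
  Groth.Agent.Lib.helper3.DimFibre

theorem exists_trdeg_eq_localDim_specializes (k : Type u) [Field k] (F : Scheme.{u})
    [F.Over (Spec (CommRingCat.of k))] [LocallyOfFiniteType (F ↘ Spec (CommRingCat.of k))]
    (z : F) : ∃ (ζ : F) (m : ℕ), ζ ⤳ z ∧
      @Algebra.trdeg k (F.residueField ζ) _ _ (Curv2.resAlgebra k F ζ) = m ∧
        FlatMor.localDim F z = (m : WithBot ℕ∞) := by
  obtain ⟨W, hW, hzW, -⟩ := exists_isAffineOpen_mem_and_subset (x := z) (U := ⊤) trivial
  haveI := isNoetherianRing_of_isAffineOpen k F hW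
  obtain ⟨a, ha⟩ := exists_nat_trdeg_residueField k F z
  have hbne : (hW.primeIdealOf ⟨z, hzW⟩).asIdeal.height ≠ ⊤ := Ideal.height_ne_top_of_isPrime
  obtain ⟨b, hb⟩ := ENat.ne_top_iff_exists.mp hbne
  have hb' : ringKrullDim (F.presheaf.stalk z) = (b : WithBot ℕ∞) := by
    rw [ringKrullDim_stalk_eq_height hW z hzW, ← hb]; rfl
  obtain ⟨q0, hq0min, hq0le, hht⟩ :=
    exists_minimalPrimes_height_map_eq (hW.primeIdealOf ⟨z, hzW⟩).asIdeal
  haveI := hq0min.1.1
  obtain ⟨ζ, hζW, hζq⟩ := exists_point_of_prime hW q0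
  subst hζq
  have key := height_map_add_trdeg_residueField k F hW ζ z hζW hzW hq0le
  rw [hht, ← hb, ha] at key
  refine ⟨ζ, a + b, (specializes_iff_primeIdealOf_le hW ζ z hζW hzW).2 hq0le, ?_,
    localDim_eq k F z a b ha hb'⟩
  rw [← key]
  push_cast
  rw [add_comm]

/-- For `τ σ : R ⟶ Spec k` with `τ` locally of finite type and a common section `ε`, every
generization `ξ` of the image of `ε` lies in the image of some `ι : Z ⟶ R` equalizing `σ` and `τ`. -/
theorem exists_equalizing_of_specializes (k : Type u) [Field k] {R : Scheme.{u}}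
    (τ σ : R ⟶ Spec (CommRingCat.of k)) [LocallyOfFiniteType τ]
    (ε : Spec (CommRingCat.of k) ⟶ R) (hτ : ε ≫ τ = 𝟙 _) (hσ : ε ≫ σ = 𝟙 _)
    (pt : Spec (CommRingCat.of k)) (ξ : R) (hξ : ξ ⤳ ε pt) :
    ∃ (Z : Scheme.{u}) (ι : Z ⟶ R), ξ ∈ Set.range ι ∧ ι ≫ σ = ι ≫ τ := by
  classical
  obtain ⟨V, hV, he₀V, -⟩ := exists_isAffineOpen_mem_and_subset (x := ε pt) (U := ⊤) trivial
  have hξV : ξ ∈ V := hξ.mem_open V.isOpen he₀V
  set q : Ideal Γ(R, V) := (hV.primeIdealOf ⟨ξ, hξV⟩).asIdeal with hq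
  haveI : q.IsPrime := (hV.primeIdealOf ⟨ξ, hξV⟩).isPrime
  let B : CommRingCat.{u} := CommRingCat.of (Γ(R, V) ⧸ q)
  let mkq : Γ(R, V) ⟶ B := CommRingCat.ofHom (Ideal.Quotient.mk q)
  let ι : Spec B ⟶ R := Spec.map mkq ≫ hV.fromSpec
  -- `ξ` is in the range of `ι`
  have hrange : ξ ∈ Set.range ι := by
    refine ⟨(⟨⊥, Ideal.isPrime_bot⟩ : PrimeSpectrum (Γ(R, V) ⧸ q)), ?_⟩
    have h1 : (Spec.map mkq) (⟨⊥, Ideal.isPrime_bot⟩ : PrimeSpectrum (Γ(R, V) ⧸ q)) =
        hV.primeIdealOf ⟨ξ, hξV⟩ := by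
      apply PrimeSpectrum.ext
      change Ideal.comap (Ideal.Quotient.mk q) ⊥ = q
      rw [← RingHom.ker_eq_comap_bot, Ideal.mk_ker]
    change hV.fromSpec ((Spec.map mkq) _) = ξ
    rw [h1, hV.fromSpec_primeIdealOf]
  refine ⟨Spec B, ι, hrange, ?_⟩
  -- ring homomorphisms
  let φτ : CommRingCat.of k ⟶ B := Spec.preimage (ι ≫ τ)
  let φσ : CommRingCat.of k ⟶ B := Spec.preimage (ι ≫ σ)
  have hφτ : Spec.map φτ = ι ≫ τ := Spec.map_preimage _
  have hφσ : Spec.map φσ = ι ≫ σ := Spec.map_preimage _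
  -- the section factors through `Spec B`
  have hεrange : Set.range ε ⊆ Set.range hV.fromSpec := by
    rw [hV.range_fromSpec]
    rintro _ ⟨y, rfl⟩
    have : y = pt := Subsingleton.elim (α := PrimeSpectrum k) _ _
    rw [this]
    exact he₀V
  let εV : Spec (CommRingCat.of k) ⟶ Spec Γ(R, V) := IsOpenImmersion.lift hV.fromSpec ε hεrange
  have hεV : εV ≫ hV.fromSpec = ε := IsOpenImmersion.lift_fac _ _ _
  let ρA : Γ(R, V) ⟶ CommRingCat.of k := Spec.preimage εV
  have hρA : Spec.map ρA = εV := Spec.map_preimage _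
  have hle : q ≤ RingHom.ker ρA.hom := by
    have h1 : hV.primeIdealOf ⟨ε pt, he₀V⟩ = εV pt := by
      apply hV.fromSpec.isOpenEmbedding.injective
      rw [hV.fromSpec_primeIdealOf]
      change ε pt = (εV ≫ hV.fromSpec) pt
      rw [hεV]
    have h2 := (specializes_iff_primeIdealOf_le hV ξ (ε pt) hξV he₀V).1 hξ
    rw [h1] at h2
    intro a ha
    have h3 : a ∈ (εV pt).asIdeal := h2 ha
    rw [← hρA] at h3
    have h4 : ρA.hom a ∈ pt.asIdeal := h3
    have hbot : pt.asIdeal = ⊥ := Ideal.eq_bot_of_prime pt.asIdeal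
    rw [hbot, Ideal.mem_bot] at h4
    exact h4
  let ρ : Γ(R, V) ⧸ q →+* k := Ideal.Quotient.lift q ρA.hom (fun a ha => hle ha)
  have hρ : mkq ≫ CommRingCat.ofHom ρ = ρA := by
    ext a
    rfl
  have hεB : Spec.map (CommRingCat.ofHom ρ) ≫ ι = ε := by
    change Spec.map (CommRingCat.ofHom ρ) ≫ Spec.map mkq ≫ hV.fromSpec = ε
    rw [← Category.assoc, ← Spec.map_comp, hρ, hρA, hεV]
  have hρτ : φτ ≫ CommRingCat.ofHom ρ = 𝟙 _ := by
    apply Spec.map_injective
    rw [Spec.map_comp, hφτ, ← Category.assoc, hεB, hτ, Spec.map_id]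
  have hρσ : φσ ≫ CommRingCat.ofHom ρ = 𝟙 _ := by
    apply Spec.map_injective
    rw [Spec.map_comp, hφσ, ← Category.assoc, hεB, hσ, Spec.map_id]
  -- finite type
  letI : Algebra k (Γ(R, V) ⧸ q) := φτ.hom.toAlgebra
  haveI : IsDomain (Γ(R, V) ⧸ q) := Ideal.Quotient.isDomain q
  haveI : Algebra.FiniteType k (Γ(R, V) ⧸ q) := by
    have h1 : LocallyOfFiniteType (Spec.map φτ) := by
      rw [hφτ]
      haveI : IsClosedImmersion (Spec.map mkq) :=
        IsClosedImmersion.spec_of_surjective mkq Ideal.Quotient.mk_surjective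
      infer_instance
    have h2 := (HasRingHomProperty.Spec_iff (P := @LocallyOfFiniteType)).mp h1
    exact h2
  have hfinal : φσ = φτ := by
    ext a
    exact Groth.Agent.Lib.helper5.FieldHomAlg.eq_algebraMap_of_retraction k (Γ(R, V) ⧸ q)
      φσ.hom ρ (fun a => congrArg (fun f => f.hom a) hρτ) (fun a => congrArg (fun f => f.hom a) hρσ) a
  rw [← hφσ, ← hφτ, hfinal]

end Groth.Agent.Lib.helper5.GrpdStabDim
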