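import Mathlib
import Groth.Agent.Lib.Helper4.GrpdRestrGen
import Groth.Agent.Lib.Helper5.ClosedPtField
import Groth.Agent.S1883
import Groth.Agent.S1887

/-!
# The restriction of a groupoid to a point and its stabilizer (helper5)

For a groupoid scheme `G` and `u : G.U`, `restrPt G u` is the restriction data of `G` along
`Spec κ(u) ⟶ U` with arrows `R'' = τ.fiber u`, `τ = s.fiberι u ≫ t : s.fiber u ⟶ U`.

* `stabIso` : the stabilizer of the restriction is the fibre `G_u` of the stabilizer of `G`.
* `ringKrullDim_stalk_idPt` : for a finite type point `u`, the local ring of `R''` at the identity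
  point has dimension `dim G_u`.
-/

set_option autoImplicit false
universe u

open AlgebraicGeometry CategoryTheory CategoryTheory.Limits IsLocalRing

namespace Groth.Agent.Lib.helper5.GSlice

open Groth.Agent.Lib.Helper4.GrpdRestrGen

variable {S : Scheme.{u}} (G : Grpd.GroupoidScheme S) (u : G.U)

/-- `τ = t|_{F_u} : F_u = s⁻¹(u) ⟶ U`. -/
noncomputable abbrev tauMap : G.s.fiber u ⟶ G.U := G.s.fiberι u ≫ G.t

/-- restriction data of `G` along `Spec κ(u) ⟶ U`. -/
noncomputable def restrPt : RestrDataG G (G.U.fromSpecResidueField u) where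
  RW := (tauMap G u).fiber u
  ιR := (tauMap G u).fiberι u ≫ G.s.fiberι u
  sW := (tauMap G u).fiberι u ≫ G.s.fiberToSpecResidueField u
  tW := (tauMap G u).fiberToSpecResidueField u
  ιR_s := by
    rw [Category.assoc, Category.assoc]
    congr 1
    exact pullback.condition
  ιR_t := by
    rw [Category.assoc]
    exact pullback.condition
  ex := fun α a b hs ht => by
    have h1 : pullback.lift α a hs ≫ tauMap G u = b ≫ G.U.fromSpecResidueField u := by
      rw [← ht]
      show pullback.lift α a hs ≫ pullback.fst _ _ ≫ G.t = _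
      rw [pullback.lift_fst_assoc]
    refine ⟨pullback.lift (pullback.lift α a hs) b h1, ?_, ?_, ?_⟩
    · show pullback.lift (pullback.lift α a hs) b h1 ≫ pullback.fst _ _ ≫ pullback.fst _ _ = _
      rw [pullback.lift_fst_assoc, pullback.lift_fst]
    · show pullback.lift (pullback.lift α a hs) b h1 ≫ pullback.fst _ _ ≫ pullback.snd _ _ = _
      rw [pullback.lift_fst_assoc, pullback.lift_snd]
    · exact pullback.lift_snd _ _ _
  ext := fun l l' h1 h2 h3 => by
    apply pullback.hom_ext
    · apply pullback.hom_ext
      · exact (Category.assoc _ _ _).trans (h1.trans (Category.assoc _ _ _).symm)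
      · exact (Category.assoc _ _ _).trans (h2.trans (Category.assoc _ _ _).symm)
    · exact h3

/-- the restricted groupoid on `Spec κ(u)`. -/
noncomputable abbrev restrGrpd : Grpd.GroupoidScheme S := (restrPt G u).restr

theorem lft_restr_s [LocallyOfFiniteType G.s]
    (hu : LocallyOfFiniteType (G.U.fromSpecResidueField u)) :
    LocallyOfFiniteType (restrGrpd G u).s := by
  haveI := hu
  show LocallyOfFiniteType ((tauMap G u).fiberι u ≫ G.s.fiberToSpecResidueField u)
  haveI : LocallyOfFiniteType ((tauMap G u).fiberι u) := MorphismProperty.pullback_fst _ _ hu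
  haveI : LocallyOfFiniteType (G.s.fiberToSpecResidueField u) :=
    MorphismProperty.pullback_snd _ _ inferInstance
  infer_instance

theorem lft_restr_t [LocallyOfFiniteType G.t]
    (hu : LocallyOfFiniteType (G.U.fromSpecResidueField u)) :
    LocallyOfFiniteType (restrGrpd G u).t := by
  haveI := hu
  show LocallyOfFiniteType ((tauMap G u).fiberToSpecResidueField u)
  haveI : LocallyOfFiniteType (G.s.fiberι u) := MorphismProperty.pullback_fst _ _ hu
  haveI : LocallyOfFiniteType (tauMap G u) := by unfold tauMap; infer_instance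
  exact MorphismProperty.pullback_snd _ _ inferInstance

theorem diag_map_aux {W U S : Scheme.{u}} (pU : U ⟶ S) (ι : W ⟶ U)
    (h1 : (ι ≫ pU) ≫ 𝟙 S = ι ≫ pU) (h2 : (ι ≫ pU) ≫ 𝟙 S = ι ≫ pU) :
    (pullback.lift (𝟙 W) (𝟙 W) rfl : W ⟶ pullback (ι ≫ pU) (ι ≫ pU)) ≫
      pullback.map (ι ≫ pU) (ι ≫ pU) pU pU ι ι (𝟙 S) h1 h2 =
    ι ≫ (pullback.lift (𝟙 U) (𝟙 U) rfl : U ⟶ pullback pU pU) := by
  apply pullback.hom_ext
  · rw [Category.assoc, Category.assoc, pullback.lift_fst, pullback.lift_fst, pullback.lift_fst_assoc,
      Category.id_comp, Category.comp_id]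
  · rw [Category.assoc, Category.assoc, pullback.lift_snd, pullback.lift_snd, pullback.lift_snd_assoc,
      Category.id_comp, Category.comp_id]

/-- The stabilizer of the restriction to `Spec κ(u)` is the fibre of the stabilizer over `u`. -/
noncomputable def stabIso : (restrGrpd G u).stabilizer ≅ G.stabilizerToU.fiber u := by
  let d := restrPt G u
  have sq1 : IsPullback (pullback.fst d.restr.j d.restr.diag) (pullback.snd d.restr.j d.restr.diag)
      d.restr.j d.restr.diag := IsPullback.of_hasPullback _ _
  have sq12 := sq1.paste_horiz d.isPullback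
  have sq3 : IsPullback (pullback.fst G.j G.diag) G.stabilizerToU G.j G.diag :=
    IsPullback.of_hasPullback _ _
  have sq4 : IsPullback (G.stabilizerToU.fiberι u) (G.stabilizerToU.fiberToSpecResidueField u)
      G.stabilizerToU (G.U.fromSpecResidueField u) := IsPullback.of_hasPullback _ _
  have sq43 := sq4.paste_horiz sq3
  have heq : d.restr.diag ≫ pullback.map d.restr.pU d.restr.pU G.pU G.pU d.hom.fU d.hom.fU (𝟙 S)
        ((Category.comp_id _).trans d.hom.fU_over.symm)
        ((Category.comp_id _).trans d.hom.fU_over.symm) =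
      G.U.fromSpecResidueField u ≫ G.diag := by
    exact diag_map_aux G.pU (G.U.fromSpecResidueField u) _ _
  rw [heq] at sq12
  exact sq12.isoIsPullback _ _ sq43

theorem topologicalKrullDim_stabilizer_restr :
    topologicalKrullDim (restrGrpd G u).stabilizer =
      topologicalKrullDim (G.stabilizerToU.fiber u) :=
  IsHomeomorph.topologicalKrullDim_eq _ (Scheme.homeoOfIso (stabIso G u)).isHomeomorph

noncomputable instance : Field ↑(G.U.residueField u) :=
  inferInstanceAs (Field (IsLocalRing.ResidueField _))

/-- the identity point of `R'' = τ.fiber u`. -/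
noncomputable def idPt : ↑((tauMap G u).fiber u) :=
  (restrPt G u).eW (IsLocalRing.closedPoint ↑(G.U.residueField u))

theorem idPt_image : G.s.fiberι u ((tauMap G u).fiberι u (idPt G u)) = G.e u := by
  have h := (restrPt G u).eW_ιR
  have h1 : ((restrPt G u).eW ≫ (restrPt G u).ιR) (IsLocalRing.closedPoint ↑(G.U.residueField u)) =
      (G.U.fromSpecResidueField u ≫ G.e) (IsLocalRing.closedPoint ↑(G.U.residueField u)) := by
    rw [h]
  rw [Scheme.Hom.comp_apply, Scheme.Hom.comp_apply, Scheme.fromSpecResidueField_apply] at h1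
  exact h1

theorem isClosed_idPt : IsClosed ({idPt G u} : Set ↑((tauMap G u).fiber u)) := by
  haveI : IsIntegralHom ((restrPt G u).eW ≫ (restrPt G u).sW) := by
    rw [(restrPt G u).eW_sW]; infer_instance
  exact Groth.Agent.Lib.helper5.ClosedPtField.isClosed_singleton_of_isIntegralHom_comp
    (restrPt G u).sW (L := ↑(G.U.residueField u)) (restrPt G u).eW

/-- **C1**: the local ring of `R''` at the identity point has dimension `dim G_u`. -/
theorem ringKrullDim_stalk_idPt [LocallyOfFiniteType G.s] [LocallyOfFiniteType G.t]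
    (hu : LocallyOfFiniteType (G.U.fromSpecResidueField u)) :
    ringKrullDim (((tauMap G u).fiber u).presheaf.stalk (idPt G u)) =
      topologicalKrullDim (G.stabilizerToU.fiber u) := by
  haveI := lft_restr_s G u hu
  haveI := lft_restr_t G u hu
  have h1 := Groth.Agent.S1887.result S (restrGrpd G u) ↑(G.U.residueField u) (Iso.refl _)
    (idPt G u) (isClosed_idPt G u)
  have h2 := Groth.Agent.S1883.result S (restrGrpd G u) ↑(G.U.residueField u) (Iso.refl _)
  rw [← topologicalKrullDim_stabilizer_restr, ← h2]
  exact h1

end Groth.Agent.Lib.helper5.GSlice
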