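import Mathlib
import Groth.Agent.Lib.Helper5.GSlice1
import Groth.Agent.Lib.Helper5.GSlice7
import Groth.Agent.Lib.Helper5.GSlice8
import Groth.Agent.Lib.Helper5.GSlice9

/-!
# Regular sequences from the target map at a finite type point (helper5)

`G` a groupoid scheme with `s, t` locally of finite presentation, `u` a finite type point of `U`.
With `O = O_{R,e u}/m_u O_{R, e u}` (w.r.t. `s`) and `J ⊆ O` the ideal generated by `t^♯ m_u`:

* `ringKrullDim_quot_eq_stab` : `dim O/J = dim G_u`.
* `exists_regular_of_cm` : if `O` is Cohen–Macaulay and `dim G_u + n ≤ dim O`, there are `n` germs in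
  `m_u ⊆ O_{U,u}` whose `t`-images form a weakly regular sequence of `O`.
* `isClosed_asFiber_e` : `e u` is closed in its `s`-fibre.
* `exists_slice_of_cm_of_stab_dim_zero` : the quasi-finite slice through `u`.
-/

set_option autoImplicit false
universe u

open AlgebraicGeometry CategoryTheory CategoryTheory.Limits IsLocalRing RingTheory.Sequence LocCoh

namespace Groth.Agent.Lib.helper5.GSlice

open Groth.Agent.Lib.helper17.FibreStalk

variable {S : Scheme.{u}} (G : Grpd.GroupoidScheme S)

/-- the map `O_{U, t x} ⟶ O_{R,x}/m_{s x}O_{R,x}` induced by `t`. -/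
noncomputable abbrev tFib (x : G.R) : ↑(G.U.presheaf.stalk (G.t x)) →+* FibRing G.s x :=
  (Ideal.Quotient.mk ((maximalIdeal ↑(G.U.presheaf.stalk (G.s x))).map (G.s.stalkMap x).hom)).comp
    (G.t.stalkMap x).hom

theorem ringKrullDim_quot_eq_stab [LocallyOfFiniteType G.s] [LocallyOfFiniteType G.t] (u : G.U)
    (hu : LocallyOfFiniteType (G.U.fromSpecResidueField u)) :
    ringKrullDim (FibRing G.s (G.e u) ⧸
        (maximalIdeal ↑(G.U.presheaf.stalk (G.t (G.e u)))).map (tFib G (G.e u))) =
      topologicalKrullDim (G.stabilizerToU.fiber u) := by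
  have h1 := ringKrullDim_quot_fibRing G.s G.t u u (idPt G u)
  have h2 := ringKrullDim_stalk_idPt G u hu
  have h3 := idPt_image G u
  rw [h2] at h1
  revert h1
  generalize G.s.fiberι u ((G.s.fiberι u ≫ G.t).fiberι u (idPt G u)) = x at h3
  subst h3
  exact id

instance isLocalHom_tFib (x : G.R) : IsLocalHom (tFib G x) := by
  haveI : Nontrivial (FibRing G.s x) :=
    Ideal.Quotient.nontrivial_iff.mpr (ne_of_lt (map_maximalIdeal_lt_top _))
  haveI : IsLocalHom (Ideal.Quotient.mk ((maximalIdeal ↑(G.U.presheaf.stalk (G.s x))).map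
      (G.s.stalkMap x).hom)) := IsLocalHom.of_surjective _ Ideal.Quotient.mk_surjective
  exact RingHom.isLocalHom_comp _ _

theorem exists_regular_of_cm [LocallyOfFiniteType G.s] [LocallyOfFiniteType G.t] (u : G.U)
    (hu : LocallyOfFiniteType (G.U.fromSpecResidueField u))
    [IsCohenMacaulayLocalRing (FibRing G.s (G.e u))] (n : ℕ)
    (hn : topologicalKrullDim (G.stabilizerToU.fiber u) + (n : WithBot ℕ∞) ≤
      ringKrullDim (FibRing G.s (G.e u))) :
    ∃ fs : List ↑(G.U.presheaf.stalk (G.t (G.e u))), fs.length = n ∧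
      (∀ a ∈ fs, a ∈ maximalIdeal ↑(G.U.presheaf.stalk (G.t (G.e u)))) ∧
      IsWeaklyRegular (FibRing G.s (G.e u)) (fs.map (tFib G (G.e u))) := by
  refine Groth.Agent.Lib.helper5.GSlice.exists_regular_in_map_of_cm (tFib G (G.e u))
    (maximalIdeal _) (map_maximalIdeal_le _) n ?_
  rw [ringKrullDim_quot_eq_stab G u hu]
  exact hn

theorem isClosed_asFiber_e (u : G.U) :
    IsClosed ({G.s.asFiber (G.e u)} : Set ↑(G.s.fiber (G.s (G.e u)))) := by
  set y := G.s (G.e u) with hy
  have hyu : y = u := by
    rw [hy, ← Scheme.Hom.comp_apply, G.e_s]; rfl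
  let j : Spec (G.U.residueField y) ⟶ G.s.fiber y :=
    pullback.lift (G.U.fromSpecResidueField y ≫ G.e) (𝟙 _)
      (by rw [Category.assoc, G.e_s, Category.comp_id, Category.id_comp])
  have hj1 : j ≫ G.s.fiberι y = G.U.fromSpecResidueField y ≫ G.e := pullback.lift_fst _ _ _
  have hj2 : j ≫ G.s.fiberToSpecResidueField y = 𝟙 _ := pullback.lift_snd _ _ _
  haveI : IsIntegralHom (j ≫ G.s.fiberToSpecResidueField y) := by
    rw [hj2]; infer_instance
  have hcl := Groth.Agent.Lib.helper5.ClosedPtField.isClosed_singleton_of_isIntegralHom_comp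
    (G.s.fiberToSpecResidueField y) (L := ↑(G.U.residueField y)) j
  have hpt : j (IsLocalRing.closedPoint ↑(G.U.residueField y)) = G.s.asFiber (G.e u) := by
    apply (G.s.fiberι y).isEmbedding.injective
    rw [← Scheme.Hom.comp_apply, hj1, Scheme.Hom.comp_apply, Scheme.fromSpecResidueField_apply,
      G.s.fiberι_asFiber, hyu]
  rw [← hpt]
  exact hcl

/-- **Quasi-finite slices through a finite type point** at which `s` is Cohen–Macaulay and the
stabilizer has zero-dimensional fibre. -/
theorem exists_slice_of_cm [Flat G.s] [LocallyOfFinitePresentation G.s] [Flat G.t]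
    [LocallyOfFinitePresentation G.t] (u : G.U)
    (hu : LocallyOfFiniteType (G.U.fromSpecResidueField u))
    [IsCohenMacaulayLocalRing (FibRing G.s (G.e u))]
    (hstab : topologicalKrullDim (G.stabilizerToU.fiber u) ≤ 0) :
    ∃ (U' : Scheme.{u}) (_ : IsAffine U') (g : U' ⟶ G.U) (u' : U'),
      IsImmersion g ∧ LocallyOfFinitePresentation g ∧ g u' = u ∧
      Flat (hMap G g) ∧ LocallyQuasiFinite (hMap G g) ∧
      LocallyOfFinitePresentation (hMap G g) := by
  set O := FibRing G.s (G.e u) with hO
  have hD : ringKrullDim O ≠ ⊤ := ringKrullDim_ne_top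
  have hD0 : (0 : WithBot ℕ∞) ≤ ringKrullDim O := ringKrullDim_nonneg_of_nontrivial
  obtain ⟨n, hn⟩ : ∃ n : ℕ, ringKrullDim O = (n : WithBot ℕ∞) := by
    generalize ringKrullDim O = D at *
    induction D with
    | bot => simp at hD0
    | coe D =>
      have hDtop : D ≠ ⊤ := by
        intro h; apply hD; rw [h]; rfl
      obtain ⟨D', rfl⟩ := ENat.ne_top_iff_exists.mp hDtop
      exact ⟨D', rfl⟩
  obtain ⟨fs, hlen, hfs, hreg⟩ := exists_regular_of_cm G u hu n (by
    rw [hn]
    calc topologicalKrullDim ↥(G.stabilizerToU.fiber u) + (n : WithBot ℕ∞)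
        ≤ 0 + (n : WithBot ℕ∞) := add_le_add_left hstab _
      _ = n := zero_add _)
  have hmem : Ideal.ofList (fs.map (tFib G (G.e u))) ≤ maximalIdeal O := by
    unfold Ideal.ofList
    rw [Ideal.span_le]
    intro b hb
    obtain ⟨a, ha, rfl⟩ := List.mem_map.mp hb
    exact map_nonunit (tFib G (G.e u)) a (hfs a ha)
  have hreg' : IsRegular O (fs.map (tFib G (G.e u))) := by
    refine ⟨hreg, ?_⟩
    rw [smul_eq_mul, Ideal.mul_top]
    exact fun h => (maximalIdeal.isMaximal O).ne_top (top_le_iff.mp (h ▸ hmem))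
  have hdim := ringKrullDim_add_length_eq_ringKrullDim_of_isRegular _ hreg'
  rw [List.length_map, hlen, hn] at hdim
  have hdim0 : Ring.KrullDimLE 0 (O ⧸ Ideal.ofList (fs.map (tFib G (G.e u)))) := by
    rw [Ring.krullDimLE_iff]
    generalize ringKrullDim (O ⧸ Ideal.ofList (fs.map (tFib G (G.e u)))) = c at hdim
    induction c with
    | bot => exact bot_le
    | coe c =>
      induction c with
      | top =>
        have h1 : ((⊤ : ℕ∞) + (n : ℕ∞) : ℕ∞) = (n : ℕ∞) := by exact_mod_cast hdim
        rw [top_add] at h1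
        exact absurd h1 (ENat.top_ne_natCast n)
      | coe c =>
        have : c + n = n := by exact_mod_cast hdim
        have : c = 0 := by omega
        subst this
        rfl
  exact exists_slice_flat_lqf G u (isClosed_asFiber_e G u) fs hfs hreg hdim0

end Groth.Agent.Lib.helper5.GSlice
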