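import Mathlib
import Groth.Prelude.Def_Flat
import Groth.Agent.Lib.Helper3.RelDim
import Groth.Agent.Lib.Helper5.FibreDimLocal

/-!
# The fibres of a morphism smooth of relative dimension `n` have local dimension `n` (helper5)

* `dim_irreducibleComponents_affineSpace_fibre`: a base change of `𝔸ⁿ_R → Spec R` to a field has all its irreducible
  components of dimension `n`.
* `fibreDimAt_affineSpace`: `fibreDimAt (Spec R[X₁..Xₙ] → Spec R) z = n`.
* `fibreDimAt_of_smoothOfRelativeDimension`: `fibreDimAt f x = n` for `f` smooth of relative dimension `n`.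
-/

set_option autoImplicit false
universe u
open CategoryTheory CategoryTheory.Limits AlgebraicGeometry TensorProduct

namespace Groth.Agent.Lib.helper5.SmoothFibreDim

open FlatMor

/-- `R[X₁..Xₙ] ⊗[R] K ≃+* K[X₁..Xₙ]`. -/
noncomputable def tensorEquiv (R K : Type u) [CommRing R] [CommRing K] [Algebra R K] (n : ℕ) :
    (MvPolynomial (Fin n) R ⊗[R] K) ≃+* MvPolynomial (Fin n) K :=
  ((Algebra.TensorProduct.comm R (MvPolynomial (Fin n) R) K).trans
    ((MvPolynomial.algebraTensorAlgEquiv R K).restrictScalars R)).toRingEquiv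

theorem dim_irreducibleComponents_of_iso {F : Scheme.{u}} (A : Type u) [CommRing A] [IsDomain A]
    (e : F ≅ Spec (CommRingCat.of A)) (T : Set F) (hT : T ∈ irreducibleComponents F) :
    topologicalKrullDim T = ringKrullDim A := by
  haveI : IsIntegral (Spec (CommRingCat.of A)) := inferInstance
  haveI : Nonempty F := ⟨e.inv (Classical.arbitrary _)⟩
  haveI : IsIntegral F := isIntegral_of_isOpenImmersion e.hom
  haveI : IrreducibleSpace F := inferInstance
  rw [irreducibleComponents_eq_singleton] at hT
  obtain rfl : T = Set.univ := hT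
  rw [IsHomeomorph.topologicalKrullDim_eq _ (Homeomorph.Set.univ F).isHomeomorph,
    IsHomeomorph.topologicalKrullDim_eq _ e.hom.homeomorph.isHomeomorph]
  exact PrimeSpectrum.topologicalKrullDim_eq_ringKrullDim A

theorem dim_irreducibleComponents_affineSpace_fibre (R K : CommRingCat.{u}) (hK : IsField K) (n : ℕ)
    (φ : R ⟶ K) {F : Scheme.{u}} (a : F ⟶ Spec (CommRingCat.of (MvPolynomial (Fin n) R)))
    (c : F ⟶ Spec K)
    (sq : IsPullback a c (Spec.map (CommRingCat.ofHom (MvPolynomial.C : R →+* MvPolynomial (Fin n) R)))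
      (Spec.map φ))
    (T : Set F) (hT : T ∈ irreducibleComponents F) : topologicalKrullDim T = (n : WithBot ℕ∞) := by
  letI := hK.toField
  letI : Algebra R K := φ.hom.toAlgebra
  have e1 : F ≅ pullback (Spec.map (CommRingCat.ofHom (algebraMap R (MvPolynomial (Fin n) R))))
      (Spec.map (CommRingCat.ofHom (algebraMap R K))) := sq.isoPullback
  have e2 := e1 ≪≫ pullbackSpecIso R (MvPolynomial (Fin n) R) K
  have e3 : F ≅ Spec (CommRingCat.of (MvPolynomial (Fin n) K)) :=
    e2 ≪≫ Scheme.Spec.mapIso (tensorEquiv R K n).toCommRingCatIso.symm.op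
  rw [dim_irreducibleComponents_of_iso (MvPolynomial (Fin n) K) e3 T hT,
    MvPolynomial.ringKrullDim_of_isNoetherianRing, ringKrullDim_eq_zero_of_field]
  simp

/-- The fibres of `𝔸ⁿ_R → Spec R` have local dimension `n` at every point. -/
theorem fibreDimAt_affineSpace (R : CommRingCat.{u}) (n : ℕ)
    (z : Spec (CommRingCat.of (MvPolynomial (Fin n) R))) :
    fibreDimAt (Spec.map (CommRingCat.ofHom (MvPolynomial.C : R →+* MvPolynomial (Fin n) R))) z =
      (n : WithBot ℕ∞) := by
  set p := Spec.map (CommRingCat.ofHom (MvPolynomial.C : R →+* MvPolynomial (Fin n) R)) with hp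
  set y := p z with hy
  haveI : LocallyOfFiniteType p := by
    rw [hp, HasRingHomProperty.Spec_iff (P := @LocallyOfFiniteType)]
    have : (algebraMap R (MvPolynomial (Fin n) R)).FiniteType := by
      rw [RingHom.finiteType_algebraMap]; infer_instance
    exact this
  letI := Groth.Agent.Lib.helper3.FibreField.fiberOver p y
  haveI : LocallyOfFiniteType ((p.fiber y) ↘ Spec (CommRingCat.of ((Spec R).residueField y))) :=
    Groth.Agent.Lib.helper3.FibreField.locallyOfFiniteType_fiber p y
  refine Groth.Agent.Lib.helper3.RelDim.localDim_eq_of_forall_irreducibleComponents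
    ((Spec R).residueField y) (p.fiber y) n (fun T hT => ?_) (p.asFiber z)
  have sq : IsPullback (p.fiberι y) (p.fiberToSpecResidueField y) p ((Spec R).fromSpecResidueField y) :=
    IsPullback.of_hasPullback _ _
  rw [← Spec.map_preimage ((Spec R).fromSpecResidueField y)] at sq
  exact dim_irreducibleComponents_affineSpace_fibre R ((Spec R).residueField y)
    (Field.toIsField _) n _ _ _ sq T hT

/-- The fibres of a morphism smooth of relative dimension `n` have local dimension `n` at every point. -/
theorem fibreDimAt_of_smoothOfRelativeDimension (n : ℕ) {X Y : Scheme.{u}} (f : X ⟶ Y)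
    [SmoothOfRelativeDimension n f] (x : X) : fibreDimAt f x = (n : WithBot ℕ∞) := by
  obtain ⟨U, hU, V, hV, hxV, e, hf⟩ :=
    SmoothOfRelativeDimension.exists_isStandardSmoothOfRelativeDimension (n := n) (f := f) x
  obtain ⟨g, hgC, hg⟩ := hf.exists_etale_mvPolynomial
  obtain ⟨x', rfl⟩ : ∃ x' : Spec Γ(X, V), hV.fromSpec x' = x := by
    have : x ∈ Set.range hV.fromSpec := by rw [hV.range_fromSpec]; exact hxV
    exact this
  haveI : Etale (Spec.map (CommRingCat.ofHom g)) := by
    rw [HasRingHomProperty.Spec_iff (P := @Etale)]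
    exact hg
  have hfac : Spec.map (f.appLE U V e) = Spec.map (CommRingCat.ofHom g) ≫
      Spec.map (CommRingCat.ofHom (MvPolynomial.C : Γ(Y, U) →+* MvPolynomial (Fin n) Γ(Y, U))) := by
    rw [← Spec.map_comp, ← CommRingCat.ofHom_comp, hgC]
    rfl
  rw [← FibreDimLocal.fibreDimAt_comp_etale_left hV.fromSpec f x',
    ← IsAffineOpen.SpecMap_appLE_fromSpec f hU hV e,
    FibreDimLocal.fibreDimAt_comp_etale_right, hfac, FibreDimLocal.fibreDimAt_comp_etale_left,
    fibreDimAt_affineSpace]

end Groth.Agent.Lib.helper5.SmoothFibreDim
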