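import Mathlib
import Groth.Prelude.Def_MoreMor
import Groth.Agent.S9808
import Groth.Agent.Lib.Helper17.FieldCM
import Groth.Agent.Lib.Helper17.FibreStalk
import Groth.Agent.Lib.Helper5.CMSliceSch2

/-!
# Density of the Cohen–Macaulay locus of a locally Noetherian scheme (helper5)

* `exists_cm_stalk_mem_open`: every non-empty open of a locally Noetherian scheme contains a point
  whose local ring is Cohen–Macaulay (a generic point of an affine open: Artinian local ring).
* `dense_cm_in_fibre`: for `f` locally of finite type, the points `z` of a fibre whose local ring in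
  the fibre is Cohen–Macaulay form a dense set; `isCMAt_fiberι_iff`.
-/

set_option autoImplicit false
universe u
open AlgebraicGeometry CategoryTheory IsLocalRing LocCoh

namespace Groth.Agent.Lib.helper5.CMDense

open Groth.Agent.Lib.helper5.CMSliceSch

theorem exists_cm_stalk_mem_open (Z : Scheme.{u}) [IsLocallyNoetherian Z] (O : Set Z)
    (hO : IsOpen O) (hne : O.Nonempty) :
    ∃ z ∈ O, IsCohenMacaulayLocalRing (Z.presheaf.stalk z) := by
  obtain ⟨z₀, hz₀⟩ := hne
  obtain ⟨_, ⟨V, hV : IsAffineOpen V, rfl⟩, hz₀V, hVO⟩ :=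
    Z.isBasis_affineOpens.exists_subset_of_mem_open hz₀ hO
  haveI : IsNoetherianRing Γ(Z, V) := IsLocallyNoetherian.component_noetherian ⟨V, hV⟩
  haveI : Nontrivial Γ(Z, V) := by
    have : Nonempty (PrimeSpectrum Γ(Z, V)) := ⟨hV.primeIdealOf ⟨z₀, hz₀V⟩⟩
    exact (PrimeSpectrum.nonempty_iff_nontrivial.mp this)
  obtain ⟨𝔭, h𝔭⟩ := Ideal.nonempty_minimalPrimes (R := Γ(Z, V)) (I := ⊥) bot_ne_top
  haveI : 𝔭.IsPrime := h𝔭.1.1
  let Q : PrimeSpectrum Γ(Z, V) := ⟨𝔭, inferInstance⟩
  have hzV := fromSpec_mem hV Q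
  have hQ := primeIdealOf_fromSpec hV Q
  refine ⟨hV.fromSpec Q, hVO hzV, ?_⟩
  letI : Algebra Γ(Z, V) (Z.presheaf.stalk (hV.fromSpec Q)) :=
    Z.presheaf.algebra_section_stalk (⟨hV.fromSpec Q, hzV⟩ : V)
  haveI l1 : IsLocalization.AtPrime (Z.presheaf.stalk (hV.fromSpec Q))
      (hV.primeIdealOf ⟨hV.fromSpec Q, hzV⟩).asIdeal := hV.isLocalization_stalk ⟨_, hzV⟩
  rw [hQ] at l1
  haveI : IsNoetherianRing (Z.presheaf.stalk (hV.fromSpec Q)) :=
    IsLocalization.isNoetherianRing 𝔭.primeCompl _ inferInstance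
  haveI : Ring.KrullDimLE 0 (Z.presheaf.stalk (hV.fromSpec Q)) := by
    rw [Ring.krullDimLE_iff, IsLocalization.AtPrime.ringKrullDim_eq_height 𝔭]
    have : 𝔭.height = 0 := Ideal.height_eq_zero_iff.mpr h𝔭
    rw [this]
    rfl
  exact Groth.Agent.Lib.helper17.FieldCM.cm_of_krullDimLE_zero _

/-- at a point of the fibre over `s`, `f` is Cohen–Macaulay iff `f` is flat there and the local ring
of the fibre is Cohen–Macaulay. -/
theorem isCMAt_fiberι_iff {X S : Scheme.{u}} (f : X ⟶ S) (s : S) (z : f.fiber s) :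
    MoreMor.IsCMAt f (f.fiberι s z) ↔
      (f.stalkMap (f.fiberι s z)).hom.Flat ∧
        IsCohenMacaulayLocalRing ((f.fiber s).presheaf.stalk z) := by
  obtain ⟨e1⟩ := Groth.Agent.Lib.helper17.FibreStalk.nonempty_asFiber_stalk_equiv f (f.fiberι s z)
  let e2 := Groth.Agent.Lib.helper17.FibreStalk.fiberStalkEquiv f s z
  unfold MoreMor.IsCMAt
  refine and_congr_right fun _ => ⟨fun h => ?_, fun h => ?_⟩
  · haveI := h
    exact Groth.Agent.S9808.cm_of_ringEquiv (e1.symm.trans e2)
  · haveI := h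
    exact Groth.Agent.S9808.cm_of_ringEquiv (e2.symm.trans e1)

/-- the Cohen–Macaulay points of a fibre of a morphism locally of finite type are dense. -/
theorem dense_cm_in_fibre {X S : Scheme.{u}} (f : X ⟶ S) [LocallyOfFiniteType f] (s : S) :
    Dense {z : f.fiber s | IsCohenMacaulayLocalRing ((f.fiber s).presheaf.stalk z)} := by
  haveI : LocallyOfFiniteType (f.fiberToSpecResidueField s) :=
    MorphismProperty.pullback_snd _ _ inferInstance
  haveI : IsLocallyNoetherian (f.fiber s) :=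
    LocallyOfFiniteType.isLocallyNoetherian (f.fiberToSpecResidueField s)
  rw [dense_iff_inter_open]
  intro O hO hne
  obtain ⟨z, hzO, hz⟩ := exists_cm_stalk_mem_open (f.fiber s) O hO hne
  exact ⟨z, hzO, hz⟩

end Groth.Agent.Lib.helper5.CMDense
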