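import Mathlib
import Groth.Agent.S2101
import Groth.Agent.S5777

/-!
# Flatness over a polynomial ring from a regular sequence of variables (helper5)

* `isWeaklyRegular_X_comp`: distinct variables form a weakly regular sequence in `R[σ]`.
* `flat_of_regular_variables`: `κ` a field, `ψ : κ[σ] → BK` with `BK` Noetherian, `Q` a prime of `BK`
  whose contraction to `κ[σ]` is generated by the variables `X (h j)`, `j < d`.  If the images of
  these variables form a weakly regular sequence in `BK_Q` then `BK_Q` is flat over `κ[σ]`.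
-/

set_option autoImplicit false
universe u
open RingTheory.Sequence MvPolynomial IsLocalRing

namespace Groth.Agent.Lib.helper5.CMQF

theorem isWeaklyRegular_X_comp {R : Type*} [CommRing R] {σ : Type*} {d : ℕ} (h : Fin d → σ)
    (hh : Function.Injective h) :
    IsWeaklyRegular (MvPolynomial σ R) (List.ofFn (fun j => (X (h j) : MvPolynomial σ R))) := by
  rw [Groth.Agent.S2101.isWeaklyRegular_ofFn_iff]
  intro i c hc
  unfold Groth.Agent.S2101.II at hc ⊢
  have himg : ((fun j => (X (h j) : MvPolynomial σ R)) '' ((Finset.Iio i : Finset (Fin d)) : Set (Fin d))) =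
      (X : σ → MvPolynomial σ R) '' (h '' ((Finset.Iio i : Finset (Fin d)) : Set (Fin d))) := by
    rw [Set.image_image]
  rw [himg, mem_ideal_span_X_image] at hc ⊢
  intro m hm
  have h1 : Finsupp.single (h i) 1 + m ∈ (X (h i) * c).support := by
    rw [support_X_mul]
    exact Finset.mem_map.2 ⟨m, hm, rfl⟩
  obtain ⟨s, hs, hne⟩ := hc _ h1
  refine ⟨s, hs, ?_⟩
  obtain ⟨j, hj, rfl⟩ := hs
  have hji : j ≠ i := by
    have : j < i := by simpa using hj
    exact ne_of_lt this
  have hne' : h j ≠ h i := fun e => hji (hh e)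
  rw [Finsupp.add_apply, Finsupp.single_eq_of_ne hne', zero_add] at hne
  exact hne

theorem flat_of_regular_variables {κ : Type u} [Field κ] {σ : Type} [Finite σ] {BK : Type u}
    [CommRing BK] [IsNoetherianRing BK] (ψ : MvPolynomial σ κ →+* BK) (Q : Ideal BK) [Q.IsPrime]
    {d : ℕ} (h : Fin d → σ) (hh : Function.Injective h)
    (hQ₀ : Q.comap ψ = Ideal.span (Set.range fun j => (X (h j) : MvPolynomial σ κ)))
    (hreg : IsWeaklyRegular (Localization.AtPrime Q)
      (List.ofFn fun j => algebraMap BK (Localization.AtPrime Q) (ψ (X (h j))))) :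
    letI := ψ.toAlgebra
    Module.Flat (MvPolynomial σ κ) (Localization.AtPrime Q) := by
  letI := ψ.toAlgebra
  set Q₀ : Ideal (MvPolynomial σ κ) := Q.under (MvPolynomial σ κ) with hQ₀def
  have hQ₀' : Q₀ = Ideal.span (Set.range fun j => (X (h j) : MvPolynomial σ κ)) := hQ₀
  haveI : Q.LiesOver Q₀ := ⟨rfl⟩
  letI := Localization.AtPrime.algebraOfLiesOver Q₀ Q
  haveI : IsLocalHom (algebraMap (Localization.AtPrime Q₀) (Localization.AtPrime Q)) :=
    Localization.isLocalHom_localRingHom _ Q (algebraMap (MvPolynomial σ κ) BK) Ideal.LiesOver.over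
  set R₀ := Localization.AtPrime Q₀
  set F := Localization.AtPrime Q
  -- the sequence
  let fs : List R₀ := List.ofFn fun j => algebraMap (MvPolynomial σ κ) R₀ (X (h j))
  have hfs_map : fs = (List.ofFn (fun j => (X (h j) : MvPolynomial σ κ))).map
      (algebraMap (MvPolynomial σ κ) R₀) := by
    rw [List.map_ofFn]
    rfl
  have hfs : ∀ f ∈ fs, f ∈ maximalIdeal R₀ := by
    intro f hf
    obtain ⟨j, rfl⟩ := (List.mem_ofFn' _ _).mp hf
    rw [IsLocalization.AtPrime.to_map_mem_maximal_iff R₀ Q₀, hQ₀']
    exact Ideal.subset_span ⟨j, rfl⟩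
  have hA : IsWeaklyRegular R₀ fs := by
    rw [hfs_map]
    exact IsWeaklyRegular.of_isLocalization R₀ Q₀.primeCompl (isWeaklyRegular_X_comp h hh)
  have hJ : Ideal.ofList fs = maximalIdeal R₀ := by
    rw [hfs_map, ← Ideal.map_ofList, ← IsLocalization.AtPrime.map_eq_maximalIdeal Q₀ R₀]
    congr 1
    refine Eq.trans ?_ hQ₀'.symm
    apply congrArg Ideal.span
    ext x
    simp [List.mem_ofFn']
  have hM : IsWeaklyRegular F fs := by
    rw [← isWeaklyRegular_map_algebraMap_iff F F fs]
    have : fs.map (algebraMap R₀ F) =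
        List.ofFn fun j => algebraMap BK F (ψ (X (h j))) := by
      rw [List.map_ofFn]
      congr 1
      funext j
      change algebraMap R₀ F (algebraMap (MvPolynomial σ κ) R₀ (X (h j))) = _
      rw [← IsScalarTower.algebraMap_apply (MvPolynomial σ κ) R₀ F,
        IsScalarTower.algebraMap_apply (MvPolynomial σ κ) BK F]
      rfl
    rw [this]
    exact hreg
  have hflatq : ∀ J : Ideal R₀, J = maximalIdeal R₀ →
      Module.Flat (R₀ ⧸ J) (F ⧸ (J • ⊤ : Submodule R₀ F)) := by
    intro J hJ
    subst hJ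
    letI : Field (R₀ ⧸ maximalIdeal R₀) := Ideal.Quotient.field _
    infer_instance
  have hflat : Module.Flat R₀ F :=
    (Groth.Agent.S5777.result R₀ F F fs hfs hA).mpr ⟨hflatq _ hJ, hM⟩
  exact Module.Flat.trans (MvPolynomial σ κ) R₀ F

end Groth.Agent.Lib.helper5.CMQF
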