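import Groth.Agent.Lib.Helper5.FibCrit10
import Groth.Agent.Lib.Helper18.LfpCancel
import Groth.Agent.Lib.Helper3.FlatDescI

/-!
# Critère de platitude par fibres, non-Noetherian case (EGA IV 11.3.10/11.3.11) (helper5)

`f : X ⟶ Y`, `g : Y ⟶ S`, `f ≫ g` locally of finite presentation, `g` locally of finite type.

* `flat_of_fibFlatAt` : `(1) ⇒ (2)`.
* `fibFlatAt_of_flat` : `(2) ⇒ (1)`.
* `isOpen_setOf_flat_and_flat` : the locus where `(2)` holds is open.
-/

set_option autoImplicit false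
universe u
open CategoryTheory CategoryTheory.Limits MvPolynomial AlgebraicGeometry

namespace Groth.Agent.Lib.helper5.FibCrit

variable {X Y S : Scheme.{u}}

/-- a local chart: `Y` is replaced by `Spec (R[Y]/J)`, `S` by `Spec R` and `X` by an open
neighbourhood of `x`. -/
theorem exists_chart (f : X ⟶ Y) (g : Y ⟶ S) [LocallyOfFiniteType g]
    [LocallyOfFinitePresentation (f ≫ g)] (x : X) :
    ∃ (R : Type u) (_ : CommRing R) (m : ℕ) (J : Ideal (MvPolynomial (Fin m) R))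
      (U' : Scheme.{u}) (f' : U' ⟶ Spec (CommRingCat.of (MvPolynomial (Fin m) R ⧸ J)))
      (jX : U' ⟶ X) (jY : Spec (CommRingCat.of (MvPolynomial (Fin m) R ⧸ J)) ⟶ Y)
      (jS : Spec (CommRingCat.of R) ⟶ S) (_ : IsOpenImmersion jX) (_ : IsOpenImmersion jY)
      (_ : IsOpenImmersion jS) (u : U'), jX u = x ∧ f' ≫ jY = jX ≫ f ∧
      Spec.map (CommRingCat.ofHom (algebraMap R (MvPolynomial (Fin m) R ⧸ J))) ≫ jS = jY ≫ g ∧
      LocallyOfFinitePresentation
        (f' ≫ Spec.map (CommRingCat.ofHom (algebraMap R (MvPolynomial (Fin m) R ⧸ J)))) := by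
  obtain ⟨_, ⟨W, hW : IsAffineOpen W, rfl⟩, hsW, -⟩ :=
    S.isBasis_affineOpens.exists_subset_of_mem_open (Set.mem_univ (g (f x))) isOpen_univ
  obtain ⟨_, ⟨V, hV : IsAffineOpen V, rfl⟩, hyV, hVW'⟩ :=
    Y.isBasis_affineOpens.exists_subset_of_mem_open (show f x ∈ (g ⁻¹ᵁ W : Set Y) from hsW)
      (g ⁻¹ᵁ W).isOpen
  have hVW : V ≤ g ⁻¹ᵁ W := hVW'
  have hρ : (g.appLE W V hVW).hom.FiniteType :=
    HasRingHomProperty.appLE @LocallyOfFiniteType g inferInstance ⟨W, hW⟩ ⟨V, hV⟩ hVW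
  letI algA : Algebra Γ(S, W) Γ(Y, V) := (g.appLE W V hVW).hom.toAlgebra
  haveI : Algebra.FiniteType Γ(S, W) Γ(Y, V) := hρ
  obtain ⟨m, π, hπ⟩ := Algebra.FiniteType.iff_quotient_mvPolynomial''.mp
    (inferInstance : Algebra.FiniteType Γ(S, W) Γ(Y, V))
  let J : Ideal (MvPolynomial (Fin m) Γ(S, W)) := RingHom.ker π.toRingHom
  let eA : (MvPolynomial (Fin m) Γ(S, W) ⧸ J) ≃+* Γ(Y, V) :=
    RingHom.quotientKerEquivOfSurjective (f := π.toRingHom) hπ
  let isoA : CommRingCat.of (MvPolynomial (Fin m) Γ(S, W) ⧸ J) ≅ Γ(Y, V) := eA.toCommRingCatIso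
  have hA : CommRingCat.ofHom (algebraMap Γ(S, W) (MvPolynomial (Fin m) Γ(S, W) ⧸ J)) ≫ isoA.hom =
      g.appLE W V hVW := by
    apply CommRingCat.hom_ext
    refine RingHom.ext fun r => ?_
    change π (MvPolynomial.C r) = _
    rw [← MvPolynomial.algebraMap_eq, AlgHom.commutes]
    rfl
  let jS : Spec (CommRingCat.of Γ(S, W)) ⟶ S := hW.fromSpec
  let jY : Spec (CommRingCat.of (MvPolynomial (Fin m) Γ(S, W) ⧸ J)) ⟶ Y :=
    Spec.map isoA.inv ≫ hV.fromSpec
  let jX : (f ⁻¹ᵁ V : Scheme.{u}) ⟶ X := (f ⁻¹ᵁ V).ι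
  let f' : (f ⁻¹ᵁ V : Scheme.{u}) ⟶ Spec (CommRingCat.of (MvPolynomial (Fin m) Γ(S, W) ⧸ J)) :=
    (f ∣_ V) ≫ hV.isoSpec.hom ≫ Spec.map isoA.hom
  haveI : IsOpenImmersion jS := inferInstanceAs (IsOpenImmersion hW.fromSpec)
  haveI : IsOpenImmersion jY := inferInstanceAs (IsOpenImmersion (Spec.map isoA.inv ≫ hV.fromSpec))
  haveI : IsOpenImmersion jX := inferInstanceAs (IsOpenImmersion (f ⁻¹ᵁ V).ι)
  have wg : Spec.map (CommRingCat.ofHom (algebraMap Γ(S, W)
      (MvPolynomial (Fin m) Γ(S, W) ⧸ J))) ≫ jS = jY ≫ g := by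
    change _ = (Spec.map isoA.inv ≫ hV.fromSpec) ≫ g
    rw [Category.assoc, ← IsAffineOpen.SpecMap_appLE_fromSpec g hW hV hVW, ← Category.assoc,
      ← Spec.map_comp, ← hA, Category.assoc, Iso.hom_inv_id, Category.comp_id]
  have wf : f' ≫ jY = jX ≫ f := by
    change ((f ∣_ V) ≫ hV.isoSpec.hom ≫ Spec.map isoA.hom) ≫ (Spec.map isoA.inv ≫ hV.fromSpec) =
      (f ⁻¹ᵁ V).ι ≫ f
    rw [← morphismRestrict_ι, ← hV.isoSpec_hom_fromSpec]
    simp only [Category.assoc]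
    congr 2
    rw [← Category.assoc, ← Spec.map_comp, Iso.inv_hom_id, Spec.map_id, Category.id_comp]
  refine ⟨Γ(S, W), inferInstance, m, J, _, f', jX, jY, jS, inferInstance, inferInstance,
    inferInstance, ⟨x, hyV⟩, rfl, wf, wg, ?_⟩
  refine Groth.Agent.Lib.Helper18.RelSmoothFiber.locallyOfFinitePresentation_of_comp _ jS
    inferInstance ?_
  rw [Category.assoc, wg, ← Category.assoc, wf, Category.assoc]
  infer_instance

/-- **Critère de platitude par fibres**, `(1) ⇒ (2)`, no Noetherian hypothesis. -/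
theorem flat_of_fibFlatAt (f : X ⟶ Y) (g : Y ⟶ S) [LocallyOfFiniteType g]
    [LocallyOfFinitePresentation (f ≫ g)] (x : X)
    (hfl : ((f ≫ g).stalkMap x).hom.Flat) (hfib : FibFlatAt f g x) :
    (g.stalkMap (f x)).hom.Flat ∧ (f.stalkMap x).hom.Flat := by
  obtain ⟨R, _, m, J, U', f', jX, jY, jS, _, _, _, u, rfl, wf, wg, hlfp⟩ := exists_chart f g x
  haveI := hlfp
  have wfg : (f' ≫ Spec.map (CommRingCat.ofHom (algebraMap R (MvPolynomial (Fin m) R ⧸ J)))) ≫ jS =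
      jX ≫ (f ≫ g) := by
    rw [Category.assoc, wg, ← Category.assoc, wf, Category.assoc]
  have hfl' := (flat_stalkMap_iff_of_openImmersions (f ≫ g) _ jX jS wfg u).mp hfl
  have hfib' := (fibFlatAt_iff_of_openImmersions f g _ _ jX jY jS wf wg u).mp hfib
  obtain ⟨k1, k2⟩ := flat_of_fibFlatAt_quotient J f' u hfl' hfib'
  refine ⟨?_, (flat_stalkMap_iff_of_openImmersions f _ jX jY wf u).mpr k2⟩
  have hpt : jY (f' u) = f (jX u) := by
    rw [← Scheme.Hom.comp_apply, ← Scheme.Hom.comp_apply, wf]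
  rw [← hpt]
  exact (flat_stalkMap_iff_of_openImmersions g _ jY jS wg _).mpr k1

/-- `(2) ⇒ (1)`. -/
theorem fibFlatAt_of_flat (f : X ⟶ Y) (g : Y ⟶ S) (x : X) (hf : (f.stalkMap x).hom.Flat) :
    FibFlatAt f g x := by
  have key : ((MoreMor.fiberMap f g ((f ≫ g) x)).stalkMap ((f ≫ g).asFiber x)).hom.Flat := by
    refine Groth.Agent.Lib.helper17.FlatStalkBC.flat_stalkMap_of_isPullback
      (isPullback_fiberMap f g ((f ≫ g) x)).flip _ ?_
    rw [Scheme.Hom.fiberι_asFiber]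
    exact hf
  exact key

/-- the locus where `g` is flat at `f x` and `f` is flat at `x` is open. -/
theorem isOpen_setOf_flat_and_flat (f : X ⟶ Y) (g : Y ⟶ S) [LocallyOfFiniteType g]
    [LocallyOfFinitePresentation (f ≫ g)] :
    IsOpen {x : X | (g.stalkMap (f x)).hom.Flat ∧ (f.stalkMap x).hom.Flat} := by
  rw [isOpen_iff_forall_mem_open]
  rintro x ⟨hx1, hx2⟩
  obtain ⟨R, _, m, J, U', f', jX, jY, jS, _, _, _, u, rfl, wf, wg, hlfp⟩ := exists_chart f g x
  haveI := hlfp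
  set g'' := Spec.map (CommRingCat.ofHom (algebraMap R (MvPolynomial (Fin m) R ⧸ J))) with hg''
  have wfg : (f' ≫ g'') ≫ jS = jX ≫ (f ≫ g) := by
    rw [Category.assoc, wg, ← Category.assoc, wf, Category.assoc]
  have hfl : ((f ≫ g).stalkMap (jX u)).hom.Flat := flat_stalkMap_comp f g _ hx2 hx1
  have hfl' := (flat_stalkMap_iff_of_openImmersions (f ≫ g) _ jX jS wfg u).mp hfl
  have hfib' := (fibFlatAt_iff_of_openImmersions f g _ _ jX jY jS wf wg u).mp
    (fibFlatAt_of_flat f g _ hx2)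
  obtain ⟨J', hle, hJ'fg, h1, h2⟩ := exists_fp_model_flat J f' u hfl' hfib'
  set i := Spec.map (CommRingCat.ofHom (Ideal.Quotient.factor hle)) with hi
  set g' := Spec.map (CommRingCat.ofHom (algebraMap R (MvPolynomial (Fin m) R ⧸ J'))) with hg'
  haveI : Algebra.FinitePresentation R (MvPolynomial (Fin m) R ⧸ J') :=
    Algebra.FinitePresentation.quotient hJ'fg
  haveI : LocallyOfFinitePresentation g' := by
    rw [LocallyOfFinitePresentation.SpecMap_iff]
    exact RingHom.finitePresentation_algebraMap.mpr inferInstance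
  haveI : LocallyOfFinitePresentation (f' ≫ i) := by
    refine Groth.Agent.Lib.Helper18.RelSmoothFiber.locallyOfFinitePresentation_of_comp _ g'
      inferInstance ?_
    rw [Category.assoc, factor_comp_algebraMap J J' hle]
    infer_instance
  have hO1 : IsOpen {v : U' | ((f' ≫ i).stalkMap v).hom.Flat} :=
    Groth.Agent.Lib.helper3.FlatDesc.isOpen_flatLocus_of_locallyOfFinitePresentation (f' ≫ i)
  have hO2 : IsOpen ((f' ≫ i) ⁻¹' {y | (g'.stalkMap y).hom.Flat}) :=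
    (Groth.Agent.Lib.helper3.FlatDesc.isOpen_flatLocus_of_locallyOfFinitePresentation g').preimage
      (f' ≫ i).continuous
  refine ⟨jX '' ({v : U' | ((f' ≫ i).stalkMap v).hom.Flat} ∩
    ((f' ≫ i) ⁻¹' {y | (g'.stalkMap y).hom.Flat})), ?_, jX.isOpenEmbedding.isOpenMap _
      (hO1.inter hO2), ⟨u, ⟨h1, h2⟩, rfl⟩⟩
  rintro _ ⟨v, ⟨hv1, hv2⟩, rfl⟩
  obtain ⟨k1, k2⟩ := flat_of_flat_factor J J' hle f' v hv1 hv2
  refine ⟨?_, (flat_stalkMap_iff_of_openImmersions f _ jX jY wf v).mpr k2⟩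
  have hpt : jY (f' v) = f (jX v) := by
    rw [← Scheme.Hom.comp_apply, ← Scheme.Hom.comp_apply, wf]
  rw [← hpt]
  exact (flat_stalkMap_iff_of_openImmersions g _ jY jS wg _).mpr k1

end Groth.Agent.Lib.helper5.FibCrit
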