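import Mathlib
import Groth.Agent.Lib.Helper5.FibCrit11

/-!
# The fibre criterion of flatness, ring form (helper5)

For ring maps `A → P → B` (`P` of finite type, `B` of finite presentation over `A`), a field `K`
over `A` and *any* base changes `P_K`, `B_K` (pushout squares), and a prime `z` of `B_K` with image
`x` in `Spec B`:

* `fibFlatAt_SpecMap_iff`: `FibFlatAt` of `Spec B ⟶ Spec P ⟶ Spec A` at `x` iff `(B_K)_z` is flat over
  `P_K`;
* `flat_of_fibre_flat`: if `B_x` is flat over `A` and `(B_K)_z` is flat over `P_K` then `B_x` is flat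
  over `P`;
* `fibre_flat_of_flat`: if `B_x` is flat over `P` then `(B_K)_z` is flat over `P_K`.
-/

set_option autoImplicit false
universe u
open CategoryTheory CategoryTheory.Limits AlgebraicGeometry

namespace Groth.Agent.Lib.helper5.CMQF

open Groth.Agent.Lib.helper5.FibCrit

theorem flat_stalkMap_SpecMap_iff {P B : Type u} [CommRing P] [CommRing B] (φ : P →+* B)
    (x : Spec (CommRingCat.of B)) :
    ((Spec.map (CommRingCat.ofHom φ)).stalkMap x).hom.Flat ↔
      (letI := φ.toAlgebra
       Module.Flat P (Localization.AtPrime x.asIdeal)) := by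
  letI := φ.toAlgebra
  exact flat_stalkMap_Spec_iff (R := P) (A := B) x

variable {A P B K PK BK : Type u} [CommRing A] [CommRing P] [CommRing B] [Field K] [CommRing PK]
  [CommRing BK]
  (α : A →+* P) (φ : P →+* B) (ι : A →+* K) (αK : K →+* PK) (ιP : P →+* PK) (ιB : B →+* BK)
  (ψ : PK →+* BK)

include α φ ι αK ιP ιB ψ in
theorem fibFlatAt_SpecMap_iff
    (sq1 : IsPushout (CommRingCat.ofHom α) (CommRingCat.ofHom ι) (CommRingCat.ofHom ιP)
      (CommRingCat.ofHom αK))
    (sq2 : IsPushout (CommRingCat.ofHom (φ.comp α)) (CommRingCat.ofHom ι) (CommRingCat.ofHom ιB)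
      (CommRingCat.ofHom (ψ.comp αK)))
    (hcomm : ψ.comp ιP = ιB.comp φ) (z : Spec (CommRingCat.of BK)) :
    FibFlatAt (Spec.map (CommRingCat.ofHom φ)) (Spec.map (CommRingCat.ofHom α))
        (Spec.map (CommRingCat.ofHom ιB) z) ↔
      (letI := ψ.toAlgebra
       Module.Flat PK (Localization.AtPrime z.asIdeal)) := by
  have sqV : IsPullback (Spec.map (CommRingCat.ofHom ιP)) (Spec.map (CommRingCat.ofHom αK))
      (Spec.map (CommRingCat.ofHom α)) (Spec.map (CommRingCat.ofHom ι)) :=
    isPullback_SpecMap_of_isPushout _ _ _ _ sq1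
  have big : IsPullback (Spec.map (CommRingCat.ofHom ιB))
      (Spec.map (CommRingCat.ofHom ψ) ≫ Spec.map (CommRingCat.ofHom αK))
      (Spec.map (CommRingCat.ofHom φ) ≫ Spec.map (CommRingCat.ofHom α))
      (Spec.map (CommRingCat.ofHom ι)) := by
    rw [← Spec.map_comp, ← Spec.map_comp, ← CommRingCat.ofHom_comp, ← CommRingCat.ofHom_comp]
    exact isPullback_SpecMap_of_isPushout _ _ _ _ sq2
  have comm : Spec.map (CommRingCat.ofHom ιB) ≫ Spec.map (CommRingCat.ofHom φ) =
      Spec.map (CommRingCat.ofHom ψ) ≫ Spec.map (CommRingCat.ofHom ιP) := by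
    rw [← Spec.map_comp, ← Spec.map_comp, ← CommRingCat.ofHom_comp, ← CommRingCat.ofHom_comp, hcomm]
  have sqU := IsPullback.of_bot big comm sqV
  rw [← fibFlatAt_iff_of_isPullback (Spec.map (CommRingCat.ofHom φ))
    (Spec.map (CommRingCat.ofHom α)) (Spec.map (CommRingCat.ofHom ι))
    (Spec.map (CommRingCat.ofHom ιP)) (Spec.map (CommRingCat.ofHom αK)) sqV
    (Spec.map (CommRingCat.ofHom ιB)) (Spec.map (CommRingCat.ofHom ψ)) sqU z]
  exact flat_stalkMap_SpecMap_iff ψ z

include α φ ι αK ιP ιB ψ in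
/-- **Critère de platitude par fibres**, ring form. -/
theorem flat_of_fibre_flat (hα : α.FiniteType) (hφα : (φ.comp α).FinitePresentation)
    (sq1 : IsPushout (CommRingCat.ofHom α) (CommRingCat.ofHom ι) (CommRingCat.ofHom ιP)
      (CommRingCat.ofHom αK))
    (sq2 : IsPushout (CommRingCat.ofHom (φ.comp α)) (CommRingCat.ofHom ι) (CommRingCat.ofHom ιB)
      (CommRingCat.ofHom (ψ.comp αK)))
    (hcomm : ψ.comp ιP = ιB.comp φ) (z : Spec (CommRingCat.of BK))
    (hfl : letI := (φ.comp α).toAlgebra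
           Module.Flat A (Localization.AtPrime (Spec.map (CommRingCat.ofHom ιB) z).asIdeal))
    (hfib : letI := ψ.toAlgebra
            Module.Flat PK (Localization.AtPrime z.asIdeal)) :
    letI := φ.toAlgebra
    Module.Flat P (Localization.AtPrime (Spec.map (CommRingCat.ofHom ιB) z).asIdeal) := by
  set x := Spec.map (CommRingCat.ofHom ιB) z with hx
  haveI : LocallyOfFiniteType (Spec.map (CommRingCat.ofHom α)) := by
    rw [HasRingHomProperty.Spec_iff (P := @LocallyOfFiniteType)]
    exact hα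
  have hcomp : Spec.map (CommRingCat.ofHom φ) ≫ Spec.map (CommRingCat.ofHom α) =
      Spec.map (CommRingCat.ofHom (φ.comp α)) := by
    rw [← Spec.map_comp, ← CommRingCat.ofHom_comp]
  haveI : LocallyOfFinitePresentation
      (Spec.map (CommRingCat.ofHom φ) ≫ Spec.map (CommRingCat.ofHom α)) := by
    rw [hcomp, HasRingHomProperty.Spec_iff (P := @LocallyOfFinitePresentation)]
    exact hφα
  have h1 : ((Spec.map (CommRingCat.ofHom φ) ≫ Spec.map (CommRingCat.ofHom α)).stalkMap x).hom.Flat := by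
    rw [flat_stalkMap_congr hcomp, flat_stalkMap_SpecMap_iff]
    exact hfl
  have h2 := (fibFlatAt_SpecMap_iff α φ ι αK ιP ιB ψ sq1 sq2 hcomm z).mpr hfib
  exact (flat_stalkMap_SpecMap_iff φ x).mp (flat_of_fibFlatAt _ _ x h1 h2).2

include α φ ι αK ιP ιB ψ in
/-- flatness passes to the fibres. -/
theorem fibre_flat_of_flat
    (sq1 : IsPushout (CommRingCat.ofHom α) (CommRingCat.ofHom ι) (CommRingCat.ofHom ιP)
      (CommRingCat.ofHom αK))
    (sq2 : IsPushout (CommRingCat.ofHom (φ.comp α)) (CommRingCat.ofHom ι) (CommRingCat.ofHom ιB)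
      (CommRingCat.ofHom (ψ.comp αK)))
    (hcomm : ψ.comp ιP = ιB.comp φ) (z : Spec (CommRingCat.of BK))
    (hfl : letI := φ.toAlgebra
           Module.Flat P (Localization.AtPrime (Spec.map (CommRingCat.ofHom ιB) z).asIdeal)) :
    letI := ψ.toAlgebra
    Module.Flat PK (Localization.AtPrime z.asIdeal) := by
  refine (fibFlatAt_SpecMap_iff α φ ι αK ιP ιB ψ sq1 sq2 hcomm z).mp ?_
  exact fibFlatAt_of_flat _ _ _ ((flat_stalkMap_SpecMap_iff φ _).mpr hfl)

end Groth.Agent.Lib.helper5.CMQF
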