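import Mathlib
import Groth.Agent.Lib.Helper5.CMQF1

/-!
# The fibre criterion for `A[σ] → B` (helper5)

`A → B` an algebra, `zs : σ → B`, `p` a prime of `A` with residue field `κ`.  The fibre of
`Spec B ⟶ 𝔸^σ_A` over `p` is `Spec (κ ⊗ B) ⟶ Spec κ[σ]`, given by `fibEval p zs`.

* `isPushout_mvPolynomial`: `κ[σ]` is the base change of `A[σ]`.
* `flat_aeval_of_fibre`: the fibre criterion in this situation.
* `fibre_flat_of_flat_aeval`: the converse.
-/

set_option autoImplicit false
universe u
open CategoryTheory CategoryTheory.Limits AlgebraicGeometry TensorProduct MvPolynomial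

namespace Groth.Agent.Lib.helper5.CMQF

section Poly

variable {A K : Type u} [CommRing A] [CommRing K] (ι : A →+* K) (σ : Type)

theorem isPushout_mvPolynomial :
    IsPushout (CommRingCat.ofHom (C : A →+* MvPolynomial σ A)) (CommRingCat.ofHom ι)
      (CommRingCat.ofHom (MvPolynomial.map ι : MvPolynomial σ A →+* MvPolynomial σ K))
      (CommRingCat.ofHom (C : K →+* MvPolynomial σ K)) := by
  have w : CommRingCat.ofHom (C : A →+* MvPolynomial σ A) ≫
      CommRingCat.ofHom (MvPolynomial.map ι : MvPolynomial σ A →+* MvPolynomial σ K) =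
      CommRingCat.ofHom ι ≫ CommRingCat.ofHom (C : K →+* MvPolynomial σ K) := by
    ext a
    simp
  have hcond : ∀ s : PushoutCocone (CommRingCat.ofHom (C : A →+* MvPolynomial σ A))
      (CommRingCat.ofHom ι), s.inl.hom.comp C = s.inr.hom.comp ι := by
    intro s
    have := s.condition
    exact congr(($this).hom)
  refine ⟨⟨w⟩, ⟨PushoutCocone.IsColimit.mk w
    (fun s => CommRingCat.ofHom (eval₂Hom s.inr.hom (fun i => s.inl.hom (X i))))
    (fun s => ?_) (fun s => ?_) (fun s m h₁ h₂ => ?_)⟩⟩
  · apply CommRingCat.hom_ext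
    apply MvPolynomial.ringHom_ext
    · intro a
      have := congr($(hcond s) a)
      simpa using this.symm
    · intro i
      simp
  · apply CommRingCat.hom_ext
    refine RingHom.ext fun k => ?_
    simp
  · apply CommRingCat.hom_ext
    apply MvPolynomial.ringHom_ext
    · intro k
      have := congr(($h₂).hom k)
      simpa using this
    · intro i
      have := congr(($h₁).hom (X i))
      simpa using this

end Poly

section Fibre

variable {A B : Type u} [CommRing A] [CommRing B] [Algebra A B] (p : Ideal A) [p.IsPrime]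
  {σ : Type} (zs : σ → B)

/-- the fibre of `aeval zs : A[σ] → B` over `p`. -/
noncomputable def fibEval : MvPolynomial σ p.ResidueField →ₐ[p.ResidueField] p.Fiber B :=
  MvPolynomial.aeval (fun i => (1 : p.ResidueField) ⊗ₜ[A] zs i)

@[simp] theorem fibEval_X (i : σ) : fibEval p zs (X i) = (1 : p.ResidueField) ⊗ₜ[A] zs i := by
  simp [fibEval]

@[simp] theorem fibEval_C (k : p.ResidueField) : fibEval p zs (C k) = k ⊗ₜ[A] (1 : B) := by
  rw [fibEval, MvPolynomial.aeval_C]
  rfl

theorem fibEval_comp_map :
    (fibEval p zs).toRingHom.comp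
        (MvPolynomial.map (algebraMap A p.ResidueField) : MvPolynomial σ A →+* _) =
      (Algebra.TensorProduct.includeRight : B →ₐ[A] p.Fiber B).toRingHom.comp
        (MvPolynomial.aeval zs : MvPolynomial σ A →ₐ[A] B).toRingHom := by
  apply MvPolynomial.ringHom_ext
  · intro a
    simp only [AlgHom.toRingHom_eq_coe, RingHom.coe_comp, RingHom.coe_coe, Function.comp_apply,
      MvPolynomial.map_C, fibEval_C, MvPolynomial.aeval_C,
      Algebra.TensorProduct.includeRight_apply]
    rw [Algebra.algebraMap_eq_smul_one, Algebra.algebraMap_eq_smul_one, TensorProduct.smul_tmul]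
  · intro i
    simp

theorem isPushout_fiber :
    IsPushout (CommRingCat.ofHom (algebraMap A B)) (CommRingCat.ofHom (algebraMap A p.ResidueField))
      (CommRingCat.ofHom (Algebra.TensorProduct.includeRight : B →ₐ[A] p.Fiber B).toRingHom)
      (CommRingCat.ofHom (Algebra.TensorProduct.includeLeftRingHom :
        p.ResidueField →+* p.Fiber B)) :=
  (CommRingCat.isPushout_tensorProduct A p.ResidueField B).flip

variable [Finite σ]

/-- **The fibre criterion for `A[σ] → B`.** -/
theorem flat_aeval_of_fibre [Algebra.FinitePresentation A B] (Q : Ideal (p.Fiber B)) [Q.IsPrime]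
    (hfl : Module.Flat A (Localization.AtPrime
      (Q.comap (Algebra.TensorProduct.includeRight : B →ₐ[A] p.Fiber B).toRingHom)))
    (hfib : letI := (fibEval p zs).toRingHom.toAlgebra
            Module.Flat (MvPolynomial σ p.ResidueField) (Localization.AtPrime Q)) :
    letI := (MvPolynomial.aeval zs : MvPolynomial σ A →ₐ[A] B).toRingHom.toAlgebra
    Module.Flat (MvPolynomial σ A) (Localization.AtPrime
      (Q.comap (Algebra.TensorProduct.includeRight : B →ₐ[A] p.Fiber B).toRingHom)) := by
  have hcomp : (MvPolynomial.aeval zs : MvPolynomial σ A →ₐ[A] B).toRingHom.comp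
      (C : A →+* MvPolynomial σ A) = algebraMap A B := by
    ext a
    simp
  have hcomp2 : (fibEval p zs).toRingHom.comp (C : p.ResidueField →+* _) =
      (Algebra.TensorProduct.includeLeftRingHom : p.ResidueField →+* p.Fiber B) := by
    ext k
    simp
  refine flat_of_fibre_flat (C : A →+* MvPolynomial σ A)
    (MvPolynomial.aeval zs : MvPolynomial σ A →ₐ[A] B).toRingHom (algebraMap A p.ResidueField)
    (C : p.ResidueField →+* _) (MvPolynomial.map (algebraMap A p.ResidueField))
    (Algebra.TensorProduct.includeRight : B →ₐ[A] p.Fiber B).toRingHom (fibEval p zs).toRingHom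
    ?_ ?_ (isPushout_mvPolynomial _ σ) ?_ (fibEval_comp_map p zs) ⟨Q, inferInstance⟩ ?_ hfib
  · exact RingHom.finiteType_algebraMap.mpr (inferInstance :
      Algebra.FiniteType A (MvPolynomial σ A))
  · rw [hcomp]
    exact RingHom.finitePresentation_algebraMap.mpr inferInstance
  · rw [hcomp, hcomp2]
    exact isPushout_fiber p
  · have h : ((MvPolynomial.aeval zs : MvPolynomial σ A →ₐ[A] B).toRingHom.comp
        (C : A →+* MvPolynomial σ A)).toAlgebra = ‹Algebra A B› :=
      Algebra.algebra_ext _ _ (fun r => congr($hcomp r))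
    rw [h]
    exact hfl

/-- flatness of `A[σ] → B` at a point passes to the fibre. -/
theorem fibre_flat_of_flat_aeval (Q : Ideal (p.Fiber B)) [Q.IsPrime]
    (hfl : letI := (MvPolynomial.aeval zs : MvPolynomial σ A →ₐ[A] B).toRingHom.toAlgebra
      Module.Flat (MvPolynomial σ A) (Localization.AtPrime
        (Q.comap (Algebra.TensorProduct.includeRight : B →ₐ[A] p.Fiber B).toRingHom))) :
    letI := (fibEval p zs).toRingHom.toAlgebra
    Module.Flat (MvPolynomial σ p.ResidueField) (Localization.AtPrime Q) := by
  have hcomp : (MvPolynomial.aeval zs : MvPolynomial σ A →ₐ[A] B).toRingHom.comp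
      (C : A →+* MvPolynomial σ A) = algebraMap A B := by
    ext a
    simp
  have hcomp2 : (fibEval p zs).toRingHom.comp (C : p.ResidueField →+* _) =
      (Algebra.TensorProduct.includeLeftRingHom : p.ResidueField →+* p.Fiber B) := by
    ext k
    simp
  refine fibre_flat_of_flat (C : A →+* MvPolynomial σ A)
    (MvPolynomial.aeval zs : MvPolynomial σ A →ₐ[A] B).toRingHom (algebraMap A p.ResidueField)
    (C : p.ResidueField →+* _) (MvPolynomial.map (algebraMap A p.ResidueField))
    (Algebra.TensorProduct.includeRight : B →ₐ[A] p.Fiber B).toRingHom (fibEval p zs).toRingHom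
    (isPushout_mvPolynomial _ σ) ?_ (fibEval_comp_map p zs) ⟨Q, inferInstance⟩ hfl
  rw [hcomp, hcomp2]
  exact isPushout_fiber p

end Fibre

end Groth.Agent.Lib.helper5.CMQF
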