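import Mathlib
import Groth.Agent.Lib.Helper5.CMQF2

/-!
# The contraction of a fibre prime to the polynomial ring (helper5)

* `ker_aeval_eq_span`: if `w s = 0` for `s ∈ S` and the `w s`, `s ∉ S`, are algebraically
  independent, then the kernel of `aeval w : R[σ] → D` is generated by the variables in `S`.
* `comap_fibEval_eq_span`: the same for the fibre `κ[σ] → κ ⊗ B` of `A[σ] → B` at a prime `Q` over
  `q`, given algebraic independence over `A/p` in `B/q`.
-/

set_option autoImplicit false
universe u
open TensorProduct MvPolynomial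

namespace Groth.Agent.Lib.helper5.CMQF

section Ker

variable {R D : Type*} [CommRing R] [CommRing D] [Algebra R D] {σ : Type*} (w : σ → D) (S : Set σ)

open Classical in
/-- kill the variables in `S`. -/
noncomputable def killVars : MvPolynomial σ R →ₐ[R] MvPolynomial σ R :=
  aeval (fun s => if s ∈ S then 0 else X s)

open Classical in
/-- kill the variables in `S`, landing in the polynomial ring on the complement. -/
noncomputable def killVars' : MvPolynomial σ R →ₐ[R] MvPolynomial {s // s ∉ S} R :=
  aeval (fun s => if h : s ∈ S then 0 else X ⟨s, h⟩)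

theorem sub_killVars_mem (u : MvPolynomial σ R) :
    u - killVars (R := R) S u ∈ Ideal.span ((X : σ → MvPolynomial σ R) '' S) := by
  classical
  induction u using MvPolynomial.induction_on with
  | C a => simp [killVars]
  | add u v hu hv =>
    rw [map_add]
    have : u + v - (killVars S u + killVars S v) = (u - killVars S u) + (v - killVars S v) := by
      ring
    rw [this]
    exact Ideal.add_mem _ hu hv
  | mul_X u s hu =>
    rw [map_mul]
    by_cases hs : s ∈ S
    · have h1 : killVars (R := R) S (X s) = 0 := by simp [killVars, hs]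
      rw [h1, mul_zero, sub_zero]
      exact Ideal.mul_mem_left _ _ (Ideal.subset_span ⟨s, hs, rfl⟩)
    · have h1 : killVars (R := R) S (X s) = X s := by simp [killVars, hs]
      rw [h1, ← sub_mul]
      exact Ideal.mul_mem_right _ _ hu

theorem killVars_eq_rename (u : MvPolynomial σ R) :
    killVars (R := R) S u = rename (Subtype.val : {s // s ∉ S} → σ) (killVars' S u) := by
  classical
  have : (killVars (R := R) S) = (rename (Subtype.val : {s // s ∉ S} → σ)).comp (killVars' S) := by
    apply MvPolynomial.algHom_ext
    intro s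
    by_cases hs : s ∈ S
    · simp [killVars, killVars', hs]
    · simp [killVars, killVars', hs]
  rw [this]
  rfl

theorem ker_aeval_eq_span (hS : ∀ s ∈ S, w s = 0)
    (hind : AlgebraicIndependent R (fun s : {s // s ∉ S} => w s)) :
    RingHom.ker (aeval w : MvPolynomial σ R →ₐ[R] D) =
      Ideal.span ((X : σ → MvPolynomial σ R) '' S) := by
  classical
  apply le_antisymm
  · intro u hu
    rw [RingHom.mem_ker] at hu
    have h1 : (aeval w).comp (killVars (R := R) S) = (aeval w : MvPolynomial σ R →ₐ[R] D) := by
      apply MvPolynomial.algHom_ext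
      intro s
      by_cases hs : s ∈ S
      · simp [killVars, hs, hS s hs]
      · simp [killVars, hs]
    have h2 : aeval w (killVars (R := R) S u) = 0 := by
      have := congrArg (fun f => f u) h1
      simp only [AlgHom.comp_apply] at this
      rw [this, hu]
    rw [killVars_eq_rename, aeval_rename] at h2
    have h3 : killVars' (R := R) S u = 0 := by
      have hinj : Function.Injective (aeval (fun s : {s // s ∉ S} => w s) :
          MvPolynomial {s // s ∉ S} R →ₐ[R] D) := hind
      apply hinj
      rw [map_zero]
      exact h2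
    have h4 : killVars (R := R) S u = 0 := by rw [killVars_eq_rename, h3, map_zero]
    have := sub_killVars_mem (R := R) S u
    rwa [h4, sub_zero] at this
  · rw [Ideal.span_le]
    rintro _ ⟨s, hs, rfl⟩
    rw [SetLike.mem_coe, RingHom.mem_ker, aeval_X, hS s hs]

end Ker

section Fib

variable {A B : Type u} [CommRing A] [CommRing B] [Algebra A B] (p : Ideal A) [p.IsPrime]
  (q : Ideal B) [q.IsPrime] [q.LiesOver p] {σ : Type} (zs : σ → B) (S : Set σ)

attribute [local instance] MvPolynomial.algebraMvPolynomial

theorem comap_fibEval_eq_span (Q : Ideal (p.Fiber B)) [Q.IsPrime]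
    (hQ : Q.comap (Algebra.TensorProduct.includeRight : B →ₐ[A] p.Fiber B).toRingHom = q)
    (hS : ∀ s ∈ S, zs s ∈ q)
    (hind : AlgebraicIndependent (A ⧸ p)
      (fun s : {s // s ∉ S} => (Ideal.Quotient.mk q (zs s) : B ⧸ q))) :
    Q.comap (fibEval p zs).toRingHom =
      Ideal.span ((X : σ → MvPolynomial σ p.ResidueField) '' S) := by
  set ιB : B →+* p.Fiber B :=
    (Algebra.TensorProduct.includeRight : B →ₐ[A] p.Fiber B).toRingHom with hιB
  -- the kernel over `A/p`
  have hker := ker_aeval_eq_span (R := A ⧸ p) (D := B ⧸ q)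
    (fun s => (Ideal.Quotient.mk q (zs s) : B ⧸ q)) S
    (fun s hs => Ideal.Quotient.eq_zero_iff_mem.mpr (hS s hs)) hind
  -- the injection `B/q → (κ ⊗ B)/Q`
  let θ : B ⧸ q →+* p.Fiber B ⧸ Q := Ideal.quotientMap Q ιB (le_of_eq hQ.symm)
  have hθ : Function.Injective θ := Ideal.quotientMap_injective' (le_of_eq hQ)
  have hcompat : ((Ideal.Quotient.mk Q).comp (fibEval p zs).toRingHom).comp
      (MvPolynomial.map (algebraMap (A ⧸ p) p.ResidueField)) =
      θ.comp (aeval (fun s => (Ideal.Quotient.mk q (zs s) : B ⧸ q)) :
        MvPolynomial σ (A ⧸ p) →ₐ[A ⧸ p] B ⧸ q).toRingHom := by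
    apply MvPolynomial.ringHom_ext
    · intro a
      obtain ⟨a, rfl⟩ := Ideal.Quotient.mk_surjective a
      simp only [AlgHom.toRingHom_eq_coe, RingHom.coe_comp, RingHom.coe_coe, Function.comp_apply,
        MvPolynomial.map_C, fibEval_C, aeval_C, Ideal.algebraMap_quotient_residueField_mk]
      have h1 : algebraMap (A ⧸ p) (B ⧸ q) (Ideal.Quotient.mk p a) =
          Ideal.Quotient.mk q (algebraMap A B a) := rfl
      rw [h1]
      change _ = Ideal.Quotient.mk Q (ιB (algebraMap A B a))
      congr 1
      rw [hιB]
      change _ = (1 : p.ResidueField) ⊗ₜ[A] (algebraMap A B a)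
      rw [Algebra.algebraMap_eq_smul_one, Algebra.algebraMap_eq_smul_one, TensorProduct.smul_tmul]
    · intro s
      simp only [AlgHom.toRingHom_eq_coe, RingHom.coe_comp, RingHom.coe_coe, Function.comp_apply,
        MvPolynomial.map_X, fibEval_X, aeval_X]
      rfl
  -- contraction to `(A/p)[σ]`
  have hunder : (Q.comap (fibEval p zs).toRingHom).under (MvPolynomial σ (A ⧸ p)) =
      Ideal.span ((X : σ → MvPolynomial σ (A ⧸ p)) '' S) := by
    rw [← hker]
    ext u
    rw [Ideal.under, Ideal.mem_comap, Ideal.mem_comap, RingHom.mem_ker,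
      ← Ideal.Quotient.eq_zero_iff_mem]
    have := congrArg (fun f => f u) hcompat
    simp only [RingHom.comp_apply] at this
    rw [MvPolynomial.algebraMap_def, this]
    constructor
    · intro h0
      apply hθ
      rw [map_zero]
      exact h0
    · intro h0
      have h0' : (aeval (fun s => (Ideal.Quotient.mk q (zs s) : B ⧸ q)) :
        MvPolynomial σ (A ⧸ p) →ₐ[A ⧸ p] B ⧸ q).toRingHom u = 0 := h0
      rw [h0', map_zero]
  have hloc := IsLocalization.map_under
    ((nonZeroDivisors (A ⧸ p)).map (C (σ := σ))) (MvPolynomial σ p.ResidueField)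
    (Q.comap (fibEval p zs).toRingHom)
  rw [← hloc, hunder, Ideal.map_span]
  congr 1
  ext x
  simp only [Set.mem_image, exists_exists_and_eq_and, MvPolynomial.algebraMap_def, map_X]

end Fib

end Groth.Agent.Lib.helper5.CMQF
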