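import Mathlib
import Groth.Agent.Lib.Helper5.CMSlice1
import Groth.Agent.Lib.Helper3.FibreChev

/-!
# Quasi-finiteness of `A[σ] → B` at a prime (helper5)

* `exists_transcendenceBasis_lift`: a finite transcendence basis of `B/q` over `A/p` lifted to `B`.
* `eq_of_ge_of_isTranscendenceBasis`: if some of the `zs` give a transcendence basis of `B/q` over
  `A/p`, then `q` is maximal among the primes with the same contraction to `A[σ]`.
* `quasiFiniteAt_aeval`: if moreover the other `zs` cut out a zero-dimensional quotient of the fibre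
  local ring then `A[σ] → B` is quasi-finite at `q`.
-/

set_option autoImplicit false
universe u
open MvPolynomial

namespace Groth.Agent.Lib.helper5.CMQF

variable {A B : Type u} [CommRing A] [CommRing B] [Algebra A B] (p : Ideal A) [p.IsPrime]
  (q : Ideal B) [q.IsPrime] [q.LiesOver p]

theorem exists_transcendenceBasis_lift [Algebra.FiniteType A B] :
    ∃ (r : ℕ) (t : Fin r → B),
      IsTranscendenceBasis (A ⧸ p) (fun i => (Ideal.Quotient.mk q (t i) : B ⧸ q)) := by
  haveI : Algebra.FiniteType A (B ⧸ q) := inferInstance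
  haveI : Algebra.FiniteType (A ⧸ p) (B ⧸ q) :=
    Algebra.FiniteType.of_restrictScalars_finiteType A (A ⧸ p) (B ⧸ q)
  obtain ⟨s, hs⟩ := (Algebra.FiniteType.out : (⊤ : Subalgebra (A ⧸ p) (B ⧸ q)).FG)
  haveI : Algebra.IsAlgebraic (Algebra.adjoin (A ⧸ p) (s : Set (B ⧸ q))) (B ⧸ q) := by
    constructor
    intro x
    have hx : x ∈ Algebra.adjoin (A ⧸ p) (s : Set (B ⧸ q)) := by
      rw [hs]
      trivial
    exact isAlgebraic_algebraMap (⟨x, hx⟩ : Algebra.adjoin (A ⧸ p) (s : Set (B ⧸ q)))
  obtain ⟨T, hTs, hT⟩ := exists_isTranscendenceBasis_subset (R := A ⧸ p) (s : Set (B ⧸ q))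
  haveI : Finite T := (s.finite_toSet.subset hTs).to_subtype
  let e : Fin (Nat.card T) ≃ T := (Finite.equivFin T).symm
  have h1 : IsTranscendenceBasis (A ⧸ p) ((Subtype.val : T → B ⧸ q) ∘ e) :=
    (isTranscendenceBasis_equiv e).mpr hT
  choose lift hlift using fun x : B ⧸ q => Ideal.Quotient.mk_surjective x
  refine ⟨Nat.card T, fun i => lift (e i).1, ?_⟩
  convert h1 using 1
  funext i
  exact hlift _

section

variable {σ : Type} (zs : σ → B)

/-- `B` as an algebra over `A[σ]` via `aeval zs`: the contraction of `q` lies over `p`. -/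
theorem comap_aeval_comap_C :
    ((q.comap (aeval zs : MvPolynomial σ A →ₐ[A] B).toRingHom).comap
      (C : A →+* MvPolynomial σ A)) = p := by
  rw [Ideal.comap_comap]
  have : (aeval zs : MvPolynomial σ A →ₐ[A] B).toRingHom.comp (C : A →+* MvPolynomial σ A) =
      algebraMap A B := by
    ext a
    simp
  rw [this]
  exact (q.over_def p).symm

theorem eq_of_ge_of_isTranscendenceBasis {ι : Type*} (t : ι → σ)
    (htb : IsTranscendenceBasis (A ⧸ p) (fun i => (Ideal.Quotient.mk q (zs (t i)) : B ⧸ q)))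
    (q' : Ideal B) [q'.IsPrime] (hle : q ≤ q')
    (hcomap : q'.comap (aeval zs : MvPolynomial σ A →ₐ[A] B).toRingHom =
      q.comap (aeval zs : MvPolynomial σ A →ₐ[A] B).toRingHom) : q' = q := by
  letI algPB : Algebra (MvPolynomial σ A) B :=
    (aeval zs : MvPolynomial σ A →ₐ[A] B).toRingHom.toAlgebra
  haveI : IsScalarTower A (MvPolynomial σ A) B := IsScalarTower.of_algebraMap_eq' (by
    ext a
    change algebraMap A B a = aeval zs (C a)
    simp)
  set q'' : Ideal (MvPolynomial σ A) := q.under (MvPolynomial σ A) with hq''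
  haveI : q.LiesOver q'' := ⟨rfl⟩
  haveI : q''.LiesOver p := ⟨by
    rw [hq'']
    exact (comap_aeval_comap_C p q zs).symm⟩
  haveI : IsScalarTower (A ⧸ p) (MvPolynomial σ A ⧸ q'') (B ⧸ q) :=
    IsScalarTower.of_algebraMap_eq (by
      intro x
      obtain ⟨a, rfl⟩ := Ideal.Quotient.mk_surjective x
      change Ideal.Quotient.mk q (algebraMap A B a) =
        Ideal.Quotient.mk q (algebraMap (MvPolynomial σ A) B (algebraMap A (MvPolynomial σ A) a))
      rw [← IsScalarTower.algebraMap_apply A (MvPolynomial σ A) B])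
  haveI halg : Algebra.IsAlgebraic (MvPolynomial σ A ⧸ q'') (B ⧸ q) := by
    rw [htb.isAlgebraic_iff (S := MvPolynomial σ A ⧸ q'')]
    intro i
    have : (Ideal.Quotient.mk q (zs (t i)) : B ⧸ q) =
        algebraMap (MvPolynomial σ A ⧸ q'') (B ⧸ q) (Ideal.Quotient.mk q'' (X (t i))) := by
      change _ = Ideal.Quotient.mk q (algebraMap (MvPolynomial σ A) B (X (t i)))
      congr 1
      change _ = aeval zs (X (t i))
      simp
    rw [this]
    exact isAlgebraic_algebraMap _
  refine le_antisymm ?_ hle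
  intro b hb
  by_contra hbq
  have hne : (Ideal.Quotient.mk q b : B ⧸ q) ≠ 0 := by
    rwa [Ne, Ideal.Quotient.eq_zero_iff_mem]
  have hmem : (Ideal.Quotient.mk q b : B ⧸ q) ∈ q'.map (Ideal.Quotient.mk q) :=
    Ideal.mem_map_of_mem _ hb
  have h1 := Ideal.comap_ne_bot_of_algebraic_mem (R := MvPolynomial σ A ⧸ q'') hne hmem
    (Algebra.IsAlgebraic.isAlgebraic _)
  apply h1
  rw [eq_bot_iff]
  intro x hx
  obtain ⟨u, rfl⟩ := Ideal.Quotient.mk_surjective x
  rw [Ideal.mem_comap] at hx
  have h2 : algebraMap (MvPolynomial σ A ⧸ q'') (B ⧸ q) (Ideal.Quotient.mk q'' u) =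
      Ideal.Quotient.mk q (algebraMap (MvPolynomial σ A) B u) := rfl
  rw [h2, Ideal.mem_map_iff_of_surjective _ Ideal.Quotient.mk_surjective] at hx
  obtain ⟨b', hb', hbb'⟩ := hx
  have h3 : algebraMap (MvPolynomial σ A) B u ∈ q' := by
    have h4 : b' - algebraMap (MvPolynomial σ A) B u ∈ q := by
      rw [← Ideal.Quotient.eq_zero_iff_mem, map_sub, hbb', sub_self]
    have h5 := q'.sub_mem hb' (hle h4)
    rwa [sub_sub_cancel] at h5
  have h6 : u ∈ q'.comap (aeval zs : MvPolynomial σ A →ₐ[A] B).toRingHom := h3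
  rw [hcomap] at h6
  rw [Ideal.mem_bot, Ideal.Quotient.eq_zero_iff_mem]
  exact h6

theorem quasiFiniteAt_aeval [Algebra.FiniteType A B] (L : Type u) [CommRing L] [Algebra B L]
    [IsLocalization.AtPrime L q] (S : Set σ) {ι : Type*} (t : ι → σ)
    (hS : ∀ s ∈ S, zs s ∈ q)
    (h0 : Ring.KrullDimLE 0
      (L ⧸ (p.map (algebraMap A B) ⊔ Ideal.span (zs '' S)).map (algebraMap B L)))
    (htb : IsTranscendenceBasis (A ⧸ p) (fun i => (Ideal.Quotient.mk q (zs (t i)) : B ⧸ q))) :
    letI := (aeval zs : MvPolynomial σ A →ₐ[A] B).toRingHom.toAlgebra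
    Algebra.QuasiFiniteAt (MvPolynomial σ A) q := by
  letI algPB : Algebra (MvPolynomial σ A) B :=
    (aeval zs : MvPolynomial σ A →ₐ[A] B).toRingHom.toAlgebra
  haveI : IsScalarTower A (MvPolynomial σ A) B := IsScalarTower.of_algebraMap_eq' (by
    ext a
    change algebraMap A B a = aeval zs (C a)
    simp)
  haveI : Algebra.FiniteType (MvPolynomial σ A) B :=
    Algebra.FiniteType.of_restrictScalars_finiteType A (MvPolynomial σ A) B
  refine Groth.Agent.Lib.helper3.FibreParam.quasiFiniteAt_of_isolated q ?_ ?_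
  · intro q' hq' hle hcomap
    haveI := hq'
    refine Groth.Agent.Lib.helper5.CMSlice.eq_of_le_of_krullDimLE_zero q L _ h0 q' hle ?_
    have hmem : ∀ u : MvPolynomial σ A, algebraMap (MvPolynomial σ A) B u ∈ q →
        algebraMap (MvPolynomial σ A) B u ∈ q' := by
      intro u hu
      have h1 : u ∈ q.comap (algebraMap (MvPolynomial σ A) B) := hu
      rw [← hcomap] at h1
      exact h1
    refine sup_le ?_ ?_
    · rw [Ideal.map_le_iff_le_comap]
      intro a ha
      have h1 : algebraMap A B a ∈ q := by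
        have : a ∈ q.under A := by rw [← q.over_def p]; exact ha
        exact this
      rw [IsScalarTower.algebraMap_apply A (MvPolynomial σ A) B] at h1
      have h2 := hmem _ h1
      rw [← IsScalarTower.algebraMap_apply A (MvPolynomial σ A) B] at h2
      exact h2
    · rw [Ideal.span_le]
      rintro _ ⟨s, hs, rfl⟩
      have h1 : algebraMap (MvPolynomial σ A) B (X s) = zs s := by
        change aeval zs (X s) = _
        simp
      have h2 := hmem (X s) (by rw [h1]; exact hS s hs)
      rwa [h1] at h2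
  · intro q' hq' hle hcomap
    haveI := hq'
    exact eq_of_ge_of_isTranscendenceBasis p q zs t htb q' hle hcomap

end

end Groth.Agent.Lib.helper5.CMQF
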