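import Mathlib
import Groth.Agent.Lib.Helper5.CMSlice3
import Groth.Agent.Lib.Helper5.CMQF3
import Groth.Agent.Lib.Helper5.CMQF4
import Groth.Agent.Lib.Helper5.CMQF5

/-!
# Cohen–Macaulay fibres: quasi-finite flat maps to affine space, ring level (helper5)

`exists_aeval_quasiFinite_flat`: `A → B` flat of finite presentation, `q` a prime of `B` over `p`
such that the fibre local ring `B_q/pB_q` is Cohen–Macaulay.  Then there are elements
`zs : Fin r ⊕ Fin d → B` such that `A[T_1..T_r, H_1..H_d] → B` is quasi-finite at `q` and `B_q` is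
flat over the polynomial ring.  Here `r` is the transcendence degree of `κ(q)/κ(p)` and `d` the
dimension of `B_q/pB_q`.
-/

set_option autoImplicit false
universe u
open IsLocalRing RingTheory.Sequence LocCoh MvPolynomial TensorProduct Groth.Agent.LibFibReg29

namespace Groth.Agent.Lib.helper5.CMQF

open Groth.Agent.Lib.helper5.CMSlice

/-- A Cohen–Macaulay local ring has a (weakly) regular sequence in the maximal ideal with
zero-dimensional quotient, of length the dimension. -/
theorem exists_regular_sop' (F : Type u) [CommRing F] [IsCohenMacaulayLocalRing F] :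
    ∃ rs : List F, (∀ r ∈ rs, r ∈ maximalIdeal F) ∧ IsWeaklyRegular F rs ∧
      Ring.KrullDimLE 0 (F ⧸ Ideal.ofList rs) ∧ ringKrullDim F = rs.length := by
  have hIM : maximalIdeal F • (⊤ : Submodule F F) ≠ ⊤ := by
    rw [smul_eq_mul, Ideal.mul_top]
    exact (maximalIdeal.isMaximal F).ne_top
  obtain ⟨rs, -, hreg, hmem, hmax⟩ :=
    Groth.Agent.Lib.helper26.Depth.exists_maximal_extension (maximalIdeal F) F hIM []
      (IsWeaklyRegular.nil F F) (by simp)
  have hlen := Groth.Agent.Lib.helper26.Depth.length_eq_idealDepth_of_maximal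
    (maximalIdeal F) F hIM rs hreg hmem hmax
  have hcm : Module.supportDim F F = ((LocCoh.depth F F : ℕ∞) : WithBot ℕ∞) :=
    IsCohenMacaulayLocalRing.supportDim_eq_depth
  rw [Module.supportDim_self_eq_ringKrullDim] at hcm
  have hdim : ringKrullDim F = ((rs.length : ℕ) : WithBot ℕ∞) := by
    rw [hcm]
    change ((idealDepth (maximalIdeal F) F : ℕ∞) : WithBot ℕ∞) = _
    rw [← hlen]
    rfl
  have hle := Groth.Agent.Lib.helper17.CIField.dim_quot_add_length_le rs.length F rs rfl hreg
  rw [hdim] at hle
  refine ⟨rs, hmem, hreg, ?_, hdim⟩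
  rw [Ring.krullDimLE_iff]
  generalize ringKrullDim (F ⧸ Ideal.ofList rs) = a at hle
  induction a with
  | bot => exact bot_le
  | coe a =>
    have h1 : ((a + (rs.length : ℕ∞) : ℕ∞) : WithBot ℕ∞) ≤ ((rs.length : ℕ∞) : WithBot ℕ∞) := by
      exact_mod_cast hle
    have h2 : a + (rs.length : ℕ∞) ≤ (rs.length : ℕ∞) := by exact_mod_cast h1
    have h3 : a ≤ 0 := by
      induction a with
      | top => simp at h2
      | coe a =>
        have : a + rs.length ≤ rs.length := by exact_mod_cast h2
        have : a = 0 := by omega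
        simp [this]
    exact_mod_cast h3

variable {A B : Type u} [CommRing A] [CommRing B] [Algebra A B]
  (p : Ideal A) [p.IsPrime] (q : Ideal B) [q.IsPrime] [q.LiesOver p]
  (L : Type u) [CommRing L] [Algebra B L] [IsLocalization.AtPrime L q]

/-- the fibre local ring `L/pL` as the local ring of the fibre `κ(p) ⊗ B` at a prime over `q`. -/
theorem exists_fibre_equiv :
    ∃ (Q : Ideal (p.Fiber B)) (_ : Q.IsPrime), fibPrime p Q = q ∧
      ∃ E : (L ⧸ fibIdeal (B := B) p L) ≃+* Localization.AtPrime Q,
        ∀ b : B, E (toFib p L b) = fibMap p Q b := by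
  obtain ⟨Q, hQ, hQq⟩ := Groth.Agent.Lib.Helper24.FibreRegular.exists_fiber_prime A B p q
  subst hQq
  refine ⟨Q, hQ, rfl, ?_⟩
  set r := fibPrime p Q with hr
  let e1 : L ≃ₐ[B] Localization.AtPrime r := IsLocalization.algEquiv r.primeCompl _ _
  let I : Ideal (Localization.AtPrime r) :=
    (p.map (algebraMap A B)).map (algebraMap B (Localization.AtPrime r))
  have hI : I = (fibIdeal (B := B) p L).map (e1.toRingEquiv : L →+* Localization.AtPrime r) := by
    rw [fibIdeal, Ideal.map_map]
    have : (algebraMap B (Localization.AtPrime r)) =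
        (e1.toRingEquiv : L →+* Localization.AtPrime r).comp (algebraMap B L) := by
      ext a
      exact (e1.commutes a).symm
    rw [← this]
  let e3 : (L ⧸ fibIdeal (B := B) p L) ≃+* (Localization.AtPrime r ⧸ I) :=
    Ideal.quotientEquiv _ _ e1.toRingEquiv hI
  let e4 : (Localization.AtPrime r ⧸ I) ≃+* Localization.AtPrime Q :=
    (Ideal.Fiber.algEquivAux₂ p Q).symm.toRingEquiv
  refine ⟨e3.trans e4, fun b => ?_⟩
  change e4 (e3 (Ideal.Quotient.mk _ (algebraMap B L b))) = _
  have h3 : e3 (Ideal.Quotient.mk _ (algebraMap B L b)) =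
      Ideal.Quotient.mk _ (algebraMap B (Localization.AtPrime r) b) := by
    change Ideal.Quotient.mk _ (e1 (algebraMap B L b)) = _
    rw [e1.commutes]
  rw [h3]
  change (Ideal.Fiber.algEquivAux₂ p Q).symm _ = _
  rw [AlgEquiv.symm_apply_eq]
  exact (algEquivAux₂_fibMap p Q b).symm

/-- **Cohen–Macaulay fibre ⇒ quasi-finite and flat over a polynomial ring**, ring level. -/
theorem exists_aeval_quasiFinite_flat [Module.Flat A B] [Algebra.FinitePresentation A B]
    [IsCohenMacaulayLocalRing (L ⧸ fibIdeal (B := B) p L)] :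
    ∃ (r d : ℕ) (zs : Fin r ⊕ Fin d → B),
      (letI := (aeval zs : MvPolynomial (Fin r ⊕ Fin d) A →ₐ[A] B).toRingHom.toAlgebra
       Algebra.QuasiFiniteAt (MvPolynomial (Fin r ⊕ Fin d) A) q ∧
       Module.Flat (MvPolynomial (Fin r ⊕ Fin d) A) (Localization.AtPrime q)) ∧
      IsTranscendenceBasis (A ⧸ p)
        (fun i : Fin r => (Ideal.Quotient.mk q (zs (Sum.inl i)) : B ⧸ q)) ∧
      ringKrullDim (L ⧸ fibIdeal (B := B) p L) = d := by
  classical
  haveI : Algebra.FiniteType A B := inferInstance
  obtain ⟨ts, hts_mem, hts_reg, hts_dim, hts_len⟩ :=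
    exists_regular_sop' (L ⧸ fibIdeal (B := B) p L)
  obtain ⟨ys, hys⟩ := exists_lift_forall₂ p q L ts
  have hreg : IsWeaklyRegular (L ⧸ fibIdeal (B := B) p L) (ys.map (toFib p L)) :=
    Groth.Agent.Lib.helper2.SpreadOut.isWeaklyRegular_of_forall₂_unit hys _ hts_reg
  have hideal : Ideal.ofList ts = Ideal.ofList (ys.map (toFib p L)) :=
    ofList_eq_of_forall₂_unit hys
  have hlen : ys.length = ts.length := by
    have := hys.length_eq
    rw [List.length_map] at this
    exact this.symm
  have hle_max : Ideal.ofList ts ≤ maximalIdeal (L ⧸ fibIdeal (B := B) p L) :=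
    Ideal.span_le.mpr fun t ht => hts_mem t ht
  have hyq : ∀ y ∈ ys, y ∈ q := by
    intro y hy
    by_contra hyq
    have h1 : toFib p L y ∈ maximalIdeal (L ⧸ fibIdeal (B := B) p L) := by
      apply hle_max
      rw [hideal]
      exact Ideal.subset_span (List.mem_map_of_mem hy)
    exact (mem_maximalIdeal _).mp h1 (isUnit_toFib p q L hyq)
  have hdim : Ring.KrullDimLE 0
      (L ⧸ (p.map (algebraMap A B) ⊔ Ideal.ofList ys).map (algebraMap B L)) := by
    apply krullDimLE_zero_of_fib
    rw [← hideal]
    exact hts_dim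
  obtain ⟨r, t, htb⟩ := exists_transcendenceBasis_lift p q
  set d := ys.length with hd
  let zs : Fin r ⊕ Fin d → B := Sum.elim t (fun j => ys.get j)
  let S : Set (Fin r ⊕ Fin d) := Set.range Sum.inr
  have hS : ∀ s ∈ S, zs s ∈ q := by
    rintro _ ⟨j, rfl⟩
    exact hyq _ (List.get_mem ys j)
  have hspan : Ideal.span (zs '' S) = Ideal.ofList ys := by
    apply congrArg Ideal.span
    ext y
    constructor
    · rintro ⟨_, ⟨j, rfl⟩, rfl⟩
      exact List.get_mem ys j
    · intro hy
      obtain ⟨j, rfl⟩ := List.get_of_mem hy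
      exact ⟨Sum.inr j, ⟨j, rfl⟩, rfl⟩
  have htb' : IsTranscendenceBasis (A ⧸ p)
      (fun i : Fin r => (Ideal.Quotient.mk q (zs (Sum.inl i)) : B ⧸ q)) := htb
  refine ⟨r, d, zs, ⟨?_, ?_⟩, htb', ?_⟩
  · exact quasiFiniteAt_aeval p q zs L S Sum.inl hS (by rw [hspan]; exact hdim) htb'
  · -- flatness
    obtain ⟨Q, hQprime, hQq, E, hE⟩ := exists_fibre_equiv p q L
    haveI := hQprime
    haveI : IsNoetherianRing (p.Fiber B) :=
      Algebra.FiniteType.isNoetherianRing p.ResidueField (p.Fiber B)
    -- algebraic independence on the complement of `S`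
    let e : Fin r ≃ {s : Fin r ⊕ Fin d // s ∉ S} :=
      { toFun := fun i => ⟨Sum.inl i, by rintro ⟨j, hj⟩; exact Sum.inr_ne_inl hj⟩
        invFun := fun s => match s with
          | ⟨Sum.inl i, _⟩ => i
          | ⟨Sum.inr j, h⟩ => absurd ⟨j, rfl⟩ h
        left_inv := fun i => rfl
        right_inv := fun s => by
          obtain ⟨s, hs⟩ := s
          cases s with
          | inl i => rfl
          | inr j => exact absurd ⟨j, rfl⟩ hs }
    have hind : AlgebraicIndependent (A ⧸ p)
        (fun s : {s // s ∉ S} => (Ideal.Quotient.mk q (zs s) : B ⧸ q)) := by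
      rw [← algebraicIndependent_equiv e]
      exact htb'.1
    have hQ₀ := comap_fibEval_eq_span p q zs S Q hQq hS hind
    have hrange : ((X : Fin r ⊕ Fin d → MvPolynomial (Fin r ⊕ Fin d) p.ResidueField) '' S) =
        Set.range fun j : Fin d => (X (Sum.inr j) : MvPolynomial (Fin r ⊕ Fin d) p.ResidueField) := by
      ext x
      constructor
      · rintro ⟨_, ⟨j, rfl⟩, rfl⟩
        exact ⟨j, rfl⟩
      · rintro ⟨j, rfl⟩
        exact ⟨Sum.inr j, ⟨j, rfl⟩, rfl⟩
    rw [hrange] at hQ₀
    have hregQ : IsWeaklyRegular (Localization.AtPrime Q)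
        (List.ofFn fun j : Fin d => algebraMap (p.Fiber B) (Localization.AtPrime Q)
          ((fibEval p zs).toRingHom (X (Sum.inr j)))) := by
      have h1 := (Groth.Agent.Lib.helper17.RegNear.isWeaklyRegular_map_ringEquiv
        (A := L ⧸ fibIdeal (B := B) p L) (B := Localization.AtPrime Q) E _).mp hreg
      rw [List.map_map] at h1
      have h2 : (List.ofFn fun j : Fin d => algebraMap (p.Fiber B) (Localization.AtPrime Q)
          ((fibEval p zs).toRingHom (X (Sum.inr j)))) = ys.map (E ∘ toFib p L) := by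
        rw [← List.ofFn_get (l := ys), List.map_ofFn]
        congr 1
        funext j
        simp only [Function.comp_apply, hE]
        change _ = fibMap p Q (ys.get j)
        rw [fibMap_apply]
        congr 1
        change fibEval p zs (X (Sum.inr j)) = _
        rw [fibEval_X]
        rfl
      rw [h2]
      exact h1
    have hfib := flat_of_regular_variables (fibEval p zs).toRingHom Q (Sum.inr : Fin d → Fin r ⊕ Fin d)
      Sum.inr_injective hQ₀ hregQ
    subst hQq
    have hfl : Module.Flat A (Localization.AtPrime (fibPrime p Q)) :=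
      Module.Flat.trans A B (Localization.AtPrime (fibPrime p Q))
    exact flat_aeval_of_fibre p zs Q hfl hfib
  · rw [hts_len, ← hlen]

end Groth.Agent.Lib.helper5.CMQF
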