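import Mathlib
import Groth.Prelude.Def_CAlg
import Groth.Agent.Lib.Helper24.FlatDepth4
import Groth.Agent.Lib.Helper24.FormalEquidimLoc2
import Groth.Agent.Lib.Helper17.FieldCM

/-!
# Cohen–Macaulay ascent along a flat quasi-finite map from a regular ring (helper5)

`cm_localization_of_flat_of_isolated`: `PK` a regular ring, `BK` a Noetherian `PK`-algebra, `Q` a
prime of `BK` such that `BK_Q` is flat over `PK` and `Q` is minimal among the primes below it with
the same contraction to `PK`.  Then `BK_Q` is Cohen–Macaulay.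
-/

set_option autoImplicit false
universe u
open IsLocalRing LocCoh

namespace Groth.Agent.Lib.helper5.CMQF

theorem cm_localization_of_flat_of_isolated {PK BK : Type u} [CommRing PK] [CommRing BK]
    [IsRegularRing PK] [IsNoetherianRing PK] [IsNoetherianRing BK] [Algebra PK BK]
    (Q : Ideal BK) [Q.IsPrime]
    (hfl : Module.Flat PK (Localization.AtPrime Q))
    (hiso : ∀ Q' : Ideal BK, Q'.IsPrime → Q' ≤ Q → Q'.under PK = Q.under PK → Q' = Q) :
    IsCohenMacaulayLocalRing (Localization.AtPrime Q) := by
  set Q₀ : Ideal PK := Q.under PK with hQ₀def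
  haveI : Q.LiesOver Q₀ := ⟨rfl⟩
  letI := Localization.AtPrime.algebraOfLiesOver Q₀ Q
  haveI : IsLocalHom (algebraMap (Localization.AtPrime Q₀) (Localization.AtPrime Q)) :=
    Localization.isLocalHom_localRingHom _ Q (algebraMap PK BK) Ideal.LiesOver.over
  haveI : IsNoetherianRing (Localization.AtPrime Q₀) :=
    IsLocalization.isNoetherianRing Q₀.primeCompl _ inferInstance
  haveI : IsNoetherianRing (Localization.AtPrime Q) :=
    IsLocalization.isNoetherianRing Q.primeCompl _ inferInstance
  haveI hflR₀ : Module.Flat (Localization.AtPrime Q₀) (Localization.AtPrime Q) :=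
    (Module.flat_iff_of_isLocalization (Localization.AtPrime Q₀) Q₀.primeCompl
      (Localization.AtPrime Q)).mpr hfl
  haveI : IsRegularLocalRing (Localization.AtPrime Q₀) :=
    IsRegularRing.isRegularLocalRing_localization Q₀
  have hcmR₀ : IsCohenMacaulayLocalRing (Localization.AtPrime Q₀) :=
    Groth.Agent.Lib.Helper24.FormalEquidimLoc.isCohenMacaulayLocalRing_of_isRegularLocalRing _
  have hdim0 : Ring.KrullDimLE 0 (Localization.AtPrime Q ⧸
      (maximalIdeal (Localization.AtPrime Q₀)).map
        (algebraMap (Localization.AtPrime Q₀) (Localization.AtPrime Q))) := by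
    rw [Ideal.krullDimLE_zero_quotient_iff_forall_minimalPrimes_isMaximal]
    intro 𝔓 h𝔓
    haveI : 𝔓.IsPrime := h𝔓.1.1
    have hJ : (maximalIdeal (Localization.AtPrime Q₀)).map
        (algebraMap (Localization.AtPrime Q₀) (Localization.AtPrime Q)) ≤ 𝔓 := h𝔓.1.2
    set Q' : Ideal BK := 𝔓.comap (algebraMap BK (Localization.AtPrime Q)) with hQ'
    haveI : Q'.IsPrime := Ideal.comap_isPrime _ _
    have hQ'le : Q' ≤ Q := by
      intro x hx
      by_contra hxQ
      have : IsUnit (algebraMap BK (Localization.AtPrime Q) x) :=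
        (IsLocalization.AtPrime.isUnit_to_map_iff (Localization.AtPrime Q) Q x).mpr hxQ
      exact (inferInstance : 𝔓.IsPrime).ne_top (Ideal.eq_top_of_isUnit_mem _ hx this)
    have h𝔓map : 𝔓 = Q'.map (algebraMap BK (Localization.AtPrime Q)) :=
      (IsLocalization.map_comap Q.primeCompl (Localization.AtPrime Q) 𝔓).symm
    have hQ'₀ : Q'.under PK = Q₀ := by
      apply le_antisymm
      · exact Ideal.comap_mono hQ'le
      · intro u hu
        have h1 : algebraMap (Localization.AtPrime Q₀) (Localization.AtPrime Q)
            (algebraMap PK (Localization.AtPrime Q₀) u) ∈ 𝔓 := by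
          apply hJ
          apply Ideal.mem_map_of_mem
          rw [IsLocalization.AtPrime.to_map_mem_maximal_iff (Localization.AtPrime Q₀) Q₀]
          exact hu
        rw [← IsScalarTower.algebraMap_apply PK (Localization.AtPrime Q₀) (Localization.AtPrime Q),
          IsScalarTower.algebraMap_apply PK BK (Localization.AtPrime Q)] at h1
        exact h1
    have hQ'eq : Q' = Q := hiso Q' inferInstance hQ'le hQ'₀
    rw [h𝔓map, hQ'eq, IsLocalization.AtPrime.map_eq_maximalIdeal]
    exact maximalIdeal.isMaximal _
  haveI hloc := Groth.Agent.Lib.Helper24.FlatDimFormula.isLocalRing_quotient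
    (Localization.AtPrime Q₀) (Localization.AtPrime Q)
  haveI := hdim0
  have hcmfib : IsCohenMacaulayLocalRing (Localization.AtPrime Q ⧸
      (maximalIdeal (Localization.AtPrime Q₀)).map
        (algebraMap (Localization.AtPrime Q₀) (Localization.AtPrime Q))) :=
    Groth.Agent.Lib.helper17.FieldCM.cm_of_krullDimLE_zero _
  exact (Groth.Agent.Lib.Helper24.FlatDepth.cm_iff_of_flat (Localization.AtPrime Q₀)
    (Localization.AtPrime Q)).mpr ⟨hcmR₀, hcmfib⟩

end Groth.Agent.Lib.helper5.CMQF
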