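import Mathlib
import Groth.Agent.Lib.Helper5.CMQF6
import Groth.Agent.Lib.Helper5.CMQF7a
import Groth.Agent.S9808

/-!
# Quasi-finite and flat over a polynomial ring ⇒ Cohen–Macaulay fibre, ring level (helper5)

`cm_fibre_of_quasiFinite_flat`: `B` a finite type `A`-algebra, `q` a prime of `B` over `p`,
`zs : σ → B` such that `B` is quasi-finite at `q` over `A[σ]` (via `aeval zs`) and `B_q` is flat
over `A[σ]`.  Then `B_q` is flat over `A` and the local ring of the fibre `B_q / p B_q` is
Cohen–Macaulay.
-/

set_option autoImplicit false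
universe u
open IsLocalRing RingTheory.Sequence LocCoh MvPolynomial TensorProduct Groth.Agent.LibFibReg29

namespace Groth.Agent.Lib.helper5.CMQF

open Groth.Agent.Lib.helper5.CMSlice

variable {A B : Type u} [CommRing A] [CommRing B] [Algebra A B]
  (p : Ideal A) [p.IsPrime]

theorem fiber_prime_ext (Q Q' : Ideal (p.Fiber B)) [Q.IsPrime] [Q'.IsPrime]
    (h : fibPrime p Q' = fibPrime p Q) : Q' = Q := by
  let e := PrimeSpectrum.primesOverOrderIsoFiber A B p
  have h1 : (e.symm ⟨Q', inferInstance⟩ : p.primesOver B) = e.symm ⟨Q, inferInstance⟩ := by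
    apply Subtype.ext
    rw [PrimeSpectrum.coe_primesOverOrderIsoFiber_symm_apply,
      PrimeSpectrum.coe_primesOverOrderIsoFiber_symm_apply]
    exact h
  have h2 := e.symm.injective h1
  exact congrArg PrimeSpectrum.asIdeal h2

variable (q : Ideal B) [q.IsPrime] [q.LiesOver p]
  (L : Type u) [CommRing L] [Algebra B L] [IsLocalization.AtPrime L q]

theorem cm_fibre_of_quasiFinite_flat [Algebra.FiniteType A B] {σ : Type} [Finite σ] (zs : σ → B)
    (hqf : letI := (aeval zs : MvPolynomial σ A →ₐ[A] B).toRingHom.toAlgebra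
           Algebra.QuasiFiniteAt (MvPolynomial σ A) q)
    (hfl : letI := (aeval zs : MvPolynomial σ A →ₐ[A] B).toRingHom.toAlgebra
           Module.Flat (MvPolynomial σ A) (Localization.AtPrime q)) :
    Module.Flat A (Localization.AtPrime q) ∧
      IsCohenMacaulayLocalRing (L ⧸ fibIdeal (B := B) p L) := by
  classical
  letI algPB : Algebra (MvPolynomial σ A) B :=
    (aeval zs : MvPolynomial σ A →ₐ[A] B).toRingHom.toAlgebra
  haveI : IsScalarTower A (MvPolynomial σ A) B := IsScalarTower.of_algebraMap_eq' (by
    ext a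
    change algebraMap A B a = aeval zs (C a)
    simp)
  refine ⟨?_, ?_⟩
  · haveI := hfl
    exact Module.Flat.trans A (MvPolynomial σ A) (Localization.AtPrime q)
  obtain ⟨Q, hQprime, hQq, E, -⟩ := exists_fibre_equiv p q L
  haveI := hQprime
  subst hQq
  suffices hcm : IsCohenMacaulayLocalRing (Localization.AtPrime Q) from
    Groth.Agent.S9808.cm_of_ringEquiv (R := Localization.AtPrime Q)
      (S := L ⧸ fibIdeal (B := B) p L) E.symm
  haveI : IsNoetherianRing (p.Fiber B) :=
    Algebra.FiniteType.isNoetherianRing p.ResidueField (p.Fiber B)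
  set ψ := (fibEval p zs).toRingHom with hψ
  have hflPK := fibre_flat_of_flat_aeval p zs Q hfl
  letI algK : Algebra (MvPolynomial σ p.ResidueField) (p.Fiber B) := ψ.toAlgebra
  haveI : IsRegularRing (MvPolynomial σ p.ResidueField) :=
    MvPolynomial.isRegularRing_of_isRegularRing _
  refine cm_localization_of_flat_of_isolated (PK := MvPolynomial σ p.ResidueField)
    (BK := p.Fiber B) Q hflPK ?_
  intro Q' hQ'prime hQ'le hQ'₀
  haveI := hQ'prime
  have hcomm := fibEval_comp_map p zs
  have hq'le : fibPrime p Q' ≤ fibPrime p Q := Ideal.comap_mono hQ'le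
  haveI : (fibPrime p Q').IsPrime := Ideal.comap_isPrime _ _
  have hunder : (fibPrime p Q').under (MvPolynomial σ A) =
      (fibPrime p Q).under (MvPolynomial σ A) := by
    have key : ∀ Q'' : Ideal (p.Fiber B), (fibPrime p Q'').under (MvPolynomial σ A) =
        (Q''.comap ψ).comap (MvPolynomial.map (algebraMap A p.ResidueField)) := by
      intro Q''
      ext u
      have := congrArg (fun f => f u) hcomm
      simp only [RingHom.comp_apply] at this
      rw [Ideal.under, Ideal.mem_comap, Ideal.mem_comap, Ideal.mem_comap]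
      change Algebra.TensorProduct.includeRight.toRingHom ((aeval zs).toRingHom u) ∈ Q'' ↔
        (fibEval p zs).toRingHom ((MvPolynomial.map (algebraMap A p.ResidueField)) u) ∈ Q''
      rw [this]
    rw [key, key]
    have : Q'.comap ψ = Q.comap ψ := hQ'₀
    rw [this]
  have hq'eq : fibPrime p Q' = fibPrime p Q :=
    Algebra.QuasiFiniteAt.eq_of_le_of_under_eq (R := MvPolynomial σ A) hq'le hunder
  exact fiber_prime_ext p Q Q' hq'eq

end Groth.Agent.Lib.helper5.CMQF
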