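import Mathlib
import Groth.Agent.Lib.Helper5.CMQF7

/-!
# Reindexing the variables (helper5)

* `quasiFiniteAt_of_ringEquiv`, `flat_of_ringEquiv`: quasi-finiteness at a prime / flatness of a
  module transfer along an isomorphism of the base rings.
* `quasiFiniteAt_aeval_comp_equiv`, `flat_aeval_comp_equiv`: the case of `A[τ] ≃ A[σ]` induced by a
  bijection `τ ≃ σ` of the variables, with algebra structures given by `aeval`.
-/

set_option autoImplicit false
universe u v w
open MvPolynomial

namespace Groth.Agent.Lib.helper5.CMQF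

section Transfer

variable {R R' B : Type*} [CommRing R] [CommRing R'] [CommRing B] [Algebra R B] [Algebra R' B]

theorem quasiFiniteAt_of_ringEquiv (e : R' ≃+* R)
    (he : ∀ a, algebraMap R' B a = algebraMap R B (e a)) (q : Ideal B) [q.IsPrime]
    [h : Algebra.QuasiFiniteAt R q] : Algebra.QuasiFiniteAt R' q := by
  letI a3 : Algebra R' R := e.toRingHom.toAlgebra
  haveI : IsScalarTower R' R (Localization.AtPrime q) := by
    apply IsScalarTower.of_algebraMap_eq'
    rw [IsScalarTower.algebraMap_eq R' B (Localization.AtPrime q),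
      IsScalarTower.algebraMap_eq R B (Localization.AtPrime q), RingHom.comp_assoc]
    congr 1
    ext a
    exact he a
  haveI : Module.Finite R' R := RingHom.Finite.of_surjective e.toRingHom e.surjective
  haveI : Algebra.QuasiFinite R (Localization.AtPrime q) := h
  change Algebra.QuasiFinite R' (Localization.AtPrime q)
  exact Algebra.QuasiFinite.trans R' R (Localization.AtPrime q)

theorem flat_of_ringEquiv (e : R' ≃+* R)
    (he : ∀ a, algebraMap R' B a = algebraMap R B (e a)) (M : Type*) [AddCommGroup M] [Module B M]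
    [Module R M] [Module R' M] [IsScalarTower R B M] [IsScalarTower R' B M]
    [h : Module.Flat R M] : Module.Flat R' M := by
  letI a3 : Algebra R' R := e.toRingHom.toAlgebra
  haveI : IsScalarTower R' R M := ⟨fun a b m => by
    change (e a * b) • m = a • (b • m)
    rw [← algebraMap_smul B (e a * b) m, map_mul, mul_smul, ← he, algebraMap_smul,
      algebraMap_smul]⟩
  haveI : Module.Flat R' R := RingHom.Flat.of_bijective e.bijective
  exact Module.Flat.trans R' R M

end Transfer

section Aeval

variable {A B : Type*} [CommRing A] [CommRing B] [Algebra A B] {σ τ : Type*}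

theorem aeval_comp_equiv_apply (e : τ ≃ σ) (zs : σ → B) (a : MvPolynomial τ A) :
    (aeval (zs ∘ e) : MvPolynomial τ A →ₐ[A] B) a =
      (aeval zs : MvPolynomial σ A →ₐ[A] B) (renameEquiv A e a) := by
  rw [renameEquiv_apply, aeval_rename]

theorem quasiFiniteAt_aeval_comp_equiv (e : τ ≃ σ) (zs : σ → B) (q : Ideal B) [q.IsPrime]
    (h : letI := (aeval zs : MvPolynomial σ A →ₐ[A] B).toRingHom.toAlgebra
         Algebra.QuasiFiniteAt (MvPolynomial σ A) q) :
    letI := (aeval (zs ∘ e) : MvPolynomial τ A →ₐ[A] B).toRingHom.toAlgebra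
    Algebra.QuasiFiniteAt (MvPolynomial τ A) q := by
  letI a1 : Algebra (MvPolynomial σ A) B :=
    (aeval zs : MvPolynomial σ A →ₐ[A] B).toRingHom.toAlgebra
  letI a2 : Algebra (MvPolynomial τ A) B :=
    (aeval (zs ∘ e) : MvPolynomial τ A →ₐ[A] B).toRingHom.toAlgebra
  haveI := h
  exact quasiFiniteAt_of_ringEquiv (renameEquiv A e).toRingEquiv
    (fun a => aeval_comp_equiv_apply e zs a) q

theorem flat_aeval_comp_equiv (e : τ ≃ σ) (zs : σ → B) (q : Ideal B) [q.IsPrime]
    (h : letI := (aeval zs : MvPolynomial σ A →ₐ[A] B).toRingHom.toAlgebra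
         Module.Flat (MvPolynomial σ A) (Localization.AtPrime q)) :
    letI := (aeval (zs ∘ e) : MvPolynomial τ A →ₐ[A] B).toRingHom.toAlgebra
    Module.Flat (MvPolynomial τ A) (Localization.AtPrime q) := by
  letI a1 : Algebra (MvPolynomial σ A) B :=
    (aeval zs : MvPolynomial σ A →ₐ[A] B).toRingHom.toAlgebra
  letI a2 : Algebra (MvPolynomial τ A) B :=
    (aeval (zs ∘ e) : MvPolynomial τ A →ₐ[A] B).toRingHom.toAlgebra
  haveI := h
  exact flat_of_ringEquiv (B := B) (renameEquiv A e).toRingEquiv
    (fun a => aeval_comp_equiv_apply e zs a) (Localization.AtPrime q)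

end Aeval

end Groth.Agent.Lib.helper5.CMQF
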