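import Mathlib
import Groth.Prelude.Def_Mor2
import Groth.Agent.S1661
import Groth.Agent.Lib.Helper17.RegNear

/-!
# Slicing Cohen–Macaulay fibres, scheme level, part 1 (helper5)

Regular closed immersions of the form `Spec (C/(rs)) ⟶ Spec C ≅ V` for an affine open `V`.
-/

set_option autoImplicit false
universe u

open AlgebraicGeometry CategoryTheory RingTheory.Sequence

namespace Groth.Agent.Lib.helper5.CMSliceSch

/-- the kernel of `(Spec.map φ).app ⊤` is the image of `ker φ` under `R ≅ Γ(Spec R, ⊤)`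
(copied from helper29's `LibLCIBridge29`). -/
theorem ker_SpecMap_appTop {R S : CommRingCat.{u}} (φ : R ⟶ S) :
    RingHom.ker ((Spec.map φ).app ⊤).hom =
      (RingHom.ker φ.hom).map
        ((Scheme.ΓSpecIso R).symm.commRingCatIsoToRingEquiv : R →+* Γ(Spec R, ⊤)) := by
  set e : R ≃+* Γ(Spec R, ⊤) := (Scheme.ΓSpecIso R).symm.commRingCatIsoToRingEquiv with he
  ext y
  rw [RingHom.mem_ker]
  have hnat := Scheme.ΓSpecIso_naturality φ
  have h2 : (Scheme.ΓSpecIso S).hom (((Spec.map φ).app ⊤) y) =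
      φ ((Scheme.ΓSpecIso R).hom y) := congr($(hnat) y)
  have hinj : Function.Injective (Scheme.ΓSpecIso S).hom :=
    (ConcreteCategory.bijective_of_isIso _).1
  have hy : e ((Scheme.ΓSpecIso R).hom y) = y := by
    change (Scheme.ΓSpecIso _).inv ((Scheme.ΓSpecIso _).hom y) = y
    simp
  constructor
  · intro h0
    rw [← hy]
    apply Ideal.mem_map_of_mem
    rw [RingHom.mem_ker, ← h2]
    change (Scheme.ΓSpecIso _).hom (((Spec.map φ).app ⊤).hom y) = 0
    rw [h0]
    exact map_zero _
  · intro hmem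
    have hmem' : (Scheme.ΓSpecIso R).hom y ∈ RingHom.ker φ.hom := by
      have h3 : e.symm y = (Scheme.ΓSpecIso R).hom y := by
        apply e.injective
        rw [hy]
        simp
      rw [← h3]
      have := (Ideal.mem_map_of_equiv e (I := RingHom.ker φ.hom) y).mp hmem
      obtain ⟨x, hx, rfl⟩ := this
      simpa using hx
    apply hinj
    change (Scheme.ΓSpecIso _).hom (((Spec.map φ).app ⊤) y) = _
    rw [h2, RingHom.mem_ker.1 hmem']
    exact (map_zero _).symm

/-- an isomorphism is a regular closed immersion. -/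
theorem isRegularClosedImmersion_of_isIso {Y Y' : Scheme.{u}} (j : Y ⟶ Y') [IsIso j] :
    Mor2.IsRegularClosedImmersion j := by
  refine ⟨inferInstance, fun z => ?_⟩
  obtain ⟨_, ⟨U, hU, rfl⟩, hzU, -⟩ := Y'.isBasis_affineOpens.exists_subset_of_mem_open
    (Set.mem_univ (j z)) isOpen_univ
  haveI : Nonempty U := ⟨⟨j z, hzU⟩⟩
  refine ⟨U, hU, hzU, [], IsRegular.nil _ _, ?_⟩
  rw [Scheme.Hom.ker_apply, Ideal.ofList_nil]
  exact (RingHom.injective_iff_ker_eq_bot _).mp
    ((ConcreteCategory.bijective_of_isIso (j.app U)).1)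

/-- `Spec (R/(rs)) ⟶ Spec R` is a regular closed immersion for a weakly regular sequence `rs`. -/
theorem isRegularClosedImmersion_SpecMap_mk {R : Type u} [CommRing R] (rs : List R)
    (hrs : IsWeaklyRegular R rs) :
    Mor2.IsRegularClosedImmersion
      (Spec.map (CommRingCat.ofHom (Ideal.Quotient.mk (Ideal.ofList rs)))) := by
  haveI : IsClosedImmersion (Spec.map (CommRingCat.ofHom (Ideal.Quotient.mk (Ideal.ofList rs)))) :=
    IsClosedImmersion.spec_of_surjective _ Ideal.Quotient.mk_surjective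
  refine ⟨inferInstance, fun z => ?_⟩
  set e : R ≃+* Γ(Spec (CommRingCat.of R), ⊤) :=
    (Scheme.ΓSpecIso (CommRingCat.of R)).symm.commRingCatIsoToRingEquiv with he
  have hne : Ideal.ofList rs ≠ ⊤ := by
    intro h
    haveI : Subsingleton (R ⧸ Ideal.ofList rs) := Ideal.Quotient.subsingleton_iff.mpr h
    exact (inferInstance : z.asIdeal.IsPrime).ne_top (Subsingleton.elim _ _)
  have hreg : IsRegular R rs := ⟨hrs, by
    rw [smul_eq_mul, Ideal.mul_top]
    exact hne.symm⟩
  refine ⟨⊤, isAffineOpen_top _, trivial, rs.map e,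
    (Groth.Agent.Lib.helper17.RegNear.isRegular_map_ringEquiv e rs).mp hreg, ?_⟩
  rw [Scheme.Hom.ker_apply, ker_SpecMap_appTop]
  have h1 : RingHom.ker (CommRingCat.Hom.hom (CommRingCat.ofHom
      (Ideal.Quotient.mk (Ideal.ofList rs)))) = Ideal.ofList rs := Ideal.mk_ker
  rw [h1]
  exact Ideal.map_ofList (e : R →+* Γ(Spec (CommRingCat.of R), ⊤)) rs

end Groth.Agent.Lib.helper5.CMSliceSch
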