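import Mathlib
import Groth.Agent.Lib.Helper5.CMSliceSch3
import Groth.Agent.LibRegImmBC29
import Groth.Agent.LibFibReg3_29

/-!
# Base change of fibrewise regular closed immersions (helper5)
-/

set_option autoImplicit false
universe u

open AlgebraicGeometry CategoryTheory CategoryTheory.Limits IsLocalRing RingTheory.Sequence
  Groth.Agent.LibFibReg29 TensorProduct

namespace Groth.Agent.Lib.helper5.CMSliceSch

/-- a fibrewise regular sequence stays weakly regular in any pushout. -/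
theorem isWeaklyRegular_of_isPushout {A C A' C' : Type u} [CommRing A] [CommRing C] [CommRing A']
    [CommRing C'] [Algebra A C] (ψ : A →+* A') (φ' : C →+* C') (ψ' : A' →+* C')
    (hpo : IsPushout (CommRingCat.ofHom (algebraMap A C)) (CommRingCat.ofHom ψ)
      (CommRingCat.ofHom φ') (CommRingCat.ofHom ψ'))
    (ys : List C) (h : RegFlat A C ys) : IsWeaklyRegular C' (ys.map φ') := by
  letI := ψ.toAlgebra
  have h1 := (regFlat_baseChange A A' C ys h).1
  have hpo' := (CommRingCat.isPushout_tensorProduct A A' C).flip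
  let E := hpo'.isoIsPushout _ _ hpo
  have hE : CommRingCat.ofHom (S := A' ⊗[A] C) Algebra.TensorProduct.includeRight.toRingHom ≫
      E.hom = CommRingCat.ofHom φ' := IsPushout.inl_isoIsPushout_hom _ _ hpo' hpo
  let e : A' ⊗[A] C ≃+* C' := E.commRingCatIsoToRingEquiv
  have h2 := (Groth.Agent.Lib.helper17.RegNear.isWeaklyRegular_map_ringEquiv e _).mp h1
  rw [List.map_map] at h2
  convert h2 using 2
  funext y
  have := congrArg (fun k => k.hom y) hE
  exact this.symm

/-- variant with an isomorphism inserted. -/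
theorem isWeaklyRegular_of_isPushout' {A C : Type u} [CommRing A] [CommRing C] [Algebra A C]
    {C₁ A' C' : CommRingCat.{u}} (τ : CommRingCat.of C ⟶ C₁) [IsIso τ]
    (φ₁ : CommRingCat.of A ⟶ C₁) (hφ₁ : φ₁ = CommRingCat.ofHom (algebraMap A C) ≫ τ)
    (ψ : CommRingCat.of A ⟶ A') (φ' : C₁ ⟶ C') (ψ' : A' ⟶ C')
    (hpo : IsPushout φ₁ ψ φ' ψ') (ys : List C) (h : RegFlat A C ys) :
    IsWeaklyRegular C' ((ys.map τ.hom).map φ'.hom) := by
  subst hφ₁
  have hpo2 : IsPushout (CommRingCat.ofHom (algebraMap A C)) (CommRingCat.ofHom ψ.hom)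
      (CommRingCat.ofHom (τ ≫ φ').hom) (CommRingCat.ofHom ψ'.hom) := by
    refine IsPushout.of_iso hpo (Iso.refl _) (asIso τ).symm (Iso.refl _) (Iso.refl _) ?_ ?_ ?_ ?_
    · simp
    · simp
    · simp
    · simp
  have := isWeaklyRegular_of_isPushout ψ.hom (τ ≫ φ').hom ψ'.hom hpo2 ys h
  rw [List.map_map]
  exact this

variable {Z Y Z' Y' : Scheme.{u}}

theorem ker_app_comp_iso {Z'' : Scheme.{u}} (E : Z' ⟶ Z'') [IsIso E] (k : Z'' ⟶ Y')
    (U' : Y'.Opens) :
    RingHom.ker ((E ≫ k).app U').hom = RingHom.ker (k.app U').hom := by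
  have h1 : ∀ a, ((E ≫ k).app U').hom a = (E.app (k ⁻¹ᵁ U')).hom ((k.app U').hom a) :=
    fun a => rfl
  have hinj : Function.Injective (E.app (k ⁻¹ᵁ U')).hom :=
    (ConcreteCategory.bijective_of_isIso (E.app (k ⁻¹ᵁ U'))).1
  ext a
  rw [RingHom.mem_ker, RingHom.mem_ker, h1]
  constructor
  · intro h0
    apply hinj
    rw [map_zero]
    exact h0
  · intro h0
    rw [h0]
    exact map_zero _

/-- a base change of a closed immersion whose ideal is locally generated by sequences that stay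
weakly regular upstairs is a regular closed immersion. -/
theorem isRegularClosedImmersion_of_isPullback {i : Z ⟶ Y} {q : Y' ⟶ Y} {j : Z' ⟶ Y'} {p : Z' ⟶ Z}
    (H : IsPullback j p q i) [IsClosedImmersion i]
    (hloc : ∀ z' : Z', ∃ (U₀ : Y.Opens) (_ : IsAffineOpen U₀) (U' : Y'.Opens)
      (_ : IsAffineOpen U') (e : U' ≤ q ⁻¹ᵁ U₀), j z' ∈ U' ∧
        ∃ rs : List Γ(Y, U₀), RingHom.ker (i.app U₀).hom = Ideal.ofList rs ∧
          IsWeaklyRegular Γ(Y', U') (rs.map (q.appLE U₀ U' e).hom)) :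
    Mor2.IsRegularClosedImmersion j := by
  haveI : IsClosedImmersion j := MorphismProperty.of_isPullback (P := @IsClosedImmersion) H.flip
    inferInstance
  refine ⟨inferInstance, fun z' => ?_⟩
  obtain ⟨U₀, hU₀, U', hU', e, hz', rs, hker, hreg⟩ := hloc z'
  haveI : IsClosedImmersion (i ∣_ U₀) :=
    IsZariskiLocalAtTarget.restrict (P := @IsClosedImmersion) ‹IsClosedImmersion i› U₀
  obtain ⟨-, hk⟩ := Groth.Agent.LibRegImmBC29.restrict_pullback_snd i q U₀ hU₀ U' hU' e
  -- compare `j` with `pullback.snd i q`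
  have hkj : RingHom.ker (j.app U').hom = RingHom.ker ((pullback.snd i q).app U').hom := by
    obtain ⟨E, hE⟩ : ∃ E : Z' ≅ pullback i q, j = E.hom ≫ pullback.snd i q :=
      ⟨H.flip.isoPullback, (H.flip.isoPullback_hom_snd).symm⟩
    rw [hE]
    exact ker_app_comp_iso E.hom _ U'
  refine ⟨U', hU', hz', rs.map (q.appLE U₀ U' e).hom, ⟨hreg, ?_⟩, ?_⟩
  · -- properness
    rw [smul_eq_mul, Ideal.mul_top]
    intro htop
    have h1 : Ideal.ofList (rs.map (q.appLE U₀ U' e).hom) = RingHom.ker (j.app U').hom := by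
      rw [hkj, hk, hker, Ideal.map_ofList]
    rw [h1] at htop
    have h2 : (1 : Γ(Y', U')) ∈ RingHom.ker (j.app U').hom := by
      rw [← htop]
      trivial
    rw [RingHom.mem_ker, map_one] at h2
    haveI : Nonempty (j ⁻¹ᵁ U') := ⟨⟨z', hz'⟩⟩
    exact one_ne_zero h2
  · rw [Scheme.Hom.ker_apply, hkj, hk, hker, Ideal.map_ofList]

end Groth.Agent.Lib.helper5.CMSliceSch
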