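import Mathlib
import Groth.Agent.Lib.Helper5.CMSliceSch4
import Groth.Agent.Lib.Helper5.CMSliceSch1

/-!
# Base change of `Spec (C/(ys)) ⟶ U` for a fibrewise regular sequence `ys` (helper5)
-/

set_option autoImplicit false
universe u

open AlgebraicGeometry CategoryTheory CategoryTheory.Limits IsLocalRing RingTheory.Sequence
  Groth.Agent.LibFibReg29 TensorProduct

namespace Groth.Agent.Lib.helper5.CMSliceSch

theorem fromSpec_appLE_self {X : Scheme.{u}} {U : X.Opens} (hU : IsAffineOpen U)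
    (h : (⊤ : (Spec Γ(X, U)).Opens) ≤ hU.fromSpec ⁻¹ᵁ U) :
    hU.fromSpec.appLE U ⊤ h = (Scheme.ΓSpecIso Γ(X, U)).inv := by
  rw [Scheme.Hom.appLE, hU.fromSpec_app_self, Category.assoc, ← Functor.map_comp]
  have : ((eqToHom hU.fromSpec_preimage_self).op ≫ (homOfLE h).op) = 𝟙 _ := Subsingleton.elim _ _
  rw [this, CategoryTheory.Functor.map_id, Category.comp_id]

/-- **Base change of a fibrewise regular closed immersion.** -/
theorem isRegularClosedImmersion_pullback_map {X S S' : Scheme.{u}} (f : X ⟶ S) (g : S' ⟶ S)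
    {U : X.Opens} (hU : IsAffineOpen U) {W : S.Opens} (hW : IsAffineOpen W) (e : U ≤ f ⁻¹ᵁ W)
    (ys : List Γ(X, U))
    (H : letI := (f.appLE W U e).hom.toAlgebra
         RegFlat Γ(S, W) Γ(X, U) ys)
    (h1 h2) :
    Mor2.IsRegularClosedImmersion
      (pullback.map (Spec.map (CommRingCat.ofHom (Ideal.Quotient.mk (Ideal.ofList ys))) ≫
          hU.isoSpec.inv ≫ U.ι ≫ f) g (U.ι ≫ f) g
        (Spec.map (CommRingCat.ofHom (Ideal.Quotient.mk (Ideal.ofList ys))) ≫ hU.isoSpec.inv)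
        (𝟙 S') (𝟙 S) h1 h2) := by
  letI algAC : Algebra Γ(S, W) Γ(X, U) := (f.appLE W U e).hom.toAlgebra
  set σ := Spec.map (CommRingCat.ofHom (Ideal.Quotient.mk (Ideal.ofList ys))) with hσ
  haveI : IsClosedImmersion σ := IsClosedImmersion.spec_of_surjective _ Ideal.Quotient.mk_surjective
  set m := pullback.map (σ ≫ hU.isoSpec.inv ≫ U.ι ≫ f) g (U.ι ≫ f) g (σ ≫ hU.isoSpec.inv)
    (𝟙 S') (𝟙 S) h1 h2 with hm
  let q : pullback (U.ι ≫ f) g ⟶ Spec Γ(X, U) := pullback.fst (U.ι ≫ f) g ≫ hU.isoSpec.hom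
  -- the right-hand pullback square
  have H₂ : IsPullback q (pullback.snd (U.ι ≫ f) g) (hU.fromSpec ≫ f) g := by
    refine IsPullback.of_iso (IsPullback.of_hasPullback (U.ι ≫ f) g) (Iso.refl _) hU.isoSpec
      (Iso.refl _) (Iso.refl _) ?_ ?_ ?_ ?_
    · simp [q]
    · simp
    · simp
    · simp
  have hm1 : m ≫ pullback.fst (U.ι ≫ f) g =
      pullback.fst (σ ≫ hU.isoSpec.inv ≫ U.ι ≫ f) g ≫ σ ≫ hU.isoSpec.inv := by
    rw [hm, pullback.lift_fst]
  have hm2 : m ≫ pullback.snd (U.ι ≫ f) g = pullback.snd (σ ≫ hU.isoSpec.inv ≫ U.ι ≫ f) g := by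
    rw [hm, pullback.lift_snd, Category.comp_id]
  have Hpb : IsPullback m (pullback.fst (σ ≫ hU.isoSpec.inv ≫ U.ι ≫ f) g) q σ := by
    refine IsPullback.of_right ?_ ?_ H₂.flip
    · rw [hm2]
      have h3 : σ ≫ hU.fromSpec ≫ f = σ ≫ hU.isoSpec.inv ≫ U.ι ≫ f := by
        rw [← IsAffineOpen.isoSpec_inv_ι, Category.assoc]
      rw [h3]
      exact (IsPullback.of_hasPullback _ g).flip
    · change m ≫ pullback.fst (U.ι ≫ f) g ≫ hU.isoSpec.hom = _
      rw [reassoc_of% hm1]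
      simp
  refine isRegularClosedImmersion_of_isPullback Hpb (fun z' => ?_)
  -- the point and the charts
  set w := m z' with hw
  set s' := pullback.snd (U.ι ≫ f) g w with hs'
  have hgs' : g s' ∈ W := by
    have h3 : g s' = f (U.ι (pullback.fst (U.ι ≫ f) g w)) := by
      have := congrArg (fun k => k w) (pullback.condition (f := U.ι ≫ f) (g := g))
      simpa using this.symm
    rw [h3]
    exact e (pullback.fst (U.ι ≫ f) g w).2
  obtain ⟨_, ⟨S'₁, hS'₁ : IsAffineOpen S'₁, rfl⟩, hs'S'₁, hS'₁W⟩ :=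
    S'.isBasis_affineOpens.exists_subset_of_mem_open (show s' ∈ (g ⁻¹ᵁ W : Set S') from hgs')
      (g ⁻¹ᵁ W).isOpen
  have hUST : S'₁ ≤ g ⁻¹ᵁ W := hS'₁W
  have hUSX : (⊤ : (Spec Γ(X, U)).Opens) ≤ (hU.fromSpec ≫ f) ⁻¹ᵁ W := by
    intro y _
    change f (hU.fromSpec y) ∈ W
    exact e (fromSpec_mem hU y)
  set U' : (pullback (U.ι ≫ f) g).Opens :=
    q ⁻¹ᵁ ⊤ ⊓ (pullback.snd (U.ι ≫ f) g) ⁻¹ᵁ S'₁ with hU'
  have hU'aff : IsAffineOpen U' := by
    have : IsAffine (W : Scheme.{u}) := hW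
    have : IsAffine (S'₁ : Scheme.{u}) := hS'₁
    have : IsAffine ((⊤ : (Spec Γ(X, U)).Opens) : Scheme.{u}) := isAffineOpen_top _
    exact IsAffine.of_isIso (Scheme.Hom.isPullback_resLE H₂ hUST hUSX hU').isoPullback.hom
  have hiso := isIso_pushoutSection_of_isAffineOpen H₂ hUST hUSX hU' hW hS'₁ (isAffineOpen_top _)
  have hpo := (isIso_pushoutSection_iff H₂ hUST hUSX hU').mp hiso
  have hφ₁ : (hU.fromSpec ≫ f).appLE W ⊤ hUSX =
      CommRingCat.ofHom (algebraMap Γ(S, W) Γ(X, U)) ≫ (Scheme.ΓSpecIso Γ(X, U)).inv := by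
    have h3 : (⊤ : (Spec Γ(X, U)).Opens) ≤ hU.fromSpec ⁻¹ᵁ U := fun y _ => fromSpec_mem hU y
    rw [← fromSpec_appLE_self hU h3]
    change _ = f.appLE W U e ≫ _
    rw [Scheme.Hom.appLE_comp_appLE]
  refine ⟨⊤, isAffineOpen_top _, U', hU'aff, inf_le_left, ⟨trivial, hs'S'₁⟩,
    ys.map (Scheme.ΓSpecIso Γ(X, U)).inv.hom, ?_, ?_⟩
  · rw [ker_SpecMap_appTop]
    have h3 : RingHom.ker (CommRingCat.Hom.hom (CommRingCat.ofHom
        (Ideal.Quotient.mk (Ideal.ofList ys)))) = Ideal.ofList ys := Ideal.mk_ker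
    rw [h3, Ideal.map_ofList]
    rfl
  · exact isWeaklyRegular_of_isPushout' (A := Γ(S, W)) (C := Γ(X, U))
      (Scheme.ΓSpecIso Γ(X, U)).inv _ hφ₁ _ _ _ hpo ys H

end Groth.Agent.Lib.helper5.CMSliceSch
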