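import Groth.Agent.Lib.Helper5.FibCrit1

/-!
# Fibrewise flatness at a point: restriction to open subschemes (helper5)

* `flat_stalkMap_iff_of_openImmersions` : flatness at a point may be tested after restricting source
  and target to opens.
* `fibFlatAt_iff_of_openImmersions` : the same for `FibFlatAt`.
-/

set_option autoImplicit false
universe u
open CategoryTheory CategoryTheory.Limits AlgebraicGeometry

namespace Groth.Agent.Lib.helper5.FibCrit

variable {U V W X Y S : Scheme.{u}}

theorem flat_stalkMap_iff_of_openImmersions (f : X ⟶ Y) (f' : U ⟶ V) (jX : U ⟶ X) (jY : V ⟶ Y)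
    [IsOpenImmersion jX] [IsOpenImmersion jY] (w : f' ≫ jY = jX ≫ f) (u : U) :
    (f.stalkMap (jX u)).hom.Flat ↔ (f'.stalkMap u).hom.Flat := by
  rw [← flat_comp_left_iff jX f u (bijective_stalkMap_of_isOpenImmersion jX u),
    ← flat_stalkMap_congr w,
    flat_comp_right_iff f' jY u (bijective_stalkMap_of_isOpenImmersion jY _)]

theorem fibFlatAt_iff_of_openImmersions (f : X ⟶ Y) (g : Y ⟶ S) (f' : U ⟶ V) (g' : V ⟶ W)
    (jX : U ⟶ X) (jY : V ⟶ Y) (jS : W ⟶ S) [IsOpenImmersion jX] [IsOpenImmersion jY] [Mono jS]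
    (wf : f' ≫ jY = jX ≫ f) (wg : g' ≫ jS = jY ≫ g) (u : U) :
    FibFlatAt f g (jX u) ↔ FibFlatAt f' g' u := by
  set s' : W := g' (f' u) with hs'
  let t' : Spec (W.residueField s') ⟶ W := W.fromSpecResidueField s'
  let t : Spec (W.residueField s') ⟶ S := t' ≫ jS
  letI : Field (W.residueField s') := inferInstanceAs (Field (IsLocalRing.ResidueField _))
  have sqV : IsPullback (pullback.fst g t) (pullback.snd g t) g t := IsPullback.of_hasPullback g t
  have sqU : IsPullback (pullback.fst f (pullback.fst g t)) (pullback.snd f (pullback.fst g t)) f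
      (pullback.fst g t) := IsPullback.of_hasPullback _ _
  let β : g'.fiber s' ⟶ pullback g t :=
    pullback.map g' t' g t jY (𝟙 _) jS wg (by simp [t])
  haveI : IsOpenImmersion β := Scheme.pullback_map_isOpenImmersion _ _ _ _ _ _ _ _ _
  have hβ1 : β ≫ pullback.fst g t = g'.fiberι s' ≫ jY := pullback.lift_fst _ _ _
  have sqU' := isPullback_fiberMap f' g' s'
  have hcomm : ((f' ≫ g').fiberι s' ≫ jX) ≫ f = (MoreMor.fiberMap f' g' s' ≫ β) ≫ pullback.fst g t := by
    rw [Category.assoc, ← wf, ← Category.assoc, sqU'.w, Category.assoc, Category.assoc, hβ1]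
  let α : (f' ≫ g').fiber s' ⟶ pullback f (pullback.fst g t) :=
    sqU.lift ((f' ≫ g').fiberι s' ≫ jX) (MoreMor.fiberMap f' g' s' ≫ β) hcomm
  have hα1 : α ≫ pullback.fst f (pullback.fst g t) = (f' ≫ g').fiberι s' ≫ jX :=
    sqU.lift_fst _ _ _
  have hα2 : α ≫ pullback.snd f (pullback.fst g t) = MoreMor.fiberMap f' g' s' ≫ β :=
    sqU.lift_snd _ _ _
  have hαeq : α = sqU'.isoPullback.hom ≫
      pullback.map f' (g'.fiberι s') f (pullback.fst g t) jX β jY wf hβ1.symm := by
    apply sqU.hom_ext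
    · rw [hα1, Category.assoc, pullback.lift_fst, ← Category.assoc, sqU'.isoPullback_hom_fst]
    · rw [hα2, Category.assoc, pullback.lift_snd, ← Category.assoc, sqU'.isoPullback_hom_snd]
  haveI : IsOpenImmersion α := by
    rw [hαeq]; infer_instance
  let z' : (f' ≫ g').fiber s' := (f' ≫ g').asFiber u
  have hz : pullback.fst f (pullback.fst g t) (α z') = jX u := by
    rw [← Scheme.Hom.comp_apply, hα1, Scheme.Hom.comp_apply]
    congr 1
    exact (f' ≫ g').fiberι_asFiber u
  rw [← hz, ← fibFlatAt_iff_of_isPullback f g t _ _ sqV _ _ sqU (α z'),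
    ← flat_comp_left_iff α _ z' (bijective_stalkMap_of_isOpenImmersion α z'),
    flat_stalkMap_congr hα2,
    flat_comp_right_iff _ β z' (bijective_stalkMap_of_isOpenImmersion β _)]
  rfl

end Groth.Agent.Lib.helper5.FibCrit
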