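import Mathlib
import Groth.Agent.Lib.Helper5.CMQF8
import Groth.Agent.Lib.Helper5.CMSliceSch5
import Groth.Agent.Lib.Helper5.FibCrit2

/-!
# Charts of affine space over a scheme (helper5)

`chartMap σ hW : Spec Γ(Y, W)[σ] ⟶ 𝔸(σ; Y)`: the open immersion attached to an affine open `W` of
`Y`, with `chartMap_over` and `range_chartMap`.
-/

set_option autoImplicit false
universe u
open MvPolynomial AlgebraicGeometry CategoryTheory CategoryTheory.Limits

namespace Groth.Agent.Lib.helper5.CMQF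

variable {Y : Scheme.{u}} (σ : Type u) {W : Y.Opens} (hW : IsAffineOpen W)

/-- the chart `Spec Γ(Y, W)[σ] ⟶ 𝔸(σ; Y)` of affine space over `Y` attached to an affine open `W`. -/
noncomputable def chartMap : Spec (CommRingCat.of (MvPolynomial σ Γ(Y, W))) ⟶ 𝔸(σ; Y) :=
  (AffineSpace.SpecIso σ Γ(Y, W)).inv ≫ AffineSpace.map σ hW.fromSpec

theorem chartMap_over :
    chartMap σ hW ≫ (𝔸(σ; Y) ↘ Y) = Spec.map (CommRingCat.ofHom C) ≫ hW.fromSpec := by
  rw [chartMap, Category.assoc, AffineSpace.map_over, AffineSpace.SpecIso_inv_over_assoc]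

instance : IsOpenImmersion (chartMap σ hW) := by
  haveI : IsOpenImmersion (AffineSpace.map σ hW.fromSpec) :=
    MorphismProperty.of_isPullback (AffineSpace.isPullback_map (n := σ) hW.fromSpec).flip
      (inferInstance : IsOpenImmersion hW.fromSpec)
  rw [chartMap]
  infer_instance

theorem range_chartMap :
    Set.range (chartMap σ hW) = (𝔸(σ; Y) ↘ Y) ⁻¹' (W : Set Y) := by
  apply Set.Subset.antisymm
  · rintro _ ⟨t, rfl⟩
    rw [Set.mem_preimage, ← Scheme.Hom.comp_apply, chartMap_over, Scheme.Hom.comp_apply]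
    exact Groth.Agent.Lib.helper5.CMSliceSch.fromSpec_mem hW _
  · intro z hz
    rw [Set.mem_preimage, ← hW.range_fromSpec] at hz
    obtain ⟨w, hw⟩ := hz
    obtain ⟨t, ht, -⟩ := Scheme.exists_preimage_of_isPullback
      (AffineSpace.isPullback_map (n := σ) hW.fromSpec) z w hw.symm
    refine ⟨(AffineSpace.SpecIso σ Γ(Y, W)).hom t, ?_⟩
    rw [chartMap, Scheme.Hom.comp_apply, ← Scheme.Hom.comp_apply (AffineSpace.SpecIso σ Γ(Y, W)).hom,
      Iso.hom_inv_id]
    exact ht

end Groth.Agent.Lib.helper5.CMQF
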