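import Mathlib
import Groth.Agent.Lib.Helper5.CMQF9
import Groth.Agent.Lib.Helper3.DimIneqSch

/-!
# Cohen–Macaulay points admit quasi-finite flat maps to affine space (helper5)

* `exists_hom_of_aeval`: from ring-level data on affine charts `U ⊆ f⁻¹ W` (sections `zs` of `U` such
  that `Γ(Y,W)[σ] → Γ(X,U)` is quasi-finite at `x` and flat at `x`) to a locally quasi-finite
  `Y`-morphism `U' ⟶ 𝔸(σ; Y)`, flat at `x`, on a smaller neighbourhood.
* `exists_chart_data_of_isCMAt`, `exists_quasiFinite_flat_of_isCMAt`: EGA IV 15.4 (a) ⇒ (b).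
-/

set_option autoImplicit false
universe u
open MvPolynomial AlgebraicGeometry CategoryTheory CategoryTheory.Limits

namespace Groth.Agent.Lib.helper5.CMQF

open Groth.Agent.Lib.helper5.CMSliceSch Groth.Agent.Lib.helper5.CMSlice
open Groth.Agent.Lib.helper5.FibCrit

theorem flat_stalkMap_of_eq {X Y : Scheme.{u}} (f : X ⟶ Y) {x y : X} (h : x = y)
    (hx : (f.stalkMap x).hom.Flat) : (f.stalkMap y).hom.Flat := by
  subst h
  exact hx

theorem exists_hom_of_aeval {X Y : Scheme.{u}} (f : X ⟶ Y) [LocallyOfFiniteType f]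
    {U : X.Opens} (hU : IsAffineOpen U) {W : Y.Opens} (hW : IsAffineOpen W) (e : U ≤ f ⁻¹ᵁ W)
    (x : X) (hxU : x ∈ U) (σ : Type u) (zs : σ → Γ(X, U))
    (hqf : letI := (f.appLE W U e).hom.toAlgebra
           letI := (aeval zs : MvPolynomial σ Γ(Y, W) →ₐ[Γ(Y, W)] Γ(X, U)).toRingHom.toAlgebra
           Algebra.QuasiFiniteAt (MvPolynomial σ Γ(Y, W)) (hU.primeIdealOf ⟨x, hxU⟩).asIdeal)
    (hfl : letI := (f.appLE W U e).hom.toAlgebra
           letI := (aeval zs : MvPolynomial σ Γ(Y, W) →ₐ[Γ(Y, W)] Γ(X, U)).toRingHom.toAlgebra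
           Module.Flat (MvPolynomial σ Γ(Y, W))
            (Localization.AtPrime (hU.primeIdealOf ⟨x, hxU⟩).asIdeal)) :
    ∃ (U' : X.Opens) (hx : x ∈ U') (g : (U' : Scheme.{u}) ⟶ 𝔸(σ; Y)),
      g ≫ (𝔸(σ; Y) ↘ Y) = U'.ι ≫ f ∧ LocallyQuasiFinite g ∧ (g.stalkMap ⟨x, hx⟩).hom.Flat := by
  letI algAB : Algebra Γ(Y, W) Γ(X, U) := (f.appLE W U e).hom.toAlgebra
  letI algPB : Algebra (MvPolynomial σ Γ(Y, W)) Γ(X, U) :=
    (aeval zs : MvPolynomial σ Γ(Y, W) →ₐ[Γ(Y, W)] Γ(X, U)).toRingHom.toAlgebra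
  haveI : IsScalarTower Γ(Y, W) (MvPolynomial σ Γ(Y, W)) Γ(X, U) :=
    IsScalarTower.of_algebraMap_eq' (by
      ext a
      change algebraMap Γ(Y, W) Γ(X, U) a = aeval zs (C a)
      simp)
  haveI hft : Algebra.FiniteType Γ(Y, W) Γ(X, U) :=
    HasRingHomProperty.appLE (P := @LocallyOfFiniteType) f inferInstance ⟨W, hW⟩ ⟨U, hU⟩ e
  haveI : Algebra.FiniteType (MvPolynomial σ Γ(Y, W)) Γ(X, U) :=
    Algebra.FiniteType.of_restrictScalars_finiteType Γ(Y, W) _ _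
  set q : Ideal Γ(X, U) := (hU.primeIdealOf ⟨x, hxU⟩).asIdeal with hq
  haveI : Algebra.QuasiFiniteAt (MvPolynomial σ Γ(Y, W)) q := hqf
  obtain ⟨r, hr, H⟩ := Groth.Agent.Lib.helper3.FibreParam.exists_notMem_forall_quasiFiniteAt
    (A := MvPolynomial σ Γ(Y, W)) q
  set φc : CommRingCat.of (MvPolynomial σ Γ(Y, W)) ⟶ Γ(X, U) :=
    CommRingCat.ofHom (algebraMap (MvPolynomial σ Γ(Y, W)) Γ(X, U)) with hφc
  have hφC : CommRingCat.ofHom (C : Γ(Y, W) →+* MvPolynomial σ Γ(Y, W)) ≫ φc = f.appLE W U e := by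
    ext a
    change aeval zs (C a) = algebraMap Γ(Y, W) Γ(X, U) a
    simp
  set G : Spec Γ(X, U) ⟶ 𝔸(σ; Y) := Spec.map φc ≫ chartMap σ hW with hG
  have hGover : G ≫ (𝔸(σ; Y) ↘ Y) = hU.fromSpec ≫ f := by
    rw [hG, Category.assoc, chartMap_over, ← Category.assoc, ← Spec.map_comp, hφC]
    exact IsAffineOpen.SpecMap_appLE_fromSpec f hW hU e
  have hU'U : X.basicOpen r ≤ U := X.basicOpen_le r
  have hxU' : x ∈ X.basicOpen r := (mem_basicOpen_iff_notMem_primeIdealOf hU x hxU r).mpr hr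
  set k : (X.basicOpen r : Scheme.{u}) ⟶ Spec Γ(X, U) := X.homOfLE hU'U ≫ hU.isoSpec.hom with hk
  have hkpt : ∀ x' : (X.basicOpen r : Scheme.{u}),
      k x' = hU.primeIdealOf ⟨x'.1, hU'U x'.2⟩ := by
    intro x'
    rw [hk, Scheme.Hom.comp_apply]
    change hU.primeIdealOf (X.homOfLE hU'U x') = _
    congr 1
    exact Subtype.ext (Scheme.homOfLE_apply ..)
  refine ⟨X.basicOpen r, hxU', k ≫ G, ?_, ?_, ?_⟩
  · rw [Category.assoc, hGover, hk, Category.assoc, ← Category.assoc hU.isoSpec.hom,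
      hU.isoSpec_hom_fromSpec, ← Category.assoc, Scheme.homOfLE_ι]
  · haveI : LocallyOfFiniteType ((k ≫ G) ≫ (𝔸(σ; Y) ↘ Y)) := by
      rw [Category.assoc, hGover]
      infer_instance
    haveI : LocallyOfFiniteType (k ≫ G) := locallyOfFiniteType_of_comp _ (𝔸(σ; Y) ↘ Y)
    rw [← Scheme.Hom.quasiFiniteLocus_eq_top_iff, eq_top_iff]
    intro x' _
    rw [Scheme.Hom.mem_quasiFiniteLocus, Scheme.Hom.quasiFiniteAt_comp_iff_of_isOpenImmersion,
      hG, Scheme.Hom.quasiFiniteAt_comp_iff, hkpt]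
    refine (quasiFiniteAt_Spec_iff (R := MvPolynomial σ Γ(Y, W)) (S := Γ(X, U)) _).mpr ?_
    apply H
    exact (mem_basicOpen_iff_notMem_primeIdealOf hU x'.1 (hU'U x'.2) r).mp x'.2
  · rw [flat_comp_left_iff k G ⟨x, hxU'⟩ (bijective_stalkMap_of_isOpenImmersion k _), hG,
      flat_comp_right_iff _ (chartMap σ hW) _ (bijective_stalkMap_of_isOpenImmersion _ _)]
    have h1 := (flat_stalkMap_SpecMap_iff (algebraMap (MvPolynomial σ Γ(Y, W)) Γ(X, U))
      (hU.primeIdealOf ⟨x, hxU⟩)).mpr hfl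
    exact flat_stalkMap_of_eq _ (hkpt ⟨x, hxU'⟩).symm h1

end Groth.Agent.Lib.helper5.CMQF

namespace Groth.Agent.Lib.helper5.CMQF

open Groth.Agent.Lib.helper5.CMSliceSch Groth.Agent.Lib.helper5.CMSlice
open Groth.Agent.Lib.helper5.FibCrit IsLocalRing LocCoh

/-- chart-level data attached to a point where `f` is Cohen–Macaulay. -/
theorem exists_chart_data_of_isCMAt {X Y : Scheme.{u}} (f : X ⟶ Y) [LocallyOfFinitePresentation f]
    (x : X) (hcm : MoreMor.IsCMAt f x) :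
    ∃ (U : X.Opens) (hU : IsAffineOpen U) (W : Y.Opens) (_ : IsAffineOpen W) (e : U ≤ f ⁻¹ᵁ W)
      (hxU : x ∈ U) (r d : ℕ) (zs : Fin r ⊕ Fin d → Γ(X, U)),
      (letI := (f.appLE W U e).hom.toAlgebra
       letI := (aeval zs :
        MvPolynomial (Fin r ⊕ Fin d) Γ(Y, W) →ₐ[Γ(Y, W)] Γ(X, U)).toRingHom.toAlgebra
       Algebra.QuasiFiniteAt (MvPolynomial (Fin r ⊕ Fin d) Γ(Y, W))
          (hU.primeIdealOf ⟨x, hxU⟩).asIdeal ∧
       Module.Flat (MvPolynomial (Fin r ⊕ Fin d) Γ(Y, W))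
          (Localization.AtPrime (hU.primeIdealOf ⟨x, hxU⟩).asIdeal)) ∧
      Groth.Agent.Lib.helper3.DimIneq.td
        (Ideal.quotientMap (hU.primeIdealOf ⟨x, hxU⟩).asIdeal (f.appLE W U e).hom le_rfl) =
          (r : Cardinal.{u}) ∧
      ringKrullDim ((f.fiber (f x)).presheaf.stalk (f.asFiber x)) = d := by
  obtain ⟨hflat, hCM⟩ := hcm
  obtain ⟨U, hU, W, hW, e₀, hxU, -, hflatB⟩ := exists_flat_chart f x hflat ⊤ trivial
  letI algAB : Algebra Γ(Y, W) Γ(X, U) := (f.appLE W U e₀).hom.toAlgebra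
  haveI := hflatB
  haveI hfp : Algebra.FinitePresentation Γ(Y, W) Γ(X, U) :=
    HasRingHomProperty.appLE (P := @LocallyOfFinitePresentation) f inferInstance ⟨W, hW⟩ ⟨U, hU⟩ e₀
  let q : Ideal Γ(X, U) := (hU.primeIdealOf ⟨x, hxU⟩).asIdeal
  let p : Ideal Γ(Y, W) := (hW.primeIdealOf ⟨f x, e₀ hxU⟩).asIdeal
  have hqp : q.comap (algebraMap Γ(Y, W) Γ(X, U)) = p := by
    have := IsAffineOpen.comap_primeIdealOf_appLE (f := f) (x := x) W hW U hU e₀ hxU
    exact congrArg PrimeSpectrum.asIdeal this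
  haveI : q.LiesOver p := ⟨hqp.symm⟩
  letI a1 : Algebra Γ(X, U) (X.presheaf.stalk x) := X.presheaf.algebra_section_stalk (⟨x, hxU⟩ : U)
  haveI l1 : IsLocalization.AtPrime (X.presheaf.stalk x) q := hU.isLocalization_stalk ⟨x, hxU⟩
  have hfib : fibIdeal (B := Γ(X, U)) p (X.presheaf.stalk x) =
      (maximalIdeal (Y.presheaf.stalk (f x))).map (f.stalkMap x).hom :=
    (map_maximalIdeal_stalkMap_eq f hW e₀ x hxU).symm
  obtain ⟨e1⟩ := Groth.Agent.Lib.helper17.FibreStalk.nonempty_asFiber_stalk_equiv f x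
  let E : (X.presheaf.stalk x ⧸ fibIdeal (B := Γ(X, U)) p (X.presheaf.stalk x)) ≃+*
      (f.fiber (f x)).presheaf.stalk (f.asFiber x) := (Ideal.quotEquivOfEq hfib).trans e1
  haveI : IsCohenMacaulayLocalRing
      (X.presheaf.stalk x ⧸ fibIdeal (B := Γ(X, U)) p (X.presheaf.stalk x)) := by
    haveI := hCM
    exact Groth.Agent.S9808.cm_of_ringEquiv E.symm
  obtain ⟨r, d, zs, hqffl, htb, hdim⟩ := exists_aeval_quasiFinite_flat p q (X.presheaf.stalk x)
  refine ⟨U, hU, W, hW, e₀, hxU, r, d, zs, hqffl, ?_, ?_⟩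
  · have h1 := htb.lift_cardinalMk_eq_trdeg
    rw [← Groth.Agent.Lib.helper3.FibreParam.td_quotientMap_congr_ideal (f.appLE W U e₀).hom q p hqp]
    have h2 : Groth.Agent.Lib.helper3.DimIneq.td
        (Ideal.quotientMap q (f.appLE W U e₀).hom (le_of_eq hqp.symm)) =
        Algebra.trdeg (Γ(Y, W) ⧸ p) (Γ(X, U) ⧸ q) := rfl
    rw [h2]
    have h3 : Cardinal.lift.{u} (Cardinal.mk (Fin r)) = (r : Cardinal.{u}) := by simp
    rw [← h3, h1]
    exact (Cardinal.lift_id'.{0, u} _).symm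
  · rw [← hdim]
    exact (ringKrullDim_eq_of_ringEquiv E).symm

/-- **EGA IV 15.4.? (a) ⇒ (b)**: around a point where `f` is Cohen–Macaulay there is a locally
quasi-finite morphism to an affine space over the base which is flat at the point; the dimension of
the affine space is `r + d` with `r` the transcendence degree of the residue field extension and `d`
the dimension of the local ring of the fibre. -/
theorem exists_quasiFinite_flat_of_isCMAt {X Y : Scheme.{u}} (f : X ⟶ Y)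
    [LocallyOfFinitePresentation f] (x : X) (hcm : MoreMor.IsCMAt f x) :
    ∃ (r d : ℕ) (U : X.Opens) (hx : x ∈ U)
      (g : (U : Scheme.{u}) ⟶ 𝔸(ULift.{u} (Fin (r + d)); Y)),
      g ≫ (𝔸(ULift.{u} (Fin (r + d)); Y) ↘ Y) = U.ι ≫ f ∧ LocallyQuasiFinite g ∧
        (g.stalkMap ⟨x, hx⟩).hom.Flat ∧
      Groth.Agent.Lib.helper3.DimIneq.td (f.residueFieldMap x).hom = (r : Cardinal.{u}) ∧
      ringKrullDim ((f.fiber (f x)).presheaf.stalk (f.asFiber x)) = d := by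
  obtain ⟨U, hU, W, hW, e, hxU, r, d, zs, ⟨hqf, hfl⟩, htd, hdim⟩ :=
    exists_chart_data_of_isCMAt f x hcm
  let eσ : ULift.{u} (Fin (r + d)) ≃ Fin r ⊕ Fin d := Equiv.ulift.trans finSumFinEquiv.symm
  letI algAB : Algebra Γ(Y, W) Γ(X, U) := (f.appLE W U e).hom.toAlgebra
  have hqf' := quasiFiniteAt_aeval_comp_equiv (A := Γ(Y, W)) eσ zs
    (hU.primeIdealOf ⟨x, hxU⟩).asIdeal hqf
  have hfl' := flat_aeval_comp_equiv (A := Γ(Y, W)) eσ zs
    (hU.primeIdealOf ⟨x, hxU⟩).asIdeal hfl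
  obtain ⟨U', hx, g, h1, h2, h3⟩ := exists_hom_of_aeval f hU hW e x hxU
    (ULift.{u} (Fin (r + d))) (zs ∘ eσ) hqf' hfl'
  refine ⟨r, d, U', hx, g, h1, h2, h3, ?_, hdim⟩
  rw [← htd]
  exact (Groth.Agent.Lib.helper3.DimIneq.td_quotientMap_eq f hW hU e x hxU).symm

end Groth.Agent.Lib.helper5.CMQF
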