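import Mathlib
import Groth.Agent.Lib.Helper5.CMQF10

/-!
# Quasi-finite flat maps to affine space force Cohen–Macaulay fibres (helper5)

* `isCMAt_comp_iff_of_isOpenImmersion`: `MoreMor.IsCMAt` is local on the source.
* `isCMAt_of_quasiFinite_flat`: EGA IV 15.4 (b) ⇒ (a).
-/

set_option autoImplicit false
universe u
open MvPolynomial AlgebraicGeometry CategoryTheory CategoryTheory.Limits

namespace Groth.Agent.Lib.helper5.CMQF

open Groth.Agent.Lib.helper5.CMSliceSch Groth.Agent.Lib.helper5.CMSlice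
open Groth.Agent.Lib.helper5.FibCrit IsLocalRing LocCoh

/-- the fibre ring at a point is insensitive to open immersions on the source. -/
theorem nonempty_fibRing_equiv_of_isOpenImmersion {X₁ X Y : Scheme.{u}} (j : X₁ ⟶ X)
    [IsOpenImmersion j] (f : X ⟶ Y) (x₁ : X₁) :
    Nonempty (Groth.Agent.Lib.helper17.FibreStalk.FibRing f (j x₁) ≃+*
      Groth.Agent.Lib.helper17.FibreStalk.FibRing (j ≫ f) x₁) := by
  let e : X.presheaf.stalk (j x₁) ≃+* X₁.presheaf.stalk x₁ :=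
    RingEquiv.ofBijective (j.stalkMap x₁).hom (bijective_stalkMap_of_isOpenImmersion j x₁)
  refine ⟨Ideal.quotientEquiv _ _ e ?_⟩
  have h1 : ((j ≫ f).stalkMap x₁).hom = (j.stalkMap x₁).hom.comp (f.stalkMap (j x₁)).hom := by
    rw [Scheme.Hom.stalkMap_comp]
    rfl
  change Ideal.map ((j ≫ f).stalkMap x₁).hom (maximalIdeal (Y.presheaf.stalk (f (j x₁)))) =
    Ideal.map (j.stalkMap x₁).hom
      (Ideal.map (f.stalkMap (j x₁)).hom (maximalIdeal (Y.presheaf.stalk (f (j x₁)))))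
  rw [Ideal.map_map]
  exact congrArg (fun φ => Ideal.map φ (maximalIdeal (Y.presheaf.stalk (f (j x₁))))) h1

theorem isCMAt_comp_iff_of_isOpenImmersion {X₁ X Y : Scheme.{u}} (j : X₁ ⟶ X)
    [IsOpenImmersion j] (f : X ⟶ Y) (x₁ : X₁) :
    MoreMor.IsCMAt (j ≫ f) x₁ ↔ MoreMor.IsCMAt f (j x₁) := by
  obtain ⟨E⟩ := nonempty_fibRing_equiv_of_isOpenImmersion j f x₁
  obtain ⟨e1⟩ := Groth.Agent.Lib.helper17.FibreStalk.nonempty_asFiber_stalk_equiv f (j x₁)
  obtain ⟨e2⟩ := Groth.Agent.Lib.helper17.FibreStalk.nonempty_asFiber_stalk_equiv (j ≫ f) x₁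
  unfold MoreMor.IsCMAt
  rw [flat_comp_left_iff j f x₁ (bijective_stalkMap_of_isOpenImmersion j x₁)]
  refine and_congr_right fun _ => ⟨fun h => ?_, fun h => ?_⟩
  · haveI := h
    exact Groth.Agent.S9808.cm_of_ringEquiv ((e2.symm.trans E.symm).trans e1)
  · haveI := h
    exact Groth.Agent.S9808.cm_of_ringEquiv ((e1.symm.trans E).trans e2)

/-- **EGA IV 15.4 (b) ⇒ (a)**: a locally quasi-finite `Y`-morphism to an affine space over `Y`
which is flat at `x₁` forces `f₁` to be Cohen–Macaulay at `x₁`. -/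
theorem isCMAt_of_quasiFinite_flat {X₁ Y : Scheme.{u}} (f₁ : X₁ ⟶ Y) [LocallyOfFiniteType f₁]
    (σ : Type u) [Finite σ] (g : X₁ ⟶ 𝔸(σ; Y)) (hover : g ≫ (𝔸(σ; Y) ↘ Y) = f₁)
    [LocallyQuasiFinite g] (x₁ : X₁) (hfl : (g.stalkMap x₁).hom.Flat) :
    MoreMor.IsCMAt f₁ x₁ := by
  classical
  obtain ⟨_, ⟨W, hW : IsAffineOpen W, rfl⟩, hfxW, -⟩ :=
    Y.isBasis_affineOpens.exists_subset_of_mem_open (Set.mem_univ (f₁ x₁)) isOpen_univ
  set j := chartMap σ hW with hj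
  have hπ : ∀ v : X₁, (𝔸(σ; Y) ↘ Y) (g v) = f₁ v := by
    intro v
    rw [← Scheme.Hom.comp_apply, hover]
  have hgx : x₁ ∈ g ⁻¹ᵁ j.opensRange := by
    change g x₁ ∈ Set.range j
    rw [hj, range_chartMap, Set.mem_preimage, hπ]
    exact hfxW
  obtain ⟨_, ⟨V, hV : IsAffineOpen V, rfl⟩, hxV, hVO⟩ :=
    X₁.isBasis_affineOpens.exists_subset_of_mem_open hgx (g ⁻¹ᵁ j.opensRange).isOpen
  have hVrange : ∀ v ∈ V, g v ∈ Set.range j := fun v hv => hVO hv
  have e : V ≤ f₁ ⁻¹ᵁ W := by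
    intro v hv
    have := hVrange v hv
    rw [hj, range_chartMap, Set.mem_preimage, hπ] at this
    exact this
  set G : Spec Γ(X₁, V) ⟶ 𝔸(σ; Y) := hV.fromSpec ≫ g with hG
  have hrange : Set.range G ⊆ Set.range j := by
    rintro _ ⟨t, rfl⟩
    rw [hG, Scheme.Hom.comp_apply]
    exact hVrange _ (fromSpec_mem hV t)
  set ψ : Spec Γ(X₁, V) ⟶ Spec (CommRingCat.of (MvPolynomial σ Γ(Y, W))) :=
    IsOpenImmersion.lift j G hrange with hψ
  have hψj : ψ ≫ j = G := IsOpenImmersion.lift_fac j G hrange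
  set φc : CommRingCat.of (MvPolynomial σ Γ(Y, W)) ⟶ Γ(X₁, V) := Spec.preimage ψ with hφc
  have hφψ : Spec.map φc = ψ := Spec.map_preimage ψ
  have hφC : CommRingCat.ofHom (C : Γ(Y, W) →+* MvPolynomial σ Γ(Y, W)) ≫ φc =
      f₁.appLE W V e := by
    apply Spec.map_injective
    rw [← cancel_mono hW.fromSpec, Spec.map_comp, Category.assoc, ← chartMap_over, hφψ, ← hj,
      ← Category.assoc, hψj, hG, Category.assoc, hover]
    exact (IsAffineOpen.SpecMap_appLE_fromSpec f₁ hW hV e).symm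
  letI algAB : Algebra Γ(Y, W) Γ(X₁, V) := (f₁.appLE W V e).hom.toAlgebra
  haveI hft : Algebra.FiniteType Γ(Y, W) Γ(X₁, V) :=
    HasRingHomProperty.appLE (P := @LocallyOfFiniteType) f₁ inferInstance ⟨W, hW⟩ ⟨V, hV⟩ e
  set zs : σ → Γ(X₁, V) := fun i => φc.hom (X i) with hzs
  have hφ : φc.hom = (aeval zs : MvPolynomial σ Γ(Y, W) →ₐ[Γ(Y, W)] Γ(X₁, V)).toRingHom := by
    apply MvPolynomial.ringHom_ext
    · intro a
      have := congrArg (fun k => k.hom a) hφC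
      simp only [CommRingCat.hom_comp, CommRingCat.hom_ofHom, RingHom.comp_apply] at this
      rw [this]
      change algebraMap Γ(Y, W) Γ(X₁, V) a = aeval zs (C a)
      simp
    · intro i
      change φc.hom (X i) = aeval zs (X i)
      simp [hzs]
  set q' : Spec Γ(X₁, V) := hV.primeIdealOf ⟨x₁, hxV⟩ with hq'
  -- quasi-finiteness
  have hqf : letI := (aeval zs : MvPolynomial σ Γ(Y, W) →ₐ[Γ(Y, W)] Γ(X₁, V)).toRingHom.toAlgebra
      Algebra.QuasiFiniteAt (MvPolynomial σ Γ(Y, W)) q'.asIdeal := by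
    haveI : LocallyQuasiFinite (ψ ≫ j) := by
      rw [hψj, hG]
      infer_instance
    have h1 : LocallyQuasiFinite ψ := LocallyQuasiFinite.of_comp ψ j
    rw [← hφψ, HasRingHomProperty.Spec_iff (P := @LocallyQuasiFinite), hφ] at h1
    letI := (aeval zs : MvPolynomial σ Γ(Y, W) →ₐ[Γ(Y, W)] Γ(X₁, V)).toRingHom.toAlgebra
    haveI : Algebra.QuasiFinite (MvPolynomial σ Γ(Y, W)) Γ(X₁, V) := h1
    infer_instance
  -- flatness
  have hfl' : letI := (aeval zs : MvPolynomial σ Γ(Y, W) →ₐ[Γ(Y, W)] Γ(X₁, V)).toRingHom.toAlgebra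
      Module.Flat (MvPolynomial σ Γ(Y, W)) (Localization.AtPrime q'.asIdeal) := by
    have h0 : hV.fromSpec q' = x₁ := hV.fromSpec_primeIdealOf ⟨x₁, hxV⟩
    have h1 : (G.stalkMap q').hom.Flat := by
      rw [hG, flat_comp_left_iff hV.fromSpec g q' (bijective_stalkMap_of_isOpenImmersion _ _)]
      exact flat_stalkMap_of_eq g h0.symm hfl
    rw [flat_stalkMap_congr hψj.symm,
      flat_comp_right_iff ψ j q' (bijective_stalkMap_of_isOpenImmersion _ _)] at h1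
    have h2 : ((Spec.map (CommRingCat.ofHom φc.hom)).stalkMap q').hom.Flat := by
      have h3 : Spec.map (CommRingCat.ofHom φc.hom) = ψ := hφψ
      rw [flat_stalkMap_congr h3]
      exact h1
    have h4 := (flat_stalkMap_SpecMap_iff φc.hom q').mp h2
    rw [hφ] at h4
    exact h4
  -- reindex by `Fin n`
  let eσ : Fin (Nat.card σ) ≃ σ := (Finite.equivFin σ).symm
  have hqf₀ := quasiFiniteAt_aeval_comp_equiv (A := Γ(Y, W)) eσ zs q'.asIdeal hqf
  have hfl₀ := flat_aeval_comp_equiv (A := Γ(Y, W)) eσ zs q'.asIdeal hfl'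
  -- the ring-level statement
  let p : Ideal Γ(Y, W) := (hW.primeIdealOf ⟨f₁ x₁, e hxV⟩).asIdeal
  have hqp : q'.asIdeal.comap (algebraMap Γ(Y, W) Γ(X₁, V)) = p := by
    have := IsAffineOpen.comap_primeIdealOf_appLE (f := f₁) (x := x₁) W hW V hV e hxV
    exact congrArg PrimeSpectrum.asIdeal this
  haveI : q'.asIdeal.LiesOver p := ⟨hqp.symm⟩
  letI a1 : Algebra Γ(X₁, V) (X₁.presheaf.stalk x₁) :=
    X₁.presheaf.algebra_section_stalk (⟨x₁, hxV⟩ : V)
  haveI l1 : IsLocalization.AtPrime (X₁.presheaf.stalk x₁) q'.asIdeal :=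
    hV.isLocalization_stalk ⟨x₁, hxV⟩
  obtain ⟨hflat, hcm⟩ := cm_fibre_of_quasiFinite_flat p q'.asIdeal (X₁.presheaf.stalk x₁)
    (zs ∘ eσ) hqf₀ hfl₀
  refine ⟨(Groth.Agent.Lib.helper3.FlatLocus.flat_stalkMap_iff f₁ W hW V hV e hxV).mpr hflat, ?_⟩
  have hfib : fibIdeal (B := Γ(X₁, V)) p (X₁.presheaf.stalk x₁) =
      (maximalIdeal (Y.presheaf.stalk (f₁ x₁))).map (f₁.stalkMap x₁).hom :=
    (map_maximalIdeal_stalkMap_eq f₁ hW e x₁ hxV).symm
  obtain ⟨e1⟩ := Groth.Agent.Lib.helper17.FibreStalk.nonempty_asFiber_stalk_equiv f₁ x₁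
  haveI := hcm
  exact Groth.Agent.S9808.cm_of_ringEquiv ((Ideal.quotEquivOfEq hfib).trans e1)

end Groth.Agent.Lib.helper5.CMQF
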