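import Mathlib
import Groth.Agent.Lib.Helper5.CMQF11
import Groth.Agent.Lib.Helper18.LfpCancel

/-!
# Cohen–Macaulay points: flat quasi-finite maps to affine space on a neighbourhood (helper5)

`exists_flat_quasiFinite_of_isCMAt`: the morphism `g` of `exists_quasiFinite_flat_of_isCMAt` can be
taken flat on the whole neighbourhood.
-/

set_option autoImplicit false
universe u
open MvPolynomial AlgebraicGeometry CategoryTheory CategoryTheory.Limits

namespace Groth.Agent.Lib.helper5.CMQF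

open Groth.Agent.Lib.helper5.FibCrit

theorem exists_flat_quasiFinite_of_isCMAt {X Y : Scheme.{u}} (f : X ⟶ Y)
    [LocallyOfFinitePresentation f] (x : X) (hcm : MoreMor.IsCMAt f x) :
    ∃ (r d : ℕ) (U : X.Opens) (_ : x ∈ U)
      (g : (U : Scheme.{u}) ⟶ 𝔸(ULift.{u} (Fin (r + d)); Y)),
      g ≫ (𝔸(ULift.{u} (Fin (r + d)); Y) ↘ Y) = U.ι ≫ f ∧ LocallyQuasiFinite g ∧ Flat g ∧
      Groth.Agent.Lib.helper3.DimIneq.td (f.residueFieldMap x).hom = (r : Cardinal.{u}) ∧
      ringKrullDim ((f.fiber (f x)).presheaf.stalk (f.asFiber x)) = d := by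
  obtain ⟨r, d, U, hx, g, h1, h2, h3, h4, h5⟩ := exists_quasiFinite_flat_of_isCMAt f x hcm
  haveI := h2
  haveI : LocallyOfFinitePresentation (g ≫ (𝔸(ULift.{u} (Fin (r + d)); Y) ↘ Y)) := by
    rw [h1]
    infer_instance
  haveI : LocallyOfFinitePresentation g :=
    Groth.Agent.Lib.Helper18.RelSmoothFiber.locallyOfFinitePresentation_of_comp g
      (𝔸(ULift.{u} (Fin (r + d)); Y) ↘ Y) inferInstance inferInstance
  have hopen := Groth.Agent.Lib.helper3.FlatDesc.isOpen_flatLocus_of_locallyOfFinitePresentation g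
  let V' : (U : Scheme.{u}).Opens := ⟨_, hopen⟩
  have hle : U.ι ''ᵁ V' ≤ U := by
    rintro _ ⟨v, -, rfl⟩
    exact v.2
  have hmem : ∀ y : (U.ι ''ᵁ V' : X.Opens), (g.stalkMap (X.homOfLE hle y)).hom.Flat := by
    intro y
    obtain ⟨v, hv, hvy⟩ := y.2
    have : X.homOfLE hle y = v := Subtype.ext (by rw [Scheme.homOfLE_apply]; exact hvy.symm)
    rw [this]
    exact hv
  refine ⟨r, d, U.ι ''ᵁ V', ⟨⟨x, hx⟩, h3, rfl⟩, X.homOfLE hle ≫ g, ?_, inferInstance, ?_, h4, h5⟩
  · rw [Category.assoc, h1, ← Category.assoc, Scheme.homOfLE_ι]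
  · rw [Flat.iff_flat_stalkMap]
    intro y
    rw [flat_comp_left_iff (X.homOfLE hle) g y (bijective_stalkMap_of_isOpenImmersion _ _)]
    exact hmem y

end Groth.Agent.Lib.helper5.CMQF
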