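import Mathlib
import Groth.Agent.Lib.Helper5.CMQF12
import Groth.Agent.Lib.Helper5.CMDense
import Groth.Agent.Lib.Helper3.QFinAffineSpace3
import Groth.Agent.Lib.Helper3.AffSpaceDim
import Groth.Agent.Lib.Helper3.FibreComp
import Groth.Agent.Lib.Helper3.EquidimAt

/-!
# Consequences of the structure of Cohen–Macaulay morphisms (helper5)

* `exists_open_isCMAt_fibreDimAt_const`: around a Cohen–Macaulay point the morphism is
  Cohen–Macaulay and the local fibre dimension is constant.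
* `cm_stalk_of_forall_specializes`: the local ring of a locally Noetherian scheme at a maximal point
  is Cohen–Macaulay (Artinian).
* `isCMAt_of_flat_of_generic`: a morphism locally of finite type which is flat at a maximal point
  of a fibre is Cohen–Macaulay there.
-/

set_option autoImplicit false
universe u
open AlgebraicGeometry CategoryTheory CategoryTheory.Limits IsLocalRing LocCoh

namespace Groth.Agent.Lib.helper5.CMQF

open Groth.Agent.Lib.helper5.FibCrit Groth.Agent.Lib.helper5.CMSliceSch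

theorem exists_open_isCMAt_fibreDimAt_const {X S : Scheme.{u}} (f : X ⟶ S)
    [LocallyOfFinitePresentation f] (x : X) (hcm : MoreMor.IsCMAt f x) :
    ∃ U : X.Opens, x ∈ U ∧ ∀ x' ∈ U, MoreMor.IsCMAt f x' ∧
      FlatMor.fibreDimAt f x' = FlatMor.fibreDimAt f x := by
  obtain ⟨r, d, U, hx, g, h1, h2, h3, -, -⟩ := exists_flat_quasiFinite_of_isCMAt f x hcm
  haveI := h2
  haveI := h3
  haveI : LocallyOfFiniteType (g ≫ (𝔸(ULift.{u} (Fin (r + d)); S) ↘ S)) := by
    rw [h1]
    infer_instance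
  haveI : LocallyOfFiniteType g :=
    locallyOfFiniteType_of_comp g (𝔸(ULift.{u} (Fin (r + d)); S) ↘ S)
  have key : ∀ x' : X, x' ∈ U → FlatMor.fibreDimAt f x' = ((r + d : ℕ) : WithBot ℕ∞) := by
    intro x' hx'
    have e1 := Groth.Agent.Lib.helper3.EquidimAt.fibreDimAt_comp_opens_ι f U ⟨x', hx'⟩
    have e2 := (Groth.Agent.Lib.helper3.FibreComp.fibreDimAt_comp g
      (𝔸(ULift.{u} (Fin (r + d)); S) ↘ S) ⟨x', hx'⟩).2 (AlgebraicGeometry.Flat.stalkMap g _)
    have e3 := (Groth.Agent.Lib.helper3.QFinAffineSpace.fibreDimAt_eq_zero_of_lqf g ⟨x', hx'⟩).1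
    have e4 := Groth.Agent.Lib.helper3.AffSpaceDim.fibreDimAt_affineSpace_over S (r + d)
      (g ⟨x', hx'⟩)
    rw [e3, e4, zero_add, h1] at e2
    rw [← e2, e1]
    rfl
  refine ⟨U, hx, fun x' hx' => ⟨?_, by rw [key x' hx', key x hx]⟩⟩
  have h4 := isCMAt_of_quasiFinite_flat (U.ι ≫ f) (ULift.{u} (Fin (r + d))) g h1 ⟨x', hx'⟩
    (AlgebraicGeometry.Flat.stalkMap g _)
  exact (isCMAt_comp_iff_of_isOpenImmersion U.ι f ⟨x', hx'⟩).mp h4

theorem cm_stalk_of_forall_specializes (Z : Scheme.{u}) [IsLocallyNoetherian Z] (z : Z)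
    (hz : ∀ z' : Z, z' ⤳ z → z' = z) : IsCohenMacaulayLocalRing (Z.presheaf.stalk z) := by
  obtain ⟨_, ⟨V, hV : IsAffineOpen V, rfl⟩, hzV, -⟩ :=
    Z.isBasis_affineOpens.exists_subset_of_mem_open (Set.mem_univ z) isOpen_univ
  haveI : IsNoetherianRing Γ(Z, V) := IsLocallyNoetherian.component_noetherian ⟨V, hV⟩
  set q := (hV.primeIdealOf ⟨z, hzV⟩).asIdeal with hq
  have hmin : q ∈ minimalPrimes Γ(Z, V) := by
    refine ⟨⟨inferInstance, bot_le⟩, fun q' ⟨hq', _⟩ hle => ?_⟩
    let Q' : PrimeSpectrum Γ(Z, V) := ⟨q', hq'⟩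
    have hQ' := primeIdealOf_fromSpec hV Q'
    have hz'V := fromSpec_mem hV Q'
    have hsp : hV.fromSpec Q' ⤳ z := by
      rw [Groth.Agent.Lib.helper3.DimIneq.specializes_iff_primeIdealOf_le hV _ _ hz'V hzV, hQ']
      exact hle
    have heq := hz _ hsp
    have h3 : hV.primeIdealOf ⟨hV.fromSpec Q', hz'V⟩ = hV.primeIdealOf ⟨z, hzV⟩ := by
      congr 1
      exact Subtype.ext heq
    rw [hQ'] at h3
    exact (congrArg PrimeSpectrum.asIdeal h3).ge
  letI : Algebra Γ(Z, V) (Z.presheaf.stalk z) :=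
    Z.presheaf.algebra_section_stalk (⟨z, hzV⟩ : V)
  haveI l1 : IsLocalization.AtPrime (Z.presheaf.stalk z) q := hV.isLocalization_stalk ⟨z, hzV⟩
  haveI : IsNoetherianRing (Z.presheaf.stalk z) :=
    IsLocalization.isNoetherianRing q.primeCompl _ inferInstance
  haveI : Ring.KrullDimLE 0 (Z.presheaf.stalk z) := by
    rw [Ring.krullDimLE_iff, IsLocalization.AtPrime.ringKrullDim_eq_height q]
    have : q.height = 0 := Ideal.height_eq_zero_iff.mpr hmin
    rw [this]
    rfl
  exact Groth.Agent.Lib.helper17.FieldCM.cm_of_krullDimLE_zero _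

theorem isCMAt_of_flat_of_generic {X S : Scheme.{u}} (f : X ⟶ S) [LocallyOfFiniteType f] (x : X)
    (hflat : (f.stalkMap x).hom.Flat)
    (hgen : ∀ z' : f.fiber (f x), z' ⤳ f.asFiber x → z' = f.asFiber x) :
    MoreMor.IsCMAt f x := by
  haveI : LocallyOfFiniteType (f.fiberToSpecResidueField (f x)) :=
    MorphismProperty.pullback_snd _ _ inferInstance
  haveI : IsLocallyNoetherian (f.fiber (f x)) :=
    LocallyOfFiniteType.isLocallyNoetherian (f.fiberToSpecResidueField (f x))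
  exact ⟨hflat, cm_stalk_of_forall_specializes _ _ hgen⟩

end Groth.Agent.Lib.helper5.CMQF
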