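import Mathlib
import Groth.Prelude.Def_Grpd
import Groth.Agent.Lib.Helper4.GrpdTc
import Groth.Agent.S7457
import Groth.Agent.S1342
import Groth.Agent.S1341
import Groth.Agent.Lib.Helper5.CMQF13

/-!
# The Cohen–Macaulay locus of a groupoid scheme (helper5)

`Grpd.IsCMAt` vs `MoreMor.IsCMAt`; for a groupoid `(U, R, s, t, c)` with `s`, `t` flat and locally
of finite presentation the Cohen–Macaulay locus `W_s ⊆ R` of `s` is `t⁻¹(U')` for the open
`U' = e⁻¹(W_s)`.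
-/

set_option autoImplicit false
universe u
open AlgebraicGeometry CategoryTheory CategoryTheory.Limits IsLocalRing LocCoh

namespace Groth.Agent.Lib.helper5.GrpdCM

theorem grpd_isCMAt_iff {X Y : Scheme.{u}} (f : X ⟶ Y) (x : X) :
    Grpd.IsCMAt f x ↔ MoreMor.IsCMAt f x := by
  obtain ⟨e1⟩ := Groth.Agent.Lib.helper17.FibreStalk.nonempty_asFiber_stalk_equiv f x
  unfold Grpd.IsCMAt MoreMor.IsCMAt
  refine and_congr Iff.rfl ⟨fun h => ?_, fun h => ?_⟩
  · haveI := h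
    exact Groth.Agent.S9808.cm_of_ringEquiv e1
  · haveI := h
    exact Groth.Agent.S9808.cm_of_ringEquiv e1.symm

theorem isCMAt_comp_iff_of_isIso {X₁ X Y : Scheme.{u}} (j : X₁ ⟶ X) [IsIso j] (f : X ⟶ Y)
    (x₁ : X₁) : MoreMor.IsCMAt (j ≫ f) x₁ ↔ MoreMor.IsCMAt f (j x₁) :=
  Groth.Agent.Lib.helper5.CMQF.isCMAt_comp_iff_of_isOpenImmersion j f x₁

variable {S : Scheme.{u}} (G : Grpd.GroupoidScheme S)

open Groth.Agent.Lib.Helper4.GrpdTc

/-- the point `(r, r⁻¹)` of `R ×_{s,U,t} R`. -/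
theorem exists_point_inv (r : G.R) :
    ∃ z : ↑(pullback G.s G.t), pullback.fst G.s G.t z = r ∧ G.c z = G.e (G.t r) := by
  let ρ := G.R.fromSpecResidueField r
  have h : ρ ≫ G.s = (ρ ≫ G.i) ≫ G.t := by rw [Category.assoc, G.i_t]
  let pt : Spec (G.R.residueField r) := IsLocalRing.closedPoint _
  have hpt : ρ pt = r := Scheme.fromSpecResidueField_apply _ _
  refine ⟨(pullback.lift ρ (ρ ≫ G.i) h) pt, ?_, ?_⟩
  · rw [← Scheme.Hom.comp_apply, pullback.lift_fst, hpt]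
  · rw [← Scheme.Hom.comp_apply, G.comp_i ρ, Scheme.Hom.comp_apply, Scheme.Hom.comp_apply, hpt]

theorem isCMAt_s_iff [Flat G.s] [LocallyOfFinitePresentation G.s] (r : G.R) :
    MoreMor.IsCMAt G.s r ↔ MoreMor.IsCMAt G.s (G.e (G.t r)) := by
  have hA := Groth.Agent.S1342.result G.s (pullback.snd G.s G.t) (pullback.fst G.s G.t) G.t
    (IsPullback.of_hasPullback G.s G.t)
  have hB := Groth.Agent.S1342.result G.s (pullback.snd G.s G.t) G.c G.s
    (Groth.Agent.S7457.result S G).2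
  obtain ⟨z, hz1, hz2⟩ := exists_point_inv G r
  have h1 : z ∈ (pullback.fst G.s G.t) ⁻¹' {x | MoreMor.IsCMAt G.s x} ↔
      z ∈ G.c ⁻¹' {x | MoreMor.IsCMAt G.s x} := by
    rw [← hA, ← hB]
  simp only [Set.mem_preimage, Set.mem_ofPred_eq] at h1
  rw [hz1, hz2] at h1
  exact h1

theorem isCMAt_t_iff (r : G.R) :
    MoreMor.IsCMAt G.t r ↔ MoreMor.IsCMAt G.s (G.i r) := by
  haveI : IsIso G.i := ⟨G.i, i_i G, i_i G⟩
  rw [← isCMAt_comp_iff_of_isIso G.i G.s r]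
  have : G.i ≫ G.s = G.t := G.i_s
  rw [this]

end Groth.Agent.Lib.helper5.GrpdCM
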