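import Mathlib
import Groth.Agent.Lib.Helper5.EqvGrpd2
import Groth.Agent.Lib.Helper5.GSlice10
import Groth.Agent.Lib.Helper5.CMSliceSch2
import Groth.Agent.S1936

/-!
# Global quasi-finite slices of a flat groupoid with zero-dimensional stabilizers (helper5)

`exists_global_slice` : `G` a groupoid scheme with `s, t` flat and locally of finite presentation whose
stabilizer has zero-dimensional fibres.  There is a morphism `σ : U' ⟶ U` locally of finite presentation
(`U'` a disjoint union of affine schemes immersed in `U`) such that `h = s ∘ pr₂ : U' ×_{σ,U,t} R ⟶ U` is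
flat, locally of finite presentation, locally quasi-finite and surjective.
-/

set_option autoImplicit false
universe u

open AlgebraicGeometry CategoryTheory CategoryTheory.Limits IsLocalRing

namespace Groth.Agent.Lib.helper5.EqvGrpd

open Groth.Agent.Lib.helper5.GSlice Groth.Agent.Lib.helper5.CMSliceSch

variable {S : Scheme.{u}} (G : Grpd.GroupoidScheme S)

theorem epsMap_hMap {U' : Scheme.{u}} (g : U' ⟶ G.U) : epsMap G g ≫ hMap G g = g := by
  rw [hMap, epsMap_snd_assoc, G.e_s, Category.comp_id]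

theorem c_t : G.c ≫ G.t = pullback.fst G.s G.t ≫ G.t := by
  have := G.comp_t (pullback.fst G.s G.t) (pullback.snd G.s G.t) pullback.condition
  have e : pullback.lift (pullback.fst G.s G.t) (pullback.snd G.s G.t) pullback.condition = 𝟙 _ := by
    apply pullback.hom_ext <;> simp
  rw [e, Category.id_comp] at this
  exact this

theorem c_s : G.c ≫ G.s = pullback.snd G.s G.t ≫ G.s := by
  have := G.comp_s (pullback.fst G.s G.t) (pullback.snd G.s G.t) pullback.condition
  have e : pullback.lift (pullback.fst G.s G.t) (pullback.snd G.s G.t) pullback.condition = 𝟙 _ := by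
    apply pullback.hom_ext <;> simp
  rw [e, Category.id_comp] at this
  exact this

/-- every nonempty closed subset of an affine open contains a finite type point. -/
theorem exists_finiteType_point_of_isClosed {X : Scheme.{u}} {W : X.Opens} (hW : IsAffineOpen W)
    (Z : Set X) (hZ : IsClosed Z) (y : X) (hyW : y ∈ W) (hyZ : y ∈ Z) :
    ∃ x : X, x ∈ W ∧ x ∈ Z ∧ LocallyOfFiniteType (X.fromSpecResidueField x) := by
  set Z' : Set (PrimeSpectrum Γ(X, W)) := hW.fromSpec ⁻¹' Z with hZ'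
  have hZ'cl : IsClosed Z' := hZ.preimage hW.fromSpec.continuous
  have hne : (hW.primeIdealOf ⟨y, hyW⟩) ∈ Z' := by
    change hW.fromSpec (hW.primeIdealOf ⟨y, hyW⟩) ∈ Z
    rw [hW.fromSpec_primeIdealOf ⟨y, hyW⟩]
    exact hyZ
  have hzl : Z' = PrimeSpectrum.zeroLocus (PrimeSpectrum.vanishingIdeal Z' : Set Γ(X, W)) := by
    rw [PrimeSpectrum.zeroLocus_vanishingIdeal_eq_closure, hZ'cl.closure_eq]
  have hI : PrimeSpectrum.vanishingIdeal Z' ≠ ⊤ := by
    intro h
    rw [h] at hzl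
    have : hW.primeIdealOf ⟨y, hyW⟩ ∈ PrimeSpectrum.zeroLocus ((⊤ : Ideal Γ(X, W)) : Set Γ(X, W)) := by
      rw [← hzl]; exact hne
    rw [PrimeSpectrum.zeroLocus_empty_iff_eq_top.mpr rfl] at this
    exact this
  obtain ⟨m, hm, hle⟩ := Ideal.exists_le_maximal _ hI
  let Q : PrimeSpectrum Γ(X, W) := ⟨m, hm.isPrime⟩
  have hQ : Q ∈ Z' := by
    rw [hzl]
    exact hle
  refine ⟨hW.fromSpec Q, fromSpec_mem hW Q, hQ, ?_⟩
  apply locallyOfFiniteType_fromSpecResidueField_of_isMaximal hW _ (fromSpec_mem hW Q)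
  rw [primeIdealOf_fromSpec hW Q]
  exact hm

theorem hMap_congr {U' : Scheme.{u}} {g g' : U' ⟶ G.U} (hg : g = g')
    (H : Flat (hMap G g') ∧ LocallyQuasiFinite (hMap G g')) :
    Flat (hMap G g) ∧ LocallyQuasiFinite (hMap G g) := by
  subst hg; exact H

/-- **Global quasi-finite slices.** -/
theorem exists_global_slice [Flat G.s] [LocallyOfFinitePresentation G.s] [Flat G.t]
    [LocallyOfFinitePresentation G.t]
    (hstab : ∀ u : G.U, topologicalKrullDim (G.stabilizerToU.fiber u) ≤ 0) :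
    ∃ (U' : Scheme.{u}) (σ : U' ⟶ G.U), LocallyOfFinitePresentation σ ∧
      Flat (hMap G σ) ∧ LocallyQuasiFinite (hMap G σ) ∧ LocallyOfFinitePresentation (hMap G σ) ∧
      Function.Surjective (hMap G σ) := by
  classical
  obtain ⟨U₁, hU₁, -, -, hsurj₁⟩ := Groth.Agent.S1936.result S G
  let I : Type u := {u : G.U // u ∈ U₁ ∧ LocallyOfFiniteType (G.U.fromSpecResidueField u)}
  have hslice : ∀ i : I, ∃ (U' : Scheme.{u}) (_ : IsAffine U') (g : U' ⟶ G.U) (u' : U'),
      IsImmersion g ∧ LocallyOfFinitePresentation g ∧ g u' = i.1 ∧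
      Flat (hMap G g) ∧ LocallyQuasiFinite (hMap G g) ∧
      LocallyOfFinitePresentation (hMap G g) := by
    intro i
    have htu : G.t (G.e i.1) = i.1 := by
      rw [← Scheme.Hom.comp_apply, G.e_t]; rfl
    have hmem : G.e i.1 ∈ (G.t ⁻¹ᵁ U₁ : Set G.R) := by
      change G.t (G.e i.1) ∈ U₁
      rw [htu]; exact i.2.1
    rw [hU₁] at hmem
    haveI : LocCoh.IsCohenMacaulayLocalRing
        (Groth.Agent.Lib.helper17.FibreStalk.FibRing G.s (G.e i.1)) := hmem.2
    exact exists_slice_of_cm G i.1 i.2.2 (hstab i.1)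
  choose Ui hAff gi ui h1 h2 h3 h4 h5 h6 using hslice
  let σ : (∐ Ui) ⟶ G.U := Sigma.desc gi
  have hισ : ∀ i, Sigma.ι Ui i ≫ σ = gi i := fun i => Sigma.ι_desc _ _
  haveI hσ : LocallyOfFinitePresentation σ := by
    rw [IsZariskiLocalAtSource.iff_of_openCover (P := @LocallyOfFinitePresentation)
      (sigmaOpenCover Ui)]
    intro i
    change LocallyOfFinitePresentation (Sigma.ι Ui i ≫ σ)
    rw [hισ]
    exact h2 i
  obtain ⟨hfl, hqf⟩ := flat_lqf_hMap_of_openCover G σ (sigmaOpenCover Ui) (fun i =>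
    hMap_congr G (hισ i) ⟨h4 i, h5 i⟩)
  haveI := hfl
  haveI hlfp : LocallyOfFinitePresentation (hMap G σ) := by
    unfold hMap; infer_instance
  refine ⟨∐ Ui, σ, hσ, hfl, hqf, hlfp, ?_⟩
  -- surjectivity
  have hopen : IsOpen (Set.range (hMap G σ)) := (hMap G σ).isOpenMap.isOpen_range
  have hI : ∀ i : I, i.1 ∈ Set.range (hMap G σ) := by
    intro i
    refine ⟨epsMap G σ (Sigma.ι Ui i (ui i)), ?_⟩
    rw [← Scheme.Hom.comp_apply, epsMap_hMap, ← Scheme.Hom.comp_apply, hισ]
    exact h3 i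
  have hU₁sub : (U₁ : Set G.U) ⊆ Set.range (hMap G σ) := by
    intro y hy
    by_contra hyn
    obtain ⟨_, ⟨W, hW : IsAffineOpen W, rfl⟩, hyW, hWU₁⟩ :=
      G.U.isBasis_affineOpens.exists_subset_of_mem_open hy U₁.isOpen
    obtain ⟨x, hxW, hxZ, hxft⟩ := exists_finiteType_point_of_isClosed hW
      (Set.range (hMap G σ))ᶜ hopen.isClosed_compl y hyW hyn
    exact hxZ (hI ⟨x, hWU₁ hxW, hxft⟩)
  intro y
  have hy : y ∈ (⇑G.s '' (G.t ⁻¹ᵁ U₁ : Set G.R)) := by rw [hsurj₁]; trivial
  obtain ⟨r, hr, rfl⟩ := hy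
  obtain ⟨z, hz⟩ := hU₁sub hr
  -- compose
  have hzs : G.s (pullback.snd σ G.t z) = G.t r := hz
  obtain ⟨w, hw1, hw2⟩ := Scheme.Pullback.exists_preimage_pullback (f := G.s) (g := G.t)
    (pullback.snd σ G.t z) r hzs
  have hct : G.t (G.c w) = σ (pullback.fst σ G.t z) := by
    rw [← Scheme.Hom.comp_apply, c_t, Scheme.Hom.comp_apply, hw1, ← Scheme.Hom.comp_apply,
      ← pullback.condition, Scheme.Hom.comp_apply]
  obtain ⟨z₂, hz₂1, hz₂2⟩ := Scheme.Pullback.exists_preimage_pullback (f := σ) (g := G.t)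
    (pullback.fst σ G.t z) (G.c w) hct.symm
  refine ⟨z₂, ?_⟩
  change G.s (pullback.snd σ G.t z₂) = G.s r
  rw [hz₂2, ← Scheme.Hom.comp_apply, c_s, Scheme.Hom.comp_apply, hw2]

end Groth.Agent.Lib.helper5.EqvGrpd
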