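import Mathlib
import Groth.Agent.S10103
import Groth.Agent.Lib.Helper1.MonoRepH
import Groth.Agent.Lib.Helper5.AlgSpInf3

/-!
# The fppf bootstrap: a sheaf with an fppf presentation by a scheme is an algebraic space (helper5)

`isAlgSpace_of_kernelPair`: let `p : h_W ⟶ F` be an epimorphism of fppf sheaves from a scheme `W` over `S` whose
kernel pair `K = h_W ×_F h_W` is an algebraic space with both projections flat and locally of finite presentation
(`AlgSp.LocP`).  Then `F` is an algebraic space.
(`K ⟶ h_W × h_W` is a monomorphism locally of finite type, so `K` is a scheme `R` (helper1 `MonoRep`); `R ⇉ W` is a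
flat lfp equivalence relation with quotient `F`; conclude by `S10103`.)
-/

set_option autoImplicit false
universe u

open AlgebraicGeometry CategoryTheory CategoryTheory.Limits

namespace Groth.Agent.Lib.helper5.FppfBoot

open AlgSp Groth.Agent.Lib.Helper14.AlgSpQuot Groth.Agent.Lib.Helper14.RepSh

variable {S : Scheme.{u}}

/-- `LocP` is invariant under precomposition with an isomorphism. -/
theorem locP_iso_comp (P : MorphismProperty Scheme.{u}) {A B C : Sp S} (e : A ≅ B) (k : B ⟶ C)
    (hk : LocP P k) : LocP P (e.hom ≫ k) := by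
  intro U V a b h ha hb hsq
  refine hk (a ≫ e.hom) b h (MorphismProperty.RespectsIso.postcomp _ _ _ ha) hb ?_
  rw [Category.assoc, hsq]

/-- an equivalence relation from a kernel pair of representables. -/
theorem isEqvRel_of_isPullback_yon {F : Sp S} {I W : Over S} (s t : I ⟶ W)
    (p : (yon S).obj W ⟶ F) (hpb : IsPullback ((yon S).map t) ((yon S).map s) p p) :
    AlgSp.IsEqvRel s t := by
  have key : ∀ {T : Over S} (a b : T ⟶ W), (∃ r : T ⟶ I, r ≫ t = a ∧ r ≫ s = b) ↔
      (yon S).map a ≫ p = (yon S).map b ≫ p := by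
    intro T a b
    constructor
    · rintro ⟨r, rfl, rfl⟩
      rw [Functor.map_comp, Functor.map_comp, Category.assoc, Category.assoc, hpb.w]
    · intro h
      obtain ⟨r, hr⟩ := (yon S).map_surjective (hpb.lift _ _ h)
      refine ⟨r, ?_, ?_⟩
      · apply (yon S).map_injective
        rw [Functor.map_comp, hr, hpb.lift_fst]
      · apply (yon S).map_injective
        rw [Functor.map_comp, hr, hpb.lift_snd]
  refine ⟨?_, ?_⟩
  · intro T r r' h1 h2
    apply (yon S).map_injective
    apply hpb.hom_ext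
    · rw [← Functor.map_comp, ← Functor.map_comp, h1]
    · rw [← Functor.map_comp, ← Functor.map_comp, h2]
  · intro T
    refine ⟨fun a => (key a a).mpr rfl, fun {a b} hab => (key b a).mpr ((key a b).mp hab).symm,
      fun {a b c} hab hbc => (key a c).mpr (((key a b).mp hab).trans ((key b c).mp hbc))⟩

/-- an epimorphism from a representable sheaf is the quotient by its kernel pair. -/
theorem isIso_desc_of_isPullback_yon {F : Sp S} {I W : Over S} (s t : I ⟶ W)
    (p : (yon S).obj W ⟶ F) [Epi p] (hpb : IsPullback ((yon S).map t) ((yon S).map s) p p) :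
    ∃ e : QuotSh.quot Scheme.fppfPrecoverage s t ≅ F, quotMap s t ≫ e.hom = p := by
  let ρW := QuotSh.repIsoUliftYoneda Scheme.fppfPrecoverage W
  let ρI := QuotSh.repIsoUliftYoneda Scheme.fppfPrecoverage I
  let p' : QuotSh.rep Scheme.fppfPrecoverage W ⟶ F := ρW.hom ≫ p
  haveI : Epi p' := epi_comp _ _
  have hk : IsKernelPair p' (QuotSh.repMap Scheme.fppfPrecoverage s)
      (QuotSh.repMap Scheme.fppfPrecoverage t) := by
    refine IsPullback.of_iso hpb.flip ρI.symm ρW.symm ρW.symm (Iso.refl _) ?_ ?_ ?_ ?_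
    · exact yon_map_repIso_inv s
    · exact yon_map_repIso_inv t
    · simp [p', ρW]
    · simp [p', ρW]
  have w : QuotSh.repMap Scheme.fppfPrecoverage s ≫ p' =
      QuotSh.repMap Scheme.fppfPrecoverage t ≫ p' := hk.w
  haveI hiso : IsIso (coequalizer.desc p' w) :=
    isIso_coequalizer_desc p' w
      (isColimitOfEpiKernelPair p' hk (𝟙 _) (Category.id_comp _) (Category.id_comp _) w)
  let ε : coequalizer (QuotSh.repMap Scheme.fppfPrecoverage s)
      (QuotSh.repMap Scheme.fppfPrecoverage t) ≅ F := asIso (coequalizer.desc p' w)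
  refine ⟨ε, ?_⟩
  have h1 : QuotSh.quotπ Scheme.fppfPrecoverage s t ≫ ε.hom = p' := coequalizer.π_desc _ _
  calc quotMap s t ≫ ε.hom
      = ρW.inv ≫ (QuotSh.quotπ Scheme.fppfPrecoverage s t ≫ ε.hom) := Category.assoc _ _ _
    _ = ρW.inv ≫ p' := by rw [h1]
    _ = p := by simp [p']

/-- **The fppf bootstrap, scheme atlas with algebraic space kernel pair.** -/
theorem isAlgSpace_of_kernelPair {F K : Sp S} {W : Over S} (p : (yon S).obj W ⟶ F) [Epi p]
    (k₁ k₂ : K ⟶ (yon S).obj W) (hK : IsPullback k₁ k₂ p p) (hKalg : IsAlgSpace K)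
    (h1f : LocP @Flat k₁) (h1l : LocP @LocallyOfFinitePresentation k₁)
    (h2f : LocP @Flat k₂) (h2l : LocP @LocallyOfFinitePresentation k₂) : IsAlgSpace F := by
  obtain ⟨V, φ, hφe, hφs⟩ := hKalg.atlas
  haveI : Epi φ := Groth.Agent.Lib.helper5.epi_of_etale_surjective φ hφe hφs
  obtain ⟨g₁, hg₁⟩ := (yon S).map_surjective (φ ≫ k₁)
  obtain ⟨g₂, hg₂⟩ := (yon S).map_surjective (φ ≫ k₂)
  have hg₁l : LocallyOfFinitePresentation g₁.left :=
    h1l φ (𝟙 _) g₁ hφe (repWith_id @Etale W) (by rw [hg₁, Category.comp_id])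
  -- the map to the product
  haveI : IsIso (prodComparison (yon S) W W) := inferInstance
  let f : K ⟶ (yon S).obj (W ⨯ W) := prod.lift k₁ k₂ ≫ inv (prodComparison (yon S) W W)
  have hf1 : f ≫ (yon S).map (prod.fst : W ⨯ W ⟶ W) = k₁ := by
    rw [Category.assoc, inv_prodComparison_map_fst, prod.lift_fst]
  have hf2 : f ≫ (yon S).map (prod.snd : W ⨯ W ⟶ W) = k₂ := by
    rw [Category.assoc, inv_prodComparison_map_snd, prod.lift_snd]
  haveI : Mono f := by
    constructor
    intro Z x y hxy
    apply hK.hom_ext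
    · rw [← hf1, ← Category.assoc, hxy, Category.assoc]
    · rw [← hf2, ← Category.assoc, hxy, Category.assoc]
  let g : V ⟶ W ⨯ W := prod.lift g₁ g₂
  have hg : φ ≫ f = (yon S).map g := by
    rw [← cancel_mono (prodComparison (yon S) W W)]
    apply Limits.prod.hom_ext
    · rw [Category.assoc, Category.assoc, prodComparison_fst, hf1, Category.assoc,
        prodComparison_fst, ← Functor.map_comp, prod.lift_fst, hg₁]
    · rw [Category.assoc, Category.assoc, prodComparison_snd, hf2, Category.assoc,
        prodComparison_snd, ← Functor.map_comp, prod.lift_snd, hg₂]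
  haveI : LocallyOfFiniteType g.left := by
    haveI : LocallyOfFiniteType (g.left ≫ (prod.fst : W ⨯ W ⟶ W).left) := by
      rw [← Over.comp_left, prod.lift_fst]
      infer_instance
    exact locallyOfFiniteType_of_comp g.left (prod.fst : W ⨯ W ⟶ W).left
  obtain ⟨I, j, e, hej, -, -⟩ := Groth.Agent.H1.MonoRep.exists_rep_of_mono f φ hφe g hg
  let t : I ⟶ W := j ≫ prod.fst
  let s : I ⟶ W := j ≫ prod.snd
  have ht : (yon S).map t = e.hom ≫ k₁ := by
    rw [Functor.map_comp, ← hej, Category.assoc, hf1]
  have hs : (yon S).map s = e.hom ≫ k₂ := by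
    rw [Functor.map_comp, ← hej, Category.assoc, hf2]
  have hpb : IsPullback ((yon S).map t) ((yon S).map s) p p := by
    refine IsPullback.of_iso hK e.symm (Iso.refl _) (Iso.refl _) (Iso.refl _) ?_ ?_ ?_ ?_
    · rw [ht]; simp
    · rw [hs]; simp
    · simp
    · simp
  have hEqv : AlgSp.IsEqvRel s t := isEqvRel_of_isPullback_yon s t p hpb
  haveI : Flat s.left := locP_yon_map (by rw [hs]; exact locP_iso_comp _ e k₂ h2f)
  haveI : Flat t.left := locP_yon_map (by rw [ht]; exact locP_iso_comp _ e k₁ h1f)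
  haveI : LocallyOfFinitePresentation s.left :=
    locP_yon_map (by rw [hs]; exact locP_iso_comp _ e k₂ h2l)
  haveI : LocallyOfFinitePresentation t.left :=
    locP_yon_map (by rw [ht]; exact locP_iso_comp _ e k₁ h1l)
  obtain ⟨ε, -⟩ := isIso_desc_of_isPullback_yon s t p hpb
  exact (Groth.Agent.S10103.result S s t hEqv).of_iso ε

end Groth.Agent.Lib.helper5.FppfBoot
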