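import Mathlib
import Groth.Agent.Lib.Helper5.FppfBoot1
import Groth.Agent.Lib.Helper1.LocPStable
import Groth.Agent.Lib.Helper14.AlgSpQuot6

/-!
# Quotients of algebraic spaces by flat lfp equivalence relations (helper5)

* `isPullback_quotSpπ`: equivalence relations of fppf sheaves are effective.
* `locP_flat_*`, `locP_lfp_*`: stability of `LocP @Flat`, `LocP @LocallyOfFinitePresentation` (helper1's `LocPStable`
  specialised).
* `isAlgSpace_quotSp`: `U/R` is an algebraic space for an equivalence relation of algebraic spaces with `s, t` flat and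
  locally of finite presentation (S10102).
-/

set_option autoImplicit false
universe u

open AlgebraicGeometry CategoryTheory CategoryTheory.Limits

namespace Groth.Agent.Lib.helper5.FppfBoot

open AlgSp Groth.Agent.Lib.Helper14.AlgSpQuot Groth.Agent.Lib.Helper14.RepSh

variable {S : Scheme.{u}}

/-- equivalence relations of fppf sheaves are effective. -/
theorem isPullback_quotSpπ {R U : Sp S} (s t : R ⟶ U) (hj : IsEqvRelSp s t) :
    IsPullback t s (quotSpπ s t) (quotSpπ s t) := by
  have w : t ≫ quotSpπ s t = s ≫ quotSpπ s t := (quotSp_condition s t).symm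
  let m : R ⟶ pullback (quotSpπ s t) (quotSpπ s t) := pullback.lift t s w
  haveI : Mono m := by
    constructor
    intro Z f₁ f₂ hf
    refine GrothendieckTopology.hom_ext_uliftYoneda.{u + 1, u, u + 1} (AlgSp.J S) ?_
    intro T p
    apply hj.injective T
    · have := congrArg (fun k => p ≫ k ≫ pullback.fst _ _) hf
      simpa only [Category.assoc, m, pullback.lift_fst] using this
    · have := congrArg (fun k => p ≫ k ≫ pullback.snd _ _) hf
      simpa only [Category.assoc, m, pullback.lift_snd] using this
  haveI : IsIso m := by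
    apply isIso_of_mono_of_liftSieve
    intro T η
    have h : (η ≫ pullback.fst _ _) ≫ quotSpπ s t = (η ≫ pullback.snd _ _) ≫ quotSpπ s t := by
      rw [Category.assoc, Category.assoc, pullback.condition]
    refine (AlgSp.J S).superset_covering ?_ (relSieveSp_mem s t hj.equivalence _ _ h)
    rintro T' c ⟨ρ, h1, h2⟩
    refine ⟨ρ, ?_⟩
    apply pullback.hom_ext
    · rw [Category.assoc, pullback.lift_fst, h1, Category.assoc]
    · rw [Category.assoc, pullback.lift_snd, h2, Category.assoc]
  exact IsPullback.of_iso_pullback ⟨w⟩ (asIso m) (pullback.lift_fst _ _ _) (pullback.lift_snd _ _ _)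

section locP

theorem flat_ESD {X' X Y : Scheme.{u}} (f : X' ⟶ X) (g : X ⟶ Y) (hf : Etale f)
    (hs : Surjective f) (h : Flat (f ≫ g)) : Flat g :=
  Groth.Agent.Lib.helper22.flat_of_flat_comp f g

theorem lfp_ESD {X' X Y : Scheme.{u}} (f : X' ⟶ X) (g : X ⟶ Y) (hf : Etale f)
    (hs : Surjective f) (h : LocallyOfFinitePresentation (f ≫ g)) :
    LocallyOfFinitePresentation g :=
  Groth.Agent.Lib.helper5.FppfSource.locallyOfFinitePresentation_of_comp f g

theorem locP_flat_comp {F G H : Sp S} (hG : IsAlgSpace G) (f : F ⟶ G) (g : G ⟶ H)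
    (hf : LocP @Flat f) (hg : LocP @Flat g) : LocP @Flat (f ≫ g) :=
  Groth.Agent.H1.LocPStable.locP_comp (P := @Flat) flat_ESD hG f g hf hg

theorem locP_lfp_comp {F G H : Sp S} (hG : IsAlgSpace G) (f : F ⟶ G) (g : G ⟶ H)
    (hf : LocP @LocallyOfFinitePresentation f) (hg : LocP @LocallyOfFinitePresentation g) :
    LocP @LocallyOfFinitePresentation (f ≫ g) :=
  Groth.Agent.H1.LocPStable.locP_comp (P := @LocallyOfFinitePresentation) lfp_ESD hG f g hf hg

theorem locP_flat_of_isPullback {X Y Y' X' : Sp S} (hX : IsAlgSpace X) (hY : IsAlgSpace Y)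
    (f : X ⟶ Y) (g : Y' ⟶ Y) (fst : X' ⟶ X) (f' : X' ⟶ Y')
    (sq : IsPullback fst f' f g) (hf : LocP @Flat f) : LocP @Flat f' :=
  Groth.Agent.H1.LocPStable.locP_of_isPullback (P := @Flat) flat_ESD
    (fun f g hf hg => by haveI := hf; haveI := hg; exact (inferInstance : Flat (f ≫ g)))
    (fun f g hf hg => by haveI := hf; haveI := hg; exact (inferInstance : Flat (f ≫ g)))
    hX hY f g fst f' sq hf

theorem locP_lfp_of_isPullback {X Y Y' X' : Sp S} (hX : IsAlgSpace X) (hY : IsAlgSpace Y)
    (f : X ⟶ Y) (g : Y' ⟶ Y) (fst : X' ⟶ X) (f' : X' ⟶ Y')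
    (sq : IsPullback fst f' f g) (hf : LocP @LocallyOfFinitePresentation f) :
    LocP @LocallyOfFinitePresentation f' :=
  Groth.Agent.H1.LocPStable.locP_of_isPullback (P := @LocallyOfFinitePresentation) lfp_ESD
    (fun f g hf hg => by
      haveI := hf; haveI := hg; exact (inferInstance : LocallyOfFinitePresentation (f ≫ g)))
    (fun f g hf hg => by
      haveI := hf; haveI := hg; exact (inferInstance : LocallyOfFinitePresentation (f ≫ g)))
    hX hY f g fst f' sq hf

/-- a representable étale map from a scheme is `LocP P` for every `P` implied by étale. -/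
theorem locP_of_repWith_etale (P : MorphismProperty Scheme.{u})
    (hP : ∀ {X Y : Scheme.{u}} (f : X ⟶ Y), Etale f → P f) {U : Sp S} {W : Over S}
    (a : (yon S).obj W ⟶ U) (ha : RepWith @Etale a) : LocP P a := by
  intro A B α β h hα hβ hsq
  apply hP
  exact Groth.Agent.H1.LocPStable.etale_of_charts (α ≫ a) β
    ((RepWith (S := S) @Etale).comp_mem _ _ hα ha) hβ h hsq.symm

end locP

/-- **S10102**: the quotient of an algebraic space by a flat, locally finitely presented equivalence relation is
an algebraic space. -/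
theorem isAlgSpace_quotSp {R U : Sp S} (hR : IsAlgSpace R) (hU : IsAlgSpace U) (s t : R ⟶ U)
    (hj : IsEqvRelSp s t)
    (hs : LocP @Flat s ∧ LocP @LocallyOfFinitePresentation s)
    (ht : LocP @Flat t ∧ LocP @LocallyOfFinitePresentation t) :
    IsAlgSpace (quotSp s t) := by
  obtain ⟨W, a, hae, has⟩ := hU.atlas
  haveI : Epi a := Groth.Agent.Lib.helper5.epi_of_etale_surjective a hae has
  haveI : Epi (quotSpπ s t) := by
    unfold quotSpπ
    exact coequalizer.π_epi
  let p : (yon S).obj W ⟶ quotSp s t := a ≫ quotSpπ s t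
  haveI : Epi p := epi_comp _ _
  have hW : IsAlgSpace ((yon S).obj W) := IsAlgSpace.yon_obj W
  have hRpb := isPullback_quotSpπ s t hj
  have haf : LocP @Flat a := locP_of_repWith_etale @Flat (fun f hf => by
    haveI := hf; exact (inferInstance : Flat f)) a hae
  have hal : LocP @LocallyOfFinitePresentation a :=
    locP_of_repWith_etale @LocallyOfFinitePresentation (fun f hf => by
      haveI := hf; exact (inferInstance : LocallyOfFinitePresentation f)) a hae
  -- `M = h_W ×_{a, U, t} R`
  have sqM : IsPullback (pullback.fst a t) (pullback.snd a t) a t := IsPullback.of_hasPullback a t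
  have hM : IsAlgSpace (pullback a t) :=
    Groth.Agent.Lib.helper5.isAlgSpace_of_isPullback hU.diag hW hR sqM
  -- `N = M ×_{s, U, a} h_W`
  have sqN : IsPullback (pullback.fst (pullback.snd a t ≫ s) a) (pullback.snd (pullback.snd a t ≫ s) a)
      (pullback.snd a t ≫ s) a := IsPullback.of_hasPullback _ _
  have hN : IsAlgSpace (pullback (pullback.snd a t ≫ s) a) :=
    Groth.Agent.Lib.helper5.isAlgSpace_of_isPullback hU.diag hM hW sqN
  -- kernel pair
  have hK : IsPullback (pullback.fst (pullback.snd a t ≫ s) a ≫ pullback.fst a t)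
      (pullback.snd (pullback.snd a t ≫ s) a) p p := by
    apply Groth.Agent.Lib.helper5.isPullback_of_exists_lift
    · change (pullback.fst (pullback.snd a t ≫ s) a ≫ pullback.fst a t) ≫ a ≫ quotSpπ s t =
        pullback.snd (pullback.snd a t ≫ s) a ≫ a ≫ quotSpπ s t
      rw [Category.assoc, ← Category.assoc (pullback.fst a t), pullback.condition,
        Category.assoc, ← quotSp_condition s t, ← Category.assoc (pullback.snd a t),
        ← Category.assoc, pullback.condition, Category.assoc]
    · intro Z x₁ x₂ hx
      have hx' : (x₁ ≫ a) ≫ quotSpπ s t = (x₂ ≫ a) ≫ quotSpπ s t := by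
        simpa only [Category.assoc, p] using hx
      let r : Z ⟶ R := hRpb.lift (x₁ ≫ a) (x₂ ≫ a) hx'
      have hr1 : r ≫ t = x₁ ≫ a := hRpb.lift_fst _ _ _
      have hr2 : r ≫ s = x₂ ≫ a := hRpb.lift_snd _ _ _
      refine ⟨pullback.lift (pullback.lift x₁ r hr1.symm) x₂
        (by rw [pullback.lift_snd_assoc, hr2]), ?_, ?_⟩
      · rw [pullback.lift_fst_assoc, pullback.lift_fst]
      · rw [pullback.lift_snd]
    · intro Z l l' h1 h2
      apply pullback.hom_ext
      · apply pullback.hom_ext
        · simpa only [Category.assoc] using h1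
        · apply hRpb.hom_ext
          · rw [Category.assoc, Category.assoc, Category.assoc, Category.assoc,
              ← pullback.condition]
            simpa only [Category.assoc] using congrArg (fun k => k ≫ a) h1
          · have e1 := congrArg (fun k => k ≫ a) h2
            simp only [Category.assoc] at e1
            rw [Category.assoc, Category.assoc, Category.assoc, Category.assoc]
            have c1 := pullback.condition (f := pullback.snd a t ≫ s) (g := a)
            rw [c1]
            exact e1
      · exact h2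
  -- properties of the projections
  -- `pullback.snd a t : M ⟶ R` is a base change of `a`
  have hm2f : LocP @Flat (pullback.snd a t) :=
    locP_flat_of_isPullback hW hU a t (pullback.fst a t) (pullback.snd a t) sqM haf
  have hm2l : LocP @LocallyOfFinitePresentation (pullback.snd a t) :=
    locP_lfp_of_isPullback hW hU a t (pullback.fst a t) (pullback.snd a t) sqM hal
  -- `pullback.fst a t : M ⟶ h_W` is a base change of `t`
  have hm1f : LocP @Flat (pullback.fst a t) :=
    locP_flat_of_isPullback hR hU t a (pullback.snd a t) (pullback.fst a t) sqM.flip ht.1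
  have hm1l : LocP @LocallyOfFinitePresentation (pullback.fst a t) :=
    locP_lfp_of_isPullback hR hU t a (pullback.snd a t) (pullback.fst a t) sqM.flip ht.2
  -- `M ⟶ U`
  have hmsf : LocP @Flat (pullback.snd a t ≫ s) := locP_flat_comp hR _ _ hm2f hs.1
  have hmsl : LocP @LocallyOfFinitePresentation (pullback.snd a t ≫ s) :=
    locP_lfp_comp hR _ _ hm2l hs.2
  -- `n₂ : N ⟶ h_W` is a base change of `M ⟶ U`
  have hn2f : LocP @Flat (pullback.snd (pullback.snd a t ≫ s) a) :=
    locP_flat_of_isPullback hM hU _ a _ _ sqN hmsf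
  have hn2l : LocP @LocallyOfFinitePresentation (pullback.snd (pullback.snd a t ≫ s) a) :=
    locP_lfp_of_isPullback hM hU _ a _ _ sqN hmsl
  -- `n₁ : N ⟶ M` is a base change of `a`
  have hn1f : LocP @Flat (pullback.fst (pullback.snd a t ≫ s) a) :=
    locP_flat_of_isPullback hW hU a _ _ _ sqN.flip haf
  have hn1l : LocP @LocallyOfFinitePresentation (pullback.fst (pullback.snd a t ≫ s) a) :=
    locP_lfp_of_isPullback hW hU a _ _ _ sqN.flip hal
  exact isAlgSpace_of_kernelPair p _ _ hK hN
    (locP_flat_comp hM _ _ hn1f hm1f) (locP_lfp_comp hM _ _ hn1l hm1l) hn2f hn2l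

end Groth.Agent.Lib.helper5.FppfBoot
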