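import Mathlib
import Groth.Agent.Lib.Helper5.FppfBoot2
import Groth.Agent.Lib.Helper11.AlgSpBasic

/-!
# The final bootstrap theorem (helper5)

* `isAlgSpace_of_kernelPair'`: variant of `isAlgSpace_of_kernelPair` asking only the second projection to be flat lfp.
* `surjective_left_of_chart`: a chart `c : V ⟶ T` of a morphism `snd : P ⟶ h_T` surjective on points is surjective.
* `epi_of_repBySpWith_fppf`: a morphism representable by algebraic spaces, surjective, flat and lfp is an epimorphism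
  of fppf sheaves.
* `isAlgSpace_of_repBySpWith_fppf` (S10104).
-/

set_option autoImplicit false
universe u

open AlgebraicGeometry CategoryTheory CategoryTheory.Limits

namespace Groth.Agent.Lib.helper5.FppfBoot

open AlgSp Groth.Agent.Lib.Helper14.AlgSpQuot Groth.Agent.Lib.Helper14.RepSh

variable {S : Scheme.{u}}

/-- the swap of a kernel pair. -/
theorem exists_swap {C : Type*} [Category C] {K X Y : C} {k₁ k₂ : K ⟶ X} {p : X ⟶ Y}
    (hK : IsPullback k₁ k₂ p p) : ∃ σ : K ≅ K, σ.hom ≫ k₁ = k₂ ∧ σ.hom ≫ k₂ = k₁ := by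
  let σ : K ⟶ K := hK.lift k₂ k₁ hK.w.symm
  have h1 : σ ≫ k₁ = k₂ := hK.lift_fst _ _ _
  have h2 : σ ≫ k₂ = k₁ := hK.lift_snd _ _ _
  have h3 : σ ≫ σ = 𝟙 K := by
    apply hK.hom_ext
    · rw [Category.assoc, h1, h2, Category.id_comp]
    · rw [Category.assoc, h2, h1, Category.id_comp]
  exact ⟨⟨σ, σ, h3, h3⟩, h1, h2⟩

theorem isAlgSpace_of_kernelPair' {F K : Sp S} {W : Over S} (p : (yon S).obj W ⟶ F) [Epi p]
    (k₁ k₂ : K ⟶ (yon S).obj W) (hK : IsPullback k₁ k₂ p p) (hKalg : IsAlgSpace K)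
    (h2f : LocP @Flat k₂) (h2l : LocP @LocallyOfFinitePresentation k₂) : IsAlgSpace F := by
  obtain ⟨σ, h1, h2⟩ := exists_swap hK
  refine isAlgSpace_of_kernelPair p k₁ k₂ hK hKalg ?_ ?_ h2f h2l
  · rw [← h2]
    exact locP_iso_comp _ σ k₂ h2f
  · rw [← h2]
    exact locP_iso_comp _ σ k₂ h2l

/-- a chart of a morphism to `h_T` which is surjective on points is a surjective morphism of schemes. -/
theorem surjective_left_of_chart {P : Sp S} {V T : Over S} (b : (yon S).obj V ⟶ P)
    (hbs : RepWith @Surjective b) (snd : P ⟶ (yon S).obj T) (hs : IsSurjectiveMor snd)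
    (c : V ⟶ T) (hc : (yon S).map c = b ≫ snd) : Surjective c.left := by
  refine ⟨fun t => ?_⟩
  obtain ⟨y, hy⟩ := hs (Points.ofScheme T t)
  obtain ⟨v, hv⟩ := Groth.Agent.Lib.helper11.surjective_ofPt b hbs y
  refine ⟨v, ?_⟩
  have h1 : Points.ofPt ((yon S).map c) v = Points.ofScheme T t := by
    rw [hc, ← Points.map_ofPt, hv, hy]
  rw [Groth.Agent.Lib.helper11.ofPt_yon_map] at h1
  exact (Points.schemeEquiv T).injective h1

/-- a morphism representable by algebraic spaces, surjective, flat and lfp, is an epimorphism of sheaves. -/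
theorem epi_of_repBySpWith_fppf {U F : Sp S} (p : U ⟶ F)
    (hp : ∀ ⦃T : Over S⦄ (ξ : (yon S).obj T ⟶ F) ⦃F' : Sp S⦄ (fst : F' ⟶ U)
      (snd : F' ⟶ (yon S).obj T), IsPullback fst snd p ξ → IsAlgSpace F' ∧
        (IsSurjectiveMor ⊓ LocP @Flat ⊓ LocP @LocallyOfFinitePresentation) snd) : Epi p := by
  have : Sheaf.IsLocallySurjective p := by
    rw [isLocallySurjective_iff]
    intro T ξ
    obtain ⟨hP, ⟨hsurj, hflat⟩, hlfp⟩ := hp ξ (pullback.fst p ξ) (pullback.snd p ξ)
      (IsPullback.of_hasPullback p ξ)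
    obtain ⟨V, b, hbe, hbs⟩ := hP.atlas
    obtain ⟨c, hc⟩ := (yon S).map_surjective (b ≫ pullback.snd p ξ)
    haveI : Flat c.left :=
      hflat b (𝟙 _) c hbe (repWith_id @Etale T) (by rw [hc, Category.comp_id])
    haveI : LocallyOfFinitePresentation c.left :=
      hlfp b (𝟙 _) c hbe (repWith_id @Etale T) (by rw [hc, Category.comp_id])
    haveI : Surjective c.left := surjective_left_of_chart b hbs _ hsurj c hc
    refine Groth.Agent.H1.Boot.generate_singleton_mem' c ?_
    exact ⟨b ≫ pullback.fst p ξ, by rw [Category.assoc, pullback.condition, ← Category.assoc, hc]⟩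
  infer_instance

/-- **S10104**: the final bootstrap theorem. -/
theorem isAlgSpace_of_repBySpWith_fppf {U F : Sp S} (hU : IsAlgSpace U) (p : U ⟶ F)
    (hp : ∀ ⦃T : Over S⦄ (ξ : (yon S).obj T ⟶ F) ⦃F' : Sp S⦄ (fst : F' ⟶ U)
      (snd : F' ⟶ (yon S).obj T), IsPullback fst snd p ξ → IsAlgSpace F' ∧
        (IsSurjectiveMor ⊓ LocP @Flat ⊓ LocP @LocallyOfFinitePresentation) snd) :
    IsAlgSpace F := by
  haveI : Epi p := epi_of_repBySpWith_fppf p hp
  obtain ⟨W, a, hae, has⟩ := hU.atlas
  haveI : Epi a := Groth.Agent.Lib.helper5.epi_of_etale_surjective a hae has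
  let p' : (yon S).obj W ⟶ F := a ≫ p
  haveI : Epi p' := epi_comp _ _
  have hW : IsAlgSpace ((yon S).obj W) := IsAlgSpace.yon_obj W
  have haf : LocP @Flat a := locP_of_repWith_etale @Flat (fun f hf => by
    haveI := hf; exact (inferInstance : Flat f)) a hae
  have hal : LocP @LocallyOfFinitePresentation a :=
    locP_of_repWith_etale @LocallyOfFinitePresentation (fun f hf => by
      haveI := hf; exact (inferInstance : LocallyOfFinitePresentation f)) a hae
  -- `P = U ×_F h_W`
  have sqP : IsPullback (pullback.fst p p') (pullback.snd p p') p p' := IsPullback.of_hasPullback _ _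
  obtain ⟨hP, ⟨-, hsf⟩, hsl⟩ := hp p' (pullback.fst p p') (pullback.snd p p') sqP
  -- `N = h_W ×_U P`
  have sqN : IsPullback (pullback.fst a (pullback.fst p p')) (pullback.snd a (pullback.fst p p'))
      a (pullback.fst p p') := IsPullback.of_hasPullback _ _
  have hN : IsAlgSpace (pullback a (pullback.fst p p')) :=
    Groth.Agent.Lib.helper5.isAlgSpace_of_isPullback hU.diag hW hP sqN
  have hK : IsPullback (pullback.fst a (pullback.fst p p'))
      (pullback.snd a (pullback.fst p p') ≫ pullback.snd p p') p' p' :=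
    (sqN.flip.paste_horiz sqP.flip).flip
  have hn2f : LocP @Flat (pullback.snd a (pullback.fst p p')) :=
    locP_flat_of_isPullback hW hU a _ _ _ sqN haf
  have hn2l : LocP @LocallyOfFinitePresentation (pullback.snd a (pullback.fst p p')) :=
    locP_lfp_of_isPullback hW hU a _ _ _ sqN hal
  exact isAlgSpace_of_kernelPair' p' _ _ hK hN (locP_flat_comp hP _ _ hn2f hsf)
    (locP_lfp_comp hP _ _ hn2l hsl)

end Groth.Agent.Lib.helper5.FppfBoot
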