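import Mathlib
import Groth.Agent.Lib.Helper5.FppfBoot3
import Groth.Agent.Lib.Helper5.AlgSpCoprod7
import Groth.Agent.Lib.Helper5.AlgSpWhereIso
import Groth.Agent.Lib.Helper1.SevenProps

/-!
# Being an algebraic space is fppf local on the base (helper5)

* `locP_yon_map_of`: `P g.left → LocP P (h_g)` for `P` with `LocPData`.
* `fppf_of_iso_yon`: a map `snd : F' ⟶ h_T` which is isomorphic to `h_d` for a flat, lfp, surjective morphism of
  schemes `d : T' ⟶ T` is "an fppf covering by an algebraic space".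
* `isAlgSpace_of_fppf_base` (S10105).
-/

set_option autoImplicit false
universe u

open AlgebraicGeometry CategoryTheory CategoryTheory.Limits

namespace Groth.Agent.Lib.helper5.FppfBoot

open AlgSp Groth.Agent.Lib.helper5.Coprod

variable {S : Scheme.{u}}

theorem locP_yon_map_of {P : MorphismProperty Scheme.{u}}
    (hP : Groth.Agent.Lib.helper5.LocPBC.LocPData P) {U V : Over S} (g : U ⟶ V) (h : P g.left) :
    LocP P ((yon S).map g) := by
  intro A B a b k ha hb hsq
  obtain ⟨a', rfl⟩ := (yon S).map_surjective a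
  obtain ⟨b', rfl⟩ := (yon S).map_surjective b
  have ha' : Etale a'.left := (repWith_yon_map_iff @Etale a').1 ha
  have hb' : Etale b'.left := (repWith_yon_map_iff @Etale b').1 hb
  have e : a' ≫ g = k ≫ b' := (yon S).map_injective (by simpa using hsq)
  have h1 : P (a'.left ≫ g.left) := hP.pre _ _ ha' h
  have h2 : P (k.left ≫ b'.left) := by
    rw [← Over.comp_left, ← e]; exact h1
  exact hP.cancel _ _ hb' h2

theorem isSurjectiveMor_yon_map {T' T : Over S} (d : T' ⟶ T) [Surjective d.left] :
    IsSurjectiveMor ((yon S).map d) := by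
  intro x
  obtain ⟨t, rfl⟩ := (Points.schemeHomeo T).surjective x
  obtain ⟨t', rfl⟩ := d.left.surjective t
  exact ⟨Points.schemeHomeo T' t', Points.map_yon_map_apply d t'⟩

/-- a sheaf over `h_T` isomorphic to an fppf covering of `T` by a scheme. -/
theorem fppf_of_iso_yon {F' : Sp S} {T' T : Over S} (e : (yon S).obj T' ≅ F')
    (snd : F' ⟶ (yon S).obj T) (d : T' ⟶ T) (he : e.hom ≫ snd = (yon S).map d)
    [Flat d.left] [LocallyOfFinitePresentation d.left] [Surjective d.left] :
    IsAlgSpace F' ∧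
      (IsSurjectiveMor ⊓ LocP @Flat ⊓ LocP @LocallyOfFinitePresentation) snd := by
  have hs : snd = e.symm.hom ≫ (yon S).map d := by
    rw [← he]; simp
  refine ⟨(IsAlgSpace.yon_obj T').of_iso e, ⟨?_, ?_⟩, ?_⟩
  · intro x
    obtain ⟨y, rfl⟩ := isSurjectiveMor_yon_map d x
    refine ⟨Points.map e.hom y, ?_⟩
    rw [← Points.map_comp, he]
  · rw [hs]
    exact locP_iso_comp _ e.symm _
      (locP_yon_map_of Groth.Agent.H1.Seven.locPData_flat d inferInstance)
  · rw [hs]
    exact locP_iso_comp _ e.symm _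
      (locP_yon_map_of Groth.Agent.Lib.helper5.LocPBC.locPData_lfp d inferInstance)

/-- the product in `Over S` is the fibre product of schemes. -/
theorem isPullback_prod_left (A B : Over S) :
    IsPullback (prod.fst : A ⨯ B ⟶ A).left (prod.snd : A ⨯ B ⟶ B).left A.hom B.hom :=
  IsPullback.of_iso_pullback ⟨by rw [Over.w, Over.w]⟩ (Over.prodLeftIsoPullback A B)
    (Over.prodLeftIsoPullback_hom_fst A B) (Over.prodLeftIsoPullback_hom_snd A B)

/-- **S10105**: being an algebraic space is fppf local on the base. -/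
theorem isAlgSpace_of_fppf_base (F : Sp S) {ι : Type u} (Si : ι → Over S)
    (hfl : ∀ i, Flat (Si i).hom) (hfp : ∀ i, LocallyOfFinitePresentation (Si i).hom)
    (hsurj : ∀ x : ↥S, ∃ (i : ι) (y : ↥(Si i).left), (Si i).hom.base y = x)
    (c : Cofan (fun i => (yon S).obj (Si i) ⨯ F)) (hc : IsColimit c) (hcop : IsAlgSpace c.pt) :
    IsAlgSpace F := by
  classical
  let p : c.pt ⟶ F := Cofan.IsColimit.desc hc (fun i => (prod.snd : (yon S).obj (Si i) ⨯ F ⟶ F))
  have hp_inj : ∀ i, c.inj i ≫ p = prod.snd := fun i => Cofan.IsColimit.fac hc _ i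
  refine isAlgSpace_of_repBySpWith_fppf hcop p ?_
  intro T ξ F' fst snd sq
  -- the pieces `T_i = S_i ×_S T`
  let Ti : ι → Over S := fun i => Si i ⨯ T
  let π₁ : ∀ i, Ti i ⟶ Si i := fun i => prod.fst
  let π₂ : ∀ i, Ti i ⟶ T := fun i => prod.snd
  let b : ∀ i, (yon S).obj (Ti i) ⟶ (yon S).obj (Si i) ⨯ F := fun i =>
    prod.lift ((yon S).map (π₁ i)) ((yon S).map (π₂ i) ≫ ξ)
  have hb1 : ∀ i, b i ≫ prod.fst = (yon S).map (π₁ i) := fun i => prod.lift_fst _ _
  have hb2 : ∀ i, b i ≫ prod.snd = (yon S).map (π₂ i) ≫ ξ := fun i => prod.lift_snd _ _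
  have wa : ∀ i, (b i ≫ c.inj i) ≫ p = (yon S).map (π₂ i) ≫ ξ := by
    intro i
    rw [Category.assoc, hp_inj, hb2]
  let a : ∀ i, (yon S).obj (Ti i) ⟶ F' := fun i => sq.lift (b i ≫ c.inj i) ((yon S).map (π₂ i)) (wa i)
  have ha1 : ∀ i, a i ≫ fst = b i ≫ c.inj i := fun i => sq.lift_fst _ _ _
  have ha2 : ∀ i, a i ≫ snd = (yon S).map (π₂ i) := fun i => sq.lift_snd _ _ _
  -- joint monicity of the projections of `h_{T_i}`
  have hjm : ∀ (i : ι) {Z : Sp S} (l l' : Z ⟶ (yon S).obj (Ti i)),
      l ≫ (yon S).map (π₁ i) = l' ≫ (yon S).map (π₁ i) →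
      l ≫ (yon S).map (π₂ i) = l' ≫ (yon S).map (π₂ i) → l = l' := by
    intro i Z l l' h1 h2
    haveI : IsIso (prodComparison (yon S) (Si i) T) := inferInstance
    rw [← cancel_mono (prodComparison (yon S) (Si i) T)]
    apply Limits.prod.hom_ext
    · rw [Category.assoc, Category.assoc, prodComparison_fst]
      exact h1
    · rw [Category.assoc, Category.assoc, prodComparison_snd]
      exact h2
  have sqi : ∀ i, IsPullback (a i) (b i) fst (c.inj i) := by
    intro i
    apply Groth.Agent.Lib.helper5.isPullback_of_exists_lift (ha1 i)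
    · intro Z x y hxy
      haveI : IsIso (prodComparison (yon S) (Si i) T) := inferInstance
      let l : Z ⟶ (yon S).obj (Ti i) :=
        prod.lift (y ≫ prod.fst) (x ≫ snd) ≫ inv (prodComparison (yon S) (Si i) T)
      have hl1 : l ≫ (yon S).map (π₁ i) = y ≫ prod.fst := by
        rw [Category.assoc, inv_prodComparison_map_fst, prod.lift_fst]
      have hl2 : l ≫ (yon S).map (π₂ i) = x ≫ snd := by
        rw [Category.assoc, inv_prodComparison_map_snd, prod.lift_snd]
      have hlb : l ≫ b i = y := by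
        apply Limits.prod.hom_ext
        · rw [Category.assoc, hb1, hl1]
        · rw [Category.assoc, hb2, ← Category.assoc, hl2, Category.assoc, ← sq.w,
            ← Category.assoc, hxy, Category.assoc, hp_inj]
      refine ⟨l, ?_, hlb⟩
      apply sq.hom_ext
      · rw [Category.assoc, ha1, ← Category.assoc, hlb, hxy]
      · rw [Category.assoc, ha2, hl2]
    · intro Z l l' h1 h2
      apply hjm i
      · have := congrArg (fun k => k ≫ (prod.fst : (yon S).obj (Si i) ⨯ F ⟶ _)) h2
        simpa only [Category.assoc, hb1] using this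
      · have := congrArg (fun k => k ≫ snd) h1
        simpa only [Category.assoc, ha2] using this
  obtain ⟨hQ⟩ := nonempty_isColimit_of_isPullback' _ c hc fst (fun i => (yon S).obj (Ti i)) a b sqi
  let hYon := isColimitYonSigma Ti
  let e := hYon.coconePointUniqueUpToIso hQ
  have he : ∀ i, (yon S).map (sigmaOverι Ti i) ≫ e.hom = a i :=
    fun i => hYon.comp_coconePointUniqueUpToIso_hom hQ ⟨i⟩
  let d : sigmaOver Ti ⟶ T := sigmaOverDesc Ti π₂
  have hed : e.hom ≫ snd = (yon S).map d := by
    apply hYon.hom_ext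
    rintro ⟨i⟩
    simp only [Cofan.mk_pt, Cofan.mk_ι_app]
    rw [← Category.assoc, he i, ha2, ← Functor.map_comp, sigmaOverι_desc]
  -- properties of `d`
  have hπ₂pb : ∀ i, IsPullback (π₁ i).left (π₂ i).left (Si i).hom T.hom :=
    fun i => isPullback_prod_left (Si i) T
  haveI hπf : ∀ i, Flat (π₂ i).left := fun i =>
    MorphismProperty.of_isPullback (P := @Flat) (hπ₂pb i) (hfl i)
  haveI hπl : ∀ i, LocallyOfFinitePresentation (π₂ i).left := fun i =>
    MorphismProperty.of_isPullback (P := @LocallyOfFinitePresentation) (hπ₂pb i) (hfp i)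
  haveI : Flat d.left := by
    change Flat (Sigma.desc (fun i => (π₂ i).left))
    infer_instance
  haveI : LocallyOfFinitePresentation d.left := by
    change LocallyOfFinitePresentation (Sigma.desc (fun i => (π₂ i).left))
    exact IsZariskiLocalAtSource.sigmaDesc (fun i => hπl i)
  haveI : Surjective d.left := by
    refine ⟨fun t => ?_⟩
    obtain ⟨i, y, hy⟩ := hsurj (T.hom t)
    obtain ⟨z0, -, hz2⟩ := Scheme.Pullback.exists_preimage_pullback
      (f := (Si i).hom) (g := T.hom) y t hy
    have hz2' : (π₂ i).left ((hπ₂pb i).isoPullback.inv z0) = t := by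
      rw [← Scheme.Hom.comp_apply, IsPullback.isoPullback_inv_snd]
      exact hz2
    refine ⟨(Sigma.ι (fun i => (Ti i).left) i) ((hπ₂pb i).isoPullback.inv z0), ?_⟩
    change (Sigma.desc (fun i => (π₂ i).left)) ((Sigma.ι (fun i => (Ti i).left) i) _) = t
    rw [← Scheme.Hom.comp_apply, Sigma.ι_desc]
    exact hz2'
  exact fppf_of_iso_yon e snd d hed

end Groth.Agent.Lib.helper5.FppfBoot
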