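import Mathlib
import Groth.Agent.Lib.Helper5.FppfBoot4
import Groth.Agent.Lib.Helper5.EqvRestr6
import Groth.Agent.Lib.Helper4.FlatDescends

/-!
# The quotient map `U ⟶ U/R` is fppf when `U/R` is an algebraic space (helper5)

* `exists_kernelPair_scheme`: for an atlas `a : h_W ⟶ U`, the kernel pair of `h_W ⟶ U ⟶ U/R` is a scheme with flat,
  locally finitely presented projections.
* `quotSpπ_fppf` (S10107).
-/

set_option autoImplicit false
universe u

open AlgebraicGeometry CategoryTheory CategoryTheory.Limits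

namespace Groth.Agent.Lib.helper5.FppfBoot

open AlgSp Groth.Agent.Lib.Helper14.AlgSpQuot Groth.Agent.Lib.Helper14.RepSh

variable {S : Scheme.{u}}

/-- the kernel pair of `h_W ⟶ U ⟶ U/R` (an algebraic space with flat lfp projections). -/
theorem exists_kernelPair_algSpace {R U : Sp S} (hR : IsAlgSpace R) (hU : IsAlgSpace U) (s t : R ⟶ U)
    (hj : IsEqvRelSp s t)
    (hs : LocP @Flat s ∧ LocP @LocallyOfFinitePresentation s)
    (ht : LocP @Flat t ∧ LocP @LocallyOfFinitePresentation t)
    {W : Over S} (a : (yon S).obj W ⟶ U) (hae : RepWith @Etale a) :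
    ∃ (N : Sp S) (n₁ n₂ : N ⟶ (yon S).obj W),
      IsPullback n₁ n₂ (a ≫ quotSpπ s t) (a ≫ quotSpπ s t) ∧ IsAlgSpace N ∧
      LocP @Flat n₁ ∧ LocP @LocallyOfFinitePresentation n₁ ∧
      LocP @Flat n₂ ∧ LocP @LocallyOfFinitePresentation n₂ := by
  let p : (yon S).obj W ⟶ quotSp s t := a ≫ quotSpπ s t
  have hW : IsAlgSpace ((yon S).obj W) := IsAlgSpace.yon_obj W
  have hRpb := isPullback_quotSpπ s t hj
  have haf : LocP @Flat a := locP_of_repWith_etale @Flat (fun f hf => by
    haveI := hf; exact (inferInstance : Flat f)) a hae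
  have hal : LocP @LocallyOfFinitePresentation a :=
    locP_of_repWith_etale @LocallyOfFinitePresentation (fun f hf => by
      haveI := hf; exact (inferInstance : LocallyOfFinitePresentation f)) a hae
  -- `M = h_W ×_{a, U, t} R`
  have sqM : IsPullback (pullback.fst a t) (pullback.snd a t) a t := IsPullback.of_hasPullback a t
  have hM : IsAlgSpace (pullback a t) :=
    Groth.Agent.Lib.helper5.isAlgSpace_of_isPullback hU.diag hW hR sqM
  -- `N = M ×_{s, U, a} h_W`
  have sqN : IsPullback (pullback.fst (pullback.snd a t ≫ s) a) (pullback.snd (pullback.snd a t ≫ s) a)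
      (pullback.snd a t ≫ s) a := IsPullback.of_hasPullback _ _
  have hN : IsAlgSpace (pullback (pullback.snd a t ≫ s) a) :=
    Groth.Agent.Lib.helper5.isAlgSpace_of_isPullback hU.diag hM hW sqN
  -- kernel pair
  have hK : IsPullback (pullback.fst (pullback.snd a t ≫ s) a ≫ pullback.fst a t)
      (pullback.snd (pullback.snd a t ≫ s) a) p p := by
    apply Groth.Agent.Lib.helper5.isPullback_of_exists_lift
    · change (pullback.fst (pullback.snd a t ≫ s) a ≫ pullback.fst a t) ≫ a ≫ quotSpπ s t =
        pullback.snd (pullback.snd a t ≫ s) a ≫ a ≫ quotSpπ s t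
      rw [Category.assoc, ← Category.assoc (pullback.fst a t), pullback.condition,
        Category.assoc, ← quotSp_condition s t, ← Category.assoc (pullback.snd a t),
        ← Category.assoc, pullback.condition, Category.assoc]
    · intro Z x₁ x₂ hx
      have hx' : (x₁ ≫ a) ≫ quotSpπ s t = (x₂ ≫ a) ≫ quotSpπ s t := by
        simpa only [Category.assoc, p] using hx
      let r : Z ⟶ R := hRpb.lift (x₁ ≫ a) (x₂ ≫ a) hx'
      have hr1 : r ≫ t = x₁ ≫ a := hRpb.lift_fst _ _ _
      have hr2 : r ≫ s = x₂ ≫ a := hRpb.lift_snd _ _ _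
      refine ⟨pullback.lift (pullback.lift x₁ r hr1.symm) x₂
        (by rw [pullback.lift_snd_assoc, hr2]), ?_, ?_⟩
      · rw [pullback.lift_fst_assoc, pullback.lift_fst]
      · rw [pullback.lift_snd]
    · intro Z l l' h1 h2
      apply pullback.hom_ext
      · apply pullback.hom_ext
        · simpa only [Category.assoc] using h1
        · apply hRpb.hom_ext
          · rw [Category.assoc, Category.assoc, Category.assoc, Category.assoc,
              ← pullback.condition]
            simpa only [Category.assoc] using congrArg (fun k => k ≫ a) h1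
          · have e1 := congrArg (fun k => k ≫ a) h2
            simp only [Category.assoc] at e1
            rw [Category.assoc, Category.assoc, Category.assoc, Category.assoc]
            have c1 := pullback.condition (f := pullback.snd a t ≫ s) (g := a)
            rw [c1]
            exact e1
      · exact h2
  -- properties of the projections
  have hm2f : LocP @Flat (pullback.snd a t) :=
    locP_flat_of_isPullback hW hU a t (pullback.fst a t) (pullback.snd a t) sqM haf
  have hm2l : LocP @LocallyOfFinitePresentation (pullback.snd a t) :=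
    locP_lfp_of_isPullback hW hU a t (pullback.fst a t) (pullback.snd a t) sqM hal
  have hm1f : LocP @Flat (pullback.fst a t) :=
    locP_flat_of_isPullback hR hU t a (pullback.snd a t) (pullback.fst a t) sqM.flip ht.1
  have hm1l : LocP @LocallyOfFinitePresentation (pullback.fst a t) :=
    locP_lfp_of_isPullback hR hU t a (pullback.snd a t) (pullback.fst a t) sqM.flip ht.2
  have hmsf : LocP @Flat (pullback.snd a t ≫ s) := locP_flat_comp hR _ _ hm2f hs.1
  have hmsl : LocP @LocallyOfFinitePresentation (pullback.snd a t ≫ s) :=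
    locP_lfp_comp hR _ _ hm2l hs.2
  have hn2f : LocP @Flat (pullback.snd (pullback.snd a t ≫ s) a) :=
    locP_flat_of_isPullback hM hU _ a _ _ sqN hmsf
  have hn2l : LocP @LocallyOfFinitePresentation (pullback.snd (pullback.snd a t ≫ s) a) :=
    locP_lfp_of_isPullback hM hU _ a _ _ sqN hmsl
  have hn1f : LocP @Flat (pullback.fst (pullback.snd a t ≫ s) a) :=
    locP_flat_of_isPullback hW hU a _ _ _ sqN.flip haf
  have hn1l : LocP @LocallyOfFinitePresentation (pullback.fst (pullback.snd a t ≫ s) a) :=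
    locP_lfp_of_isPullback hW hU a _ _ _ sqN.flip hal
  exact ⟨_, _, _, hK, hN, locP_flat_comp hM _ _ hn1f hm1f, locP_lfp_comp hM _ _ hn1l hm1l,
    hn2f, hn2l⟩

/-- when `U/R` is an algebraic space, the kernel pair of `h_W ⟶ U ⟶ U/R` is a scheme with flat lfp projections. -/
theorem exists_kernelPair_scheme {R U : Sp S} (hR : IsAlgSpace R) (hU : IsAlgSpace U) (s t : R ⟶ U)
    (hj : IsEqvRelSp s t)
    (hs : LocP @Flat s ∧ LocP @LocallyOfFinitePresentation s)
    (ht : LocP @Flat t ∧ LocP @LocallyOfFinitePresentation t)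
    (hF : IsAlgSpace (quotSp s t))
    {W : Over S} (a : (yon S).obj W ⟶ U) (hae : RepWith @Etale a) :
    ∃ (I : Over S) (t' s' : I ⟶ W),
      IsPullback ((yon S).map t') ((yon S).map s') (a ≫ quotSpπ s t) (a ≫ quotSpπ s t) ∧
      Flat t'.left ∧ LocallyOfFinitePresentation t'.left ∧
      Flat s'.left ∧ LocallyOfFinitePresentation s'.left := by
  obtain ⟨N, n₁, n₂, hK, -, h1f, h1l, h2f, h2l⟩ :=
    exists_kernelPair_algSpace hR hU s t hj hs ht a hae
  obtain ⟨I, s', t0, sqI⟩ := hF.representable_from_yon (a ≫ quotSpπ s t) (a ≫ quotSpπ s t)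
  obtain ⟨t', rfl⟩ := (yon S).map_surjective t0
  let e := sqI.isoIsPullback _ _ hK
  have he1 : (yon S).map t' = e.hom ≫ n₁ := (sqI.isoIsPullback_hom_fst _ _ hK).symm
  have he2 : (yon S).map s' = e.hom ≫ n₂ := (sqI.isoIsPullback_hom_snd _ _ hK).symm
  refine ⟨I, t', s', sqI, ?_, ?_, ?_, ?_⟩
  · exact locP_yon_map (by rw [he1]; exact locP_iso_comp _ e n₁ h1f)
  · exact locP_yon_map (by rw [he1]; exact locP_iso_comp _ e n₁ h1l)
  · exact locP_yon_map (by rw [he2]; exact locP_iso_comp _ e n₂ h2f)
  · exact locP_yon_map (by rw [he2]; exact locP_iso_comp _ e n₂ h2l)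

/-- **S10107**: if `U/R` is an algebraic space then `U ⟶ U/R` is surjective, flat and locally of finite
presentation. -/
theorem quotSpπ_fppf {R U : Sp S} (hR : IsAlgSpace R) (hU : IsAlgSpace U) (s t : R ⟶ U)
    (hj : IsEqvRelSp s t)
    (hs : LocP @Flat s ∧ LocP @LocallyOfFinitePresentation s)
    (ht : LocP @Flat t ∧ LocP @LocallyOfFinitePresentation t)
    (hF : IsAlgSpace (quotSp s t)) :
    IsSurjectiveMor (quotSpπ s t) ∧ LocP @Flat (quotSpπ s t) ∧
      LocP @LocallyOfFinitePresentation (quotSpπ s t) := by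
  obtain ⟨W, a, hae, has⟩ := hU.atlas
  haveI : Epi a := Groth.Agent.Lib.helper5.epi_of_etale_surjective a hae has
  haveI : Epi (quotSpπ s t) := by
    unfold quotSpπ
    exact coequalizer.π_epi
  let p : (yon S).obj W ⟶ quotSp s t := a ≫ quotSpπ s t
  haveI : Epi p := epi_comp _ _
  have hrep : Representable p := hF.representable_from_yon p
  obtain ⟨I, t', s', hk, htf, htl, -, -⟩ := exists_kernelPair_scheme hR hU s t hj hs ht hF a hae
  have hpf : RepWith @Flat p := repWith_of_kernelPair @Flat s' t' p hrep hk htf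
  have hpl : RepWith @LocallyOfFinitePresentation p :=
    repWith_of_kernelPair @LocallyOfFinitePresentation s' t' p hrep hk htl
  -- the chart
  obtain ⟨B, β, hβe, hβs⟩ := hF.atlas
  obtain ⟨C, c₂, c₁, sq⟩ := hrep β
  have hc₂f : Flat c₂.left := hpf.2 _ _ _ sq
  have hc₂l : LocallyOfFinitePresentation c₂.left := hpl.2 _ _ _ sq
  have hc₁e : RepWith @Etale c₁ := (RepWith (S := S) @Etale).of_isPullback sq.flip hβe
  have hc₁s : RepWith @Surjective c₁ := (RepWith (S := S) @Surjective).of_isPullback sq.flip hβs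
  have hae' : RepWith @Etale (c₁ ≫ a) := (RepWith (S := S) @Etale).comp_mem _ _ hc₁e hae
  have has' : RepWith @Surjective (c₁ ≫ a) := (RepWith (S := S) @Surjective).comp_mem _ _ hc₁s has
  have comm : (c₁ ≫ a) ≫ quotSpπ s t = (yon S).map c₂ ≫ β := by
    rw [Category.assoc]; exact sq.w
  refine ⟨?_, ?_, ?_⟩
  · -- surjectivity
    obtain ⟨c₁', rfl⟩ := (yon S).map_surjective c₁
    have hcov := factSieve_mem_of_isPullback p β _ c₂ sq
    haveI : Epi (QuotSh.repMap Scheme.fppfPrecoverage c₂) :=
      (epi_repMap_iff Scheme.fppfPrecoverage c₂).2 hcov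
    have hc₂s : Surjective c₂.left := Groth.Agent.Lib.helper5.EqvRestr.surjective_of_epi_repMap c₂
    intro x
    obtain ⟨b, rfl⟩ := Groth.Agent.Lib.helper11.surjective_ofPt β hβs x
    obtain ⟨c, rfl⟩ := hc₂s.surj b
    refine ⟨Points.ofPt ((yon S).map c₁' ≫ a) c, ?_⟩
    rw [Points.map_ofPt, comm, Groth.Agent.Lib.helper11.ofPt_yon_map_comp]
  · exact Groth.Agent.H1.Seven.locP_of_one_chart Groth.Agent.H1.Seven.locPData_flat _
      (c₁ ≫ a) β c₂ hae' has' hβe comm hc₂f
  · exact Groth.Agent.H1.Seven.locP_of_one_chart Groth.Agent.Lib.helper5.LocPBC.locPData_lfp _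
      (c₁ ≫ a) β c₂ hae' has' hβe comm hc₂l

end Groth.Agent.Lib.helper5.FppfBoot
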