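import Groth.Agent.Lib.Helper5.AlgSpEtaleMono
import Groth.Agent.Lib.Helper5.AlgSpLocPInst
import Mathlib.AlgebraicGeometry.Morphisms.FlatMono

/-!
Unramified morphisms of algebraic spaces and open diagonals (helper5).
-/

set_option autoImplicit false
universe u
open CategoryTheory CategoryTheory.Limits AlgebraicGeometry
open AlgSp

namespace Groth.Agent.Lib.helper5.DiagUnram

variable {S : Scheme.{u}}

/-- A section of an unramified morphism is etale (on every chart diagram). -/
theorem locP_etale_of_section {X P : Sp S} (s : X ⟶ P) (π : P ⟶ X) (hs : s ≫ π = 𝟙 X)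
    (hπ : LocP (@LocallyOfFiniteType ⊓ @FormallyUnramified) π) : LocP @Etale s := by
  intro A B a b k ha hb hsq
  obtain ⟨B', r, t, sq⟩ := ha.1 (b ≫ π)
  obtain ⟨m, rfl⟩ := (yon S).map_surjective t
  have hr : Etale r.left := ha.2 _ _ _ sq
  have hm : (@LocallyOfFiniteType ⊓ @FormallyUnramified) m.left := by
    refine hπ ((yon S).map r ≫ b) a m ?_ ha ?_
    · exact (RepWith (S := S) @Etale).comp_mem _ _ ((repWith_yon_map_iff @Etale r).2 hr) hb
    · rw [Category.assoc]; exact sq.w.symm
  have hw : (yon S).map (𝟙 A) ≫ a = (yon S).map k ≫ (b ≫ π) := by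
    rw [CategoryTheory.Functor.map_id, Category.id_comp, ← Category.assoc, ← hsq, Category.assoc,
      hs, Category.comp_id]
  obtain ⟨σ', h1, h2⟩ := sq.exists_lift ((yon S).map (𝟙 A)) ((yon S).map k) hw
  obtain ⟨σ, rfl⟩ := (yon S).map_surjective σ'
  have h1' : σ ≫ m = 𝟙 A := (yon S).map_injective (by rw [Functor.map_comp]; exact h1)
  have h2' : σ ≫ r = k := (yon S).map_injective (by rw [Functor.map_comp]; exact h2)
  have hc : Etale (σ.left ≫ m.left) := by
    rw [← Over.comp_left, h1', Over.id_left]; infer_instance
  have hm1 : LocallyOfFiniteType m.left := hm.1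
  have hm2 : FormallyUnramified m.left := hm.2
  have hσ : Etale σ.left := Etale.of_comp σ.left m.left
  rw [← h2', Over.comp_left]
  infer_instance

open Groth.Agent.Lib.helper5.LocPBC in
/-- The diagonal of an unramified morphism of algebraic spaces is an open immersion. -/
theorem repWith_oi_diagonal_of_unramified {X Y : Sp S} (hX : IsAlgSpace X) (hY : IsAlgSpace Y)
    (f : X ⟶ Y) (hf : LocP (@LocallyOfFiniteType ⊓ @FormallyUnramified) f) :
    RepWith @IsOpenImmersion (pullback.diagonal f) := by
  have sq : IsPullback (pullback.fst f f) (pullback.snd f f) f f := IsPullback.of_hasPullback f f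
  have hP : IsAlgSpace (pullback f f) :=
    Groth.Agent.Lib.helper5.isAlgSpace_of_isPullback hY.diag hX hX sq
  have hpr2 : LocP (@LocallyOfFiniteType ⊓ @FormallyUnramified) (pullback.snd f f) :=
    locP_of_isPullback locPData_unramified hX hY hX sq hf
  have hΔ : LocP @Etale (pullback.diagonal f) :=
    locP_etale_of_section _ _ (pullback.diagonal_snd f) hpr2
  have hΔe : IsEtaleMor (pullback.diagonal f) :=
    Groth.Agent.S10266.isEtaleMor_of_locP_etale hP _ hΔ
  exact Groth.Agent.Lib.helper5.EtMono.repWith_oi_of_etale_mono hX hP _ hΔe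

theorem isOpenImmersion_diagonal_of_isPullback {A B T : Scheme.{u}} {g : A ⟶ B} {p1 p2 : T ⟶ A}
    (sq : IsPullback p1 p2 g g) (d : A ⟶ T) (h1 : d ≫ p1 = 𝟙 A) (h2 : d ≫ p2 = 𝟙 A)
    [IsOpenImmersion d] : IsOpenImmersion (pullback.diagonal g) := by
  have : pullback.diagonal g = d ≫ sq.isoPullback.hom := by
    apply pullback.hom_ext
    · rw [Category.assoc, sq.isoPullback_hom_fst, pullback.diagonal_fst, h1]
    · rw [Category.assoc, sq.isoPullback_hom_snd, pullback.diagonal_snd, h2]
  rw [this]; infer_instance

open Groth.Agent.Lib.helper5.LocPBC in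
/-- If the diagonal of `f` is an open immersion, every chart of `f` is formally unramified. -/
theorem formallyUnramified_chart_of_oi_diagonal {X Y : Sp S} (f : X ⟶ Y)
    (hΔ : RepWith @IsOpenImmersion (pullback.diagonal f)) {U V : Over S}
    (a : (yon S).obj U ⟶ X) (b : (yon S).obj V ⟶ Y) (h : U ⟶ V) (ha : RepWith @Etale a)
    (hb : RepWith @Etale b) (hsq : a ≫ f = (yon S).map h ≫ b) : FormallyUnramified h.left := by
  have sqT : IsPullback (pullback.fst h h) (pullback.snd h h) h h := IsPullback.of_hasPullback h h
  have sqTy := sqT.map (yon S)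
  have hg : ((yon S).map (pullback.fst h h) ≫ a) ≫ f = ((yon S).map (pullback.snd h h) ≫ a) ≫ f := by
    rw [Category.assoc, Category.assoc, hsq, ← Category.assoc, ← Category.assoc, sqTy.w]
  obtain ⟨E, j, e', sqE⟩ := hΔ.1 (pullback.lift _ _ hg)
  have hj : IsOpenImmersion j.left := hΔ.2 _ _ _ sqE
  have he1 : (yon S).map j ≫ (yon S).map (pullback.fst h h) ≫ a = e' := by
    have h0 := congrArg (fun k => k ≫ pullback.fst f f) sqE.w
    simp only [Category.assoc, pullback.diagonal_fst, Category.comp_id, pullback.lift_fst] at h0
    exact h0.symm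
  have he2 : (yon S).map j ≫ (yon S).map (pullback.snd h h) ≫ a = e' := by
    have h0 := congrArg (fun k => k ≫ pullback.snd f f) sqE.w
    simp only [Category.assoc, pullback.diagonal_snd, Category.comp_id, pullback.lift_snd] at h0
    exact h0.symm
  have hp : RepWith @Etale (pullback.lift a ((yon S).map h) hsq) :=
    repWith_etale_lift a b h ha hb hsq
  have hcomm : (yon S).map (j ≫ pullback.snd h h) ≫ pullback.lift a ((yon S).map h) hsq =
      (yon S).map (j ≫ pullback.fst h h) ≫ pullback.lift a ((yon S).map h) hsq := by
    apply pullback.hom_ext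
    · simp only [Category.assoc, pullback.lift_fst, Functor.map_comp]
      rw [he1, he2]
    · simp only [Category.assoc, pullback.lift_snd, ← Functor.map_comp]
      rw [sqT.w]
  have sqR : IsPullback ((yon S).map (j ≫ pullback.snd h h)) ((yon S).map (j ≫ pullback.fst h h))
      (pullback.lift a ((yon S).map h) hsq) (pullback.lift a ((yon S).map h) hsq) := by
    have hβh : ∀ c : PullbackCone (pullback.lift a ((yon S).map h) hsq)
        (pullback.lift a ((yon S).map h) hsq), c.snd ≫ (yon S).map h = c.fst ≫ (yon S).map h := by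
      intro c
      have h0 := congrArg (fun k => k ≫ pullback.snd f b) c.condition
      simp only [Category.assoc, pullback.lift_snd] at h0
      exact h0.symm
    have hβa : ∀ c : PullbackCone (pullback.lift a ((yon S).map h) hsq)
        (pullback.lift a ((yon S).map h) hsq), c.snd ≫ a = c.fst ≫ a := by
      intro c
      have h0 := congrArg (fun k => k ≫ pullback.fst f b) c.condition
      simp only [Category.assoc, pullback.lift_fst] at h0
      exact h0.symm
    have hτ : ∀ c : PullbackCone (pullback.lift a ((yon S).map h) hsq)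
        (pullback.lift a ((yon S).map h) hsq),
        (c.snd ≫ a) ≫ pullback.diagonal f =
          sqTy.lift c.snd c.fst (hβh c) ≫ pullback.lift _ _ hg := by
      intro c
      apply pullback.hom_ext
      · simp only [Category.assoc, pullback.diagonal_fst, Category.comp_id, pullback.lift_fst]
        rw [← Category.assoc, sqTy.lift_fst]
      · simp only [Category.assoc, pullback.diagonal_snd, Category.comp_id, pullback.lift_snd]
        rw [← Category.assoc, sqTy.lift_snd, hβa c]
    refine IsPullback.of_isLimit (PullbackCone.IsLimit.mk hcomm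
      (fun c => sqE.lift (c.snd ≫ a) (sqTy.lift c.snd c.fst (hβh c)) (hτ c)) ?_ ?_ ?_)
    · intro c
      rw [Functor.map_comp, ← Category.assoc, sqE.lift_snd, sqTy.lift_snd]
    · intro c
      rw [Functor.map_comp, ← Category.assoc, sqE.lift_snd, sqTy.lift_fst]
    · intro c m hm1 hm2
      rw [Functor.map_comp, ← Category.assoc] at hm1 hm2
      apply sqE.hom_ext
      · rw [sqE.lift_fst, ← he1, ← Category.assoc, ← Category.assoc, hm2]
      · rw [sqE.lift_snd]
        apply sqTy.hom_ext
        · rw [sqTy.lift_fst, hm2]
        · rw [sqTy.lift_snd, hm1]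
  have he1et : Etale (j ≫ pullback.fst h h).left := hp.2 _ _ _ sqR
  have hw : a ≫ pullback.diagonal f =
      (yon S).map (pullback.diagonal h) ≫ pullback.lift _ _ hg := by
    apply pullback.hom_ext
    · simp only [Category.assoc, pullback.diagonal_fst, Category.comp_id, pullback.lift_fst]
      rw [← Category.assoc, ← Functor.map_comp, pullback.diagonal_fst,
        CategoryTheory.Functor.map_id, Category.id_comp]
    · simp only [Category.assoc, pullback.diagonal_snd, Category.comp_id, pullback.lift_snd]
      rw [← Category.assoc, ← Functor.map_comp, pullback.diagonal_snd,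
        CategoryTheory.Functor.map_id, Category.id_comp]
  obtain ⟨δ', hδ1, hδ2⟩ := sqE.exists_lift a ((yon S).map (pullback.diagonal h)) hw
  obtain ⟨δ, rfl⟩ := (yon S).map_surjective δ'
  have hδj : δ ≫ j = pullback.diagonal h :=
    (yon S).map_injective (by rw [Functor.map_comp]; exact hδ2)
  have hδe : δ ≫ (j ≫ pullback.fst h h) = 𝟙 U := by
    rw [← Category.assoc, hδj, pullback.diagonal_fst]
  have hδe' : δ.left ≫ (j ≫ pullback.fst h h).left = 𝟙 U.left := by
    rw [← Over.comp_left, hδe, Over.id_left]
  have hc : Etale (δ.left ≫ (j ≫ pullback.fst h h).left) := by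
    rw [hδe']; infer_instance
  have hδet : Etale δ.left :=
    MorphismProperty.of_postcomp (W := @Etale) (W' := @Etale) δ.left _ he1et hc
  have hδm : Mono δ.left := mono_of_mono_fac hδe'
  have hδoi : IsOpenImmersion δ.left := IsOpenImmersion.of_flat_of_mono δ.left
  have hΔoi : IsOpenImmersion (pullback.diagonal h).left := by
    rw [← hδj, Over.comp_left]; infer_instance
  have sqS : IsPullback (pullback.fst h h).left (pullback.snd h h).left h.left h.left :=
    sqT.map (Over.forget S)
  have h1 : (pullback.diagonal h).left ≫ (pullback.fst h h).left = 𝟙 U.left := by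
    rw [← Over.comp_left, pullback.diagonal_fst, Over.id_left]
  have h2 : (pullback.diagonal h).left ≫ (pullback.snd h h).left = 𝟙 U.left := by
    rw [← Over.comp_left, pullback.diagonal_snd, Over.id_left]
  have : IsOpenImmersion (pullback.diagonal h.left) :=
    isOpenImmersion_diagonal_of_isPullback sqS (pullback.diagonal h).left h1 h2
  infer_instance

end Groth.Agent.Lib.helper5.DiagUnram
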