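import Mathlib.AlgebraicGeometry.Morphisms.Etale
import Mathlib.AlgebraicGeometry.Morphisms.Flat
import Mathlib.RingTheory.Ideal.GoingDown
import Mathlib.RingTheory.Ideal.Height
import Mathlib.RingTheory.Unramified.LocalStructure
import Mathlib.RingTheory.QuasiFinite.Basic

/-!
# Etale-local invariance of the dimension of local rings (helper5)
-/

set_option autoImplicit false
universe u
open CategoryTheory CategoryTheory.Limits AlgebraicGeometry Opposite

namespace Groth.Agent.Lib.helper5.EtLocalProp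

/-- contraction of primes is strictly monotone along quasi-finite ring maps -/
theorem comap_strictMono (A B : Type*) [CommRing A] [CommRing B] [Algebra A B] [Algebra.QuasiFinite A B] :
    StrictMono (PrimeSpectrum.comap (algebraMap A B)) := by
  intro P P' hlt
  refine lt_of_le_of_ne (Ideal.comap_mono (f := algebraMap A B) hlt.le) ?_
  intro heq
  have : P.asIdeal = P'.asIdeal :=
    Algebra.QuasiFinite.eq_of_le_of_under_eq (R := A) P.asIdeal P'.asIdeal hlt.le
      (congrArg PrimeSpectrum.asIdeal heq)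
  exact hlt.ne (PrimeSpectrum.ext this)

/-- along a flat quasi-finite ring map heights of primes are preserved -/
theorem height_eq_under (A B : Type*) [CommRing A] [CommRing B] [Algebra A B] [Module.Flat A B]
    [Algebra.QuasiFinite A B] (q : Ideal B) [q.IsPrime] : q.height = (q.under A).height := by
  have h1 := PrimeSpectrum.height_eq_orderHeight (⟨q, inferInstance⟩ : PrimeSpectrum B)
  have h2 := PrimeSpectrum.height_eq_orderHeight (⟨q.under A, inferInstance⟩ : PrimeSpectrum A)
  change q.height = _ at h1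
  change (q.under A).height = _ at h2
  rw [h1, h2]
  apply le_antisymm
  · exact Order.height_le_height_apply_of_strictMono _ (comap_strictMono A B) ⟨q, inferInstance⟩
  · refine Order.height_le ?_
    intro l hl
    have hlo : q.LiesOver l.last.asIdeal := ⟨by rw [hl]⟩
    obtain ⟨L, hlen, hlast, -⟩ := Ideal.exists_ltSeries_of_hasGoingDown l q
    rw [← hlen, ← hlast]
    exact Order.length_le_height_last

/-- The dimension of the local ring is invariant under etale morphisms. -/
theorem ringKrullDim_stalk_eq_of_etale {V U : Scheme.{u}} (g : V ⟶ U) [Etale g] (v : ↥V) :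
    ringKrullDim ↑(V.presheaf.stalk v) = ringKrullDim ↑(U.presheaf.stalk (g v)) := by
  obtain ⟨A₀, hA₀, hpA, -⟩ := exists_isAffineOpen_mem_and_subset (x := g v) (U := ⊤) trivial
  obtain ⟨B₀, hB₀, hwB, hBA⟩ := exists_isAffineOpen_mem_and_subset (x := v) (U := g ⁻¹ᵁ A₀) hpA
  have hle : B₀ ≤ g ⁻¹ᵁ A₀ := hBA
  have hρ : (g.appLE A₀ B₀ hle).hom.Etale :=
    HasRingHomProperty.appLE (P := @Etale) g inferInstance ⟨A₀, hA₀⟩ ⟨B₀, hB₀⟩ hle
  algebraize_only [(g.appLE A₀ B₀ hle).hom]
  have het : Algebra.Etale Γ(U, A₀) Γ(V, B₀) := hρ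
  let q : Ideal Γ(V, B₀) := (hB₀.primeIdealOf ⟨v, hwB⟩).asIdeal
  let p : Ideal Γ(U, A₀) := (hA₀.primeIdealOf ⟨g v, hle hwB⟩).asIdeal
  have hpq : p = q.under Γ(U, A₀) :=
    (congrArg PrimeSpectrum.asIdeal
      (IsAffineOpen.comap_primeIdealOf_appLE A₀ hA₀ B₀ hB₀ hle hwB)).symm
  letI := V.presheaf.algebra_section_stalk (⟨v, hwB⟩ : B₀)
  letI := U.presheaf.algebra_section_stalk (⟨g v, hle hwB⟩ : A₀)
  haveI iX : IsLocalization.AtPrime (V.presheaf.stalk v) q := hB₀.isLocalization_stalk ⟨v, hwB⟩
  haveI iY : IsLocalization.AtPrime (U.presheaf.stalk (g v)) p :=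
    hA₀.isLocalization_stalk ⟨g v, hle hwB⟩
  rw [IsLocalization.AtPrime.ringKrullDim_eq_height q, IsLocalization.AtPrime.ringKrullDim_eq_height p,
    hpq, height_eq_under Γ(U, A₀) Γ(V, B₀) q]

end Groth.Agent.Lib.helper5.EtLocalProp
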