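import Groth.Prelude.Def_AlgSp2
import Groth.Agent.Lib.Helper11.AlgSpBasic
import Groth.Agent.Lib.Helper5.EtLocalProp
import Groth.Agent.S4989

/-!
# Independence of the chart for etale-local properties of pointed schemes (helper5)
-/

set_option autoImplicit false
universe u
open CategoryTheory CategoryTheory.Limits AlgebraicGeometry Opposite
open AlgSp

set_option backward.isDefEq.respectTransparency false

namespace Groth.Agent.Lib.helper5.ChartInd

open Groth.Agent.Lib.helper11

variable {S : Scheme.{u}}

/-- Two etale charts through the same point of a sheaf are dominated by a common etale chart. -/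
theorem exists_common_chart {X : Sp S} {U U' : Over S} (a : (yon S).obj U ⟶ X) (ha : RepWith @Etale a)
    (a' : (yon S).obj U' ⟶ X) (ha' : RepWith @Etale a') (u : ↥U.left) (u' : ↥U'.left)
    (h : Points.ofPt a u = Points.ofPt a' u') :
    ∃ (W : Over S) (g : W ⟶ U) (g' : W ⟶ U') (w : ↥W.left), Etale g.left ∧ Etale g'.left ∧
      (yon S).map g ≫ a = (yon S).map g' ≫ a' ∧ g.left w = u ∧ g'.left w = u' := by
  obtain ⟨W, snd, fst, sq⟩ := ha'.1 a
  have hsnd : Etale snd.left := ha'.2 a fst snd sq
  obtain ⟨g', rfl⟩ := (yon S).map_surjective fst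
  have hg' : Etale g'.left := ha.2 a' _ g' sq.flip
  obtain ⟨w, hw1, hw2⟩ := exists_of_isPullback_schemes sq u' u h.symm
  exact ⟨W, snd, g', w, hsnd, hg', sq.w.symm, hw2, hw1⟩

/-- A property of pointed schemes that is invariant under etale morphisms holds at some chart through a point of an
algebraic space iff it holds at all charts through that point. -/
theorem hasAt_iff_forall {Q : ∀ U : Scheme.{u}, ↥U → Prop}
    (hQ : ∀ {V U : Scheme.{u}} (g : V ⟶ U) [Etale g] (v : ↥V), Q V v ↔ Q U (g v))
    (X : Space S) (x : Points X.obj) :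
    HasAt Q X.obj x ↔ ∀ (U : Over S) (a : (yon S).obj U ⟶ X.obj) (u : ↥U.left),
      RepWith @Etale a → Points.ofPt a u = x → Q U.left u := by
  constructor
  · rintro ⟨U', a', u', ha', hu', hQ'⟩ U a u ha hu
    obtain ⟨W, g, g', w, hg, hg', -, hw, hw'⟩ := exists_common_chart a ha a' ha' u u' (hu.trans hu'.symm)
    rw [← hw, ← hQ g.left w, hQ g'.left w, hw']
    exact hQ'
  · intro h
    obtain ⟨U, p, u, hpe, -, hu⟩ := exists_chart_ofPt X x
    exact ⟨U, p, u, hpe, hu, h U p u hpe hu⟩

/-- etale invariance of reducedness of the local ring -/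
theorem isReduced_stalk_iff_of_etale {V U : Scheme.{u}} (g : V ⟶ U) [Etale g] (v : ↥V) :
    _root_.IsReduced ↑(V.presheaf.stalk v) ↔ _root_.IsReduced ↑(U.presheaf.stalk (g v)) := by
  have hv : v ∈ g.smoothLocus := by
    rw [Scheme.Hom.smoothLocus_eq_top]
    trivial
  exact (Groth.Agent.S4989.result g v hv).1

end Groth.Agent.Lib.helper5.ChartInd
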