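import Mathlib

/-!
# Étale base change for `H¹(L_{A/R})` (helper5)

`nonempty_tensorH1Cotangent_of_lift`: `R → A → B`, `P → A` an extension with `P` formally smooth over `R`,
`E` an étale `P`-algebra with a surjection `E → B` with kernel `(ker (P → A)) E` (i.e. `E` lifts `B`), `B` flat
over `A`: then `B ⊗[A] H¹(L_P) ≃ H¹(L_{B/R})`.
-/

set_option autoImplicit false
universe u

open TensorProduct Algebra

namespace Groth.Agent.Lib.helper5.SmoothSrc

theorem bijective_mapKer_liftBaseChange {R A B : Type u} [CommRing R] [CommRing A] [CommRing B]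
    [Algebra R A] [Algebra A B] [Algebra R B] [IsScalarTower R A B]
    {P : Algebra.Extension.{u} R A} {Q : Algebra.Extension.{u} R B} (f : P.Hom Q)
    [alg : Algebra P.Ring Q.Ring] (halg : algebraMap P.Ring Q.Ring = f.toRingHom)
    [Module.Flat P.Ring Q.Ring]
    (hker : Q.ker = P.ker.map (algebraMap P.Ring Q.Ring)) :
    Function.Bijective ((f.mapKer halg).liftBaseChange Q.Ring) := by
  have key : ∀ z : Q.Ring ⊗[P.Ring] P.ker,
      ((TensorProduct.rid P.Ring Q.Ring).toLinearMap ∘ₗ (P.ker.subtype.lTensor Q.Ring)) z =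
        (((f.mapKer halg).liftBaseChange Q.Ring) z).1 := by
    intro z
    induction z with
    | zero => rw [map_zero, map_zero]; rfl
    | add a b ha hb => rw [map_add, map_add, ha, hb]; rfl
    | tmul e i =>
      simp only [LinearMap.coe_comp, LinearEquiv.coe_coe, Function.comp_apply,
        LinearMap.lTensor_tmul, Submodule.subtype_apply, TensorProduct.rid_tmul,
        LinearMap.liftBaseChange_tmul]
      rw [Algebra.smul_def, mul_comm, halg]
      rfl
  constructor
  · -- injectivity from flatness
    have h1 : Function.Injective (P.ker.subtype.lTensor Q.Ring) :=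
      Module.Flat.lTensor_preserves_injective_linearMap _ Subtype.val_injective
    have h2 : Function.Injective ((TensorProduct.rid P.Ring Q.Ring).toLinearMap ∘ₗ
        (P.ker.subtype.lTensor Q.Ring)) := (TensorProduct.rid P.Ring Q.Ring).injective.comp h1
    intro x y hxy
    apply h2
    rw [key, key, hxy]
  · -- surjectivity from `ker = I E`
    intro y
    have hy : (y : Q.Ring) ∈ P.ker.map (algebraMap P.Ring Q.Ring) := by
      rw [← hker]
      exact y.2
    have hle : P.ker.map (algebraMap P.Ring Q.Ring) ≤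
        Submodule.map (Q.ker.subtype)
          (LinearMap.range ((f.mapKer halg).liftBaseChange Q.Ring)) := by
      rw [Ideal.map, Ideal.span_le]
      rintro _ ⟨i, hi, rfl⟩
      refine ⟨_, ⟨(1 : Q.Ring) ⊗ₜ[P.Ring] (⟨i, hi⟩ : P.ker), rfl⟩, ?_⟩
      simp only [LinearMap.liftBaseChange_tmul, one_smul]
      rw [halg]
      rfl
    obtain ⟨_, ⟨x, rfl⟩, hx⟩ := hle hy
    exact ⟨x, Subtype.ext hx⟩

theorem nonempty_tensorH1Cotangent_of_hom {R A B : Type u} [CommRing R] [CommRing A] [CommRing B]
    [Algebra R A] [Algebra A B] [Algebra R B] [IsScalarTower R A B] [Module.Flat A B]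
    {P : Algebra.Extension.{u} R A} {Q : Algebra.Extension.{u} R B} (f : P.Hom Q)
    [alg : Algebra P.Ring Q.Ring] (halg : algebraMap P.Ring Q.Ring = f.toRingHom)
    [Algebra.FormallySmooth R P.Ring] [Algebra.Etale P.Ring Q.Ring]
    (hker : Q.ker = P.ker.map (algebraMap P.Ring Q.Ring)) :
    Nonempty (B ⊗[A] P.H1Cotangent ≃ₗ[B] H1Cotangent R B) := by
  have : IsScalarTower R P.Ring Q.Ring :=
    .of_algebraMap_eq fun r ↦ by
      rw [halg]
      exact (f.toRingHom_algebraMap r).symm
  have : Algebra.FormallySmooth R Q.Ring := Algebra.FormallySmooth.comp R P.Ring Q.Ring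
  have H₁ : f.toRingHom.FormallyEtale := by
    rw [← halg]
    exact RingHom.formallyEtale_algebraMap.mpr inferInstance
  have H₂ := bijective_mapKer_liftBaseChange f halg hker
  exact ⟨Algebra.Extension.tensorH1CotangentOfFormallyEtale f halg H₁ H₂ ≪≫ₗ
    Algebra.Extension.equivH1CotangentOfFormallySmooth Q⟩

theorem nonempty_tensorH1Cotangent_of_lift' {R A B : Type u} [CommRing R] [CommRing A] [CommRing B]
    [Algebra R A] [Algebra A B] [Algebra R B] [IsScalarTower R A B] [Module.Flat A B]
    (P : Algebra.Extension.{u} R A) [Algebra.FormallySmooth R P.Ring]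
    (E : Type u) [CommRing E] [Algebra P.Ring E] [Algebra R E] [IsScalarTower R P.Ring E]
    [Algebra.Etale P.Ring E]
    (ψ : E →ₐ[R] B)
    (hψ : ∀ p, ψ (algebraMap P.Ring E p) = algebraMap A B (algebraMap P.Ring A p))
    (hsurj : Function.Surjective ψ)
    (hker : RingHom.ker ψ.toRingHom = P.ker.map (algebraMap P.Ring E)) :
    Nonempty (B ⊗[A] P.H1Cotangent ≃ₗ[B] H1Cotangent R B) :=
  @nonempty_tensorH1Cotangent_of_hom R A B _ _ _ _ _ _ _ _ P (.ofSurjective ψ hsurj)
    { toRingHom := algebraMap P.Ring E
      toRingHom_algebraMap := fun x => by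
        simp only [Algebra.algebraMap_self, RingHom.id_apply]
        exact (IsScalarTower.algebraMap_apply R P.Ring E x).symm
      algebraMap_toRingHom := fun x => hψ x }
    (inferInstanceAs (Algebra P.Ring E)) rfl _ (inferInstanceAs (Algebra.Etale P.Ring E)) hker

theorem nonempty_tensorH1Cotangent_of_lift {R A B : Type u} [CommRing R] [CommRing A] [CommRing B]
    [Algebra R A] [Algebra A B] [Algebra R B] [IsScalarTower R A B] [Module.Flat A B]
    (P : Algebra.Extension.{u} R A) [Algebra.FormallySmooth R P.Ring]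
    (E : Type u) [CommRing E] [Algebra P.Ring E] [Algebra.Etale P.Ring E]
    (ψ : E →+* B)
    (hψ : ∀ p, ψ (algebraMap P.Ring E p) = algebraMap A B (algebraMap P.Ring A p))
    (hsurj : Function.Surjective ψ)
    (hker : RingHom.ker ψ = P.ker.map (algebraMap P.Ring E)) :
    Nonempty (B ⊗[A] P.H1Cotangent ≃ₗ[B] H1Cotangent R B) := by
  letI : Algebra R E := ((algebraMap P.Ring E).comp (algebraMap R P.Ring)).toAlgebra
  haveI : IsScalarTower R P.Ring E := .of_algebraMap_eq' rfl
  exact nonempty_tensorH1Cotangent_of_lift' P E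
    { ψ with
      commutes' := fun r => by
        change ψ (algebraMap P.Ring E (algebraMap R P.Ring r)) = _
        rw [hψ, ← IsScalarTower.algebraMap_apply R P.Ring A, ← IsScalarTower.algebraMap_apply R A B] }
    hψ hsurj hker

end Groth.Agent.Lib.helper5.SmoothSrc
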