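import Groth.Agent.Lib.Helper26.FiniteEtaleLift
import Groth.Agent.Lib.Helper5.H1CotangentEtale
import Groth.Agent.Lib.Helper5.EtaleSourceDescent

/-!
# Smoothness descends along étale surjections on the source (helper5)

* `exists_etale_lift_of_surjective`: étale algebras lift along any surjection `P₀ → A` (from helper26's
  `exists_etale_lift` for `A ⧸ I`).
* `nonempty_tensorH1Cotangent_of_etale`: `B ⊗[A] H¹(L_{A/R}) ≃ H¹(L_{B/R})` for `B` étale over `A`.
* `smooth_of_etale_comp` (ring level): `R → A → B`, `A → B` étale and surjective on spectra, `R → B` smooth ⇒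
  `R → A` smooth.
* `smooth_of_etale_comp_scheme`: scheme version.
-/

set_option autoImplicit false
open CategoryTheory CategoryTheory.Limits AlgebraicGeometry Opposite
universe u

namespace Groth.Agent.Lib.helper5.SmoothSrc

open TensorProduct Algebra

theorem exists_etale_lift_of_surjective {P₀ A B : Type u} [CommRing P₀] [CommRing A] [CommRing B]
    [Algebra P₀ A] [Algebra A B] [Algebra.Etale A B]
    (hπ : Function.Surjective (algebraMap P₀ A)) :
    ∃ (E : Type u) (_ : CommRing E) (_ : Algebra P₀ E) (_ : Algebra.Etale P₀ E) (ψ : E →+* B),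
      (∀ p, ψ (algebraMap P₀ E p) = algebraMap A B (algebraMap P₀ A p)) ∧
      Function.Surjective ψ ∧
      RingHom.ker ψ = (RingHom.ker (algebraMap P₀ A)).map (algebraMap P₀ E) := by
  let ε : P₀ ⧸ RingHom.ker (algebraMap P₀ A) ≃+* A := RingHom.quotientKerEquivOfSurjective hπ
  letI : Algebra (P₀ ⧸ RingHom.ker (algebraMap P₀ A)) A := ε.toRingHom.toAlgebra
  letI : Algebra (P₀ ⧸ RingHom.ker (algebraMap P₀ A)) B :=
    ((algebraMap A B).comp ε.toRingHom).toAlgebra
  haveI : IsScalarTower (P₀ ⧸ RingHom.ker (algebraMap P₀ A)) A B := .of_algebraMap_eq' rfl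
  haveI : Algebra.Etale (P₀ ⧸ RingHom.ker (algebraMap P₀ A)) A :=
    RingHom.etale_algebraMap.mp (RingHom.Etale.of_bijective ε.bijective)
  haveI : Algebra.Etale (P₀ ⧸ RingHom.ker (algebraMap P₀ A)) B :=
    Algebra.Etale.comp (P₀ ⧸ RingHom.ker (algebraMap P₀ A)) A B
  obtain ⟨E, _, _, hE, ψ, hψ, hsurj, hker⟩ :=
    Groth.Agent.Lib.helper26.FiniteEtaleLift.exists_etale_lift (RingHom.ker (algebraMap P₀ A)) B
  refine ⟨E, inferInstance, inferInstance, hE, ψ, ?_, hsurj, hker⟩
  intro p
  rw [hψ]
  rfl

theorem nonempty_tensorH1Cotangent_of_etale {R A B : Type u} [CommRing R] [CommRing A] [CommRing B]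
    [Algebra R A] [Algebra A B] [Algebra R B] [IsScalarTower R A B] [Algebra.Etale A B] :
    Nonempty (B ⊗[A] H1Cotangent R A ≃ₗ[B] H1Cotangent R B) := by
  haveI : Algebra.FormallySmooth R (Generators.self R A).toExtension.Ring :=
    inferInstanceAs (Algebra.FormallySmooth R (MvPolynomial A R))
  obtain ⟨E, _, _, hE, ψ, hψ, hψs, hker⟩ :=
    exists_etale_lift_of_surjective (P₀ := (Generators.self R A).toExtension.Ring) (A := A) (B := B)
      (Generators.self R A).toExtension.algebraMap_surjective
  exact nonempty_tensorH1Cotangent_of_lift (Generators.self R A).toExtension E ψ hψ hψs hker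

/-- smoothness descends along étale surjections on the source (ring level). -/
theorem smooth_of_etale_comp {R A B : Type u} [CommRing R] [CommRing A] [CommRing B]
    [Algebra R A] [Algebra A B] [Algebra R B] [IsScalarTower R A B] [Algebra.Etale A B]
    (hsurj : Function.Surjective (PrimeSpectrum.comap (algebraMap A B)))
    [Algebra.Smooth R B] : Algebra.Smooth R A := by
  have hfp : Algebra.FinitePresentation R A :=
    Groth.Agent.Lib.helper5.EtSrc.finitePresentation_of_etale_comp hsurj
  have hflat : Module.Flat A B := inferInstance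
  have hff : Module.FaithfullyFlat A B := Module.FaithfullyFlat.of_comap_surjective hsurj
  refine ⟨?_, hfp⟩
  rw [Algebra.formallySmooth_iff]
  constructor
  · have e' : B ⊗[A] Ω[A⁄R] ≃ₗ[B] Ω[B⁄R] :=
      KaehlerDifferential.tensorKaehlerEquivOfFormallyEtale R A B
    have : Module.Flat B (B ⊗[A] Ω[A⁄R]) := .of_linearEquiv e'
    have : Module.Flat A Ω[A⁄R] := Module.Flat.of_flat_tensorProduct _ _ B
    exact Module.Flat.projective_of_finitePresentation
  · obtain ⟨e⟩ := nonempty_tensorH1Cotangent_of_etale (R := R) (A := A) (B := B)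
    have : Subsingleton (B ⊗[A] H1Cotangent R A) := e.subsingleton
    exact Module.FaithfullyFlat.lTensor_reflects_triviality A B (H1Cotangent R A)

lemma ringHom_smooth_of_etale_comp {R A B : Type u} [CommRing R] [CommRing A]
    [CommRing B] (φ : R →+* A) (ψ : A →+* B) (hψ : ψ.Etale)
    (hs : Function.Surjective (PrimeSpectrum.comap ψ)) (h : (ψ.comp φ).Smooth) :
    φ.Smooth := by
  algebraize [φ, ψ, ψ.comp φ]
  exact smooth_of_etale_comp (R := R) (A := A) (B := B) hs

/-- smoothness descends along an étale surjection on the source. -/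
theorem smooth_of_etale_comp_scheme {X' X Y : Scheme.{u}} (f : X' ⟶ X) (g : X ⟶ Y)
    [Etale f] [Surjective f] [Smooth (f ≫ g)] : Smooth g :=
  Groth.Agent.S1179.descend_source (P := @Smooth) ringHom_smooth_of_etale_comp f g inferInstance

end Groth.Agent.Lib.helper5.SmoothSrc
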