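import Groth.Agent.Lib.Helper5.AlgSpLocPInst
import Groth.Agent.Lib.Helper5.SmoothSourceDescent
import Groth.Agent.Lib.Helper1.LocPFlatBC
import Groth.Agent.S1414

/-!
# More instances of `LocPData` (helper5): smooth and flat
-/

set_option autoImplicit false
universe u
open CategoryTheory CategoryTheory.Limits AlgebraicGeometry
open AlgSp

namespace Groth.Agent.Lib.helper5.LocPBC

theorem locPData_smooth : LocPData.{u} @Smooth where
  baseChange := inferInstance
  pre e g he hg := by
    have := he; have := hg
    infer_instance
  post k e hk he := by
    have := he; have := hk
    infer_instance
  cancel k b hb h := by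
    have := hb; have := h
    exact Groth.Agent.S1414.result k b
  descend f g hf hs h := by
    have := hf; have := hs; have := h
    exact SmoothSrc.smooth_of_etale_comp_scheme f g

theorem locPData_flat : LocPData.{u} @Flat where
  baseChange := inferInstance
  pre e g he hg := by
    have := he; have := hg
    infer_instance
  post k e hk he := by
    have := he; have := hk
    infer_instance
  cancel k b hb h := by
    have := hb; have := h
    exact Groth.Agent.H1.LocPFlatBC.flat_of_comp_etale k b
  descend f g hf hs h := by
    have := hf; have := hs; have := h
    exact Groth.Agent.Lib.helper22.flat_of_flat_comp f g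

end Groth.Agent.Lib.helper5.LocPBC
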