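import Groth.Agent.Lib.Helper1.SevenProps
import Groth.Agent.Lib.Helper5.AlgSpLocPInst2
import Groth.Agent.Lib.Helper11.AlgSpBasic
import Groth.Agent.Lib.Helper10.AlgSpPoints

/-!
# `LocP` from jointly surjective families of chart diagrams (helper5)

* `isZariskiLocalAtSource_of_seven`.
* `locP_of_chart_family`: chart diagrams whose source charts are jointly surjective on points suffice for `LocP P`.
* `exists_chart_at_point`: a chart diagram through a given point of the source.
-/

set_option autoImplicit false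
universe u
open CategoryTheory CategoryTheory.Limits AlgebraicGeometry
open AlgSp
open Groth.Agent.Lib.helper5.LocPBC

namespace Groth.Agent.Lib.helper5.LocPFam

variable {S : Scheme.{u}}

theorem locPData_of_seven (P : MorphismProperty Scheme.{u}) (hP : Groth.Agent.H1.Seven.IsSeven P) :
    LocPData P ∧ P.IsStableUnderComposition :=
  Groth.Agent.H1.Seven.locPData_of_seven locPData_smooth P hP

theorem isZariskiLocalAtSource_of_seven (P : MorphismProperty Scheme.{u}) (hP : Groth.Agent.H1.Seven.IsSeven P) :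
    IsZariskiLocalAtSource P := by
  rcases hP with rfl | rfl | rfl | rfl | rfl | h | h
  · infer_instance
  · infer_instance
  · infer_instance
  · infer_instance
  · infer_instance
  · have : P = (@LocallyQuasiFinite ⊓ @LocallyOfFiniteType : MorphismProperty Scheme.{u}) := by
      ext A B g
      exact h g
    rw [this]
    infer_instance
  · have : P = (@LocallyOfFiniteType ⊓ @FormallyUnramified : MorphismProperty Scheme.{u}) := by
      ext A B g
      exact h g
    rw [this]
    infer_instance

/-- A chart diagram through a given point of the source. -/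
theorem exists_chart_at_point {F G : Sp S} (hF : IsAlgSpace F) (hG : IsAlgSpace G) (f : F ⟶ G) (x : Points F) :
    ∃ (U V : Over S) (a : (yon S).obj U ⟶ F) (b : (yon S).obj V ⟶ G) (h : U ⟶ V) (u : ↥U.left),
      RepWith @Etale a ∧ RepWith @Etale b ∧ a ≫ f = (yon S).map h ≫ b ∧ Points.ofPt a u = x := by
  obtain ⟨U0, a0, ha0e, ha0s⟩ := hF.atlas
  obtain ⟨V, b, hbe, hbs⟩ := hG.atlas
  obtain ⟨u0, rfl⟩ := Groth.Agent.Lib.helper11.surjective_ofPt a0 ha0s x
  obtain ⟨U1, snd, fst, sq⟩ := hbe.1 (a0 ≫ f)
  obtain ⟨h, rfl⟩ := (yon S).map_surjective fst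
  have hsnde : Etale snd.left := hbe.2 _ _ snd sq
  have hsnds : Surjective snd.left := hbs.2 _ _ snd sq
  obtain ⟨u1, hu1⟩ := hsnds.surj u0
  refine ⟨U1, V, (yon S).map snd ≫ a0, b, h, u1, ?_, hbe, ?_, ?_⟩
  · exact (RepWith (S := S) @Etale).comp_mem _ _ ((repWith_yon_map_iff @Etale snd).2 hsnde) ha0e
  · rw [Category.assoc, ← sq.w]
  · rw [Groth.Agent.Lib.helper11.ofPt_yon_map_comp, hu1]

/-- Chart diagrams whose source charts are jointly surjective on points suffice for `LocP P`. -/
theorem locP_of_chart_family {P : MorphismProperty Scheme.{u}} (hP : LocPData P) [IsZariskiLocalAtSource P]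
    {F G : Sp S} (f : F ⟶ G) {ι : Type*} (U V : ι → Over S) (a : ∀ i, (yon S).obj (U i) ⟶ F)
    (b : ∀ i, (yon S).obj (V i) ⟶ G) (h : ∀ i, U i ⟶ V i) (ha : ∀ i, RepWith @Etale (a i))
    (hb : ∀ i, RepWith @Etale (b i)) (comm : ∀ i, a i ≫ f = (yon S).map (h i) ≫ b i)
    (hh : ∀ i, P (h i).left) (hsurj : ∀ x : Points F, ∃ (i : ι) (u : ↥(U i).left), Points.ofPt (a i) u = x) :
    LocP P f := by
  intro U' V' a' b' h' ha' hb' hsq
  -- for each point of `U'` an open neighbourhood on which `P` holds
  have key : ∀ u' : ↥U'.left, ∃ N : U'.left.Opens, u' ∈ N ∧ P (N.ι ≫ h'.left) := by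
    intro u'
    obtain ⟨i, u, hu⟩ := hsurj (Points.ofPt a' u')
    -- U'' = U i ×_F U'
    obtain ⟨U'', r, s', sqU⟩ := (ha i).1 a'
    obtain ⟨s, rfl⟩ := (yon S).map_surjective s'
    have hr : Etale r.left := (ha i).2 _ _ _ sqU
    have hs : Etale s.left := ha'.2 _ _ _ sqU.flip
    -- V'' = V i ×_G V'
    obtain ⟨V'', v', v0, sqV⟩ := (hb i).1 b'
    obtain ⟨v, rfl⟩ := (yon S).map_surjective v0
    have hv' : Etale v'.left := (hb i).2 _ _ _ sqV
    have hv : Etale v.left := hb'.2 _ _ _ sqV.flip
    -- k : U'' ⟶ V''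
    obtain ⟨k0, hk1, hk2⟩ := sqV.exists_lift ((yon S).map (s ≫ h i)) ((yon S).map (r ≫ h')) (by
      rw [Functor.map_comp, Category.assoc, ← comm i, ← Category.assoc, sqU.w, Category.assoc, hsq,
        Functor.map_comp, Category.assoc])
    obtain ⟨k, rfl⟩ := (yon S).map_surjective k0
    have hk1' : k ≫ v = s ≫ h i := (yon S).map_injective (by rw [Functor.map_comp, hk1])
    have hk2' : k ≫ v' = r ≫ h' := (yon S).map_injective (by rw [Functor.map_comp, hk2])
    have h1 : P (s.left ≫ (h i).left) := hP.pre _ _ hs (hh i)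
    have h2 : P k.left := by
      refine hP.cancel k.left v.left hv ?_
      rw [← Over.comp_left, hk1']
      exact h1
    have h3 : P (r.left ≫ h'.left) := by
      have := hP.post k.left v'.left h2 hv'
      rwa [← Over.comp_left, hk2'] at this
    -- the image of `r`
    obtain ⟨z, -, hz⟩ := Groth.Agent.Lib.helper11.exists_of_isPullback_schemes sqU u u' hu
    let N : U'.left.Opens := ⟨Set.range r.left, r.left.isOpenMap.isOpen_range⟩
    have hrN : Set.range r.left ⊆ Set.range N.ι := by
      rw [Scheme.Opens.range_ι]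
      exact subset_rfl
    let r' : U''.left ⟶ (N : Scheme.{u}) := IsOpenImmersion.lift N.ι r.left hrN
    have hr' : r' ≫ N.ι = r.left := IsOpenImmersion.lift_fac _ _ _
    have hr'e : Etale r' := by
      refine locPData_etale.cancel r' N.ι inferInstance ?_
      rw [hr']
      exact hr
    have hr's : Surjective r' := by
      constructor
      intro y
      obtain ⟨w, hw⟩ : (N.ι y) ∈ Set.range r.left := by
        have := y.2
        exact this
      refine ⟨w, ?_⟩
      apply N.ι.isOpenEmbedding.injective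
      rw [← Scheme.Hom.comp_apply, hr', hw]
    refine ⟨N, ⟨z, hz⟩, ?_⟩
    refine hP.descend r' (N.ι ≫ h'.left) hr'e hr's ?_
    rw [← Category.assoc, hr']
    exact h3
  choose N hN1 hN2 using key
  refine IsZariskiLocalAtSource.of_iSup_eq_top (P := P) N ?_ hN2
  rw [eq_top_iff]
  intro x _
  exact TopologicalSpace.Opens.mem_iSup.2 ⟨x, hN1 x⟩

end Groth.Agent.Lib.helper5.LocPFam
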