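import Mathlib
import Groth.Prelude.Def_AlgSpDec
import Groth.Agent.Lib.Helper17.LocPAtChart
import Groth.Agent.Lib.Helper11.AlgSpBasic
import Groth.Agent.Lib.Helper5.AlgSpLocPFam

/-!
# The locus where a morphism of algebraic spaces has a property étale local on source and target (helper5)

For a property `P` of morphisms of schemes, `NearAt P U V h u` says that `h` has `P` on an open neighbourhood of `u`.
For `P` étale local on the source and the target (`EtLocal P`), the locus in `|X|` where a morphism `f` of sheaves has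
`P` (in some chart) is open, independent of the chart, and `f` has `P` in all charts iff it has `P` at all points.
-/

set_option autoImplicit false
universe u
open CategoryTheory CategoryTheory.Limits AlgebraicGeometry
open AlgSp

namespace Groth.Agent.Lib.helper5.NearLocus

/-- `h` has `P` on an open neighbourhood of `u`. -/
abbrev NearAt (P : MorphismProperty Scheme.{u}) : ∀ (U V : Scheme.{u}), (U ⟶ V) → ↥U → Prop :=
  fun U _ h u => ∃ W : U.Opens, u ∈ W ∧ P (W.ι ≫ h)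

/-- `P` is étale local on the source and on the target. -/
structure EtLocal (P : MorphismProperty Scheme.{u}) : Prop where
  pre : ∀ {W U V : Scheme.{u}} (g : W ⟶ U) [Etale g] (h : U ⟶ V), P h → P (g ≫ h)
  desc : ∀ {W U V : Scheme.{u}} (g : W ⟶ U) [Etale g] [Surjective g] (h : U ⟶ V), P (g ≫ h) → P h
  post : ∀ {W T V : Scheme.{u}} (m : W ⟶ T) (k : T ⟶ V) [Etale k], P (m ≫ k) ↔ P m
  src : IsZariskiLocalAtSource P

variable {P : MorphismProperty Scheme.{u}}

theorem nearAt_comp_etale_left (hP : EtLocal P) {W U V : Scheme.{u}} (g : W ⟶ U) [Etale g] (h : U ⟶ V)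
    (w : W) : NearAt P W V (g ≫ h) w ↔ NearAt P U V h (g w) := by
  constructor
  · rintro ⟨O, hwO, hu⟩
    let O' : U.Opens := ⟨g '' O, g.isOpenMap _ O.2⟩
    have hle : O ≤ g ⁻¹ᵁ O' := fun x hx => ⟨x, hx, rfl⟩
    have hg' : g.resLE O' O hle ≫ O'.ι = O.ι ≫ g := Scheme.Hom.resLE_comp_ι _ _
    haveI : Etale (g.resLE O' O hle ≫ O'.ι) := by rw [hg']; infer_instance
    haveI : Etale (g.resLE O' O hle) :=
      MorphismProperty.of_postcomp (W := @Etale) (W' := @LocallyOfFiniteType ⊓ @FormallyUnramified)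
        (g.resLE O' O hle) O'.ι ⟨inferInstance, inferInstance⟩ inferInstance
    haveI : Surjective (g.resLE O' O hle) := by
      refine ⟨fun y => ?_⟩
      obtain ⟨x, hx, hxy⟩ := y.2
      refine ⟨⟨x, hx⟩, ?_⟩
      apply O'.ι.injective
      rw [← Scheme.Hom.comp_apply, hg', Scheme.Hom.comp_apply]
      exact hxy
    have e : g.resLE O' O hle ≫ (O'.ι ≫ h) = O.ι ≫ g ≫ h := by
      rw [← Category.assoc, hg', Category.assoc]
    exact ⟨O', ⟨w, hwO, rfl⟩, hP.desc (g.resLE O' O hle) (O'.ι ≫ h) (e ▸ hu)⟩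
  · rintro ⟨O', hwO', hu⟩
    refine ⟨g ⁻¹ᵁ O', hwO', ?_⟩
    have e : (g ⁻¹ᵁ O').ι ≫ g ≫ h = (g ∣_ O') ≫ O'.ι ≫ h := by
      rw [← Category.assoc, ← morphismRestrict_ι, Category.assoc]
    rw [e]
    exact hP.pre (g ∣_ O') (O'.ι ≫ h) hu

theorem nearAt_comp_etale_right (hP : EtLocal P) {W T V : Scheme.{u}} (m : W ⟶ T) (k : T ⟶ V) [Etale k]
    (w : W) : NearAt P W V (m ≫ k) w ↔ NearAt P W T m w := by
  constructor
  · rintro ⟨O, hwO, hu⟩
    refine ⟨O, hwO, (hP.post (O.ι ≫ m) k).1 ?_⟩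
    rwa [Category.assoc]
  · rintro ⟨O, hwO, hu⟩
    refine ⟨O, hwO, ?_⟩
    rw [← Category.assoc]
    exact (hP.post (O.ι ≫ m) k).2 hu

variable {S : Scheme.{u}}

/-- Chart independence. -/
theorem locPAt_nearAt_of_hasAtMor (hP : EtLocal P) {X Y : Sp S} (f : X ⟶ Y) (x : Points X)
    (hd : HasAtMor (NearAt P) f x) : LocPAt (fun {U V} h u => NearAt P U V h u) f x := by
  obtain ⟨U, V, a, b, h, u, hae, hbe, hc, hu, hQ⟩ := hd
  refine Groth.Agent.Lib.helper17.LocPAtChart.locPAt_of_chart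
    (Q := fun {U V} h u => NearAt P U V h u) ?_ ?_ f x a b h u hae hbe hc hu hQ
  · intro W U V g _ h w
    exact nearAt_comp_etale_left hP g h w
  · intro W T V m k _ w
    exact nearAt_comp_etale_right hP m k w

theorem isOpen_nearLocus (P : MorphismProperty Scheme.{u}) {X Y : Sp S} (f : X ⟶ Y) :
    IsOpen {x : Points X | HasAtMor (NearAt P) f x} := by
  rw [isOpen_iff_forall_mem_open]
  rintro x ⟨U, V, a, b, h, u, hae, hbe, hc, hu, W, huW, hu'⟩
  refine ⟨Points.ofPt a '' (W : Set U.left), ?_,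
    Groth.Agent.Lib.helper11.isOpenMap_ofPt a hae _ W.2, ⟨u, huW, hu⟩⟩
  rintro _ ⟨u1, hu1, rfl⟩
  exact ⟨U, V, a, b, h, u1, hae, hbe, hc, rfl, W, hu1, hu'⟩

theorem hasAtMor_of_locP (hP : EtLocal P) {X Y : Sp S} (hX : IsAlgSpace X) (hY : IsAlgSpace Y) (f : X ⟶ Y)
    (hf : LocP P f) (x : Points X) : HasAtMor (NearAt P) f x := by
  obtain ⟨U, V, a, b, h, u, hae, hbe, hc, hu⟩ := LocPFam.exists_chart_at_point hX hY f x
  have h1 : P h.left := hf a b h hae hbe hc
  exact ⟨U, V, a, b, h, u, hae, hbe, hc, hu, ⊤, trivial, hP.pre _ _ h1⟩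

theorem locP_of_forall_hasAtMor (hP : EtLocal P) {X Y : Sp S} (f : X ⟶ Y)
    (hf : ∀ x : Points X, HasAtMor (NearAt P) f x) : LocP P f := by
  intro U V a b h hae hbe hc
  have hpt : ∀ u : U.left, ∃ W : U.left.Opens, u ∈ W ∧ P (W.ι ≫ h.left) := fun u =>
    locPAt_nearAt_of_hasAtMor hP f _ (hf (Points.ofPt a u)) a b h u hae hbe hc rfl
  choose W hW1 hW2 using hpt
  have hcov : ⨆ u, W u = ⊤ := by
    rw [eq_top_iff]
    intro u _
    exact TopologicalSpace.Opens.mem_iSup.mpr ⟨u, hW1 u⟩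
  haveI := hP.src
  exact (IsZariskiLocalAtSource.iff_of_iSup_eq_top (P := P) W hcov).2 hW2

theorem hasAtMor_comp_openImm (hP : EtLocal P) {X₀ X Y : Sp S} (j : X₀ ⟶ X) (hj : RepWith @IsOpenImmersion j)
    (f : X ⟶ Y) (x₀ : Points X₀) (hx : HasAtMor (NearAt P) f (Points.map j x₀)) :
    HasAtMor (NearAt P) (j ≫ f) x₀ := by
  obtain ⟨U, V, a, b, h, u, hae, hbe, hc, hu, hQ⟩ := hx
  obtain ⟨U₀, ι₀, a₀, sq⟩ := hj.1 a
  haveI hι : IsOpenImmersion ι₀.left := hj.2 a a₀ ι₀ sq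
  have ha₀e : RepWith @Etale a₀ := (RepWith (S := S) @Etale).of_isPullback sq.flip hae
  obtain ⟨u₀, hu₀1, hu₀2⟩ := Groth.Agent.Lib.helper11.exists_of_isPullback_scheme sq x₀ u hu.symm
  refine ⟨U₀, V, a₀, b, ι₀ ≫ h, u₀, ha₀e, hbe, ?_, hu₀1, ?_⟩
  · rw [← Category.assoc, sq.w, Category.assoc, hc, Functor.map_comp, Category.assoc]
  · rw [Over.comp_left, nearAt_comp_etale_left hP ι₀.left h.left u₀, hu₀2]
    exact hQ

theorem locP_comp_openImm (hP : EtLocal P) {X₀ X Y : Sp S} (j : X₀ ⟶ X) (hj : RepWith @IsOpenImmersion j)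
    (f : X ⟶ Y) (hx : ∀ x₀ : Points X₀, HasAtMor (NearAt P) f (Points.map j x₀)) : LocP P (j ≫ f) :=
  locP_of_forall_hasAtMor hP _ (fun x₀ => hasAtMor_comp_openImm hP j hj f x₀ (hx x₀))

end Groth.Agent.Lib.helper5.NearLocus
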