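import Mathlib
import Groth.Agent.Lib.Helper5.AlgSpNearLocus
import Groth.Agent.Lib.Helper5.IsolBaseChange
import Groth.Agent.Lib.Helper5.AlgSpOpenSub
import Groth.Agent.Lib.Helper17.ChartBC
import Groth.Agent.S1179
import Groth.Agent.S10265

/-!
# The locally quasi-finite locus of a morphism of algebraic spaces (helper5)

`Plqf = LocallyQuasiFinite ⊓ LocallyOfFiniteType` is étale local on source and target (`etLocal_lqf`), so the
results of `AlgSpNearLocus` apply: the locus is open, chart independent, commutes with base change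
(`lqfLocus_baseChange`), and outside of it the fibre dimension is `≥ 1` (`one_le_fibreDimAt_of_not_mem`).
-/

set_option autoImplicit false
universe u
open CategoryTheory CategoryTheory.Limits AlgebraicGeometry
open AlgSp

namespace Groth.Agent.Lib.helper5.LqfLocus

open Groth.Agent.Lib.helper5.NearLocus Groth.Agent.Lib.helper5.IsolBC

/-- locally quasi-finite and locally of finite type. -/
abbrev Plqf : MorphismProperty Scheme.{u} := @LocallyQuasiFinite ⊓ @LocallyOfFiniteType

theorem etLocal_lqf : EtLocal (Plqf.{u}) where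
  pre := by
    intro W U V g _ h hh
    haveI : LocallyQuasiFinite h := hh.1
    haveI : LocallyOfFiniteType h := hh.2
    haveI : LocallyQuasiFinite g := Groth.Agent.S10265.lqf_of_etale g
    exact ⟨inferInstance, inferInstance⟩
  desc := by
    intro W U V g _ _ h hh
    haveI : LocallyQuasiFinite (g ≫ h) := hh.1
    haveI : LocallyOfFiniteType (g ≫ h) := hh.2
    exact Groth.Agent.S1179.result g h
  post := by
    intro W T V m k _
    constructor
    · intro hh
      haveI : LocallyQuasiFinite (m ≫ k) := hh.1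
      haveI : LocallyOfFiniteType (m ≫ k) := hh.2
      exact ⟨LocallyQuasiFinite.of_comp m k, locallyOfFiniteType_of_comp m k⟩
    · intro hh
      haveI : LocallyQuasiFinite m := hh.1
      haveI : LocallyOfFiniteType m := hh.2
      haveI : LocallyQuasiFinite k := Groth.Agent.S10265.lqf_of_etale k
      exact ⟨inferInstance, inferInstance⟩
  src := inferInstance

variable {S : Scheme.{u}}

/-- the locally quasi-finite locus commutes with base change. -/
theorem lqfLocus_baseChange {X Y Y' X' : Sp S} (hX : IsAlgSpace X) (hY : IsAlgSpace Y) (hY' : IsAlgSpace Y')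
    {f : X ⟶ Y} {g : Y' ⟶ Y} {g' : X' ⟶ X} {f' : X' ⟶ Y'} (sq : IsPullback g' f' f g)
    (hf : LocP @LocallyOfFiniteType f) (x' : Points X') :
    HasAtMor (NearAt Plqf) f' x' ↔ HasAtMor (NearAt Plqf) f (Points.map g' x') := by
  obtain ⟨U, V, U', V', a, b, a', b', h, h', p, k, u', hae, hbe, hae', hbe', hc, hc', hcg', hcg, sqS, hu', -⟩ :=
    Groth.Agent.Lib.helper17.ChartBC.exists_bc_charts hX hY hY' sq x'
  haveI : LocallyOfFiniteType h.left := hf a b h hae hbe hc
  have sqL : IsPullback p.left h'.left h.left k.left := sqS.map (Over.forget S)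
  have hx : Points.map g' x' = Points.ofPt a (p.left u') := by
    rw [← hu', Points.map_ofPt, hcg', Groth.Agent.Lib.helper11.ofPt_yon_map_comp]
  have key : NearAt Plqf _ _ h'.left u' ↔ NearAt Plqf _ _ h.left (p.left u') :=
    lqfNear_iff_of_isPullback sqL u'
  constructor
  · intro hx'
    have := locPAt_nearAt_of_hasAtMor etLocal_lqf f' x' hx' a' b' h' u' hae' hbe' hc' hu'
    exact ⟨U, V, a, b, h, p.left u', hae, hbe, hc, hx.symm, key.1 this⟩
  · intro hxx
    have := locPAt_nearAt_of_hasAtMor etLocal_lqf f _ hxx a b h (p.left u') hae hbe hc hx.symm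
    exact ⟨U', V', a', b', h', u', hae', hbe', hc', hu', key.2 this⟩

/-- outside of the locally quasi-finite locus the fibre dimension is at least one. -/
theorem one_le_fibreDimAt_of_not_mem {X Y : Sp S} (hX : IsAlgSpace X) (hY : IsAlgSpace Y) (f : X ⟶ Y)
    (hf : LocP @LocallyOfFiniteType f) (x : Points X) (hx : ¬ HasAtMor (NearAt Plqf) f x) :
    HasAtMor (fun _ _ h u => 1 ≤ FlatMor.fibreDimAt h u) f x := by
  obtain ⟨U, V, a, b, h, u, hae, hbe, hc, hu⟩ := LocPFam.exists_chart_at_point hX hY f x
  haveI : LocallyOfFiniteType h.left := hf a b h hae hbe hc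
  refine ⟨U, V, a, b, h, u, hae, hbe, hc, hu, one_le_fibreDimAt_of_not_isol h.left u fun hi => hx ?_⟩
  exact ⟨U, V, a, b, h, u, hae, hbe, hc, hu, lqfNear_of_isol h.left u hi⟩

/-- the open subspace on which `f` is locally quasi-finite. -/
theorem exists_lqf_openSub {X Y : Space S} (f : X ⟶ Y) :
    ∃ (X' : Space S) (j : X' ⟶ X), RepWith @IsOpenImmersion j.hom ∧
      Set.range (Points.map j.hom) = {x | HasAtMor (NearAt Plqf) f.hom x} ∧
      LocP Plqf (j ≫ f).hom := by
  obtain ⟨X', j, hj, hr, -⟩ := OpenSub.exists_openSub X _ (isOpen_nearLocus Plqf f.hom)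
  refine ⟨X', j, hj, hr, ?_⟩
  refine locP_comp_openImm etLocal_lqf j.hom hj f.hom fun x₀ => ?_
  have : Points.map j.hom x₀ ∈ Set.range (Points.map j.hom) := ⟨x₀, rfl⟩
  rw [hr] at this
  exact this

end Groth.Agent.Lib.helper5.LqfLocus
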