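import Groth.Agent.Lib.Helper5.AlgSpFpqcIso

/-!
# fpqc locality on the base of `RepWith P` for representable morphisms (helper5)

* `quasiCompact_descendsAlong`: quasi-compactness descends along fpqc morphisms.
* `FpqcRefinable Bi g`: the refinement half of `AlgSp.IsFpqcCover`.
* `repWith_of_fpqcRefinable`: for a representable `φ : A ⟶ B` and an fpqc-refinable family `B i ⟶ B` such that the base
  changes `φ i` are `RepWith P`, with `P` satisfying fpqc descent and Zariski local at the target, `φ` is `RepWith P`.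
-/

set_option autoImplicit false
universe u

open CategoryTheory CategoryTheory.Limits AlgebraicGeometry Opposite Topology MorphismProperty

namespace Groth.Agent.Lib.helper5.FpqcRep

/-- Quasi-compactness descends along surjective (flat) quasi-compact morphisms. -/
instance quasiCompact_descendsAlong :
    MorphismProperty.DescendsAlong @QuasiCompact (@Surjective ⊓ @Flat ⊓ @QuasiCompact) where
  of_isPullback {A X Y Z fst snd f g} h hf hfst := by
    have hf1 : Surjective f := hf.1.1
    have hf3 : QuasiCompact f := hf.2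
    have hfst' : QuasiCompact fst := hfst
    have hsnd : Surjective snd := MorphismProperty.of_isPullback (P := @Surjective) h hf1
    refine ⟨fun U hU hUc => ?_⟩
    have h1 : IsCompact (f ⁻¹' U) := hf3.isCompact_preimage U hU hUc
    have h2 : IsCompact (fst ⁻¹' (f ⁻¹' U)) :=
      hfst'.isCompact_preimage _ (hU.preimage f.continuous) h1
    have h3 : snd '' (fst ⁻¹' (f ⁻¹' U)) = g ⁻¹' U := by
      ext y
      constructor
      · rintro ⟨a, ha, rfl⟩
        change g (snd a) ∈ U
        rw [← Scheme.Hom.comp_apply, ← h.w, Scheme.Hom.comp_apply]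
        exact ha
      · intro hy
        obtain ⟨a, rfl⟩ := hsnd.surj y
        refine ⟨a, ?_, rfl⟩
        change f (fst a) ∈ U
        rw [← Scheme.Hom.comp_apply, h.w, Scheme.Hom.comp_apply]
        exact hy
    rw [← h3]
    exact h2.image snd.continuous

open AlgSp

variable {S : Scheme.{u}}

/-- The refinement half of `AlgSp.IsFpqcCover`. -/
def FpqcRefinable {ι : Type u} {B : Sp S} (Bi : ι → Sp S) (g : ∀ i, Bi i ⟶ B) : Prop :=
  ∀ (Z : Over S), IsAffine Z.left → ∀ (h : (yon S).obj Z ⟶ B),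
    ∃ (m : ℕ) (W : Fin m → Over S) (c : ∀ j, W j ⟶ Z),
      (∀ j, IsAffine (W j).left) ∧ (∀ j, Flat (c j).left) ∧
      (∀ z : ↥Z.left, ∃ j, z ∈ Set.range (c j).left) ∧
      ∀ j, ∃ (i : ι) (l : (yon S).obj (W j) ⟶ Bi i), l ≫ g i = (yon S).map (c j) ≫ h

theorem IsFpqcCover.refinable {ι : Type u} {B : Sp S} {Bi : ι → Sp S} {g : ∀ i, Bi i ⟶ B}
    (h : IsFpqcCover Bi g) : FpqcRefinable Bi g := h.2

/-- Base change of a refinable family is refinable. -/
theorem FpqcRefinable.of_isPullback {ι : Type u} {B B' : Sp S} {Bi : ι → Sp S} {g : ∀ i, Bi i ⟶ B}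
    (h : FpqcRefinable Bi g) (a : B' ⟶ B) (Bi' : ι → Sp S) (q : ∀ i, Bi' i ⟶ B')
    (p : ∀ i, Bi' i ⟶ Bi i) (sq : ∀ i, IsPullback (q i) (p i) a (g i)) : FpqcRefinable Bi' q := by
  intro Z hZ hh
  obtain ⟨m, W, c, h1, h2, h3, h4⟩ := h Z hZ (hh ≫ a)
  refine ⟨m, W, c, h1, h2, h3, fun j => ?_⟩
  obtain ⟨i, l, hl⟩ := h4 j
  exact ⟨i, (sq i).lift ((yon S).map (c j) ≫ hh) l (by rw [Category.assoc, hl]),
    (sq i).lift_fst _ _ _⟩

open Groth.Agent.Lib.helper5 Groth.Agent.Lib.helper5.FpqcIso in
/-- the affine case of `repWith_of_fpqcRefinable` -/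
theorem prop_of_fpqcRefinable_affine (P : MorphismProperty Scheme.{u}) [P.IsStableUnderBaseChange]
    [P.DescendsAlong (@Surjective ⊓ @Flat ⊓ @QuasiCompact)] [IsZariskiLocalAtTarget P]
    {A B : Sp S} (φ : A ⟶ B) {ι : Type u} (Bi : ι → Sp S) (g : ∀ i, Bi i ⟶ B)
    (hg : FpqcRefinable Bi g) (Ai : ι → Sp S) (φi : ∀ i, Ai i ⟶ Bi i) (qi : ∀ i, Ai i ⟶ A)
    (sq : ∀ i, IsPullback (qi i) (φi i) φ (g i)) (hP : ∀ i, RepWith P (φi i))
    {T E : Over S} (hT : IsAffine T.left) (h : (yon S).obj T ⟶ B) (fst' : (yon S).obj E ⟶ A)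
    (snd' : E ⟶ T) (sqE : IsPullback fst' ((yon S).map snd') φ h) : P snd'.left := by
  obtain ⟨m, W, c, hWa, hcf, hcs, hl⟩ := hg T hT h
  have sqj : ∀ j, IsPullback (pullback.fst snd' (c j)) (pullback.snd snd' (c j)) snd' (c j) :=
    fun j => IsPullback.of_hasPullback _ _
  have hPj : ∀ j, P (pullback.snd snd' (c j)).left := by
    intro j
    obtain ⟨i, l, hli⟩ := hl j
    have s1 := ((sqj j).map (yon S)).paste_horiz sqE
    rw [← hli] at s1
    obtain ⟨r, -, sqr⟩ := isPullback_of_lift (sq i) s1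
    exact (hP i).2 l r _ sqr
  have : ∀ j, IsAffine (W j).left := hWa
  have : ∀ j, Flat (c j).left := hcf
  exact of_finite_flat_family P snd'.left (fun j => (W j).left) (fun j => (c j).left) hcs
    (fun j => (pullback snd' (c j)).left) (fun j => (pullback.fst snd' (c j)).left)
    (fun j => (pullback.snd snd' (c j)).left) (fun j => (sqj j).map (Over.forget S)) hPj

/-- `RepWith P` is fpqc local on the base among representable morphisms. -/
theorem repWith_of_fpqcRefinable (P : MorphismProperty Scheme.{u}) [P.IsStableUnderBaseChange]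
    [P.DescendsAlong (@Surjective ⊓ @Flat ⊓ @QuasiCompact)] [IsZariskiLocalAtTarget P]
    {A B : Sp S} (φ : A ⟶ B) (hφ : Representable φ) {ι : Type u} (Bi : ι → Sp S) (g : ∀ i, Bi i ⟶ B)
    (hg : FpqcRefinable Bi g) (Ai : ι → Sp S) (φi : ∀ i, Ai i ⟶ Bi i) (qi : ∀ i, Ai i ⟶ A)
    (sq : ∀ i, IsPullback (qi i) (φi i) φ (g i)) (hP : ∀ i, RepWith P (φi i)) : RepWith P φ := by
  refine ⟨hφ, ?_⟩
  intro T E h fst' snd' sqE
  change P snd'.left
  apply IsZariskiLocalAtTarget.of_openCover (P := P) T.left.affineCover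
  intro k
  let Tk : Over S := Over.mk (T.left.affineCover.f k ≫ T.hom)
  let jk : Tk ⟶ T := Over.homMk (T.left.affineCover.f k)
  have hTk : IsAffine Tk.left := by
    change IsAffine (T.left.affineCover.X k); infer_instance
  have s0 : IsPullback (pullback.fst snd' jk) (pullback.snd snd' jk) snd' jk :=
    IsPullback.of_hasPullback _ _
  have s1 := (s0.map (yon S)).paste_horiz sqE
  have hk : P (pullback.snd snd' jk).left :=
    prop_of_fpqcRefinable_affine P φ Bi g hg Ai φi qi sq hP hTk _ _ _ s1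
  have s2 : IsPullback (pullback.fst snd' jk).left (pullback.snd snd' jk).left snd'.left
      (T.left.affineCover.f k) := s0.map (Over.forget S)
  have e := s2.isoPullback_hom_snd
  change P (pullback.snd snd'.left (T.left.affineCover.f k))
  rw [← (P.cancel_left_of_respectsIso s2.isoPullback.hom), e]
  exact hk

end Groth.Agent.Lib.helper5.FpqcRep
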