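import Mathlib

/-!
Ring-level input for affine descent of algebraic spaces (helper5): flat base change of equalizers in pushout form.
-/

set_option autoImplicit false
universe u
open TensorProduct CategoryTheory CategoryTheory.Limits

namespace Groth.Agent.Lib.helper5.AffDescRing

section

variable {A AW C D CW DW : Type u} [CommRing A] [CommRing AW] [CommRing C] [CommRing D]
  [CommRing CW] [CommRing DW]
  [Algebra A AW] [Algebra A C] [Algebra A D] [Algebra A CW] [Algebra A DW] [Algebra AW CW]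
  [Algebra AW DW] [Algebra C CW] [Algebra D DW]
  [IsScalarTower A AW CW] [IsScalarTower A C CW] [IsScalarTower A AW DW] [IsScalarTower A D DW]

theorem equiv_comm [Algebra.IsPushout A AW C CW] [Algebra.IsPushout A AW D DW]
    (r : C →ₐ[A] D) (r' : CW →ₐ[AW] DW)
    (h : ∀ c, r' (algebraMap C CW c) = algebraMap D DW (r c)) (y : AW ⊗[A] C) :
    r' (Algebra.IsPushout.equiv A AW C CW y) =
      Algebra.IsPushout.equiv A AW D DW (LinearMap.lTensor AW r.toLinearMap y) := by
  induction y with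
  | zero => simp
  | add x y hx hy => simp only [map_add, hx, hy]
  | tmul a c =>
    rw [LinearMap.lTensor_tmul, Algebra.IsPushout.equiv_tmul, Algebra.IsPushout.equiv_tmul,
      map_mul, h, AlgHom.commutes]
    rfl

/-- Flat base change of an equalizer, pushout form. -/
theorem mem_span_of_eq [Algebra.IsPushout A AW C CW] [Algebra.IsPushout A AW D DW]
    [Module.Flat A AW] (r₁ r₂ : C →ₐ[A] D) (r₁' r₂' : CW →ₐ[AW] DW)
    (h₁ : ∀ c, r₁' (algebraMap C CW c) = algebraMap D DW (r₁ c))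
    (h₂ : ∀ c, r₂' (algebraMap C CW c) = algebraMap D DW (r₂ c))
    (x : CW) (hx : r₁' x = r₂' x) :
    x ∈ Submodule.span AW (algebraMap C CW '' {c | r₁ c = r₂ c}) := by
  obtain ⟨y, rfl⟩ := (Algebra.IsPushout.equiv A AW C CW).surjective x
  have hy : LinearMap.lTensor AW r₁.toLinearMap y = LinearMap.lTensor AW r₂.toLinearMap y := by
    apply (Algebra.IsPushout.equiv A AW D DW).injective
    rw [← equiv_comm r₁ r₁' h₁, ← equiv_comm r₂ r₂' h₂, hx]
  have hy' : y ∈ LinearMap.eqLocus (AlgebraTensorModule.lTensor AW AW r₁.toLinearMap)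
      (AlgebraTensorModule.lTensor AW AW r₂.toLinearMap) := hy
  rw [Module.Flat.eqLocus_lTensor_eq] at hy'
  obtain ⟨z, rfl⟩ := hy'
  clear hx hy
  induction z with
  | zero => simp
  | add x y hx hy =>
    simp only [map_add]
    exact add_mem hx hy
  | tmul a c =>
    have : (AlgebraTensorModule.lTensor AW AW
        (LinearMap.eqLocus r₁.toLinearMap r₂.toLinearMap).subtype) (a ⊗ₜ[A] c) =
        a ⊗ₜ[A] (c : C) := rfl
    rw [this, Algebra.IsPushout.equiv_tmul, ← Algebra.smul_def]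
    exact Submodule.smul_mem _ _ (Submodule.subset_span ⟨c, c.2, rfl⟩)

end

section

variable {A AW B C BW CW : Type u} [CommRing A] [CommRing AW] [CommRing B] [CommRing C]
  [CommRing BW] [CommRing CW]
  [Algebra A AW] [Algebra A B] [Algebra A C] [Algebra A BW] [Algebra A CW] [Algebra AW BW]
  [Algebra AW CW] [Algebra B BW] [Algebra C CW]
  [IsScalarTower A AW BW] [IsScalarTower A B BW] [IsScalarTower A AW CW] [IsScalarTower A C CW]

theorem injective_of_flat [Algebra.IsPushout A AW B BW] [Algebra.IsPushout A AW C CW]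
    [Module.Flat A AW] (β : B →ₐ[A] C) (hβ : Function.Injective β) (ν : BW →ₐ[AW] CW)
    (hν : ∀ b, ν (algebraMap B BW b) = algebraMap C CW (β b)) : Function.Injective ν := by
  intro x x' hxx
  obtain ⟨y, rfl⟩ := (Algebra.IsPushout.equiv A AW B BW).surjective x
  obtain ⟨y', rfl⟩ := (Algebra.IsPushout.equiv A AW B BW).surjective x'
  rw [equiv_comm β ν hν, equiv_comm β ν hν] at hxx
  have := (Algebra.IsPushout.equiv A AW C CW).injective hxx
  have hinj : Function.Injective (LinearMap.lTensor AW β.toLinearMap) :=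
    Module.Flat.lTensor_preserves_injective_linearMap _ hβ
  rw [hinj this]

end

section Amitsur

/-- Faithfully flat descent for functions, pushout form: for a faithfully flat `ι : E ⟶ C` and a pushout `D` of `ι` with
itself, the equalizer of the two coprojections is the image of `ι`. -/
theorem mem_range_of_isPushout {E C D : CommRingCat.{u}} (ι : E ⟶ C) (r₁ r₂ : C ⟶ D)
    (po : IsPushout ι ι r₁ r₂) (hι : ι.hom.FaithfullyFlat) (x : C) (hx : r₁.hom x = r₂.hom x) :
    x ∈ Set.range ι.hom := by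
  algebraize [ι.hom]
  have hE : Algebra.IsEffective E C := Algebra.IsEffective.of_faithfullyFlat E C
  have hpo : IsPushout (CommRingCat.ofHom (algebraMap E C)) (CommRingCat.ofHom (algebraMap E C))
      (CommRingCat.pushoutCocone E C C).inl (CommRingCat.pushoutCocone E C C).inr :=
    ⟨⟨(CommRingCat.pushoutCocone E C C).condition⟩, ⟨CommRingCat.pushoutCoconeIsColimit E C C⟩⟩
  have po' : IsPushout (CommRingCat.ofHom (algebraMap E C)) (CommRingCat.ofHom (algebraMap E C))
      r₁ r₂ := po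
  let ψ := hpo.isoIsPushout _ _ po'
  have h1 : (CommRingCat.pushoutCocone E C C).inl ≫ ψ.hom = r₁ := hpo.inl_isoIsPushout_hom _ _ po'
  have h2 : (CommRingCat.pushoutCocone E C C).inr ≫ ψ.hom = r₂ := hpo.inr_isoIsPushout_hom _ _ po'
  have hinj : Function.Injective ψ.hom.hom := by
    intro a b hab
    have h3 : ∀ t, ψ.inv.hom (ψ.hom.hom t) = t := fun t => by
      have := congrArg (fun k => k.hom t) ψ.hom_inv_id
      exact this
    rw [← h3 a, ← h3 b, hab]
  have hx' : (x ⊗ₜ[E] (1 : C) : C ⊗[E] C) = (1 : C) ⊗ₜ[E] x := by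
    apply hinj
    have e1 : ψ.hom.hom (x ⊗ₜ[E] (1 : C)) = r₁.hom x := by
      rw [← h1]; rfl
    have e2 : ψ.hom.hom ((1 : C) ⊗ₜ[E] x) = r₂.hom x := by
      rw [← h2]; rfl
    rw [e1, e2, hx]
  have := hE.eqLocus_includeLeft_includeRight
  have hmem : x ∈ (Algebra.TensorProduct.includeLeftRingHom.eqLocus
      Algebra.TensorProduct.includeRight.toRingHom (S := C ⊗[E] C) : Set C) := hx'
  rw [this] at hmem
  exact hmem

end Amitsur

section Main

/-- The ring-level core of affine descent, in `CommRingCat` form. -/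
theorem bijective_theta {A AW C D CW DW B BW E : CommRingCat.{u}}
    (α : A ⟶ AW) (γ : A ⟶ C) (r₁ r₂ : C ⟶ D) (jC : C ⟶ CW) (αC : AW ⟶ CW) (jD : D ⟶ DW)
    (αD : AW ⟶ DW) (r₁' r₂' : CW ⟶ DW) (βA : A ⟶ B) (β : B ⟶ C) (jB : B ⟶ BW) (αB : AW ⟶ BW)
    (ν : BW ⟶ CW) (ι : E ⟶ CW) (θ : BW ⟶ E)
    (hγ : γ ≫ r₁ = γ ≫ r₂) (poC : IsPushout γ α jC αC) (poD : IsPushout (γ ≫ r₁) α jD αD)
    (poB : IsPushout βA α jB αB) (hβ : βA ≫ β = γ)
    (c1 : jC ≫ r₁' = r₁ ≫ jD) (c2 : jC ≫ r₂' = r₂ ≫ jD) (a1 : αC ≫ r₁' = αD)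
    (a2 : αC ≫ r₂' = αD) (cν : jB ≫ ν = β ≫ jC) (aν : αB ≫ ν = αC)
    (hflat : α.hom.Flat) (βinj : Function.Injective β.hom)
    (βrange : ∀ x : C, r₁.hom x = r₂.hom x → x ∈ Set.range β.hom)
    (poE : IsPushout ι ι r₁' r₂') (ιff : ι.hom.FaithfullyFlat) (hθ : θ ≫ ι = ν) :
    Function.Bijective θ.hom := by
  algebraize [α.hom, γ.hom, (γ ≫ r₁).hom, βA.hom, jC.hom, αC.hom, jD.hom, αD.hom, jB.hom, αB.hom]
  let _ : Algebra A CW := (γ ≫ jC).hom.toAlgebra
  let _ : Algebra A DW := ((γ ≫ r₁) ≫ jD).hom.toAlgebra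
  let _ : Algebra A BW := (βA ≫ jB).hom.toAlgebra
  have : IsScalarTower A C CW := .of_algebraMap_eq' rfl
  have : IsScalarTower A AW CW := .of_algebraMap_eq' (by
    show (γ ≫ jC).hom = (α ≫ αC).hom
    rw [poC.w])
  have : IsScalarTower A D DW := .of_algebraMap_eq' rfl
  have : IsScalarTower A AW DW := .of_algebraMap_eq' (by
    show ((γ ≫ r₁) ≫ jD).hom = (α ≫ αD).hom
    rw [poD.w])
  have : IsScalarTower A B BW := .of_algebraMap_eq' rfl
  have : IsScalarTower A AW BW := .of_algebraMap_eq' (by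
    show (βA ≫ jB).hom = (α ≫ αB).hom
    rw [poB.w])
  have hC : Algebra.IsPushout A AW C CW :=
    (CommRingCat.isPushout_iff_isPushout.1 poC.flip)
  have hD : Algebra.IsPushout A AW D DW :=
    (CommRingCat.isPushout_iff_isPushout.1 poD.flip)
  have hB : Algebra.IsPushout A AW B BW :=
    (CommRingCat.isPushout_iff_isPushout.1 poB.flip)
  have : Module.Flat A AW := hflat
  -- the algebra maps
  let R₁ : C →ₐ[A] D := ⟨r₁.hom, fun a => rfl⟩
  let R₂ : C →ₐ[A] D := ⟨r₂.hom, fun a => by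
    show r₂.hom (γ.hom a) = r₁.hom (γ.hom a)
    exact (congrArg (fun k => k.hom a) hγ).symm⟩
  let R₁' : CW →ₐ[AW] DW := ⟨r₁'.hom, fun a => congrArg (fun k => k.hom a) a1⟩
  let R₂' : CW →ₐ[AW] DW := ⟨r₂'.hom, fun a => congrArg (fun k => k.hom a) a2⟩
  let Bt : B →ₐ[A] C := ⟨β.hom, fun a => congrArg (fun k => k.hom a) hβ⟩
  let Nu : BW →ₐ[AW] CW := ⟨ν.hom, fun a => congrArg (fun k => k.hom a) aν⟩
  have hR1 : ∀ c, R₁' (algebraMap C CW c) = algebraMap D DW (R₁ c) :=
    fun c => congrArg (fun k => k.hom c) c1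
  have hR2 : ∀ c, R₂' (algebraMap C CW c) = algebraMap D DW (R₂ c) :=
    fun c => congrArg (fun k => k.hom c) c2
  have hNu : ∀ b, Nu (algebraMap B BW b) = algebraMap C CW (Bt b) :=
    fun b => congrArg (fun k => k.hom b) cν
  have hνinj : Function.Injective ν.hom := injective_of_flat Bt βinj Nu hNu
  have hιinj : Function.Injective ι.hom := ιff.injective
  have hθι : ∀ y, ι.hom (θ.hom y) = ν.hom y := fun y => congrArg (fun k => k.hom y) hθ
  refine ⟨fun y y' hyy => hνinj (by rw [← hθι, ← hθι, hyy]), fun e => ?_⟩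
  have hx : R₁' (ι.hom e) = R₂' (ι.hom e) := congrArg (fun k => k.hom e) poE.w
  have hmem := mem_span_of_eq R₁ R₂ R₁' R₂' hR1 hR2 (ι.hom e) hx
  have hle : Submodule.span AW (algebraMap C CW '' {c | R₁ c = R₂ c}) ≤
      LinearMap.range Nu.toLinearMap := by
    rw [Submodule.span_le]
    rintro _ ⟨c, hc, rfl⟩
    obtain ⟨b, rfl⟩ := βrange c hc
    exact ⟨algebraMap B BW b, hNu b⟩
  obtain ⟨y, hy⟩ := hle hmem
  refine ⟨y, hιinj ?_⟩
  rw [hθι]
  exact hy

end Main

end Groth.Agent.Lib.helper5.AffDescRing
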