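import Groth.Prelude.Def_AlgSpInf
import Groth.Agent.Lib.Helper5.AffDescRing
import Groth.Agent.Lib.Helper5.AlgSpEtaleMono
import Groth.Agent.Lib.Helper5.AlgSpUniv

/-!
Affine descent for algebraic spaces (helper5): an algebraic space over an affine scheme `T` which becomes an affine scheme
after base change along a flat covering family of affine schemes is an affine scheme.
-/

set_option autoImplicit false
universe u
open CategoryTheory CategoryTheory.Limits AlgebraicGeometry Opposite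
open AlgSp

namespace Groth.Agent.Lib.helper5.AffDesc

section KernelPair

variable {C : Type*} [Category C]

/-- The base change of a kernel pair is a kernel pair. -/
theorem isPullback_kernelPair_baseChange {G' G K G₁ G'₁ K₁ : C} {f : G' ⟶ G} {k₁ k₂ : K ⟶ G'}
    (hK : IsPullback k₁ k₂ f f) {g : G₁ ⟶ G} {b' : G'₁ ⟶ G'} {f₁ : G'₁ ⟶ G₁}
    (h' : IsPullback b' f₁ f g) {bK : K₁ ⟶ K} {q : K₁ ⟶ G₁} (hK₁ : IsPullback bK q (k₁ ≫ f) g)
    {k₁' k₂' : K₁ ⟶ G'₁} (e₁ : k₁' ≫ b' = bK ≫ k₁) (e₁' : k₁' ≫ f₁ = q)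
    (e₂ : k₂' ≫ b' = bK ≫ k₂) (e₂' : k₂' ≫ f₁ = q) : IsPullback k₁' k₂' f₁ f₁ := by
  have hw : k₁' ≫ f₁ = k₂' ≫ f₁ := by rw [e₁', e₂']
  refine IsPullback.of_isLimit (c := PullbackCone.mk k₁' k₂' hw) ?_
  refine PullbackCone.IsLimit.mk hw (fun s => ?_) (fun s => ?_) (fun s => ?_) (fun s m hm1 hm2 => ?_)
  · have hs : (s.fst ≫ b') ≫ f = (s.snd ≫ b') ≫ f := by
      rw [Category.assoc, h'.w, ← Category.assoc, s.condition, Category.assoc, ← h'.w,
        Category.assoc]
    exact hK₁.lift (hK.lift _ _ hs) (s.fst ≫ f₁) (by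
      rw [← Category.assoc, hK.lift_fst, Category.assoc, h'.w, Category.assoc])
  · apply h'.hom_ext
    · rw [Category.assoc, e₁, ← Category.assoc, hK₁.lift_fst, hK.lift_fst]
    · rw [Category.assoc, e₁', hK₁.lift_snd]
  · apply h'.hom_ext
    · rw [Category.assoc, e₂, ← Category.assoc, hK₁.lift_fst, hK.lift_snd]
    · rw [Category.assoc, e₂', hK₁.lift_snd, s.condition]
  · apply hK₁.hom_ext
    · rw [hK₁.lift_fst]
      apply hK.hom_ext
      · rw [hK.lift_fst, Category.assoc, ← e₁, ← Category.assoc, hm1]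
      · rw [hK.lift_snd, Category.assoc, ← e₂, ← Category.assoc, hm2]
    · rw [hK₁.lift_snd, ← e₁', ← Category.assoc, hm1]

end KernelPair

variable {S : Scheme.{u}}

/-- Descent of a morphism along an epimorphism of sheaves with given kernel pair. -/
theorem exists_desc_of_epi {E W Z K : Sp S} (π : E ⟶ W) [Epi π] {k₁ k₂ : K ⟶ E}
    (hK : IsPullback k₁ k₂ π π) (e : E ⟶ Z) (he : k₁ ≫ e = k₂ ≫ e) : ∃ c : W ⟶ Z, π ≫ c = e := by
  have := IsRegularEpiCategory.regularEpiOfEpi π
  have hh : ∀ {Z' : Sp S} (g₁ g₂ : Z' ⟶ E), g₁ ≫ π = g₂ ≫ π → g₁ ≫ e = g₂ ≫ e := by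
    intro Z' g₁ g₂ hg
    have h1 : hK.lift g₁ g₂ hg ≫ k₁ = g₁ := hK.lift_fst _ _ _
    have h2 : hK.lift g₁ g₂ hg ≫ k₂ = g₂ := hK.lift_snd _ _ _
    rw [← h1, Category.assoc, he, ← Category.assoc, h2]
  exact ⟨EffectiveEpi.desc π e hh, EffectiveEpi.fac π e hh⟩

/-- The affine quotient `Y = Spec (equalizer of Γ(U) ⇉ Γ(R))` of an affine scheme `U` over an affine scheme `T` by a pair of
morphisms `R ⇉ U` over `T`. -/
theorem exists_quot {T U R : Over S} [IsAffine T.left] [IsAffine U.left] (t : U ⟶ T)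
    (r₁ r₂ : R ⟶ U) (hr : r₁ ≫ t = r₂ ≫ t) :
    ∃ (Y : Over S) (tY : Y ⟶ T) (u : U ⟶ Y), IsAffine Y.left ∧ u ≫ tY = t ∧ r₁ ≫ u = r₂ ≫ u ∧
      Function.Injective u.left.appTop.hom ∧
      ∀ x : Γ(U.left, ⊤), r₁.left.appTop.hom x = r₂.left.appTop.hom x →
        x ∈ Set.range u.left.appTop.hom := by
  let B₀ : Subring Γ(U.left, ⊤) := RingHom.eqLocus r₁.left.appTop.hom r₂.left.appTop.hom
  let ιB : CommRingCat.of B₀ ⟶ Γ(U.left, ⊤) := CommRingCat.ofHom B₀.subtype
  have hrl : r₁.left ≫ t.left = r₂.left ≫ t.left := by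
    rw [← Over.comp_left, ← Over.comp_left, hr]
  have hmem : ∀ x : Γ(T.left, ⊤), t.left.appTop.hom x ∈ B₀ := by
    intro x
    show r₁.left.appTop.hom (t.left.appTop.hom x) = r₂.left.appTop.hom (t.left.appTop.hom x)
    have h1 := congrArg (fun k => k.appTop.hom x) hrl
    simpa [Scheme.Hom.comp_appTop] using h1
  let φT : Γ(T.left, ⊤) ⟶ CommRingCat.of B₀ :=
    CommRingCat.ofHom (RingHom.codRestrict t.left.appTop.hom B₀ hmem)
  have hφ : φT ≫ ιB = t.left.appTop := by
    ext x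
    rfl
  let tYl : Spec (CommRingCat.of B₀) ⟶ T.left := Spec.map φT ≫ T.left.isoSpec.inv
  let Y : Over S := Over.mk (tYl ≫ T.hom)
  let tY : Y ⟶ T := Over.homMk tYl rfl
  let ul : U.left ⟶ Spec (CommRingCat.of B₀) := U.left.isoSpec.hom ≫ Spec.map ιB
  have hul : ul ≫ tYl = t.left := by
    show (U.left.isoSpec.hom ≫ Spec.map ιB) ≫ Spec.map φT ≫ T.left.isoSpec.inv = t.left
    rw [Category.assoc, ← Spec.map_comp_assoc, hφ, Scheme.isoSpec_hom_naturality_assoc,
      Iso.hom_inv_id, Category.comp_id]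
  let u : U ⟶ Y := Over.homMk ul (by
    show ul ≫ tYl ≫ T.hom = U.hom
    rw [← Category.assoc, hul]
    exact Over.w t)
  have hY : IsAffine Y.left := inferInstanceAs (IsAffine (Spec (CommRingCat.of B₀)))
  have happ : ul.appTop = (Scheme.ΓSpecIso (CommRingCat.of B₀)).hom ≫ ιB := by
    show (U.left.isoSpec.hom ≫ Spec.map ιB).appTop = _
    rw [Scheme.Hom.comp_appTop, Scheme.isoSpec_hom, Scheme.toSpecΓ_appTop,
      Scheme.ΓSpecIso_naturality]
  refine ⟨Y, tY, u, hY, ?_, ?_, ?_, ?_⟩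
  · ext1
    exact hul
  · ext1
    show r₁.left ≫ ul = r₂.left ≫ ul
    have : IsAffine (Spec (CommRingCat.of B₀)) := inferInstance
    apply ext_of_isAffine
    have e1 : (r₁.left ≫ ul).appTop = ul.appTop ≫ r₁.left.appTop := Scheme.Hom.comp_appTop _ _
    have e2 : (r₂.left ≫ ul).appTop = ul.appTop ≫ r₂.left.appTop := Scheme.Hom.comp_appTop _ _
    rw [e1, e2, happ, Category.assoc, Category.assoc]
    congr 1
    ext x
    exact x.2
  · show Function.Injective ul.appTop.hom
    rw [happ]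
    intro a b hab
    have h1 : B₀.subtype ((Scheme.ΓSpecIso (CommRingCat.of B₀)).hom.hom a) =
        B₀.subtype ((Scheme.ΓSpecIso (CommRingCat.of B₀)).hom.hom b) := hab
    have h2 := B₀.subtype_injective h1
    exact (ConcreteCategory.bijective_of_isIso (Scheme.ΓSpecIso (CommRingCat.of B₀)).hom).1 h2
  · intro x hx
    show x ∈ Set.range ul.appTop.hom
    rw [happ]
    obtain ⟨y, hy⟩ := (ConcreteCategory.bijective_of_isIso
      (Scheme.ΓSpecIso (CommRingCat.of B₀)).hom).2 (⟨x, hx⟩ : B₀)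
    exact ⟨y, by
      show B₀.subtype ((Scheme.ΓSpecIso (CommRingCat.of B₀)).hom.hom y) = x
      have : (Scheme.ΓSpecIso (CommRingCat.of B₀)).hom.hom y = (⟨x, hx⟩ : B₀) := hy
      rw [this]; rfl⟩

/-- reflect a pullback square of representable sheaves to schemes over `S` -/
theorem isPullback_of_yon {P X Y Z : Over S} {fst : P ⟶ X} {snd : P ⟶ Y} {f : X ⟶ Z} {g : Y ⟶ Z}
    (h : IsPullback ((yon S).map fst) ((yon S).map snd) ((yon S).map f) ((yon S).map g)) :
    IsPullback fst snd f g := by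
  have hcomm : fst ≫ f = snd ≫ g := (yon S).map_injective (by
    rw [Functor.map_comp, Functor.map_comp]; exact h.w)
  exact IsPullback.of_map (yon S) hcomm h

theorem appTop_comp_left {A B C : Over S} (f : A ⟶ B) (g : B ⟶ C) :
    g.left.appTop ≫ f.left.appTop = (f ≫ g).left.appTop := by
  rw [Over.comp_left, Scheme.Hom.comp_appTop]

/-- reflect a pullback square of representable sheaves to schemes -/
theorem isPullback_left_of_yon {P X Y Z : Over S} {fst : P ⟶ X} {snd : P ⟶ Y} {f : X ⟶ Z} {g : Y ⟶ Z}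
    (h : IsPullback ((yon S).map fst) ((yon S).map snd) ((yon S).map f) ((yon S).map g)) :
    IsPullback fst.left snd.left f.left g.left := by
  have hcomm : fst ≫ f = snd ≫ g := (yon S).map_injective (by
    rw [Functor.map_comp, Functor.map_comp]; exact h.w)
  have sqO : IsPullback fst snd f g := IsPullback.of_map (yon S) hcomm h
  exact sqO.map (Over.forget S)

section BaseChange

variable {T U R Y W XW YW : Over S} {F : Sp S}

/-- The key step: the comparison morphism `ζ : X_W ⟶ Y_W` is an isomorphism. -/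
theorem isIso_zeta [IsAffine T.left] [IsAffine U.left] [IsAffine R.left] [IsAffine Y.left]
    [IsAffine W.left] [IsAffine XW.left]
    (s : F ⟶ (yon S).obj T) (p : (yon S).obj U ⟶ F) (t : U ⟶ T) (ht : (yon S).map t = p ≫ s)
    (r₁ r₂ : R ⟶ U) (hKP : IsPullback ((yon S).map r₁) ((yon S).map r₂) p p)
    (hpe : RepWith @Etale p) (hps : RepWith @Surjective p)
    (tY : Y ⟶ T) (u : U ⟶ Y) (hu : u ≫ tY = t) (hinj : Function.Injective u.left.appTop.hom)
    (hrange : ∀ x : Γ(U.left, ⊤), r₁.left.appTop.hom x = r₂.left.appTop.hom x →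
      x ∈ Set.range u.left.appTop.hom)
    (c : F ⟶ (yon S).obj Y) (hc : p ≫ c = (yon S).map u)
    (w : W ⟶ T) [Flat w.left] (aW : (yon S).obj XW ⟶ F) (πW : XW ⟶ W)
    (sqW : IsPullback aW ((yon S).map πW) s ((yon S).map w))
    (yW : YW ⟶ Y) (qW : YW ⟶ W) (sqY : IsPullback yW qW tY w)
    (ζ : XW ⟶ YW) (hζ1 : (yon S).map ζ ≫ (yon S).map yW = aW ≫ c) (hζ2 : ζ ≫ qW = πW) :
    IsIso ζ := by
  -- step 1: the chart `U_W` of `X_W`
  obtain ⟨UW, pW, bU', sqU⟩ := hpe.1 aW
  obtain ⟨bU, rfl⟩ := (yon S).map_surjective bU'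
  have hpWe : Etale pW.left := hpe.2 _ _ _ sqU
  have hpWs : Surjective pW.left := hps.2 _ _ _ sqU
  -- step 2: `R_W`
  have sqR0 : IsPullback (pullback.fst r₁ bU) (pullback.snd r₁ bU) r₁ bU :=
    IsPullback.of_hasPullback _ _
  have sqR1 : IsPullback ((yon S).map (pullback.fst r₁ bU))
      ((yon S).map (pullback.snd r₁ bU) ≫ (yon S).map pW) ((yon S).map r₁ ≫ p) aW :=
    (sqR0.map (yon S)).paste_vert sqU
  have hk2 : ((yon S).map (pullback.fst r₁ bU) ≫ (yon S).map r₂) ≫ p =
      ((yon S).map (pullback.snd r₁ bU) ≫ (yon S).map pW) ≫ aW := by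
    rw [Category.assoc, ← hKP.w, ← sqR1.w]
  obtain ⟨k₂', hk2a, hk2b⟩ := sqU.exists_lift _ _ hk2
  obtain ⟨k₂, rfl⟩ := (yon S).map_surjective k₂'
  have sqKP : IsPullback ((yon S).map (pullback.snd r₁ bU)) ((yon S).map k₂) ((yon S).map pW)
      ((yon S).map pW) :=
    isPullback_kernelPair_baseChange hKP sqU sqR1 ((sqR0.map (yon S)).w.symm) rfl hk2a hk2b
  have sqKPl := isPullback_left_of_yon sqKP
  -- step 3: pullback squares of schemes over `T`
  have sqUT : IsPullback ((yon S).map bU) ((yon S).map (pW ≫ πW)) ((yon S).map t)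
      ((yon S).map w) := by
    have := sqU.paste_vert sqW
    rw [← ht, ← Functor.map_comp] at this
    exact this
  have sqUTo := isPullback_of_yon sqUT
  have sqUTl : IsPullback bU.left (pW ≫ πW).left t.left w.left := sqUTo.map (Over.forget S)
  have sqRTo : IsPullback (pullback.fst r₁ bU) (pullback.snd r₁ bU ≫ pW ≫ πW) (r₁ ≫ t) w :=
    sqR0.paste_vert sqUTo
  have sqRTl : IsPullback (pullback.fst r₁ bU).left (pullback.snd r₁ bU ≫ pW ≫ πW).left
      (r₁ ≫ t).left w.left := sqRTo.map (Over.forget S)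
  have sqYl : IsPullback yW.left qW.left tY.left w.left := sqY.map (Over.forget S)
  -- affineness
  have hUW : IsAffine UW.left := IsAffine.of_isPullback sqUTl
  have hRW : IsAffine (pullback r₁ bU).left := IsAffine.of_isPullback sqRTl
  have hYW : IsAffine YW.left := IsAffine.of_isPullback sqYl
  -- the morphism `u_W`
  have hr : r₁ ≫ t = r₂ ≫ t := (yon S).map_injective (by
    rw [Functor.map_comp, Functor.map_comp, ht, ← Category.assoc, hKP.w, Category.assoc])
  have huW0 : (bU ≫ u) ≫ tY = (pW ≫ πW) ≫ w := by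
    rw [Category.assoc, hu, sqUTo.w]
  have huW1 : sqY.lift (bU ≫ u) (pW ≫ πW) huW0 ≫ yW = bU ≫ u := sqY.lift_fst _ _ _
  have huW2 : sqY.lift (bU ≫ u) (pW ≫ πW) huW0 ≫ qW = pW ≫ πW := sqY.lift_snd _ _ _
  have hpζ : pW ≫ ζ = sqY.lift (bU ≫ u) (pW ≫ πW) huW0 := by
    apply sqY.hom_ext
    · rw [huW1]
      apply (yon S).map_injective
      rw [Functor.map_comp, Functor.map_comp, Functor.map_comp, Category.assoc, hζ1,
        ← Category.assoc, ← sqU.w, Category.assoc, hc]
    · rw [huW2, Category.assoc, hζ2]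
  have hk2a' : k₂ ≫ bU = pullback.fst r₁ bU ≫ r₂ := (yon S).map_injective (by
    rw [Functor.map_comp, Functor.map_comp]; exact hk2a)
  have hk2b' : k₂ ≫ pW = pullback.snd r₁ bU ≫ pW := (yon S).map_injective (by
    rw [Functor.map_comp, Functor.map_comp]; exact hk2b)
  -- the ring-level statement
  have hbij : Function.Bijective ζ.left.appTop.hom := by
    refine Groth.Agent.Lib.helper5.AffDescRing.bijective_theta w.left.appTop t.left.appTop r₁.left.appTop r₂.left.appTop
      bU.left.appTop (pW ≫ πW).left.appTop (pullback.fst r₁ bU).left.appTop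
      (pullback.snd r₁ bU ≫ pW ≫ πW).left.appTop (pullback.snd r₁ bU).left.appTop k₂.left.appTop
      tY.left.appTop u.left.appTop yW.left.appTop qW.left.appTop
      (sqY.lift (bU ≫ u) (pW ≫ πW) huW0).left.appTop pW.left.appTop ζ.left.appTop
      ?_ ?_ ?_ ?_ ?_ ?_ ?_ ?_ ?_ ?_ ?_ ?_ hinj hrange ?_ ?_ ?_
    · rw [appTop_comp_left, appTop_comp_left, hr]
    · exact isPushout_appTop_of_isPullback sqUTl
    · rw [appTop_comp_left]
      exact isPushout_appTop_of_isPullback sqRTl
    · exact isPushout_appTop_of_isPullback sqYl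
    · rw [appTop_comp_left, hu]
    · rw [appTop_comp_left, appTop_comp_left, sqR0.w]
    · rw [appTop_comp_left, appTop_comp_left, hk2a']
    · rw [appTop_comp_left]
    · rw [appTop_comp_left, ← Category.assoc, hk2b', Category.assoc]
    · rw [appTop_comp_left, appTop_comp_left, huW1]
    · rw [appTop_comp_left, huW2]
    · exact Scheme.Hom.flat_appTop w.left
    · exact isPushout_appTop_of_isPullback sqKPl
    · exact (Flat.flat_and_surjective_iff_faithfullyFlat_of_isAffine pW.left).1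
        ⟨inferInstance, hpWs⟩
    · rw [appTop_comp_left, hpζ]
  have hiso : IsIso ζ.left.appTop := (ConcreteCategory.isIso_iff_bijective _).2 hbij
  have hl : IsIso ζ.left := by
    have h1 : MorphismProperty.isomorphisms Scheme ζ.left := by
      rw [HasAffineProperty.iff_of_isAffine (P := MorphismProperty.isomorphisms Scheme)]
      exact ⟨inferInstance, hiso⟩
    exact h1
  have hl' : IsIso ((Over.forget S).map ζ) := hl
  exact isIso_of_reflects_iso ζ (Over.forget S)

end BaseChange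

end Groth.Agent.Lib.helper5.AffDesc
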