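import Mathlib
import Groth.Agent.Lib.Helper5.FppfBoot4
import Groth.Agent.Lib.Helper5.AlgSpAffDesc

/-!
# The diagonal of a quotient by an étale equivalence relation (helper5)

* `repWith_diag_of_kernelPair`: for an étale surjective chart `a : h_U ⟶ F` of an algebraic space with kernel pair
  `(r₁, r₂) : R ⇉ U`, if `j = (r₁, r₂) : R ⟶ U ×_S U` has a property `P` (stable under base change, descending along
  fppf coverings), then the diagonal of `F` is representable with `P`.
-/

set_option autoImplicit false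
universe u

open AlgebraicGeometry CategoryTheory CategoryTheory.Limits

namespace Groth.Agent.Lib.helper5.QuotDiag

open AlgSp

variable {S : Scheme.{u}}

/-- joint monicity of the two projections of `h_{A ⨯ B}`. -/
theorem yon_prod_hom_ext {A B : Over S} {Z : Sp S} (l l' : Z ⟶ (yon S).obj (A ⨯ B))
    (h1 : l ≫ (yon S).map (prod.fst : A ⨯ B ⟶ A) = l' ≫ (yon S).map (prod.fst : A ⨯ B ⟶ A))
    (h2 : l ≫ (yon S).map (prod.snd : A ⨯ B ⟶ B) = l' ≫ (yon S).map (prod.snd : A ⨯ B ⟶ B)) :
    l = l' := by
  haveI : IsIso (prodComparison (yon S) A B) := inferInstance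
  rw [← cancel_mono (prodComparison (yon S) A B)]
  apply Limits.prod.hom_ext
  · rw [Category.assoc, Category.assoc, prodComparison_fst]
    exact h1
  · rw [Category.assoc, Category.assoc, prodComparison_snd]
    exact h2

theorem repWith_diag_of_kernelPair {P : MorphismProperty Scheme.{u}} [P.IsStableUnderBaseChange]
    [P.DescendsAlong (@Surjective ⊓ @Flat ⊓ @LocallyOfFinitePresentation)]
    {F : Sp S} (hF : IsAlgSpace F) {U R : Over S} (a : (yon S).obj U ⟶ F)
    (hae : RepWith @Etale a) (has : RepWith @Surjective a) (r₁ r₂ : R ⟶ U)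
    (hk : IsPullback ((yon S).map r₁) ((yon S).map r₂) a a)
    (hj : P (prod.lift r₁ r₂ : R ⟶ U ⨯ U).left) : RepWith P (Limits.diag F) := by
  refine ⟨hF.diag, ?_⟩
  intro T V ξ fst snd sq
  -- étale local lifts of the two components of `ξ`
  obtain ⟨T₁, c₁, u₁', sq₁⟩ := hae.1 (ξ ≫ prod.fst)
  obtain ⟨T₂, c₂, u₂', sq₂⟩ := hae.1 ((yon S).map c₁ ≫ ξ ≫ prod.snd)
  have hc₁e : Etale c₁.left := hae.2 _ _ _ sq₁
  have hc₁s : Surjective c₁.left := has.2 _ _ _ sq₁
  have hc₂e : Etale c₂.left := hae.2 _ _ _ sq₂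
  have hc₂s : Surjective c₂.left := has.2 _ _ _ sq₂
  obtain ⟨u₁, hu₁⟩ := (yon S).map_surjective ((yon S).map c₂ ≫ u₁')
  obtain ⟨u₂, hu₂⟩ := (yon S).map_surjective u₂'
  let c : T₂ ⟶ T := c₂ ≫ c₁
  have e₁ : (yon S).map u₁ ≫ a = (yon S).map c ≫ ξ ≫ prod.fst := by
    rw [hu₁, Category.assoc, sq₁.w, Functor.map_comp, Category.assoc]
  have e₂ : (yon S).map u₂ ≫ a = (yon S).map c ≫ ξ ≫ prod.snd := by
    rw [hu₂, sq₂.w, Functor.map_comp, Category.assoc]
  -- the base change of `j`
  let j : R ⟶ U ⨯ U := prod.lift r₁ r₂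
  let w : T₂ ⟶ U ⨯ U := prod.lift u₁ u₂
  have sqV' : IsPullback (pullback.fst j w) (pullback.snd j w) j w := IsPullback.of_hasPullback j w
  have hv₂ : P (pullback.snd j w).left :=
    MorphismProperty.of_isPullback (P := P) (sqV'.map (Over.forget S)) hj
  have hv1 : pullback.fst j w ≫ r₁ = pullback.snd j w ≫ u₁ := by
    have := congrArg (fun k => k ≫ (prod.fst : U ⨯ U ⟶ U)) sqV'.w
    simpa only [Category.assoc, j, w, prod.lift_fst] using this
  have hv2 : pullback.fst j w ≫ r₂ = pullback.snd j w ≫ u₂ := by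
    have := congrArg (fun k => k ≫ (prod.snd : U ⨯ U ⟶ U)) sqV'.w
    simpa only [Category.assoc, j, w, prod.lift_snd] using this
  -- the map `V' ⟶ V`
  have wm : ((yon S).map (pullback.fst j w ≫ r₁) ≫ a) ≫ Limits.diag F =
      (yon S).map (pullback.snd j w ≫ c) ≫ ξ := by
    apply Limits.prod.hom_ext
    · rw [Category.assoc, Category.assoc, Limits.diag, prod.lift_fst, Category.comp_id, hv1,
        Functor.map_comp, Category.assoc, e₁]
      simp only [Functor.map_comp, Category.assoc]
    · rw [Category.assoc, Category.assoc, Limits.diag, prod.lift_snd, Category.comp_id,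
        Functor.map_comp, Category.assoc, hk.w, ← Category.assoc, ← Functor.map_comp, hv2,
        Functor.map_comp, Category.assoc, e₂]
      simp only [Functor.map_comp, Category.assoc]
  let m0 : (yon S).obj (pullback j w) ⟶ (yon S).obj V := sq.lift _ _ wm
  have hm01 : m0 ≫ fst = (yon S).map (pullback.fst j w ≫ r₁) ≫ a := sq.lift_fst _ _ _
  have hm02 : m0 ≫ (yon S).map snd = (yon S).map (pullback.snd j w ≫ c) := sq.lift_snd _ _ _
  obtain ⟨m, hm⟩ := (yon S).map_surjective m0
  have hfst_diag : ∀ {Z : Sp S} (x : Z ⟶ (yon S).obj V), x ≫ fst = x ≫ (yon S).map snd ≫ ξ ≫ prod.fst ∧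
      x ≫ fst = x ≫ (yon S).map snd ≫ ξ ≫ prod.snd := by
    intro Z x
    have h1 := congrArg (fun k => x ≫ k ≫ (prod.fst : F ⨯ F ⟶ F)) sq.w
    have h2 := congrArg (fun k => x ≫ k ≫ (prod.snd : F ⨯ F ⟶ F)) sq.w
    simp only [Category.assoc, Limits.diag, prod.lift_fst, prod.lift_snd, Category.comp_id] at h1 h2
    exact ⟨h1, h2⟩
  have sqY : IsPullback ((yon S).map m) ((yon S).map (pullback.snd j w)) ((yon S).map snd)
      ((yon S).map c) := by
    apply Groth.Agent.Lib.helper5.isPullback_of_exists_lift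
    · rw [hm, hm02, Functor.map_comp]
    · intro Z x y hxy
      obtain ⟨hx1, hx2⟩ := hfst_diag x
      have h1 : (y ≫ (yon S).map u₁) ≫ a = x ≫ fst := by
        rw [Category.assoc, e₁, hx1, ← Category.assoc, ← hxy, Category.assoc]
      have h2 : (y ≫ (yon S).map u₂) ≫ a = x ≫ fst := by
        rw [Category.assoc, e₂, hx2, ← Category.assoc, ← hxy, Category.assoc]
      let ρ : Z ⟶ (yon S).obj R := hk.lift (y ≫ (yon S).map u₁) (y ≫ (yon S).map u₂)
        (h1.trans h2.symm)
      have hρ1 : ρ ≫ (yon S).map r₁ = y ≫ (yon S).map u₁ := hk.lift_fst _ _ _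
      have hρ2 : ρ ≫ (yon S).map r₂ = y ≫ (yon S).map u₂ := hk.lift_snd _ _ _
      have hρj : ρ ≫ (yon S).map j = y ≫ (yon S).map w := by
        apply yon_prod_hom_ext
        · rw [Category.assoc, Category.assoc, ← Functor.map_comp, ← Functor.map_comp]
          simp only [j, w, prod.lift_fst]
          exact hρ1
        · rw [Category.assoc, Category.assoc, ← Functor.map_comp, ← Functor.map_comp]
          simp only [j, w, prod.lift_snd]
          exact hρ2
      let l : Z ⟶ (yon S).obj (pullback j w) := (sqV'.map (yon S)).lift ρ y hρj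
      have hl1 : l ≫ (yon S).map (pullback.fst j w) = ρ := (sqV'.map (yon S)).lift_fst _ _ _
      have hl2 : l ≫ (yon S).map (pullback.snd j w) = y := (sqV'.map (yon S)).lift_snd _ _ _
      refine ⟨l, ?_, hl2⟩
      apply sq.hom_ext
      · rw [Category.assoc, hm, hm01, Functor.map_comp, Category.assoc, ← Category.assoc l, hl1,
          ← Category.assoc, hρ1]
        exact h1
      · rw [Category.assoc, hm, hm02, Functor.map_comp, ← Category.assoc, hl2, hxy]
    · intro Z l l' h1 h2
      apply (sqV'.map (yon S)).hom_ext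
      · apply hk.hom_ext
        · rw [Category.assoc, Category.assoc, ← Functor.map_comp, hv1, Functor.map_comp,
            ← Category.assoc, ← Category.assoc, h2]
        · rw [Category.assoc, Category.assoc, ← Functor.map_comp, hv2, Functor.map_comp,
            ← Category.assoc, ← Category.assoc, h2]
      · exact h2
  have sqL : IsPullback m.left (pullback.snd j w).left snd.left c.left :=
    Groth.Agent.Lib.helper5.AffDesc.isPullback_left_of_yon sqY
  haveI hce : Etale c.left := by
    change Etale (c₂.left ≫ c₁.left)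
    infer_instance
  have hcs : Surjective c.left := by
    change Surjective (c₂.left ≫ c₁.left)
    infer_instance
  refine MorphismProperty.of_isPullback_of_descendsAlong (P := P)
    (Q := @Surjective ⊓ @Flat ⊓ @LocallyOfFinitePresentation) sqL.flip ?_ hv₂
  exact ⟨⟨hcs, (inferInstance : Flat c.left)⟩, (inferInstance : LocallyOfFinitePresentation c.left)⟩

end Groth.Agent.Lib.helper5.QuotDiag
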