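import Mathlib
import Groth.Agent.Lib.Helper5.QuotDiag1
import Groth.Agent.Lib.Helper5.AlgSpFpqcRep
import Groth.Agent.Lib.Helper4.AffineDescent
import Groth.Agent.S9889
import Groth.Agent.S9868

/-!
# Separation of the quotient by a free action of a finite group (helper5)

* `quasiCompact_of_finite_cover`, `isClosedImmersion_of_finite_cover`.
* `quot_free_finite` (S9890).
-/

set_option autoImplicit false
universe u

open AlgebraicGeometry CategoryTheory CategoryTheory.Limits

namespace Groth.Agent.Lib.helper5.QuotDiag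

open AlgSp Groth.Agent.H1.Boot Groth.Agent.Lib.Helper14.AlgSpQuot

theorem quasiCompact_of_finite_cover {X Y : Scheme.{u}} (J : X ⟶ Y) {G : Type u} [Finite G]
    (Xg : G → Scheme.{u}) (ι : ∀ g, Xg g ⟶ X) (hcov : ∀ x : X, ∃ g, x ∈ Set.range (ι g))
    (hJ : ∀ g, QuasiCompact (ι g ≫ J)) : QuasiCompact J := by
  refine ⟨fun V hV hVc => ?_⟩
  have e : J ⁻¹' V = ⋃ g, (ι g) '' ((ι g ≫ J) ⁻¹' V) := by
    ext x
    simp only [Set.mem_preimage, Set.mem_iUnion, Set.mem_image]
    constructor
    · intro hx
      obtain ⟨g, y, rfl⟩ := hcov x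
      exact ⟨g, y, by rw [Scheme.Hom.comp_apply]; exact hx, rfl⟩
    · rintro ⟨g, y, hy, rfl⟩
      rw [Scheme.Hom.comp_apply] at hy
      exact hy
  rw [e]
  exact isCompact_iUnion (fun g => ((hJ g).isCompact_preimage V hV hVc).image (ι g).continuous)

theorem isClosedImmersion_of_finite_cover {X Y : Scheme.{u}} (J : X ⟶ Y) {G : Type u} [Finite G]
    (Xg : G → Scheme.{u}) (ι : ∀ g, Xg g ⟶ X) [∀ g, IsOpenImmersion (ι g)]
    (hcov : ∀ x : X, ∃ g, x ∈ Set.range (ι g))
    (hJ : ∀ g, IsClosedImmersion (ι g ≫ J)) (hinj : Function.Injective J) : IsClosedImmersion J := by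
  let 𝒰 : X.OpenCover :=
    { I₀ := G
      X := Xg
      f := ι
      mem₀ := by
        rw [Scheme.presieve₀_mem_precoverage_iff]
        exact ⟨hcov, inferInstance⟩ }
  haveI : SurjectiveOnStalks J :=
    IsZariskiLocalAtSource.of_openCover (P := @SurjectiveOnStalks) 𝒰
      (fun g => (hJ g).toSurjectiveOnStalks)
  refine ⟨?_⟩
  refine Topology.IsClosedEmbedding.of_continuous_injective_isClosedMap J.continuous hinj ?_
  intro Z hZ
  have e : J '' Z = ⋃ g, (ι g ≫ J) '' ((ι g) ⁻¹' Z) := by
    ext y
    simp only [Set.mem_image, Set.mem_iUnion, Set.mem_preimage]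
    constructor
    · rintro ⟨x, hx, rfl⟩
      obtain ⟨g, x', rfl⟩ := hcov x
      exact ⟨g, x', hx, by rw [Scheme.Hom.comp_apply]⟩
    · rintro ⟨g, x', hx', rfl⟩
      exact ⟨ι g x', hx', by rw [Scheme.Hom.comp_apply]⟩
  rw [e]
  exact isClosed_iUnion_of_finite
    (fun g => (hJ g).isClosedEmbedding.isClosedMap _ (hZ.preimage (ι g).continuous))

variable {S : Scheme.{u}}

/-- the absolute diagonal of `U` in `Over S` is the relative diagonal of `U.hom`. -/
theorem diag_left_comp_prodLeftIsoPullback (U : Over S) :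
    (Limits.diag U).left ≫ (Over.prodLeftIsoPullback U U).hom = pullback.diagonal U.hom := by
  apply pullback.hom_ext
  · rw [Category.assoc, Over.prodLeftIsoPullback_hom_fst, ← Over.comp_left, Limits.diag,
      prod.lift_fst, pullback.diagonal_fst]
    rfl
  · rw [Category.assoc, Over.prodLeftIsoPullback_hom_snd, ← Over.comp_left, Limits.diag,
      prod.lift_snd, pullback.diagonal_snd]
    rfl

theorem prop_graph {P : MorphismProperty Scheme.{u}} [P.RespectsIso] (U : Over S) (σ : U ≅ U)
    (hP : P (pullback.diagonal U.hom)) : P (prod.lift σ.hom (𝟙 U) : U ⟶ U ⨯ U).left := by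
  have h1 : P (Limits.diag U).left := by
    rw [← diag_left_comp_prodLeftIsoPullback] at hP
    exact (P.cancel_right_of_respectsIso _ _).1 hP
  have h2 : (prod.lift σ.hom (𝟙 U) : U ⟶ U ⨯ U) =
      Limits.diag U ≫ (prod.mapIso σ (Iso.refl U)).hom := by
    apply Limits.prod.hom_ext
    · simp [Limits.diag]
    · simp [Limits.diag]
  rw [h2, Over.comp_left]
  have : IsIso ((prod.mapIso σ (Iso.refl U)).hom).left :=
    inferInstanceAs (IsIso ((Over.forget S).map (prod.mapIso σ (Iso.refl U)).hom))
  exact (P.cancel_right_of_respectsIso _ _).2 h1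

/-- **S9890**. -/
theorem quot_free_finite (U : Over S) (G : Type u) [Group G] [Finite G]
    (ρ : G →* Aut U)
    (hfree : ∀ (g : G) (x : U.left), g ≠ 1 →
      U.left.fromSpecResidueField x ≫ (ρ g).hom.left ≠ U.left.fromSpecResidueField x)
    (c : Cofan (fun _ : G => U)) (hc : IsColimit c) (s t : c.pt ⟶ U)
    (hs : ∀ g, c.inj g ≫ s = 𝟙 U) (ht : ∀ g, c.inj g ≫ t = (ρ g).hom) :
    (QuasiSeparated U.hom → IsQuasiSeparatedSp (QuotSh.quot Scheme.fppfPrecoverage s t)) ∧
      (IsSeparated U.hom → IsSeparatedSp (QuotSh.quot Scheme.fppfPrecoverage s t)) := by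
  have h : IsEtaleEqvRel s t := Groth.Agent.S9889.result S U G ρ hfree c hc s t hs ht
  have hQ : IsAlgSpace (QuotSh.quot Scheme.fppfPrecoverage s t) := Groth.Agent.S9868.result S s t h
  have hsurj : Surjective t.left := by
    obtain ⟨r, hr1, hr2⟩ := (h.equivalence U).refl (𝟙 U)
    have e : r.left ≫ t.left = 𝟙 _ := by rw [← Over.comp_left, hr1, Over.id_left]
    refine ⟨fun x => ⟨r.left x, ?_⟩⟩
    rw [← Scheme.Hom.comp_apply, e]
    rfl
  have hk := isPullback_quotMap h.toIsEqvRel
  haveI : Etale t.left := h.etale_right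
  haveI : LocallyOfFiniteType t.left := inferInstance
  have hrep : Representable (quotMap s t) := representable_of_kernelPair (quotMap s t) t s hk _
  have hae := repWith_of_kernelPair @Etale s t _ hrep hk h.etale_right
  have has := repWith_of_kernelPair @Surjective s t _ hrep hk hsurj
  -- the components of `j`
  have hcomp : ∀ g, (c.inj g).left ≫ (prod.lift t s : c.pt ⟶ U ⨯ U).left =
      (prod.lift (ρ g).hom (𝟙 U) : U ⟶ U ⨯ U).left := by
    intro g
    rw [← Over.comp_left]
    congr 1
    apply Limits.prod.hom_ext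
    · rw [Category.assoc, prod.lift_fst, prod.lift_fst, ht]
    · rw [Category.assoc, prod.lift_snd, prod.lift_snd, hs]
  haveI : ∀ g, IsOpenImmersion (c.inj g).left := fun g => Groth.Agent.S9889.isOpenImmersion_inj c hc g
  have hcov : ∀ x : c.pt.left, ∃ g, x ∈ Set.range (c.inj g).left :=
    fun x => Groth.Agent.S9889.exists_mem_range_inj c hc x
  haveI hmono : Mono (prod.lift t s : c.pt ⟶ U ⨯ U) := by
    constructor
    intro T r r' hrr
    apply h.injective T r r'
    · have := congrArg (fun k => k ≫ (prod.fst : U ⨯ U ⟶ U)) hrr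
      simpa only [Category.assoc, prod.lift_fst] using this
    · have := congrArg (fun k => k ≫ (prod.snd : U ⨯ U ⟶ U)) hrr
      simpa only [Category.assoc, prod.lift_snd] using this
  haveI : Mono (prod.lift t s : c.pt ⟶ U ⨯ U).left :=
    inferInstanceAs (Mono ((Over.forget S).map (prod.lift t s : c.pt ⟶ U ⨯ U)))
  constructor
  · intro hqs
    refine repWith_diag_of_kernelPair (P := @QuasiCompact) hQ (quotMap s t) hae has t s hk ?_
    refine quasiCompact_of_finite_cover _ (fun _ : G => U.left) (fun g => (c.inj g).left) hcov ?_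
    intro g
    rw [hcomp g]
    exact prop_graph (P := @QuasiCompact) U (ρ g) (QuasiSeparated.quasiCompact_diagonal)
  · intro hsep
    refine repWith_diag_of_kernelPair (P := @IsClosedImmersion) hQ (quotMap s t) hae has t s hk ?_
    refine isClosedImmersion_of_finite_cover _ (fun _ : G => U.left) (fun g => (c.inj g).left)
      hcov ?_ (Scheme.Hom.injective _)
    intro g
    rw [hcomp g]
    exact prop_graph (P := @IsClosedImmersion) U (ρ g) (IsSeparated.isClosedImmersion_diagonal)

end Groth.Agent.Lib.helper5.QuotDiag
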