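import Groth.Agent.Lib.Helper5.FieldQuot
import Groth.Agent.Lib.Helper5.AlgSpFibreProduct
import Groth.Agent.S10373
import Groth.Agent.Lib.Helper1.EtaleReducedScheme

set_option autoImplicit false
universe u
open CategoryTheory CategoryTheory.Limits AlgebraicGeometry AlgSp Opposite

namespace Groth.Agent.Lib.helper5.FieldQuot

/-- For a discrete reduced scheme `Z` mapping to `U`, the fibre over a point `u` (with its residue field) is an open
subscheme of `Z`. -/
theorem isOpenImmersion_fst_of_discrete {Z U : Scheme.{u}} [DiscreteTopology Z] [IsReduced Z] (g : Z ⟶ U)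
    (u : U) {P : Scheme.{u}} (fst : P ⟶ Z) (snd : P ⟶ Spec (U.residueField u))
    (sq : IsPullback fst snd g (U.fromSpecResidueField u)) : IsOpenImmersion fst := by
  let V : Z.Opens := ⟨g ⁻¹' {u}, isOpen_discrete _⟩
  have hV : ∀ v : V, g (V.ι v) = u := fun v => v.2
  obtain ⟨h, hh⟩ := Groth.Agent.S10373.exists_lift_of_locally_constant (U.fromSpecResidueField u) (V.ι ≫ g)
    (fun v => ⟨⊤, trivial, fun v' _ => by
      rw [Scheme.Hom.comp_apply, Scheme.Hom.comp_apply, hV, hV]⟩)
    (fun v => by
      rw [Scheme.range_fromSpecResidueField, Scheme.Hom.comp_apply, hV]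
      rfl)
  have sq' : IsPullback V.ι h g (U.fromSpecResidueField u) := by
    refine isPullback_of_exists_lift hh.symm ?_ ?_
    · intro T a b hab
      have hr : Set.range a ⊆ Set.range V.ι := by
        rintro _ ⟨x, rfl⟩
        rw [Scheme.Opens.range_ι]
        change g (a x) = u
        rw [← Scheme.Hom.comp_apply, hab, Scheme.Hom.comp_apply, Scheme.fromSpecResidueField_apply]
      refine ⟨IsOpenImmersion.lift V.ι a hr, IsOpenImmersion.lift_fac _ _ _, ?_⟩
      rw [← cancel_mono (U.fromSpecResidueField u), Category.assoc, hh, ← Category.assoc,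
        IsOpenImmersion.lift_fac, hab]
    · intro T l l' h1 _
      exact (cancel_mono V.ι).1 h1
  have e : fst = (sq.isoIsPullback _ _ sq').hom ≫ V.ι := (IsPullback.isoIsPullback_hom_fst _ _ sq sq').symm
  rw [e]
  infer_instance

/-- If `f` is surjective and `f ≫ g` is quasi-compact then `g` is quasi-compact. -/
theorem quasiCompact_of_comp_surjective {A B C : Scheme.{u}} (f : A ⟶ B) (g : B ⟶ C)
    (hf : Function.Surjective f) [QuasiCompact (f ≫ g)] : QuasiCompact g := by
  constructor
  intro W hW hWc
  have h1 : IsCompact ((f ≫ g) ⁻¹' W) := QuasiCompact.isCompact_preimage (f := f ≫ g) W hW hWc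
  have h2 : g ⁻¹' W = f '' ((f ≫ g) ⁻¹' W) := by
    ext b
    constructor
    · intro hb
      obtain ⟨a, rfl⟩ := hf b
      exact ⟨a, by simpa using hb, rfl⟩
    · rintro ⟨a, ha, rfl⟩
      simpa using ha
  rw [h2]
  exact h1.image f.continuous

variable {S : Scheme.{u}} {X : Sp S}

/-- Quasi-compactness of a morphism from a scheme to an algebraic space can be checked after a surjective
base change of the source. -/
theorem repWith_qc_of_comp_surjective (hX : IsAlgSpace X) {A B : Over S} (g : A ⟶ B)
    (hg : Function.Surjective g.left) (h : (yon S).obj B ⟶ X)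
    (hc : RepWith @QuasiCompact ((yon S).map g ≫ h)) : RepWith @QuasiCompact h := by
  refine MorphismProperty.relative.of_exists ?_
  intro T k
  obtain ⟨V, snd, fst, sq⟩ := hX.representable_from_yon h k
  obtain ⟨f, rfl⟩ := (yon S).map_surjective fst
  refine ⟨V, (yon S).map f, snd, sq, ?_⟩
  have sq1 : IsPullback ((yon S).map (pullback.snd g f)) ((yon S).map (pullback.fst g f)) ((yon S).map f)
      ((yon S).map g) := ((IsPullback.of_hasPullback g f).map (yon S)).flip
  have sq2 := (sq1.paste_horiz sq.flip).flip
  have hq : QuasiCompact (pullback.snd g f ≫ snd).left := by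
    refine hc.2 k ((yon S).map (pullback.fst g f)) (pullback.snd g f ≫ snd) ?_
    rw [Functor.map_comp]
    exact sq2
  have hsurj : Function.Surjective (pullback.snd g f).left := by
    have sqL : IsPullback (pullback.fst g f).left (pullback.snd g f).left g.left f.left :=
      (IsPullback.of_hasPullback g f).map (Over.forget S)
    have : Surjective g.left := ⟨hg⟩
    have : Surjective (pullback.snd g f).left := MorphismProperty.of_isPullback sqL this
    exact this.surj
  have hq' : QuasiCompact ((pullback.snd g f).left ≫ snd.left) := hq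
  exact quasiCompact_of_comp_surjective (pullback.snd g f).left snd.left hsurj

/-- The inclusion of the residue field point of a chart. -/
noncomputable abbrev ptι {U : Over S} (φ : (yon S).obj U ⟶ X) (u : ↥U.left) : (FieldPt.ofPt φ u).pt ⟶ U :=
  Over.homMk (U.left.fromSpecResidueField u) rfl

/-- The self fibre product of the residue field point of an etale chart is a scheme etale over the residue field. -/
theorem exists_chart_selfProduct {U : Over S} (φ : (yon S).obj U ⟶ X) (hφ : RepWith @Etale φ) (u : ↥U.left) :
    ∃ (T : Over S) (s t : T ⟶ (FieldPt.ofPt φ u).pt),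
      IsPullback ((yon S).map t) ((yon S).map s) (FieldPt.ofPt φ u).toHom (FieldPt.ofPt φ u).toHom ∧
        Etale s.left := by
  have hq : (FieldPt.ofPt φ u).toHom = (yon S).map (ptι φ u) ≫ φ := FieldPt.toHom_ofPt φ u
  obtain ⟨W', b, a', sqW⟩ := hφ.1 (FieldPt.ofPt φ u).toHom
  obtain ⟨a, rfl⟩ := (yon S).map_surjective a'
  have hb : Etale b.left := hφ.2 _ _ _ sqW
  have sqV : IsPullback ((yon S).map (pullback.fst a (ptι φ u))) ((yon S).map (pullback.snd a (ptι φ u)))
      ((yon S).map a) ((yon S).map (ptι φ u)) := (IsPullback.of_hasPullback a (ptι φ u)).map (yon S)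
  have sqP := sqV.paste_horiz sqW.flip
  rw [← hq, ← Functor.map_comp] at sqP
  refine ⟨_, pullback.fst a (ptι φ u) ≫ b, pullback.snd a (ptι φ u), sqP.flip, ?_⟩
  -- `W'` is discrete and reduced
  have hlqf : LocallyQuasiFinite b.left := lqf_of_etale b.left
  have hart : IsLocallyArtinian (FieldPt.ofPt φ u).pt.left :=
    inferInstanceAs (IsLocallyArtinian (Spec (U.left.residueField u)))
  have hart' : IsLocallyArtinian W'.left := IsLocallyArtinian.of_locallyQuasiFinite b.left
  have hred : IsReduced (FieldPt.ofPt φ u).pt.left :=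
    inferInstanceAs (IsReduced (Spec (U.left.residueField u)))
  have hred' : IsReduced W'.left := Groth.Agent.H1.EtaleReduced.isReduced_of_etale b.left
  have sqL : IsPullback (pullback.fst a (ptι φ u)).left (pullback.snd a (ptι φ u)).left a.left
      (U.left.fromSpecResidueField u) := (IsPullback.of_hasPullback a (ptι φ u)).map (Over.forget S)
  have hoi : IsOpenImmersion (pullback.fst a (ptι φ u)).left :=
    isOpenImmersion_fst_of_discrete a.left u _ _ sqL
  rw [Over.comp_left]
  infer_instance

theorem surjective_of_fields {k' Ω : Type u} [Field k'] [Field Ω]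
    (f : Spec (CommRingCat.of Ω) ⟶ Spec (CommRingCat.of k')) : Function.Surjective f := by
  have : Subsingleton ↥(Spec (CommRingCat.of k')) :=
    inferInstanceAs (Subsingleton (PrimeSpectrum k'))
  exact fun y => ⟨(IsLocalRing.closedPoint Ω : ↥(Spec (CommRingCat.of Ω))),
    @Subsingleton.elim ↥(Spec (CommRingCat.of k')) this _ _⟩

/-- Quasi-compactness of a field point only depends on the point it defines. -/
theorem repWith_qc_of_mk_eq (hX : IsAlgSpace X) (q q' : FieldPt X) (h : Points.mk q' = Points.mk q)
    (hq : RepWith @QuasiCompact q.toHom) : RepWith @QuasiCompact q'.toHom := by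
  obtain ⟨Ω, hΩ, w, a, b, hab⟩ := Points.mk_eq_mk_iff.mp h
  have e : (yon S).map a ≫ q'.toHom = (yon S).map b ≫ q.toHom := by
    apply (AlgSp.J S).uliftYonedaEquiv.injective
    rw [← GrothendieckTopology.uliftYonedaEquiv_naturality,
      ← GrothendieckTopology.uliftYonedaEquiv_naturality, FieldPt.uliftYonedaEquiv_toHom,
      FieldPt.uliftYonedaEquiv_toHom]
    exact hab
  refine repWith_qc_of_comp_surjective hX a (surjective_of_fields (k' := q'.K) (Ω := Ω) a.left) _ ?_
  rw [e]
  have hb : QuasiCompact b.left := by
    have : IsAffine (Over.mk w).left := inferInstanceAs (IsAffine (Spec _))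
    have : IsAffine q.pt.left := inferInstanceAs (IsAffine (Spec _))
    infer_instance
  exact (repWith_isMultiplicative (S := S) @QuasiCompact).comp_mem _ _
    ((repWith_yon_map_iff @QuasiCompact b).2 hb) hq

/-- The residue field point of an etale chart which is quasi-compact factors through a quasi-compact monomorphism from
the spectrum of a field. -/
theorem exists_mono_point_of_chart_qc (hX : IsAlgSpace X) {U : Over S} (φ : (yon S).obj U ⟶ X)
    (hφ : RepWith @Etale φ) (u : ↥U.left) (hqc : RepWith @QuasiCompact (FieldPt.ofPt φ u).toHom) :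
    ∃ (p : FieldPt X) (c : (FieldPt.ofPt φ u).pt ⟶ p.pt),
      (yon S).map c ≫ p.toHom = (FieldPt.ofPt φ u).toHom ∧ Mono p.toHom ∧ IsFinite c.left ∧
        RepWith @QuasiCompact p.toHom := by
  obtain ⟨T, s, t, sq, hs⟩ := exists_chart_selfProduct φ hφ u
  have hsq : QuasiCompact s.left := hqc.2 _ _ _ sq
  have hfin : IsFinite s.left := isFinite_of_etale_qc (K := (FieldPt.ofPt φ u).K) s.left
  obtain ⟨p, c, hfac, hm, hc⟩ := exists_mono_point (FieldPt.ofPt φ u) s t sq hfin
  refine ⟨p, c, hfac, hm, hc, ?_⟩
  refine repWith_qc_of_comp_surjective hX c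
    (surjective_of_fields (k' := p.K) (Ω := (FieldPt.ofPt φ u).K) c.left) _ ?_
  rw [hfac]
  exact hqc

end Groth.Agent.Lib.helper5.FieldQuot
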