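import Mathlib
import Groth.Agent.Lib.Helper5.FppfBoot5
import Groth.Agent.Lib.Helper5.FieldQuotChart
import Groth.Agent.S9868
import Groth.Agent.Lib.Helper10.AlgSpPoints

/-!
# Residual spaces of points of algebraic spaces (helper5)

`exists_mono_desc`: a map `p : h_W ⟶ F` of fppf sheaves whose kernel pair is representable, `h_I = h_W ×_F h_W`, factors as
`h_W ⟶ W/I ⟶ F` with the second map a monomorphism.

`exists_residualSpace`: the residual space of a point of an algebraic space.
-/

set_option autoImplicit false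
universe u

open AlgebraicGeometry CategoryTheory CategoryTheory.Limits

namespace Groth.Agent.Lib.helper5.ResidualSp

open AlgSp Groth.Agent.Lib.Helper14.AlgSpQuot Groth.Agent.Lib.Helper14.RepSh
open Groth.Agent.Lib.helper5.FppfBoot

variable {S : Scheme.{u}}

/-- A map from a representable sheaf with representable kernel pair factors through a monomorphism from the quotient
sheaf. -/
theorem exists_mono_desc {F : Sp S} {I W : Over S} (s t : I ⟶ W)
    (p : (yon S).obj W ⟶ F) (hpb : IsPullback ((yon S).map t) ((yon S).map s) p p) :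
    ∃ i : QuotSh.quot Scheme.fppfPrecoverage s t ⟶ F, quotMap s t ≫ i = p ∧ Mono i := by
  have heqv : AlgSp.IsEqvRel s t := isEqvRel_of_isPullback_yon s t p hpb
  let ρW := QuotSh.repIsoUliftYoneda Scheme.fppfPrecoverage W
  let p' : QuotSh.rep Scheme.fppfPrecoverage W ⟶ F := ρW.hom ≫ p
  have w : QuotSh.repMap Scheme.fppfPrecoverage s ≫ p' =
      QuotSh.repMap Scheme.fppfPrecoverage t ≫ p' := by
    have h1 := yon_map_repIso_inv s
    have h2 := yon_map_repIso_inv t
    have e1 : QuotSh.repMap Scheme.fppfPrecoverage s =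
        (QuotSh.repIsoUliftYoneda Scheme.fppfPrecoverage I).hom ≫ (yon S).map s ≫ ρW.inv := by
      rw [h1]; simp
    have e2 : QuotSh.repMap Scheme.fppfPrecoverage t =
        (QuotSh.repIsoUliftYoneda Scheme.fppfPrecoverage I).hom ≫ (yon S).map t ≫ ρW.inv := by
      rw [h2]; simp
    rw [e1, e2]
    simp only [p', Category.assoc, Iso.inv_hom_id_assoc]
    rw [hpb.w]
  let i : QuotSh.quot Scheme.fppfPrecoverage s t ⟶ F := coequalizer.desc p' w
  have h1 : QuotSh.quotπ Scheme.fppfPrecoverage s t ≫ i = p' := coequalizer.π_desc _ _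
  have hi : quotMap s t ≫ i = p := by
    calc quotMap s t ≫ i
        = ρW.inv ≫ (QuotSh.quotπ Scheme.fppfPrecoverage s t ≫ i) := Category.assoc _ _ _
      _ = ρW.inv ≫ p' := by rw [h1]
      _ = p := by simp [p']
  refine ⟨i, hi, ?_⟩
  constructor
  intro Z a b hab
  apply GrothendieckTopology.hom_ext_uliftYoneda.{u+1, u, u+1} (AlgSp.J S)
  intro T c
  have hab' : (c ≫ a) ≫ i = (c ≫ b) ≫ i := by rw [Category.assoc, Category.assoc, hab]
  generalize c ≫ a = a' at hab'
  generalize c ≫ b = b' at hab'
  haveI : Epi (quotMap s t) := epi_quotMap s t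
  refine Groth.Agent.Lib.helper5.yon_hom_ext_of_cover a' b'
    (liftSieve (quotMap s t) a' ⊓ liftSieve (quotMap s t) b')
    ((AlgSp.J S).intersection_covering (liftSieve_mem_of_epi _ _) (liftSieve_mem_of_epi _ _)) ?_
  rintro T' d ⟨⟨x, hx⟩, ⟨y, hy⟩⟩
  have hxy : x ≫ p = y ≫ p := by
    rw [← hi, ← Category.assoc, hx, ← Category.assoc, hy, Category.assoc, Category.assoc, hab']
  have hq := (isPullback_quotMap heqv).w
  rw [← hx, ← hy]
  rw [← hpb.lift_fst x y hxy]
  conv_rhs => rw [← hpb.lift_snd x y hxy]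
  rw [Category.assoc, Category.assoc, hq]

/-- The residual space of a field point whose self fibre product is a scheme etale over the point. -/
theorem exists_residualSpace_aux {X : Sp S} (q : FieldPt X) {T : Over S} (s t : T ⟶ q.pt)
    (sq : IsPullback ((yon S).map t) ((yon S).map s) q.toHom q.toHom) (hs : Etale s.left) :
    ∃ (Z : Sp S) (_ : IsAlgSpace Z) (i : Z ⟶ X), Mono i ∧ Set.range (AlgSp.Points.map i) = {Points.mk q} ∧
      ∃ (k : Type u) (_ : Field k) (str : Spec (CommRingCat.of k) ⟶ S)
        (p : (AlgSp.yon S).obj (Over.mk str) ⟶ Z),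
        AlgSp.LocP @LocallyOfFinitePresentation p ∧ AlgSp.LocP @Flat p ∧ AlgSp.IsSurjectiveMor p := by
  -- `t` is etale as well
  obtain ⟨σ, hσ1, hσ2⟩ := exists_swap sq
  have hσ' : ((yon S).preimageIso σ).hom ≫ s = t := by
    apply (yon S).map_injective
    rw [Functor.map_comp, Functor.preimageIso_hom, Functor.map_preimage]
    exact hσ2
  have ht : Etale t.left := by
    rw [← hσ', Over.comp_left]
    haveI : IsIso ((yon S).preimageIso σ).hom.left :=
      inferInstanceAs (IsIso ((Over.forget S).map ((yon S).preimageIso σ).hom))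
    infer_instance
  have heqv : AlgSp.IsEqvRel s t := isEqvRel_of_isPullback_yon s t q.toHom sq
  have hE : IsEtaleEqvRel s t := { toIsEqvRel := heqv, etale_left := hs, etale_right := ht }
  have hZ : IsAlgSpace (QuotSh.quot Scheme.fppfPrecoverage s t) := Groth.Agent.S9868.result S s t hE
  obtain ⟨i, hi, hmono⟩ := exists_mono_desc s t q.toHom sq
  -- the chart of the quotient
  have hsurj : Surjective t.left := by
    obtain ⟨r, hr1, hr2⟩ := (heqv.equivalence q.pt).refl (𝟙 q.pt)
    have e : r.left ≫ t.left = 𝟙 _ := by rw [← Over.comp_left, hr1, Over.id_left]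
    refine ⟨fun x => ⟨r.left x, ?_⟩⟩
    rw [← Scheme.Hom.comp_apply, e]
    rfl
  have hk := isPullback_quotMap heqv
  haveI : Etale t.left := ht
  haveI : LocallyOfFiniteType t.left := inferInstance
  have hrep : Representable (quotMap s t) :=
    Groth.Agent.H1.Boot.representable_of_kernelPair (quotMap s t) t s hk _
  have hpe : RepWith @Etale (quotMap s t) := repWith_of_kernelPair @Etale s t _ hrep hk ht
  have hps : RepWith @Surjective (quotMap s t) := repWith_of_kernelPair @Surjective s t _ hrep hk hsurj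
  refine ⟨QuotSh.quot Scheme.fppfPrecoverage s t, hZ, i, hmono, ?_,
    q.K, q.field, q.str, quotMap s t, ?_, ?_, ?_⟩
  · -- the image is the point
    ext z
    simp only [Set.mem_range, Set.mem_singleton_iff]
    constructor
    · rintro ⟨y, rfl⟩
      obtain ⟨v, rfl⟩ := Groth.Agent.Lib.helper11.surjective_ofPt (quotMap s t) hps y
      rw [Points.map_ofPt, hi, Points.ofPt_toHom]
    · rintro rfl
      refine ⟨Points.ofPt (quotMap s t) (IsLocalRing.closedPoint q.K : ↥(Spec (CommRingCat.of q.K))), ?_⟩
      rw [Points.map_ofPt, hi, Points.ofPt_toHom]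
  · exact locP_of_repWith_etale @LocallyOfFinitePresentation
      (fun f hf => by haveI : Etale f := hf; infer_instance) _ hpe
  · exact locP_of_repWith_etale @Flat
      (fun f hf => by haveI : Etale f := hf; infer_instance) _ hpe
  · intro y
    obtain ⟨v, rfl⟩ := Groth.Agent.Lib.helper11.surjective_ofPt (quotMap s t) hps y
    exact ⟨Points.ofScheme _ v, (Points.ofPt_eq_map_ofScheme _ _).symm⟩

/-- **The residual space of a point of an algebraic space.** -/
theorem exists_residualSpace (X : AlgSp.Space S) (x : AlgSp.Points X.obj) :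
    ∃ (Z : AlgSp.Space S) (i : Z ⟶ X), Mono i.hom ∧ Set.range (AlgSp.Points.map i.hom) = {x} ∧
      ∃ (k : Type u) (_ : Field k) (str : Spec (CommRingCat.of k) ⟶ S)
        (p : (AlgSp.yon S).obj (Over.mk str) ⟶ Z.obj),
        AlgSp.LocP @LocallyOfFinitePresentation p ∧ AlgSp.LocP @Flat p ∧ AlgSp.IsSurjectiveMor p := by
  obtain ⟨U, φ, hφe, hφs⟩ := X.property.atlas
  obtain ⟨u, rfl⟩ := Groth.Agent.Lib.helper11.surjective_ofPt φ hφs x
  obtain ⟨T, s, t, sq, hs⟩ := Groth.Agent.Lib.helper5.FieldQuot.exists_chart_selfProduct φ hφe u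
  obtain ⟨Z, hZ, i, hmono, hrange, hk⟩ := exists_residualSpace_aux (FieldPt.ofPt φ u) s t sq hs
  exact ⟨⟨Z, hZ⟩, ObjectProperty.homMk i, hmono, hrange, hk⟩

end Groth.Agent.Lib.helper5.ResidualSp
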