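import Groth.Agent.Lib.Helper5.AlgSpAffine
import Groth.Prelude.Def_AlgSpCov
import Mathlib.AlgebraicGeometry.Morphisms.FlatDescent

/-!
# fpqc locality on the base for universal topological properties of morphisms of algebraic spaces (helper5)

* `ChartFamQ`: chart families whose bottom maps are jointly surjective and jointly submersive (instead of open, as in
  `ChartFam`), with descent of open / closed / injective / surjective / quotient / homeomorphism.
* `isOpen_of_forall_preimage_flat`: a finite jointly surjective family of flat morphisms from affine schemes to an affine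
  scheme is jointly submersive.
* `exists_fpqc_refinement`: the base change of `f` to an affine scheme is covered by base changes of the `p i`.
* `isLocalOnBase_fpqc_univSp`: `UnivSp Q` is fpqc local on the base as soon as `Q` is a property of the map on points
  descending along `ChartFamQ`.
-/

set_option autoImplicit false
universe u

open CategoryTheory CategoryTheory.Limits AlgebraicGeometry Opposite Topology

namespace Groth.Agent.Lib.helper5

/-- A chart family with jointly submersive bottom maps. -/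
structure ChartFamQ {ι : Type*} {A C : ι → Type*} {B D : Type*} [∀ i, TopologicalSpace (A i)]
    [∀ i, TopologicalSpace (C i)] [TopologicalSpace B] [TopologicalSpace D]
    (a : ∀ i, A i → B) (s : ∀ i, A i → C i) (t : B → D) (b : ∀ i, C i → D) : Prop where
  comm : ∀ i x, t (a i x) = b i (s i x)
  fib : ∀ i y c, t y = b i c → ∃ x, a i x = y ∧ s i x = c
  a_cont : ∀ i, Continuous (a i)
  t_cont : Continuous t
  b_cont : ∀ i, Continuous (b i)
  b_quot : ∀ W : Set D, (∀ i, IsOpen (b i ⁻¹' W)) → IsOpen W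
  b_surj : ∀ d, ∃ i c, b i c = d

namespace ChartFamQ

variable {ι : Type*} {A C : ι → Type*} {B D : Type*} [∀ i, TopologicalSpace (A i)]
  [∀ i, TopologicalSpace (C i)] [TopologicalSpace B] [TopologicalSpace D]
  {a : ∀ i, A i → B} {s : ∀ i, A i → C i} {t : B → D} {b : ∀ i, C i → D}

theorem of_chartFam (h : ChartFam a s t b) : ChartFamQ a s t b :=
  ⟨h.comm, h.fib, h.a_cont, h.t_cont, h.b_cont, fun _ hW => h.isOpen_of_preimage hW, h.b_surj⟩

theorem preimage_image (h : ChartFamQ a s t b) (i : ι) (K : Set B) :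
    b i ⁻¹' (t '' K) = s i '' (a i ⁻¹' K) := by
  ext c
  constructor
  · rintro ⟨y, hy, hyc⟩
    obtain ⟨x, hx1, hx2⟩ := h.fib i y c hyc
    exact ⟨x, by simpa [hx1] using hy, hx2⟩
  · rintro ⟨x, hx, rfl⟩
    exact ⟨a i x, hx, h.comm i x⟩

theorem isOpenMap (h : ChartFamQ a s t b) (hs : ∀ i, IsOpenMap (s i)) : IsOpenMap t := by
  intro K hK
  refine h.b_quot _ fun i => ?_
  rw [h.preimage_image]
  exact hs i _ (hK.preimage (h.a_cont i))

theorem isClosedMap (h : ChartFamQ a s t b) (hs : ∀ i, IsClosedMap (s i)) : IsClosedMap t := by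
  intro K hK
  rw [← isOpen_compl_iff]
  refine h.b_quot _ fun i => ?_
  rw [Set.preimage_compl, isOpen_compl_iff, h.preimage_image]
  exact hs i _ (hK.preimage (h.a_cont i))

theorem injective (h : ChartFamQ a s t b) (hs : ∀ i, Function.Injective (s i)) :
    Function.Injective t := by
  intro y1 y2 hy
  obtain ⟨i, c, hc⟩ := h.b_surj (t y1)
  obtain ⟨x1, hx1, hx1'⟩ := h.fib i y1 c hc.symm
  obtain ⟨x2, hx2, hx2'⟩ := h.fib i y2 c (hy ▸ hc.symm)
  have : x1 = x2 := hs i (hx1'.trans hx2'.symm)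
  rw [← hx1, ← hx2, this]

theorem surjective (h : ChartFamQ a s t b) (hs : ∀ i, Function.Surjective (s i)) :
    Function.Surjective t := by
  intro d
  obtain ⟨i, c, rfl⟩ := h.b_surj d
  obtain ⟨x, rfl⟩ := hs i c
  exact ⟨a i x, h.comm i x⟩

theorem isQuotientMap (h : ChartFamQ a s t b) (hs : ∀ i, IsQuotientMap (s i)) :
    IsQuotientMap t := by
  rw [isQuotientMap_iff, isCoinducing_iff]
  refine ⟨fun W => ⟨fun hW => h.b_quot _ fun i => ?_, fun hW => hW.preimage h.t_cont⟩,
    h.surjective fun i => (hs i).surjective⟩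
  rw [← (hs i).isOpen_preimage]
  have : s i ⁻¹' (b i ⁻¹' W) = a i ⁻¹' (t ⁻¹' W) := by
    ext x
    simp only [Set.mem_preimage, h.comm i x]
  rw [this]
  exact hW.preimage (h.a_cont i)

theorem isHomeomorph (h : ChartFamQ a s t b) (hs : ∀ i, IsHomeomorph (s i)) :
    IsHomeomorph t :=
  ⟨h.t_cont, h.isOpenMap fun i => (hs i).isOpenMap,
    ⟨h.injective fun i => (hs i).injective, h.surjective fun i => (hs i).surjective⟩⟩

end ChartFamQ

/-- A finite jointly surjective family of flat morphisms from quasi-compact schemes to a quasi-separated scheme... here: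
affine schemes to an affine scheme, is jointly submersive. -/
theorem isOpen_of_forall_preimage_flat {Z : Scheme.{u}} [IsAffine Z] {m : ℕ}
    (W : Fin m → Scheme.{u}) (c : ∀ j, W j ⟶ Z) [∀ j, IsAffine (W j)] [∀ j, Flat (c j)]
    (hsurj : ∀ z : Z, ∃ j, z ∈ Set.range (c j)) (A : Set Z)
    (hA : ∀ j, IsOpen ((c j) ⁻¹' A)) : IsOpen A := by
  let f : ∐ W ⟶ Z := Sigma.desc c
  have hfs : Surjective f := by
    refine ⟨fun z => ?_⟩
    obtain ⟨j, w, hw⟩ := hsurj z
    refine ⟨Sigma.ι W j w, ?_⟩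
    rw [← Scheme.Hom.comp_apply, Sigma.ι_desc, hw]
  have hq : IsQuotientMap f := Flat.isQuotientMap_of_surjective f
  rw [← hq.isOpen_preimage]
  have hcov : ∀ x : ↥(∐ W), ∃ j w, Sigma.ι W j w = x := by
    intro x
    obtain ⟨j, w, hw⟩ := (sigmaOpenCover W).exists_eq x
    exact ⟨j, w, hw⟩
  have : f ⁻¹' A = ⋃ j, (Sigma.ι W j) '' ((c j) ⁻¹' A) := by
    ext x
    simp only [Set.mem_preimage, Set.mem_iUnion, Set.mem_image]
    constructor
    · intro hx
      obtain ⟨j, w, rfl⟩ := hcov x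
      refine ⟨j, w, ?_, rfl⟩
      rwa [← Scheme.Hom.comp_apply, Sigma.ι_desc] at hx
    · rintro ⟨j, w, hw, rfl⟩
      rwa [← Scheme.Hom.comp_apply, Sigma.ι_desc]
  rw [this]
  exact isOpen_iUnion fun j => (Sigma.ι W j).isOpenEmbedding.isOpenMap _ (hA j)

open AlgSp

variable {S : Scheme.{u}}

/-- Base change of `f` along a lift `l : T ⟶ Y i` of `T ⟶ Y`: the pullback of `f` along `T ⟶ Y` is also the pullback of
`p i` along `l`. -/
theorem isPullback_of_lift {X Y Xi Yi : Sp S} {f : X ⟶ Y} {g : Yi ⟶ Y} {p : Xi ⟶ Yi} {q : Xi ⟶ X}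
    (sq : IsPullback q p f g) {T T' : Sp S} {l : T ⟶ Yi} {a : T' ⟶ X} {s : T' ⟶ T}
    (sqT : IsPullback a s f (l ≫ g)) :
    ∃ r : T' ⟶ Xi, r ≫ q = a ∧ IsPullback r s p l := by
  have hl : a ≫ f = (s ≫ l) ≫ g := by rw [sqT.w, Category.assoc]
  refine ⟨sq.lift a (s ≫ l) hl, sq.lift_fst _ _ _, ?_⟩
  refine IsPullback.of_right ?_ (sq.lift_snd _ _ _) sq
  rw [sq.lift_fst]
  exact sqT

/-- The refinement lemma: for an fpqc covering `g i : Y i ⟶ Y`, base changes `p i` of `f : X ⟶ Y`, an affine scheme `Z`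
and a pullback `P` of `f` along `h : h_Z ⟶ Y`, there is a standard fpqc covering `c j : W j ⟶ Z` such that the base change
of `P ⟶ h_Z` to each `W j` is a base change of some `p i`. -/
theorem exists_fpqc_refinement {ι : Type u} {Y : Sp S} (Yi : ι → Sp S) (g : ∀ i, Yi i ⟶ Y)
    (hg : IsFpqcCover Yi g) {X : Sp S} (f : X ⟶ Y) (Xi : ι → Sp S) (p : ∀ i, Xi i ⟶ Yi i)
    (q : ∀ i, Xi i ⟶ X) (sq : ∀ i, IsPullback (q i) (p i) f (g i))
    (Z : Over S) (hZ : IsAffine Z.left) (h : (yon S).obj Z ⟶ Y) {P : Sp S} (fst : P ⟶ X)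
    (snd : P ⟶ (yon S).obj Z) (sqZ : IsPullback fst snd f h) :
    ∃ (m : ℕ) (W : Fin m → Over S) (c : ∀ j, W j ⟶ Z),
      (∀ j, IsAffine (W j).left) ∧ (∀ j, Flat (c j).left) ∧
      (∀ z : ↥Z.left, ∃ j, z ∈ Set.range (c j).left) ∧
      ∀ j, ∃ (i : ι) (l : (yon S).obj (W j) ⟶ Yi i) (T : Sp S) (a : T ⟶ P)
        (s : T ⟶ (yon S).obj (W j)) (r : T ⟶ Xi i),
        IsPullback a s snd ((yon S).map (c j)) ∧ IsPullback r s (p i) l ∧
          l ≫ g i = (yon S).map (c j) ≫ h ∧ r ≫ q i = a ≫ fst := by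
  obtain ⟨m, W, c, hWa, hcf, hcs, hl⟩ := hg.2 Z hZ h
  refine ⟨m, W, c, hWa, hcf, hcs, fun j => ?_⟩
  obtain ⟨i, l, hli⟩ := hl j
  have sqT : IsPullback (pullback.fst snd ((yon S).map (c j))) (pullback.snd snd ((yon S).map (c j)))
      snd ((yon S).map (c j)) := IsPullback.of_hasPullback _ _
  have sq2 := sqT.paste_horiz sqZ
  rw [← hli] at sq2
  obtain ⟨r, hr, sqr⟩ := isPullback_of_lift (sq i) sq2
  exact ⟨i, l, _, _, _, r, sqT, sqr, hli, hr⟩

/-- `UnivSp Q` is stable under base change. -/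
theorem univSp_of_isPullback {Q : MorphismProperty (Sp S)} {X Y X' Y' : Sp S} {f : X ⟶ Y}
    {g : Y' ⟶ Y} {p : X' ⟶ Y'} {q : X' ⟶ X} (sq : IsPullback q p f g) (hf : UnivSp Q f) :
    UnivSp Q p := by
  intro Z Z' hZ g' fst' snd' sq'
  exact hf hZ (g' ≫ g) (fst' ≫ q) snd' (sq'.paste_horiz sq)

/-- `UnivSp Q` is fpqc local on the base, for `Q` a property of the map on points descending along `ChartFamQ`. -/
theorem isLocalOnBase_fpqc_univSp
    (Q₁ : ∀ {α β : Type (u + 1)} [TopologicalSpace α] [TopologicalSpace β] (_ : α → β), Prop)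
    (hdesc : ∀ {ι : Type u} {A C : ι → Type (u + 1)} {B D : Type (u + 1)}
      [∀ i, TopologicalSpace (A i)] [∀ i, TopologicalSpace (C i)] [TopologicalSpace B]
      [TopologicalSpace D] {a : ∀ i, A i → B} {s : ∀ i, A i → C i} {t : B → D} {b : ∀ i, C i → D},
      ChartFamQ a s t b → (∀ i, Q₁ (s i)) → Q₁ t) :
    IsLocalOnBase (IsFpqcCover (S := S)) (UnivSp (fun _ _ k => Q₁ (Points.map k))) := by
  intro ι Y Yi g hY hYi hg X f hX Xi p q hXi sq
  refine ⟨fun hf i => univSp_of_isPullback (sq i) hf, fun hp => ?_⟩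
  refine univSp_of_affine Q₁ (fun hc hs => hdesc (ChartFamQ.of_chartFam hc) hs) f ?_
  intro Z hZ h P fst snd sqZ
  obtain ⟨m, W, c, hWa, hcf, hcs, hl⟩ :=
    exists_fpqc_refinement Yi g hg f Xi p q sq Z hZ h fst snd sqZ
  choose i l T a s r hsqT hsqr _ _ using hl
  refine hdesc (ι := ULift.{u} (Fin m)) (A := fun j => Points (T j.down))
    (C := fun j => Points ((yon S).obj (W j.down)))
    (a := fun j => Points.map (a j.down)) (s := fun j => Points.map (s j.down))
    (b := fun j => Points.map ((yon S).map (c j.down))) ?_ ?_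
  · refine ⟨fun j x => ?_,
      fun j y c' hyc => Groth.Agent.Lib.helper10.exists_point_of_isPullback (hsqT j.down) y c' hyc,
      fun j => Points.continuous_map _, Points.continuous_map _, fun j => Points.continuous_map _,
      fun A hA => ?_, fun d => ?_⟩
    · rw [← Points.map_comp, ← Points.map_comp, (hsqT j.down).w]
    · have hA' : IsOpen ((Points.schemeHomeo Z) ⁻¹' A) := by
        have : IsAffine Z.left := hZ
        have : ∀ j, IsAffine (W j).left := hWa
        have : ∀ j, Flat (c j).left := hcf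
        refine isOpen_of_forall_preimage_flat (fun j => (W j).left) (fun j => (c j).left) hcs _
          fun j => ?_
        have h1 := (hA ⟨j⟩).preimage (Points.schemeHomeo (W j)).continuous
        convert h1 using 1
        ext w
        simp only [Set.mem_preimage, Points.map_yon_map_apply]
      have := (Points.schemeHomeo Z).symm.isOpen_preimage.2 hA'
      convert this using 1
      ext x
      simp
    · obtain ⟨z, rfl⟩ := (Points.schemeHomeo Z).surjective d
      obtain ⟨j, w, hw⟩ := hcs z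
      exact ⟨⟨j⟩, Points.schemeHomeo (W j) w, by rw [Points.map_yon_map_apply, hw]⟩
  · intro j
    exact hp (i j.down) (IsAlgSpace.yon_obj (W j.down)) (l j.down) (r j.down) (s j.down)
      (hsqr j.down)

end Groth.Agent.Lib.helper5
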