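import Groth.Agent.Lib.Helper5.AlgSpEpi
import Groth.Agent.Lib.Helper5.AlgSpFpqcBase
import Groth.Agent.Lib.Helper5.AlgSpFibreProduct
import Groth.Agent.Lib.Helper5.AlgSpUniv3
import Groth.Agent.Lib.Helper7.AlgSpFibre
import Groth.Agent.S9888
import Groth.Agent.S10194
import Mathlib.AlgebraicGeometry.Morphisms.LocalFlatDescent

/-!
# A monomorphism of algebraic spaces that is fpqc-locally surjective is an isomorphism (helper5)

* `of_finite_flat_family`: fpqc descent of a property of morphisms of schemes along a finite jointly surjective family of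
  flat morphisms from affine schemes to an affine scheme (a standard fpqc covering).
* `FpqcLocallyLifts f`: every morphism from an affine scheme to the target lifts through `f` on a standard fpqc covering.
* `isIso_of_mono_of_fpqcLocallyLifts`: a monomorphism of algebraic spaces with `FpqcLocallyLifts` is an isomorphism.
-/

set_option autoImplicit false
universe u

open CategoryTheory CategoryTheory.Limits AlgebraicGeometry Opposite Topology MorphismProperty

namespace Groth.Agent.Lib.helper5.FpqcIso

/-- fpqc descent along a standard fpqc covering (finite family). -/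
theorem of_finite_flat_family (P : MorphismProperty Scheme.{u})
    [P.DescendsAlong (@Surjective ⊓ @Flat ⊓ @QuasiCompact)] [IsZariskiLocalAtTarget P]
    {A Z : Scheme.{u}} [IsAffine Z] (g : A ⟶ Z) {m : ℕ} (W : Fin m → Scheme.{u})
    (c : ∀ j, W j ⟶ Z) [∀ j, IsAffine (W j)] [∀ j, Flat (c j)]
    (hsurj : ∀ z : Z, ∃ j, z ∈ Set.range (c j))
    (T : Fin m → Scheme.{u}) (fst : ∀ j, T j ⟶ A) (snd : ∀ j, T j ⟶ W j)
    (sq : ∀ j, IsPullback (fst j) (snd j) g (c j)) (h : ∀ j, P (snd j)) : P g := by
  let c' : ∐ W ⟶ Z := Sigma.desc c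
  have hfs : Surjective c' := by
    refine ⟨fun z => ?_⟩
    obtain ⟨j, w, hw⟩ := hsurj z
    refine ⟨Sigma.ι W j w, ?_⟩
    rw [← Scheme.Hom.comp_apply, Sigma.ι_desc, hw]
  have hQ : (@Surjective ⊓ @Flat ⊓ @QuasiCompact : MorphismProperty Scheme.{u}) c' := ⟨⟨hfs, inferInstance⟩, inferInstance⟩
  refine MorphismProperty.of_pullback_snd_of_descendsAlong (P := P)
    (Q := @Surjective ⊓ @Flat ⊓ @QuasiCompact) (f := g) (g := c') hQ ?_
  rw [IsZariskiLocalAtTarget.iff_of_openCover (P := P) (sigmaOpenCover W)]
  intro j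
  have s1 : IsPullback (pullback.snd (pullback.snd g c') (Sigma.ι W j))
      (pullback.fst (pullback.snd g c') (Sigma.ι W j)) (Sigma.ι W j) (pullback.snd g c') :=
    (IsPullback.of_hasPullback _ _).flip
  have s2 : IsPullback (pullback.snd g c') (pullback.fst g c') c' g :=
    (IsPullback.of_hasPullback _ _).flip
  have s3 := (s1.paste_vert s2).flip
  have hc' : Sigma.ι W j ≫ c' = c j := Sigma.ι_desc _ _
  rw [hc'] at s3
  have e := IsPullback.isoIsPullback_hom_snd _ _ s3 (sq j)
  change P (pullback.snd (pullback.snd g c') (Sigma.ι W j))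
  rw [← e]
  exact (P.cancel_left_of_respectsIso _ _).2 (h j)

open AlgSp

variable {S : Scheme.{u}}

/-- A monomorphism of sheaves is injective on points. -/
theorem injective_map_of_mono {F G : Sp S} (j : F ⟶ G) [Mono j] :
    Function.Injective (Points.map j) := by
  intro x y h
  have sq : IsPullback (𝟙 F) (𝟙 F) j j := IsKernelPair.id_of_mono j
  obtain ⟨w, hw1, hw2⟩ := Groth.Agent.Lib.helper10.exists_point_of_isPullback sq x y h
  rw [Points.map_id] at hw1 hw2
  rw [← hw1, ← hw2]

/-- surjectivity of a morphism of schemes from surjectivity on points of the sheaves -/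
theorem surjective_of_points {A B : Over S} (g : A ⟶ B)
    (h : Function.Surjective (Points.map ((yon S).map g))) : Surjective g.left := by
  rw [Points.map_yon_map_eq] at h
  constructor
  intro y
  obtain ⟨x, hx⟩ := h (Points.schemeHomeo B y)
  exact ⟨(Points.schemeHomeo A).symm x, (Points.schemeHomeo B).injective hx⟩

/-- Every morphism from an affine scheme to the target lifts through `f` on a standard fpqc covering. -/
def FpqcLocallyLifts {X Y : Sp S} (f : X ⟶ Y) : Prop :=
  ∀ (Z : Over S), IsAffine Z.left → ∀ (h : (yon S).obj Z ⟶ Y),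
    ∃ (m : ℕ) (W : Fin m → Over S) (c : ∀ j, W j ⟶ Z),
      (∀ j, IsAffine (W j).left) ∧ (∀ j, Flat (c j).left) ∧
      (∀ z : ↥Z.left, ∃ j, z ∈ Set.range (c j).left) ∧
      ∀ j, ∃ x : (yon S).obj (W j) ⟶ X, x ≫ f = (yon S).map (c j) ≫ h

open Groth.Agent.Lib.helper5 Groth.Agent.Lib.helper5.Epi in
/-- The local statement: over an affine scheme `b : h_B ⟶ Y`, there is a scheme `A` étale and surjective over `B`
with a lift to `X`. -/
theorem exists_local_lift {X Y : Sp S} (hX : IsAlgSpace X) (hY : IsAlgSpace Y) (f : X ⟶ Y) [Mono f]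
    (hR : FpqcLocallyLifts f) {B : Over S} (hB : IsAffine B.left) (b : (yon S).obj B ⟶ Y) :
    ∃ (A : Over S) (g : A ⟶ B) (x : (yon S).obj A ⟶ X),
      Sheaf.IsLocallySurjective ((yon S).map g) ∧ x ≫ f = (yon S).map g ≫ b := by
  have sq : IsPullback (pullback.fst f b) (pullback.snd f b) f b := IsPullback.of_hasPullback f b
  have hF : IsAlgSpace (pullback f b) :=
    isAlgSpace_of_isPullback hY.diag hX (IsAlgSpace.yon_obj B) sq
  obtain ⟨m, W, c, hWa, hcf, hcs, hx⟩ := hR B hB b
  choose x hx using hx
  let σ : ∀ j, (yon S).obj (W j) ⟶ pullback f b := fun j => sq.lift (x j) ((yon S).map (c j)) (hx j)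
  have hσ1 : ∀ j, σ j ≫ pullback.fst f b = x j := fun j => sq.lift_fst _ _ _
  have hσ2 : ∀ j, σ j ≫ pullback.snd f b = (yon S).map (c j) := fun j => sq.lift_snd _ _ _
  have hmono : Mono (pullback.snd f b) := inferInstance
  have hinj := injective_map_of_mono (pullback.snd f b)
  -- points of `F` over points of the `W j`
  have hpt : ∀ (j : Fin m) (w : ↥(W j).left),
      Points.map (pullback.snd f b) (Points.map (σ j) (Points.schemeHomeo (W j) w)) =
        Points.schemeHomeo B ((c j).left w) := by
    intro j w
    rw [← Points.map_comp, hσ2, Points.map_yon_map_apply]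
  have hsnd_surj : Function.Surjective (Points.map (pullback.snd f b)) := by
    intro z
    obtain ⟨z', rfl⟩ := (Points.schemeHomeo B).surjective z
    obtain ⟨j, w, hw⟩ := hcs z'
    exact ⟨_, by rw [hpt j w, hw]⟩
  have hcomp : CompactSpace (Points (pullback f b)) := by
    constructor
    have : (Set.univ : Set (Points (pullback f b))) = ⋃ j, Set.range (Points.map (σ j)) := by
      refine (Set.eq_univ_of_forall fun y => ?_).symm
      obtain ⟨z, hz⟩ := (Points.schemeHomeo B).surjective (Points.map (pullback.snd f b) y)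
      obtain ⟨j, w, hw⟩ := hcs z
      refine Set.mem_iUnion.2 ⟨j, Points.schemeHomeo (W j) w, hinj ?_⟩
      rw [hpt j w, hw, hz]
    rw [this]
    refine isCompact_iUnion fun j => ?_
    have : IsAffine (W j).left := hWa j
    have : CompactSpace (Points ((yon S).obj (W j))) := (Points.schemeHomeo (W j)).compactSpace
    exact isCompact_range (Points.continuous_map (σ j))
  obtain ⟨U, a, hae, has⟩ := hF.atlas
  obtain ⟨A, q, hA, hqe, hqs⟩ :=
    Groth.Agent.Lib.helper11.exists_affine_chart_of_compactSpace a hae has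
  obtain ⟨g, hg⟩ := (yon S).map_surjective (q ≫ pullback.snd f b)
  -- `g` is étale by descent along the `c j`
  have sqj : ∀ j, IsPullback (pullback.fst g (c j)) (pullback.snd g (c j)) g (c j) :=
    fun j => IsPullback.of_hasPullback _ _
  have hetj : ∀ j, Etale (pullback.snd g (c j)).left := by
    intro j
    have s1 := (sqj j).map (yon S)
    rw [hg, ← hσ2 j] at s1
    exact hqe.2 _ _ _ ((Groth.Agent.S9888.isPullback_comp_mono_iff (pullback.snd f b)).1 s1)
  have het : Etale g.left := by
    have : ∀ j, IsAffine (W j).left := hWa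
    have : ∀ j, Flat (c j).left := hcf
    exact of_finite_flat_family @Etale g.left (fun j => (W j).left) (fun j => (c j).left) hcs
      (fun j => (pullback g (c j)).left) (fun j => (pullback.fst g (c j)).left)
      (fun j => (pullback.snd g (c j)).left) (fun j => (sqj j).map (Over.forget S)) hetj
  have h2 : Surjective g.left := by
    apply surjective_of_points
    rw [hg]
    have : Points.map (q ≫ pullback.snd f b) = Points.map (pullback.snd f b) ∘ Points.map q := by
      funext x; exact Points.map_comp _ _ x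
    rw [this]
    exact hsnd_surj.comp (surjective_map_of_repWith_surjective q hqs)
  have hls : Sheaf.IsLocallySurjective ((yon S).map g) :=
    Groth.Agent.S9885.result S _ _ _
      ((AlgSp.repWith_yon_map_iff _ g).2 (inferInstance : Flat g.left))
      ((AlgSp.repWith_yon_map_iff _ g).2 (inferInstance : LocallyOfFinitePresentation g.left))
      ((AlgSp.repWith_yon_map_iff _ g).2 h2)
  refine ⟨A, g, q ≫ pullback.fst f b, hls, ?_⟩
  rw [Category.assoc, sq.w, ← Category.assoc, hg]

open Groth.Agent.Lib.helper5 Groth.Agent.Lib.helper5.Epi in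
/-- A monomorphism of algebraic spaces that is fpqc-locally surjective is an isomorphism. -/
theorem isIso_of_mono_of_fpqcLocallyLifts {X Y : Sp S} (hX : IsAlgSpace X) (hY : IsAlgSpace Y)
    (f : X ⟶ Y) [Mono f] (hR : FpqcLocallyLifts f) : IsIso f := by
  refine isIso_of_mono_of_liftSieve f ?_
  obtain ⟨V, e, hee, hes⟩ := hY.atlas
  have hels : Sheaf.IsLocallySurjective e :=
    Groth.Agent.S9885.result S _ _ e
      (Groth.Agent.S10194.repWith_mono (fun _ _ g hg => by
        have : Etale g := hg
        exact (inferInstance : Flat g)) hee)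
      (Groth.Agent.S10194.repWith_mono (fun _ _ g hg => by
        have : Etale g := hg
        exact (inferInstance : LocallyOfFinitePresentation g)) hee) hes
  refine liftSieve_mem_of_charts f e hels ?_
  intro v
  have hex : ∃ W : V.left.Opens, IsAffineOpen W ∧ v ∈ W := by
    obtain ⟨_, ⟨W, hW, rfl⟩, hv, -⟩ :=
      (V.left.isBasis_affineOpens).exists_subset_of_mem_open (Set.mem_univ v) isOpen_univ
    exact ⟨W, hW, hv⟩
  obtain ⟨W, hW, hv⟩ := hex
  let Vk : Over S := Over.mk (W.ι ≫ V.hom)
  let jk : Vk ⟶ V := Over.homMk W.ι rfl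
  have hjk : IsOpenImmersion jk.left := by change IsOpenImmersion W.ι; infer_instance
  refine ⟨Vk, jk, hjk, ⟨⟨v, hv⟩, rfl⟩, ?_⟩
  obtain ⟨A, g, x, hg, hx⟩ := exists_local_lift hX hY f hR (B := Vk) (hW : IsAffine _)
    ((yon S).map jk ≫ e)
  intro T w
  rw [Functor.map_comp, Category.assoc]
  exact liftSieve_mem_of_factor f g hg x _ hx T w

end Groth.Agent.Lib.helper5.FpqcIso
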