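import Groth.Agent.Lib.Helper5.AlgSpSmLocal
import Groth.Agent.Lib.Helper5.AlgSpOpenSub
import Groth.Agent.Lib.Helper5.AlgSpFpqcIso
import Groth.Agent.Lib.Helper7.AlgSpMono

/-!
# The largest open over which a morphism has a property local on the base (helper5)

For a covering notion `IsCover Q` whose members are open on points, contain open immersions and are stable under base
change, and a property `P` of morphisms of algebraic spaces local on the base for it.
-/

set_option autoImplicit false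
universe u
open CategoryTheory CategoryTheory.Limits AlgebraicGeometry
open AlgSp

namespace Groth.Agent.Lib.helper5.LargestOpen

variable {S : Scheme.{u}}

structure QData (Q : MorphismProperty (Sp S)) : Prop where
  oi : ∀ {A B : Sp S} (j : A ⟶ B), IsAlgSpace A → IsAlgSpace B → RepWith @IsOpenImmersion j → Q j
  isOpenMap : ∀ {A B : Sp S} (g : A ⟶ B), IsAlgSpace A → IsAlgSpace B → Q g →
    IsOpenMap (Points.map g)
  baseChange : ∀ {F G G' F' : Sp S}, IsAlgSpace F → IsAlgSpace G → IsAlgSpace G' → IsAlgSpace F' →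
    ∀ {f : F ⟶ G} {g : G' ⟶ G} {fst : F' ⟶ F} {snd : F' ⟶ G'}, IsPullback fst snd f g → Q f → Q snd
  comp_oi : ∀ {A B C : Sp S} (j : A ⟶ B) (g : B ⟶ C), IsAlgSpace A → IsAlgSpace B → IsAlgSpace C →
    RepWith @IsOpenImmersion j → Q g → Q (j ≫ g)

theorem mono_of_oi {A B : Sp S} {j : A ⟶ B} (hj : RepWith @IsOpenImmersion j) : Mono j :=
  Groth.Agent.Lib.helper7.mono_of_repWith (fun _ _ f hf => by
    have : IsOpenImmersion f := hf
    exact MorphismProperty.monomorphisms.infer_property f) hj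

theorem injective_of_oi {A B : Sp S} {j : A ⟶ B} (hj : RepWith @IsOpenImmersion j) :
    Function.Injective (Points.map j) := by
  have := mono_of_oi hj
  exact Groth.Agent.Lib.helper5.FpqcIso.injective_map_of_mono j

theorem isPullback_id_of_mono {A B D : Sp S} (k : A ⟶ B) (j : B ⟶ D) [Mono j] :
    IsPullback (𝟙 A) k (k ≫ j) j :=
  IsPullback.of_horiz_isIso_mono ⟨by rw [Category.id_comp]⟩

/-- `P f ↔ P (base change)` along a single covering morphism. -/
theorem iff_of_single_cover {Q P : MorphismProperty (Sp S)}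
    (hP : IsLocalOnBase (fun _ _ Y g => IsCover Q Y g) P) {X Y X' Y' : Sp S}
    (hX : IsAlgSpace X) (hY : IsAlgSpace Y) (hX' : IsAlgSpace X') (hY' : IsAlgSpace Y')
    {f : X ⟶ Y} {g : Y' ⟶ Y} {p : X' ⟶ Y'} {q : X' ⟶ X} (sq : IsPullback q p f g) (hg : Q g)
    (hs : Function.Surjective (Points.map g)) : P f ↔ P p := by
  have := hP (ι := PUnit.{u + 1}) (fun _ => Y') (fun _ => g) hY (fun _ => hY')
    ⟨fun _ => hg, fun y => ⟨PUnit.unit, hs y⟩⟩ f hX (fun _ => X') (fun _ => p) (fun _ => q)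
    (fun _ => hX') (fun _ => sq)
  exact this.trans ⟨fun h => h PUnit.unit, fun h _ => h⟩

/-- `P` holds for the restriction of `f` over the open `V` of `|Y|` (for every presentation). -/
def HoldsOver (P : MorphismProperty (Sp S)) {X Y : Space S} (f : X ⟶ Y)
    (V : Set (Points Y.obj)) : Prop :=
  ∀ (W₁ X₁ : Space S) (j₁ : W₁ ⟶ Y) (j₁' : X₁ ⟶ X) (f₁ : X₁ ⟶ W₁),
    RepWith @IsOpenImmersion j₁.hom → Set.range (Points.map j₁.hom) = V →
    IsPullback j₁'.hom f₁.hom f.hom j₁.hom → P f₁.hom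

/-- a morphism into `Y` whose points land in an open immersion `j` factors through it; the factorisation is a base
change. -/
theorem exists_factor {A W Y : Sp S} (j : W ⟶ Y) (hj : RepWith @IsOpenImmersion j) (g : A ⟶ Y)
    (hsub : Set.range (Points.map g) ⊆ Set.range (Points.map j)) :
    ∃ g₁ : A ⟶ W, g₁ ≫ j = g ∧ IsPullback (𝟙 A) g₁ g j := by
  obtain ⟨g₁, hg₁⟩ := (Groth.Agent.Lib.helper5.OpenSub.factors_iff j hj g).2 hsub
  have := mono_of_oi hj
  refine ⟨g₁, hg₁, ?_⟩
  rw [← hg₁]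
  exact isPullback_id_of_mono g₁ j

open Groth.Agent.Lib.helper5.SmLocal Groth.Agent.Lib.helper5.OpenSub in
/-- Claim A: `P` holds over a union of opens over which it holds. -/
theorem holdsOver_sSup {Q P : MorphismProperty (Sp S)} (hQ : QData Q)
    (hP : IsLocalOnBase (fun _ _ Y g => IsCover Q Y g) P) {X Y : Space S} (f : X ⟶ Y)
    (𝒱 : Set (TopologicalSpace.Opens (Points Y.obj)))
    (h𝒱 : ∀ V ∈ 𝒱, HoldsOver P f (V : Set (Points Y.obj))) :
    HoldsOver P f ((sSup 𝒱 : TopologicalSpace.Opens (Points Y.obj)) : Set (Points Y.obj)) := by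
  intro W₀ X₀ j₀ j₀' f₀ hj₀ hr sq₀
  obtain ⟨T, p, hpe, hps⟩ := exists_atlas_points W₀.property
  have hV : ∀ w : ↥T.left, ∃ V ∈ 𝒱, Points.map j₀.hom (Points.ofPt p w) ∈ (V : Set (Points Y.obj)) := by
    intro w
    have h1 : Points.map j₀.hom (Points.ofPt p w) ∈
        ((sSup 𝒱 : TopologicalSpace.Opens (Points Y.obj)) : Set (Points Y.obj)) := by
      rw [← hr]; exact ⟨_, rfl⟩
    exact TopologicalSpace.Opens.mem_sSup.1 h1
  choose V hV𝒱 hVmem using hV
  choose Yw jw hjw hjr hjm using fun w => exists_openSub Y (V w : Set (Points Y.obj)) (V w).2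
  have hsub : ∀ w, Set.range (Points.map (jw w).hom) ⊆ Set.range (Points.map j₀.hom) := by
    intro w
    rw [hjr w, hr]
    exact SetLike.coe_subset_coe.2 (le_sSup (hV𝒱 w))
  choose kw hkw hkpb using fun w => exists_factor j₀.hom hj₀ (jw w).hom (hsub w)
  have hkoi : ∀ w, RepWith @IsOpenImmersion (kw w) := fun w =>
    (repWith_isStableUnderBaseChange (S := S) @IsOpenImmersion).of_isPullback (hkpb w) (hjw w)
  have sqw : ∀ w, IsPullback (pullback.fst f₀.hom (kw w)) (pullback.snd f₀.hom (kw w)) f₀.hom (kw w) :=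
    fun w => IsPullback.of_hasPullback _ _
  have hXw : ∀ w, IsAlgSpace (pullback f₀.hom (kw w)) := fun w =>
    Groth.Agent.Lib.helper5.isAlgSpace_of_isPullback W₀.property.diag X₀.property (Yw w).property (sqw w)
  have hPw : ∀ w, P (pullback.snd f₀.hom (kw w)) := by
    intro w
    refine h𝒱 (V w) (hV𝒱 w) (Yw w) ⟨pullback f₀.hom (kw w), hXw w⟩ (jw w)
      (ObjectProperty.homMk (pullback.fst f₀.hom (kw w) ≫ j₀'.hom))
      (ObjectProperty.homMk (pullback.snd f₀.hom (kw w))) (hjw w) (hjr w) ?_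
    have := (sqw w).paste_horiz sq₀
    rw [hkw w] at this
    exact this
  have hinj := injective_of_oi hj₀
  refine (hP (ι := ↥T.left) (fun w => (Yw w).obj) kw W₀.property (fun w => (Yw w).property)
    ⟨fun w => hQ.oi _ (Yw w).property W₀.property (hkoi w), ?_⟩ f₀.hom X₀.property
    (fun w => pullback f₀.hom (kw w)) (fun w => pullback.snd _ _) (fun w => pullback.fst _ _)
    hXw sqw).2 hPw
  intro y
  obtain ⟨w, rfl⟩ := hps y
  refine ⟨w, ?_⟩
  have h1 : Points.map j₀.hom (Points.ofPt p w) ∈ Set.range (Points.map (jw w).hom) := by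
    rw [hjr w]; exact hVmem w
  obtain ⟨z, hz⟩ := h1
  refine ⟨z, hinj ?_⟩
  rw [← Points.map_comp, hkw w]
  exact hz

open Groth.Agent.Lib.helper5.SmLocal in
/-- local on the base ⇒ stable under base change along a covering morphism (only `Q (𝟙 Y)` needed). -/
theorem baseChange_of_isLocalOnBase' {Q P : MorphismProperty (Sp S)}
    (h2 : IsLocalOnBase (fun _ _ Y g => IsCover Q Y g) P)
    {X Y X' Y' : Sp S} (hX : IsAlgSpace X) (hY : IsAlgSpace Y) (hX' : IsAlgSpace X')
    (hY' : IsAlgSpace Y') (hQid : Q (𝟙 Y)) (f : X ⟶ Y) (g : Y' ⟶ Y) (f' : X' ⟶ Y') (g' : X' ⟶ X)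
    (sq : IsPullback g' f' f g) (hg : Q g) (hf : P f) : P f' := by
  have hsq : ∀ i, IsPullback (pairHom g' i) (pairHomTo f' f i) f (pairHom g i) := by
    rintro ⟨_ | _⟩
    · show IsPullback (𝟙 X) f f (𝟙 Y)
      exact IsPullback.of_horiz_isIso ⟨by rw [Category.id_comp, Category.comp_id]⟩
    · exact sq
  have key := h2 (pairObj Y Y') (pairHom g) hY (isAlgSpace_pairObj hY hY')
    (isCover_pair Q g hg hQid) f hX (pairObj X X') (pairHomTo f' f) (pairHom g')
    (isAlgSpace_pairObj hX hX') hsq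
  exact (key.1 hf) ⟨true⟩

/-- Claim C: `P` holds over the (open) image of a covering morphism over which `f` has `P`. -/
theorem holdsOver_range {Q P : MorphismProperty (Sp S)} (hQ : QData Q)
    (hP : IsLocalOnBase (fun _ _ Y g => IsCover Q Y g) P) {X Y Y' X' : Space S} (f : X ⟶ Y)
    (g : Y' ⟶ Y) (g' : X' ⟶ X) (f' : X' ⟶ Y') (hg : Q g.hom)
    (sq : IsPullback g'.hom f'.hom f.hom g.hom) (hf' : P f'.hom) :
    HoldsOver P f (Set.range (Points.map g.hom)) := by
  intro W₁ X₁ j₁ j₁' f₁ hj₁ hr sq₁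
  obtain ⟨g₁, hg₁, hpb⟩ := exists_factor j₁.hom hj₁ g.hom (by rw [hr])
  have hQg₁ : Q g₁ := hQ.baseChange Y'.property Y.property W₁.property Y'.property hpb hg
  have hinj := injective_of_oi hj₁
  have hsurj : Function.Surjective (Points.map g₁) := by
    intro z
    have h1 : Points.map j₁.hom z ∈ Set.range (Points.map g.hom) := by
      rw [← hr]; exact ⟨z, rfl⟩
    obtain ⟨y', hy'⟩ := h1
    refine ⟨y', hinj ?_⟩
    rw [← Points.map_comp, hg₁]
    exact hy'
  obtain ⟨l, hl1, hl2⟩ := sq₁.exists_lift g'.hom (f'.hom ≫ g₁) (by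
    rw [Category.assoc, hg₁]; exact sq.w)
  have big : IsPullback (l ≫ j₁'.hom) f'.hom f.hom (g₁ ≫ j₁.hom) := by
    rw [hl1, hg₁]; exact sq
  have left : IsPullback l f'.hom f₁.hom g₁ := IsPullback.of_right big hl2 sq₁
  exact (iff_of_single_cover hP X₁.property W₁.property X'.property Y'.property left hQg₁
    hsurj).2 hf'

open Groth.Agent.Lib.helper5.OpenSub in
/-- Claim D: the largest open commutes with base change along covering morphisms. -/
theorem eq_preimage {Q P : MorphismProperty (Sp S)} (hQ : QData Q)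
    (hP : IsLocalOnBase (fun _ _ Y g => IsCover Q Y g) P) {X Y Y' X' : Space S} (f : X ⟶ Y)
    (g : Y' ⟶ Y) (g' : X' ⟶ X) (f' : X' ⟶ Y') (hg : Q g.hom)
    (sq : IsPullback g'.hom f'.hom f.hom g.hom)
    (W : TopologicalSpace.Opens (Points Y.obj)) (hWA : HoldsOver P f (W : Set (Points Y.obj)))
    (hWB : ∀ V : TopologicalSpace.Opens (Points Y.obj), HoldsOver P f (V : Set (Points Y.obj)) → V ≤ W)
    (W' : TopologicalSpace.Opens (Points Y'.obj))
    (hW'A : HoldsOver P f' (W' : Set (Points Y'.obj)))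
    (hW'B : ∀ V' : TopologicalSpace.Opens (Points Y'.obj),
      HoldsOver P f' (V' : Set (Points Y'.obj)) → V' ≤ W') :
    (W' : Set (Points Y'.obj)) = Points.map g.hom ⁻¹' (W : Set (Points Y.obj)) := by
  apply Set.Subset.antisymm
  · -- `W' ⊆ g⁻¹ W`
    obtain ⟨Y'', j'', hj'', hr'', -⟩ := exists_openSub Y' (W' : Set (Points Y'.obj)) W'.2
    have sq'' : IsPullback (pullback.fst f'.hom j''.hom) (pullback.snd f'.hom j''.hom) f'.hom j''.hom :=
      IsPullback.of_hasPullback _ _
    have hX'' : IsAlgSpace (pullback f'.hom j''.hom) :=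
      Groth.Agent.Lib.helper5.isAlgSpace_of_isPullback Y'.property.diag X'.property Y''.property sq''
    have hP'' : P (pullback.snd f'.hom j''.hom) :=
      hW'A Y'' ⟨_, hX''⟩ j'' (ObjectProperty.homMk (pullback.fst f'.hom j''.hom))
        (ObjectProperty.homMk (pullback.snd f'.hom j''.hom)) hj'' hr'' sq''
    have hQ'' : Q (j''.hom ≫ g.hom) :=
      hQ.comp_oi _ _ Y''.property Y'.property Y.property hj'' hg
    have hmem := holdsOver_range hQ hP f (j'' ≫ g)
      (ObjectProperty.homMk (pullback.fst f'.hom j''.hom ≫ g'.hom) :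
        (⟨_, hX''⟩ : Space S) ⟶ X)
      (ObjectProperty.homMk (pullback.snd f'.hom j''.hom)) hQ'' (sq''.paste_horiz sq) hP''
    have hopen : IsOpen (Set.range (Points.map (j'' ≫ g).hom)) :=
      (hQ.isOpenMap _ Y''.property Y.property hQ'').isOpen_range
    have hle := hWB ⟨_, hopen⟩ hmem
    intro y' hy'
    rw [← hr''] at hy'
    obtain ⟨z, rfl⟩ := hy'
    show Points.map g.hom (Points.map j''.hom z) ∈ (W : Set (Points Y.obj))
    rw [← Points.map_comp]
    exact hle ⟨z, rfl⟩
  · -- `g⁻¹ W ⊆ W'`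
    have hopen : IsOpen (Points.map g.hom ⁻¹' (W : Set (Points Y.obj))) :=
      W.2.preimage (Points.continuous_map g.hom)
    refine SetLike.coe_subset_coe.2 (hW'B ⟨_, hopen⟩ ?_)
    intro W₂ X₂ j₂ j₂' f₂ hj₂ hr₂ sq₂
    obtain ⟨W₀, j₀, hj₀, hr₀, -⟩ := exists_openSub Y (W : Set (Points Y.obj)) W.2
    have sq₀ : IsPullback (pullback.fst f.hom j₀.hom) (pullback.snd f.hom j₀.hom) f.hom j₀.hom :=
      IsPullback.of_hasPullback _ _
    have hX₀ : IsAlgSpace (pullback f.hom j₀.hom) :=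
      Groth.Agent.Lib.helper5.isAlgSpace_of_isPullback Y.property.diag X.property W₀.property sq₀
    have hP₀ : P (pullback.snd f.hom j₀.hom) :=
      hWA W₀ ⟨_, hX₀⟩ j₀ (ObjectProperty.homMk (pullback.fst f.hom j₀.hom))
        (ObjectProperty.homMk (pullback.snd f.hom j₀.hom)) hj₀ hr₀ sq₀
    have hsub : Set.range (Points.map (j₂.hom ≫ g.hom)) ⊆ Set.range (Points.map j₀.hom) := by
      rintro _ ⟨z, rfl⟩
      rw [hr₀, Points.map_comp]
      have : Points.map j₂.hom z ∈ Points.map g.hom ⁻¹' (W : Set (Points Y.obj)) := by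
        have h1 : Points.map j₂.hom z ∈ Set.range (Points.map j₂.hom) := ⟨z, rfl⟩
        rw [hr₂] at h1
        exact h1
      exact this
    obtain ⟨g₂, hg₂, hpb⟩ := exists_factor j₀.hom hj₀ (j₂.hom ≫ g.hom) hsub
    have hQg₂ : Q g₂ := hQ.baseChange W₂.property Y.property W₀.property W₂.property hpb
      (hQ.comp_oi _ _ W₂.property Y'.property Y.property hj₂ hg)
    obtain ⟨l, hl1, hl2⟩ := sq₀.exists_lift (j₂'.hom ≫ g'.hom) (f₂.hom ≫ g₂) (by
      rw [Category.assoc, Category.assoc, hg₂, sq.w, ← Category.assoc, sq₂.w, Category.assoc])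
    have big : IsPullback (l ≫ pullback.fst f.hom j₀.hom) f₂.hom f.hom (g₂ ≫ j₀.hom) := by
      rw [hl1, hg₂]
      exact sq₂.paste_horiz sq
    have left : IsPullback l f₂.hom (pullback.snd f.hom j₀.hom) g₂ := IsPullback.of_right big hl2 sq₀
    exact baseChange_of_isLocalOnBase' hP hX₀ W₀.property X₂.property W₂.property
      (hQ.oi _ W₀.property W₀.property (Groth.Agent.Lib.helper7.repWith_of_isIso @IsOpenImmersion (𝟙 W₀.obj))) _ _ _ _ left hQg₂ hP₀

/-- The generic theorem. -/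
theorem exists_largest_open {Q P : MorphismProperty (Sp S)} (hQ : QData Q)
    (hP : IsLocalOnBase (fun _ _ Y g => IsCover Q Y g) P) {X Y : Space S} (f : X ⟶ Y) :
    ∃ W : TopologicalSpace.Opens (Points Y.obj),
      HoldsOver P f (W : Set (Points Y.obj)) ∧
      (∀ V : TopologicalSpace.Opens (Points Y.obj), HoldsOver P f (V : Set (Points Y.obj)) → V ≤ W) ∧
      (∀ (Y' X' : Space S) (g : Y' ⟶ Y) (g' : X' ⟶ X) (f' : X' ⟶ Y'), Q g.hom →
        IsPullback g'.hom f'.hom f.hom g.hom → P f'.hom →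
        Set.range (Points.map g.hom) ⊆ (W : Set (Points Y.obj))) ∧
      (∀ (Y' X' : Space S) (g : Y' ⟶ Y) (g' : X' ⟶ X) (f' : X' ⟶ Y'), Q g.hom →
        IsPullback g'.hom f'.hom f.hom g.hom →
        ∀ W' : TopologicalSpace.Opens (Points Y'.obj),
          HoldsOver P f' (W' : Set (Points Y'.obj)) →
          (∀ V' : TopologicalSpace.Opens (Points Y'.obj),
            HoldsOver P f' (V' : Set (Points Y'.obj)) → V' ≤ W') →
          (W' : Set (Points Y'.obj)) = Points.map g.hom ⁻¹' (W : Set (Points Y.obj))) := by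
  set 𝒱 : Set (TopologicalSpace.Opens (Points Y.obj)) :=
    {V : TopologicalSpace.Opens (Points Y.obj) | HoldsOver P f (V : Set (Points Y.obj))} with h𝒱
  have hA := holdsOver_sSup hQ hP f 𝒱 (fun V hV => hV)
  have hB : ∀ V : TopologicalSpace.Opens (Points Y.obj), HoldsOver P f (V : Set (Points Y.obj)) →
      V ≤ sSup 𝒱 := fun V hV => le_sSup hV
  refine ⟨sSup 𝒱, hA, hB, ?_, ?_⟩
  · intro Y' X' g g' f' hg sq hf'
    have hopen : IsOpen (Set.range (Points.map g.hom)) :=
      (hQ.isOpenMap _ Y'.property Y.property hg).isOpen_range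
    have h1 := hB ⟨_, hopen⟩ (holdsOver_range hQ hP f g g' f' hg sq hf')
    exact fun y hy => h1 hy
  · intro Y' X' g g' f' hg sq W' hW'A hW'B
    exact eq_preimage hQ hP f g g' f' hg sq _ hA hB W' hW'A hW'B

open Groth.Agent.Lib.helper11 in
/-- morphisms which are `Q₀` on charts, `Q₀`-morphisms of schemes being open, are open on points. -/
theorem isOpenMap_of_locP {Q₀ : MorphismProperty Scheme.{u}}
    (hopen : ∀ {A B : Scheme.{u}} (f : A ⟶ B), Q₀ f → IsOpenMap f)
    {A B : Sp S} (hA : IsAlgSpace A) (hB : IsAlgSpace B) (g : A ⟶ B) (hg : LocP Q₀ g) :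
    IsOpenMap (Points.map g) := by
  obtain ⟨U, p, hpe, hps⟩ := hA.atlas
  obtain ⟨V, q, hqe, hqs⟩ := hB.atlas
  obtain ⟨U', r, h'', sq⟩ := hqe.1 (p ≫ g)
  obtain ⟨h, rfl⟩ := (yon S).map_surjective h''
  have hr : Etale r.left := hqe.2 _ _ _ sq
  have hrs : Surjective r.left := hqs.2 _ _ _ sq
  have hQh : Q₀ h.left := by
    refine hg ((yon S).map r ≫ p) q h
      ((RepWith (S := S) @Etale).comp_mem _ _ ((repWith_yon_map_iff @Etale r).2 hr) hpe) hqe ?_
    rw [Category.assoc]
    exact sq.w.symm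
  have key : ∀ u' : ↥U'.left, Points.map g (Points.ofPt p (r.left u')) = Points.ofPt q (h.left u') := by
    intro u'
    rw [Points.map_ofPt, ← ofPt_yon_map_comp, ← sq.w, ofPt_yon_map_comp]
  intro Ω hΩ
  have hset : Points.map g '' Ω =
      Points.ofPt q '' (h.left '' (r.left ⁻¹' (Points.ofPt p ⁻¹' Ω))) := by
    ext y
    constructor
    · rintro ⟨x, hx, rfl⟩
      obtain ⟨u, rfl⟩ := surjective_ofPt p hps x
      obtain ⟨u', rfl⟩ := hrs.surj u
      exact ⟨h.left u', ⟨u', hx, rfl⟩, (key u').symm⟩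
    · rintro ⟨_, ⟨u', hu', rfl⟩, rfl⟩
      exact ⟨_, hu', key u'⟩
  rw [hset]
  refine isOpenMap_ofPt q hqe _ (hopen h.left hQh _ ?_)
  exact (hΩ.preimage (Points.continuous_ofPt p)).preimage r.left.continuous

theorem isEtaleMor_of_oi {A B : Sp S} (j : A ⟶ B) (hj : RepWith @IsOpenImmersion j) :
    IsEtaleMor j := fun U φ hφ =>
  (RepWith (S := S) @Etale).comp_mem φ j hφ (Groth.Agent.S10194.repWith_mono (fun _ _ g hg => by
    have : IsOpenImmersion g := hg
    exact (inferInstance : Etale g)) hj)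

theorem isEtaleMor_comp {A B C : Sp S} (f : A ⟶ B) (g : B ⟶ C) (hf : IsEtaleMor f)
    (hg : IsEtaleMor g) : IsEtaleMor (f ≫ g) := fun U φ hφ => by
  rw [← Category.assoc]
  exact hg _ (hf φ hφ)

/-- precomposition of `LocP P` with an étale morphism. -/
theorem locP_comp_isEtaleMor {P₀ : MorphismProperty Scheme.{u}} {A B C : Sp S} (j : A ⟶ B)
    (g : B ⟶ C) (hj : IsEtaleMor j) (hg : LocP P₀ g) : LocP P₀ (j ≫ g) := by
  intro U V a b h ha hb hsq
  refine hg (a ≫ j) b h (hj a ha) hb ?_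
  rw [Category.assoc]
  exact hsq

open Groth.Agent.Lib.helper5.SmLocal Groth.Agent.Lib.helper5.LocPBC in
theorem qData_isEtaleMor : QData (IsEtaleMor (S := S)) where
  oi j _ _ hj := isEtaleMor_of_oi j hj
  isOpenMap g hA hB hg :=
    isOpenMap_of_locP (Q₀ := @Etale) (fun f hf => by
      have : Etale f := hf
      exact f.isOpenMap) hA hB g (Groth.Agent.S10265.locP_etale_of_isEtaleMor g hg)
  baseChange := by
    intro F G G' F' hF hG hG' _ f g fst snd sq hf
    exact isEtaleMor_of_isPullback hF hG hG' sq hf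
  comp_oi j g _ _ _ hj hg := isEtaleMor_comp j g (isEtaleMor_of_oi j hj) hg

open Groth.Agent.Lib.helper5.SmLocal Groth.Agent.Lib.helper5.LocPBC in
theorem qData_smooth : QData (LocP (S := S) @Smooth) where
  oi j _ _ hj := locP_smooth_of_isEtaleMor j (isEtaleMor_of_oi j hj)
  isOpenMap g hA hB hg :=
    isOpenMap_of_locP (Q₀ := @Smooth) (fun f hf => by
      have : Smooth f := hf
      exact f.isOpenMap) hA hB g hg
  baseChange := by
    intro F G G' F' hF hG hG' _ f g fst snd sq hf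
    exact locP_of_isPullback locPData_smooth hF hG hG' sq hf
  comp_oi j g _ _ _ hj hg := locP_comp_isEtaleMor j g (isEtaleMor_of_oi j hj) hg

open Groth.Agent.Lib.helper5.SmLocal Groth.Agent.Lib.helper5.LocPBC in
theorem qData_fppf :
    QData (fun (_ _ : Sp S) f => LocP @Flat f ∧ LocP @LocallyOfFinitePresentation f) where
  oi j _ _ hj := by
    have h := Groth.Agent.S10265.locP_etale_of_isEtaleMor j (isEtaleMor_of_oi j hj)
    exact ⟨Groth.Agent.S10265.locP_mono (fun _ _ g hg => by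
        have : Etale g := hg
        exact (inferInstance : Flat g)) h,
      Groth.Agent.S10265.locP_mono (fun _ _ g hg => by
        have : Etale g := hg
        exact (inferInstance : LocallyOfFinitePresentation g)) h⟩
  isOpenMap g hA hB hg :=
    isOpenMap_of_locP (Q₀ := @Flat ⊓ @LocallyOfFinitePresentation) (fun f hf => by
      have : Flat f := hf.1
      have : LocallyOfFinitePresentation f := hf.2
      exact f.isOpenMap) hA hB g
      (fun U V a b h ha hb hsq => ⟨hg.1 a b h ha hb hsq, hg.2 a b h ha hb hsq⟩)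
  baseChange := by
    intro F G G' F' hF hG hG' _ f g fst snd sq hf
    exact ⟨locP_of_isPullback locPData_flat hF hG hG' sq hf.1,
      locP_of_isPullback locPData_lfp hF hG hG' sq hf.2⟩
  comp_oi j g _ _ _ hj hg :=
    ⟨locP_comp_isEtaleMor j g (isEtaleMor_of_oi j hj) hg.1,
      locP_comp_isEtaleMor j g (isEtaleMor_of_oi j hj) hg.2⟩

end Groth.Agent.Lib.helper5.LargestOpen
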