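import Groth.Agent.S10505
import Groth.Agent.S10265
import Groth.Agent.Lib.Helper5.AlgSpUniv2
import Groth.Agent.Lib.Helper5.AlgSpFibreProduct

/-!
A representable etale surjective chart `h_V ⟶ Y` of an algebraic space is an fpqc covering (helper5).
-/

set_option autoImplicit false
universe u
open CategoryTheory CategoryTheory.Limits AlgebraicGeometry Opposite
open AlgSp

namespace Groth.Agent.Lib.helper5.EtFpqc

variable {S : Scheme.{u}}

theorem isFpqcCover_of_chart {Y : Sp S} (hY : IsAlgSpace Y) (V : Over S) (p : (yon S).obj V ⟶ Y)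
    (hp : RepWith @Etale p) (hps : RepWith @Surjective p) :
    IsFpqcCover (S := S) (ι := PUnit.{u + 1}) (fun _ => (yon S).obj V) (fun _ => p) := by
  have h1 : IsEtaleMor p := fun U φ hφ => (RepWith (S := S) @Etale).comp_mem _ _ hφ hp
  have h2 : LocP @Etale p := Groth.Agent.S10265.locP_etale_of_isEtaleMor p h1
  have hfl : LocP @Flat p := Groth.Agent.S10265.locP_mono (fun X Y f hf => by
    have : Etale f := hf
    exact inferInstanceAs (Flat f)) h2
  have hlfp : LocP @LocallyOfFinitePresentation p := Groth.Agent.S10265.locP_mono (fun X Y f hf => by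
    have : Etale f := hf
    exact inferInstanceAs (LocallyOfFinitePresentation f)) h2
  have hsurj := surjective_map_of_repWith_surjective p hps
  exact Groth.Agent.S10505.result (S := S) ⟨Y, hY⟩ (ι := PUnit.{u + 1})
    (fun _ => ⟨(yon S).obj V, IsAlgSpace.yon_obj V⟩) (fun _ => ObjectProperty.homMk p)
    ⟨fun _ => ⟨hfl, hlfp⟩, fun x => ⟨PUnit.unit, hsurj x⟩⟩

end Groth.Agent.Lib.helper5.EtFpqc
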