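import Groth.Agent.Lib.Helper5.AffDescProp
import Mathlib.RingTheory.RingHom.Flat

/-!
fpqc descent along a standard fpqc covering for properties `P` of morphisms of affine schemes given by a ring hom property `Q`
(general form, helper5); faithfully flat descent of flatness of ring homomorphisms.
-/

set_option autoImplicit false
universe u
open CategoryTheory CategoryTheory.Limits AlgebraicGeometry Opposite TensorProduct

namespace Groth.Agent.Lib.helper5.AffDescProp

open MorphismProperty in
theorem of_finite_flat_family_affine_iff {P : MorphismProperty Scheme.{u}} [IsZariskiLocalAtTarget P]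
    {Q : ∀ {R S : Type u} [CommRing R] [CommRing S], (R →+* S) → Prop}
    (hPQ : ∀ {X Y : Scheme.{u}} (f : X ⟶ Y), IsAffine X → IsAffine Y → (P f ↔ Q f.appTop.hom))
    (hQ : RingHom.CodescendsAlong (fun f => Q f) RingHom.FaithfullyFlat)
    {A Z : Scheme.{u}} [IsAffine A] [IsAffine Z] (g : A ⟶ Z) {m : ℕ} (W : Fin m → Scheme.{u})
    (c : ∀ j, W j ⟶ Z) [∀ j, IsAffine (W j)] [∀ j, Flat (c j)]
    (hsurj : ∀ z : Z, ∃ j, z ∈ Set.range (c j))
    (T : Fin m → Scheme.{u}) (fst : ∀ j, T j ⟶ A) (snd : ∀ j, T j ⟶ W j)
    (sq : ∀ j, IsPullback (fst j) (snd j) g (c j)) (h : ∀ j, P (snd j)) : P g := by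
  let c' : ∐ W ⟶ Z := Sigma.desc c
  have hfs : Surjective c' := by
    refine ⟨fun z => ?_⟩
    obtain ⟨j, w, hw⟩ := hsurj z
    refine ⟨Sigma.ι W j w, ?_⟩
    rw [← Scheme.Hom.comp_apply, Sigma.ι_desc, hw]
  have hsnd : P (pullback.snd g c') := by
    rw [IsZariskiLocalAtTarget.iff_of_openCover (P := P) (sigmaOpenCover W)]
    intro j
    have s1 : IsPullback (pullback.snd (pullback.snd g c') (Sigma.ι W j))
        (pullback.fst (pullback.snd g c') (Sigma.ι W j)) (Sigma.ι W j) (pullback.snd g c') :=
      (IsPullback.of_hasPullback _ _).flip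
    have s2 : IsPullback (pullback.snd g c') (pullback.fst g c') c' g :=
      (IsPullback.of_hasPullback _ _).flip
    have s3 := (s1.paste_vert s2).flip
    have hc' : Sigma.ι W j ≫ c' = c j := Sigma.ι_desc _ _
    rw [hc'] at s3
    have e := IsPullback.isoIsPullback_hom_snd _ _ s3 (sq j)
    change P (pullback.snd (pullback.snd g c') (Sigma.ι W j))
    rw [← e]
    exact (P.cancel_left_of_respectsIso _ _).2 (h j)
  have hW : IsAffine (∐ W) := inferInstance
  have hpb : IsAffine (pullback g c') := inferInstance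
  have hQsnd : Q (pullback.snd g c').appTop.hom := (hPQ _ hpb hW).1 hsnd
  have hff : c'.appTop.hom.FaithfullyFlat :=
    (Flat.flat_and_surjective_iff_faithfullyFlat_of_isAffine c').1 ⟨inferInstance, hfs⟩
  have po := isPushout_appTop_of_isPullback (IsPullback.of_hasPullback g c')
  rw [hPQ g inferInstance inferInstance]
  exact codescend_of_isPushout hQ _ _ _ _ po hff hQsnd

/-- Flatness descends along faithfully flat ring maps. -/
theorem RingHom.Flat.codescendsAlong_faithfullyFlat :
    RingHom.CodescendsAlong (fun f => RingHom.Flat f) RingHom.FaithfullyFlat := by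
  refine .mk _ RingHom.Flat.respectsIso fun R S T _ _ _ _ _ h h' ↦ ?_
  rw [RingHom.flat_algebraMap_iff] at h' ⊢
  rw [RingHom.faithfullyFlat_algebraMap_iff] at h
  exact Module.Flat.of_flat_tensorProduct R T S

end Groth.Agent.Lib.helper5.AffDescProp
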