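import Groth.Agent.Lib.Helper5.AlgSpAffDesc4
import Groth.Agent.Lib.Helper5.AffDescProp2
import Groth.Agent.Lib.Helper1.ZarRep

/-!
fpqc locality on the base of `RepWith P` for properties `P` of affine morphisms given on affine schemes by a ring hom property
codescending along faithfully flat maps (closed immersions, finite locally free morphisms, ...) (helper5).
-/

set_option autoImplicit false
universe u
open CategoryTheory CategoryTheory.Limits AlgebraicGeometry Opposite
open AlgSp

namespace Groth.Agent.Lib.helper5.AffDesc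

variable {S : Scheme.{u}}

theorem affineWith_of_repWith {P : MorphismProperty Scheme.{u}} (hle : P ≤ @IsAffineHom)
    {F G : Sp S} {f : F ⟶ G} (hf : RepWith P f) : AffineWith P f := by
  intro Z hZ g
  obtain ⟨W, snd, fst, sq⟩ := hf.1 g
  have hP : P snd.left := hf.2 g fst snd sq
  have : IsAffineHom snd.left := hle _ hP
  have : IsAffine Z.left := hZ
  exact ⟨W, snd, fst, sq, isAffine_of_isAffineHom snd.left, hP⟩

theorem repWith_of_affineWith {P : MorphismProperty Scheme.{u}} [IsZariskiLocalAtTarget P]
    {F G : Sp S} {f : F ⟶ G} (hf : AffineWith P f) : RepWith P f :=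
  Groth.Agent.H1.ZarRep.repWith_of_affine f P (fun Z hZ g => by
    obtain ⟨W, i, fst, sq, -, hP⟩ := hf hZ g
    exact ⟨W, i, fst, sq, hP⟩)

theorem isLocalOnBase_fpqc_affineWith' {P : MorphismProperty Scheme.{u}} [IsZariskiLocalAtTarget P]
    {Q : ∀ {R S : Type u} [CommRing R] [CommRing S], (R →+* S) → Prop}
    (hPQ : ∀ {X Y : Scheme.{u}} (f : X ⟶ Y), IsAffine X → IsAffine Y → (P f ↔ Q f.appTop.hom))
    (hQ : RingHom.CodescendsAlong (fun f => Q f) RingHom.FaithfullyFlat) :
    IsLocalOnBase (IsFpqcCover (S := S)) (AffineWith P) := by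
  intro ι Y Yi g hY hYi hg X f hX Xi p q hXi sq
  constructor
  · intro hf i
    exact AffineWith.of_isPullback (sq i) hf
  · intro hp Z hZ h
    obtain ⟨W, k, fst, h1, h2, m, V, c, hVa, hcf, hcs, hj⟩ :=
      exists_affine_pullback_of_fpqc P Yi g hY hg f hX Xi p q sq hp hZ h
    refine ⟨W, k, fst, h1, h2, ?_⟩
    choose W' k' b sqj hPj using hj
    have : IsAffine Z.left := hZ
    have : ∀ j, IsAffine (V j).left := hVa
    have : ∀ j, Flat (c j).left := hcf
    exact AffDescProp.of_finite_flat_family_affine_iff hPQ hQ k.left (fun j => (V j).left)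
      (fun j => (c j).left) hcs (fun j => (W' j).left) (fun j => (b j).left)
      (fun j => (k' j).left) (fun j => (sqj j).map (Over.forget S)) hPj

theorem isLocalOnBase_fpqc_repWith {P : MorphismProperty Scheme.{u}} [IsZariskiLocalAtTarget P]
    (hle : P ≤ @IsAffineHom)
    {Q : ∀ {R S : Type u} [CommRing R] [CommRing S], (R →+* S) → Prop}
    (hPQ : ∀ {X Y : Scheme.{u}} (f : X ⟶ Y), IsAffine X → IsAffine Y → (P f ↔ Q f.appTop.hom))
    (hQ : RingHom.CodescendsAlong (fun f => Q f) RingHom.FaithfullyFlat) :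
    IsLocalOnBase (IsFpqcCover (S := S)) (RepWith P) := by
  intro ι Y Yi g hY hYi hg X f hX Xi p q hXi sq
  have key := isLocalOnBase_fpqc_affineWith' (S := S) hPQ hQ Yi g hY hYi hg f hX Xi p q hXi sq
  constructor
  · intro hf i
    exact repWith_of_affineWith (key.1 (affineWith_of_repWith hle hf) i)
  · intro hp
    exact repWith_of_affineWith (key.2 (fun i => affineWith_of_repWith hle (hp i)))

end Groth.Agent.Lib.helper5.AffDesc
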