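import Groth.Agent.Lib.Helper5.AlgSpImmDesc
import Groth.Agent.Lib.Helper5.AlgSpFibreProduct
import Groth.Agent.S10534
import Groth.Agent.S10505
import Groth.Agent.S10506

/-!
Immersions of algebraic spaces are fppf local on the base (helper5).
-/

set_option autoImplicit false
universe u
open CategoryTheory CategoryTheory.Limits AlgebraicGeometry Opposite Topology
open AlgSp

namespace Groth.Agent.Lib.helper5.ImmDesc

variable {S : Scheme.{u}}

open Groth.Agent.Lib.helper5.LargestOpen in
theorem isLocalOnBase_fppf_repWith_isImmersion :
    IsLocalOnBase (IsFppfCover (S := S)) (RepWith @IsImmersion) := by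
  intro ι Y Yi g hY hYi hg X f hX Xi p q hXi sq
  constructor
  · intro hf i
    exact (RepWith (S := S) @IsImmersion).of_isPullback (sq i) hf
  · intro hp
    -- Step 1: the range of `f` is locally closed
    have hAi : ∀ i, Points.map (g i) ⁻¹' Set.range (Points.map f) = Set.range (Points.map (p i)) :=
      fun i => (range_map_snd (sq i)).symm
    have hopen : ∀ i, IsOpenMap (Points.map (g i)) := fun i =>
      qData_fppf.isOpenMap (g i) (hYi i) hY (hg.1 i)
    have hA : IsLocallyClosed (Set.range (Points.map f)) :=
      isLocallyClosed_of_forall_preimage (fun i => Points.map (g i)) hopen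
        (fun i => Points.continuous_map _) hg.2 _ (fun i => by
          rw [hAi i]
          exact isLocallyClosed_range_of_repWith_immersion (hYi i) (p i) (hp i))
    have hΩ : IsOpen (coborder (Set.range (Points.map f))) :=
      isLocallyClosed_iff_isOpen_coborder.1 hA
    -- Step 2: the open subspace
    have hU : IsAlgSpace (OpenSub.sub Y (coborder (Set.range (Points.map f)))) :=
      OpenSub.isAlgSpace_sub hY hΩ
    have hj : RepWith @IsOpenImmersion (OpenSub.ι Y (coborder (Set.range (Points.map f)))) :=
      OpenSub.repWith_ι Y hΩ
    have hjr : Set.range (Points.map (OpenSub.ι Y (coborder (Set.range (Points.map f))))) =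
        coborder (Set.range (Points.map f)) := OpenSub.range_map_ι Y _
    obtain ⟨f', hf'⟩ := (OpenSub.factors_iff _ hj f).2 (by rw [hjr]; exact subset_coborder)
    generalize OpenSub.ι Y (coborder (Set.range (Points.map f))) = j at hj hjr hf'
    generalize OpenSub.sub Y (coborder (Set.range (Points.map f))) = U at hU j f'
    have hjinj : Function.Injective (Points.map j) := injective_of_oi hj
    have hjmono : Mono j := mono_of_oi hj
    -- Step 3: base change of the covering
    have sqU : ∀ i, IsPullback (pullback.fst j (g i)) (pullback.snd j (g i)) j (g i) :=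
      fun i => IsPullback.of_hasPullback _ _
    have hUi : ∀ i, IsAlgSpace (pullback j (g i)) := fun i =>
      isAlgSpace_of_isPullback hY.diag hU (hYi i) (sqU i)
    have hw : ∀ i, (q i ≫ f') ≫ j = p i ≫ g i := by
      intro i
      rw [Category.assoc, hf', (sq i).w]
    have hp'1 : ∀ i, pullback.lift (q i ≫ f') (p i) (hw i) ≫ pullback.fst j (g i) = q i ≫ f' :=
      fun i => pullback.lift_fst _ _ _
    have hp'2 : ∀ i, pullback.lift (q i ≫ f') (p i) (hw i) ≫ pullback.snd j (g i) = p i :=
      fun i => pullback.lift_snd _ _ _
    have sq' : ∀ i, IsPullback (q i) (pullback.lift (q i ≫ f') (p i) (hw i)) f'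
        (pullback.fst j (g i)) := by
      intro i
      refine IsPullback.of_bot (v₂₁ := pullback.snd j (g i)) (v₂₂ := j) (h₃₁ := g i) ?_
        (hp'1 i).symm (sqU i)
      rw [hp'2 i, hf']
      exact sq i
    have hcov : IsFpqcCover (fun i => pullback j (g i)) (fun i => pullback.fst j (g i)) := by
      have h1 : IsFpqcCover Yi g :=
        Groth.Agent.S10505.result (S := S) ⟨Y, hY⟩ (fun i => ⟨Yi i, hYi i⟩)
          (fun i => ObjectProperty.homMk (g i)) hg
      exact Groth.Agent.S10506.result (S := S) (X := ⟨Y, hY⟩) (X' := ⟨U, hU⟩)
        (ObjectProperty.homMk j) (fun i => ⟨Yi i, hYi i⟩) (fun i => ObjectProperty.homMk (g i))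
        (fun i => ⟨pullback j (g i), hUi i⟩) (fun i => ObjectProperty.homMk (pullback.fst j (g i)))
        (fun i => ObjectProperty.homMk (pullback.snd j (g i))) (fun i => sqU i) h1
    -- Step 4: the base changes are closed immersions
    have hrf' : Set.range (Points.map f') = Points.map j ⁻¹' closure (Set.range (Points.map f)) := by
      ext y
      constructor
      · rintro ⟨x, rfl⟩
        apply subset_closure
        exact ⟨x, by rw [← hf', Points.map_comp]⟩
      · intro hy
        have h1 : Points.map j y ∈ coborder (Set.range (Points.map f)) := by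
          rw [← hjr]; exact ⟨y, rfl⟩
        have h2 : Points.map j y ∈ Set.range (Points.map f) := by
          rw [← coborder_inter_closure (s := Set.range (Points.map f))]
          exact ⟨h1, hy⟩
        obtain ⟨x, hx⟩ := h2
        refine ⟨x, hjinj ?_⟩
        rw [← Points.map_comp, hf', hx]
    have hcl : ∀ i, RepWith @IsClosedImmersion (pullback.lift (q i ≫ f') (p i) (hw i)) := by
      intro i
      have hmono : Mono (pullback.snd j (g i)) := inferInstance
      have sqid : IsPullback (𝟙 _) (pullback.lift (q i ≫ f') (p i) (hw i)) (p i)
          (pullback.snd j (g i)) := by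
        have := isPullback_id_of_mono (pullback.lift (q i ≫ f') (p i) (hw i)) (pullback.snd j (g i))
        rwa [hp'2 i] at this
      have himm : RepWith @IsImmersion (pullback.lift (q i ≫ f') (p i) (hw i)) :=
        (RepWith (S := S) @IsImmersion).of_isPullback sqid (hp i)
      refine ⟨himm.1, ?_⟩
      intro W W' h fst snd sqW
      have : IsImmersion snd.left := himm.2 _ _ _ sqW
      show IsClosedImmersion snd.left
      apply IsClosedImmersion.of_isPreimmersion
      rw [range_left_eq_preimage sqW, range_map_snd (sq' i), hrf']
      exact ((isClosed_closure.preimage (Points.continuous_map j)).preimage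
        (Points.continuous_map _)).preimage (Points.continuous_ofPt h)
    have hf'cl : RepWith @IsClosedImmersion f' :=
      (Groth.Agent.S10534.result S (fun i => pullback j (g i)) (fun i => pullback.fst j (g i)) hU hUi
        hcov f' hX Xi (fun i => pullback.lift (q i ≫ f') (p i) (hw i)) q hXi sq').2 hcl
    rw [← hf']
    exact (RepWith (S := S) @IsImmersion).comp_mem f' j
      (Groth.Agent.S10194.repWith_mono (fun _ _ k hk => by
        have : IsClosedImmersion k := hk
        exact (inferInstance : IsImmersion k)) hf'cl)
      (Groth.Agent.S10194.repWith_mono (fun _ _ k hk => by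
        have : IsOpenImmersion k := hk
        exact (inferInstance : IsImmersion k)) hj)

end Groth.Agent.Lib.helper5.ImmDesc
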