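import Groth.Agent.Lib.Helper5.FieldQuotQS
import Groth.Agent.Lib.Helper11.AlgSpBasic
import Groth.Agent.Lib.Helper5.AlgSpOpenSub
import Groth.Agent.S10182

set_option autoImplicit false
universe u
open CategoryTheory CategoryTheory.Limits AlgebraicGeometry AlgSp Opposite

namespace Groth.Agent.Lib.helper5.FieldQuot

variable {S : Scheme.{u}} {X : Sp S}

/-- If the relation `R = U ×_X U` of an etale chart has finitely many points over `(u, u)` then the residue field point
of `u` factors through a monomorphism from the spectrum of a field. -/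
theorem exists_mono_point_of_finite_pair {U : Over S} (φ : (yon S).obj U ⟶ X) (hφ : RepWith @Etale φ)
    (u : ↥U.left) {R : Over S} (s t : R ⟶ U) (sqR : IsPullback ((yon S).map t) ((yon S).map s) φ φ)
    (hfin : {r : ↥R.left | s.left r = u ∧ t.left r = u}.Finite) :
    ∃ (p : FieldPt X) (c : (FieldPt.ofPt φ u).pt ⟶ p.pt),
      (yon S).map c ≫ p.toHom = (FieldPt.ofPt φ u).toHom ∧ Mono p.toHom ∧ IsFinite c.left := by
  have hq : (FieldPt.ofPt φ u).toHom = (yon S).map (ptι φ u) ≫ φ := FieldPt.toHom_ofPt φ u
  obtain ⟨T, s', t', sq, hs'⟩ := exists_chart_selfProduct φ hφ u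
  -- the map `T ⟶ R`
  obtain ⟨l', hl1, hl2⟩ := sqR.exists_lift ((yon S).map (t' ≫ ptι φ u)) ((yon S).map (s' ≫ ptι φ u)) (by
    rw [Functor.map_comp, Functor.map_comp, Category.assoc, Category.assoc, ← hq, sq.w])
  obtain ⟨l, rfl⟩ := (yon S).map_surjective l'
  have hlt : l ≫ t = t' ≫ ptι φ u := (yon S).map_injective (by rw [Functor.map_comp, hl1])
  have hls : l ≫ s = s' ≫ ptι φ u := (yon S).map_injective (by rw [Functor.map_comp, hl2])
  have hmι : Mono (ptι φ u) := by
    have : Mono (ptι φ u).left := inferInstanceAs (Mono (U.left.fromSpecResidueField u))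
    exact (Over.forget S).mono_of_mono_map this
  have hml : Mono l := by
    constructor
    intro Z a b hab
    have h1 : a ≫ t' = b ≫ t' := by
      rw [← cancel_mono (ptι φ u), Category.assoc, Category.assoc, ← hlt, ← Category.assoc, hab,
        Category.assoc]
    have h2 : a ≫ s' = b ≫ s' := by
      rw [← cancel_mono (ptι φ u), Category.assoc, Category.assoc, ← hls, ← Category.assoc, hab,
        Category.assoc]
    apply (yon S).map_injective
    apply sq.hom_ext
    · rw [← Functor.map_comp, ← Functor.map_comp, h1]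
    · rw [← Functor.map_comp, ← Functor.map_comp, h2]
  have hml' : Mono l.left := inferInstance
  have hinj : Function.Injective l.left := l.left.injective
  have hsub : Subsingleton ↥(FieldPt.ofPt φ u).pt.left :=
    inferInstanceAs (Subsingleton (PrimeSpectrum (U.left.residueField u)))
  have himg : ∀ τ : ↥T.left, l.left τ ∈ {r : ↥R.left | s.left r = u ∧ t.left r = u} := by
    intro τ
    constructor
    · change (l ≫ s).left τ = u
      rw [hls, Over.comp_left, Scheme.Hom.comp_apply]
      exact Scheme.fromSpecResidueField_apply _ _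
    · change (l ≫ t).left τ = u
      rw [hlt, Over.comp_left, Scheme.Hom.comp_apply]
      exact Scheme.fromSpecResidueField_apply _ _
  have hTfin : Finite ↥T.left := by
    have : Finite {r : ↥R.left | s.left r = u ∧ t.left r = u} := hfin
    exact Finite.of_injective (fun τ => (⟨l.left τ, himg τ⟩ : {r : ↥R.left | s.left r = u ∧ t.left r = u}))
      (fun a b hab => hinj (congrArg Subtype.val hab))
  have hcomp : CompactSpace ↥T.left := inferInstance
  have haff : IsAffine (FieldPt.ofPt φ u).pt.left :=
    inferInstanceAs (IsAffine (Spec (U.left.residueField u)))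
  have hqc : QuasiCompact s'.left := HasAffineProperty.iff_of_isAffine.mpr hcomp
  have hfin' : IsFinite s'.left := isFinite_of_etale_qc (K := (FieldPt.ofPt φ u).K) s'.left
  exact exists_mono_point (FieldPt.ofPt φ u) s' t' sq hfin'

/-- A monomorphism from the spectrum of a field whose point has finite fibres in all affine etale charts is
quasi-compact. -/
theorem repWith_qc_of_finite_fibres (hX : IsAlgSpace X) (p : FieldPt X) (hm : Mono p.toHom)
    (H : ∀ (U : Over S) (φ : (yon S).obj U ⟶ X), IsAffine U.left → RepWith @Etale φ →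
      (Points.ofPt φ ⁻¹' {Points.mk p}).Finite) :
    RepWith @QuasiCompact p.toHom := by
  obtain ⟨U₀, φ₀, he, hs⟩ := hX.atlas
  obtain ⟨V, snd, fst, sqV⟩ := he.1 p.toHom
  obtain ⟨g, rfl⟩ := (yon S).map_surjective fst
  refine Groth.Agent.Lib.helper15.AlgSpDiag.repWith_of_chart p.toHom (hX.representable_from_yon p.toHom)
    φ₀ he hs ((yon S).map snd) g sqV.flip @QuasiCompact ?_
  rw [quasiCompact_iff_forall_isAffineOpen]
  intro W hW
  have hmg' : Mono ((yon S).map g) :=
    (MorphismProperty.monomorphisms (Sp S)).of_isPullback sqV.flip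
      (MorphismProperty.monomorphisms.infer_property p.toHom)
  have hmg : Mono g := (yon S).mono_of_mono_map hmg'
  have hmgl : Mono g.left := inferInstance
  have hinj : Function.Injective g.left := g.left.injective
  have hpt : ∀ v : ↥V.left, Points.ofPt φ₀ (g.left v) = Points.mk p := by
    intro v
    rw [← Groth.Agent.Lib.helper11.ofPt_yon_map_comp, sqV.w, Groth.Agent.Lib.helper11.ofPt_yon_map_comp]
    exact Points.ofPt_toHom p _
  have hfinW := H (OpenSub.subOver U₀ W) ((yon S).map (OpenSub.subOverι U₀ W) ≫ φ₀) hW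
    ((RepWith (S := S) @Etale).comp_mem _ _
      ((repWith_yon_map_iff @Etale (OpenSub.subOverι U₀ W)).2 (inferInstanceAs (Etale W.ι))) he)
  have hfin : (g.left ⁻¹ᵁ W : Set ↥V.left).Finite := by
    have : Finite (Points.ofPt ((yon S).map (OpenSub.subOverι U₀ W) ≫ φ₀) ⁻¹' {Points.mk p}) := hfinW
    have hmem : ∀ v : (g.left ⁻¹ᵁ W : Set ↥V.left),
        (⟨g.left v.1, v.2⟩ : (OpenSub.subOver U₀ W).left) ∈
          Points.ofPt ((yon S).map (OpenSub.subOverι U₀ W) ≫ φ₀) ⁻¹' {Points.mk p} := by
      intro v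
      change Points.ofPt ((yon S).map (OpenSub.subOverι U₀ W) ≫ φ₀) _ = Points.mk p
      rw [Groth.Agent.Lib.helper11.ofPt_yon_map_comp]
      exact hpt v.1
    have : Finite (g.left ⁻¹ᵁ W : Set ↥V.left) :=
      Finite.of_injective (fun v => (⟨_, hmem v⟩ :
        (Points.ofPt ((yon S).map (OpenSub.subOverι U₀ W) ≫ φ₀) ⁻¹' {Points.mk p})))
        (fun a b hab => by
          have h1 := congrArg (fun z => (z.1 : (OpenSub.subOver U₀ W).left).1) hab
          exact Subtype.ext (hinj h1))
    exact Set.toFinite _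
  exact hfin.isCompact

/-- An affine etale chart through a given point of an algebraic space. -/
theorem exists_affine_chart (hX : IsAlgSpace X) (x : Points X) :
    ∃ (U : Over S) (φ : (yon S).obj U ⟶ X) (u : ↥U.left), IsAffine U.left ∧ RepWith @Etale φ ∧
      Points.ofPt φ u = x := by
  obtain ⟨U₀, φ₀, he, hs⟩ := hX.atlas
  obtain ⟨u₀, hu₀⟩ := Groth.Agent.Lib.helper11.surjective_ofPt φ₀ hs x
  obtain ⟨W, hW, hu₀W, -⟩ := exists_isAffineOpen_mem_and_subset (x := u₀) (U := (⊤ : U₀.left.Opens)) trivial
  refine ⟨OpenSub.subOver U₀ W, (yon S).map (OpenSub.subOverι U₀ W) ≫ φ₀, ⟨u₀, hu₀W⟩, hW, ?_, ?_⟩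
  · exact (RepWith (S := S) @Etale).comp_mem _ _
      ((repWith_yon_map_iff @Etale (OpenSub.subOverι U₀ W)).2 (inferInstanceAs (Etale W.ι))) he
  · rw [Groth.Agent.Lib.helper11.ofPt_yon_map_comp]
    exact hu₀

end Groth.Agent.Lib.helper5.FieldQuot
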