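import Groth.Agent.Lib.Helper5.AlgSpEtaleMono
import Groth.Agent.Lib.Helper10.AlgSpPoints
import Groth.Agent.S9929

/-!
Universally injective morphisms of algebraic spaces: field-valued points and the diagonal (helper5).
-/

set_option autoImplicit false
universe u
open CategoryTheory CategoryTheory.Limits AlgebraicGeometry Opposite
open AlgSp

namespace Groth.Agent.Lib.helper5.UnivInj

variable {S : Scheme.{u}}

open Groth.Agent.Lib.helper10

/-- Equivalent field-valued points have morphisms that agree over a common field extension. -/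
theorem hom_eq_of_rel {F : Sp S} {p q : FieldPt F} (h : FieldPt.Rel p q) :
    ∃ (Ω : Type u) (_ : Field Ω) (w : Spec (CommRingCat.of Ω) ⟶ S) (a : Over.mk w ⟶ p.pt)
      (b : Over.mk w ⟶ q.pt), (yon S).map a ≫ p.toHom = (yon S).map b ≫ q.toHom := by
  obtain ⟨Ω, hΩ, w, a, b, hab⟩ := h
  refine ⟨Ω, hΩ, w, a, b, ?_⟩
  apply (J S).uliftYonedaEquiv.injective
  rw [← GrothendieckTopology.uliftYonedaEquiv_naturality,
    ← GrothendieckTopology.uliftYonedaEquiv_naturality, FieldPt.uliftYonedaEquiv_toHom,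
    FieldPt.uliftYonedaEquiv_toHom]
  exact hab

/-- Two field-valued points with the same image point under `k` agree after `k` over a common extension. -/
theorem hom_eq_of_map_eq {F G : Sp S} (k : F ⟶ G) {p q : FieldPt F}
    (h : Points.map k (Points.mk p) = Points.map k (Points.mk q)) :
    ∃ (Ω : Type u) (_ : Field Ω) (w : Spec (CommRingCat.of Ω) ⟶ S) (a : Over.mk w ⟶ p.pt)
      (b : Over.mk w ⟶ q.pt),
      ((yon S).map a ≫ p.toHom) ≫ k = ((yon S).map b ≫ q.toHom) ≫ k := by
  obtain ⟨Ω, hΩ, w, a', b', hab⟩ := hom_eq_of_rel (Points.mk_eq_mk_iff.mp h)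
  obtain ⟨a, rfl⟩ : ∃ a : Over.mk w ⟶ p.pt, a = a' := ⟨a', rfl⟩
  obtain ⟨b, rfl⟩ : ∃ b : Over.mk w ⟶ q.pt, b = b' := ⟨b', rfl⟩
  refine ⟨Ω, hΩ, w, a, b, ?_⟩
  rw [FieldPt.toHom_map, FieldPt.toHom_map] at hab
  rw [Category.assoc, Category.assoc]
  exact hab

/-- A field-valued point whose image under `k` is the class of `l` agrees with `l` over a common extension. -/
theorem hom_eq_of_map_eq_mk {F G : Sp S} (k : F ⟶ G) {p : FieldPt F} {K : Type u} [Field K]
    (str : Spec (CommRingCat.of K) ⟶ S) (l : (yon S).obj (Over.mk str) ⟶ G)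
    (h : Points.map k (Points.mk p) = Points.mk (fieldPtOfHom str l)) :
    ∃ (Ω : Type u) (_ : Field Ω) (w : Spec (CommRingCat.of Ω) ⟶ S) (a : Over.mk w ⟶ p.pt)
      (b : Over.mk w ⟶ Over.mk str),
      ((yon S).map a ≫ p.toHom) ≫ k = (yon S).map b ≫ l := by
  obtain ⟨Ω, hΩ, w, a', b', hab⟩ := hom_eq_of_rel (Points.mk_eq_mk_iff.mp h)
  obtain ⟨a, rfl⟩ : ∃ a : Over.mk w ⟶ p.pt, a = a' := ⟨a', rfl⟩
  obtain ⟨b, rfl⟩ : ∃ b : Over.mk w ⟶ Over.mk str, b = b' := ⟨b', rfl⟩
  refine ⟨Ω, hΩ, w, a, b, ?_⟩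
  rw [FieldPt.toHom_map, fieldPtOfHom_toHom] at hab
  rw [Category.assoc]
  exact hab

/-- Injectivity on field-valued points implies universal injectivity. -/
theorem univInjective_of_fieldInjective {X Y : Sp S} (f : X ⟶ Y)
    (h : ∀ (K : Type u) [Field K] (str : Spec (CommRingCat.of K) ⟶ S),
      Function.Injective (fun a : (yon S).obj (Over.mk str) ⟶ X => a ≫ f)) :
    IsUnivInjectiveMor f := by
  intro Z Z' hZ g fst snd sq ξ1 ξ2 hξ
  induction ξ1 using Points.ind with
  | h p1 =>
  induction ξ2 using Points.ind with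
  | h p2 =>
  obtain ⟨Ω, hΩ, w, a, b, hab⟩ := hom_eq_of_map_eq snd hξ
  have h1 : ((yon S).map a ≫ p1.toHom) ≫ fst = ((yon S).map b ≫ p2.toHom) ≫ fst := by
    apply h Ω w
    show (((yon S).map a ≫ p1.toHom) ≫ fst) ≫ f = (((yon S).map b ≫ p2.toHom) ≫ fst) ≫ f
    rw [Category.assoc _ fst f, Category.assoc _ fst f, sq.w, ← Category.assoc _ snd g,
      ← Category.assoc _ snd g, hab]
  have h2 : (yon S).map a ≫ p1.toHom = (yon S).map b ≫ p2.toHom := sq.hom_ext h1 hab
  rw [← mk_fieldPtOfHom_comp p1 w a, ← mk_fieldPtOfHom_comp p2 w b, h2]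

/-- The diagonal of a universally injective morphism is surjective on points. -/
theorem surjective_diagonal_of_univInjective {X Y : Sp S} (hX : IsAlgSpace X) (f : X ⟶ Y)
    (hinj : IsUnivInjectiveMor f) : IsSurjectiveMor (pullback.diagonal f) := by
  have sq : IsPullback (pullback.fst f f) (pullback.snd f f) f f := IsPullback.of_hasPullback f f
  have hinj2 : Function.Injective (Points.map (pullback.snd f f)) := hinj hX f _ _ sq
  exact fun z => ⟨Points.map (pullback.snd f f) z,
    hinj2 (by rw [← Points.map_comp, pullback.diagonal_snd, Points.map_id])⟩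

/-- If the diagonal is surjective on points, the morphism is injective on field-valued points. -/
theorem fieldInjective_of_surjective_diagonal {X Y : Sp S} (hX : IsAlgSpace X) (f : X ⟶ Y)
    (hs : IsSurjectiveMor (pullback.diagonal f)) (K : Type u) [Field K]
    (str : Spec (CommRingCat.of K) ⟶ S) :
    Function.Injective (fun a : (yon S).obj (Over.mk str) ⟶ X => a ≫ f) := by
  intro a1 a2 h12
  have h12' : a1 ≫ f = a2 ≫ f := h12
  obtain ⟨x, hx⟩ := hs (Points.mk (fieldPtOfHom str (pullback.lift a1 a2 h12')))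
  induction x using Points.ind with
  | h p =>
  obtain ⟨Ω, hΩ, w, a, b, hab⟩ := hom_eq_of_map_eq_mk (pullback.diagonal f) str _ hx
  have e1 : (yon S).map a ≫ p.toHom = (yon S).map b ≫ a1 := by
    have h0 := congrArg (fun k => k ≫ pullback.fst f f) hab
    simp only [Category.assoc, pullback.diagonal_fst, Category.comp_id, pullback.lift_fst] at h0
    exact h0
  have e2 : (yon S).map a ≫ p.toHom = (yon S).map b ≫ a2 := by
    have h0 := congrArg (fun k => k ≫ pullback.snd f f) hab
    simp only [Category.assoc, pullback.diagonal_snd, Category.comp_id, pullback.lift_snd] at h0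
    exact h0
  have hb : (yon S).map b ≫ a1 = (yon S).map b ≫ a2 := e1.symm.trans e2
  obtain ⟨E₀, snd, fst, sqE⟩ := hX.diag (prod.lift a1 a2)
  have hfst1 : fst = (yon S).map snd ≫ a1 := by
    have h0 := congrArg (fun k => k ≫ prod.fst) sqE.w
    simpa only [Category.assoc, Limits.diag, prod.lift_fst, Category.comp_id] using h0
  have hfst2 : fst = (yon S).map snd ≫ a2 := by
    have h0 := congrArg (fun k => k ≫ prod.snd) sqE.w
    simpa only [Category.assoc, Limits.diag, prod.lift_snd, Category.comp_id] using h0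
  have hmono : Mono ((yon S).map snd) := by
    have : Mono (Limits.diag X) := inferInstance
    exact sqE.mono_snd_of_mono
  have hw : ((yon S).map b ≫ a1) ≫ Limits.diag X = (yon S).map b ≫ prod.lift a1 a2 := by
    apply Limits.prod.hom_ext
    · simp only [Category.assoc, Limits.diag, prod.lift_fst, Category.comp_id]
    · simp only [Category.assoc, Limits.diag, prod.lift_snd, Category.comp_id, hb]
  obtain ⟨t, ht1, ht2⟩ := sqE.exists_lift _ _ hw
  have hne : ¬ IsEmpty (Points ((yon S).obj E₀)) := fun h =>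
    h.elim (Points.mk (fieldPtOfHom w t))
  let φ : (⟨(yon S).obj E₀, IsAlgSpace.yon_obj E₀⟩ : Space S) ⟶ (ofScheme S).obj (Over.mk str) :=
    ObjectProperty.homMk ((yon S).map snd)
  have hφm : Mono φ.hom := hmono
  have hres := Groth.Agent.S9929.result str _ φ
  rcases hres with h | h
  · exact absurd h hne
  · have hiso : IsIso ((yon S).map snd) :=
      (ObjectProperty.ι (IsAlgSpace (S := S))).map_isIso φ
    rw [← cancel_epi ((yon S).map snd), ← hfst1, ← hfst2]

end Groth.Agent.Lib.helper5.UnivInj
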