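import Groth.Prelude.Def_AlgSp
import Mathlib.CategoryTheory.Sites.Over
import Mathlib.CategoryTheory.Sites.Coverage
import Mathlib.AlgebraicGeometry.Sites.Fpqc

/-!
# Sheaves on `Over S` for `P`-topologies via covering families (helper5)

For a morphism property `P` of schemes stable under base change, the topology `(Scheme.precoverage P).toGrothendieck.over S`
on `Over S` is generated by the families `π j : X j ⟶ T` in `Over S` whose underlying morphisms have `P` and are
jointly surjective.  This file gives the dictionary in terms of `Presieve.ofArrows`.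
-/

set_option autoImplicit false
universe w u
open CategoryTheory CategoryTheory.Limits AlgebraicGeometry Opposite

namespace Groth.Agent.Lib.helper5.OverFam

variable {S : Scheme.{u}} (P : MorphismProperty Scheme.{u})

/-- A family in `Over S` is a `P`-covering family: members have `P` (on underlying schemes), jointly surjective. -/
def IsFam {T : Over S} {I : Type w} (X : I → Over S) (π : ∀ j, X j ⟶ T) : Prop :=
  (∀ t : ↥T.left, ∃ j, t ∈ Set.range (π j).left) ∧ ∀ j, P (π j).left

variable {P}

theorem isFam_iff_mem {T : Over S} {I : Type w} (X : I → Over S) (π : ∀ j, X j ⟶ T) :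
    IsFam P X π ↔ Presieve.ofArrows X π ∈ (Scheme.precoverage P).comap (Over.forget S) T := by
  rw [Precoverage.mem_comap_iff, Presieve.map_ofArrows, Scheme.ofArrows_mem_precoverage_iff]
  rfl

/-- `P`-covering families are stable under base change. -/
theorem IsFam.of_isPullback [P.IsStableUnderBaseChange] {T : Over S} {I : Type w} {X : I → Over S}
    {π : ∀ j, X j ⟶ T} (h : IsFam P X π) {T' : Over S} (g : T' ⟶ T) (X' : I → Over S)
    (p₁ : ∀ j, X' j ⟶ X j) (p₂ : ∀ j, X' j ⟶ T') (H : ∀ j, IsPullback (p₁ j) (p₂ j) (π j) g) :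
    IsFam P X' p₂ := by
  refine ⟨fun t' => ?_, fun j => ?_⟩
  · obtain ⟨j, y, hy⟩ := h.1 (g.left t')
    have sq : IsPullback (p₁ j).left (p₂ j).left (π j).left g.left := (H j).map (Over.forget S)
    obtain ⟨z, hz1, hz2⟩ := Scheme.Pullback.exists_preimage_pullback (f := (π j).left) (g := g.left) y t' hy
    refine ⟨j, sq.isoPullback.inv z, ?_⟩
    rw [← Scheme.Hom.comp_apply]
    have : sq.isoPullback.inv ≫ (p₂ j).left = pullback.snd _ _ := sq.isoPullback_inv_snd
    rw [this, hz2]
  · exact MorphismProperty.of_isPullback ((H j).map (Over.forget S)) (h.2 j)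

/-- The chosen base change of a `P`-covering family. -/
theorem IsFam.pullback [P.IsStableUnderBaseChange] {T : Over S} {I : Type w} {X : I → Over S}
    {π : ∀ j, X j ⟶ T} (h : IsFam P X π) {T' : Over S} (g : T' ⟶ T) :
    IsFam P (fun j => pullback (π j) g) (fun j => pullback.snd (π j) g) :=
  h.of_isPullback g _ (fun j => pullback.fst (π j) g) _ (fun _ => IsPullback.of_hasPullback _ _)

variable (P) in
/-- The topology on `Over S`. -/
abbrev JP (S : Scheme.{u}) : GrothendieckTopology (Over S) := (Scheme.precoverage P).toGrothendieck.over S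

theorem JP_eq [P.IsStableUnderBaseChange] :
    JP P S = ((Scheme.precoverage P).comap (Over.forget S)).toGrothendieck :=
  over_toGrothendieck_eq_toGrothendieck_comap_forget _ _

theorem generate_mem [P.IsStableUnderBaseChange] {T : Over S} {I : Type w} {X : I → Over S}
    {π : ∀ j, X j ⟶ T} (h : IsFam P X π) : Sieve.generate (Presieve.ofArrows X π) ∈ JP P S T := by
  rw [JP_eq]
  exact Precoverage.generate_mem_toGrothendieck ((isFam_iff_mem X π).1 h)

/-- A sheaf satisfies the sheaf condition for covering families. -/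
theorem isSheafFor_of_isFam [P.IsStableUnderBaseChange] {G : (Over S)ᵒᵖ ⥤ Type (u + 1)}
    (hG : Presheaf.IsSheaf (JP P S) G) {T : Over S} {I : Type w} {X : I → Over S}
    {π : ∀ j, X j ⟶ T} (h : IsFam P X π) : (Presieve.ofArrows X π).IsSheafFor G := by
  rw [Presieve.isSheafFor_iff_generate]
  exact ((isSheaf_iff_isSheaf_of_type _ _).1 hG) _ (generate_mem h)

/-- Conversely the sheaf condition for covering families suffices. -/
theorem isSheaf_of_forall_isFam [P.IsStableUnderBaseChange] {G : (Over S)ᵒᵖ ⥤ Type (u + 1)}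
    (h : ∀ (T : Over S) (I : Type (u + 1)) (X : I → Over S) (π : ∀ j, X j ⟶ T), IsFam P X π →
      (Presieve.ofArrows X π).IsSheafFor G) : Presheaf.IsSheaf (JP P S) G := by
  rw [isSheaf_iff_isSheaf_of_type, JP_eq, Precoverage.isSheaf_toGrothendieck_iff_of_isStableUnderBaseChange]
  intro T R hR
  obtain ⟨E, rfl⟩ := R.exists_eq_preZeroHypercover
  exact h T E.I₀ E.X E.f ((isFam_iff_mem E.X E.f).2 hR)

/-- Unfolded existence and uniqueness. -/
theorem existsUnique_of_isFam [P.IsStableUnderBaseChange] {G : (Over S)ᵒᵖ ⥤ Type (u + 1)}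
    (hG : Presheaf.IsSheaf (JP P S) G) {T : Over S} {I : Type w} {X : I → Over S}
    {π : ∀ j, X j ⟶ T} (h : IsFam P X π) (x : ∀ j, G.obj (op (X j)))
    (hx : ∀ (i j : I) (Z : Over S) (gi : Z ⟶ X i) (gj : Z ⟶ X j), gi ≫ π i = gj ≫ π j →
      G.map gi.op (x i) = G.map gj.op (x j)) :
    ∃! t : G.obj (op T), ∀ j, G.map (π j).op t = x j :=
  (Presieve.isSheafFor_arrows_iff G π).1 (isSheafFor_of_isFam hG h) x hx

/-- Separatedness for covering families. -/
theorem eq_of_isFam [P.IsStableUnderBaseChange] {G : (Over S)ᵒᵖ ⥤ Type (u + 1)}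
    (hG : Presheaf.IsSheaf (JP P S) G) {T : Over S} {I : Type w} {X : I → Over S}
    {π : ∀ j, X j ⟶ T} (h : IsFam P X π) (t t' : G.obj (op T))
    (ht : ∀ j, G.map (π j).op t = G.map (π j).op t') : t = t' := by
  have := existsUnique_of_isFam hG h (fun j => G.map (π j).op t') (by
    intro i j Z gi gj hc
    rw [← Functor.map_comp_apply, ← Functor.map_comp_apply, ← op_comp, ← op_comp, hc])
  exact this.unique ht (fun _ => rfl)

theorem J_eq_JP : AlgSp.J S = JP (@Flat ⊓ @LocallyOfFinitePresentation) S := rfl

theorem Jzar_eq_JP : QuotSh.J Scheme.zariskiPrecoverage S = JP @IsOpenImmersion S := rfl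

end Groth.Agent.Lib.helper5.OverFam
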