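import Groth.Agent.Lib.Helper5.FieldQuotAlg
import Groth.Agent.Lib.Helper5.OverSheafFam
import Groth.Prelude.Def_AlgSpDec

set_option autoImplicit false
universe u
open TensorProduct CategoryTheory CategoryTheory.Limits AlgebraicGeometry

namespace Groth.Agent.Lib.helper5.FieldQuot

section Geo
variable {K B : Type u} [Field K] [CommRing B] [Algebra K B] (t : K →+* B)

/-- The projection `Spec K ⟶ Spec k`. -/
noncomputable abbrev proj : Spec (CommRingCat.of K) ⟶ Spec (CommRingCat.of (eqField t)) :=
  Spec.map (CommRingCat.ofHom (algebraMap (eqField t) K))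

theorem exists_lift_of_eq (hd : EqvData t) {Z : Scheme.{u}} (g₁ g₂ : Z ⟶ Spec (CommRingCat.of K))
    (h : g₁ ≫ proj t = g₂ ≫ proj t) :
    ∃ l : Z ⟶ Spec (CommRingCat.of B),
      l ≫ Spec.map (CommRingCat.ofHom (algebraMap K B)) = g₁ ∧ l ≫ Spec.map (CommRingCat.ofHom t) = g₂ := by
  let E : (K ⊗[eqField t] K) ≃ₐ[K] B := AlgEquiv.ofBijective (psi t) (psi_bijective t hd)
  refine ⟨pullback.lift g₁ g₂ h ≫ (pullbackSpecIso (eqField t) K K).hom ≫
    Spec.map (CommRingCat.ofHom E.symm.toRingEquiv.toRingHom), ?_, ?_⟩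
  · rw [Category.assoc, Category.assoc, ← Spec.map_comp]
    have : CommRingCat.ofHom (algebraMap K B) ≫ CommRingCat.ofHom E.symm.toRingEquiv.toRingHom =
        CommRingCat.ofHom (Algebra.TensorProduct.includeLeftRingHom) := by
      ext a
      change E.symm (algebraMap K B a) = a ⊗ₜ 1
      rw [AlgEquiv.symm_apply_eq]
      change algebraMap K B a = psi t (a ⊗ₜ 1)
      rw [psi_tmul, map_one, mul_one]
    rw [this, pullbackSpecIso_hom_fst, pullback.lift_fst]
  · rw [Category.assoc, Category.assoc, ← Spec.map_comp]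
    have : CommRingCat.ofHom t ≫ CommRingCat.ofHom E.symm.toRingEquiv.toRingHom =
        CommRingCat.ofHom (RingHomClass.toRingHom (Algebra.TensorProduct.includeRight (R := eqField t) (A := K) (B := K))) := by
      ext a
      change E.symm (t a) = 1 ⊗ₜ a
      rw [AlgEquiv.symm_apply_eq]
      change t a = psi t (1 ⊗ₜ a)
      rw [psi_tmul, map_one, one_mul]
    rw [this, pullbackSpecIso_hom_snd, pullback.lift_snd]

theorem flat_proj : Flat (proj t) := by
  rw [HasRingHomProperty.Spec_iff (P := @Flat)]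
  exact (inferInstance : Module.Flat (eqField t) K)

theorem surjective_proj : Surjective (proj t) := by
  have : Subsingleton ↥(Spec (CommRingCat.of (eqField t))) :=
    inferInstanceAs (Subsingleton (PrimeSpectrum (eqField t)))
  exact ⟨fun y => ⟨(IsLocalRing.closedPoint K : ↥(Spec (CommRingCat.of K))),
    @Subsingleton.elim ↥(Spec (CommRingCat.of (eqField t))) this _ _⟩⟩

theorem isFinite_proj (hd : EqvData t) : IsFinite (proj t) := by
  have := finite_eqField t hd
  rw [IsFinite.SpecMap_iff]
  exact RingHom.finite_algebraMap.2 this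

theorem lfp_proj (hd : EqvData t) : LocallyOfFinitePresentation (proj t) := by
  have := finite_eqField t hd
  rw [HasRingHomProperty.Spec_iff (P := @LocallyOfFinitePresentation)]
  have h1 : Algebra.FiniteType (eqField t) K := inferInstance
  have h2 : Algebra.FinitePresentation (eqField t) K := Algebra.FinitePresentation.of_finiteType.1 h1
  exact RingHom.finitePresentation_algebraMap.2 h2

theorem exists_str (hd : EqvData t) {S : Scheme.{u}} (str : Spec (CommRingCat.of K) ⟶ S)
    (hstr : Spec.map (CommRingCat.ofHom (algebraMap K B)) ≫ str = Spec.map (CommRingCat.ofHom t) ≫ str) :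
    ∃ str' : Spec (CommRingCat.of (eqField t)) ⟶ S, proj t ≫ str' = str := by
  have := flat_proj t
  have := surjective_proj t
  have := lfp_proj t hd
  have : EffectiveEpi (proj t) := inferInstance
  have key : ∀ {Z : Scheme.{u}} (g₁ g₂ : Z ⟶ Spec (CommRingCat.of K)),
      g₁ ≫ proj t = g₂ ≫ proj t → g₁ ≫ str = g₂ ≫ str := by
    intro Z g₁ g₂ h
    obtain ⟨l, rfl, rfl⟩ := exists_lift_of_eq t hd g₁ g₂ h
    rw [Category.assoc, Category.assoc, hstr]
  exact ⟨EffectiveEpi.desc (proj t) str key, EffectiveEpi.fac _ _ key⟩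

end Geo
section Sheaf
open AlgSp Opposite

variable {S : Scheme.{u}} {X : Sp S} (q : FieldPt X) {B : CommRingCat.{u}} {σ : Spec B ⟶ S}
  (s t : Over.mk σ ⟶ q.pt)

theorem lift_pair (sq : IsPullback ((yon S).map t) ((yon S).map s) q.toHom q.toHom) {Z : Over S}
    (a₁ a₂ : Z ⟶ q.pt) (h : (yon S).map a₁ ≫ q.toHom = (yon S).map a₂ ≫ q.toHom) :
    ∃ l : Z ⟶ Over.mk σ, l ≫ t = a₁ ∧ l ≫ s = a₂ := by
  obtain ⟨l, hl⟩ := (yon S).map_surjective (sq.lift _ _ h)
  refine ⟨l, (yon S).map_injective ?_, (yon S).map_injective ?_⟩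
  · rw [Functor.map_comp, hl]; exact sq.lift_fst _ _ h
  · rw [Functor.map_comp, hl]; exact sq.lift_snd _ _ h

theorem ext_pair (sq : IsPullback ((yon S).map t) ((yon S).map s) q.toHom q.toHom) {Z : Over S}
    (l l' : Z ⟶ Over.mk σ) (h₁ : l ≫ t = l' ≫ t) (h₂ : l ≫ s = l' ≫ s) : l = l' := by
  apply (yon S).map_injective
  apply sq.hom_ext
  · rw [← Functor.map_comp, ← Functor.map_comp, h₁]
  · rw [← Functor.map_comp, ← Functor.map_comp, h₂]

/-- The ring-level data attached to the self fibre product of a field point satisfy `EqvData`. -/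
theorem eqvData (sq : IsPullback ((yon S).map t) ((yon S).map s) q.toHom q.toHom) (hfin : IsFinite s.left)
    (sR tR : CommRingCat.of q.K ⟶ B) (hs : Spec.map sR = s.left) (ht : Spec.map tR = t.left) :
    letI : Algebra q.K B := sR.hom.toAlgebra
    EqvData tR.hom := by
  let _ : Algebra q.K B := sR.hom.toAlgebra
  have hσs : σ = Spec.map sR ≫ q.str := by rw [hs]; exact (Over.w s).symm
  have hσt : σ = Spec.map tR ≫ q.str := by rw [ht]; exact (Over.w t).symm
  have hw : (yon S).map t ≫ q.toHom = (yon S).map s ≫ q.toHom := sq.w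
  refine ⟨?_, ?_, ?_, ?_⟩
  · -- reflexivity
    obtain ⟨δ, hδt, hδs⟩ := lift_pair q s t sq (𝟙 q.pt) (𝟙 q.pt) rfl
    obtain ⟨eR, heR⟩ := Spec.map_surjective δ.left
    refine ⟨eR.hom, ?_, ?_⟩
    · have h1 : Spec.map (sR ≫ eR) = Spec.map (𝟙 _) := by
        rw [Spec.map_comp, heR, hs, ← Over.comp_left, hδs, Spec.map_id]; rfl
      have h2 := Spec.map_injective h1
      ext a
      exact congrArg (fun f => f.hom a) h2
    · have h1 : Spec.map (tR ≫ eR) = Spec.map (𝟙 _) := by
        rw [Spec.map_comp, heR, ht, ← Over.comp_left, hδt, Spec.map_id]; rfl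
      have h2 := Spec.map_injective h1
      ext a
      exact congrArg (fun f => f.hom a) h2
  · -- finiteness
    rw [← hs, IsFinite.SpecMap_iff] at hfin
    exact hfin
  · -- mono
    intro A _ h h' hhs hht
    have hhs' : sR ≫ CommRingCat.ofHom h = sR ≫ CommRingCat.ofHom h' := by
      ext a; exact RingHom.congr_fun hhs a
    have hht' : tR ≫ CommRingCat.ofHom h = tR ≫ CommRingCat.ofHom h' := by
      ext a; exact RingHom.congr_fun hht a
    let Z : Over S := Over.mk (Spec.map (CommRingCat.ofHom h) ≫ σ)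
    let a : Z ⟶ Over.mk σ := Over.homMk (Spec.map (CommRingCat.ofHom h)) rfl
    let a' : Z ⟶ Over.mk σ := Over.homMk (Spec.map (CommRingCat.ofHom h')) (by
      change Spec.map (CommRingCat.ofHom h') ≫ σ = Spec.map (CommRingCat.ofHom h) ≫ σ
      rw [hσs, ← Category.assoc, ← Category.assoc, ← Spec.map_comp, ← Spec.map_comp, hhs'])
    have haa : a = a' := by
      refine ext_pair q s t sq a a' ?_ ?_
      · ext1
        change Spec.map (CommRingCat.ofHom h) ≫ t.left = Spec.map (CommRingCat.ofHom h') ≫ t.left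
        rw [← ht, ← Spec.map_comp, ← Spec.map_comp, hht']
      · ext1
        change Spec.map (CommRingCat.ofHom h) ≫ s.left = Spec.map (CommRingCat.ofHom h') ≫ s.left
        rw [← hs, ← Spec.map_comp, ← Spec.map_comp, hhs']
    have h1 : Spec.map (CommRingCat.ofHom h) = Spec.map (CommRingCat.ofHom h') :=
      congrArg (fun f => f.left) haa
    have h2 := Spec.map_injective h1
    ext b
    exact congrArg (fun f => f.hom b) h2
  · -- transitivity
    intro A _ h1 h2 h12
    have h12' : sR ≫ CommRingCat.ofHom h1 = tR ≫ CommRingCat.ofHom h2 := by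
      ext a; exact RingHom.congr_fun h12 a
    let Z : Over S := Over.mk (Spec.map (CommRingCat.ofHom h1) ≫ σ)
    let a1 : Z ⟶ Over.mk σ := Over.homMk (Spec.map (CommRingCat.ofHom h1)) rfl
    let a2 : Z ⟶ Over.mk σ := Over.homMk (Spec.map (CommRingCat.ofHom h2)) (by
      change Spec.map (CommRingCat.ofHom h2) ≫ σ = Spec.map (CommRingCat.ofHom h1) ≫ σ
      conv_lhs => rw [hσt]
      conv_rhs => rw [hσs]
      rw [← Category.assoc, ← Category.assoc, ← Spec.map_comp, ← Spec.map_comp, h12'])
    have h3 : a1 ≫ s = a2 ≫ t := by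
      ext1
      change Spec.map (CommRingCat.ofHom h1) ≫ s.left = Spec.map (CommRingCat.ofHom h2) ≫ t.left
      rw [← hs, ← ht, ← Spec.map_comp, ← Spec.map_comp, h12']
    obtain ⟨l, hlt, hls⟩ := lift_pair q s t sq (a1 ≫ t) (a2 ≫ s) (by
      calc (yon S).map (a1 ≫ t) ≫ q.toHom = (yon S).map a1 ≫ (yon S).map t ≫ q.toHom := by
            rw [Functor.map_comp, Category.assoc]
        _ = (yon S).map (a1 ≫ s) ≫ q.toHom := by rw [hw, Functor.map_comp, Category.assoc]
        _ = (yon S).map a2 ≫ (yon S).map t ≫ q.toHom := by rw [h3, Functor.map_comp, Category.assoc]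
        _ = (yon S).map (a2 ≫ s) ≫ q.toHom := by rw [hw, Functor.map_comp, Category.assoc])
    obtain ⟨h3R, hh3⟩ := Spec.map_surjective l.left
    refine ⟨h3R.hom, ?_, ?_⟩
    · have e1 : Spec.map (tR ≫ h3R) = Spec.map (tR ≫ CommRingCat.ofHom h1) := by
        rw [Spec.map_comp, Spec.map_comp, hh3, ht]
        exact congrArg (fun f => f.left) hlt
      have e2 := Spec.map_injective e1
      ext a
      exact congrArg (fun f => f.hom a) e2
    · have e1 : Spec.map (sR ≫ h3R) = Spec.map (sR ≫ CommRingCat.ofHom h2) := by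
        rw [Spec.map_comp, Spec.map_comp, hh3, hs]
        exact congrArg (fun f => f.left) hls
      have e2 := Spec.map_injective e1
      ext a
      exact congrArg (fun f => f.hom a) e2

/-- A morphism of sheaves is a monomorphism as soon as it is injective on scheme-valued points. -/
theorem mono_of_sections_unique {F G : Sp S} (f : F ⟶ G)
    (hf : ∀ (T : Over S) (a b : (yon S).obj T ⟶ F), a ≫ f = b ≫ f → a = b) : Mono f := by
  constructor
  intro Z a b h
  apply Sheaf.hom_ext
  apply NatTrans.ext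
  funext T
  ext z
  induction T using Opposite.rec with | _ T => ?_
  have key := hf T ((AlgSp.J S).uliftYonedaEquiv.symm (a.hom.app _ z))
    ((AlgSp.J S).uliftYonedaEquiv.symm (b.hom.app _ z)) (by
      rw [GrothendieckTopology.uliftYonedaEquiv_symm_naturality_right,
        GrothendieckTopology.uliftYonedaEquiv_symm_naturality_right]
      congr 1
      have := congrArg (fun t => t.hom.app (Opposite.op T) z) h
      simpa using this)
  exact (AlgSp.J S).uliftYonedaEquiv.symm.injective key

/-- The field point attached to a morphism from the spectrum of a field. -/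
noncomputable def fieldPtOfHom {F : Sp S} (k : Type u) [Field k] (str : Spec (CommRingCat.of k) ⟶ S)
    (p : (yon S).obj (Over.mk str) ⟶ F) : FieldPt F :=
  ⟨k, str, (J S).uliftYonedaEquiv p⟩

theorem toHom_fieldPtOfHom {F : Sp S} (k : Type u) [Field k] (str : Spec (CommRingCat.of k) ⟶ S)
    (p : (yon S).obj (Over.mk str) ⟶ F) : (fieldPtOfHom k str p).toHom = p :=
  (J S).uliftYonedaEquiv.symm_apply_apply p

/-- Restricting along a morphism of field points in terms of sections. -/
theorem map_val_of_factor {p q : FieldPt X} (c : q.pt ⟶ p.pt)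
    (h : (yon S).map c ≫ p.toHom = q.toHom) : X.obj.map c.op p.val = q.val := by
  have h1 := congrArg (J S).uliftYonedaEquiv h
  rw [← GrothendieckTopology.uliftYonedaEquiv_naturality, FieldPt.uliftYonedaEquiv_toHom,
    FieldPt.uliftYonedaEquiv_toHom] at h1
  exact h1

theorem mk_eq_of_factor {p q : FieldPt X} (c : q.pt ⟶ p.pt)
    (h : (yon S).map c ≫ p.toHom = q.toHom) : Points.mk p = Points.mk q := by
  refine Points.sound ⟨q.K, inferInstance, q.str, c, 𝟙 _, ?_⟩
  rw [map_val_of_factor c h, op_id, Functor.map_id_apply]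

/-- **Quotient of a field point by its (finite) self fibre product**: a field point `q : Spec K ⟶ X` of an fppf sheaf whose
self fibre product is an affine scheme finite over `Spec K` factors through a monomorphism `Spec k ⟶ X`, `k ⊆ K` a subfield
with `K/k` finite. -/
theorem exists_mono_point_aux (sq : IsPullback ((yon S).map t) ((yon S).map s) q.toHom q.toHom)
    (hfin : IsFinite s.left) :
    ∃ (p : FieldPt X) (c : q.pt ⟶ p.pt), (yon S).map c ≫ p.toHom = q.toHom ∧ Mono p.toHom ∧ IsFinite c.left := by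
  obtain ⟨sR, hs⟩ := Spec.map_surjective s.left
  obtain ⟨tR, ht⟩ := Spec.map_surjective t.left
  let _ : Algebra q.K B := sR.hom.toAlgebra
  have hd : EqvData tR.hom := eqvData q s t sq hfin sR tR hs ht
  have hσs : σ = Spec.map sR ≫ q.str := by rw [hs]; exact (Over.w s).symm
  have hσt : σ = Spec.map tR ≫ q.str := by rw [ht]; exact (Over.w t).symm
  have hw : (yon S).map t ≫ q.toHom = (yon S).map s ≫ q.toHom := sq.w
  have hwv : X.obj.map t.op q.val = X.obj.map s.op q.val := by
    have h1 := congrArg (J S).uliftYonedaEquiv hw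
    rw [← GrothendieckTopology.uliftYonedaEquiv_naturality, ← GrothendieckTopology.uliftYonedaEquiv_naturality,
      FieldPt.uliftYonedaEquiv_toHom] at h1
    exact h1
  obtain ⟨str', hstr'⟩ := exists_str tR.hom hd q.str (by
    change Spec.map sR ≫ q.str = Spec.map tR ≫ q.str
    rw [← hσs, ← hσt])
  let pt' : Over S := Over.mk str'
  let c : q.pt ⟶ pt' := Over.homMk (proj tR.hom) hstr'
  have hflat := flat_proj tR.hom
  have hsurj := surjective_proj tR.hom
  have hlfp := lfp_proj tR.hom hd
  have hfam : OverFam.IsFam (@Flat ⊓ @LocallyOfFinitePresentation) (fun _ : PUnit.{1} => q.pt) (fun _ => c) :=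
    ⟨fun y => ⟨PUnit.unit, hsurj.surj y⟩, fun _ => ⟨hflat, hlfp⟩⟩
  have hX : Presheaf.IsSheaf (OverFam.JP (@Flat ⊓ @LocallyOfFinitePresentation) S) X.obj := by
    rw [← OverFam.J_eq_JP]
    exact X.property
  -- the key compatibility
  have hcompat : ∀ (Z : Over S) (g₁ g₂ : Z ⟶ q.pt), g₁ ≫ c = g₂ ≫ c →
      ∃ l : Z ⟶ Over.mk σ, l ≫ s = g₁ ∧ l ≫ t = g₂ := by
    intro Z g₁ g₂ h
    obtain ⟨l, hl1, hl2⟩ := exists_lift_of_eq tR.hom hd g₁.left g₂.left (congrArg (fun f => f.left) h)
    have hl1' : l ≫ Spec.map sR = g₁.left := hl1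
    refine ⟨Over.homMk l ?_, ?_, ?_⟩
    · change l ≫ σ = Z.hom
      rw [hσs, ← Category.assoc, hl1']
      exact Over.w g₁
    · ext1
      change l ≫ s.left = g₁.left
      rw [← hs, hl1']
    · ext1
      change l ≫ t.left = g₂.left
      rw [← ht]
      exact hl2
  obtain ⟨v, hv, -⟩ := OverFam.existsUnique_of_isFam hX hfam (fun _ => q.val) (by
    intro _ _ Z g₁ g₂ h
    obtain ⟨l, rfl, rfl⟩ := hcompat Z g₁ g₂ h
    rw [op_comp, op_comp, Functor.map_comp_apply, Functor.map_comp_apply, hwv])
  let p : FieldPt X := ⟨eqField tR.hom, str', v⟩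
  have hfac : (yon S).map c ≫ p.toHom = q.toHom := by
    apply (J S).uliftYonedaEquiv.injective
    rw [← GrothendieckTopology.uliftYonedaEquiv_naturality, FieldPt.uliftYonedaEquiv_toHom]
    have hp : (J S).uliftYonedaEquiv p.toHom = v := FieldPt.uliftYonedaEquiv_toHom p
    exact (congrArg _ hp).trans (hv PUnit.unit)
  refine ⟨p, c, hfac, ?_, isFinite_proj tR.hom hd⟩
  -- monomorphism
  refine mono_of_sections_unique p.toHom (fun Z a' b' hab => ?_)
  obtain ⟨a, rfl⟩ := (yon S).map_surjective a'
  obtain ⟨b, rfl⟩ := (yon S).map_surjective b'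
  congr 1
  -- fppf cover of `Z` on which `a` and `b` lift to `Spec K`
  let f₁ := pullback.fst c a
  let e₁ := pullback.snd c a
  let f₂ := pullback.fst c (e₁ ≫ b)
  let e₂ := pullback.snd c (e₁ ≫ b)
  have hc1 : f₁ ≫ c = e₁ ≫ a := pullback.condition
  have hc2 : f₂ ≫ c = e₂ ≫ e₁ ≫ b := pullback.condition
  have hq : (yon S).map (e₂ ≫ f₁) ≫ q.toHom = (yon S).map f₂ ≫ q.toHom := by
    rw [← hfac, ← Category.assoc, ← Category.assoc, ← Functor.map_comp, ← Functor.map_comp, Category.assoc, hc1,
      hc2, Functor.map_comp, Functor.map_comp, Functor.map_comp, Functor.map_comp, Category.assoc,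
      Category.assoc, Category.assoc, Category.assoc, hab]
  obtain ⟨l, hlt, hls⟩ := lift_pair q s t sq (e₂ ≫ f₁) f₂ hq
  have htc : t ≫ c = s ≫ c := by
    ext1
    change t.left ≫ proj tR.hom = s.left ≫ proj tR.hom
    rw [← hs, ← ht, ← Spec.map_comp, ← Spec.map_comp]
    congr 1
    ext x
    exact ((mem_eqField tR.hom x.1).1 x.2).symm
  have hee : (e₂ ≫ e₁) ≫ a = (e₂ ≫ e₁) ≫ b := by
    rw [Category.assoc, Category.assoc, ← hc1, ← hc2, ← Category.assoc, ← hlt, ← hls, Category.assoc,
      Category.assoc, htc]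
  -- `e₂ ≫ e₁` is an epimorphism
  have hfam1 := hfam.pullback a
  have hfam2 := hfam.pullback (e₁ ≫ b)
  have h1 : Epi e₁.left := by
    have hP := hfam1.2 PUnit.unit
    have : Flat e₁.left := hP.1
    have : LocallyOfFinitePresentation e₁.left := hP.2
    have : Surjective e₁.left := ⟨fun y => by obtain ⟨_, z, hz⟩ := hfam1.1 y; exact ⟨z, hz⟩⟩
    infer_instance
  have h2 : Epi e₂.left := by
    have hP := hfam2.2 PUnit.unit
    have : Flat e₂.left := hP.1
    have : LocallyOfFinitePresentation e₂.left := hP.2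
    have : Surjective e₂.left := ⟨fun y => by obtain ⟨_, z, hz⟩ := hfam2.1 y; exact ⟨z, hz⟩⟩
    infer_instance
  ext1
  have h3 : (e₂.left ≫ e₁.left) ≫ a.left = (e₂.left ≫ e₁.left) ≫ b.left := congrArg (fun f => f.left) hee
  exact (cancel_epi _).1 h3

end Sheaf

section General
open AlgSp Opposite
variable {S : Scheme.{u}} {X : Sp S}

/-- Version with an arbitrary representing scheme. -/
theorem exists_mono_point (q : FieldPt X) {T : Over S} (s t : T ⟶ q.pt)
    (sq : IsPullback ((yon S).map t) ((yon S).map s) q.toHom q.toHom) (hfin : IsFinite s.left) :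
    ∃ (p : FieldPt X) (c : q.pt ⟶ p.pt), (yon S).map c ≫ p.toHom = q.toHom ∧ Mono p.toHom ∧ IsFinite c.left := by
  have : IsAffine q.pt.left := inferInstanceAs (IsAffine (Spec _))
  have haff : IsAffine T.left := isAffine_of_isAffineHom s.left
  let e : T.left ≅ Spec Γ(T.left, ⊤) := T.left.isoSpec
  let T' : Over S := Over.mk (e.inv ≫ T.hom)
  let ε : T' ≅ T := Over.isoMk e.symm (by simp [T'])
  have sq' : IsPullback ((yon S).map (ε.hom ≫ t)) ((yon S).map (ε.hom ≫ s)) q.toHom q.toHom := by
    refine IsPullback.of_iso sq ((yon S).mapIso ε.symm) (Iso.refl _) (Iso.refl _) (Iso.refl _) ?_ ?_ ?_ ?_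
    · simp [← Functor.map_comp]
    · simp [← Functor.map_comp]
    · simp
    · simp
  have hfin' : IsFinite (ε.hom ≫ s).left := by
    rw [Over.comp_left]
    infer_instance
  exact exists_mono_point_aux q (ε.hom ≫ s) (ε.hom ≫ t) sq' hfin'

theorem lqf_of_etale {X Y : Scheme.{u}} (g : X ⟶ Y) [Etale g] : LocallyQuasiFinite g := by
  constructor
  intro U hU V hV e
  have h := Etale.etale_appLE g hU hV e
  algebraize [(g.appLE U V e).hom]
  show Algebra.QuasiFinite _ _
  infer_instance

/-- An étale quasi-compact morphism to the spectrum of a field is finite. -/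
theorem isFinite_of_etale_qc {K : Type u} [Field K] {T : Scheme.{u}} (g : T ⟶ Spec (CommRingCat.of K))
    [Etale g] [QuasiCompact g] : IsFinite g := by
  have := lqf_of_etale g
  have : IsLocallyArtinian (Spec (CommRingCat.of K)) := inferInstance
  exact IsFinite.of_locallyQuasiFinite g

/-- A representable morphism to a representable sheaf has representable source. -/
theorem exists_rep_of_repWith {Q : MorphismProperty Scheme.{u}} {P : Sp S} {U : Over S}
    (f : P ⟶ (yon S).obj U) (hf : RepWith Q f) :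
    ∃ (T : Over S) (e : (yon S).obj T ≅ P) (g : T ⟶ U), e.hom ≫ f = (yon S).map g ∧ Q g.left := by
  obtain ⟨T, snd, fst, sq⟩ := hf.1 (𝟙 ((yon S).obj U))
  have hiso : IsIso fst := sq.isIso_fst_of_isIso
  refine ⟨T, asIso fst, snd, ?_, hf.2 _ _ _ sq⟩
  have := sq.w
  simpa using this

/-- Version for an abstract self fibre product with one etale quasi-compact projection. -/
theorem exists_mono_point_of_etale_qc (q : FieldPt X) {P : Sp S} (fst snd : P ⟶ (yon S).obj q.pt)
    (sq : IsPullback fst snd q.toHom q.toHom) (he : RepWith @Etale fst) (hqc : RepWith @QuasiCompact fst) :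
    ∃ (p : FieldPt X) (c : q.pt ⟶ p.pt), (yon S).map c ≫ p.toHom = q.toHom ∧ Mono p.toHom ∧ IsFinite c.left := by
  obtain ⟨T, e, s, hs, hse⟩ := exists_rep_of_repWith fst he
  obtain ⟨t, ht⟩ := (yon S).map_surjective (e.hom ≫ snd)
  have hsq : RepWith @QuasiCompact ((yon S).map s) := by
    rw [← hs]
    exact MorphismProperty.RespectsIso.precomp _ e.hom _ hqc
  have hsqc : QuasiCompact s.left := (repWith_yon_map_iff @QuasiCompact s).1 hsq
  have hset : Etale s.left := hse
  have hfin : IsFinite s.left := isFinite_of_etale_qc (K := q.K) s.left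
  refine exists_mono_point q s t ?_ hfin
  refine IsPullback.of_iso sq.flip e.symm (Iso.refl _) (Iso.refl _) (Iso.refl _) ?_ ?_ ?_ ?_
  · simp [ht]
  · simp [← hs]
  · simp
  · simp



end General

end Groth.Agent.Lib.helper5.FieldQuot
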