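import Groth.Agent.Lib.Helper5.OverField4
import Groth.Agent.Lib.Helper5.FieldQuot
import Groth.Agent.Lib.Helper5.AlgSpAffDesc
import Groth.Prelude.Def_W4decUnivBdd

/-!
# Universally bounded fibres: basic tools (helper5)

* `degFibresLE_yon_map`: a morphism of schemes over `S` whose scheme-theoretic fibres over field points are finite
  of degree `≤ d` has `DegFibresLE d`.
* `degFibresLE_one_of_isOpenImmersion`: open immersions have fibres of degree `≤ 1`.
* `degFibresLE_of_openCover`: the degree of fibres can be bounded on a finite open cover of the source.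
-/

set_option autoImplicit false
universe u
open CategoryTheory CategoryTheory.Limits AlgebraicGeometry Opposite Topology TensorProduct
open AlgSp

namespace Groth.Agent.Lib.helper5.UBF

open Groth.Agent.Lib.helper5 Groth.Agent.Lib.helper5.OverField

variable {S : Scheme.{u}}

/-- scheme-level fibre bound ⇒ `DegFibresLE` -/
theorem degFibresLE_yon_map {U W : Over S} (g : W ⟶ U) (d : ℕ)
    (H : ∀ (κ : Type u) [Field κ] (x : Spec (CommRingCat.of κ) ⟶ U.left) (F : Scheme.{u})
      (e : F ⟶ Spec (CommRingCat.of κ)) (g' : F ⟶ W.left), IsPullback e g' x g.left →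
        IsFinite e ∧ ∀ s, e.finrank s ≤ d) :
    W4dec.DegFibresLE d ((AlgSp.yon S).map g) := by
  intro q T c snd sq
  obtain ⟨snd₀, rfl⟩ := (yon S).map_surjective snd
  obtain ⟨x, hx⟩ := (yon S).map_surjective q.toHom
  rw [← hx] at sq
  exact H q.K x.left T.left c.left snd₀.left (AffDesc.isPullback_left_of_yon sq)

/-- open immersions have fibres of degree at most one -/
theorem degFibresLE_one_of_isOpenImmersion {U W : Over S} (g : W ⟶ U) [IsOpenImmersion g.left] :
    W4dec.DegFibresLE 1 ((AlgSp.yon S).map g) := by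
  apply degFibresLE_yon_map
  intro κ _ x F e g' hpb
  have hoi : IsOpenImmersion e := MorphismProperty.of_isPullback hpb.flip inferInstance
  by_cases hF : IsEmpty ↥F
  · exact ⟨inferInstance, fun s => (finrank_eq_zero_of_isEmpty e s).le.trans zero_le_one⟩
  · rw [not_isEmpty_iff] at hF
    have hs : Surjective e := surjective_of_field e
    have : Epi e.base := by
      rw [TopCat.epi_iff_surjective]
      exact hs.surj
    have : IsIso e := IsOpenImmersion.isIso e
    exact ⟨inferInstance, fun s => (congrFun (Scheme.Hom.finrank_eq_one_of_isIso e) s).le⟩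

/-- the degree of fibres can be bounded on a finite open cover of the source -/
theorem degFibresLE_of_openCover {F : AlgSp.Sp S} {V : Over S} (ψ : (yon S).obj V ⟶ F)
    {ι : Type*} [Fintype ι] (O : ι → V.left.Opens) (hcov : ∀ x : ↥V.left, ∃ i, x ∈ O i) (n : ι → ℕ)
    (h : ∀ i, W4dec.DegFibresLE (n i)
      ((yon S).map (Over.homMk (U := Over.mk ((O i).ι ≫ V.hom)) (V := V) (O i).ι rfl) ≫ ψ)) :
    W4dec.DegFibresLE (∑ i, n i) ψ := by
  intro q T c snd sq
  obtain ⟨snd₀, rfl⟩ := (yon S).map_surjective snd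
  refine isFinite_of_finite_openCover c.left (fun i => snd₀.left ⁻¹ᵁ (O i))
    (fun x => hcov (snd₀.left x)) n (fun i => ?_)
  have sq0 := isPullback_morphismRestrict snd₀.left (O i)
  let Ti : Over S := Over.mk ((snd₀.left ⁻¹ᵁ (O i)).ι ≫ T.hom)
  let ιT : Ti ⟶ T := Over.homMk (snd₀.left ⁻¹ᵁ (O i)).ι rfl
  let Vi : Over S := Over.mk ((O i).ι ≫ V.hom)
  let ιV : Vi ⟶ V := Over.homMk (O i).ι rfl
  let r : Ti ⟶ Vi := Over.homMk (snd₀.left ∣_ (O i)) (by
    have := Over.w snd₀
    change (snd₀.left ∣_ (O i)) ≫ (O i).ι ≫ V.hom = (snd₀.left ⁻¹ᵁ (O i)).ι ≫ T.hom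
    rw [← Category.assoc, sq0.w, Category.assoc, this])
  have sq1 : IsPullback ιT r snd₀ ιV := by
    refine IsPullback.of_map (Over.forget S) ?_ sq0.flip
    apply Over.OverMorphism.ext
    simp [ιT, r, ιV]
  have sq2 := sq1.map (yon S)
  have big := (sq2.flip.paste_vert sq.flip).flip
  rw [← Functor.map_comp] at big
  exact h i q Ti (ιT ≫ c) ((yon S).map r) big

end Groth.Agent.Lib.helper5.UBF
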