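import Mathlib
import Groth.Prelude.Def_AlgSpDec
import Groth.Prelude.Def_Dual3
import Groth.Agent.Lib.Helper3.FibreComp
import Groth.Agent.Lib.Helper17.LocPAtChart

/-!
# Residue transcendence degree: étale invariance and chart independence (helper5)

* `td_residueFieldMap_eq_zero_of_etale`: for `k` étale (formally unramified + lft) the residue field extension
  at any point is algebraic: `td (k.residueFieldMap t).hom = 0`.
* `resTrdeg_comp_etale_left/right`.
* `locPAt_resTrdeg_of_hasAtMor`: SOME chart ⇒ ALL charts for `p (Dual3.resTrdeg h u)`.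
-/

set_option autoImplicit false
universe u
open CategoryTheory CategoryTheory.Limits AlgebraicGeometry
open AlgSp

namespace Groth.Agent.Lib.helper5.ResTrdegChart

open Groth.Agent.Lib.helper3.DimIneq

theorem td_residueFieldMap_eq_zero {T V : Scheme.{u}} (k : T ⟶ V) [FormallyUnramified k]
    [LocallyOfFiniteType k] (t : T) : td (k.residueFieldMap t).hom = 0 := by
  letI : Algebra (V.residueField (k t)) (T.residueField t) := (k.residueFieldMap t).hom.toAlgebra
  haveI : Algebra.IsSeparable (V.residueField (k t)) (T.residueField t) := inferInstance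
  haveI : Algebra.IsAlgebraic (V.residueField (k t)) (T.residueField t) :=
    Algebra.IsSeparable.isAlgebraic _ _
  exact trdeg_eq_zero

theorem resTrdeg_eq_td {X Y : Scheme.{u}} (f : X ⟶ Y) (x : X) :
    Dual3.resTrdeg f x = td (f.residueFieldMap x).hom := rfl

theorem resTrdeg_comp_etale_left {W U V : Scheme.{u}} (g : W ⟶ U) [Etale g] (h : U ⟶ V) (w : W) :
    Dual3.resTrdeg (g ≫ h) w = Dual3.resTrdeg h (g w) := by
  rw [resTrdeg_eq_td, resTrdeg_eq_td,
    Groth.Agent.Lib.helper3.FibreComp.td_residueFieldMap_comp g h w, td_residueFieldMap_eq_zero g w,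
    add_zero]

theorem resTrdeg_comp_etale_right {W T V : Scheme.{u}} (m : W ⟶ T) (k : T ⟶ V) [Etale k] (w : W) :
    Dual3.resTrdeg (m ≫ k) w = Dual3.resTrdeg m w := by
  rw [resTrdeg_eq_td, resTrdeg_eq_td,
    Groth.Agent.Lib.helper3.FibreComp.td_residueFieldMap_comp m k w, td_residueFieldMap_eq_zero k (m w),
    zero_add]

variable {S : Scheme.{u}}

/-- Chart independence of "the residue transcendence degree satisfies `p`". -/
theorem locPAt_resTrdeg_of_hasAtMor {X Y : Sp S} (f : X ⟶ Y) (x : Points X) (p : Cardinal.{u} → Prop)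
    (hd : HasAtMor (fun _ _ h u => p (Dual3.resTrdeg h u)) f x) :
    LocPAt (fun h u => p (Dual3.resTrdeg h u)) f x := by
  obtain ⟨U, V, a, b, h, u, hae, hbe, hc, hu, hQ⟩ := hd
  refine Groth.Agent.Lib.helper17.LocPAtChart.locPAt_of_chart
    (Q := fun h u => p (Dual3.resTrdeg h u)) ?_ ?_ f x a b h u hae hbe hc hu hQ
  · intro W U V g _ h w
    rw [resTrdeg_comp_etale_left]
  · intro W T V m k _ w
    rw [resTrdeg_comp_etale_right]

end Groth.Agent.Lib.helper5.ResTrdegChart
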