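import Groth.Agent.Lib.Helper5.AlgSpFpqcIso
import Mathlib.RingTheory.Finiteness.Descent
import Mathlib.AlgebraicGeometry.Morphisms.Integral
import Mathlib.AlgebraicGeometry.Morphisms.Finite

/-!
fpqc descent of `affineAnd Q` properties for morphisms of AFFINE schemes along a standard fpqc covering (helper5), and
faithfully flat descent of integrality of ring homomorphisms.
-/

set_option autoImplicit false
universe u
open CategoryTheory CategoryTheory.Limits AlgebraicGeometry Opposite TensorProduct

namespace Groth.Agent.Lib.helper5.AffDescProp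

/-- Integrality descends along faithfully flat ring maps. -/
theorem isIntegral_of_tensorProduct_of_faithfullyFlat {R : Type*} (S : Type*) {T : Type*} [CommRing R]
    [CommRing S] [CommRing T] [Algebra R S] [Algebra R T] [Module.FaithfullyFlat R S]
    [Algebra.IsIntegral S (S ⊗[R] T)] : Algebra.IsIntegral R T := by
  refine ⟨fun t => ?_⟩
  let T₀ : Subalgebra R T := Algebra.adjoin R {t}
  have hft : Algebra.FiniteType R T₀ := Algebra.FiniteType.adjoin_of_finite (Set.finite_singleton t)
  let φ : S ⊗[R] T₀ →ₐ[S] S ⊗[R] T := Algebra.TensorProduct.map (AlgHom.id S S) T₀.val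
  have hφ : Function.Injective φ := by
    have : (φ : S ⊗[R] T₀ → S ⊗[R] T) = LinearMap.lTensor S T₀.val.toLinearMap := by
      ext x
      induction x with
      | zero => simp
      | add x y hx hy => simp only [map_add, hx, hy]
      | tmul a b => rfl
    rw [this]
    exact Module.Flat.lTensor_preserves_injective_linearMap _ Subtype.val_injective
  have hint : Algebra.IsIntegral S (S ⊗[R] T₀) :=
    ⟨fun x => (isIntegral_algHom_iff φ hφ).1 (Algebra.IsIntegral.isIntegral _)⟩
  have hfin : Module.Finite S (S ⊗[R] T₀) := Algebra.IsIntegral.finite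
  have hfin' : Module.Finite R T₀ := Module.Finite.of_finite_tensorProduct_of_faithfullyFlat S
  have hint' : Algebra.IsIntegral R T₀ := Algebra.IsIntegral.of_finite R T₀
  have h1 : IsIntegral R (⟨t, Algebra.subset_adjoin (Set.mem_singleton t)⟩ : T₀) :=
    Algebra.IsIntegral.isIntegral _
  exact (isIntegral_algHom_iff T₀.val Subtype.val_injective).2 h1

theorem RingHom.IsIntegral.codescendsAlong_faithfullyFlat :
    RingHom.CodescendsAlong (fun f => RingHom.IsIntegral f) RingHom.FaithfullyFlat := by
  refine .mk _ RingHom.isIntegral_respectsIso fun R S T _ _ _ _ _ h h' ↦ ?_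
  rw [RingHom.faithfullyFlat_algebraMap_iff] at h
  have : Algebra.IsIntegral S (S ⊗[R] T) := ⟨h'⟩
  have := isIntegral_of_tensorProduct_of_faithfullyFlat (R := R) S (T := T)
  exact this.isIntegral

/-- codescent in `CommRingCat` pushout form -/
theorem codescend_of_isPushout {Q : ∀ {R S : Type u} [CommRing R] [CommRing S], (R →+* S) → Prop}
    (hQ : RingHom.CodescendsAlong (fun f => Q f) RingHom.FaithfullyFlat)
    {R₀ S₀ R' S' : CommRingCat.{u}} (ψ : R₀ ⟶ S₀) (γ : R₀ ⟶ R') (φ₁ : S₀ ⟶ S') (φ₂ : R' ⟶ S')
    (po : IsPushout ψ γ φ₁ φ₂) (hff : γ.hom.FaithfullyFlat) (h : Q φ₂.hom) : Q ψ.hom := by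
  algebraize [ψ.hom, γ.hom, φ₁.hom, φ₂.hom]
  let _ : Algebra R₀ S' := (ψ ≫ φ₁).hom.toAlgebra
  have : IsScalarTower R₀ S₀ S' := .of_algebraMap_eq' rfl
  have : IsScalarTower R₀ R' S' := .of_algebraMap_eq' (by
    show (ψ ≫ φ₁).hom = (γ ≫ φ₂).hom
    rw [po.w])
  have hpo : Algebra.IsPushout R₀ S₀ R' S' := CommRingCat.isPushout_iff_isPushout.1 po
  exact hQ hff h

open MorphismProperty in
/-- fpqc descent along a standard fpqc covering (finite family) for a property `P` with affine property `affineAnd Q`, when the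
source is already known to be affine and `Q` codescends along faithfully flat maps. -/
theorem of_finite_flat_family_affineAnd {P : MorphismProperty Scheme.{u}}
    {Q : ∀ {R S : Type u} [CommRing R] [CommRing S], (R →+* S) → Prop}
    (hP : HasAffineProperty P (affineAnd Q))
    (hQ : RingHom.CodescendsAlong (fun f => Q f) RingHom.FaithfullyFlat)
    {A Z : Scheme.{u}} [IsAffine A] [IsAffine Z] (g : A ⟶ Z) {m : ℕ} (W : Fin m → Scheme.{u})
    (c : ∀ j, W j ⟶ Z) [∀ j, IsAffine (W j)] [∀ j, Flat (c j)]
    (hsurj : ∀ z : Z, ∃ j, z ∈ Set.range (c j))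
    (T : Fin m → Scheme.{u}) (fst : ∀ j, T j ⟶ A) (snd : ∀ j, T j ⟶ W j)
    (sq : ∀ j, IsPullback (fst j) (snd j) g (c j)) (h : ∀ j, P (snd j)) : P g := by
  let c' : ∐ W ⟶ Z := Sigma.desc c
  have hfs : Surjective c' := by
    refine ⟨fun z => ?_⟩
    obtain ⟨j, w, hw⟩ := hsurj z
    refine ⟨Sigma.ι W j w, ?_⟩
    rw [← Scheme.Hom.comp_apply, Sigma.ι_desc, hw]
  have hsnd : P (pullback.snd g c') := by
    rw [IsZariskiLocalAtTarget.iff_of_openCover (P := P) (sigmaOpenCover W)]
    intro j
    have s1 : IsPullback (pullback.snd (pullback.snd g c') (Sigma.ι W j))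
        (pullback.fst (pullback.snd g c') (Sigma.ι W j)) (Sigma.ι W j) (pullback.snd g c') :=
      (IsPullback.of_hasPullback _ _).flip
    have s2 : IsPullback (pullback.snd g c') (pullback.fst g c') c' g :=
      (IsPullback.of_hasPullback _ _).flip
    have s3 := (s1.paste_vert s2).flip
    have hc' : Sigma.ι W j ≫ c' = c j := Sigma.ι_desc _ _
    rw [hc'] at s3
    have e := IsPullback.isoIsPullback_hom_snd _ _ s3 (sq j)
    change P (pullback.snd (pullback.snd g c') (Sigma.ι W j))
    rw [← e]
    exact (P.cancel_left_of_respectsIso _ _).2 (h j)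
  have hW : IsAffine (∐ W) := inferInstance
  have hpb : IsAffine (pullback g c') := inferInstance
  have hQsnd : Q (pullback.snd g c').appTop.hom :=
    ((affineAnd_apply _ _).1 ((HasAffineProperty.iff_of_isAffine (P := P)).1 hsnd)).2
  have hff : c'.appTop.hom.FaithfullyFlat :=
    (Flat.flat_and_surjective_iff_faithfullyFlat_of_isAffine c').1 ⟨inferInstance, hfs⟩
  have po := isPushout_appTop_of_isPullback (IsPullback.of_hasPullback g c')
  rw [HasAffineProperty.iff_of_isAffine (P := P), affineAnd_apply]
  refine ⟨inferInstance, ?_⟩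
  exact codescend_of_isPushout hQ _ _ _ _ po hff hQsnd

end Groth.Agent.Lib.helper5.AffDescProp
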