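import Groth.Agent.Lib.Helper5.AlgSpAffDesc3
import Groth.Agent.Lib.Helper5.AffDescProp

/-!
fpqc locality on the base of `AffineWith P` for `P` with affine property `affineAnd Q`, `Q` codescending along faithfully flat ring
maps (helper5).
-/

set_option autoImplicit false
universe u
open CategoryTheory CategoryTheory.Limits AlgebraicGeometry Opposite
open AlgSp

namespace Groth.Agent.Lib.helper5.AffDesc

variable {S : Scheme.{u}}

theorem isLocalOnBase_fpqc_affineWith {P : MorphismProperty Scheme.{u}}
    {Q : ∀ {R S : Type u} [CommRing R] [CommRing S], (R →+* S) → Prop}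
    (hP : HasAffineProperty P (affineAnd Q))
    (hQ : RingHom.CodescendsAlong (fun f => Q f) RingHom.FaithfullyFlat) :
    IsLocalOnBase (IsFpqcCover (S := S)) (AffineWith P) := by
  intro ι Y Yi g hY hYi hg X f hX Xi p q hXi sq
  constructor
  · intro hf i
    exact AffineWith.of_isPullback (sq i) hf
  · intro hp Z hZ h
    obtain ⟨W, k, fst, h1, h2, m, V, c, hVa, hcf, hcs, hj⟩ :=
      exists_affine_pullback_of_fpqc P Yi g hY hg f hX Xi p q sq hp hZ h
    refine ⟨W, k, fst, h1, h2, ?_⟩
    choose W' k' b sqj hPj using hj
    have : IsAffine Z.left := hZ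
    have : ∀ j, IsAffine (V j).left := hVa
    have : ∀ j, Flat (c j).left := hcf
    exact AffDescProp.of_finite_flat_family_affineAnd hP hQ k.left (fun j => (V j).left)
      (fun j => (c j).left) hcs (fun j => (W' j).left) (fun j => (b j).left)
      (fun j => (k' j).left) (fun j => (sqj j).map (Over.forget S)) hPj

end Groth.Agent.Lib.helper5.AffDesc
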