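import Groth.Agent.Lib.Helper5.AlgSpLocPInst2
import Groth.Agent.Lib.Helper10.AlgSpPoints
import Groth.Agent.Lib.Helper11.AlgSpBasic
import Groth.Agent.S10266

/-!
# Lemmas for smooth / étale-smooth local on source-and-target (helper5)
-/

set_option autoImplicit false
universe u
open CategoryTheory CategoryTheory.Limits AlgebraicGeometry
open AlgSp

namespace Groth.Agent.Lib.helper5.SmLocal

variable {S : Scheme.{u}}

theorem isEtaleMor_id (F : Sp S) : IsEtaleMor (𝟙 F) := fun U φ hφ => by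
  rwa [Category.comp_id]

theorem locP_smooth_of_isEtaleMor {F G : Sp S} (f : F ⟶ G) (hf : IsEtaleMor f) :
    LocP @Smooth f :=
  Groth.Agent.S10265.locP_mono (fun _ _ g hg => by
    have : Etale g := hg
    exact (inferInstance : Smooth g)) (Groth.Agent.S10265.locP_etale_of_isEtaleMor f hf)

theorem locP_smooth_id (F : Sp S) : LocP @Smooth (𝟙 F) :=
  locP_smooth_of_isEtaleMor _ (isEtaleMor_id F)

/-- the two-member family `{g, 𝟙}` -/
def pairObj (X X' : Sp S) (i : ULift.{u} Bool) : Sp S :=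
  match i with
  | ⟨true⟩ => X'
  | ⟨false⟩ => X

def pairHom {X X' : Sp S} (g : X' ⟶ X) (i : ULift.{u} Bool) : pairObj X X' i ⟶ X :=
  match i with
  | ⟨true⟩ => g
  | ⟨false⟩ => 𝟙 X

theorem isAlgSpace_pairObj {X X' : Sp S} (hX : IsAlgSpace X) (hX' : IsAlgSpace X')
    (i : ULift.{u} Bool) : IsAlgSpace (pairObj X X' i) :=
  match i with
  | ⟨true⟩ => hX'
  | ⟨false⟩ => hX

theorem isCover_pair (P : MorphismProperty (Sp S)) {X X' : Sp S} (g : X' ⟶ X) (hg : P g)
    (hid : P (𝟙 X)) : IsCover P (pairObj X X') (pairHom g) := by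
  refine ⟨fun i => ?_, fun x => ⟨⟨false⟩, x, Points.map_id x⟩⟩
  match i with
  | ⟨true⟩ => exact hg
  | ⟨false⟩ => exact hid

/-- local on the source ⇒ stable under precomposition with a covering morphism. -/
theorem precomp_of_isLocalOnSource {Q P : MorphismProperty (Sp S)}
    (h1 : IsLocalOnSource (fun _ _ Y g => IsCover Q Y g) P) (hQid : ∀ X : Sp S, Q (𝟙 X))
    {X Y Z : Sp S} (hX : IsAlgSpace X) (hY : IsAlgSpace Y) (hZ : IsAlgSpace Z)
    (f : X ⟶ Y) (g : Y ⟶ Z) (hf : Q f) (hg : P g) : P (f ≫ g) :=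
  ((h1 (pairObj Y X) (pairHom f) hY (isAlgSpace_pairObj hY hX) (isCover_pair Q f hf (hQid Y))
    g hZ).1 hg) ⟨true⟩

def pairHomTo {X X' Y Y' : Sp S} (f' : X' ⟶ Y') (f : X ⟶ Y) (i : ULift.{u} Bool) :
    pairObj X X' i ⟶ pairObj Y Y' i :=
  match i with
  | ⟨true⟩ => f'
  | ⟨false⟩ => f

/-- local on the base ⇒ stable under base change along a covering morphism. -/
theorem baseChange_of_isLocalOnBase {Q P : MorphismProperty (Sp S)}
    (h2 : IsLocalOnBase (fun _ _ Y g => IsCover Q Y g) P) (hQid : ∀ X : Sp S, Q (𝟙 X))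
    {X Y X' Y' : Sp S} (hX : IsAlgSpace X) (hY : IsAlgSpace Y) (hX' : IsAlgSpace X')
    (hY' : IsAlgSpace Y') (f : X ⟶ Y) (g : Y' ⟶ Y) (f' : X' ⟶ Y') (g' : X' ⟶ X)
    (sq : IsPullback g' f' f g) (hg : Q g) (hf : P f) : P f' := by
  have hsq : ∀ i, IsPullback (pairHom g' i) (pairHomTo f' f i) f (pairHom g i) := by
    rintro ⟨_ | _⟩
    · show IsPullback (𝟙 X) f f (𝟙 Y)
      exact IsPullback.of_horiz_isIso ⟨by rw [Category.id_comp, Category.comp_id]⟩
    · exact sq
  have key := h2 (pairObj Y Y') (pairHom g) hY (isAlgSpace_pairObj hY hY')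
    (isCover_pair Q g hg (hQid Y)) f hX (pairObj X X') (pairHomTo f' f) (pairHom g')
    (isAlgSpace_pairObj hX hX') hsq
  exact (key.1 hf) ⟨true⟩

/-- points of an algebraic space are images of points of an atlas. -/
theorem exists_atlas_points {X : Sp S} (hX : IsAlgSpace X) :
    ∃ (W : Over S) (p : (yon S).obj W ⟶ X), RepWith @Etale p ∧
      ∀ x : Points X, ∃ w : ↥W.left, Points.ofPt p w = x := by
  obtain ⟨W, p, hpe, hps⟩ := hX.atlas
  exact ⟨W, p, hpe, Groth.Agent.Lib.helper11.surjective_ofPt p hps⟩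

/-- cancellation of an étale morphism on the right, for `LocP P` (any `P`). -/
theorem locP_of_comp_isEtaleMor {P : MorphismProperty Scheme.{u}} {F G H : Sp S} (f : F ⟶ G)
    (g : G ⟶ H) (hg : IsEtaleMor g) (hfg : LocP P (f ≫ g)) : LocP P f := by
  intro U V a b h ha hb hsq
  refine hfg a (b ≫ g) h ha (hg b hb) ?_
  rw [← Category.assoc, hsq, Category.assoc]

/-- base change of étale morphisms of algebraic spaces. -/
theorem isEtaleMor_of_isPullback {F G G' F' : Sp S} (hF : IsAlgSpace F) (hG : IsAlgSpace G)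
    (hG' : IsAlgSpace G') {f : F ⟶ G} {g : G' ⟶ G} {fst : F' ⟶ F} {snd : F' ⟶ G'}
    (sq : IsPullback fst snd f g) (hf : IsEtaleMor f) : IsEtaleMor snd :=
  Groth.Agent.S10266.isEtaleMor_of_locP_etale hG' snd
    (LocPBC.locP_of_isPullback LocPBC.locPData_etale hF hG hG' sq
      (Groth.Agent.S10265.locP_etale_of_isEtaleMor f hf))

/-- a section of an étale morphism of algebraic spaces is étale. -/
theorem isEtaleMor_of_comp_eq_id {F W : Sp S} (hW : IsAlgSpace W) (e : F ⟶ W) (p : W ⟶ F)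
    (hp : IsEtaleMor p) (hep : e ≫ p = 𝟙 F) : IsEtaleMor e := by
  apply Groth.Agent.S10266.isEtaleMor_of_locP_etale hW e
  refine locP_of_comp_isEtaleMor (P := @Etale) e p hp ?_
  rw [hep]
  exact Groth.Agent.S10265.locP_etale_of_isEtaleMor _ (isEtaleMor_id F)

/-- the graph `X ⟶ X ×_Z Y` of `f : X ⟶ Y` over an étale `g : Y ⟶ Z` is étale. -/
theorem exists_graph_of_isEtaleMor {X Y Z : Sp S} (hX : IsAlgSpace X) (hY : IsAlgSpace Y)
    (hZ : IsAlgSpace Z) (f : X ⟶ Y) (g : Y ⟶ Z) (hg : IsEtaleMor g) :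
    ∃ (W : Sp S) (p : W ⟶ X) (q : W ⟶ Y) (e : X ⟶ W), IsAlgSpace W ∧
      IsPullback p q (f ≫ g) g ∧ IsEtaleMor e ∧ e ≫ p = 𝟙 X ∧ e ≫ q = f := by
  have sq : IsPullback (pullback.fst (f ≫ g) g) (pullback.snd (f ≫ g) g) (f ≫ g) g :=
    IsPullback.of_hasPullback _ _
  have hW : IsAlgSpace (pullback (f ≫ g) g) :=
    Groth.Agent.Lib.helper5.isAlgSpace_of_isPullback hZ.diag hX hY sq
  have hp : IsEtaleMor (pullback.fst (f ≫ g) g) :=
    isEtaleMor_of_isPullback hY hZ hX sq.flip hg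
  refine ⟨_, _, _, pullback.lift (𝟙 X) f (by rw [Category.id_comp]), hW, sq, ?_,
    pullback.lift_fst _ _ _, pullback.lift_snd _ _ _⟩
  exact isEtaleMor_of_comp_eq_id hW _ _ hp (pullback.lift_fst _ _ _)

end Groth.Agent.Lib.helper5.SmLocal
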