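import Mathlib
import Groth.Prelude.Def_AlgSpDec
import Groth.Prelude.Def_Dual3
import Groth.Agent.S9687
import Groth.Agent.Lib.Helper3.DimIneqSch2
import Groth.Agent.Lib.Helper3.FTField
import Groth.Agent.Lib.Helper1.LocNoeth
import Groth.Agent.Lib.Helper5.EtLocalProp
import Groth.Agent.Lib.Helper5.AlgSpChartInd
import Groth.Agent.Lib.Helper5.AlgSpLocPFam

/-!
# The dimension inequality in a chart of a morphism of algebraic spaces (helper5)

* `stalk_dim_eq_zero_of_generic`: the local ring at the generic point of an irreducible component has dimension `0`.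
* `stalk_dim_add_le`: the dimension inequality in a chart diagram, with a cardinal bound `E` on the residue
  transcendence degrees at the dimension-`0` points specializing to `u`.
-/

set_option autoImplicit false
universe u
open CategoryTheory CategoryTheory.Limits AlgebraicGeometry
open AlgSp

namespace Groth.Agent.Lib.helper5.AlgSpDimIneq

theorem stalk_dim_eq_zero_of_generic {X : Scheme.{u}} (ξ : X)
    (hc : closure ({ξ} : Set X) ∈ irreducibleComponents X) :
    ringKrullDim (X.presheaf.stalk ξ) = 0 := by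
  obtain ⟨U, hU, hξU, -⟩ := exists_isAffineOpen_mem_and_subset (x := ξ) (U := ⊤) trivial
  rw [Groth.Agent.Lib.helper3.DimIneq.ringKrullDim_stalk_eq_height hU ξ hξU]
  have hmin := Groth.Agent.Lib.helper3.FTField.mem_minimalPrimes_of_closure_mem_irreducibleComponents X
    hU ξ hξU hc
  rw [Ideal.height_eq_zero_iff.mpr hmin]
  rfl

theorem add_toENat_top_of_nonneg {b : WithBot ℕ∞} (hb : 0 ≤ b) (t : WithBot ℕ∞) :
    t ≤ b + (((⊤ : ℕ∞)) : WithBot ℕ∞) := by
  obtain ⟨b', rfl⟩ : ∃ b' : ℕ∞, b = (b' : WithBot ℕ∞) := by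
    cases b with
    | bot => exact absurd hb (by simp)
    | coe b' => exact ⟨b', rfl⟩
  rw [← WithBot.coe_add, add_top]
  exact le_top

/-- The dimension inequality at a point of a morphism of schemes, with a cardinal bound. -/
theorem stalk_dim_add_le_scheme {U V : Scheme.{u}} [IsLocallyNoetherian V] (h : U ⟶ V)
    [LocallyOfFiniteType h] (u : U) (E : Cardinal.{u})
    (hE : ∀ ξ : U, ξ ⤳ u → ringKrullDim (U.presheaf.stalk ξ) = 0 → Dual3.resTrdeg h ξ ≤ E) :
    ringKrullDim (U.presheaf.stalk u) + ((Cardinal.toENat (Dual3.resTrdeg h u) : ℕ∞) : WithBot ℕ∞) ≤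
      ringKrullDim (V.presheaf.stalk (h u)) + ((Cardinal.toENat E : ℕ∞) : WithBot ℕ∞) := by
  by_cases hEfin : E < Cardinal.aleph0
  · obtain ⟨E', rfl⟩ := Cardinal.lt_aleph0.mp hEfin
    obtain ⟨n, hn⟩ := Groth.Agent.Lib.helper3.DimIneq.exists_nat_td_residueFieldMap h u
    have hn' : Dual3.resTrdeg h u = n := hn
    have := Groth.Agent.S9687.result h u n E' hn (fun ξ hξ hsp =>
      hE ξ hsp (stalk_dim_eq_zero_of_generic ξ hξ))
    rw [hn', Cardinal.toENat_nat, Cardinal.toENat_nat]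
    exact this
  · rw [not_lt] at hEfin
    rw [Cardinal.toENat_eq_top.mpr hEfin]
    exact add_toENat_top_of_nonneg ringKrullDim_nonneg_of_nontrivial _

variable {S : Scheme.{u}}

/-- The dimension inequality in a chart diagram of a morphism of algebraic spaces. -/
theorem stalk_dim_add_le {X Y : Sp S} (f : X ⟶ Y) (hY : IsLocNoethSp Y)
    (hf : LocP @LocallyOfFiniteType f) (E : Cardinal.{u})
    (hE : ∀ ξ : Points X, HasAt (fun U u => ringKrullDim ↥(U.presheaf.stalk u) = 0) X ξ →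
      ∀ s : Cardinal.{u}, HasAtMor (fun _ _ h u => Dual3.resTrdeg h u = s) f ξ → s ≤ E)
    {U V : Over S} (a : (yon S).obj U ⟶ X) (b : (yon S).obj V ⟶ Y) (h : U ⟶ V)
    (hae : RepWith @Etale a) (hbe : RepWith @Etale b) (hc : a ≫ f = (yon S).map h ≫ b) (u : ↥U.left) :
    ringKrullDim (U.left.presheaf.stalk u) +
        ((Cardinal.toENat (Dual3.resTrdeg h.left u) : ℕ∞) : WithBot ℕ∞) ≤
      ringKrullDim (V.left.presheaf.stalk (h.left u)) + ((Cardinal.toENat E : ℕ∞) : WithBot ℕ∞) := by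
  haveI : IsLocallyNoetherian V.left :=
    Groth.Agent.H1.LocNoeth.isLocallyNoetherian_of_chart hY b hbe
  haveI : LocallyOfFiniteType h.left := hf a b h hae hbe hc
  refine stalk_dim_add_le_scheme h.left u E (fun ξ _ hξ0 => ?_)
  exact hE (Points.ofPt a ξ) ⟨U, a, ξ, hae, rfl, hξ0⟩ _ ⟨U, V, a, b, h, ξ, hae, hbe, hc, rfl, rfl⟩

/-- Same with the specialization condition kept. -/
theorem stalk_dim_add_le' {X Y : Sp S} (f : X ⟶ Y) (hY : IsLocNoethSp Y)
    (hf : LocP @LocallyOfFiniteType f) (E : Cardinal.{u})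
    {U V : Over S} (a : (yon S).obj U ⟶ X) (b : (yon S).obj V ⟶ Y) (h : U ⟶ V)
    (hae : RepWith @Etale a) (hbe : RepWith @Etale b) (hc : a ≫ f = (yon S).map h ≫ b) (u : ↥U.left)
    (hE : ∀ ξ : Points X, ξ ⤳ Points.ofPt a u →
      HasAt (fun U u => ringKrullDim ↥(U.presheaf.stalk u) = 0) X ξ →
      ∀ s : Cardinal.{u}, HasAtMor (fun _ _ h u => Dual3.resTrdeg h u = s) f ξ → s ≤ E) :
    ringKrullDim (U.left.presheaf.stalk u) +
        ((Cardinal.toENat (Dual3.resTrdeg h.left u) : ℕ∞) : WithBot ℕ∞) ≤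
      ringKrullDim (V.left.presheaf.stalk (h.left u)) + ((Cardinal.toENat E : ℕ∞) : WithBot ℕ∞) := by
  haveI : IsLocallyNoetherian V.left :=
    Groth.Agent.H1.LocNoeth.isLocallyNoetherian_of_chart hY b hbe
  haveI : LocallyOfFiniteType h.left := hf a b h hae hbe hc
  refine stalk_dim_add_le_scheme h.left u E (fun ξ hsp hξ0 => ?_)
  exact hE (Points.ofPt a ξ) (hsp.map (Points.continuous_ofPt a)) ⟨U, a, ξ, hae, rfl, hξ0⟩ _
    ⟨U, V, a, b, h, ξ, hae, hbe, hc, rfl, rfl⟩

end Groth.Agent.Lib.helper5.AlgSpDimIneq
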