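import Groth.Agent.Lib.Helper24.HenselLocal
import Mathlib.AlgebraicGeometry.Morphisms.Etale

/-!
# Sections of etale schemes over the spectrum of a henselian local ring (helper5)
-/

set_option autoImplicit false
universe u
open CategoryTheory CategoryTheory.Limits AlgebraicGeometry Opposite

namespace Groth.Agent.Lib.helper5.HensSection

/-- An etale scheme over the spectrum of a henselian local ring has a section through every point over the
closed point with trivial residue field extension. -/
theorem exists_section_of_etale (R : Type u) [CommRing R] [HenselianLocalRing R]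
    {V : Scheme.{u}} (g : V ⟶ Spec (CommRingCat.of R)) [Etale g]
    (y : Spec (CommRingCat.of (IsLocalRing.ResidueField R)) ⟶ V)
    (hy : y ≫ g = Spec.map (CommRingCat.ofHom (IsLocalRing.residue R))) :
    ∃ σ : Spec (CommRingCat.of R) ⟶ V, σ ≫ g = 𝟙 _ ∧
      Spec.map (CommRingCat.ofHom (IsLocalRing.residue R)) ≫ σ = y := by
  let K := IsLocalRing.ResidueField R
  obtain ⟨B, j, hj, hyj, -⟩ := Scheme.exists_affine_mem_range_and_range_subset
    (x := y (default : ↥(Spec (CommRingCat.of K)))) (U := (⊤ : V.Opens)) trivial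
  have hrange : Set.range y ⊆ Set.range j := by
    rintro _ ⟨a, rfl⟩
    rw [Subsingleton.elim (α := PrimeSpectrum K) a (default : ↥(Spec (CommRingCat.of K)))]
    exact hyj
  let y' := IsOpenImmersion.lift j y hrange
  have hy' : y' ≫ j = y := IsOpenImmersion.lift_fac _ _ _
  let χ₀ : B ⟶ CommRingCat.of K := Spec.preimage y'
  have hχ₀ : Spec.map χ₀ = y' := Spec.map_preimage y'
  let φ : CommRingCat.of R ⟶ B := Spec.preimage (j ≫ g)
  have hφ : Spec.map φ = j ≫ g := Spec.map_preimage _
  have hφet : φ.hom.Etale := by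
    have : Etale (Spec.map φ) := by rw [hφ]; infer_instance
    exact HasRingHomProperty.Spec_iff.mp this
  have hcomp : φ ≫ χ₀ = CommRingCat.ofHom (IsLocalRing.residue R) := by
    apply Spec.map_injective
    rw [Spec.map_comp, hχ₀, hφ, ← Category.assoc, hy', hy]
  algebraize_only [φ.hom]
  have het : Algebra.Etale R B := hφet
  let χ : B →ₐ[R] IsLocalRing.ResidueField R :=
    { χ₀.hom with
      commutes' := fun r => congrFun (congrArg (fun f : CommRingCat.of R ⟶ CommRingCat.of K => ⇑f.hom) hcomp) r }
  obtain ⟨σ', hσ'⟩ := Groth.Agent.Lib.helper24.HenselLocal.exists_lift_residue χ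
  refine ⟨Spec.map (CommRingCat.ofHom σ'.toRingHom) ≫ j, ?_, ?_⟩
  · rw [Category.assoc, ← hφ, ← Spec.map_comp]
    have : φ ≫ CommRingCat.ofHom σ'.toRingHom = 𝟙 _ := by
      ext r
      exact σ'.commutes r
    rw [this, Spec.map_id]
  · rw [← Category.assoc, ← Spec.map_comp, ← hy', ← hχ₀]
    congr 2
    ext b
    exact hσ' b

end Groth.Agent.Lib.helper5.HensSection
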