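import Mathlib
import Groth.Agent.Lib.Helper13.EL4

/-!
# Smooth algebras have sections étale-locally (EGA IV 17.16.3, ring form)

`exists_etale_section`: `A → B` smooth, `q` a prime of `B`. Then there are an étale `A`-algebra
`A'`, an `A`-algebra map `B → A'` and a prime of `A'` lying over `q ∩ A`.
-/

set_option autoImplicit false

namespace Groth.Agent.Lib.helper5.SmoothSection

universe u

open MvPolynomial

/-- A nonzero polynomial over a field does not vanish at some point with coordinates in a finite
separable extension. -/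
theorem exists_sep_point {κ : Type u} [Field κ] {n : ℕ} (h : MvPolynomial (Fin n) κ) (hh : h ≠ 0) :
    ∃ (L : Type u) (_ : Field L) (_ : Algebra κ L), FiniteDimensional κ L ∧
      Algebra.IsSeparable κ L ∧ ∃ a : Fin n → L, MvPolynomial.aeval a h ≠ 0 := by
  by_cases hinf : Infinite κ
  · have : ∃ a : Fin n → κ, MvPolynomial.eval a h ≠ 0 := by
      by_contra hcon
      push Not at hcon
      exact hh (MvPolynomial.funext (fun x => by simpa using hcon x))
    obtain ⟨a, ha⟩ := this
    refine ⟨κ, inferInstance, inferInstance, inferInstance, inferInstance, a, ?_⟩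
    rwa [MvPolynomial.aeval_eq_eval]
  · have hfin : Finite κ := not_infinite_iff_finite.mp hinf
    let K := AlgebraicClosure κ
    have hmap : MvPolynomial.map (algebraMap κ K) h ≠ 0 := by
      intro e
      apply hh
      apply MvPolynomial.map_injective _ (algebraMap κ K).injective
      rw [e, map_zero]
    obtain ⟨a, ha⟩ : ∃ a : Fin n → K,
        MvPolynomial.eval a (MvPolynomial.map (algebraMap κ K) h) ≠ 0 := by
      by_contra hcon
      push Not at hcon
      exact hmap (MvPolynomial.funext (fun x => by simpa using hcon x))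
    let L := IntermediateField.adjoin κ (Set.range a)
    have hLfin : FiniteDimensional κ L :=
      IntermediateField.finiteDimensional_adjoin (fun x _ => Algebra.IsIntegral.isIntegral x)
    let a' : Fin n → L := fun i => ⟨a i, IntermediateField.subset_adjoin κ _ ⟨i, rfl⟩⟩
    refine ⟨L, inferInstance, inferInstance, hLfin, inferInstance, a', ?_⟩
    intro e
    apply ha
    have h1 : algebraMap L K (MvPolynomial.aeval a' h) = MvPolynomial.aeval a h := by
      rw [← MvPolynomial.aeval_algebraMap_apply]
      rfl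
    rw [MvPolynomial.eval_map, ← MvPolynomial.aeval_def, ← h1, e, map_zero]

section Quot

variable {A : Type*} {K k B : Type*} [CommRing A] [Field K] [Field k] [Algebra A K] [Algebra K k]
  [Algebra A k] [IsScalarTower A K k] [CommRing B] [Algebra A B]

open Polynomial IntermediateField in
/-- If `k = K(ψ b)` is algebraic over `K` and every element of `K` is a quotient of elements of
`A`, then every element of `k` is a quotient of values of `ψ`. -/
theorem exists_quot_of_adjoin
    (hK : ∀ y : K, ∃ a b : A, algebraMap A K b ≠ 0 ∧ y * algebraMap A K b = algebraMap A K a)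
    [Algebra.IsAlgebraic K k] (ψ : B →ₐ[A] k) (b : B) (hb : K⟮ψ b⟯ = ⊤) (y : k) :
    ∃ c d : B, ψ d ≠ 0 ∧ y * ψ d = ψ c := by
  have hint : IsAlgebraic K (ψ b) := Algebra.IsAlgebraic.isAlgebraic _
  have hy : y ∈ (K⟮ψ b⟯).toSubalgebra := by rw [hb]; trivial
  rw [IntermediateField.adjoin_simple_toSubalgebra_of_isAlgebraic hint,
    Algebra.adjoin_singleton_eq_range_aeval] at hy
  obtain ⟨q, rfl⟩ := hy
  obtain ⟨d, hd, Hd⟩ := Groth.Agent.Lib.helper13.EL.exists_common_denominator hK q
  choose c hc using Hd
  refine ⟨∑ i ∈ q.support, algebraMap A B (c i) * b ^ i, algebraMap A B d, ?_, ?_⟩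
  · rw [AlgHom.commutes, IsScalarTower.algebraMap_apply A K k]
    exact fun e => hd ((algebraMap K k).injective (by rw [e, map_zero]))
  · rw [AlgHom.commutes, map_sum]
    simp only [map_mul, map_pow, AlgHom.commutes]
    show Polynomial.aeval (ψ b) q * _ = _
    rw [Polynomial.aeval_def, Polynomial.eval₂_eq_sum, Polynomial.sum_def, Finset.sum_mul]
    refine Finset.sum_congr rfl fun i _ => ?_
    rw [IsScalarTower.algebraMap_apply A K k (c i), ← hc i, IsScalarTower.algebraMap_apply A K k d,
      map_mul]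
    ring

/-- Common denominators for a finite family of quotients. -/
theorem exists_common_quot {ι : Type*} [Finite ι] (ψ : B →+* k)
    (hq : ∀ y : k, ∃ c d : B, ψ d ≠ 0 ∧ y * ψ d = ψ c) (a : ι → k) :
    ∃ (d : B) (c : ι → B), ψ d ≠ 0 ∧ ∀ i, a i * ψ d = ψ (c i) := by
  classical
  cases nonempty_fintype ι
  choose c₀ d₀ hd₀ hc₀ using fun i => hq (a i)
  refine ⟨∏ i, d₀ i, fun i => c₀ i * ∏ j ∈ Finset.univ.erase i, d₀ j, ?_, fun i => ?_⟩
  · rw [map_prod]
    exact Finset.prod_ne_zero_iff.mpr fun i _ => hd₀ i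
  · rw [← Finset.mul_prod_erase Finset.univ d₀ (Finset.mem_univ i), map_mul, map_mul, ← mul_assoc,
      hc₀ i]

end Quot

section Main

open TensorProduct AlgebraicGeometry CategoryTheory Limits

/-- Every element of the residue field at a prime is a quotient of elements of the ring. -/
theorem residueField_quot {A : Type*} [CommRing A] (p : Ideal A) [p.IsPrime] (y : p.ResidueField) :
    ∃ a b : A, algebraMap A p.ResidueField b ≠ 0 ∧
      y * algebraMap A p.ResidueField b = algebraMap A p.ResidueField a := by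
  obtain ⟨z, rfl⟩ := IsLocalRing.residue_surjective y
  obtain ⟨⟨a, b⟩, hab⟩ := IsLocalization.surj p.primeCompl z
  refine ⟨a, b.1, ?_, ?_⟩
  · rw [Ne, Ideal.algebraMap_residueField_eq_zero]
    exact b.2
  · have := congrArg (IsLocalRing.residue (Localization.AtPrime p)) hab
    rw [map_mul] at this
    exact this

/-- Existence of a prime of a tensor product over a given compatible pair of primes. -/
theorem exists_prime_tensor {P A₂ B₀ : Type u} [CommRing P] [CommRing A₂] [CommRing B₀]
    [Algebra P A₂] [Algebra P B₀] (p₂ : Ideal A₂) [p₂.IsPrime] (𝔮 : Ideal B₀) [𝔮.IsPrime]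
    (h : p₂.comap (algebraMap P A₂) = 𝔮.comap (algebraMap P B₀)) :
    ∃ p' : Ideal (A₂ ⊗[P] B₀), p'.IsPrime ∧
      p'.comap (algebraMap A₂ (A₂ ⊗[P] B₀)) = p₂ := by
  let x : Spec (.of A₂) := ⟨p₂, inferInstance⟩
  let y : Spec (.of B₀) := ⟨𝔮, inferInstance⟩
  have hxy : Spec.map (CommRingCat.ofHom (algebraMap P A₂)) x =
      Spec.map (CommRingCat.ofHom (algebraMap P B₀)) y := by
    apply PrimeSpectrum.ext
    exact h
  obtain ⟨z, hz1, -⟩ := Scheme.Pullback.exists_preimage_pullback x y hxy
  refine ⟨((pullbackSpecIso P A₂ B₀).hom z).asIdeal, inferInstance, ?_⟩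
  have := congrArg (fun t => (t : Spec (.of A₂)).asIdeal) hz1
  rw [← pullbackSpecIso_hom_fst', Scheme.Hom.comp_apply] at this
  exact this

/-- Key case: `B₀` étale over a polynomial ring `A[T₁,…,Tₙ]`. -/
theorem exists_etale_section_mvPolynomial {A : Type u} [CommRing A] {n : ℕ} {B₀ : Type u}
    [CommRing B₀] [Algebra A B₀] [Algebra (MvPolynomial (Fin n) A) B₀]
    [IsScalarTower A (MvPolynomial (Fin n) A) B₀]
    [Algebra.Etale (MvPolynomial (Fin n) A) B₀] (𝔮 : Ideal B₀) [𝔮.IsPrime] :
    ∃ (A' : Type u) (_ : CommRing A') (_ : Algebra A A'), Algebra.Etale A A' ∧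
      ∃ (_ : B₀ →ₐ[A] A') (p' : Ideal A'), p'.IsPrime ∧
        p'.comap (algebraMap A A') = 𝔮.comap (algebraMap A B₀) := by
  classical
  set p : Ideal A := 𝔮.comap (algebraMap A B₀) with hp
  have hpprime : p.IsPrime := Ideal.comap_isPrime _ _
  set r : Ideal (MvPolynomial (Fin n) A) := 𝔮.comap (algebraMap (MvPolynomial (Fin n) A) B₀) with hr
  have hrprime : r.IsPrime := Ideal.comap_isPrime _ _
  have hrp : r.comap (algebraMap A (MvPolynomial (Fin n) A)) = p := by
    rw [hr, hp, Ideal.comap_comap, ← IsScalarTower.algebraMap_eq]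
  -- open image
  have hopen : IsOpen (Set.range (PrimeSpectrum.comap (algebraMap (MvPolynomial (Fin n) A) B₀))) :=
    (PrimeSpectrum.isOpenMap_comap_of_hasGoingDown_of_finitePresentation).isOpen_range
  have hr_mem : (⟨r, hrprime⟩ : PrimeSpectrum (MvPolynomial (Fin n) A)) ∈
      Set.range (PrimeSpectrum.comap (algebraMap (MvPolynomial (Fin n) A) B₀)) :=
    ⟨⟨𝔮, inferInstance⟩, rfl⟩
  obtain ⟨_, ⟨_, ⟨h, rfl⟩, rfl⟩, hrh, hsub⟩ :=
    PrimeSpectrum.isBasis_basic_opens.exists_subset_of_mem_open hr_mem hopen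
  replace hrh : h ∉ r := hrh
  -- the reduction of `h` modulo `p` is nonzero
  have hbar : MvPolynomial.map (algebraMap A p.ResidueField) h ≠ 0 := by
    intro e
    have h1 : h ∈ RingHom.ker (MvPolynomial.map (σ := Fin n) (algebraMap A p.ResidueField)) := e
    rw [MvPolynomial.ker_map, Ideal.ker_algebraMap_residueField] at h1
    exact hrh (Ideal.map_le_iff_le_comap.mpr hrp.ge h1)
  obtain ⟨L, _, _, hfin, hsep, a, ha⟩ := exists_sep_point _ hbar
  let _ : Algebra A L := ((algebraMap p.ResidueField L).comp (algebraMap A p.ResidueField)).toAlgebra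
  have : IsScalarTower A p.ResidueField L := .of_algebraMap_eq' rfl
  obtain ⟨A₁, _, _, _, ψ, b, hb⟩ :=
    Groth.Agent.Lib.helper13.EL.exists_etale_algebra_of_finite_separable (A := A)
      (K := p.ResidueField) (k := L) (residueField_quot p)
  obtain ⟨d, c, hd, hc⟩ := exists_common_quot (ψ : A₁ →+* L)
    (exists_quot_of_adjoin (residueField_quot p) ψ b hb) a
  replace hd : ψ d ≠ 0 := hd
  replace hc : ∀ i, a i * ψ d = ψ (c i) := hc
  -- localize at `d`
  have hunit : ∀ y : Submonoid.powers d, IsUnit (ψ y) := by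
    rintro ⟨_, m, rfl⟩
    rw [map_pow]
    exact (isUnit_iff_ne_zero.mpr hd).pow m
  let ψ₂ : Localization.Away d →ₐ[A] L :=
    IsLocalization.liftAlgHom (M := Submonoid.powers d) (f := ψ) hunit
  have hψ₂ : ∀ x : A₁, ψ₂ (algebraMap A₁ (Localization.Away d) x) = ψ x := fun x =>
    IsLocalization.lift_eq _ x
  let t : Fin n → Localization.Away d := fun i =>
    IsLocalization.mk' (Localization.Away d) (c i) (⟨d, Submonoid.mem_powers d⟩ : Submonoid.powers d)
  have ht : ∀ i, ψ₂ (t i) = a i := by
    intro i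
    have h1 : t i * algebraMap A₁ (Localization.Away d) d = algebraMap A₁ (Localization.Away d) (c i) :=
      IsLocalization.mk'_spec ..
    have h2 := congrArg ψ₂ h1
    rw [map_mul, hψ₂, hψ₂, ← hc i] at h2
    exact mul_right_cancel₀ hd h2
  let φ : MvPolynomial (Fin n) A →ₐ[A] Localization.Away d := MvPolynomial.aeval t
  have hφ : ψ₂.comp φ = MvPolynomial.aeval a := by
    apply MvPolynomial.algHom_ext
    intro i
    simp [φ, ht]
  -- the evaluation point
  have hev : MvPolynomial.aeval (R := A) a h ≠ 0 := by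
    rwa [MvPolynomial.aeval_map_algebraMap] at ha
  set r' : Ideal (MvPolynomial (Fin n) A) := RingHom.ker (MvPolynomial.aeval (R := A) a) with hr'
  have hr'prime : r'.IsPrime := RingHom.ker_isPrime _
  have hr'h : (⟨r', hr'prime⟩ : PrimeSpectrum _) ∈ PrimeSpectrum.basicOpen h := hev
  obtain ⟨𝔮', h𝔮'⟩ := hsub hr'h
  set p₂ : Ideal (Localization.Away d) := RingHom.ker ψ₂ with hp₂
  have hp₂prime : p₂.IsPrime := RingHom.ker_isPrime _
  let _ : Algebra (MvPolynomial (Fin n) A) (Localization.Away d) := φ.toRingHom.toAlgebra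
  have hcomap : p₂.comap (algebraMap (MvPolynomial (Fin n) A) (Localization.Away d)) =
      𝔮'.asIdeal.comap (algebraMap _ B₀) := by
    have h1 : 𝔮'.asIdeal.comap (algebraMap _ B₀) = r' := congrArg PrimeSpectrum.asIdeal h𝔮'
    rw [h1, hp₂, hr', ← hφ]
    rfl
  obtain ⟨p', hp'prime, hp'⟩ := exists_prime_tensor p₂ 𝔮'.asIdeal hcomap
  have : IsScalarTower A (MvPolynomial (Fin n) A) (Localization.Away d) :=
    .of_algebraMap_eq' (φ.comp_algebraMap).symm
  refine ⟨Localization.Away d ⊗[MvPolynomial (Fin n) A] B₀, inferInstance, inferInstance, ?_, ?_,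
    p', hp'prime, ?_⟩
  · have : Algebra.Etale A (Localization.Away d) :=
      Algebra.Etale.comp A A₁ (Localization.Away d)
    exact Algebra.Etale.comp A (Localization.Away d) _
  · exact (Algebra.TensorProduct.includeRight :
      B₀ →ₐ[MvPolynomial (Fin n) A] Localization.Away d ⊗[MvPolynomial (Fin n) A] B₀).restrictScalars A
  · rw [IsScalarTower.algebraMap_eq A (Localization.Away d)
      (Localization.Away d ⊗[MvPolynomial (Fin n) A] B₀), ← Ideal.comap_comap, hp', hp₂]
    ext x
    rw [Ideal.mem_comap, RingHom.mem_ker, AlgHom.commutes, ← Ideal.algebraMap_residueField_eq_zero,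
      IsScalarTower.algebraMap_apply A p.ResidueField L, map_eq_zero]

/-- **Smooth algebras have sections étale-locally.** `A → B` smooth, `q` a prime of `B`: there
are an étale `A`-algebra `A'`, an `A`-algebra map `B → A'` and a prime of `A'` over `q ∩ A`. -/
theorem exists_etale_section {A B : Type u} [CommRing A] [CommRing B] [Algebra A B]
    [Algebra.Smooth A B] (q : Ideal B) [q.IsPrime] :
    ∃ (A' : Type u) (_ : CommRing A') (_ : Algebra A A'), Algebra.Etale A A' ∧
      ∃ (_ : B →ₐ[A] A') (p' : Ideal A'), p'.IsPrime ∧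
        p'.comap (algebraMap A A') = q.comap (algebraMap A B) := by
  have : Algebra.IsSmoothAt A q := inferInstance
  obtain ⟨f, hfq, n, _, _, hstd⟩ :=
    Algebra.IsSmoothAt.exists_isStandardEtale_mvPolynomial (R := A) (p := q)
  have : Algebra.Etale (MvPolynomial (Fin n) A) (Localization.Away f) := inferInstance
  have hdisj : Disjoint (Submonoid.powers f : Set B) q :=
    (Ideal.disjoint_powers_iff_notMem_of_isPrime _).mpr hfq
  have h𝔮 : (q.map (algebraMap B (Localization.Away f))).IsPrime :=
    IsLocalization.isPrime_of_isPrime_disjoint (.powers f) _ _ ‹_› hdisj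
  obtain ⟨A', _, _, hA', τ, p', hp', hcomap⟩ :=
    exists_etale_section_mvPolynomial (A := A) (n := n) (q.map (algebraMap B (Localization.Away f)))
  refine ⟨A', _, _, hA', τ.comp (IsScalarTower.toAlgHom A B (Localization.Away f)), p', hp', ?_⟩
  rw [hcomap, IsScalarTower.algebraMap_eq A B (Localization.Away f), ← Ideal.comap_comap]
  congr 1
  exact IsLocalization.under_map_of_isPrime_disjoint (.powers f) _ ‹_› hdisj

end Main

end Groth.Agent.Lib.helper5.SmoothSection
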