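import Groth.Agent.S0591
import Groth.Agent.S9218

/-!
# Simultaneous approximation of two families / of a morphism of families (helper5)

`S = lim S_i` cofiltered with affine transition maps, `S_i` qcqs.
* `isPullback_stage_change` : a model at stage `i` gives a model at every stage `k ⟶ i`.
* `exists_pair_model` : two finitely presented `S`-schemes have models at a common stage.
* `exists_mor_model` : a morphism of finitely presented `S`-schemes has a model at some stage.
-/

set_option autoImplicit false
set_option backward.isDefEq.respectTransparency false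
universe u
open CategoryTheory CategoryTheory.Limits AlgebraicGeometry

namespace Groth.Agent.Lib.helper5.ConsApprox

variable {I : Type u} [SmallCategory I] (D : I ⥤ Scheme.{u}) (c : Cone D)

/-- change of stage of a model. -/
theorem isPullback_stage_change {i k : I} (a : k ⟶ i) {X Xi : Scheme.{u}} {f : X ⟶ c.pt}
    {fi : Xi ⟶ D.obj i} {g : X ⟶ Xi} (sq : IsPullback g f fi (c.π.app i)) :
    IsPullback (pullback.lift g (f ≫ c.π.app k)
        (by rw [sq.w, Category.assoc, Cone.w])) f
      (pullback.snd fi (D.map a)) (c.π.app k) := by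
  refine IsPullback.of_right ?_ (pullback.lift_snd _ _ _) (IsPullback.of_hasPullback fi (D.map a))
  rw [pullback.lift_fst, Cone.w]
  exact sq

variable [IsCofiltered I] (hc : IsLimit c)
    [∀ (i j : I) (f : i ⟶ j), IsAffineHom (D.map f)] [∀ i, CompactSpace (D.obj i)]
    [∀ i, QuasiSeparatedSpace (D.obj i)]

include hc in
theorem exists_pair_model {X Y : Scheme.{u}} (u : X ⟶ c.pt) (v : Y ⟶ c.pt)
    [LocallyOfFinitePresentation u] [QuasiCompact u] [QuasiSeparated u]
    [LocallyOfFinitePresentation v] [QuasiCompact v] [QuasiSeparated v] :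
    ∃ (k : I) (Xk Yk : Scheme.{u}) (uk : Xk ⟶ D.obj k) (vk : Yk ⟶ D.obj k)
      (eX : X ⟶ Xk) (eY : Y ⟶ Yk),
      LocallyOfFinitePresentation uk ∧ QuasiCompact uk ∧ QuasiSeparated uk ∧
      LocallyOfFinitePresentation vk ∧ QuasiCompact vk ∧ QuasiSeparated vk ∧
      IsPullback eX u uk (c.π.app k) ∧ IsPullback eY v vk (c.π.app k) := by
  obtain ⟨i, Xi, ui, gX, h1, h2, h3, sqX⟩ := Groth.Agent.S0591.result D c hc X u
  obtain ⟨j, Yj, vj, gY, h4, h5, h6, sqY⟩ := Groth.Agent.S0591.result D c hc Y v
  refine ⟨IsCofiltered.min i j, pullback ui (D.map (IsCofiltered.minToLeft i j)),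
    pullback vj (D.map (IsCofiltered.minToRight i j)), pullback.snd _ _, pullback.snd _ _, _, _,
    ?_, ?_, ?_, ?_, ?_, ?_, isPullback_stage_change D c (IsCofiltered.minToLeft i j) sqX,
    isPullback_stage_change D c (IsCofiltered.minToRight i j) sqY⟩
  · exact MorphismProperty.pullback_snd (P := @LocallyOfFinitePresentation) _ _ h1
  · exact MorphismProperty.pullback_snd (P := @QuasiCompact) _ _ h2
  · exact MorphismProperty.pullback_snd (P := @QuasiSeparated) _ _ h3
  · exact MorphismProperty.pullback_snd (P := @LocallyOfFinitePresentation) _ _ h4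
  · exact MorphismProperty.pullback_snd (P := @QuasiCompact) _ _ h5
  · exact MorphismProperty.pullback_snd (P := @QuasiSeparated) _ _ h6

include hc in
theorem exists_mor_model {X Y : Scheme.{u}} (f : X ⟶ Y) (g : Y ⟶ c.pt)
    [LocallyOfFinitePresentation g] [QuasiCompact g] [QuasiSeparated g]
    [LocallyOfFinitePresentation (f ≫ g)] [QuasiCompact (f ≫ g)] [QuasiSeparated (f ≫ g)] :
    ∃ (k : I) (Xk Yk : Scheme.{u}) (fk : Xk ⟶ Yk) (gk : Yk ⟶ D.obj k)
      (eX : X ⟶ Xk) (eY : Y ⟶ Yk),
      LocallyOfFinitePresentation gk ∧ QuasiCompact gk ∧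
      LocallyOfFinitePresentation (fk ≫ gk) ∧ QuasiCompact (fk ≫ gk) ∧
      IsPullback eY g gk (c.π.app k) ∧ IsPullback eX f fk eY := by
  obtain ⟨i, Xi, Yi, xi, yi, qX, qY, h1, h2, h3, h4, h5, h6, hX, hY⟩ :=
    exists_pair_model D c hc (f ≫ g) g
  haveI := h1; haveI := h2; haveI := h3; haveI := h4; haveI := h5; haveI := h6
  haveI : CompactSpace Xi := QuasiCompact.compactSpace_of_compactSpace xi
  haveI : CompactSpace Yi := QuasiCompact.compactSpace_of_compactSpace yi
  haveI : QuasiSeparatedSpace Xi := quasiSeparatedSpace_of_quasiSeparated xi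
  haveI : QuasiSeparatedSpace Yi := quasiSeparatedSpace_of_quasiSeparated yi
  obtain ⟨j, φ, fj, sX, sY, e1, e2, e3, e4, e5, e6⟩ :=
    Groth.Agent.S9218.result D c hc i xi yi qX (f ≫ g) hX qY g hY f rfl
  have sqY : IsPullback sY g (pullback.snd yi (D.map φ)) (c.π.app j) := by
    refine IsPullback.of_right ?_ e5 (IsPullback.of_hasPullback yi (D.map φ))
    rw [e4, Cone.w]
    exact hY
  have sqXbig : IsPullback sX (f ≫ g) (pullback.snd xi (D.map φ)) (c.π.app j) := by
    refine IsPullback.of_right ?_ e3 (IsPullback.of_hasPullback xi (D.map φ))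
    rw [e2, Cone.w]
    exact hX
  have sqX : IsPullback sX f fj sY := by
    refine IsPullback.of_bot ?_ e6 sqY
    rw [e1]
    exact sqXbig
  refine ⟨j, _, _, fj, pullback.snd yi (D.map φ), sX, sY, ?_, ?_, ?_, ?_, sqY, sqX⟩
  · exact MorphismProperty.pullback_snd (P := @LocallyOfFinitePresentation) _ _ h4
  · exact MorphismProperty.pullback_snd (P := @QuasiCompact) _ _ h5
  · rw [e1]
    exact MorphismProperty.pullback_snd (P := @LocallyOfFinitePresentation) _ _ h1
  · rw [e1]
    exact MorphismProperty.pullback_snd (P := @QuasiCompact) _ _ h2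

end Groth.Agent.Lib.helper5.ConsApprox
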