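import Mathlib

/-!
# The spectrum of a ring as the limit of the spectra of its finitely generated subalgebras (helper5)

For an `R`-algebra `K`: the filtered diagram `s ↦ R[s]` (`s` a finite subset of `K`) of subalgebras,
its colimit `K`, and the cofiltered limit `Spec K = lim Spec R[s]`.
-/

set_option autoImplicit false

open CategoryTheory CategoryTheory.Limits AlgebraicGeometry

namespace Groth.Agent.Lib.helper5.FGLimit
universe u
variable (R K : Type u) [CommRing R] [CommRing K] [Algebra R K]

/-- the subalgebra generated by a finite set. -/
abbrev adj (s : Finset K) : Subalgebra R K := Algebra.adjoin R (s : Set K)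

theorem adj_mono {s t : Finset K} (h : s ≤ t) : adj R K s ≤ adj R K t :=
  Algebra.adjoin_mono (by exact_mod_cast h)

/-- the filtered diagram of finitely generated subalgebras. -/
noncomputable def ringDiagram : Finset K ⥤ CommRingCat.{u} where
  obj s := CommRingCat.of (adj R K s)
  map {s t} f := CommRingCat.ofHom (Subalgebra.inclusion (adj_mono R K (leOfHom f))).toRingHom
  map_id s := by
    ext x
    rfl
  map_comp f g := by
    ext x
    rfl

noncomputable def ringCocone : Cocone (ringDiagram R K) where
  pt := CommRingCat.of K
  ι :=
  { app s := CommRingCat.ofHom (adj R K s).val.toRingHom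
    naturality s t f := by
      ext x
      rfl }

noncomputable def isColimitRingCocone : IsColimit (ringCocone R K) := by
  haveI : ReflectsColimit (ringDiagram R K) (forget CommRingCat) :=
    reflectsColimit_of_reflectsIsomorphisms _ _
  refine isColimitOfReflects (forget CommRingCat) ?_
  refine Types.FilteredColimit.isColimitOf' _ _ ?_ ?_
  · intro x
    let x' : K := x
    exact ⟨{x'}, ⟨x', Algebra.subset_adjoin (Finset.mem_coe.mpr (Finset.mem_singleton_self x'))⟩, rfl⟩
  · intro i x y h
    refine ⟨i, 𝟙 i, ?_⟩
    have : (x : adj R K i) = y := Subtype.ext h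
    rw [this]

/-- the cofiltered diagram of spectra of the finitely generated subalgebras. -/
noncomputable def specDiagram : (Finset K)ᵒᵖ ⥤ Scheme.{u} := (ringDiagram R K).op ⋙ Scheme.Spec

/-- the cone over `specDiagram` with vertex `Spec K`. -/
noncomputable def specCone : Cone (specDiagram R K) := Scheme.Spec.mapCone (ringCocone R K).op

noncomputable def isLimitSpecCone : IsLimit (specCone R K) :=
  isLimitOfPreserves Scheme.Spec (isColimitRingCocone R K).op

instance {i j : (Finset K)ᵒᵖ} (f : i ⟶ j) : IsAffineHom ((specDiagram R K).map f) := by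
  dsimp [specDiagram]
  infer_instance

instance (i : (Finset K)ᵒᵖ) : CompactSpace ↥((specDiagram R K).obj i) :=
  inferInstanceAs (CompactSpace ↥(Spec (CommRingCat.of (adj R K i.unop))))

instance (i : (Finset K)ᵒᵖ) : QuasiSeparatedSpace ↥((specDiagram R K).obj i) :=
  inferInstanceAs (QuasiSeparatedSpace ↥(Spec (CommRingCat.of (adj R K i.unop))))

theorem specCone_pt : (specCone R K).pt = Spec (CommRingCat.of K) := rfl

theorem specCone_π (s : (Finset K)ᵒᵖ) :
    (specCone R K).π.app s = Spec.map (CommRingCat.ofHom (adj R K s.unop).val.toRingHom) := rfl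

theorem specDiagram_obj (s : (Finset K)ᵒᵖ) :
    (specDiagram R K).obj s = Spec (CommRingCat.of (adj R K s.unop)) := rfl

end Groth.Agent.Lib.helper5.FGLimit
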