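import Groth.Agent.Lib.Helper5.ConsApprox2
import Groth.Agent.Lib.Helper5.ConsApprox3
import Groth.Agent.Lib.Helper5.FGLimit

/-!
# Loci of constructible relations are locally constructible (EGA IV 9.2.3, 9.2.4) (helper5)

* `exists_noetherian_pair_model`, `exists_noetherian_mor_model` : over an affine base, two finitely
  presented families (resp. a morphism of such) come by base change from a Noetherian base
  (the spectrum of a finitely generated `ℤ`-algebra).
* `isLocallyConstructible_locusPair`, `isIndConstructible_locusPair'`,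
  `isLocallyConstructible_locusMor`, `isIndConstructible_locusMor'`.
-/

set_option autoImplicit false
set_option backward.isDefEq.respectTransparency false
universe u
open CategoryTheory CategoryTheory.Limits AlgebraicGeometry Topology TopologicalSpace

namespace Groth.Agent.Lib.helper5.ConsApprox

open Groth.Agent.Lib.helper5.ConsFibre Groth.Agent.Lib.helper5.FGLimit

attribute [local instance] ULift.algebra'

instance : IsNoetherianRing (ULift.{u} ℤ) :=
  isNoetherianRing_of_ringEquiv ℤ ULift.ringEquiv.symm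

theorem isNoetherianRing_adj (K : Type u) [CommRing K] (s : Finset K) :
    IsNoetherianRing (adj (ULift.{u} ℤ) K s) := by
  haveI : Algebra.FiniteType (ULift.{u} ℤ) (adj (ULift.{u} ℤ) K s) :=
    (Subalgebra.fg_iff_finiteType _).mp (Subalgebra.fg_adjoin_finset s)
  exact Algebra.FiniteType.isNoetherianRing (ULift.{u} ℤ) _

theorem isNoetherian_specDiagram_obj (K : Type u) [CommRing K] (i : (Finset K)ᵒᵖ) :
    IsNoetherian ((specDiagram (ULift.{u} ℤ) K).obj i) := by
  haveI := isNoetherianRing_adj K i.unop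
  exact inferInstanceAs (IsNoetherian (Spec (CommRingCat.of (adj (ULift.{u} ℤ) K i.unop))))

theorem exists_noetherian_pair_model {T X Y : Scheme.{u}} [IsAffine T] (u : X ⟶ T) (v : Y ⟶ T)
    [LocallyOfFinitePresentation u] [QuasiCompact u] [QuasiSeparated u]
    [LocallyOfFinitePresentation v] [QuasiCompact v] [QuasiSeparated v] :
    ∃ (S₀ X₀ Y₀ : Scheme.{u}) (_ : IsNoetherian S₀) (h : T ⟶ S₀) (u₀ : X₀ ⟶ S₀) (v₀ : Y₀ ⟶ S₀)
      (eX : X ⟶ X₀) (eY : Y ⟶ Y₀),
      LocallyOfFiniteType u₀ ∧ QuasiCompact u₀ ∧ LocallyOfFiniteType v₀ ∧ QuasiCompact v₀ ∧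
      IsPullback eX u u₀ h ∧ IsPullback eY v v₀ h := by
  let K : Type u := Γ(T, ⊤)
  let e : T ≅ Spec (CommRingCat.of K) := T.isoSpec
  let u' : X ⟶ (specCone (ULift.{u} ℤ) K).pt := u ≫ e.hom
  let v' : Y ⟶ (specCone (ULift.{u} ℤ) K).pt := v ≫ e.hom
  haveI : LocallyOfFinitePresentation u' :=
    inferInstanceAs (LocallyOfFinitePresentation (u ≫ e.hom))
  haveI : QuasiCompact u' := inferInstanceAs (QuasiCompact (u ≫ e.hom))
  haveI : QuasiSeparated u' := inferInstanceAs (QuasiSeparated (u ≫ e.hom))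
  haveI : LocallyOfFinitePresentation v' :=
    inferInstanceAs (LocallyOfFinitePresentation (v ≫ e.hom))
  haveI : QuasiCompact v' := inferInstanceAs (QuasiCompact (v ≫ e.hom))
  haveI : QuasiSeparated v' := inferInstanceAs (QuasiSeparated (v ≫ e.hom))
  obtain ⟨k, Xk, Yk, uk, vk, eX, eY, h1, h2, -, h4, h5, -, sqX, sqY⟩ :=
    exists_pair_model (specDiagram (ULift.{u} ℤ) K) (specCone (ULift.{u} ℤ) K)
      (isLimitSpecCone (ULift.{u} ℤ) K) u' v'
  haveI := h1; haveI := h4
  refine ⟨_, Xk, Yk, isNoetherian_specDiagram_obj K k,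
    e.hom ≫ (specCone (ULift.{u} ℤ) K).π.app k, uk, vk, eX, eY, inferInstance, h2, inferInstance,
    h5, ?_, ?_⟩
  · have := (IsPullback.of_horiz_isIso (fst := 𝟙 X) (snd := u) (f := u') (g := e.hom)
      ⟨by simp [u']⟩).paste_horiz sqX
    rwa [Category.id_comp] at this
  · have := (IsPullback.of_horiz_isIso (fst := 𝟙 Y) (snd := v) (f := v') (g := e.hom)
      ⟨by simp [v']⟩).paste_horiz sqY
    rwa [Category.id_comp] at this

theorem exists_noetherian_mor_model {T X Y : Scheme.{u}} [IsAffine T] (f : X ⟶ Y) (g : Y ⟶ T)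
    [LocallyOfFinitePresentation g] [QuasiCompact g] [QuasiSeparated g]
    [LocallyOfFinitePresentation (f ≫ g)] [QuasiCompact (f ≫ g)] [QuasiSeparated (f ≫ g)] :
    ∃ (S₀ X₀ Y₀ : Scheme.{u}) (_ : IsNoetherian S₀) (h : T ⟶ S₀) (f₀ : X₀ ⟶ Y₀) (g₀ : Y₀ ⟶ S₀)
      (eX : X ⟶ X₀) (eY : Y ⟶ Y₀),
      LocallyOfFiniteType g₀ ∧ QuasiCompact g₀ ∧ LocallyOfFiniteType (f₀ ≫ g₀) ∧
      QuasiCompact (f₀ ≫ g₀) ∧ IsPullback eY g g₀ h ∧ IsPullback eX f f₀ eY := by
  let K : Type u := Γ(T, ⊤)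
  let e : T ≅ Spec (CommRingCat.of K) := T.isoSpec
  let g' : Y ⟶ (specCone (ULift.{u} ℤ) K).pt := g ≫ e.hom
  have hfg : f ≫ g' = (f ≫ g) ≫ e.hom := (Category.assoc _ _ _).symm
  haveI : LocallyOfFinitePresentation g' :=
    inferInstanceAs (LocallyOfFinitePresentation (g ≫ e.hom))
  haveI : QuasiCompact g' := inferInstanceAs (QuasiCompact (g ≫ e.hom))
  haveI : QuasiSeparated g' := inferInstanceAs (QuasiSeparated (g ≫ e.hom))
  haveI : LocallyOfFinitePresentation (f ≫ g') := by rw [hfg]; infer_instance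
  haveI : QuasiCompact (f ≫ g') := by rw [hfg]; infer_instance
  haveI : QuasiSeparated (f ≫ g') := by rw [hfg]; infer_instance
  obtain ⟨k, Xk, Yk, fk, gk, eX, eY, h1, h2, h3, h4, sqY, sqX⟩ :=
    exists_mor_model (specDiagram (ULift.{u} ℤ) K) (specCone (ULift.{u} ℤ) K)
      (isLimitSpecCone (ULift.{u} ℤ) K) f g'
  haveI := h1; haveI := h3
  refine ⟨_, Xk, Yk, isNoetherian_specDiagram_obj K k,
    e.hom ≫ (specCone (ULift.{u} ℤ) K).π.app k, fk, gk, eX, eY, inferInstance, h2, inferInstance,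
    h4, ?_, sqX⟩
  have := (IsPullback.of_horiz_isIso (fst := 𝟙 Y) (snd := g) (f := g') (g := e.hom)
    ⟨by simp [g']⟩).paste_horiz sqY
  rwa [Category.id_comp] at this

section Pair

variable {P : ∀ ⦃X Y T : Scheme.{u}⦄, (X ⟶ T) → (Y ⟶ T) → Prop}

/-- EGA IV 9.2.3 for relations between two schemes, constructible case. -/
theorem isLocallyConstructible_locusPair (hP : ConsPropPair.IsConsPair P)
    {X Y S : Scheme.{u}} (u : X ⟶ S) (v : Y ⟶ S)
    [LocallyOfFinitePresentation u] [QuasiCompact u] [QuasiSeparated u]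
    [LocallyOfFinitePresentation v] [QuasiCompact v] [QuasiSeparated v] :
    IsLocallyConstructible (ConsPropPair.locusPair P u v) := by
  refine isLocallyConstructible_of_affine_models _ fun U hU => ?_
  haveI : IsAffine (U : Scheme.{u}) := hU
  have sqX := IsPullback.of_hasPullback u U.ι
  have sqY := IsPullback.of_hasPullback v U.ι
  obtain ⟨S₀, X₀, Y₀, hS₀, h, u₀, v₀, eX, eY, h1, h2, h3, h4, sqX₀, sqY₀⟩ :=
    exists_noetherian_pair_model (pullback.snd u U.ι) (pullback.snd v U.ι)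
  refine ⟨S₀, h, ConsPropPair.locusPair P u₀ v₀,
    (isConstructible_locusPair hP u₀ v₀).isLocallyConstructible, ?_⟩
  rw [← locusPair_eq_preimage hP.1 sqX sqY, locusPair_eq_preimage hP.1 sqX₀ sqY₀]

/-- EGA IV 9.2.3 for relations between two schemes, ind-constructible case. -/
theorem isIndConstructible_locusPair' (hP : ConsPropPair.IsIndConsPair P)
    {X Y S : Scheme.{u}} (u : X ⟶ S) (v : Y ⟶ S)
    [LocallyOfFinitePresentation u] [QuasiCompact u] [QuasiSeparated u]
    [LocallyOfFinitePresentation v] [QuasiCompact v] [QuasiSeparated v] :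
    ProCons.IsIndConstructible (ConsPropPair.locusPair P u v) := by
  refine isIndConstructible_of_affine_models _ fun U hU => ?_
  haveI : IsAffine (U : Scheme.{u}) := hU
  have sqX := IsPullback.of_hasPullback u U.ι
  have sqY := IsPullback.of_hasPullback v U.ι
  obtain ⟨S₀, X₀, Y₀, hS₀, h, u₀, v₀, eX, eY, h1, h2, h3, h4, sqX₀, sqY₀⟩ :=
    exists_noetherian_pair_model (pullback.snd u U.ι) (pullback.snd v U.ι)
  refine ⟨S₀, h, ConsPropPair.locusPair P u₀ v₀, isIndConstructible_locusPair hP u₀ v₀, ?_⟩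
  rw [← locusPair_eq_preimage hP.1 sqX sqY, locusPair_eq_preimage hP.1 sqX₀ sqY₀]

end Pair

section Mor

variable {P : ∀ ⦃X Y T : Scheme.{u}⦄, (X ⟶ Y) → (Y ⟶ T) → Prop}

theorem exists_mor_affine_model (hP : ConsProp.IsFieldStableMor P)
    {X Y S : Scheme.{u}} (f : X ⟶ Y) (g : Y ⟶ S)
    [LocallyOfFinitePresentation g] [QuasiCompact g] [QuasiSeparated g]
    [LocallyOfFinitePresentation (f ≫ g)] [QuasiCompact (f ≫ g)] [QuasiSeparated (f ≫ g)]
    (U : S.Opens) (hU : IsAffineOpen U) :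
    ∃ (S₀ X₀ Y₀ : Scheme.{u}) (_ : IsNoetherian S₀) (h : (U : Scheme.{u}) ⟶ S₀) (f₀ : X₀ ⟶ Y₀)
      (g₀ : Y₀ ⟶ S₀),
      LocallyOfFiniteType g₀ ∧ QuasiCompact g₀ ∧ LocallyOfFiniteType (f₀ ≫ g₀) ∧
      QuasiCompact (f₀ ≫ g₀) ∧ U.ι ⁻¹' ConsProp.locusMor P f g = h ⁻¹' ConsProp.locusMor P f₀ g₀ := by
  haveI : IsAffine (U : Scheme.{u}) := hU
  have sqY := IsPullback.of_hasPullback g U.ι
  have sqX := IsPullback.of_hasPullback f (pullback.fst g U.ι)
  have sqXY : IsPullback (pullback.fst f (pullback.fst g U.ι))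
      (pullback.snd f (pullback.fst g U.ι) ≫ pullback.snd g U.ι) (f ≫ g) U.ι :=
    sqX.paste_vert sqY
  haveI : LocallyOfFinitePresentation (pullback.snd f (pullback.fst g U.ι) ≫ pullback.snd g U.ι) :=
    MorphismProperty.of_isPullback (P := @LocallyOfFinitePresentation) sqXY inferInstance
  haveI : QuasiCompact (pullback.snd f (pullback.fst g U.ι) ≫ pullback.snd g U.ι) :=
    MorphismProperty.of_isPullback (P := @QuasiCompact) sqXY inferInstance
  haveI : QuasiSeparated (pullback.snd f (pullback.fst g U.ι) ≫ pullback.snd g U.ι) :=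
    MorphismProperty.of_isPullback (P := @QuasiSeparated) sqXY inferInstance
  obtain ⟨S₀, X₀, Y₀, hS₀, h, f₀, g₀, eX, eY, h1, h2, h3, h4, sqY₀, sqX₀⟩ :=
    exists_noetherian_mor_model (pullback.snd f (pullback.fst g U.ι)) (pullback.snd g U.ι)
  haveI := h1; haveI := h2; haveI := h3; haveI := h4
  refine ⟨S₀, X₀, Y₀, hS₀, h, f₀, g₀, h1, h2, h3, h4, ?_⟩
  rw [← locusMor_eq_preimage hP sqY sqX, locusMor_eq_preimage hP sqY₀ sqX₀]

/-- EGA IV 9.2.3 for relations on morphisms, constructible case. -/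
theorem isLocallyConstructible_locusMor (hP : ConsProp.IsConsMor P)
    {X Y S : Scheme.{u}} (f : X ⟶ Y) (g : Y ⟶ S)
    [LocallyOfFinitePresentation g] [QuasiCompact g] [QuasiSeparated g]
    [LocallyOfFinitePresentation (f ≫ g)] [QuasiCompact (f ≫ g)] [QuasiSeparated (f ≫ g)] :
    IsLocallyConstructible (ConsProp.locusMor P f g) := by
  refine isLocallyConstructible_of_affine_models _ fun U hU => ?_
  obtain ⟨S₀, X₀, Y₀, hS₀, h, f₀, g₀, h1, h2, h3, h4, heq⟩ :=
    exists_mor_affine_model hP.1 f g U hU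
  haveI := hS₀; haveI := h1; haveI := h2; haveI := h3; haveI := h4
  exact ⟨S₀, h, ConsProp.locusMor P f₀ g₀,
    (isConstructible_locusMor hP f₀ g₀).isLocallyConstructible, heq⟩

/-- EGA IV 9.2.3 for relations on morphisms, ind-constructible case. -/
theorem isIndConstructible_locusMor' (hP : ConsProp.IsIndConsMor P)
    {X Y S : Scheme.{u}} (f : X ⟶ Y) (g : Y ⟶ S)
    [LocallyOfFinitePresentation g] [QuasiCompact g] [QuasiSeparated g]
    [LocallyOfFinitePresentation (f ≫ g)] [QuasiCompact (f ≫ g)] [QuasiSeparated (f ≫ g)] :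
    ProCons.IsIndConstructible (ConsProp.locusMor P f g) := by
  refine isIndConstructible_of_affine_models _ fun U hU => ?_
  obtain ⟨S₀, X₀, Y₀, hS₀, h, f₀, g₀, h1, h2, h3, h4, heq⟩ :=
    exists_mor_affine_model hP.1 f g U hU
  haveI := hS₀; haveI := h1; haveI := h2; haveI := h3; haveI := h4
  exact ⟨S₀, h, ConsProp.locusMor P f₀ g₀, isIndConstructible_locusMor hP f₀ g₀, heq⟩

end Mor

end Groth.Agent.Lib.helper5.ConsApprox
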