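import Groth.Agent.Lib.Helper9.ClosedImmDescend
import Groth.Agent.S9190
import Groth.Agent.S7409
import Groth.Agent.Lib.Helper19.ProjSpaceProper

/-!
# Descent of properness along a cofiltered limit with affine transition maps (helper5)

EGA IV 8.10.5 (xii), via Chow's lemma (helper12) and the descent of closed immersions and of
separatedness (helper9).
-/

set_option autoImplicit false
universe u
open CategoryTheory CategoryTheory.Limits AlgebraicGeometry

namespace Groth.Agent.Lib.helper5.ProperDescend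

open Groth.Agent.Lib.helper9

variable {I : Type u} [SmallCategory I] [IsCofiltered I] (D : I ⥤ Scheme.{u}) (c : Cone D)
  (hc : IsLimit c) [hD : ∀ (i j : I) (f : i ⟶ j), IsAffineHom (D.map f)]
  (i₀ : I) {X₀ Y₀ : Scheme.{u}} (f₀ : X₀ ⟶ Y₀) (g₀ : Y₀ ⟶ D.obj i₀)

include hc in
/-- the separated case. -/
theorem exists_isProper_stageMap_of_isSeparated [CompactSpace (D.obj i₀)]
    [QuasiSeparatedSpace (D.obj i₀)] [CompactSpace X₀] [QuasiSeparatedSpace X₀] [CompactSpace Y₀]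
    [QuasiSeparatedSpace Y₀] [LocallyOfFiniteType f₀] [IsSeparated f₀]
    [IsProper (stageMap (c.π.app i₀) f₀ g₀)] :
    ∃ l : Over i₀, IsProper (stageMap (D.map l.hom) f₀ g₀) := by
  haveI : QuasiCompact f₀ := inferInstance
  obtain ⟨n, X₀', π₀, j₀, hj₀imm, hj₀, hπ₀proper, hπ₀surj⟩ := Groth.Agent.S7409.result f₀
  haveI := hj₀imm
  haveI := hπ₀proper
  haveI := hπ₀surj
  haveI : IsProper (CohB1.ProjSpaceOver.toBase n Y₀) :=
    Groth.Agent.Lib.helper19.ProjSpaceProper.proper_toBase n Y₀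
  haveI : CompactSpace ↥X₀' := QuasiCompact.compactSpace_of_compactSpace π₀
  haveI : QuasiSeparatedSpace ↥X₀' := quasiSeparatedSpace_of_quasiSeparated π₀
  haveI : CompactSpace ↥(CohB1.ProjSpaceOver n Y₀) :=
    QuasiCompact.compactSpace_of_compactSpace (CohB1.ProjSpaceOver.toBase n Y₀)
  haveI : QuasiSeparatedSpace ↥(CohB1.ProjSpaceOver n Y₀) :=
    quasiSeparatedSpace_of_quasiSeparated (CohB1.ProjSpaceOver.toBase n Y₀)
  have e : π₀ ≫ f₀ ≫ g₀ = j₀ ≫ CohB1.ProjSpaceOver.toBase n Y₀ ≫ g₀ := by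
    rw [← Category.assoc, ← hj₀, Category.assoc]
  have comm : ∀ {S' : Scheme.{u}} (φ : S' ⟶ D.obj i₀),
      stageMap φ j₀ (CohB1.ProjSpaceOver.toBase n Y₀ ≫ g₀) ≫
        stageMap φ (CohB1.ProjSpaceOver.toBase n Y₀) g₀ =
      stageMap' φ π₀ (f₀ ≫ g₀) (j₀ ≫ CohB1.ProjSpaceOver.toBase n Y₀ ≫ g₀) e ≫
        stageMap φ f₀ g₀ := by
    intro S' φ
    apply pullback.hom_ext
    · rw [Category.assoc, Category.assoc, stageMap_fst, stageMap_fst, stageMap_fst, stageMap'_fst]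
    · rw [Category.assoc, Category.assoc, stageMap_snd, stageMap_snd, stageMap_snd_assoc,
        stageMap'_snd_assoc, hj₀]
  -- the closed immersion at the limit
  haveI hA_imm : IsImmersion (stageMap (c.π.app i₀) j₀ (CohB1.ProjSpaceOver.toBase n Y₀ ≫ g₀)) :=
    MorphismProperty.of_isPullback (P := @IsImmersion)
      (isPullback_stageMap (c.π.app i₀) j₀ (CohB1.ProjSpaceOver.toBase n Y₀ ≫ g₀)) hj₀imm
  haveI hB : IsProper (stageMap (c.π.app i₀) (CohB1.ProjSpaceOver.toBase n Y₀) g₀) :=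
    MorphismProperty.of_isPullback (P := @IsProper)
      (isPullback_stageMap (c.π.app i₀) (CohB1.ProjSpaceOver.toBase n Y₀) g₀) inferInstance
  haveI hC : IsProper (stageMap' (c.π.app i₀) π₀ (f₀ ≫ g₀)
      (j₀ ≫ CohB1.ProjSpaceOver.toBase n Y₀ ≫ g₀) e) :=
    MorphismProperty.of_isPullback (P := @IsProper)
      (isPullback_stageMap' (c.π.app i₀) π₀ (f₀ ≫ g₀)
        (j₀ ≫ CohB1.ProjSpaceOver.toBase n Y₀ ≫ g₀) e) hπ₀proper
  haveI hAB : IsProper (stageMap (c.π.app i₀) j₀ (CohB1.ProjSpaceOver.toBase n Y₀ ≫ g₀) ≫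
      stageMap (c.π.app i₀) (CohB1.ProjSpaceOver.toBase n Y₀) g₀) := by
    rw [comm]
    infer_instance
  haveI hA : IsProper (stageMap (c.π.app i₀) j₀ (CohB1.ProjSpaceOver.toBase n Y₀ ≫ g₀)) :=
    IsProper.of_comp _ (stageMap (c.π.app i₀) (CohB1.ProjSpaceOver.toBase n Y₀) g₀)
  haveI hAcl : IsClosedImmersion
      (stageMap (c.π.app i₀) j₀ (CohB1.ProjSpaceOver.toBase n Y₀ ≫ g₀)) :=
    .of_isPreimmersion _
      (stageMap (c.π.app i₀) j₀ (CohB1.ProjSpaceOver.toBase n Y₀ ≫ g₀)).isClosedMap.isClosed_range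
  obtain ⟨l, hl⟩ := exists_isClosedImmersion_stageMap D c hc i₀ j₀
    (CohB1.ProjSpaceOver.toBase n Y₀ ≫ g₀)
  refine ⟨l, ?_⟩
  haveI := hl
  haveI hBl : IsProper (stageMap (D.map l.hom) (CohB1.ProjSpaceOver.toBase n Y₀) g₀) :=
    MorphismProperty.of_isPullback (P := @IsProper)
      (isPullback_stageMap (D.map l.hom) (CohB1.ProjSpaceOver.toBase n Y₀) g₀) inferInstance
  haveI hCl : Surjective (stageMap' (D.map l.hom) π₀ (f₀ ≫ g₀)
      (j₀ ≫ CohB1.ProjSpaceOver.toBase n Y₀ ≫ g₀) e) :=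
    MorphismProperty.of_isPullback (P := @Surjective)
      (isPullback_stageMap' (D.map l.hom) π₀ (f₀ ≫ g₀)
        (j₀ ≫ CohB1.ProjSpaceOver.toBase n Y₀ ≫ g₀) e) hπ₀surj
  haveI hABl : UniversallyClosed (stageMap' (D.map l.hom) π₀ (f₀ ≫ g₀)
      (j₀ ≫ CohB1.ProjSpaceOver.toBase n Y₀ ≫ g₀) e ≫ stageMap (D.map l.hom) f₀ g₀) := by
    rw [← comm]
    infer_instance
  haveI : UniversallyClosed (stageMap (D.map l.hom) f₀ g₀) :=
    UniversallyClosed.of_comp_surjective (stageMap' (D.map l.hom) π₀ (f₀ ≫ g₀)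
      (j₀ ≫ CohB1.ProjSpaceOver.toBase n Y₀ ≫ g₀) e) _
  haveI : IsSeparated (stageMap (D.map l.hom) f₀ g₀) :=
    MorphismProperty.of_isPullback (P := @IsSeparated)
      (isPullback_stageMap (D.map l.hom) f₀ g₀) inferInstance
  haveI : LocallyOfFiniteType (stageMap (D.map l.hom) f₀ g₀) :=
    MorphismProperty.of_isPullback (P := @LocallyOfFiniteType)
      (isPullback_stageMap (D.map l.hom) f₀ g₀) inferInstance
  exact {}

include hc in
/-- EGA IV 8.10.5 (xii) in stage-map form. -/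
theorem exists_isProper_stageMap [CompactSpace (D.obj i₀)]
    [QuasiSeparatedSpace (D.obj i₀)] [CompactSpace X₀] [QuasiSeparatedSpace X₀] [CompactSpace Y₀]
    [QuasiSeparatedSpace Y₀] [LocallyOfFiniteType f₀]
    [IsProper (stageMap (c.π.app i₀) f₀ g₀)] :
    ∃ l : Over i₀, IsProper (stageMap (D.map l.hom) f₀ g₀) := by
  -- separatedness at some stage
  obtain ⟨i₁, φ₁, Xi, Yi, fi, gi, pY, pX, h1, h2, h3⟩ :=
    Groth.Agent.S9190.result D c hc i₀ f₀ g₀ (stageMap (c.π.app i₀) f₀ g₀)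
      (pullback.fst (c.π.app i₀) g₀) (pullback.snd (c.π.app i₀) g₀)
      (pullback.snd (c.π.app i₀) (f₀ ≫ g₀)) (isPullback_stage_base (c.π.app i₀) g₀)
      (isPullback_stageMap (c.π.app i₀) f₀ g₀)
  haveI hsep : IsSeparated (stageMap (D.map φ₁) f₀ g₀) :=
    (stageMap_iff_of_isPullback @IsSeparated h1 h2).mpr h3
  -- rebase to the stage `i₁`
  haveI : IsAffineHom (D.map φ₁) := inferInstance
  haveI : IsAffineHom (pullback.snd (D.map φ₁) g₀) :=
    MorphismProperty.pullback_snd (P := @IsAffineHom) _ _ inferInstance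
  haveI : IsAffineHom (pullback.snd (D.map φ₁) (f₀ ≫ g₀)) :=
    MorphismProperty.pullback_snd (P := @IsAffineHom) _ _ inferInstance
  haveI : CompactSpace ↥(pullback (D.map φ₁) g₀) :=
    QuasiCompact.compactSpace_of_compactSpace (pullback.snd (D.map φ₁) g₀)
  haveI : QuasiSeparatedSpace ↥(pullback (D.map φ₁) g₀) :=
    quasiSeparatedSpace_of_quasiSeparated (pullback.snd (D.map φ₁) g₀)
  haveI : CompactSpace ↥(pullback (D.map φ₁) (f₀ ≫ g₀)) :=
    QuasiCompact.compactSpace_of_compactSpace (pullback.snd (D.map φ₁) (f₀ ≫ g₀))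
  haveI : QuasiSeparatedSpace ↥(pullback (D.map φ₁) (f₀ ≫ g₀)) :=
    quasiSeparatedSpace_of_quasiSeparated (pullback.snd (D.map φ₁) (f₀ ≫ g₀))
  haveI : CompactSpace ↥(D.obj i₁) := QuasiCompact.compactSpace_of_compactSpace (D.map φ₁)
  haveI : QuasiSeparatedSpace ↥(D.obj i₁) := quasiSeparatedSpace_of_quasiSeparated (D.map φ₁)
  haveI : LocallyOfFiniteType (stageMap (D.map φ₁) f₀ g₀) :=
    MorphismProperty.of_isPullback (P := @LocallyOfFiniteType)
      (isPullback_stageMap (D.map φ₁) f₀ g₀) inferInstance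
  haveI : IsProper (stageMap (c.π.app i₁) (stageMap (D.map φ₁) f₀ g₀)
      (pullback.fst (D.map φ₁) g₀)) := by
    rw [stageMap_stageMap_iff @IsProper, stageMap_iff_of_eq @IsProper (c.w φ₁)]
    infer_instance
  obtain ⟨l₂, hl₂⟩ := exists_isProper_stageMap_of_isSeparated D c hc i₁
    (stageMap (D.map φ₁) f₀ g₀) (pullback.fst (D.map φ₁) g₀)
  refine ⟨Over.mk (l₂.hom ≫ φ₁), ?_⟩
  rw [stageMap_stageMap_iff @IsProper] at hl₂
  rw [stageMap_iff_of_eq @IsProper (show D.map (Over.mk (l₂.hom ≫ φ₁)).hom =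
    D.map l₂.hom ≫ D.map φ₁ from D.map_comp _ _)]
  exact hl₂

end Groth.Agent.Lib.helper5.ProperDescend
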