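import Groth.Agent.Lib.Helper5.ConsFibre2

/-!
# Constructible properties of morphisms from locally constructible loci (helper5)
-/

set_option autoImplicit false
universe u
open CategoryTheory CategoryTheory.Limits AlgebraicGeometry Topology TopologicalSpace

namespace Groth.Agent.Lib.helper5.ConsFibre

variable {P : ∀ ⦃X Y T : Scheme.{u}⦄, (X ⟶ Y) → (Y ⟶ T) → Prop}

theorem isIndConsMor_of_isConsMor (h : ConsProp.IsConsMor P) : ConsProp.IsIndConsMor P := by
  refine ⟨h.1, ?_⟩
  intro X Y S f g _ _ _ _ _ _ hη
  rcases h.2 f g with h1 | h1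
  · exact h1
  · exfalso
    have hmem : genericPoint ↥S ∈ interior (ConsProp.locusMor P f g)ᶜ :=
      ((genericPoint_spec ↥S).mem_open_set_iff isOpen_interior).mpr (by simpa using h1)
    exact (interior_subset hmem : _ ∈ (ConsProp.locusMor P f g)ᶜ) hη

/-- a field-stable relation on morphisms whose loci are locally constructible over Noetherian
bases is a constructible property of morphisms. -/
theorem isConsMor_of_isLocallyConstructible (hfs : ConsProp.IsFieldStableMor P)
    (hlc : ∀ ⦃X Y S : Scheme.{u}⦄ (f : X ⟶ Y) (g : Y ⟶ S) [IsNoetherian S]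
      [LocallyOfFiniteType g] [QuasiCompact g] [LocallyOfFiniteType (f ≫ g)]
      [QuasiCompact (f ≫ g)], IsLocallyConstructible (ConsProp.locusMor P f g)) :
    ConsProp.IsConsMor P := by
  refine ⟨hfs, ?_⟩
  intro X Y S f g _ _ _ _ _ _
  have hc : IsConstructible (ConsProp.locusMor P f g) := (hlc f g).isConstructible
  have key := Groth.Agent.Lib.helper3.ChainDim.exists_open_of_isConstructible (genericPoint ↥S) hc
  have hcl : closure {genericPoint ↥S} = Set.univ := (genericPoint_spec ↥S).def
  by_cases hη : genericPoint ↥S ∈ ConsProp.locusMor P f g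
  · left
    obtain ⟨W, hW, hηW, hsub⟩ := key.1 hη
    refine ⟨genericPoint ↥S, ?_⟩
    rw [mem_interior]
    exact ⟨W, fun s hs => hsub ⟨hs, by rw [hcl]; trivial⟩, hW, hηW⟩
  · right
    obtain ⟨W, hW, hηW, hsub⟩ := key.2 hη
    refine ⟨genericPoint ↥S, ?_⟩
    rw [mem_interior]
    exact ⟨W, fun s hs => hsub ⟨hs, by rw [hcl]; trivial⟩, hW, hηW⟩

/-- a morphism between one-point integral schemes is an fpqc covering. -/
theorem fpqc_of_subsingleton {T T' : Scheme.{u}} (h : T' ⟶ T) [IsIntegral T] [Subsingleton ↥T]
    [IsIntegral T'] [Subsingleton ↥T'] :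
    (@Surjective ⊓ @Flat ⊓ @QuasiCompact : MorphismProperty Scheme.{u}) h :=
  ⟨⟨inferInstance, inferInstance⟩, inferInstance⟩

/-- a property of morphisms of schemes which is stable under base change and descends along fpqc
coverings is field-stable as a relation on morphisms of algebraic schemes. -/
theorem isFieldStableMor_of_descendsAlong (Q : MorphismProperty Scheme.{u})
    [Q.IsStableUnderBaseChange]
    [Q.DescendsAlong (@Surjective ⊓ @Flat ⊓ @QuasiCompact : MorphismProperty Scheme.{u})] :
    ConsProp.IsFieldStableMor (fun X Y T f g => Q f) := by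
  intro X X' Y Y' T T' f g f' g' eX eY h _ _ _ _ _ _ _ _ sqY sqX
  have hh := fpqc_of_subsingleton h
  have heY : (@Surjective ⊓ @Flat ⊓ @QuasiCompact : MorphismProperty Scheme.{u}) eY :=
    MorphismProperty.of_isPullback sqY.flip hh
  exact (MorphismProperty.iff_of_isPullback (P := Q) sqX.flip heY).symm

end Groth.Agent.Lib.helper5.ConsFibre
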