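import Groth.Agent.Lib.Helper5.ConsSep2

/-!
# Closedness and density in the fibres near the generic point (EGA IV 9.5.3, 9.5.4) (helper5)

* `exists_open_not_closed_fibre` : if a locally closed `A ⊆ W` is not closed in the generic fibre,
  it is not closed in the fibres over a nonempty open.
* `exists_open_dense_fibre_or` : for constructible `A`, density of `A` in the fibres is constant on
  a nonempty open.
-/

set_option autoImplicit false
universe u
open CategoryTheory CategoryTheory.Limits AlgebraicGeometry Topology TopologicalSpace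

namespace Groth.Agent.Lib.helper5.ConsSep

open Groth.Agent.Lib.helper5.ConsFibre

variable {W S : Scheme.{u}} [IsIntegral S] [IsNoetherian S]
  (π : W ⟶ S) [LocallyOfFiniteType π] [QuasiCompact π]

/-- a constructible subset of the source containing a point over the generic point has image
containing a nonempty open neighbourhood of the generic point. -/
theorem exists_open_subset_image (B : Set W) (hB : IsConstructible B)
    (h : genericPoint S ∈ π '' B) :
    ∃ V : S.Opens, genericPoint S ∈ V ∧ (V : Set S) ⊆ π '' B := by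
  haveI : IsNoetherian W := isNoetherian_of_lft π
  haveI : LocallyOfFinitePresentation π :=
    (LocallyOfFinitePresentation.iff_locallyOfFiniteType).mpr inferInstance
  have hcons : IsConstructible (π '' B) := π.isConstructible_image hB
  obtain ⟨V, hV, hηV, hsub⟩ :=
    (Groth.Agent.Lib.helper3.ChainDim.exists_open_of_isConstructible (genericPoint S) hcons).1 h
  have hcl : closure {genericPoint S} = Set.univ := (genericPoint_spec S).def
  exact ⟨⟨V, hV⟩, hηV, fun s hs => hsub ⟨hs, by rw [hcl]; trivial⟩⟩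

theorem exists_open_disjoint_image (B : Set W) (hB : IsConstructible B)
    (h : genericPoint S ∉ π '' B) :
    ∃ V : S.Opens, genericPoint S ∈ V ∧ Disjoint (V : Set S) (π '' B) := by
  haveI : IsNoetherian W := isNoetherian_of_lft π
  haveI : LocallyOfFinitePresentation π :=
    (LocallyOfFinitePresentation.iff_locallyOfFiniteType).mpr inferInstance
  have hcons : IsConstructible (π '' B) := π.isConstructible_image hB
  obtain ⟨V, hV, hηV, hsub⟩ :=
    (Groth.Agent.Lib.helper3.ChainDim.exists_open_of_isConstructible (genericPoint S) hcons).2 h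
  have hcl : closure {genericPoint S} = Set.univ := (genericPoint_spec S).def
  refine ⟨⟨V, hV⟩, hηV, ?_⟩
  rw [Set.disjoint_left]
  intro s hs hs'
  exact hsub ⟨hs, by rw [hcl]; trivial⟩ hs'

theorem genericPoint_mem_of_nonempty (V : S.Opens) (hV : (V : Set S).Nonempty) :
    genericPoint S ∈ V := by
  obtain ⟨s, hs⟩ := hV
  exact ((genericPoint_spec S).mem_open_set_iff V.2).mpr ⟨s, trivial, hs⟩

/-- EGA IV 9.5.4, negative direction at the generic point. -/
theorem exists_open_not_closed_fibre (A : Set W) (hA : IsLocallyClosed A)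
    (h : ∃ w, w ∈ closure A ∧ w ∉ A ∧ π w = genericPoint S) :
    ∃ V : S.Opens, (V : Set S).Nonempty ∧
      ∀ s ∈ V, ∃ w, w ∈ closure (A ∩ π ⁻¹' {s}) ∧ w ∉ A ∧ π w = s := by
  haveI : IsNoetherian W := isNoetherian_of_lft π
  have hAc : IsConstructible A := Groth.Agent.Lib.helper9.isConstructible_of_isLocallyClosed hA
  have hbd : IsClosed (closure A \ A) := by
    have : closure A \ A = (coborder A)ᶜ := by rw [coborder, compl_compl]
    rw [this]
    exact hA.isOpen_coborder.isClosed_compl
  have hbc : IsConstructible (closure A \ A) :=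
    Groth.Agent.Lib.helper9.isConstructible_of_isLocallyClosed hbd.isLocallyClosed
  obtain ⟨w, hw1, hw2, hw3⟩ := h
  obtain ⟨V₁, hηV₁, hV₁⟩ := exists_open_subset_image π (closure A \ A) hbc ⟨w, ⟨hw1, hw2⟩, hw3⟩
  obtain ⟨V₂, hV₂ne, hV₂⟩ := exists_open_closure_inter_fibre π A hAc
  have hηV₂ := genericPoint_mem_of_nonempty V₂ hV₂ne
  refine ⟨V₁ ⊓ V₂, ⟨genericPoint S, hηV₁, hηV₂⟩, fun s hs => ?_⟩
  obtain ⟨w', ⟨hw'1, hw'2⟩, hw'3⟩ := hV₁ hs.1
  exact ⟨w', hV₂ s hs.2 ⟨hw'1, hw'3⟩, hw'2, hw'3⟩

/-- EGA IV 9.5.3 at the generic point. -/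
theorem exists_open_dense_fibre_or (A : Set W) (hA : IsConstructible A) :
    ∃ V : S.Opens, (V : Set S).Nonempty ∧
      ((∀ s ∈ V, π ⁻¹' {s} ⊆ closure (A ∩ π ⁻¹' {s})) ∨
        (∀ s ∈ V, ¬ π ⁻¹' {s} ⊆ closure (A ∩ π ⁻¹' {s}))) := by
  haveI : IsNoetherian W := isNoetherian_of_lft π
  obtain ⟨V₂, hV₂ne, hV₂⟩ := exists_open_closure_inter_fibre π A hA
  have hηV₂ := genericPoint_mem_of_nonempty V₂ hV₂ne
  have hBc : IsConstructible (closure A)ᶜ :=
    Groth.Agent.Lib.helper9.isConstructible_of_isLocallyClosed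
      isClosed_closure.isOpen_compl.isLocallyClosed
  by_cases hη : genericPoint S ∈ π '' (closure A)ᶜ
  · obtain ⟨V₁, hηV₁, hV₁⟩ := exists_open_subset_image π _ hBc hη
    refine ⟨V₁ ⊓ V₂, ⟨genericPoint S, hηV₁, hηV₂⟩, Or.inr fun s hs hsub => ?_⟩
    obtain ⟨w, hw1, hw2⟩ := hV₁ hs.1
    exact hw1 (closure_mono Set.inter_subset_left (hsub hw2))
  · obtain ⟨V₁, hηV₁, hV₁⟩ := exists_open_disjoint_image π _ hBc hη
    refine ⟨V₁ ⊓ V₂, ⟨genericPoint S, hηV₁, hηV₂⟩, Or.inl fun s hs w hw => ?_⟩
    refine hV₂ s hs.2 ⟨?_, hw⟩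
    by_contra hwc
    exact Set.disjoint_left.mp hV₁ hs.1 ⟨w, hwc, hw⟩

end Groth.Agent.Lib.helper5.ConsSep
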