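import Groth.Agent.S2142
import Groth.Agent.Lib.Helper5.FibreDimLocal

/-!
# Local dimension is invariant under extension of the base field (helper5)

* `localDim_eq_affine` : `X' = Spec K ×_{Spec k} Spec B`, `B` of finite type over `k`:
  `dim_{x'} X' = dim_{g' x'} Spec B`.
* `localDim_eq_of_isPullback` : for a cartesian square `X' = X ×_{Spec k} Spec K` with `X` locally of
  finite type over the field `k` and `K/k` a field extension, `dim_{x'} X' = dim_{p x'} X`.
* `fibreDimAt_eq_of_isPullback` : the local fibre dimension of a morphism locally of finite type is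
  invariant under base change.
-/

set_option autoImplicit false
universe u
open CategoryTheory CategoryTheory.Limits AlgebraicGeometry TensorProduct

namespace Groth.Agent.Lib.helper5.FieldBC

open Groth.Agent.Lib.helper5.FibreDimLocal

theorem localDim_eq_affine {k K B : Type u} [Field k] [Field K] [CommRing B] [Algebra k K]
    [Algebra k B] [Algebra.FiniteType k B] {X' : Scheme.{u}} (g' : X' ⟶ Spec (.of B))
    (f' : X' ⟶ Spec (.of K))
    (sq : IsPullback f' g' (Spec.map (CommRingCat.ofHom (algebraMap k K)))
      (Spec.map (CommRingCat.ofHom (algebraMap k B)))) (x' : X') :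
    FlatMor.localDim X' x' = FlatMor.localDim (Spec (.of B)) (g' x') := by
  let e : X' ≅ Spec (.of (K ⊗[k] B)) := sq.isoPullback ≪≫ pullbackSpecIso k K B
  have he : e.hom ≫ Spec.map (CommRingCat.ofHom
      (Algebra.TensorProduct.includeRight.toRingHom : B →+* K ⊗[k] B)) = g' := by
    simp only [e, Iso.trans_hom, Category.assoc]
    rw [show (pullbackSpecIso k K B).hom ≫ Spec.map (CommRingCat.ofHom
      (Algebra.TensorProduct.includeRight.toRingHom : B →+* K ⊗[k] B)) = pullback.snd _ _ from
      pullbackSpecIso_hom_snd k K B, IsPullback.isoPullback_hom_snd]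
  have h1 : FlatMor.localDim X' x' = FlatMor.localDim (Spec (.of (K ⊗[k] B))) (e.hom x') :=
    localDim_eq_of_isOpenEmbedding e.hom e.hom.isOpenEmbedding x'
  rw [h1, ← he, Scheme.Hom.comp_apply]
  exact Groth.Agent.S2142.result (k := k) (S := B) (K := K)
    ((e.hom x').asIdeal.comap (Algebra.TensorProduct.includeRight.toRingHom : B →+* K ⊗[k] B))
    (e.hom x').asIdeal rfl

/-- local dimension is invariant under extension of the base field. -/
theorem localDim_eq_of_isPullback {k K : CommRingCat.{u}} (hk : IsField k) (hK : IsField K)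
    (φ : k ⟶ K) {X X' : Scheme.{u}} (f : X ⟶ Spec k) [LocallyOfFiniteType f] (f' : X' ⟶ Spec K)
    (p : X' ⟶ X) (sq : IsPullback f' p (Spec.map φ) f) (x' : X') :
    FlatMor.localDim X' x' = FlatMor.localDim X (p x') := by
  obtain ⟨_, ⟨U, hU, rfl⟩, hxU, -⟩ := X.isBasis_affineOpens.exists_subset_of_mem_open
    (Set.mem_univ (p x')) isOpen_univ
  let j := hU.fromSpec
  obtain ⟨b, hb⟩ : ∃ b, j b = p x' := by
    have : p x' ∈ Set.range hU.fromSpec := by rw [hU.range_fromSpec]; exact hxU
    exact this
  obtain ⟨w, hw1, hw2⟩ := Scheme.Pullback.exists_preimage_pullback x' b hb.symm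
  have big : IsPullback (pullback.fst p j ≫ f') (pullback.snd p j) (Spec.map φ) (j ≫ f) :=
    ((IsPullback.of_hasPullback p j).flip.paste_vert sq.flip).flip
  let ψ : k ⟶ Γ(X, U) := Spec.preimage (j ≫ f)
  have hψ : Spec.map ψ = j ≫ f := Spec.map_preimage _
  rw [← hψ] at big
  letI : Field k := hk.toField
  letI : Field K := hK.toField
  letI : Algebra k K := φ.hom.toAlgebra
  letI : Algebra k Γ(X, U) := ψ.hom.toAlgebra
  haveI : Algebra.FiniteType k Γ(X, U) := by
    have h1 : LocallyOfFiniteType (Spec.map ψ) := by rw [hψ]; infer_instance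
    exact (HasRingHomProperty.Spec_iff (P := @LocallyOfFiniteType)).mp h1
  have h1 := localDim_eq_affine (k := k) (K := K) (B := Γ(X, U)) (pullback.snd p j)
    (pullback.fst p j ≫ f') big w
  have h2 : FlatMor.localDim ↥(pullback p j) w = FlatMor.localDim X' (pullback.fst p j w) :=
    localDim_eq_of_isOpenEmbedding (pullback.fst p j) (pullback.fst p j).isOpenEmbedding w
  have h3 : FlatMor.localDim ↥(Spec Γ(X, U)) b = FlatMor.localDim X (j b) :=
    localDim_eq_of_isOpenEmbedding j j.isOpenEmbedding b
  rw [hw1] at h2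
  rw [hw2] at h1
  rw [← h2, h1, ← hb]
  exact h3

/-- the local dimension of the scheme theoretic fibre at a point `t` is the local fibre dimension of
`f` at the image of `t`. -/
theorem localDim_fiber_eq_fibreDimAt {X Z : Scheme.{u}} (f : X ⟶ Z) (z : Z) (t : f.fiber z) :
    FlatMor.localDim (f.fiber z) t = FlatMor.fibreDimAt f (f.fiberι z t) := by
  have hz : f (f.fiberι z t) = z := by
    have h1 : f.fiberι z t ∈ Set.range (f.fiberι z) := Set.mem_range_self t
    rw [f.range_fiberι z] at h1
    exact h1
  rw [fibreDimAt_eq_localDim_preimage]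
  have h := localDim_eq_of_isOpenEmbedding (f.fiberHomeo z) (f.fiberHomeo z).isOpenEmbedding t
  rw [h]
  have hset : (f ⁻¹' {z} : Set X) = f ⁻¹' {f (f.fiberι z t)} := by rw [hz]
  exact localDim_congr_set hset (f.fiberι z t) hz

/-- the local fibre dimension of a morphism locally of finite type is invariant under base
change. -/
theorem fibreDimAt_eq_of_isPullback {P X Y Z : Scheme.{u}} {fst : P ⟶ X} {snd : P ⟶ Y}
    {f : X ⟶ Z} {g : Y ⟶ Z} (h : IsPullback fst snd f g) [LocallyOfFiniteType f] (x' : P) :
    FlatMor.fibreDimAt snd x' = FlatMor.fibreDimAt f (fst x') := by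
  set y := snd x' with hy
  obtain ⟨m, sq, hm⟩ : ∃ m : snd.fiber y ⟶ f.fiber (g y),
      IsPullback m (snd.fiberToSpecResidueField y) (f.fiberToSpecResidueField (g y))
        (Spec.map (g.residueFieldMap y)) ∧ m ≫ f.fiberι (g y) = snd.fiberι y ≫ fst :=
    ⟨_, isPullback_fiberToSpecResidueField_of_isPullback h y, by
      simp only [Scheme.Hom.fiberι]
      exact pullback.lift_fst _ _ _⟩
  haveI : LocallyOfFiniteType (f.fiberToSpecResidueField (g y)) :=
    MorphismProperty.pullback_snd (P := @LocallyOfFiniteType) f _ inferInstance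
  have key := localDim_eq_of_isPullback (Field.toIsField (Z.residueField (g y)))
    (Field.toIsField (Y.residueField y)) (g.residueFieldMap y)
    (f.fiberToSpecResidueField (g y)) (snd.fiberToSpecResidueField y) m sq.flip (snd.asFiber x')
  unfold FlatMor.fibreDimAt
  rw [key, localDim_fiber_eq_fibreDimAt]
  congr 1
  rw [← Scheme.Hom.comp_apply, hm, Scheme.Hom.comp_apply, snd.fiberι_asFiber x']

end Groth.Agent.Lib.helper5.FieldBC
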