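import Groth.Agent.Lib.Helper5.ConsApprox4
import Groth.Agent.S4787

/-!
# Ind-constructible relations and limits (EGA IV 9.3.3) (helper5)

`forall_locusPair_iff_eventually`, `forall_locusMor_iff_eventually`: for `S = lim S_i`, an
ind-constructible relation holds on all fibres over `S` iff it holds on all fibres at some stage.
-/

set_option autoImplicit false
set_option backward.isDefEq.respectTransparency false
universe u
open CategoryTheory CategoryTheory.Limits AlgebraicGeometry Topology TopologicalSpace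

namespace Groth.Agent.Lib.helper5.ConsApprox

open Groth.Agent.Lib.helper5.ConsFibre

theorem exists_isPullback_of_comp {C : Type*} [Category C] {X₀ S₀ S₁ S₂ X₁ X₂ : C} {u₀ : X₀ ⟶ S₀}
    {φ : S₁ ⟶ S₀} {ψ : S₂ ⟶ S₁} {χ : S₂ ⟶ S₀} (hψ : ψ ≫ φ = χ) {p₁ : X₁ ⟶ X₀} {u₁ : X₁ ⟶ S₁}
    {p₂ : X₂ ⟶ X₀} {u₂ : X₂ ⟶ S₂} (sq₁ : IsPullback p₁ u₁ u₀ φ) (sq₂ : IsPullback p₂ u₂ u₀ χ) :
    ∃ e : X₂ ⟶ X₁, e ≫ p₁ = p₂ ∧ IsPullback e u₂ u₁ ψ := by
  refine ⟨sq₁.lift p₂ (u₂ ≫ ψ) (by rw [sq₂.w, Category.assoc, hψ]), sq₁.lift_fst _ _ _, ?_⟩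
  refine IsPullback.of_right ?_ (sq₁.lift_snd _ _ _) sq₁
  rw [sq₁.lift_fst, hψ]
  exact sq₂

theorem exists_isPullback_mor_of_comp {C : Type*} [Category C] {X₀ Y₀ S₀ S₁ S₂ X₁ Y₁ X₂ Y₂ : C}
    {f₀ : X₀ ⟶ Y₀} {g₀ : Y₀ ⟶ S₀} {φ : S₁ ⟶ S₀} {ψ : S₂ ⟶ S₁} {χ : S₂ ⟶ S₀} (hψ : ψ ≫ φ = χ)
    {pY₁ : Y₁ ⟶ Y₀} {g₁ : Y₁ ⟶ S₁} {pX₁ : X₁ ⟶ X₀} {f₁ : X₁ ⟶ Y₁}
    {pY₂ : Y₂ ⟶ Y₀} {g₂ : Y₂ ⟶ S₂} {pX₂ : X₂ ⟶ X₀} {f₂ : X₂ ⟶ Y₂}
    (sqY₁ : IsPullback pY₁ g₁ g₀ φ) (sqX₁ : IsPullback pX₁ f₁ f₀ pY₁)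
    (sqY₂ : IsPullback pY₂ g₂ g₀ χ) (sqX₂ : IsPullback pX₂ f₂ f₀ pY₂) :
    ∃ (eY : Y₂ ⟶ Y₁) (eX : X₂ ⟶ X₁), IsPullback eY g₂ g₁ ψ ∧ IsPullback eX f₂ f₁ eY := by
  obtain ⟨eY, h1, h2⟩ := exists_isPullback_of_comp hψ sqY₁ sqY₂
  obtain ⟨eX, -, h4⟩ := exists_isPullback_of_comp h1 sqX₁ sqX₂
  exact ⟨eY, eX, h2, h4⟩

theorem isProConstructible_univ {X : Type*} [TopologicalSpace X] :
    ProCons.IsProConstructible (Set.univ : Set X) := by
  intro x
  exact ⟨Set.univ, isOpen_univ, trivial, ∅, by simp, by simp⟩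

section

variable {I : Type u} [SmallCategory I] [IsCofiltered I]
    (D : I ⥤ Scheme.{u}) (c : Limits.Cone D) (hc : Limits.IsLimit c)
    [∀ (i j : I) (a : i ⟶ j), IsAffineHom (D.map a)] (i₀ : I) [CompactSpace ↥(D.obj i₀)]

include hc in
/-- `S4787` over the indices above `i₀`, with `E = univ`. -/
theorem univ_subset_iff_eventually (F : ∀ a : Over i₀, Set (D.obj a.left))
    (hF : ∀ a, ProCons.IsIndConstructible (F a))
    (hFm : ∀ (a b : Over i₀) (m : a ⟶ b), ⇑(D.map m.left) ⁻¹' F b ⊆ F a) :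
    (Set.univ : Set c.pt) ⊆ (⋃ a : Over i₀, ⇑(c.π.app a.left) ⁻¹' F a : Set c.pt) ↔
      ∃ a : Over i₀, F a = Set.univ := by
  let D' : Over i₀ ⥤ Scheme.{u} := Over.forget i₀ ⋙ D
  let c' : Cone D' := c.whisker (Over.forget i₀)
  have hc' : IsLimit c' := (Functor.Initial.isLimitWhiskerEquiv (Over.forget i₀) c).symm hc
  haveI : ∀ (a b : Over i₀) (m : a ⟶ b), IsAffineHom (D'.map m) := fun a b m =>
    inferInstanceAs (IsAffineHom (D.map m.left))
  haveI : CompactSpace ↥(D'.obj (Over.mk (𝟙 i₀))) := inferInstanceAs (CompactSpace ↥(D.obj i₀))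
  have key := Groth.Agent.S4787.result D' c' hc' (Over.mk (𝟙 i₀)) (fun _ => Set.univ) F
    (fun _ => isProConstructible_univ) hF (fun _ _ _ => Set.subset_univ _) hFm
  have hE : (⋂ a : Over i₀, ⇑(c'.π.app a) ⁻¹' (Set.univ : Set (D'.obj a)) : Set c'.pt) =
      Set.univ := by simp
  rw [hE] at key
  refine key.trans ⟨?_, ?_⟩
  · rintro ⟨a, -, h⟩
    exact ⟨a, Set.eq_univ_of_univ_subset (h a (𝟙 a))⟩
  · rintro ⟨a, ha⟩
    refine ⟨a, Over.homMk a.hom (by simp), fun b m => ?_⟩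
    have := hFm b a m
    rw [ha, Set.preimage_univ] at this
    exact this

end

section Pair

variable {P : ∀ ⦃X Y T : Scheme.{u}⦄, (X ⟶ T) → (Y ⟶ T) → Prop}

theorem forall_locusPair_iff_eventually (hP : ConsPropPair.IsIndConsPair P)
    {I : Type u} [SmallCategory I] [IsCofiltered I]
    (D : I ⥤ Scheme.{u}) (c : Limits.Cone D) (hc : Limits.IsLimit c)
    [∀ (i j : I) (a : i ⟶ j), IsAffineHom (D.map a)] (i₀ : I) [CompactSpace ↥(D.obj i₀)]
    {X₀ Y₀ : Scheme.{u}} (u₀ : X₀ ⟶ D.obj i₀) (v₀ : Y₀ ⟶ D.obj i₀)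
    [LocallyOfFinitePresentation u₀] [QuasiCompact u₀] [QuasiSeparated u₀]
    [LocallyOfFinitePresentation v₀] [QuasiCompact v₀] [QuasiSeparated v₀]
    {X Y : Scheme.{u}} (u : X ⟶ c.pt) (v : Y ⟶ c.pt) (qX : X ⟶ X₀) (qY : Y ⟶ Y₀)
    (hX : IsPullback qX u u₀ (c.π.app i₀)) (hY : IsPullback qY v v₀ (c.π.app i₀)) :
    (∀ s : ↥c.pt, s ∈ ConsPropPair.locusPair P u v) ↔
      ∃ (j : I) (φ : j ⟶ i₀) (Xj Yj : Scheme.{u}) (uj : Xj ⟶ D.obj j) (vj : Yj ⟶ D.obj j)
        (pX : Xj ⟶ X₀) (pY : Yj ⟶ Y₀), IsPullback pX uj u₀ (D.map φ) ∧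
          IsPullback pY vj v₀ (D.map φ) ∧
          ∀ t : ↥(D.obj j), t ∈ ConsPropPair.locusPair P uj vj := by
  -- generic comparison of a stage with the limit
  have stage : ∀ (j : I) (φ : j ⟶ i₀) (Xj Yj : Scheme.{u}) (uj : Xj ⟶ D.obj j)
      (vj : Yj ⟶ D.obj j) (pX : Xj ⟶ X₀) (pY : Yj ⟶ Y₀), IsPullback pX uj u₀ (D.map φ) →
      IsPullback pY vj v₀ (D.map φ) →
      ConsPropPair.locusPair P u v = ⇑(c.π.app j) ⁻¹' ConsPropPair.locusPair P uj vj := by
    intro j φ Xj Yj uj vj pX pY sqX sqY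
    obtain ⟨eX, -, sX⟩ := exists_isPullback_of_comp (c.w φ) sqX hX
    obtain ⟨eY, -, sY⟩ := exists_isPullback_of_comp (c.w φ) sqY hY
    haveI : LocallyOfFiniteType uj :=
      MorphismProperty.of_isPullback (P := @LocallyOfFiniteType) sqX inferInstance
    haveI : QuasiCompact uj :=
      MorphismProperty.of_isPullback (P := @QuasiCompact) sqX inferInstance
    haveI : LocallyOfFiniteType vj :=
      MorphismProperty.of_isPullback (P := @LocallyOfFiniteType) sqY inferInstance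
    haveI : QuasiCompact vj :=
      MorphismProperty.of_isPullback (P := @QuasiCompact) sqY inferInstance
    exact locusPair_eq_preimage hP.1 sX sY
  constructor
  · intro h
    let F : ∀ a : Over i₀, Set (D.obj a.left) := fun a =>
      ConsPropPair.locusPair P (pullback.snd u₀ (D.map a.hom)) (pullback.snd v₀ (D.map a.hom))
    have hF : ∀ a, ProCons.IsIndConstructible (F a) := by
      intro a
      haveI : LocallyOfFinitePresentation (pullback.snd u₀ (D.map a.hom)) :=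
        MorphismProperty.pullback_snd (P := @LocallyOfFinitePresentation) _ _ inferInstance
      haveI : QuasiCompact (pullback.snd u₀ (D.map a.hom)) :=
        MorphismProperty.pullback_snd (P := @QuasiCompact) _ _ inferInstance
      haveI : QuasiSeparated (pullback.snd u₀ (D.map a.hom)) :=
        MorphismProperty.pullback_snd (P := @QuasiSeparated) _ _ inferInstance
      haveI : LocallyOfFinitePresentation (pullback.snd v₀ (D.map a.hom)) :=
        MorphismProperty.pullback_snd (P := @LocallyOfFinitePresentation) _ _ inferInstance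
      haveI : QuasiCompact (pullback.snd v₀ (D.map a.hom)) :=
        MorphismProperty.pullback_snd (P := @QuasiCompact) _ _ inferInstance
      haveI : QuasiSeparated (pullback.snd v₀ (D.map a.hom)) :=
        MorphismProperty.pullback_snd (P := @QuasiSeparated) _ _ inferInstance
      exact isIndConstructible_locusPair' hP _ _
    have hFm : ∀ (a b : Over i₀) (m : a ⟶ b), ⇑(D.map m.left) ⁻¹' F b ⊆ F a := by
      intro a b m
      have hw : D.map m.left ≫ D.map b.hom = D.map a.hom := by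
        rw [← D.map_comp, Over.w]
      obtain ⟨eX, -, sX⟩ := exists_isPullback_of_comp hw
        (IsPullback.of_hasPullback u₀ (D.map b.hom)) (IsPullback.of_hasPullback u₀ (D.map a.hom))
      obtain ⟨eY, -, sY⟩ := exists_isPullback_of_comp hw
        (IsPullback.of_hasPullback v₀ (D.map b.hom)) (IsPullback.of_hasPullback v₀ (D.map a.hom))
      haveI : LocallyOfFiniteType (pullback.snd u₀ (D.map b.hom)) :=
        MorphismProperty.pullback_snd (P := @LocallyOfFiniteType) _ _ inferInstance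
      haveI : QuasiCompact (pullback.snd u₀ (D.map b.hom)) :=
        MorphismProperty.pullback_snd (P := @QuasiCompact) _ _ inferInstance
      haveI : LocallyOfFiniteType (pullback.snd v₀ (D.map b.hom)) :=
        MorphismProperty.pullback_snd (P := @LocallyOfFiniteType) _ _ inferInstance
      haveI : QuasiCompact (pullback.snd v₀ (D.map b.hom)) :=
        MorphismProperty.pullback_snd (P := @QuasiCompact) _ _ inferInstance
      exact (locusPair_eq_preimage hP.1 sX sY).ge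
    have key := (univ_subset_iff_eventually D c hc i₀ F hF hFm).mp (by
      intro s _
      refine Set.mem_iUnion.mpr ⟨Over.mk (𝟙 i₀), ?_⟩
      have := stage i₀ (𝟙 i₀) _ _ (pullback.snd u₀ (D.map (𝟙 i₀))) (pullback.snd v₀ (D.map (𝟙 i₀)))
        _ _ (IsPullback.of_hasPullback u₀ (D.map (𝟙 i₀)))
        (IsPullback.of_hasPullback v₀ (D.map (𝟙 i₀)))
      have hs := h s
      rw [this] at hs
      exact hs)
    obtain ⟨a, ha⟩ := key
    refine ⟨a.left, a.hom, _, _, pullback.snd u₀ (D.map a.hom), pullback.snd v₀ (D.map a.hom), _,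
      _, IsPullback.of_hasPullback _ _, IsPullback.of_hasPullback _ _, fun t => ?_⟩
    have : t ∈ F a := by rw [ha]; trivial
    exact this
  · rintro ⟨j, φ, Xj, Yj, uj, vj, pX, pY, sqX, sqY, h⟩ s
    rw [stage j φ Xj Yj uj vj pX pY sqX sqY]
    exact h _

end Pair

section Mor

variable {P : ∀ ⦃X Y T : Scheme.{u}⦄, (X ⟶ Y) → (Y ⟶ T) → Prop}

theorem fp_comp_of_isPullback {X₀ Y₀ S₀ X₁ Y₁ S₁ : Scheme.{u}} {f₀ : X₀ ⟶ Y₀} {g₀ : Y₀ ⟶ S₀}
    {f₁ : X₁ ⟶ Y₁} {g₁ : Y₁ ⟶ S₁} {pX : X₁ ⟶ X₀} {pY : Y₁ ⟶ Y₀} {φ : S₁ ⟶ S₀}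
    (sqY : IsPullback pY g₁ g₀ φ) (sqX : IsPullback pX f₁ f₀ pY)
    (Q : MorphismProperty Scheme.{u}) [Q.IsStableUnderBaseChange] (h : Q (f₀ ≫ g₀)) :
    Q (f₁ ≫ g₁) :=
  MorphismProperty.of_isPullback (P := Q) (sqX.paste_vert sqY) h

theorem forall_locusMor_iff_eventually (hP : ConsProp.IsIndConsMor P)
    {I : Type u} [SmallCategory I] [IsCofiltered I]
    (D : I ⥤ Scheme.{u}) (c : Limits.Cone D) (hc : Limits.IsLimit c)
    [∀ (i j : I) (a : i ⟶ j), IsAffineHom (D.map a)] (i₀ : I) [CompactSpace ↥(D.obj i₀)]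
    {X₀ Y₀ : Scheme.{u}} (f₀ : X₀ ⟶ Y₀) (g₀ : Y₀ ⟶ D.obj i₀)
    [LocallyOfFinitePresentation g₀] [QuasiCompact g₀] [QuasiSeparated g₀]
    [LocallyOfFinitePresentation (f₀ ≫ g₀)] [QuasiCompact (f₀ ≫ g₀)] [QuasiSeparated (f₀ ≫ g₀)]
    {X Y : Scheme.{u}} (f : X ⟶ Y) (g : Y ⟶ c.pt) (qY : Y ⟶ Y₀) (qX : X ⟶ X₀)
    (hY : IsPullback qY g g₀ (c.π.app i₀)) (hX : IsPullback qX f f₀ qY) :
    (∀ s : ↥c.pt, s ∈ ConsProp.locusMor P f g) ↔
      ∃ (j : I) (φ : j ⟶ i₀) (Xj Yj : Scheme.{u}) (fj : Xj ⟶ Yj) (gj : Yj ⟶ D.obj j)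
        (pY : Yj ⟶ Y₀) (pX : Xj ⟶ X₀), IsPullback pY gj g₀ (D.map φ) ∧ IsPullback pX fj f₀ pY ∧
          ∀ t : ↥(D.obj j), t ∈ ConsProp.locusMor P fj gj := by
  have stage : ∀ (j : I) (φ : j ⟶ i₀) (Xj Yj : Scheme.{u}) (fj : Xj ⟶ Yj) (gj : Yj ⟶ D.obj j)
      (pY : Yj ⟶ Y₀) (pX : Xj ⟶ X₀), IsPullback pY gj g₀ (D.map φ) → IsPullback pX fj f₀ pY →
      ConsProp.locusMor P f g = ⇑(c.π.app j) ⁻¹' ConsProp.locusMor P fj gj := by
    intro j φ Xj Yj fj gj pY pX sqY sqX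
    obtain ⟨eY, eX, sY, sX⟩ := exists_isPullback_mor_of_comp (c.w φ) sqY sqX hY hX
    haveI : LocallyOfFiniteType gj :=
      MorphismProperty.of_isPullback (P := @LocallyOfFiniteType) sqY inferInstance
    haveI : QuasiCompact gj :=
      MorphismProperty.of_isPullback (P := @QuasiCompact) sqY inferInstance
    haveI : LocallyOfFiniteType (fj ≫ gj) :=
      fp_comp_of_isPullback sqY sqX @LocallyOfFiniteType inferInstance
    haveI : QuasiCompact (fj ≫ gj) :=
      fp_comp_of_isPullback sqY sqX @QuasiCompact inferInstance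
    exact locusMor_eq_preimage hP.1 sY sX
  constructor
  · intro h
    let F : ∀ a : Over i₀, Set (D.obj a.left) := fun a =>
      ConsProp.locusMor P (pullback.snd f₀ (pullback.fst g₀ (D.map a.hom)))
        (pullback.snd g₀ (D.map a.hom))
    have sqYa : ∀ a : Over i₀, IsPullback (pullback.fst g₀ (D.map a.hom))
        (pullback.snd g₀ (D.map a.hom)) g₀ (D.map a.hom) := fun a => IsPullback.of_hasPullback _ _
    have sqXa : ∀ a : Over i₀, IsPullback (pullback.fst f₀ (pullback.fst g₀ (D.map a.hom)))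
        (pullback.snd f₀ (pullback.fst g₀ (D.map a.hom))) f₀ (pullback.fst g₀ (D.map a.hom)) :=
      fun a => IsPullback.of_hasPullback _ _
    have hF : ∀ a, ProCons.IsIndConstructible (F a) := by
      intro a
      haveI : LocallyOfFinitePresentation (pullback.snd g₀ (D.map a.hom)) :=
        MorphismProperty.pullback_snd (P := @LocallyOfFinitePresentation) _ _ inferInstance
      haveI : QuasiCompact (pullback.snd g₀ (D.map a.hom)) :=
        MorphismProperty.pullback_snd (P := @QuasiCompact) _ _ inferInstance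
      haveI : QuasiSeparated (pullback.snd g₀ (D.map a.hom)) :=
        MorphismProperty.pullback_snd (P := @QuasiSeparated) _ _ inferInstance
      haveI : LocallyOfFinitePresentation (pullback.snd f₀ (pullback.fst g₀ (D.map a.hom)) ≫
          pullback.snd g₀ (D.map a.hom)) :=
        fp_comp_of_isPullback (sqYa a) (sqXa a) @LocallyOfFinitePresentation inferInstance
      haveI : QuasiCompact (pullback.snd f₀ (pullback.fst g₀ (D.map a.hom)) ≫
          pullback.snd g₀ (D.map a.hom)) :=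
        fp_comp_of_isPullback (sqYa a) (sqXa a) @QuasiCompact inferInstance
      haveI : QuasiSeparated (pullback.snd f₀ (pullback.fst g₀ (D.map a.hom)) ≫
          pullback.snd g₀ (D.map a.hom)) :=
        fp_comp_of_isPullback (sqYa a) (sqXa a) @QuasiSeparated inferInstance
      exact isIndConstructible_locusMor' hP _ _
    have hFm : ∀ (a b : Over i₀) (m : a ⟶ b), ⇑(D.map m.left) ⁻¹' F b ⊆ F a := by
      intro a b m
      have hw : D.map m.left ≫ D.map b.hom = D.map a.hom := by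
        rw [← D.map_comp, Over.w]
      obtain ⟨eY, eX, sY, sX⟩ := exists_isPullback_mor_of_comp hw (sqYa b) (sqXa b) (sqYa a)
        (sqXa a)
      haveI : LocallyOfFiniteType (pullback.snd g₀ (D.map b.hom)) :=
        MorphismProperty.pullback_snd (P := @LocallyOfFiniteType) _ _ inferInstance
      haveI : QuasiCompact (pullback.snd g₀ (D.map b.hom)) :=
        MorphismProperty.pullback_snd (P := @QuasiCompact) _ _ inferInstance
      haveI : LocallyOfFiniteType (pullback.snd f₀ (pullback.fst g₀ (D.map b.hom)) ≫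
          pullback.snd g₀ (D.map b.hom)) :=
        fp_comp_of_isPullback (sqYa b) (sqXa b) @LocallyOfFiniteType inferInstance
      haveI : QuasiCompact (pullback.snd f₀ (pullback.fst g₀ (D.map b.hom)) ≫
          pullback.snd g₀ (D.map b.hom)) :=
        fp_comp_of_isPullback (sqYa b) (sqXa b) @QuasiCompact inferInstance
      exact (locusMor_eq_preimage hP.1 sY sX).ge
    have key := (univ_subset_iff_eventually D c hc i₀ F hF hFm).mp (by
      intro s _
      refine Set.mem_iUnion.mpr ⟨Over.mk (𝟙 i₀), ?_⟩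
      have := stage i₀ (𝟙 i₀) _ _ _ _ _ _ (sqYa (Over.mk (𝟙 i₀))) (sqXa (Over.mk (𝟙 i₀)))
      have hs := h s
      rw [this] at hs
      exact hs)
    obtain ⟨a, ha⟩ := key
    refine ⟨a.left, a.hom, _, _, _, _, _, _, sqYa a, sqXa a, fun t => ?_⟩
    have : t ∈ F a := by rw [ha]; trivial
    exact this
  · rintro ⟨j, φ, Xj, Yj, fj, gj, pY, pX, sqY, sqX, h⟩ s
    rw [stage j φ Xj Yj fj gj pY pX sqY sqX]
    exact h _

end Mor

end Groth.Agent.Lib.helper5.ConsApprox
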