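import Groth.Agent.Lib.Helper5.ConsFibre
import Groth.Agent.S2396
import Groth.Agent.S3401
import Groth.Agent.S3402
import Groth.Agent.S15542
import Groth.Agent.S15543

/-!
# Constructibility criteria used for the loci of constructible properties (helper5)

* `isLocallyConstructible_preimage`
* `isConstructible_of_forall_integral`, `isIndConstructible_of_forall_integral` : criteria in a
  Noetherian scheme in terms of integral closed subschemes (EGA 0_III 9.2.3, EGA IV 1.9.10).
* `isLocallyConstructible_of_affine_models`, `isIndConstructible_of_affine_models` : locality.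
-/

set_option autoImplicit false
universe u
open CategoryTheory CategoryTheory.Limits AlgebraicGeometry Topology TopologicalSpace
open scoped Set.Notation

namespace Groth.Agent.Lib.helper5.ConsApprox

open Groth.Agent.Lib.helper5.ConsFibre

theorem isLocallyConstructible_preimage {X Y : Scheme.{u}} (f : X ⟶ Y) {T : Set Y}
    (hT : IsLocallyConstructible T) : IsLocallyConstructible (f ⁻¹' T) := by
  rw [Groth.Agent.S3402.result] at hT ⊢
  exact ⟨Groth.Agent.S15543.result f T hT.1, Groth.Agent.S15542.result f T hT.2⟩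

/-- a nonempty open of the reduced closed subscheme on `Y` contained in `ι ⁻¹' E` gives a nonempty
relatively open subset of `Y` contained in `E`. -/
theorem exists_open_of_interior_nonempty {S : Scheme.{u}} (C : Closeds S) (E : Set S)
    (h : (interior ((Scheme.IdealSheafData.vanishingIdeal C).subschemeι ⁻¹' E)).Nonempty) :
    ∃ U : Set S, IsOpen U ∧ (U ∩ (C : Set S)).Nonempty ∧ U ∩ (C : Set S) ⊆ E := by
  set ι := (Scheme.IdealSheafData.vanishingIdeal C).subschemeι with hι
  have hrange : Set.range ι = (C : Set S) := range_subschemeι_vanishingIdeal C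
  obtain ⟨z, hz⟩ := h
  obtain ⟨O, hOsub, hO, hzO⟩ := mem_interior.mp hz
  obtain ⟨W, hW, rfl⟩ := ι.isEmbedding.isInducing.isOpen_iff.mp hO
  refine ⟨W, hW, ⟨ι z, hzO, ?_⟩, ?_⟩
  · rw [← hrange]; exact ⟨z, rfl⟩
  · rintro y ⟨hyW, hyC⟩
    rw [← hrange] at hyC
    obtain ⟨z', rfl⟩ := hyC
    exact hOsub hyW

/-- EGA 0_III 9.2.3 in scheme form. -/
theorem isConstructible_of_forall_integral {S : Scheme.{u}} [IsNoetherian S] (E : Set S)
    (H : ∀ (Z : Scheme.{u}) (ι : Z ⟶ S), IsClosedImmersion ι → IsIntegral Z →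
      (interior (ι ⁻¹' E)).Nonempty ∨ (interior (ι ⁻¹' E)ᶜ).Nonempty) :
    IsConstructible E := by
  rw [Groth.Agent.S2396.result]
  intro Y hY hYi
  let C : Closeds S := ⟨Y, hY⟩
  haveI := isIntegral_subscheme_vanishingIdeal C hYi
  rcases H _ (Scheme.IdealSheafData.vanishingIdeal C).subschemeι inferInstance inferInstance with
    h | h
  · right
    exact exists_open_of_interior_nonempty C E h
  · left
    have h' : (interior ((Scheme.IdealSheafData.vanishingIdeal C).subschemeι ⁻¹' Eᶜ)).Nonempty := h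
    obtain ⟨U, hU, hUne, hUsub⟩ := exists_open_of_interior_nonempty C Eᶜ h'
    have hUsub' : U ∩ Y ⊆ Eᶜ := hUsub
    have hUne' : (U ∩ Y).Nonempty := hUne
    -- the trace of `E` on `Y` lies in the proper closed subset `Y \ U`
    have hsub : (Subtype.val ⁻¹' E : Set Y) ⊆ (Subtype.val ⁻¹' Uᶜ : Set Y) := by
      intro y hy hyU
      exact hUsub' ⟨hyU, y.2⟩ hy
    have hcl : IsClosed (Subtype.val ⁻¹' Uᶜ : Set Y) := hU.isClosed_compl.preimage continuous_subtype_val
    rw [IsNowhereDense, Set.eq_empty_iff_forall_notMem]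
    intro y hy
    have hy' : y ∈ interior (Subtype.val ⁻¹' Uᶜ : Set Y) :=
      interior_mono (closure_minimal hsub hcl) hy
    obtain ⟨O, hOsub, hO, hyO⟩ := mem_interior.mp hy'
    obtain ⟨W, hW, rfl⟩ := isOpen_induced_iff.mp hO
    -- `W ∩ Y` and `U ∩ Y` are nonempty opens of the irreducible `Y`
    obtain ⟨y₁, hy₁⟩ := hUne'
    have := hYi.isPreirreducible W U hW hU ⟨y.1, y.2, hyO⟩ ⟨y₁, hy₁.2, hy₁.1⟩
    obtain ⟨w, hwY, hwW, hwU⟩ := this
    exact hOsub (show (⟨w, hwY⟩ : Y) ∈ Subtype.val ⁻¹' W from hwW) hwU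

/-- EGA IV 1.9.10 in scheme form. -/
theorem isIndConstructible_of_forall_integral {S : Scheme.{u}} [IsNoetherian S] (E : Set S)
    (H : ∀ (Z : Scheme.{u}) (ι : Z ⟶ S) [IsClosedImmersion ι] [IsIntegral Z],
      ι (genericPoint ↥Z) ∈ E → (interior (ι ⁻¹' E)).Nonempty) :
    ProCons.IsIndConstructible E := by
  rw [Groth.Agent.S3401.result]
  intro x hx
  let C : Closeds S := ⟨closure {x}, isClosed_closure⟩
  have hCi : IsIrreducible (C : Set S) := isIrreducible_singleton.closure
  haveI := isIntegral_subscheme_vanishingIdeal C hCi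
  set ι := (Scheme.IdealSheafData.vanishingIdeal C).subschemeι with hι
  have hrange : Set.range ι = closure {x} := range_subschemeι_vanishingIdeal C
  -- the generic point maps to `x`
  have hgen : ι (genericPoint ↥(Scheme.IdealSheafData.vanishingIdeal C).subscheme) = x := by
    have h1 : IsGenericPoint (ι (genericPoint ↥(Scheme.IdealSheafData.vanishingIdeal C).subscheme))
        (closure (Set.range ι)) := by
      have := (genericPoint_spec ↥(Scheme.IdealSheafData.vanishingIdeal C).subscheme).image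
        ι.continuous
      rwa [Set.image_univ] at this
    rw [hrange, closure_closure] at h1
    exact h1.eq isGenericPoint_closure
  have hint := H _ ι (by rw [hgen]; exact hx)
  obtain ⟨U, hU, hUne, hUsub⟩ := exists_open_of_interior_nonempty C E hint
  have hUne' : (U ∩ closure {x}).Nonempty := hUne
  have hUsub' : U ∩ closure {x} ⊆ E := hUsub
  have hxU : x ∈ U := by
    obtain ⟨y, hyU, hyc⟩ := hUne'
    have hsp : x ⤳ y := specializes_iff_mem_closure.mpr hyc
    exact hsp.mem_open hU hyU
  refine Filter.mem_of_superset ((hU.preimage continuous_subtype_val).mem_nhds hxU) ?_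
  intro y hy
  exact hUsub' ⟨hy, y.2⟩

/-- locality of local constructibility, in the form used below. -/
theorem isLocallyConstructible_of_affine_models {S : Scheme.{u}} (E : Set S)
    (H : ∀ U : S.Opens, IsAffineOpen U → ∃ (S₀ : Scheme.{u}) (h : (U : Scheme.{u}) ⟶ S₀)
      (E₀ : Set S₀), IsLocallyConstructible E₀ ∧ U.ι ⁻¹' E = h ⁻¹' E₀) :
    IsLocallyConstructible E := by
  refine IsLocallyConstructible.of_isOpenCover (U := fun i : S.affineOpens => (i.1 : S.Opens))
    (iSup_affineOpens_eq_top S) fun i => ?_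
  obtain ⟨S₀, h, E₀, hE₀, heq⟩ := H i.1 i.2
  have : IsLocallyConstructible (i.1.ι ⁻¹' E) := by
    rw [heq]
    exact isLocallyConstructible_preimage h hE₀
  exact this

/-- locality of ind-constructibility. -/
theorem isIndConstructible_of_forall_open {X : Type*} [TopologicalSpace X] {E : Set X}
    (h : ∀ x : X, ∃ U : Set X, IsOpen U ∧ x ∈ U ∧
      ProCons.IsIndConstructible (Subtype.val ⁻¹' E : Set ↥U)) :
    ProCons.IsIndConstructible E := by
  intro x
  obtain ⟨U, hU, hxU, hE⟩ := h x
  obtain ⟨U', hU', hxU', 𝒮', h𝒮', heq⟩ := hE ⟨x, hxU⟩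
  refine ⟨Subtype.val '' U', hU.isOpenMap_subtype_val _ hU', ⟨⟨x, hxU⟩, hxU', rfl⟩, ?_⟩
  let e : U' ≃ₜ Subtype.val '' U' :=
    (Equiv.Set.image _ U' Subtype.val_injective).toHomeomorphOfIsInducing
      ((hU.isOpenEmbedding_subtypeVal.restrict (by simp [Set.MapsTo]) hU').isInducing)
  have he : ∀ z : U', ((e z : Subtype.val '' U') : X) = ((z : ↥U) : X) := fun z => rfl
  refine ⟨(fun T => e.symm ⁻¹' T) '' 𝒮', ?_, ?_⟩
  · rintro _ ⟨T, hT, rfl⟩
    exact (h𝒮' T hT).preimage_of_isOpenEmbedding e.symm.isOpenEmbedding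
  · ext z
    obtain ⟨z', rfl⟩ := e.surjective z
    have hz : (z' ∈ (Subtype.val ⁻¹' (Subtype.val ⁻¹' E : Set ↥U) : Set ↥U')) ↔ z' ∈ ⋃₀ 𝒮' := by
      rw [heq]
    simp only [Set.mem_preimage, Set.mem_sUnion, Set.mem_image, exists_exists_and_eq_and,
      Homeomorph.symm_apply_apply]
    rw [he z']
    simpa using hz

theorem isIndConstructible_of_affine_models {S : Scheme.{u}} (E : Set S)
    (H : ∀ U : S.Opens, IsAffineOpen U → ∃ (S₀ : Scheme.{u}) (h : (U : Scheme.{u}) ⟶ S₀)
      (E₀ : Set S₀), ProCons.IsIndConstructible E₀ ∧ U.ι ⁻¹' E = h ⁻¹' E₀) :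
    ProCons.IsIndConstructible E := by
  refine isIndConstructible_of_forall_open fun x => ?_
  obtain ⟨U, hU, hxU, -⟩ := exists_isAffineOpen_mem_and_subset (x := x) (U := ⊤) trivial
  obtain ⟨S₀, h, E₀, hE₀, heq⟩ := H U hU
  refine ⟨(U : Set S), U.2, hxU, ?_⟩
  have : ProCons.IsIndConstructible (U.ι ⁻¹' E) := by
    rw [heq]
    exact Groth.Agent.S15543.result h E₀ hE₀
  exact this

end Groth.Agent.Lib.helper5.ConsApprox
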