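import Mathlib.AlgebraicGeometry.Morphisms.FlatRank
import Mathlib.AlgebraicGeometry.Morphisms.QuasiFinite

/-!
# Schemes over the spectrum of a field (helper5)

* `flat_of_field`: every morphism to the spectrum of a field is flat.
* `surjective_of_field`: a morphism from a nonempty scheme to the spectrum of a field is surjective.
* `finrank_eq_zero_of_isEmpty`: the rank of the empty scheme over a field is zero.
-/

set_option autoImplicit false
universe u
open CategoryTheory CategoryTheory.Limits AlgebraicGeometry Opposite Topology

namespace Groth.Agent.Lib.helper5.OverField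

theorem flat_of_field_aux {K : Type u} [Field K] {R : CommRingCat.{u}}
    (c : Spec R ⟶ Spec (CommRingCat.of K)) : Flat c := by
  obtain ⟨φ, rfl⟩ := Spec.map_surjective c
  rw [HasRingHomProperty.Spec_iff (P := @Flat)]
  algebraize [φ.hom]
  change Module.Flat K _
  infer_instance

theorem flat_of_field {K : Type u} [Field K] {T : Scheme.{u}} (c : T ⟶ Spec (CommRingCat.of K)) :
    Flat c := by
  rw [IsZariskiLocalAtSource.iff_of_openCover (P := @Flat) T.affineCover]
  intro i
  exact flat_of_field_aux _

theorem subsingleton_spec_field (K : Type u) [Field K] : Subsingleton ↥(Spec (CommRingCat.of K)) :=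
  inferInstanceAs (Subsingleton (PrimeSpectrum K))

theorem surjective_of_field {K : Type u} [Field K] {T : Scheme.{u}} [Nonempty ↥T]
    (c : T ⟶ Spec (CommRingCat.of K)) : Surjective c := by
  have := subsingleton_spec_field K
  refine ⟨fun s => ?_⟩
  obtain ⟨t⟩ := (inferInstance : Nonempty ↥T)
  exact ⟨t, Subsingleton.elim _ _⟩

theorem finrank_eq_zero_of_isEmpty {K : Type u} [Field K] {T : Scheme.{u}} [IsEmpty ↥T]
    (c : T ⟶ Spec (CommRingCat.of K)) (s : ↥(Spec (CommRingCat.of K))) : c.finrank s = 0 := by
  have := subsingleton_spec_field K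
  have hflat : Flat c := flat_of_field c
  have hfin : IsFinite c := inferInstance
  by_contra hne
  have h1 : 1 ≤ c.finrank := by
    intro s'
    rw [Subsingleton.elim s' s]
    exact Nat.one_le_iff_ne_zero.2 hne
  have hsurj : Surjective c := (Scheme.Hom.one_le_finrank_iff_surjective c).1 h1
  obtain ⟨t, -⟩ := hsurj.surj s
  exact IsEmpty.false t

end Groth.Agent.Lib.helper5.OverField
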