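import Groth.Agent.Lib.Helper5.FppfSource4
import Mathlib.AlgebraicGeometry.Morphisms.QuasiSeparated

/-!
# Quasi-compactness and quasi-separatedness descend along a surjective quasi-compact source (helper5)

* `quasiCompact_of_comp_surjective'` : `p` surjective, `p ≫ q` quasi-compact ⇒ `q` quasi-compact.
* `quasiCompact_of_isPullback_surjective` : quasi-compactness descends along a surjective quasi-compact
  base change.
* `quasiSeparated_of_comp_surjective` : `p` surjective quasi-compact, `p ≫ q` quasi-separated ⇒ `q`
  quasi-separated.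
-/

set_option autoImplicit false
universe u
open AlgebraicGeometry CategoryTheory Limits

namespace Groth.Agent.Lib.helper5.FppfSource

variable {X Y S : Scheme.{u}}

theorem quasiCompact_of_comp_surjective' (p : X ⟶ Y) (q : Y ⟶ S) [Surjective p]
    [QuasiCompact (p ≫ q)] : QuasiCompact q := by
  constructor
  intro W hW hWc
  have h1 : IsCompact ((p ≫ q) ⁻¹' W) := QuasiCompact.isCompact_preimage (f := p ≫ q) W hW hWc
  have h2 : q ⁻¹' W = p '' ((p ≫ q) ⁻¹' W) := by
    ext b
    constructor
    · intro hb
      obtain ⟨a, rfl⟩ := p.surjective b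
      exact ⟨a, by simpa using hb, rfl⟩
    · rintro ⟨a, ha, rfl⟩
      simpa using ha
  rw [h2]
  exact h1.image p.continuous

/-- Quasi-compactness descends along surjective quasi-compact morphisms. -/
theorem quasiCompact_of_isPullback_surjective {A X Y Z : Scheme.{u}} {fst : A ⟶ X} {snd : A ⟶ Y}
    {f : X ⟶ Z} {g : Y ⟶ Z} (h : IsPullback fst snd f g) [QuasiCompact f] [Surjective snd]
    [QuasiCompact fst] : QuasiCompact g := by
  refine ⟨fun U hU hU' => ?_⟩
  have h1 : g ⁻¹' U = snd '' (fst ⁻¹' (f ⁻¹' U)) := by
    ext y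
    constructor
    · intro hy
      obtain ⟨a, rfl⟩ := snd.surjective y
      refine ⟨a, ?_, rfl⟩
      show f (fst a) ∈ U
      rw [← Scheme.Hom.comp_apply, h.w, Scheme.Hom.comp_apply]
      exact hy
    · rintro ⟨a, ha, rfl⟩
      show g (snd a) ∈ U
      rw [← Scheme.Hom.comp_apply, ← h.w, Scheme.Hom.comp_apply]
      exact ha
  rw [h1]
  exact ((QuasiCompact.isCompact_preimage (f := fst) _ (hU.preimage f.continuous)
    (QuasiCompact.isCompact_preimage (f := f) _ hU hU'))).image snd.continuous

theorem quasiSeparated_of_comp_surjective (p : X ⟶ Y) (q : Y ⟶ S) [Surjective p] [QuasiCompact p]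
    [QuasiSeparated (p ≫ q)] : QuasiSeparated q := by
  have hpb := (pullback_map_diagonal_isPullback p p q).flip
  haveI : QuasiCompact (pullback.map (p ≫ q) (p ≫ q) q q p p (𝟙 S) (Category.comp_id _)
      (Category.comp_id _)) :=
    MorphismProperty.pullbackMap (P := @QuasiCompact) (inferInstance : QuasiCompact p)
      (inferInstance : QuasiCompact p) rfl rfl
  haveI : Surjective (pullback.fst p p ≫ p) := inferInstance
  haveI : QuasiCompact (pullback.map p p (p ≫ q) (p ≫ q) (𝟙 X) (𝟙 X) q (Category.id_comp _).symm
      (Category.id_comp _).symm) := by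
    haveI : QuasiCompact (pullback.map p p (p ≫ q) (p ≫ q) (𝟙 X) (𝟙 X) q (Category.id_comp _).symm
        (Category.id_comp _).symm ≫ pullback.fst (p ≫ q) (p ≫ q)) := by
      rw [pullback.lift_fst, Category.comp_id]
      infer_instance
    exact QuasiCompact.of_comp _ (pullback.fst (p ≫ q) (p ≫ q))
  exact ⟨quasiCompact_of_isPullback_surjective hpb⟩

end Groth.Agent.Lib.helper5.FppfSource
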