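import Mathlib
import Groth.Prelude.Def_EGA4Misc
import Groth.Agent.Lib.Helper3.ChainDim
import Groth.Agent.Lib.Helper9.NoethInd

/-!
# Constructible properties of algebraic schemes and the fibres of a morphism (helper5)

* `fs_iff` : a field-stable relation `P(X, k)` takes the same value on corresponding fibres of the
  two vertical maps of a cartesian square.
* `exists_open_inter_subset` : if `P` holds at the generic point of an irreducible closed subset
  `Z` of the (Noetherian) target of `f`, it holds on a relative neighbourhood in `Z`.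
* `exists_open_preimage_subset` : Noetherian induction: if `P` holds for the fibres of `f` at all
  points of `Y` over the generic point of `S`, it holds over a nonempty open of `S`.
-/

set_option autoImplicit false
universe u
open CategoryTheory CategoryTheory.Limits AlgebraicGeometry Topology TopologicalSpace

namespace Groth.Agent.Lib.helper5.ConsFibre

variable {P : ∀ ⦃Y T : Scheme.{u}⦄, (Y ⟶ T) → Prop}

/-- a field-stable relation takes the same value on corresponding fibres in a cartesian square. -/
theorem fs_iff (hP : ConsProp.IsFieldStable P) {X' X Y' Y : Scheme.{u}} {fst : X' ⟶ X}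
    {snd : X' ⟶ Y'} {f : X ⟶ Y} {e : Y' ⟶ Y} (h : IsPullback fst snd f e)
    [LocallyOfFiniteType f] [QuasiCompact f] (y' : Y') :
    P (f.fiberToSpecResidueField (e y')) ↔ P (snd.fiberToSpecResidueField y') := by
  haveI : LocallyOfFiniteType (f.fiberToSpecResidueField (e y')) :=
    MorphismProperty.pullback_snd (P := @LocallyOfFiniteType) f _ inferInstance
  haveI : QuasiCompact (f.fiberToSpecResidueField (e y')) :=
    MorphismProperty.pullback_snd (P := @QuasiCompact) f _ inferInstance
  exact hP (f.fiberToSpecResidueField (e y')) (snd.fiberToSpecResidueField y') _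
    (Spec.map (e.residueFieldMap y')) (isPullback_fiberToSpecResidueField_of_isPullback h y')

theorem locus_eq_preimage (hP : ConsProp.IsFieldStable P) {X' X Y' Y : Scheme.{u}} {fst : X' ⟶ X}
    {snd : X' ⟶ Y'} {f : X ⟶ Y} {e : Y' ⟶ Y} (h : IsPullback fst snd f e)
    [LocallyOfFiniteType f] [QuasiCompact f] :
    ConsProp.locus P snd = e ⁻¹' ConsProp.locus P f := by
  ext y'
  exact (fs_iff hP h y').symm

/-- the negation of a field-stable relation is field-stable. -/
theorem isFieldStable_not (hP : ConsProp.IsFieldStable P) :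
    ConsProp.IsFieldStable (fun Y T g => ¬ P g) := by
  intro Y Y' T T' g g' e h _ _ _ _ _ _ sq
  exact not_congr (hP g g' e h sq)

/-- The closed subscheme cut out by the vanishing ideal of a closed set is reduced. -/
theorem isReduced_subscheme_vanishingIdeal {X : Scheme.{u}} (C : Closeds X) :
    IsReduced (Scheme.IdealSheafData.vanishingIdeal C).subscheme := by
  have : ∀ i, IsReduced ((Scheme.IdealSheafData.vanishingIdeal C).subschemeCover.openCover.X i) := by
    intro (U : X.affineOpens)
    have hrad : ((Scheme.IdealSheafData.vanishingIdeal C).ideal U).IsRadical := by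
      rw [Scheme.IdealSheafData.vanishingIdeal_ideal]
      exact PrimeSpectrum.isRadical_vanishingIdeal _
    have : _root_.IsReduced (Γ(X, U) ⧸ (Scheme.IdealSheafData.vanishingIdeal C).ideal U) :=
      (Ideal.isRadical_iff_quotient_reduced _).mp hrad
    change IsReduced (Spec (.of (Γ(X, U) ⧸ (Scheme.IdealSheafData.vanishingIdeal C).ideal U)))
    infer_instance
  exact IsReduced.of_openCover _ (Scheme.IdealSheafData.vanishingIdeal C).subschemeCover.openCover

theorem range_subschemeι_vanishingIdeal {X : Scheme.{u}} (C : Closeds X) :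
    Set.range (Scheme.IdealSheafData.vanishingIdeal C).subschemeι = (C : Set X) := by
  rw [Scheme.IdealSheafData.range_subschemeι, Scheme.IdealSheafData.coe_support_vanishingIdeal]

/-- the reduced induced subscheme on an irreducible closed subset is integral. -/
theorem isIntegral_subscheme_vanishingIdeal {X : Scheme.{u}} (C : Closeds X)
    (hC : IsIrreducible (C : Set X)) :
    IsIntegral (Scheme.IdealSheafData.vanishingIdeal C).subscheme := by
  haveI := isReduced_subscheme_vanishingIdeal C
  haveI : IrreducibleSpace ↥(Scheme.IdealSheafData.vanishingIdeal C).subscheme := by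
    have hemb := (Scheme.IdealSheafData.vanishingIdeal C).subschemeι.isEmbedding
    have hr := range_subschemeι_vanishingIdeal C
    have : IsIrreducible (Set.univ : Set ↥(Scheme.IdealSheafData.vanishingIdeal C).subscheme) := by
      haveI : IrreducibleSpace ↥(Set.range (Scheme.IdealSheafData.vanishingIdeal C).subschemeι) :=
        Subtype.irreducibleSpace (hr ▸ hC)
      have h1 := (IrreducibleSpace.isIrreducible_univ
        ↥(Set.range (Scheme.IdealSheafData.vanishingIdeal C).subschemeι)).image
          hemb.toHomeomorph.symm hemb.toHomeomorph.symm.continuous.continuousOn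
      rwa [Set.image_univ, hemb.toHomeomorph.symm.surjective.range_eq] at h1
    exact (irreducibleSpace_def _).mpr this
  exact isIntegral_of_irreducibleSpace_of_isReduced _

/-- the family clause of an ind-constructible property. -/
def GenClause (P : ∀ ⦃Y T : Scheme.{u}⦄, (Y ⟶ T) → Prop) : Prop :=
  ∀ ⦃X S : Scheme.{u}⦄ (u : X ⟶ S) [IsIntegral S] [IsNoetherian S]
    [LocallyOfFiniteType u] [QuasiCompact u],
    genericPoint S ∈ ConsProp.locus P u → (interior (ConsProp.locus P u)).Nonempty

/-- the family clause of a constructible property gives the ind-constructible clause. -/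
theorem genClause_of_cons
    (h : ∀ ⦃X S : Scheme.{u}⦄ (u : X ⟶ S) [IsIntegral S] [IsNoetherian S]
      [LocallyOfFiniteType u] [QuasiCompact u],
      (interior (ConsProp.locus P u)).Nonempty ∨ (interior (ConsProp.locus P u)ᶜ).Nonempty) :
    GenClause P := by
  intro X S u _ _ _ _ hη
  rcases h u with h1 | h1
  · exact h1
  · exfalso
    have hmem : genericPoint S ∈ interior (ConsProp.locus P u)ᶜ :=
      ((genericPoint_spec S).mem_open_set_iff isOpen_interior).mpr (by simpa using h1)
    exact (interior_subset hmem : _ ∈ (ConsProp.locus P u)ᶜ) hη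

/-- the family clause of a constructible property gives the ind-constructible clause of the
negation. -/
theorem genClause_not_of_cons
    (h : ∀ ⦃X S : Scheme.{u}⦄ (u : X ⟶ S) [IsIntegral S] [IsNoetherian S]
      [LocallyOfFiniteType u] [QuasiCompact u],
      (interior (ConsProp.locus P u)).Nonempty ∨ (interior (ConsProp.locus P u)ᶜ).Nonempty) :
    GenClause (fun Y T g => ¬ P g) := by
  intro X S u _ _ _ _ hη
  rcases h u with h1 | h1
  · exfalso
    have hmem : genericPoint S ∈ interior (ConsProp.locus P u) :=
      ((genericPoint_spec S).mem_open_set_iff isOpen_interior).mpr (by simpa using h1)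
    have h2 : genericPoint ↥S ∈ ConsProp.locus P u := interior_subset hmem
    exact hη h2
  · exact h1

/-- if `P` holds for the fibre of `f` at the generic point of an irreducible closed subset `Z` of
the target, it holds on a relative neighbourhood of that point in `Z`. -/
theorem exists_open_inter_subset (hP : ConsProp.IsFieldStable P) (hgen : GenClause P)
    {X Y : Scheme.{u}} (f : X ⟶ Y) [LocallyOfFiniteType f] [QuasiCompact f] [IsNoetherian Y]
    (Z : Set Y) (hZc : IsClosed Z) (hZi : IsIrreducible Z) (ζ : Y) (hζ : IsGenericPoint ζ Z)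
    (hζE : ζ ∈ ConsProp.locus P f) :
    ∃ W : Set Y, IsOpen W ∧ ζ ∈ W ∧ W ∩ Z ⊆ ConsProp.locus P f := by
  let C : Closeds Y := ⟨Z, hZc⟩
  let ι := (Scheme.IdealSheafData.vanishingIdeal C).subschemeι
  have hr : Set.range ι = Z := range_subschemeι_vanishingIdeal C
  have hemb := ι.isEmbedding
  haveI : IsIntegral (Scheme.IdealSheafData.vanishingIdeal C).subscheme :=
    isIntegral_subscheme_vanishingIdeal C hZi
  haveI : IsLocallyNoetherian (Scheme.IdealSheafData.vanishingIdeal C).subscheme :=
    LocallyOfFiniteType.isLocallyNoetherian ι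
  haveI : CompactSpace ↥(Scheme.IdealSheafData.vanishingIdeal C).subscheme :=
    QuasiCompact.compactSpace_of_compactSpace ι
  haveI : IsNoetherian (Scheme.IdealSheafData.vanishingIdeal C).subscheme := {}
  have h : IsPullback (pullback.fst f ι) (pullback.snd f ι) f ι := IsPullback.of_hasPullback _ _
  haveI : LocallyOfFiniteType (pullback.snd f ι) :=
    MorphismProperty.pullback_snd (P := @LocallyOfFiniteType) f ι inferInstance
  haveI : QuasiCompact (pullback.snd f ι) :=
    MorphismProperty.pullback_snd (P := @QuasiCompact) f ι inferInstance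
  have hloc := locus_eq_preimage hP h
  have hgp : ι (genericPoint ↥(Scheme.IdealSheafData.vanishingIdeal C).subscheme) = ζ := by
    have h1 := (genericPoint_spec ↥(Scheme.IdealSheafData.vanishingIdeal C).subscheme).image
      ι.continuous
    have h2 : closure (ι '' (Set.univ : Set ↥(Scheme.IdealSheafData.vanishingIdeal C).subscheme)) = Z := by
      rw [Set.image_univ, hr, hZc.closure_eq]
    rw [h2] at h1
    exact h1.eq hζ
  have hmem : genericPoint ↥(Scheme.IdealSheafData.vanishingIdeal C).subscheme ∈
      ConsProp.locus P (pullback.snd f ι) := by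
    rw [hloc, Set.mem_preimage, hgp]
    exact hζE
  obtain ⟨z0, hz0⟩ := hgen (pullback.snd f ι) hmem
  obtain ⟨W, hW, hWeq⟩ := hemb.isInducing.isOpen_iff.mp
    (isOpen_interior (s := ConsProp.locus P (pullback.snd f ι)))
  refine ⟨W, hW, ?_, ?_⟩
  · rw [hζ.mem_open_set_iff hW]
    refine ⟨ι z0, ?_, ?_⟩
    · rw [← hr]; exact Set.mem_range_self z0
    · have : z0 ∈ ι ⁻¹' W := by rw [hWeq]; exact hz0
      exact this
  · rintro y ⟨hyW, hyZ⟩
    rw [← hr] at hyZ
    obtain ⟨z, rfl⟩ := hyZ
    have hz : z ∈ ι ⁻¹' W := hyW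
    rw [hWeq] at hz
    have := interior_subset hz
    rw [hloc] at this
    exact this

/-- Noetherian induction: if `P` holds for the fibres of `f` at all points of `Y` lying over the
generic point of `S`, then it holds for the fibres at all points over a nonempty open of `S`. -/
theorem exists_open_preimage_subset (hP : ConsProp.IsFieldStable P) (hgen : GenClause P)
    {X Y S : Scheme.{u}} (f : X ⟶ Y) [LocallyOfFiniteType f] [QuasiCompact f] [IsNoetherian Y]
    (g : Y ⟶ S) [IrreducibleSpace ↥S]
    (hη : ∀ y : Y, g y = genericPoint ↥S → y ∈ ConsProp.locus P f) :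
    ∃ V : Set S, IsOpen V ∧ V.Nonempty ∧ g ⁻¹' V ⊆ ConsProp.locus P f := by
  have key : ∀ Z : Set Y, IsClosed Z →
      ∃ V : Set S, IsOpen V ∧ V.Nonempty ∧ Z ∩ g ⁻¹' V ⊆ ConsProp.locus P f := by
    apply Groth.Agent.Lib.helper9.noetherian_closed_induction
    · exact ⟨Set.univ, isOpen_univ, Set.univ_nonempty, by simp⟩
    · rintro Z₁ Z₂ - - ⟨V₁, hV₁, hne₁, hs₁⟩ ⟨V₂, hV₂, hne₂, hs₂⟩
      refine ⟨V₁ ∩ V₂, hV₁.inter hV₂, nonempty_preirreducible_inter hV₁ hV₂ hne₁ hne₂, ?_⟩
      rintro y ⟨hy | hy, hyV⟩
      · exact hs₁ ⟨hy, hyV.1⟩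
      · exact hs₂ ⟨hy, hyV.2⟩
    · intro Z hZc hZi IH
      obtain ⟨ζ, hζ⟩ := QuasiSober.sober hZi hZc
      by_cases hg : g ζ = genericPoint ↥S
      · obtain ⟨W, hW, hζW, hWZ⟩ := exists_open_inter_subset hP hgen f Z hZc hZi ζ hζ (hη ζ hg)
        have hζZ : ζ ∈ Z := hζ.mem
        obtain ⟨V, hV, hne, hs⟩ := IH (Z \ W) (hZc.sdiff hW) Set.sdiff_subset
          (fun heq => by
            have : ζ ∈ Z \ W := by rw [heq]; exact hζZ
            exact this.2 hζW)
        refine ⟨V, hV, hne, ?_⟩
        rintro y ⟨hyZ, hyV⟩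
        by_cases hyW : y ∈ W
        · exact hWZ ⟨hyW, hyZ⟩
        · exact hs ⟨⟨hyZ, hyW⟩, hyV⟩
      · refine ⟨(closure {g ζ})ᶜ, isClosed_closure.isOpen_compl, ?_, ?_⟩
        · by_contra hemp
          rw [Set.not_nonempty_iff_eq_empty, Set.compl_empty_iff] at hemp
          have h1 : IsGenericPoint (g ζ) (⊤ : Set S) := hemp
          exact hg (h1.eq (genericPoint_spec ↥S))
        · rintro y ⟨hyZ, hyV⟩
          exfalso
          apply hyV
          have h1 : ζ ⤳ y := by
            rw [specializes_iff_mem_closure, hζ.def]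
            exact hyZ
          have h2 : g ζ ⤳ g y := h1.map g.continuous
          exact specializes_iff_mem_closure.mp h2
  obtain ⟨V, hV, hne, hs⟩ := key Set.univ isClosed_univ
  exact ⟨V, hV, hne, fun y hy => hs ⟨trivial, hy⟩⟩

/-! ### Noetherian bookkeeping -/

theorem isNoetherian_of_lft {Y S : Scheme.{u}} (g : Y ⟶ S) [IsNoetherian S]
    [LocallyOfFiniteType g] [QuasiCompact g] : IsNoetherian Y := by
  haveI : IsLocallyNoetherian Y := LocallyOfFiniteType.isLocallyNoetherian g
  haveI : CompactSpace ↥Y := QuasiCompact.compactSpace_of_compactSpace g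
  exact {}

theorem quasiCompact_of_isNoetherian {X Y : Scheme.{u}} (f : X ⟶ Y) [IsNoetherian X] :
    QuasiCompact f :=
  ⟨fun _ _ _ => NoetherianSpace.isCompact _⟩

/-- a one-point integral scheme is Noetherian. -/
theorem isNoetherian_of_subsingleton (T : Scheme.{u}) [IsIntegral T] [Subsingleton ↥T] :
    IsNoetherian T := by
  haveI : IsArtinianScheme T := inferInstance
  exact {}

/-! ### The relation "every fibre of `f` satisfies `P`" -/

theorem isPullback_fiberMap {X Y S : Scheme.{u}} (f : X ⟶ Y) (g : Y ⟶ S) (s : S) :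
    IsPullback ((f ≫ g).fiberι s) (MoreMor.fiberMap f g s) f (g.fiberι s) := by
  have hfst : MoreMor.fiberMap f g s ≫ g.fiberι s = (f ≫ g).fiberι s ≫ f :=
    pullback.lift_fst _ _ _
  have hsnd : MoreMor.fiberMap f g s ≫ g.fiberToSpecResidueField s =
      (f ≫ g).fiberToSpecResidueField s := pullback.lift_snd _ _ _
  have big : IsPullback ((f ≫ g).fiberι s)
      (MoreMor.fiberMap f g s ≫ g.fiberToSpecResidueField s) (f ≫ g)
      (S.fromSpecResidueField s) := by
    rw [hsnd]
    exact IsPullback.of_hasPullback _ _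
  have bot : IsPullback (g.fiberι s) (g.fiberToSpecResidueField s) g
      (S.fromSpecResidueField s) := IsPullback.of_hasPullback _ _
  exact IsPullback.of_bot big hfst.symm bot

theorem fiberMap_comp {X Y S : Scheme.{u}} (f : X ⟶ Y) (g : Y ⟶ S) (s : S) :
    MoreMor.fiberMap f g s ≫ g.fiberToSpecResidueField s =
      (f ≫ g).fiberToSpecResidueField s := pullback.lift_snd _ _ _

theorem mem_locusMor_iff (hP : ConsProp.IsFieldStable P) {X Y S : Scheme.{u}} (f : X ⟶ Y)
    (g : Y ⟶ S) [LocallyOfFiniteType f] [QuasiCompact f] (s : S) :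
    s ∈ ConsProp.locusMor (fun X Y T f g => ∀ y : ↥Y, P (f.fiberToSpecResidueField y)) f g ↔
      ∀ y : Y, g y = s → y ∈ ConsProp.locus P f := by
  have sq := isPullback_fiberMap f g s
  change (∀ y' : ↥(g.fiber s), P ((MoreMor.fiberMap f g s).fiberToSpecResidueField y')) ↔ _
  constructor
  · intro H y hy
    have hy' : y ∈ Set.range (g.fiberι s) := by rw [g.range_fiberι]; exact hy
    obtain ⟨y', rfl⟩ := hy'
    exact (fs_iff hP sq y').mpr (H y')
  · intro H y'
    have hy : g (g.fiberι s y') = s := by
      have : g.fiberι s y' ∈ Set.range (g.fiberι s) := Set.mem_range_self y'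
      rw [g.range_fiberι] at this
      exact this
    exact (fs_iff hP sq y').mp (H _ hy)

theorem surjective_of_isPullback {Y Y' T T' : Scheme.{u}} {g : Y ⟶ T} {g' : Y' ⟶ T'}
    {e : Y' ⟶ Y} {h : T' ⟶ T} (sq : IsPullback e g' g h) [Subsingleton ↥T] [Nonempty ↥T'] :
    Function.Surjective e := by
  intro y
  obtain ⟨t'⟩ := ‹Nonempty ↥T'›
  obtain ⟨z, hz1, -⟩ := Scheme.Pullback.exists_preimage_pullback y t'
    (Subsingleton.elim (g y) (h t'))
  refine ⟨sq.isoPullback.inv z, ?_⟩
  rw [← Scheme.Hom.comp_apply, sq.isoPullback_inv_fst]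
  exact hz1

theorem isFieldStableMor_forall (hP : ConsProp.IsFieldStable P) :
    ConsProp.IsFieldStableMor (fun X Y T f g => ∀ y : ↥Y, P (f.fiberToSpecResidueField y)) := by
  intro X X' Y Y' T T' f g f' g' eX eY h _ _ _ _ _ _ _ _ sqY sqX
  haveI : IsNoetherian T := isNoetherian_of_subsingleton T
  haveI : IsNoetherian X := isNoetherian_of_lft (f ≫ g)
  haveI : LocallyOfFiniteType f := locallyOfFiniteType_of_comp f g
  haveI : QuasiCompact f := quasiCompact_of_isNoetherian f
  constructor
  · intro H y'
    exact (fs_iff hP sqX y').mp (H (eY y'))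
  · intro H y
    obtain ⟨y', rfl⟩ := surjective_of_isPullback sqY y
    exact (fs_iff hP sqX y').mpr (H y')

/-- EGA IV 9.2.6.1-type: if `P` is ind-constructible then so is "every fibre of `f` satisfies `P`". -/
theorem isIndConsMor_forall_fiber (hP : ConsProp.IsIndCons P) :
    ConsProp.IsIndConsMor
      (fun X Y T f g => ∀ y : ↥Y, P (f.fiberToSpecResidueField y)) := by
  refine ⟨isFieldStableMor_forall hP.1, ?_⟩
  intro X Y S f g _ _ _ _ _ _ hη
  haveI : IsNoetherian Y := isNoetherian_of_lft g
  haveI : IsNoetherian X := isNoetherian_of_lft (f ≫ g)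
  haveI : LocallyOfFiniteType f := locallyOfFiniteType_of_comp f g
  haveI : QuasiCompact f := quasiCompact_of_isNoetherian f
  rw [mem_locusMor_iff hP.1] at hη
  obtain ⟨V, hV, hne, hs⟩ := exists_open_preimage_subset hP.1 hP.2 f g hη
  refine hne.mono (hV.subset_interior_iff.2 ?_)
  intro s hs'
  rw [mem_locusMor_iff hP.1]
  intro y hy
  exact hs (by rw [Set.mem_preimage, hy]; exact hs')

/-- EGA IV 9.2.6.1-type: if `P` is constructible then so is "every fibre of `f` satisfies `P`". -/
theorem isConsMor_forall_fiber (hP : ConsProp.IsCons P) :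
    ConsProp.IsConsMor
      (fun X Y T f g => ∀ y : ↥Y, P (f.fiberToSpecResidueField y)) := by
  refine ⟨isFieldStableMor_forall hP.1, ?_⟩
  intro X Y S f g _ _ _ _ _ _
  haveI : IsNoetherian Y := isNoetherian_of_lft g
  haveI : IsNoetherian X := isNoetherian_of_lft (f ≫ g)
  haveI : LocallyOfFiniteType f := locallyOfFiniteType_of_comp f g
  haveI : QuasiCompact f := quasiCompact_of_isNoetherian f
  by_cases hη : ∀ y : Y, g y = genericPoint ↥S → y ∈ ConsProp.locus P f
  · left
    obtain ⟨V, hV, hne, hs⟩ :=
      exists_open_preimage_subset hP.1 (genClause_of_cons hP.2) f g hη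
    refine hne.mono (hV.subset_interior_iff.2 ?_)
    intro s hs'
    rw [mem_locusMor_iff hP.1]
    intro y hy
    exact hs (by rw [Set.mem_preimage, hy]; exact hs')
  · right
    push Not at hη
    obtain ⟨y0, hy0, hy0E⟩ := hη
    obtain ⟨W, hW, hy0W, hWZ⟩ := exists_open_inter_subset (isFieldStable_not hP.1)
      (genClause_not_of_cons hP.2) f (closure {y0}) isClosed_closure
      isIrreducible_singleton.closure y0 isGenericPoint_closure hy0E
    haveI : LocallyOfFinitePresentation g :=
      (LocallyOfFinitePresentation.iff_locallyOfFiniteType).mpr inferInstance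
    have hcons : IsConstructible (g '' (W ∩ closure {y0})) :=
      g.isConstructible_image (Groth.Agent.Lib.helper9.isConstructible_of_isLocallyClosed
        (hW.isLocallyClosed.inter isClosed_closure.isLocallyClosed))
    obtain ⟨W', hW', hηW', hsub⟩ :=
      (Groth.Agent.Lib.helper3.ChainDim.exists_open_of_isConstructible (genericPoint ↥S) hcons).1
        ⟨y0, ⟨hy0W, subset_closure rfl⟩, hy0⟩
    refine ⟨genericPoint ↥S, ?_⟩
    rw [mem_interior]
    refine ⟨W', ?_, hW', hηW'⟩
    intro s hsW' hmem
    have hcl : s ∈ closure {genericPoint ↥S} := by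
      rw [(genericPoint_spec ↥S).def]; trivial
    obtain ⟨y, hyW, rfl⟩ := hsub ⟨hsW', hcl⟩
    rw [mem_locusMor_iff hP.1] at hmem
    exact hWZ hyW (hmem y rfl)

end Groth.Agent.Lib.helper5.ConsFibre
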