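import Groth.Agent.Lib.Helper5.ConsPair7

/-!
# Ind-constructible properties of morphisms of algebraic schemes from spreading out (helper5)

`GeomSpreads Q` : the conclusion of `exists_baseChange_of_limDescends` / `_of_algSpreads`.
`isIndConsMor_of_geomSpreads` : if `Q` is stable under base change, field-stable and spreads out,
then `Q` is an ind-constructible property of morphisms of algebraic schemes (`ConsProp.IsIndConsMor`).
-/

set_option autoImplicit false
set_option backward.isDefEq.respectTransparency false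
universe u
open CategoryTheory CategoryTheory.Limits AlgebraicGeometry Topology TopologicalSpace

namespace Groth.Agent.Lib.helper5.ConsFibre

open Groth.Agent.Lib.helper5.FGLimit

/-- the geometric spreading-out property of `Q`. -/
def GeomSpreads (Q : MorphismProperty Scheme.{u}) : Prop :=
  ∀ {S A B T' A' B' : Scheme.{u}}
    (a : A ⟶ S) (b : B ⟶ S) [QuasiCompact a] [QuasiSeparated a] [LocallyOfFinitePresentation a]
    [QuasiCompact b] [QuasiSeparated b] [LocallyOfFinitePresentation b]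
    [IsIntegral T'] [Subsingleton ↥T'] (t : T' ⟶ S)
    {a' : A' ⟶ T'} {b' : B' ⟶ T'} {eA : A' ⟶ A} {eB : B' ⟶ B}
    (_ : IsPullback eA a' a t) (_ : IsPullback eB b' b t) (φ : A ⟶ B) (_ : φ ≫ b = a)
    (φ' : A' ⟶ B') (_ : Q φ') (_ : φ' ≫ b' = a') (_ : φ' ≫ eB = eA ≫ φ),
    ∃ (S₁ : Scheme.{u}) (p : S₁ ⟶ S) (j : T' ⟶ S₁),
      IsIntegral S₁ ∧ IsAffine S₁ ∧ LocallyOfFiniteType p ∧ j ≫ p = t ∧
      (∀ x, IsGenericPoint (j x) (⊤ : Set ↥S₁)) ∧
      ∀ ⦃A₁ B₁ : Scheme.{u}⦄ (eA₁ : A₁ ⟶ A) (a₁ : A₁ ⟶ S₁) (eB₁ : B₁ ⟶ B) (b₁ : B₁ ⟶ S₁)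
        (φ₁ : A₁ ⟶ B₁), IsPullback eA₁ a₁ a p → IsPullback eB₁ b₁ b p → φ₁ ≫ b₁ = a₁ →
          φ₁ ≫ eB₁ = eA₁ ≫ φ → Q φ₁

variable {Q : MorphismProperty Scheme.{u}}

theorem geomSpreads_of_algSpreads [Q.RespectsIso] (hQ : AlgSpreads Q) : GeomSpreads Q := by
  intro S A B T' A' B' a b _ _ _ _ _ _ _ _ t a' b' eA eB sqA sqB φ hφ φ' hQφ' hφ'b hφ'e
  exact exists_baseChange_of_algSpreads hQ a b t sqA sqB φ hφ φ' hQφ' hφ'b hφ'e

theorem geomSpreads_of_limDescends [Q.RespectsIso] (hQ : LimDescends Q) : GeomSpreads Q := by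
  intro S A B T' A' B' a b _ _ _ _ _ _ _ _ t a' b' eA eB sqA sqB φ hφ φ' hQφ' hφ'b hφ'e
  exact exists_baseChange_of_limDescends hQ a b t sqA sqB φ hφ φ' hQφ' hφ'b hφ'e

/-- EGA IV 9.3.2-type statement: a property of morphisms which is stable under base change, invariant
under extension of the base field and spreads out is ind-constructible. -/
theorem isIndConsMor_of_geomSpreads [Q.IsStableUnderBaseChange]
    (hfs : ConsProp.IsFieldStableMor (fun X Y T f g => Q f)) (hQ : GeomSpreads Q) :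
    ConsProp.IsIndConsMor (fun X Y T f g => Q f) := by
  refine ⟨hfs, ?_⟩
  intro X Y S f g _ _ _ _ _ _ hη
  haveI : IsNoetherian Y := isNoetherian_of_lft g
  haveI : IsNoetherian X := isNoetherian_of_lft (f ≫ g)
  haveI : LocallyOfFinitePresentation g :=
    (LocallyOfFinitePresentation.iff_locallyOfFiniteType).mpr inferInstance
  haveI : LocallyOfFinitePresentation (f ≫ g) :=
    (LocallyOfFinitePresentation.iff_locallyOfFiniteType).mpr inferInstance
  have hQη : Q (MoreMor.fiberMap f g (genericPoint ↥S)) := hη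
  have hφ'e : MoreMor.fiberMap f g (genericPoint ↥S) ≫ g.fiberι (genericPoint ↥S) =
      (f ≫ g).fiberι (genericPoint ↥S) ≫ f := pullback.lift_fst _ _ _
  obtain ⟨S₁, p, j, hS₁i, hS₁a, hp, hjp, hgen, H⟩ :=
    hQ (f ≫ g) g (S.fromSpecResidueField (genericPoint ↥S))
      (IsPullback.of_hasPullback (f ≫ g) (S.fromSpecResidueField (genericPoint ↥S)))
      (IsPullback.of_hasPullback g (S.fromSpecResidueField (genericPoint ↥S))) f rfl
      (MoreMor.fiberMap f g (genericPoint ↥S)) hQη (fiberMap_comp f g (genericPoint ↥S)) hφ'e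
  haveI := hS₁i
  haveI := hS₁a
  haveI := hp
  haveI : QuasiCompact p := inferInstance
  haveI : IsNoetherian S₁ := isNoetherian_of_lft p
  let g₁ : pullback (f ≫ g) p ⟶ pullback g p :=
    pullback.map (f ≫ g) p g p f (𝟙 _) (𝟙 _) (by rw [Category.comp_id])
      (by rw [Category.comp_id, Category.id_comp])
  have hg₁fst : g₁ ≫ pullback.fst g p = pullback.fst (f ≫ g) p ≫ f := by
    change pullback.map _ _ _ _ _ _ _ _ _ ≫ _ = _
    rw [pullback.map, pullback.lift_fst]
  have hg₁snd : g₁ ≫ pullback.snd g p = pullback.snd (f ≫ g) p := by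
    change pullback.map _ _ _ _ _ _ _ _ _ ≫ _ = _
    rw [pullback.map, pullback.lift_snd, Category.comp_id]
  have hQ₁ : Q g₁ := H (pullback.fst (f ≫ g) p) (pullback.snd (f ≫ g) p) (pullback.fst g p)
    (pullback.snd g p) g₁ (IsPullback.of_hasPullback (f ≫ g) p) (IsPullback.of_hasPullback g p)
    hg₁snd hg₁fst
  have sqY₁ : IsPullback (pullback.fst g p) (pullback.snd g p) g p := IsPullback.of_hasPullback g p
  have sqtop : IsPullback (pullback.fst (f ≫ g) p) g₁ f (pullback.fst g p) := by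
    refine IsPullback.of_bot ?_ hg₁fst.symm sqY₁
    rw [hg₁snd]
    exact IsPullback.of_hasPullback (f ≫ g) p
  have hloc := locusMor_eq_preimage hfs sqY₁ sqtop
  have hall : ConsProp.locusMor (fun X Y T f g => Q f) g₁ (pullback.snd g p) = Set.univ := by
    ext s₁
    simp only [Set.mem_univ, iff_true]
    change Q (MoreMor.fiberMap g₁ (pullback.snd g p) s₁)
    exact MorphismProperty.of_isPullback (P := Q) (isPullback_fiberMap g₁ (pullback.snd g p) s₁)
      hQ₁
  rw [hall] at hloc
  have hrange : Set.range p ⊆ ConsProp.locusMor (fun X Y T f g => Q f) f g := by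
    rintro _ ⟨s₁, rfl⟩
    have : s₁ ∈ (p ⁻¹' ConsProp.locusMor (fun X Y T f g => Q f) f g) := by
      rw [← hloc]; trivial
    exact this
  obtain ⟨pt⟩ : Nonempty ↥(Spec (S.residueField (genericPoint ↥S))) := inferInstance
  have hjpt : j pt = genericPoint ↥S₁ := (hgen pt).eq (genericPoint_spec ↥S₁)
  have hpη : p (genericPoint ↥S₁) = genericPoint ↥S := by
    rw [← hjpt, ← Scheme.Hom.comp_apply, hjp]
    exact Scheme.fromSpecResidueField_apply (genericPoint ↥S) _
  haveI : LocallyOfFinitePresentation p :=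
    (LocallyOfFinitePresentation.iff_locallyOfFiniteType).mpr inferInstance
  have hcons : IsConstructible (p '' Set.univ) :=
    p.isConstructible_image (Groth.Agent.Lib.helper9.isConstructible_of_isLocallyClosed
      isOpen_univ.isLocallyClosed)
  obtain ⟨W, hW, hηW, hsub⟩ :=
    (Groth.Agent.Lib.helper3.ChainDim.exists_open_of_isConstructible (genericPoint ↥S) hcons).1
      ⟨genericPoint ↥S₁, trivial, hpη⟩
  have hcl : closure {genericPoint ↥S} = Set.univ := (genericPoint_spec ↥S).def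
  refine ⟨genericPoint ↥S, ?_⟩
  rw [mem_interior]
  refine ⟨W, ?_, hW, hηW⟩
  intro s hsW
  obtain ⟨s₁, -, rfl⟩ := hsub ⟨hsW, by rw [hcl]; trivial⟩
  exact hrange ⟨s₁, rfl⟩

theorem isIndConsMor_of_limDescends [Q.IsStableUnderBaseChange]
    (hfs : ConsProp.IsFieldStableMor (fun X Y T f g => Q f)) (hQ : LimDescends Q) :
    ConsProp.IsIndConsMor (fun X Y T f g => Q f) :=
  isIndConsMor_of_geomSpreads hfs (geomSpreads_of_limDescends hQ)

theorem isIndConsMor_of_algSpreads [Q.IsStableUnderBaseChange]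
    (hfs : ConsProp.IsFieldStableMor (fun X Y T f g => Q f)) (hQ : AlgSpreads Q) :
    ConsProp.IsIndConsMor (fun X Y T f g => Q f) :=
  isIndConsMor_of_geomSpreads hfs (geomSpreads_of_algSpreads hQ)

theorem isIndConsMor_QA : ConsProp.IsIndConsMor (fun X Y T f g => QA.{u} f) :=
  isIndConsMor_of_algSpreads (isFieldStableMor_of_descendsAlong QA) algSpreads_QA

end Groth.Agent.Lib.helper5.ConsFibre
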