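import Mathlib.AlgebraicGeometry.Gluing
import Mathlib.AlgebraicGeometry.Morphisms.IsIso

/-!
# Gluing a morphism from a family of charts (helper5)

`existsUnique_of_charts`: if open immersions `c i : U i ⟶ X` cover `X`, and `g i : U i ⟶ Y` agree on
overlaps (witnessed, for every pair `i j`, by a scheme `W` with maps to `U i` and `U j` whose image in
`X` is the whole overlap and is an open immersion), then there is a unique `p : X ⟶ Y` with
`c i ≫ p = g i`.
-/

set_option autoImplicit false

universe u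

open CategoryTheory CategoryTheory.Limits AlgebraicGeometry

namespace Groth.Agent.Lib.helper5

theorem existsUnique_of_charts {X Y : Scheme.{u}} {ι : Type u}
    {U : ι → Scheme.{u}} (c : ∀ i, U i ⟶ X) [∀ i, IsOpenImmersion (c i)]
    (hcov : ∀ x : X, ∃ i, x ∈ Set.range (c i).base)
    (g : ∀ i, U i ⟶ Y)
    (hcompat : ∀ i j, ∃ (W : Scheme.{u}) (a : W ⟶ U i) (b : W ⟶ U j),
      a ≫ c i = b ≫ c j ∧ a ≫ g i = b ≫ g j ∧ IsOpenImmersion (a ≫ c i) ∧
      Set.range (c i).base ∩ Set.range (c j).base ⊆ Set.range (a ≫ c i).base) :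
    ∃! p : X ⟶ Y, ∀ i, c i ≫ p = g i := by
  let 𝒰 : X.OpenCover := {
    I₀ := ι, X i := U i, f i := c i,
    mem₀ := by
      rw [Scheme.presieve₀_mem_precoverage_iff]
      refine ⟨fun x ↦ ?_, inferInstance⟩
      obtain ⟨i, hi⟩ := hcov x
      exact ⟨i, hi⟩ }
  have hglue : ∀ i j, pullback.fst (c i) (c j) ≫ g i = pullback.snd (c i) (c j) ≫ g j := by
    intro i j
    obtain ⟨W, a, b, hab, hg, hopen, hrange⟩ := hcompat i j
    let l : W ⟶ pullback (c i) (c j) := pullback.lift a b hab
    have hl1 : l ≫ pullback.fst (c i) (c j) = a := pullback.lift_fst _ _ _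
    have hl2 : l ≫ pullback.snd (c i) (c j) = b := pullback.lift_snd _ _ _
    have hlo : IsOpenImmersion (l ≫ (pullback.fst (c i) (c j) ≫ c i)) := by
      rw [← Category.assoc, hl1]; exact hopen
    have hlopen : IsOpenImmersion l := IsOpenImmersion.of_comp l (pullback.fst (c i) (c j) ≫ c i)
    have hlsurj : Surjective l := by
      constructor
      intro z
      have hz : (pullback.fst (c i) (c j) ≫ c i).base z ∈
          Set.range (c i).base ∩ Set.range (c j).base := by
        refine ⟨⟨(pullback.fst (c i) (c j)).base z, rfl⟩, ?_⟩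
        rw [pullback.condition]
        exact ⟨(pullback.snd (c i) (c j)).base z, rfl⟩
      obtain ⟨w, hw⟩ := hrange hz
      refine ⟨w, ?_⟩
      apply (pullback.fst (c i) (c j) ≫ c i).isOpenEmbedding.injective
      rw [← hw, ← hl1]
      rfl
    have hliso : IsIso l := (isIso_iff_isOpenImmersion_and_surjective l).mpr ⟨hlopen, hlsurj⟩
    rw [← cancel_epi l, ← Category.assoc, ← Category.assoc, hl1, hl2, hg]
  refine ⟨𝒰.glueMorphisms g hglue, fun i => 𝒰.ι_glueMorphisms g hglue i, ?_⟩
  intro q hq
  apply 𝒰.hom_ext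
  intro i
  change c i ≫ q = c i ≫ 𝒰.glueMorphisms g hglue
  rw [hq i]
  exact (𝒰.ι_glueMorphisms g hglue i).symm

end Groth.Agent.Lib.helper5
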