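import Mathlib.AlgebraicGeometry.Morphisms.Etale
import Mathlib.RingTheory.Unramified.LocalStructure
import Mathlib.RingTheory.Etale.StandardEtale

/-!
# Local structure of etale morphisms of schemes: standard etale neighbourhoods (helper5)
-/

set_option autoImplicit false
universe u
open CategoryTheory CategoryTheory.Limits AlgebraicGeometry Opposite Topology

namespace Groth.Agent.Lib.helper5.EtaleLocalStd

/-- ring-level: an etale algebra is standard etale locally around every prime -/
theorem exists_isStandardEtale_away {R R' : Type u} [CommRing R] [CommRing R'] [Algebra R R']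
    [Algebra.Etale R R'] (q : Ideal R') [q.IsPrime] :
    ∃ f, f ∉ q ∧ Algebra.IsStandardEtale R (Localization.Away f) := by
  have h1 : Algebra.FormallyEtale R' (Localization.AtPrime q) :=
    Algebra.FormallyEtale.of_isLocalization q.primeCompl
  have h2 : Algebra.FormallyEtale R (Localization.AtPrime q) :=
    Algebra.FormallyEtale.comp R R' _
  have : Algebra.IsEtaleAt R q := h2
  exact Algebra.IsEtaleAt.exists_isStandardEtale q

/-- Every point of the source of an etale morphism has an affine open neighbourhood which is standard etale over an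
affine open of the target. -/
theorem exists_standardEtale_nbhd {W U : Scheme.{u}} (p : W ⟶ U) [Etale p] (w : ↥W) :
    ∃ (R R' : Type u) (_ : CommRing R) (_ : CommRing R') (_ : Algebra R R')
      (_ : StandardEtalePresentation R R') (a : Spec (CommRingCat.of R) ⟶ U)
      (b : Spec (CommRingCat.of R') ⟶ W), IsOpenImmersion a ∧ IsOpenImmersion b ∧
      b ≫ p = Spec.map (CommRingCat.ofHom (algebraMap R R')) ≫ a ∧ w ∈ Set.range b := by
  obtain ⟨A₀, hA₀, hpA, -⟩ := exists_isAffineOpen_mem_and_subset (x := p w) (U := ⊤) trivial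
  obtain ⟨B₀, hB₀, hwB, hBA⟩ := exists_isAffineOpen_mem_and_subset (x := w) (U := p ⁻¹ᵁ A₀) hpA
  have hle : B₀ ≤ p ⁻¹ᵁ A₀ := hBA
  have hρ : (p.appLE A₀ B₀ hle).hom.Etale :=
    HasRingHomProperty.appLE (P := @Etale) p inferInstance ⟨A₀, hA₀⟩ ⟨B₀, hB₀⟩ hle
  algebraize_only [(p.appLE A₀ B₀ hle).hom]
  have het : Algebra.Etale Γ(U, A₀) Γ(W, B₀) := hρ
  let 𝔭 := hB₀.primeIdealOf ⟨w, hwB⟩
  obtain ⟨f, hf, hstd⟩ := exists_isStandardEtale_away (R := Γ(U, A₀)) (R' := Γ(W, B₀)) 𝔭.asIdeal
  refine ⟨Γ(U, A₀), Localization.Away f, inferInstance, inferInstance, inferInstance,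
    hstd.nonempty_standardEtalePresentation.some, hA₀.fromSpec,
    Spec.map (CommRingCat.ofHom (algebraMap Γ(W, B₀) (Localization.Away f))) ≫ hB₀.fromSpec,
    inferInstance, inferInstance, ?_, ?_⟩
  · rw [Category.assoc, ← IsAffineOpen.SpecMap_appLE_fromSpec p hA₀ hB₀ hle, ← Category.assoc,
      ← Spec.map_comp]
    congr 2
  · have h1 : hB₀.fromSpec 𝔭 = w := hB₀.fromSpec_primeIdealOf ⟨w, hwB⟩
    have h2 : 𝔭 ∈ Set.range (Spec.map (CommRingCat.ofHom (algebraMap Γ(W, B₀) (Localization.Away f)))) := by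
      have := PrimeSpectrum.localization_away_comap_range (Localization.Away f) f
      change 𝔭 ∈ Set.range (PrimeSpectrum.comap (algebraMap Γ(W, B₀) (Localization.Away f)))
      rw [this]
      exact hf
    obtain ⟨z, hz⟩ := h2
    exact ⟨z, by rw [Scheme.Hom.comp_apply, hz, h1]⟩

end Groth.Agent.Lib.helper5.EtaleLocalStd
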