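import Groth.Agent.Lib.Helper5.EtaleSourceDescent

/-!
# From étale source descent to `IsLocalAtSource` for the étale precoverage (helper5)

`isLocalAtSource_etalePrecoverage`: a Zariski-local-at-source property stable under precomposition with étale
maps, with étale source descent, is local at the source for the étale precoverage.
-/

set_option autoImplicit false
open CategoryTheory CategoryTheory.Limits AlgebraicGeometry Opposite
universe u

namespace Groth.Agent.Lib.helper5.EtLocSrc

/-- corestriction of an open map to its (open) range -/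
theorem exists_corestrict {U X : Scheme.{u}} (g : U ⟶ X) [Etale g] :
    ∃ (V : X.Opens) (g' : U ⟶ (V : Scheme.{u})), g' ≫ V.ι = g ∧ Etale g' ∧ Surjective g' ∧
      (V : Set X) = Set.range g := by
  let V : X.Opens := ⟨Set.range g, g.isOpenMap.isOpen_range⟩
  have hsub : Set.range g ⊆ Set.range V.ι := by
    rw [Scheme.Opens.range_ι]
    exact le_rfl
  let g' : U ⟶ (V : Scheme.{u}) := IsOpenImmersion.lift V.ι g hsub
  have hfac : g' ≫ V.ι = g := IsOpenImmersion.lift_fac _ _ _
  refine ⟨V, g', hfac, ?_, ?_, rfl⟩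
  · have h1 : Etale (g' ≫ V.ι) := by rw [hfac]; infer_instance
    exact MorphismProperty.of_postcomp (W := @Etale) (W' := @Etale) g' V.ι inferInstance h1
  · constructor
    intro v
    obtain ⟨u, hu⟩ : V.ι v ∈ Set.range g := by
      have : V.ι v ∈ Set.range V.ι := ⟨v, rfl⟩
      rw [Scheme.Opens.range_ι] at this
      exact this
    refine ⟨u, ?_⟩
    apply V.ι.injective
    rw [← Scheme.Hom.comp_apply, hfac, hu]

theorem isLocalAtSource_etalePrecoverage (P : MorphismProperty Scheme.{u})
    [IsZariskiLocalAtSource P]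
    (hpre : ∀ {X Y Z : Scheme.{u}} (e : X ⟶ Y) (g : Y ⟶ Z), Etale e → P g → P (e ≫ g))
    (hdesc : ∀ {X' X Y : Scheme.{u}} (f : X' ⟶ X) (g : X ⟶ Y), Etale f → Surjective f →
      P (f ≫ g) → P g) :
    P.IsLocalAtSource Scheme.etalePrecoverage := by
  refine .mk_of_iff_of_zeroHypercover fun {X Y} f 𝒰 => ?_
  have h𝒰 : Presieve.ofArrows 𝒰.X 𝒰.f ∈ Scheme.precoverage @Etale X := 𝒰.mem₀
  rw [Scheme.ofArrows_mem_precoverage_iff] at h𝒰
  obtain ⟨hsurj, hP⟩ := h𝒰
  constructor
  · intro hf i
    exact hpre _ _ (hP i) hf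
  · intro h
    have hex : ∀ i, ∃ (V : X.Opens) (g' : 𝒰.X i ⟶ (V : Scheme.{u})), g' ≫ V.ι = 𝒰.f i ∧ Etale g' ∧
        Surjective g' ∧ (V : Set X) = Set.range (𝒰.f i) := fun i => by
      have := hP i
      exact exists_corestrict (𝒰.f i)
    choose V g' hfac hge hgs hV using hex
    refine IsZariskiLocalAtSource.of_iSup_eq_top V ?_ ?_
    · rw [eq_top_iff]
      intro x _
      obtain ⟨i, hi⟩ := hsurj x
      rw [TopologicalSpace.Opens.mem_iSup]
      refine ⟨i, ?_⟩
      show x ∈ (V i : Set X)
      rw [hV i]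
      exact hi
    · intro i
      refine hdesc (g' i) ((V i).ι ≫ f) (hge i) (hgs i) ?_
      rw [← Category.assoc, hfac]
      exact h i

end Groth.Agent.Lib.helper5.EtLocSrc
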