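import Mathlib
import Groth.Prelude.Def_AlgSpDec
import Groth.Agent.S1180
import Groth.Agent.S9952
import Groth.Agent.Lib.Helper17.ChartBC
import Groth.Agent.Lib.Helper17.LocPAtChart
import Groth.Agent.Lib.Helper18.PullbackStalk
import Groth.Agent.Lib.Helper18.StalkEtale
import Groth.Agent.Lib.Helper11.AlgSpBasic

/-!
# The unramified locus of a morphism of algebraic spaces (helper5)

`UnrAt U V h u`: `h` is unramified (locally of finite type and formally unramified) on an open neighbourhood of `u`.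

* `unrAt_comp_etale_left/right`: étale locality on source and target.
* `unrAt_iff_stalk`: for `h` locally of finite type, `UnrAt h u` iff the stalk map at `u` is formally unramified.
* `unrAt_iff_of_isPullback`: base change invariance (for `h` locally of finite type).
* `isOpen_unrLocus`, `unrLocus_baseChange`: the unramified locus in `|X|` is open and commutes with base change.
-/

set_option autoImplicit false
universe u
open CategoryTheory CategoryTheory.Limits AlgebraicGeometry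
open AlgSp

namespace Groth.Agent.Lib.helper5.UnramLocus

/-- `h` is unramified on an open neighbourhood of `u`. -/
abbrev UnrAt : ∀ (U V : Scheme.{u}), (U ⟶ V) → ↥U → Prop :=
  fun U _ h u => ∃ W : U.Opens, u ∈ W ∧ LocallyOfFiniteType (W.ι ≫ h) ∧ FormallyUnramified (W.ι ≫ h)

theorem unrAt_comp_etale_left {W U V : Scheme.{u}} (g : W ⟶ U) [Etale g] (h : U ⟶ V) (w : W) :
    UnrAt W V (g ≫ h) w ↔ UnrAt U V h (g w) := by
  constructor
  · rintro ⟨O, hwO, hl, hu⟩
    let O' : U.Opens := ⟨g '' O, g.isOpenMap _ O.2⟩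
    have hle : O ≤ g ⁻¹ᵁ O' := fun x hx => ⟨x, hx, rfl⟩
    have hg' : g.resLE O' O hle ≫ O'.ι = O.ι ≫ g := Scheme.Hom.resLE_comp_ι _ _
    haveI : Etale (g.resLE O' O hle ≫ O'.ι) := by rw [hg']; infer_instance
    haveI : Etale (g.resLE O' O hle) :=
      MorphismProperty.of_postcomp (W := @Etale) (W' := @LocallyOfFiniteType ⊓ @FormallyUnramified)
        (g.resLE O' O hle) O'.ι ⟨inferInstance, inferInstance⟩ inferInstance
    haveI : Surjective (g.resLE O' O hle) := by
      refine ⟨fun y => ?_⟩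
      obtain ⟨x, hx, hxy⟩ := y.2
      refine ⟨⟨x, hx⟩, ?_⟩
      apply O'.ι.injective
      rw [← Scheme.Hom.comp_apply, hg', Scheme.Hom.comp_apply]
      exact hxy
    have e : g.resLE O' O hle ≫ (O'.ι ≫ h) = O.ι ≫ g ≫ h := by
      rw [← Category.assoc, hg', Category.assoc]
    haveI : FormallyUnramified (g.resLE O' O hle ≫ O'.ι ≫ h) := e ▸ hu
    haveI : LocallyOfFiniteType (g.resLE O' O hle ≫ O'.ι ≫ h) := e ▸ hl
    obtain ⟨h1, h2⟩ := Groth.Agent.S1180.result (g.resLE O' O hle) (O'.ι ≫ h)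
    exact ⟨O', ⟨w, hwO, rfl⟩, h2, h1⟩
  · rintro ⟨O', hwO', hl, hu⟩
    refine ⟨g ⁻¹ᵁ O', hwO', ?_, ?_⟩
    · have e : (g ⁻¹ᵁ O').ι ≫ g ≫ h = (g ∣_ O') ≫ O'.ι ≫ h := by
        rw [← Category.assoc, ← morphismRestrict_ι, Category.assoc]
      rw [e]; infer_instance
    · have e : (g ⁻¹ᵁ O').ι ≫ g ≫ h = (g ∣_ O') ≫ O'.ι ≫ h := by
        rw [← Category.assoc, ← morphismRestrict_ι, Category.assoc]
      rw [e]
      haveI : Etale (g ∣_ O') := inferInstance
      haveI : FormallyUnramified (g ∣_ O') := inferInstance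
      exact MorphismProperty.comp_mem _ _ _ inferInstance hu

theorem unrAt_comp_etale_right {W T V : Scheme.{u}} (m : W ⟶ T) (k : T ⟶ V) [Etale k] (w : W) :
    UnrAt W V (m ≫ k) w ↔ UnrAt W T m w := by
  constructor
  · rintro ⟨O, hwO, hl, hu⟩
    have e : O.ι ≫ m ≫ k = (O.ι ≫ m) ≫ k := (Category.assoc _ _ _).symm
    rw [e] at hl hu
    exact ⟨O, hwO, locallyOfFiniteType_of_comp (O.ι ≫ m) k, FormallyUnramified.of_comp (O.ι ≫ m) k⟩
  · rintro ⟨O, hwO, hl, hu⟩
    have e : O.ι ≫ m ≫ k = (O.ι ≫ m) ≫ k := (Category.assoc _ _ _).symm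
    refine ⟨O, hwO, ?_, ?_⟩
    · rw [e]; infer_instance
    · rw [e]
      haveI : FormallyUnramified k := inferInstance
      exact MorphismProperty.comp_mem _ _ _ hu inferInstance

theorem unrAt_iff_stalk {U V : Scheme.{u}} (h : U ⟶ V) [LocallyOfFiniteType h] (u : U) :
    UnrAt U V h u ↔ (h.stalkMap u).hom.FormallyUnramified := by
  rw [← H18Stalk.exists_unramified_nhd_iff h u]
  constructor
  · rintro ⟨O, hO, -, hu⟩
    exact ⟨O, hO, hu⟩
  · rintro ⟨O, hO, hu⟩
    exact ⟨O, hO, inferInstance, hu⟩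

theorem stalk_congr_point {U V : Scheme.{u}} (h : U ⟶ V) {x y : U} (e : x = y) :
    (h.stalkMap x).hom.FormallyUnramified ↔ (h.stalkMap y).hom.FormallyUnramified := by
  subst e; rfl

theorem stalk_unram_iff_of_isPullback {U V U' V' : Scheme.{u}} {p : U' ⟶ U} {h' : U' ⟶ V'} {h : U ⟶ V}
    {k : V' ⟶ V} (sq : IsPullback p h' h k) [LocallyOfFiniteType h] (u' : U') :
    (h'.stalkMap u').hom.FormallyUnramified ↔ (h.stalkMap (p u')).hom.FormallyUnramified := by
  have e1 : sq.isoPullback.hom ≫ pullback.snd h k = h' := sq.isoPullback_hom_snd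
  have e2 : sq.isoPullback.hom ≫ pullback.fst h k = p := sq.isoPullback_hom_fst
  have hx : pullback.fst h k (sq.isoPullback.hom u') = p u' := by
    rw [← Scheme.Hom.comp_apply, e2]
  rw [← stalk_congr_point h hx,
    ← Groth.Agent.Lib.Helper18.PullbackStalk.unram_stalk_iff_pullback h k (sq.isoPullback.hom u')]
  have key : (h'.stalkMap u').hom.FormallyUnramified ↔
      ((sq.isoPullback.hom ≫ pullback.snd h k).stalkMap u').hom.FormallyUnramified := by
    have : ∀ (φ : U' ⟶ V') (_ : φ = h'), (h'.stalkMap u').hom.FormallyUnramified ↔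
        (φ.stalkMap u').hom.FormallyUnramified := by
      rintro φ rfl; rfl
    exact this _ e1
  rw [key]
  refine Iff.trans ?_ (RingHom.FormallyUnramified.respectsIso.cancel_right_isIso
    ((pullback.snd h k).stalkMap (sq.isoPullback.hom u')) (sq.isoPullback.hom.stalkMap u'))
  rw [← CommRingCat.hom_comp, ← Scheme.Hom.stalkMap_comp]
  exact Iff.rfl

theorem unrAt_iff_of_isPullback {U V U' V' : Scheme.{u}} {p : U' ⟶ U} {h' : U' ⟶ V'} {h : U ⟶ V}
    {k : V' ⟶ V} (sq : IsPullback p h' h k) [LocallyOfFiniteType h] (u' : U') :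
    UnrAt U' V' h' u' ↔ UnrAt U V h (p u') := by
  haveI : LocallyOfFiniteType h' := MorphismProperty.of_isPullback (P := @LocallyOfFiniteType) sq ‹_›
  rw [unrAt_iff_stalk, unrAt_iff_stalk, stalk_unram_iff_of_isPullback sq]

variable {S : Scheme.{u}}

theorem locPAt_unrAt_of_hasAtMor {X Y : Sp S} (f : X ⟶ Y) (x : Points X)
    (hd : HasAtMor UnrAt f x) : LocPAt (fun {U V} h u => UnrAt U V h u) f x := by
  obtain ⟨U, V, a, b, h, u, hae, hbe, hc, hu, hQ⟩ := hd
  refine Groth.Agent.Lib.helper17.LocPAtChart.locPAt_of_chart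
    (Q := fun {U V} h u => UnrAt U V h u) ?_ ?_ f x a b h u hae hbe hc hu hQ
  · intro W U V g _ h w
    exact unrAt_comp_etale_left g h w
  · intro W T V m k _ w
    exact unrAt_comp_etale_right m k w

theorem isOpen_unrLocus {X Y : Sp S} (f : X ⟶ Y) : IsOpen {x : Points X | HasAtMor UnrAt f x} := by
  rw [isOpen_iff_forall_mem_open]
  rintro x ⟨U, V, a, b, h, u, hae, hbe, hc, hu, W, huW, hl, hu'⟩
  refine ⟨Points.ofPt a '' (W : Set U.left), ?_,
    Groth.Agent.Lib.helper11.isOpenMap_ofPt a hae _ W.2, ⟨u, huW, hu⟩⟩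
  rintro _ ⟨u1, hu1, rfl⟩
  exact ⟨U, V, a, b, h, u1, hae, hbe, hc, rfl, W, hu1, hl, hu'⟩

theorem unrLocus_baseChange {X Y Y' X' : Sp S} (hX : IsAlgSpace X) (hY : IsAlgSpace Y) (hY' : IsAlgSpace Y')
    {f : X ⟶ Y} {g : Y' ⟶ Y} {g' : X' ⟶ X} {f' : X' ⟶ Y'} (sq : IsPullback g' f' f g)
    (hf : LocP @LocallyOfFiniteType f) :
    {x' : Points X' | HasAtMor UnrAt f' x'} = Points.map g' ⁻¹' {x : Points X | HasAtMor UnrAt f x} := by
  ext x'
  obtain ⟨U, V, U', V', a, b, a', b', h, h', p, k, u', hae, hbe, hae', hbe', hc, hc', hcg', hcg, sqS, hu', -⟩ :=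
    Groth.Agent.Lib.helper17.ChartBC.exists_bc_charts hX hY hY' sq x'
  haveI : LocallyOfFiniteType h.left := hf a b h hae hbe hc
  have sqL : IsPullback p.left h'.left h.left k.left := sqS.map (Over.forget S)
  have hx : Points.map g' x' = Points.ofPt a (p.left u') := by
    rw [← hu', Points.map_ofPt, hcg', Groth.Agent.Lib.helper11.ofPt_yon_map_comp]
  have key := unrAt_iff_of_isPullback sqL u'
  show HasAtMor UnrAt f' x' ↔ HasAtMor UnrAt f (Points.map g' x')
  constructor
  · intro hx'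
    have := locPAt_unrAt_of_hasAtMor f' x' hx' a' b' h' u' hae' hbe' hc' hu'
    exact ⟨U, V, a, b, h, p.left u', hae, hbe, hc, hx.symm, key.1 this⟩
  · intro hxx
    have := locPAt_unrAt_of_hasAtMor f _ hxx a b h (p.left u') hae hbe hc hx.symm
    exact ⟨U', V', a', b', h', u', hae', hbe', hc', hu', key.2 this⟩

end Groth.Agent.Lib.helper5.UnramLocus
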