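import Groth.Agent.Lib.Helper5.ConsSep3
import Groth.Agent.S3444

/-!
# Dominance and separatedness of the fibre maps in terms of the topology of the total space
(helper5)

* `isDominant_fiberMap_iff`
* `isSeparated_fiberMap_iff`
-/

set_option autoImplicit false
set_option backward.isDefEq.respectTransparency false
universe u
open CategoryTheory CategoryTheory.Limits AlgebraicGeometry Topology TopologicalSpace

namespace Groth.Agent.Lib.helper5.ConsSep

open Groth.Agent.Lib.helper5.ConsFibre

theorem range_snd_of_isPullback {P X Y Z : Scheme.{u}} {fst : P ⟶ X} {snd : P ⟶ Y} {f : X ⟶ Z}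
    {g : Y ⟶ Z} (sq : IsPullback fst snd f g) : Set.range snd = g ⁻¹' Set.range f := by
  rw [← Scheme.Pullback.range_snd, ← sq.isoPullback_hom_snd]
  ext y
  constructor
  · rintro ⟨p, rfl⟩
    exact ⟨sq.isoPullback.hom p, by rw [Scheme.Hom.comp_apply]⟩
  · rintro ⟨p, rfl⟩
    refine ⟨sq.isoPullback.inv p, ?_⟩
    rw [← Scheme.Hom.comp_apply, ← Category.assoc, Iso.inv_hom_id, Category.id_comp]

theorem range_fst_of_isPullback {P X Y Z : Scheme.{u}} {fst : P ⟶ X} {snd : P ⟶ Y} {f : X ⟶ Z}
    {g : Y ⟶ Z} (sq : IsPullback fst snd f g) : Set.range fst = f ⁻¹' Set.range g :=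
  range_snd_of_isPullback sq.flip

/-- the projection to the total space of a pullback along the inclusion of a point is an embedding
onto the fibre. -/
theorem isEmbedding_and_range_of_isPullback {F W S : Scheme.{u}} {π : W ⟶ S} (s : S) {j : F ⟶ W}
    {q : F ⟶ Spec (S.residueField s)} (sq : IsPullback j q π (S.fromSpecResidueField s)) :
    IsEmbedding j ∧ Set.range j = π ⁻¹' {s} := by
  have hj : j = sq.isoPullback.hom ≫ π.fiberι s := (sq.isoPullback_hom_fst).symm
  constructor
  · rw [hj]
    exact ((π.fiberι s).isEmbedding.comp sq.isoPullback.hom.homeomorph.isEmbedding :)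
  · rw [range_fst_of_isPullback sq, Scheme.range_fromSpecResidueField]

section Top

variable {F Y : Type*} [TopologicalSpace F] [TopologicalSpace Y] {j : F → Y}

theorem dense_preimage_iff (hj : IsEmbedding j) (B : Set Y) :
    Dense (j ⁻¹' B) ↔ Set.range j ⊆ closure (B ∩ Set.range j) := by
  have himg : j '' (j ⁻¹' B) = B ∩ Set.range j := Set.image_preimage_eq_inter_range
  constructor
  · rintro hd _ ⟨z, rfl⟩
    rw [← himg]
    exact image_closure_subset_closure_image hj.continuous ⟨z, hd z, rfl⟩
  · intro h z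
    rw [hj.isInducing.closure_eq_preimage_closure_image, himg]
    exact h ⟨z, rfl⟩

theorem isClosed_preimage_iff (hj : IsEmbedding j) (A : Set Y) :
    IsClosed (j ⁻¹' A) ↔
      ¬ ∃ w, w ∈ closure (A ∩ Set.range j) ∧ w ∉ A ∧ w ∈ Set.range j := by
  have himg : j '' (j ⁻¹' A) = A ∩ Set.range j := Set.image_preimage_eq_inter_range
  rw [← closure_subset_iff_isClosed, hj.isInducing.closure_eq_preimage_closure_image, himg]
  constructor
  · rintro h ⟨_, hw1, hw2, ⟨z, rfl⟩⟩
    exact hw2 (h hw1)
  · intro h z hz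
    by_contra hzA
    exact h ⟨j z, hz, hzA, ⟨z, rfl⟩⟩

end Top

variable {X Y S : Scheme.{u}} (f : X ⟶ Y) (g : Y ⟶ S)

theorem isDominant_fiberMap_iff (s : S) :
    IsDominant (MoreMor.fiberMap f g s) ↔
      g ⁻¹' {s} ⊆ closure (Set.range f ∩ g ⁻¹' {s}) := by
  have hr : Set.range (MoreMor.fiberMap f g s) = (g.fiberι s) ⁻¹' Set.range f :=
    range_snd_of_isPullback (isPullback_fiberMap f g s)
  rw [isDominant_iff, DenseRange, hr, dense_preimage_iff (g.fiberι s).isEmbedding, g.range_fiberι]

open Groth.Agent.S3444 in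
theorem isSeparated_fiberMap_iff (s : S) :
    IsSeparated (MoreMor.fiberMap f g s) ↔
      ¬ ∃ w, w ∈ closure (Set.range (pullback.diagonal f) ∩
          ((pullback.fst f f ≫ f) ≫ g) ⁻¹' {s}) ∧
        w ∉ Set.range (pullback.diagonal f) ∧ ((pullback.fst f f ≫ f) ≫ g) w = s := by
  have hφ : MoreMor.fiberMap f g s = fibreMap f g s := rfl
  rw [hφ]
  have sq1 := isPullback_diagonal (isPullback_fibreMap f g s)
  have sq2 := (isPullback_diagMap f g s).flip
  obtain ⟨hemb, hrange⟩ := isEmbedding_and_range_of_isPullback s sq2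
  have hr : Set.range (pullback.diagonal (fibreMap f g s)) =
      (diagMap f g s) ⁻¹' Set.range (pullback.diagonal f) := range_fst_of_isPullback sq1
  have h1 : IsSeparated (fibreMap f g s) ↔
      IsClosed (Set.range (pullback.diagonal (fibreMap f g s))) := by
    constructor
    · intro h
      exact (pullback.diagonal (fibreMap f g s)).isClosedEmbedding.isClosed_range
    · intro h
      exact ⟨IsClosedImmersion.of_isPreimmersion _ h⟩
  rw [h1, hr, isClosed_preimage_iff hemb, hrange]
  rfl

end Groth.Agent.Lib.helper5.ConsSep
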