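import Groth.Agent.Lib.Helper5.AlgSpUnramLocus
import Groth.Agent.Lib.Helper5.ConsSep4
import Groth.Agent.Lib.Helper5.ConsFibre3
import Groth.Agent.S3444

/-!
# "Unramified" and "monomorphism" are constructible properties of morphisms of algebraic schemes
(EGA IV 9.6.1 (iii)) (helper5)

* `mono_iff`: a morphism locally of finite type is a monomorphism iff it is radicial and formally
  unramified.
* `unrLocus f`, `isOpen_unrLocus`, `formallyUnramified_iff_forall_unrAt`.
* `formallyUnramified_fiberMap_iff`: `f_s` is unramified iff the fibre `(f ≫ g)⁻¹ s` lies in the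
  unramified locus of `f`.
* `isLocallyConstructible_locusMor_formallyUnramified`, `isConsMor_formallyUnramified`.
* `isLocallyConstructible_locusMor_mono`, `isConsMor_mono`.
-/

set_option autoImplicit false
set_option backward.isDefEq.respectTransparency false
universe u
open CategoryTheory CategoryTheory.Limits AlgebraicGeometry Topology TopologicalSpace

namespace Groth.Agent.Lib.helper5.ConsMono

open Groth.Agent.Lib.helper5.ConsFibre Groth.Agent.Lib.helper5.UnramLocus
open Groth.Agent.Lib.helper5.ConsSep

theorem mono_iff {X Y : Scheme.{u}} (f : X ⟶ Y) [LocallyOfFiniteType f] :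
    Mono f ↔ UniversallyInjective f ∧ FormallyUnramified f := by
  constructor
  · intro h
    haveI : IsIso (pullback.diagonal f) := (pullback.isIso_diagonal_iff f).mpr h
    exact ⟨inferInstance, inferInstance⟩
  · rintro ⟨h1, h2⟩
    haveI : Surjective (pullback.diagonal f) := (UniversallyInjective.iff_diagonal f).mp h1
    haveI : IsOpenImmersion (pullback.diagonal f) := inferInstance
    haveI : IsIso (pullback.diagonal f) :=
      (isIso_iff_isOpenImmersion_and_surjective _).mpr ⟨inferInstance, inferInstance⟩
    exact (pullback.isIso_diagonal_iff f).mp inferInstance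

/-- the unramified locus of a morphism. -/
def unrLocus {X Y : Scheme.{u}} (f : X ⟶ Y) : Set X := {x | UnrAt X Y f x}

theorem isOpen_unrLocus {X Y : Scheme.{u}} (f : X ⟶ Y) : IsOpen (unrLocus f) := by
  rw [isOpen_iff_forall_mem_open]
  rintro x ⟨W, hxW, h1, h2⟩
  exact ⟨W, fun y hy => ⟨W, hy, h1, h2⟩, W.2, hxW⟩

theorem formallyUnramified_iff_forall_unrAt {X Y : Scheme.{u}} (f : X ⟶ Y)
    [LocallyOfFiniteType f] : FormallyUnramified f ↔ ∀ x, UnrAt X Y f x := by
  constructor
  · intro h x
    haveI : FormallyUnramified ((⊤ : X.Opens).ι) := inferInstance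
    exact ⟨⊤, trivial, inferInstance,
      MorphismProperty.comp_mem (W := @FormallyUnramified) _ _ inferInstance h⟩
  · intro h
    choose W hW h1 h2 using h
    have hsup : ⨆ x, W x = ⊤ := by
      rw [eq_top_iff]
      intro x _
      exact TopologicalSpace.Opens.mem_iSup.mpr ⟨x, hW x⟩
    exact (IsZariskiLocalAtSource.iff_of_iSup_eq_top (P := @FormallyUnramified) W hsup).mpr h2

variable {X Y S : Scheme.{u}} (f : X ⟶ Y) (g : Y ⟶ S)

theorem formallyUnramified_fiberMap_iff [LocallyOfFiniteType f] (s : S) :
    FormallyUnramified (MoreMor.fiberMap f g s) ↔ (f ≫ g) ⁻¹' {s} ⊆ unrLocus f := by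
  have sq := isPullback_fiberMap f g s
  haveI : LocallyOfFiniteType (MoreMor.fiberMap f g s) :=
    MorphismProperty.of_isPullback (P := @LocallyOfFiniteType) sq inferInstance
  rw [formallyUnramified_iff_forall_unrAt, ← (f ≫ g).range_fiberι s]
  constructor
  · rintro h _ ⟨x', rfl⟩
    exact (unrAt_iff_of_isPullback sq x').mp (h x')
  · intro h x'
    exact (unrAt_iff_of_isPullback sq x').mpr (h ⟨x', rfl⟩)

theorem locusMor_formallyUnramified_eq [LocallyOfFiniteType f] :
    ConsProp.locusMor.{u} (fun X Y T (f : X ⟶ Y) (_ : Y ⟶ T) => FormallyUnramified f) f g =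
      ((f ≫ g) '' (unrLocus f)ᶜ)ᶜ := by
  ext s
  change FormallyUnramified (MoreMor.fiberMap f g s) ↔ _
  rw [formallyUnramified_fiberMap_iff]
  constructor
  · rintro h ⟨x, hx, rfl⟩
    exact hx (h rfl)
  · intro h x hx
    by_contra hxU
    exact h ⟨x, hxU, hx⟩

theorem isLocallyConstructible_locusMor_formallyUnramified [IsNoetherian S]
    [LocallyOfFiniteType g] [QuasiCompact g] [LocallyOfFiniteType (f ≫ g)]
    [QuasiCompact (f ≫ g)] :
    IsLocallyConstructible (ConsProp.locusMor.{u}
      (fun X Y T (f : X ⟶ Y) (_ : Y ⟶ T) => FormallyUnramified f) f g) := by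
  haveI : IsNoetherian Y := isNoetherian_of_lft g
  haveI : IsNoetherian X := isNoetherian_of_lft (f ≫ g)
  haveI : LocallyOfFiniteType f := locallyOfFiniteType_of_comp f g
  haveI : LocallyOfFinitePresentation (f ≫ g) :=
    (LocallyOfFinitePresentation.iff_locallyOfFiniteType).mpr inferInstance
  rw [locusMor_formallyUnramified_eq]
  refine IsConstructible.isLocallyConstructible ?_
  refine IsConstructible.compl ?_
  exact (f ≫ g).isConstructible_image (Groth.Agent.Lib.helper9.isConstructible_of_isLocallyClosed
    (isOpen_unrLocus f).isClosed_compl.isLocallyClosed)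

theorem isConsMor_formallyUnramified :
    ConsProp.IsConsMor.{u} (fun X Y T (f : X ⟶ Y) (_ : Y ⟶ T) => FormallyUnramified f) :=
  isConsMor_of_isLocallyConstructible
    (isFieldStableMor_of_descendsAlong @FormallyUnramified)
    (fun _ _ _ f g _ _ _ _ _ => isLocallyConstructible_locusMor_formallyUnramified f g)

theorem locusMor_mono_eq [LocallyOfFiniteType f] :
    ConsProp.locusMor.{u} (fun X Y T (f : X ⟶ Y) (_ : Y ⟶ T) => Mono f) f g =
      ConsProp.locusMor.{u} (fun X Y T (f : X ⟶ Y) (_ : Y ⟶ T) => UniversallyInjective f) f g ∩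
      ConsProp.locusMor.{u} (fun X Y T (f : X ⟶ Y) (_ : Y ⟶ T) => FormallyUnramified f) f g := by
  ext s
  haveI : LocallyOfFiniteType (MoreMor.fiberMap f g s) :=
    MorphismProperty.of_isPullback (P := @LocallyOfFiniteType) (isPullback_fiberMap f g s)
      inferInstance
  exact mono_iff (MoreMor.fiberMap f g s)

theorem isLocallyConstructible_locusMor_mono [IsNoetherian S]
    [LocallyOfFiniteType g] [QuasiCompact g] [LocallyOfFiniteType (f ≫ g)]
    [QuasiCompact (f ≫ g)] :
    IsLocallyConstructible (ConsProp.locusMor.{u}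
      (fun X Y T (f : X ⟶ Y) (_ : Y ⟶ T) => Mono f) f g) := by
  haveI : IsNoetherian Y := isNoetherian_of_lft g
  haveI : IsNoetherian X := isNoetherian_of_lft (f ≫ g)
  haveI : LocallyOfFiniteType f := locallyOfFiniteType_of_comp f g
  haveI : LocallyOfFinitePresentation g :=
    (LocallyOfFinitePresentation.iff_locallyOfFiniteType).mpr inferInstance
  haveI : LocallyOfFinitePresentation (f ≫ g) :=
    (LocallyOfFinitePresentation.iff_locallyOfFiniteType).mpr inferInstance
  rw [locusMor_mono_eq]
  exact (Groth.Agent.S3444.result f g).inter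
    (isLocallyConstructible_locusMor_formallyUnramified f g)

theorem isFieldStableMor_mono :
    ConsProp.IsFieldStableMor.{u} (fun X Y T (f : X ⟶ Y) (_ : Y ⟶ T) => Mono f) := by
  haveI : (MorphismProperty.monomorphisms Scheme.{u}).DescendsAlong
      (@Surjective ⊓ @Flat ⊓ @QuasiCompact : MorphismProperty Scheme.{u}) :=
    MorphismProperty.diagonal_isomorphisms (C := Scheme.{u}) ▸ inferInstance
  exact isFieldStableMor_of_descendsAlong (MorphismProperty.monomorphisms Scheme.{u})

theorem isConsMor_mono :
    ConsProp.IsConsMor.{u} (fun X Y T (f : X ⟶ Y) (_ : Y ⟶ T) => Mono f) :=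
  isConsMor_of_isLocallyConstructible isFieldStableMor_mono
    (fun _ _ _ f g _ _ _ _ _ => isLocallyConstructible_locusMor_mono f g)

end Groth.Agent.Lib.helper5.ConsMono
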