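import Groth.Agent.Lib.Helper5.FppfSource4
import Groth.Agent.Lib.Helper5.AlgSpUnramLocus
import Groth.Agent.Lib.Helper5.ConsMono1
import Groth.Agent.Lib.Helper18.SmoothDescentScheme
import Groth.Agent.Lib.Helper22.FlatSrc

/-!
# Descent of flat+lfp / smooth / étale along an fppf base change, on an open cover of the source
(helper5)

`IsPullback a b f g` with `g` flat and locally of finite presentation, `j : N₀ ⟶ P` an open immersion
such that `j ≫ a` is surjective.  If `j ≫ b` is (flat and lfp) / smooth / étale then so is `f`.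
(The point: no quasi-compactness, and the base change `g` need not be surjective.)
-/

set_option autoImplicit false
universe u
open AlgebraicGeometry CategoryTheory Limits

namespace Groth.Agent.Lib.helper5.MaxOpenFppf

variable {P X Y Y' N₀ : Scheme.{u}} {a : P ⟶ X} {b : P ⟶ Y'} {f : X ⟶ Y} {g : Y' ⟶ Y}

theorem stalkMap_comp_openImmersion_iff
    {Q : ∀ {R S : Type u} [CommRing R] [CommRing S], (R →+* S) → Prop}
    (hQ : RingHom.RespectsIso Q) (j : N₀ ⟶ P) [IsOpenImmersion j] (b : P ⟶ Y') (w : N₀) :
    Q ((j ≫ b).stalkMap w).hom ↔ Q (b.stalkMap (j w)).hom := by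
  refine Iff.trans ?_ (hQ.cancel_right_isIso (b.stalkMap (j w)) (j.stalkMap w))
  rw [← CommRingCat.hom_comp, ← Scheme.Hom.stalkMap_comp]
  rfl

theorem flat_lfp_of_isPullback_cover (sq : IsPullback a b f g) [Flat g]
    [LocallyOfFinitePresentation g] (j : N₀ ⟶ P) [IsOpenImmersion j]
    (hsurj : Function.Surjective (j ≫ a)) (h1 : Flat (j ≫ b))
    (h2 : LocallyOfFinitePresentation (j ≫ b)) : Flat f ∧ LocallyOfFinitePresentation f := by
  haveI : Flat a := MorphismProperty.of_isPullback (P := @Flat) sq.flip inferInstance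
  haveI : LocallyOfFinitePresentation a :=
    MorphismProperty.of_isPullback (P := @LocallyOfFinitePresentation) sq.flip inferInstance
  have e : (j ≫ a) ≫ f = (j ≫ b) ≫ g := by rw [Category.assoc, sq.w, Category.assoc]
  haveI : Flat ((j ≫ a) ≫ f) := by rw [e]; infer_instance
  haveI : LocallyOfFinitePresentation ((j ≫ a) ≫ f) := by rw [e]; infer_instance
  haveI : Surjective (j ≫ a) := ⟨hsurj⟩
  exact ⟨Groth.Agent.Lib.helper22.flat_of_flat_comp (j ≫ a) f,
    Groth.Agent.Lib.helper5.FppfSource.locallyOfFinitePresentation_of_comp (j ≫ a) f⟩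

theorem smooth_of_isPullback_cover (sq : IsPullback a b f g) [Flat g]
    [LocallyOfFinitePresentation g] (j : N₀ ⟶ P) [IsOpenImmersion j]
    (hsurj : Function.Surjective (j ≫ a)) (h : Smooth (j ≫ b)) : Smooth f := by
  obtain ⟨hfl, hfp⟩ := flat_lfp_of_isPullback_cover sq j hsurj inferInstance inferInstance
  rw [← Scheme.Hom.smoothLocus_eq_top_iff]
  refine top_unique fun x _ => ?_
  obtain ⟨w, rfl⟩ := hsurj x
  show (f.stalkMap ((j ≫ a) w)).hom.FormallySmooth
  rw [Scheme.Hom.comp_apply]
  refine Groth.Agent.Lib.Helper18.SmoothDescent.formallySmooth_stalk_descent_of_isPullback sq (j w)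
    (Flat.stalkMap g _) ?_
  have h1 : ((j ≫ b).stalkMap w).hom.FormallySmooth := by
    have h2 : (j ≫ b).smoothLocus = ⊤ := Scheme.Hom.smoothLocus_eq_top _
    have h3 : w ∈ (j ≫ b).smoothLocus := by rw [h2]; trivial
    exact h3
  exact (stalkMap_comp_openImmersion_iff RingHom.FormallySmooth.respectsIso j b w).mp h1

theorem etale_of_isPullback_cover (sq : IsPullback a b f g) [Flat g]
    [LocallyOfFinitePresentation g] (j : N₀ ⟶ P) [IsOpenImmersion j]
    (hsurj : Function.Surjective (j ≫ a)) (h : Etale (j ≫ b)) : Etale f := by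
  obtain ⟨hfl, hfp⟩ := flat_lfp_of_isPullback_cover sq j hsurj inferInstance inferInstance
  haveI : FormallyUnramified f := by
    rw [Groth.Agent.Lib.helper5.ConsMono.formallyUnramified_iff_forall_unrAt]
    intro x
    obtain ⟨w, rfl⟩ := hsurj x
    rw [Groth.Agent.Lib.helper5.UnramLocus.unrAt_iff_stalk, Scheme.Hom.comp_apply,
      ← Groth.Agent.Lib.helper5.UnramLocus.stalk_unram_iff_of_isPullback sq (j w)]
    have h1 : ((j ≫ b).stalkMap w).hom.FormallyUnramified :=
      FormallyUnramified.stalkMap (j ≫ b) w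
    exact (stalkMap_comp_openImmersion_iff RingHom.FormallyUnramified.respectsIso j b w).mp h1
  exact Etale.of_formallyUnramified_of_flat f

end Groth.Agent.Lib.helper5.MaxOpenFppf
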