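import Mathlib
import Groth.Agent.Lib.Helper5.FppfSource4
import Groth.Agent.Lib.Helper5.AlgSpUnramLocus
import Groth.Agent.Lib.Helper5.ConsMono1
import Groth.Agent.Lib.Helper22.FlatSrc

/-!
# Étale morphisms descend along fppf coverings of the source (helper5)

`f : X ⟶ Y` surjective, flat, locally of finite presentation, `q : Y ⟶ S` with `f ≫ q` étale
(resp. unramified). Then `q` is étale (resp. unramified, when `q` is locally of finite type).
The proof goes through geometric fibres: over an algebraically closed field `K`, the local rings of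
an unramified `K`-scheme are `K`, and a local ring which injects into `K` compatibly with `K` is `K`.
-/

set_option autoImplicit false
universe u
open AlgebraicGeometry CategoryTheory Limits

namespace Groth.Agent.Lib.helper5.FppfSrcSmooth

/-- ring lemma: `K ≃ R₀ → A ↪ B` with `B` local, unramified and essentially of finite type over the
algebraically closed field `K`: then `R₀ → A` is surjective, hence formally unramified. -/
theorem surjective_of_comp_injective {K R₀ A B : Type u} [Field K] [IsAlgClosed K]
    [CommRing R₀] [CommRing A] [CommRing B] [IsLocalRing B] (e : K ≃+* R₀) (β : R₀ →+* A)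
    (φ : A →+* B) (hφ : Function.Injective φ) (hun : (φ.comp β).FormallyUnramified)
    (heft : (φ.comp β).EssFiniteType) : Function.Surjective β := by
  let ψ : K →+* B := (φ.comp β).comp e.toRingHom
  letI : Algebra K B := ψ.toAlgebra
  have h1 : ψ.FormallyUnramified :=
    RingHom.FormallyUnramified.comp (RingHom.FormallyUnramified.of_surjective e.surjective) hun
  have h2 : ψ.EssFiniteType :=
    RingHom.EssFiniteType.comp
      (RingHom.FiniteType.of_surjective _ e.surjective).essFiniteType heft
  haveI : Algebra.FormallyUnramified K B := h1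
  haveI : Algebra.EssFiniteType K B := h2
  have hbij := Algebra.FormallyUnramified.bijective_of_isAlgClosed_of_isLocalRing K B
  intro a
  obtain ⟨c, hc⟩ := hbij.2 (φ a)
  exact ⟨e c, hφ hc⟩

/-- the stalk of `Spec K` at a point is `K`. -/
noncomputable def stalkEquivField (K : Type u) [Field K] (p : Spec (CommRingCat.of K)) :
    K ≃+* (Spec (CommRingCat.of K)).presheaf.stalk p :=
  let K' := (Spec.structureSheaf K).presheaf.stalk p
  let e : K ≃ₐ[K] K' := IsLocalization.atUnits _ p.asIdeal.primeCompl
      (fun y hy ↦ by aesop (add simp IsUnit.mem_submonoid_iff))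
  e.toRingEquiv

theorem injective_stalkMap_of_flat {X Y : Scheme.{u}} (f : X ⟶ Y) [Flat f] (x : X) :
    Function.Injective (f.stalkMap x).hom := by
  have hfl : (f.stalkMap x).hom.Flat := Flat.stalkMap f x
  algebraize [(f.stalkMap x).hom]
  haveI : IsLocalHom (algebraMap (Y.presheaf.stalk (f x)) (X.presheaf.stalk x)) :=
    inferInstanceAs (IsLocalHom (f.stalkMap x).hom)
  haveI : Module.FaithfullyFlat (Y.presheaf.stalk (f x)) (X.presheaf.stalk x) :=
    Module.FaithfullyFlat.of_flat_of_isLocalHom
  exact FaithfulSMul.algebraMap_injective (Y.presheaf.stalk (f x)) (X.presheaf.stalk x)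

/-- field case -/
theorem unramified_stalk_of_comp_field {K : Type u} [Field K] [IsAlgClosed K] {X' P : Scheme.{u}}
    (f' : X' ⟶ P) (b : P ⟶ Spec (CommRingCat.of K)) [Flat f'] [FormallyUnramified (f' ≫ b)]
    [LocallyOfFiniteType (f' ≫ b)] (x' : X') :
    (b.stalkMap (f' x')).hom.FormallyUnramified := by
  have hB : ((f' ≫ b).stalkMap x').hom.FormallyUnramified := FormallyUnramified.stalkMap (f' ≫ b) x'
  have heft : ((f' ≫ b).stalkMap x').hom.EssFiniteType := LocallyOfFiniteType.stalkMap (f' ≫ b) x'
  have hB' : ((f'.stalkMap x').hom.comp (b.stalkMap (f' x')).hom).FormallyUnramified := by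
    rw [← CommRingCat.hom_comp, ← Scheme.Hom.stalkMap_comp]
    exact hB
  have heft' : ((f'.stalkMap x').hom.comp (b.stalkMap (f' x')).hom).EssFiniteType := by
    rw [← CommRingCat.hom_comp, ← Scheme.Hom.stalkMap_comp]
    exact heft
  exact RingHom.FormallyUnramified.of_surjective
    (surjective_of_comp_injective (stalkEquivField K (b (f' x'))) (b.stalkMap (f' x')).hom
      (f'.stalkMap x').hom (injective_stalkMap_of_flat f' x') hB' heft')

section GeomFibre

variable {X Y S : Scheme.{u}} (f : X ⟶ Y) (q : Y ⟶ S)

/-- the geometric point over `q y` -/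
noncomputable abbrev geomK (y : Y) : Type u := AlgebraicClosure (S.residueField (q y))

noncomputable def geomPt (y : Y) : Spec (CommRingCat.of (geomK q y)) ⟶ S :=
  Spec.map (CommRingCat.ofHom (algebraMap (S.residueField (q y)) (geomK q y))) ≫
    S.fromSpecResidueField (q y)

theorem geomPt_apply (y : Y) (t : Spec (CommRingCat.of (geomK q y))) : geomPt q y t = q y := by
  rw [geomPt, Scheme.Hom.comp_apply]
  exact Scheme.fromSpecResidueField_apply _ _

theorem formallyUnramified_of_comp [Surjective f] [Flat f] [LocallyOfFiniteType q]
    [FormallyUnramified (f ≫ q)] [LocallyOfFiniteType (f ≫ q)] : FormallyUnramified q := by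
  rw [Groth.Agent.Lib.helper5.ConsMono.formallyUnramified_iff_forall_unrAt]
  intro y
  rw [Groth.Agent.Lib.helper5.UnramLocus.unrAt_iff_stalk]
  let g := geomPt q y
  have sq : IsPullback (pullback.fst q g) (pullback.snd q g) q g := .of_hasPullback q g
  let t : Spec (CommRingCat.of (geomK q y)) := IsLocalRing.closedPoint (geomK q y)
  obtain ⟨y', hy'1, hy'2⟩ := Scheme.Pullback.exists_preimage_pullback (f := q) (g := g) y t
    (geomPt_apply q y t).symm
  have big : IsPullback (pullback.fst f (pullback.fst q g))
      (pullback.snd f (pullback.fst q g) ≫ pullback.snd q g) (f ≫ q) g :=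
    (IsPullback.of_hasPullback f (pullback.fst q g)).paste_vert sq
  haveI : FormallyUnramified (pullback.snd f (pullback.fst q g) ≫ pullback.snd q g) :=
    MorphismProperty.of_isPullback (P := @FormallyUnramified) big inferInstance
  haveI : LocallyOfFiniteType (pullback.snd f (pullback.fst q g) ≫ pullback.snd q g) :=
    MorphismProperty.of_isPullback (P := @LocallyOfFiniteType) big inferInstance
  obtain ⟨x', rfl⟩ := (inferInstance : Surjective (pullback.snd f (pullback.fst q g))).surj y'
  have h1 := unramified_stalk_of_comp_field (pullback.snd f (pullback.fst q g)) (pullback.snd q g) x'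
  rw [← hy'1]
  exact (Groth.Agent.Lib.helper5.UnramLocus.stalk_unram_iff_of_isPullback sq _).mp h1

theorem etale_of_comp [Surjective f] [Flat f] [LocallyOfFinitePresentation f] [Etale (f ≫ q)] :
    Etale q := by
  haveI : Flat q := Groth.Agent.Lib.helper22.flat_of_flat_comp f q
  haveI : LocallyOfFinitePresentation q :=
    Groth.Agent.Lib.helper5.FppfSource.locallyOfFinitePresentation_of_comp f q
  haveI : FormallyUnramified q := formallyUnramified_of_comp f q
  exact Etale.of_formallyUnramified_of_flat q

end GeomFibre

end Groth.Agent.Lib.helper5.FppfSrcSmooth
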