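import Mathlib
import Groth.Agent.Lib.Helper5.FppfSrcSmooth1
import Groth.Agent.Lib.Helper17.RegSmoothSch
import Groth.Agent.Lib.Helper18.SmoothFiberScheme
import Groth.Agent.S0565

/-!
# Smooth morphisms descend along fppf coverings of the source (helper5)

`f : X ⟶ Y` surjective, flat, locally of finite presentation, `q : Y ⟶ S` with `f ≫ q` smooth.
Then `q` is smooth.  Through geometric fibres: over an algebraically closed field smooth = regular
(helper17), and regularity descends along flat local homomorphisms (helper26, S0565); then the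
fibre criterion for smoothness (helper18).
-/

set_option autoImplicit false
universe u
open AlgebraicGeometry CategoryTheory Limits

namespace Groth.Agent.Lib.helper5.FppfSrcSmooth

open Groth.Agent.Lib.helper17.RegSmooth in
/-- field case -/
theorem mem_smoothLocus_of_comp_field {K : Type u} [Field K] [IsAlgClosed K] {X' P : Scheme.{u}}
    (f' : X' ⟶ P) (b : P ⟶ Spec (CommRingCat.of K)) [Flat f'] [LocallyOfFinitePresentation b]
    [Smooth (f' ≫ b)] (x' : X') : f' x' ∈ b.smoothLocus := by
  rw [mem_smoothLocus_iff_isRegularLocalRing_of_perfectField b (f' x')]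
  have hx : x' ∈ (f' ≫ b).smoothLocus := by
    rw [Scheme.Hom.smoothLocus_eq_top]; trivial
  haveI hreg : IsRegularLocalRing (X'.presheaf.stalk x') :=
    (mem_smoothLocus_iff_isRegularLocalRing_of_perfectField (f' ≫ b) x').mp hx
  haveI : IsLocallyNoetherian P := LocallyOfFiniteType.isLocallyNoetherian b
  have hfl : (f'.stalkMap x').hom.Flat := Flat.stalkMap f' x'
  algebraize [(f'.stalkMap x').hom]
  haveI : IsLocalHom (algebraMap (P.presheaf.stalk (f' x')) (X'.presheaf.stalk x')) :=
    inferInstanceAs (IsLocalHom (f'.stalkMap x').hom)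
  exact Groth.Agent.S0565.result (P.presheaf.stalk (f' x')) (X'.presheaf.stalk x')

variable {X Y S : Scheme.{u}} (f : X ⟶ Y) (q : Y ⟶ S)

theorem smooth_of_comp [Surjective f] [Flat f] [LocallyOfFinitePresentation f] [Smooth (f ≫ q)] :
    Smooth q := by
  haveI : Flat q := Groth.Agent.Lib.helper22.flat_of_flat_comp f q
  haveI : LocallyOfFinitePresentation q :=
    Groth.Agent.Lib.helper5.FppfSource.locallyOfFinitePresentation_of_comp f q
  rw [← Scheme.Hom.smoothLocus_eq_top_iff]
  refine top_unique fun y _ => ?_
  let g := geomPt q y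
  have sq : IsPullback (pullback.fst q g) (pullback.snd q g) q g := .of_hasPullback q g
  let t : Spec (CommRingCat.of (geomK q y)) := IsLocalRing.closedPoint (geomK q y)
  obtain ⟨y', hy'1, hy'2⟩ := Scheme.Pullback.exists_preimage_pullback (f := q) (g := g) y t
    (geomPt_apply q y t).symm
  have big : IsPullback (pullback.fst f (pullback.fst q g))
      (pullback.snd f (pullback.fst q g) ≫ pullback.snd q g) (f ≫ q) g :=
    (IsPullback.of_hasPullback f (pullback.fst q g)).paste_vert sq
  haveI : Smooth (pullback.snd f (pullback.fst q g) ≫ pullback.snd q g) :=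
    MorphismProperty.of_isPullback (P := @Smooth) big inferInstance
  obtain ⟨x', rfl⟩ := (inferInstance : Surjective (pullback.snd f (pullback.fst q g))).surj y'
  have h1 := mem_smoothLocus_of_comp_field (pullback.snd f (pullback.fst q g)) (pullback.snd q g) x'
  show (q.stalkMap y).hom.FormallySmooth
  rw [← hy'1]
  exact Groth.Agent.Lib.Helper18.SmoothFiber.formallySmooth_stalk_of_isPullback_field sq _
    (Flat.stalkMap q _) h1

end Groth.Agent.Lib.helper5.FppfSrcSmooth
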