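import Mathlib
import Groth.Agent.Lib.Helper5.FlatLocalDimAdd
import Groth.Agent.Lib.Helper5.FibreDimLocal
import Groth.Agent.Lib.Helper5.DimSupLocalDim
import Groth.Agent.Lib.Helper3.IrredDim
import Groth.Agent.Lib.Helper3.RelDim

/-!
# Homogeneity of group schemes locally of finite type over a field (helper5)

* `shear` : the shear automorphism `(x, y) ↦ (x, xy)` of `G ⊗ G` for a group object `G`.
* `localDim_eq_const` : for a group scheme `G` locally of finite type over a field, the local dimension of
  `G` is the same at all points.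
* `localDim_eq_dim` : it equals `dim G`.
-/

set_option autoImplicit false
universe u
open CategoryTheory MonoidalCategory CartesianMonoidalCategory MonObj GrpObj AlgebraicGeometry

namespace Groth.Agent.Lib.helper5.GrpHomog

section cat

variable {C : Type*} [Category C] [CartesianMonoidalCategory C]

/-- the shear automorphism `(x, y) ↦ (x, xy)`. -/
noncomputable def shear (G : C) [GrpObj G] : G ⊗ G ≅ G ⊗ G where
  hom := lift (fst G G) μ
  inv := lift (fst G G) (lift (fst G G ≫ ι) (snd G G) ≫ μ)
  hom_inv_id := by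
    apply CartesianMonoidalCategory.hom_ext
    · simp
    · rw [Category.assoc, lift_snd, comp_lift_assoc, Category.id_comp, lift_fst_assoc, lift_snd,
        lift_inv_left_eq]
      simp
  inv_hom_id := by
    apply CartesianMonoidalCategory.hom_ext
    · simp
    · rw [Category.assoc, lift_snd, Category.id_comp, ← eq_lift_inv_left]

theorem sec_shear (G : C) [GrpObj G] :
    lift (𝟙 G) (toUnit G ≫ η) ≫ (shear G).hom = lift (𝟙 G) (𝟙 G) := by
  apply CartesianMonoidalCategory.hom_ext
  · simp [shear]
  · simp [shear]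

end cat

variable (k : Type u) [Field k] (G : Over (Spec (CommRingCat.of k))) [GrpObj G]
  [LocallyOfFiniteType G.hom]

theorem localDim_eq_const (g : G.left) :
    FlatMor.localDim ↥G.left g = FlatMor.localDim ↥G.left (η[G].left (G.hom g)) := by
  -- the two points of `G × G`
  set s₁ : G ⟶ G ⊗ G := lift (𝟙 G) (toUnit G ≫ η) with hs₁
  set Δ : G ⟶ G ⊗ G := lift (𝟙 G) (𝟙 G) with hΔ
  have hsσ : s₁ ≫ (shear G).hom = Δ := sec_shear G
  have hP : (G ⊗ G).left = Limits.pullback G.hom G.hom := rfl
  let σL : (G ⊗ G).left ≅ (G ⊗ G).left := (Over.forget _).mapIso (shear G)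
  have e1 : FlatMor.localDim ↥(G ⊗ G).left (s₁.left g) =
      FlatMor.localDim ↥(G ⊗ G).left (Δ.left g) := by
    have h := Groth.Agent.Lib.helper5.FibreDimLocal.localDim_eq_of_isOpenEmbedding
      (fun x : ↥(G ⊗ G).left => σL.hom x) σL.hom.homeomorph.isOpenEmbedding (s₁.left g)
    rw [h]
    congr 1
    change (s₁.left ≫ (shear G).hom.left) g = _
    rw [← Over.comp_left, hsσ]
  have e2 := Groth.Agent.Lib.helper5.FieldBC.localDim_pullback_eq_add k G.hom G.hom (s₁.left g)
  have e3 := Groth.Agent.Lib.helper5.FieldBC.localDim_pullback_eq_add k G.hom G.hom (Δ.left g)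
  have f1 : (Limits.pullback.fst G.hom G.hom) (s₁.left g) = g := by
    change (s₁.left ≫ (fst G G).left) g = g
    rw [← Over.comp_left, hs₁, lift_fst]
    rfl
  have f2 : (Limits.pullback.snd G.hom G.hom) (s₁.left g) = η[G].left (G.hom g) := by
    change (s₁.left ≫ (snd G G).left) g = _
    rw [← Over.comp_left, hs₁, lift_snd]
    rfl
  have f3 : (Limits.pullback.fst G.hom G.hom) (Δ.left g) = g := by
    change (Δ.left ≫ (fst G G).left) g = g
    rw [← Over.comp_left, hΔ, lift_fst]
    rfl
  have f4 : (Limits.pullback.snd G.hom G.hom) (Δ.left g) = g := by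
    change (Δ.left ≫ (snd G G).left) g = g
    rw [← Over.comp_left, hΔ, lift_snd]
    rfl
  rw [f1, f2] at e2
  rw [f3, f4] at e3
  have e4 : FlatMor.localDim ↥G.left g + FlatMor.localDim ↥G.left (η[G].left (G.hom g)) =
      FlatMor.localDim ↥G.left g + FlatMor.localDim ↥G.left g := by
    rw [← e2, ← e3]
    exact e1
  -- cancel
  letI : G.left.Over (Spec (CommRingCat.of k)) := ⟨G.hom⟩
  haveI : LocallyOfFiniteType (G.left ↘ Spec (CommRingCat.of k)) :=
    inferInstanceAs (LocallyOfFiniteType G.hom)
  obtain ⟨a, b, -, -, hab⟩ :=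
    Groth.Agent.Lib.helper3.IrredDim.localDim_eq_trdeg_add_stalk k G.left g
  obtain ⟨a', b', -, -, hab'⟩ :=
    Groth.Agent.Lib.helper3.IrredDim.localDim_eq_trdeg_add_stalk k G.left (η[G].left (G.hom g))
  rw [hab, hab'] at e4 ⊢
  have : a + b + (a' + b') = a + b + (a + b) := by exact_mod_cast e4
  have h5 : a' + b' = a + b := by omega
  rw [h5]

theorem localDim_eq_localDim (g g' : G.left) :
    FlatMor.localDim ↥G.left g = FlatMor.localDim ↥G.left g' := by
  rw [localDim_eq_const k G g, localDim_eq_const k G g']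
  have : G.hom g = G.hom g' := Subsingleton.elim (α := PrimeSpectrum k) _ _
  rw [this]

theorem localDim_eq_dim (g : G.left) :
    FlatMor.localDim ↥G.left g = topologicalKrullDim ↥G.left := by
  rw [Groth.Agent.Lib.helper5.FieldBC.dim_eq_iSup_localDim]
  haveI : Nonempty ↥G.left := ⟨g⟩
  have : (fun g' : ↥G.left => FlatMor.localDim ↥G.left g') = fun _ => FlatMor.localDim ↥G.left g :=
    funext fun g' => localDim_eq_localDim k G g' g
  rw [this, iSup_const]

end Groth.Agent.Lib.helper5.GrpHomog
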