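import Groth.Agent.Lib.Helper5.GrpHomLocus1
import Groth.Agent.Lib.Helper5.ConsMono1
import Groth.Agent.S10310
import Groth.Agent.Lib.Helper3.FibreDimBC

/-!
# Unramified and quasi-finite loci of a homomorphism of group schemes (SGA3 VI_B 2.5) (helper5)

* `isPullback_pullback_map`, `range_pullback_fst_fromSpecResidueField`
* `quasiFiniteAt_iff_of_isPullback` : quasi-finiteness at a point is invariant under arbitrary base
  change.
* `unramified_main`, `quasiFinite_main` : the statements of SGA3 VI_B 2.5 for unramified and locally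
  quasi-finite.
-/

set_option autoImplicit false
set_option backward.isDefEq.respectTransparency false
universe u
open CategoryTheory CategoryTheory.Limits MonoidalCategory CartesianMonoidalCategory MonObj
  AlgebraicGeometry

namespace Groth.Agent.Lib.helper5.GrpHomLocus

open Groth.Agent.Lib.helper5.UnramLocus Groth.Agent.Lib.helper5.ConsMono
  Groth.Agent.Lib.helper5.ConsSep

theorem isPullback_pullback_map {S S' : Scheme.{u}} (g : S' ⟶ S) {X Y : Over S} (h : X ⟶ Y) :
    IsPullback (pullback.fst X.hom g) ((Over.pullback g).map h).left h.left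
      (pullback.fst Y.hom g) := by
  have h1 : ((Over.pullback g).map h).left ≫ pullback.fst Y.hom g =
      pullback.fst X.hom g ≫ h.left := pullback.lift_fst _ _ _
  have h2 : ((Over.pullback g).map h).left ≫ pullback.snd Y.hom g = pullback.snd X.hom g :=
    pullback.lift_snd _ _ _
  refine (IsPullback.of_right ?_ h1 (IsPullback.of_hasPullback Y.hom g).flip).flip
  rw [h2, Over.w h]
  exact (IsPullback.of_hasPullback X.hom g).flip

theorem range_pullback_fst_fromSpecResidueField {X S : Scheme.{u}} (f : X ⟶ S) (s : S) :
    Set.range (pullback.fst f (S.fromSpecResidueField s)) = f ⁻¹' {s} := by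
  rw [range_fst_of_isPullback (IsPullback.of_hasPullback f (S.fromSpecResidueField s)),
    Scheme.range_fromSpecResidueField]

/-- quasi-finiteness at a point in terms of the local fibre dimension. -/
theorem quasiFiniteAt_iff_fibreDimAt {X Y : Scheme.{u}} (f : X ⟶ Y) [LocallyOfFiniteType f]
    (x : X) : f.QuasiFiniteAt x ↔ FlatMor.fibreDimAt f x = 0 := by
  rw [Scheme.Hom.quasiFiniteAt_iff_isOpen_singleton_asFiber, Groth.Agent.S10310.isOpen_asFiber_iff,
    Groth.Agent.S10310.fibreDimAt_eq_zero_iff]

theorem quasiFiniteAt_iff_of_isPullback {U V U' V' : Scheme.{u}} {p : U' ⟶ U} {h' : U' ⟶ V'}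
    {h : U ⟶ V} {k : V' ⟶ V} (sq : IsPullback p h' h k) [LocallyOfFiniteType h] (u' : U') :
    h'.QuasiFiniteAt u' ↔ h.QuasiFiniteAt (p u') := by
  haveI : LocallyOfFiniteType h' :=
    MorphismProperty.of_isPullback (P := @LocallyOfFiniteType) sq ‹_›
  rw [quasiFiniteAt_iff_fibreDimAt, quasiFiniteAt_iff_fibreDimAt,
    Groth.Agent.Lib.helper3.FibreDimBC.fibreDimAt_eq_of_isPullback h k p h' sq u']

variable {S : Scheme.{u}} {G H : Over S} [GrpObj G] [GrpObj H] (u : G ⟶ H) [IsMonHom u]

omit [GrpObj G] [GrpObj H] [IsMonHom u] in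
theorem translationInvariant_unrLocus [LocallyOfFiniteType u.left] :
    TranslationInvariant u (unrLocus u.left) :=
  translationInvariant_of_pointwise u (unrLocus u.left)
    (fun {U V} h x => UnrAt U V h x) (fun _ => Iff.rfl)
    (fun _ _ _ sq u' => unrAt_iff_of_isPullback sq u')

omit [GrpObj G] [GrpObj H] [IsMonHom u] in
theorem translationInvariant_quasiFiniteLocus [LocallyOfFiniteType u.left] :
    TranslationInvariant u {x | u.left.QuasiFiniteAt x} :=
  translationInvariant_of_pointwise u {x | u.left.QuasiFiniteAt x}
    (fun {_ _} h x => h.QuasiFiniteAt x) (fun _ => Iff.rfl)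
    (fun _ _ _ sq u' => quasiFiniteAt_iff_of_isPullback sq u')

/-- SGA3 VI_B 2.5 (v), unramified. -/
theorem unramified_main [LocallyOfFiniteType u.left] :
    IsOpen {s : S | FormallyUnramified
        ((Over.pullback (S.fromSpecResidueField s)).map u).left} ∧
      {x : G.left | ∃ W : G.left.Opens, x ∈ W ∧ FormallyUnramified (W.ι ≫ u.left)} =
        G.hom.base ⁻¹' {s : S | FormallyUnramified
          ((Over.pullback (S.fromSpecResidueField s)).map u).left} := by
  have hL := translationInvariant_unrLocus u
  have hset : {s : S | FormallyUnramified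
      ((Over.pullback (S.fromSpecResidueField s)).map u).left} =
      {s : S | η[G].left s ∈ unrLocus u.left} := by
    ext s
    have sq := isPullback_pullback_map (S.fromSpecResidueField s) u
    haveI : LocallyOfFiniteType ((Over.pullback (S.fromSpecResidueField s)).map u).left :=
      MorphismProperty.of_isPullback (P := @LocallyOfFiniteType) sq inferInstance
    change FormallyUnramified _ ↔ _
    rw [formallyUnramified_iff_forall_unrAt]
    refine Iff.trans ?_ (forall_fibre_mem_iff hL s)
    constructor
    · intro h x hx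
      have hxr : x ∈ Set.range (pullback.fst G.hom (S.fromSpecResidueField s)) := by
        rw [range_pullback_fst_fromSpecResidueField]; exact hx
      obtain ⟨x', rfl⟩ := hxr
      exact (unrAt_iff_of_isPullback sq x').mp (h x')
    · intro h x'
      refine (unrAt_iff_of_isPullback sq x').mpr (h _ ?_)
      have : pullback.fst G.hom (S.fromSpecResidueField s) x' ∈ G.hom ⁻¹' {s} := by
        rw [← range_pullback_fst_fromSpecResidueField]; exact ⟨x', rfl⟩
      exact this
  have hset2 : {x : G.left | ∃ W : G.left.Opens, x ∈ W ∧ FormallyUnramified (W.ι ≫ u.left)} =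
      unrLocus u.left := by
    ext x
    constructor
    · rintro ⟨W, hxW, hW⟩
      exact ⟨W, hxW, inferInstance, hW⟩
    · rintro ⟨W, hxW, -, hW⟩
      exact ⟨W, hxW, hW⟩
  rw [hset, hset2]
  exact ⟨isOpen_unit_preimage (isOpen_unrLocus u.left), eq_preimage_unit hL⟩

/-- SGA3 VI_B 2.5 (i), locally quasi-finite. -/
theorem quasiFinite_main [LocallyOfFiniteType u.left] :
    IsOpen {s : S | LocallyQuasiFinite
        ((Over.pullback (S.fromSpecResidueField s)).map u).left} ∧
      {x : G.left | ∃ W : G.left.Opens, x ∈ W ∧ LocallyQuasiFinite (W.ι ≫ u.left)} =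
        G.hom.base ⁻¹' {s : S | LocallyQuasiFinite
          ((Over.pullback (S.fromSpecResidueField s)).map u).left} := by
  have hL := translationInvariant_quasiFiniteLocus u
  have hset : {s : S | LocallyQuasiFinite
      ((Over.pullback (S.fromSpecResidueField s)).map u).left} =
      {s : S | η[G].left s ∈ {x | u.left.QuasiFiniteAt x}} := by
    ext s
    have sq := isPullback_pullback_map (S.fromSpecResidueField s) u
    haveI : LocallyOfFiniteType ((Over.pullback (S.fromSpecResidueField s)).map u).left :=
      MorphismProperty.of_isPullback (P := @LocallyOfFiniteType) sq inferInstance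
    change LocallyQuasiFinite _ ↔ _
    rw [← Scheme.Hom.quasiFiniteLocus_eq_top_iff]
    refine Iff.trans ?_ (forall_fibre_mem_iff hL s)
    constructor
    · intro h x hx
      have hxr : x ∈ Set.range (pullback.fst G.hom (S.fromSpecResidueField s)) := by
        rw [range_pullback_fst_fromSpecResidueField]; exact hx
      obtain ⟨x', rfl⟩ := hxr
      have hx' : x' ∈ (((Over.pullback (S.fromSpecResidueField s)).map u).left).quasiFiniteLocus := by
        rw [h]; trivial
      exact (quasiFiniteAt_iff_of_isPullback sq x').mp hx'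
    · intro h
      rw [eq_top_iff]
      intro x' _
      refine (quasiFiniteAt_iff_of_isPullback sq x').mpr (h _ ?_)
      have : pullback.fst G.hom (S.fromSpecResidueField s) x' ∈ G.hom ⁻¹' {s} := by
        rw [← range_pullback_fst_fromSpecResidueField]; exact ⟨x', rfl⟩
      exact this
  have hset2 : {x : G.left | ∃ W : G.left.Opens, x ∈ W ∧ LocallyQuasiFinite (W.ι ≫ u.left)} =
      {x | u.left.QuasiFiniteAt x} := by
    ext x
    constructor
    · rintro ⟨W, hxW, hW⟩
      have h1 : (W.ι ≫ u.left).quasiFiniteLocus = ⊤ :=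
        (Scheme.Hom.quasiFiniteLocus_eq_top_iff _).mpr hW
      rw [Scheme.Hom.quasiFiniteLocus_comp] at h1
      have h2 : (⟨x, hxW⟩ : W) ∈ W.ι ⁻¹ᵁ u.left.quasiFiniteLocus := by rw [h1]; trivial
      exact h2
    · intro hx
      refine ⟨u.left.quasiFiniteLocus, hx, ?_⟩
      rw [← Scheme.Hom.quasiFiniteLocus_eq_top_iff, Scheme.Hom.quasiFiniteLocus_comp]
      rw [eq_top_iff]
      intro y _
      exact y.2
  rw [hset, hset2]
  exact ⟨isOpen_unit_preimage u.left.isOpen_quasiFiniteAt, eq_preimage_unit hL⟩

end Groth.Agent.Lib.helper5.GrpHomLocus
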