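import Groth.Agent.Lib.Helper5.FGDescent

/-!
# Descent of equalities and of isomorphisms to a finitely generated subalgebra (helper5)
-/

set_option autoImplicit false
set_option backward.isDefEq.respectTransparency false
open CategoryTheory CategoryTheory.Limits AlgebraicGeometry

namespace Groth.Agent.Lib.helper5.FGLimit
universe u

open Groth.Agent.Lib.helper5.PBLimit

variable {S : Scheme.{u}} (R K : Type u) [CommRing R] [CommRing K] [Algebra R K]
  (q : Spec (CommRingCat.of R) ⟶ S) {X Y : Scheme.{u}} (u : X ⟶ S) (v : Y ⟶ S)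

/-- the transition map `Spec R[s'] ⟶ Spec R[s]`. -/
noncomputable def trS {s s' : Finset K} (hs : s ≤ s') :
    Spec (CommRingCat.of (adj R K s')) ⟶ Spec (CommRingCat.of (adj R K s)) :=
  (specDiagram R K).map (homOfLE hs).op

theorem trS_pS {s s' : Finset K} (hs : s ≤ s') : trS R K hs ≫ pS R K q s = pS R K q s' :=
  τ_w (specDiagram R K) (specτ R K q) (homOfLE hs).op

theorem jK_trS {s s' : Finset K} (hs : s ≤ s') : jK R K s' ≫ trS R K hs = jK R K s :=
  (specCone R K).w (homOfLE hs).op

/-- the transition map `X ×_S Spec R[s'] ⟶ X ×_S Spec R[s]`. -/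
noncomputable def trX {s s' : Finset K} (hs : s ≤ s') :
    pullback u (pS R K q s') ⟶ pullback u (pS R K q s) :=
  (pbDiagram (specDiagram R K) (specτ R K q) u).map (homOfLE hs).op

theorem trX_fst {s s' : Finset K} (hs : s ≤ s') :
    trX R K q u hs ≫ pullback.fst u (pS R K q s) = pullback.fst u (pS R K q s') := by
  unfold trX
  simp only [pbDiagram_map, pullback.map, Category.comp_id]
  exact pullback.lift_fst _ _ _

theorem trX_snd {s s' : Finset K} (hs : s ≤ s') :
    trX R K q u hs ≫ pullback.snd u (pS R K q s) = pullback.snd u (pS R K q s') ≫ trS R K hs := by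
  unfold trX trS
  simp only [pbDiagram_map, pullback.map]
  exact pullback.lift_snd _ _ _

theorem πX_trX {s s' : Finset K} (hs : s ≤ s') :
    πX R K q u s' ≫ trX R K q u hs = πX R K q u s :=
  (pbCone (specDiagram R K) (specτ R K q) u (specCone R K) (tK R K q)
    (specCone_specτ R K q)).w (homOfLE hs).op

theorem trX_trX {s s' s'' : Finset K} (hs : s ≤ s') (hs' : s' ≤ s'') :
    trX R K q u hs' ≫ trX R K q u hs = trX R K q u (hs.trans hs') := by
  unfold trX
  rw [← Functor.map_comp]
  rfl

theorem πX_fst (s : Finset K) :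
    πX R K q u s ≫ pullback.fst u (pS R K q s) = pullback.fst u (tK R K q) := by
  unfold πX
  rw [pullback.map, pullback.lift_fst, Category.comp_id]

theorem πX_snd (s : Finset K) :
    πX R K q u s ≫ pullback.snd u (pS R K q s) = pullback.snd u (tK R K q) ≫ jK R K s := by
  unfold πX
  rw [pullback.map, pullback.lift_snd]

/-- two `S`-morphisms `X ×_S Spec R[s] ⟶ W` which agree over `Spec K` agree over `Spec R[s']`
for some finite `s' ⊇ s`. -/
theorem exists_descent_eq {W : Scheme.{u}} (w : W ⟶ S) [QuasiCompact u] [LocallyOfFiniteType w]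
    (s : Finset K) (a b : pullback u (pS R K q s) ⟶ W)
    (ha : a ≫ w = pullback.snd u (pS R K q s) ≫ pS R K q s)
    (hb : b ≫ w = pullback.snd u (pS R K q s) ≫ pS R K q s)
    (hab : πX R K q u s ≫ a = πX R K q u s ≫ b) :
    ∃ (s' : Finset K) (hs : s ≤ s'), trX R K q u hs ≫ a = trX R K q u hs ≫ b := by
  obtain ⟨k, hik, h⟩ := Scheme.exists_hom_comp_eq_comp_of_locallyOfFiniteType
    (pbDiagram (specDiagram R K) (specτ R K q) u) (pbDiagramT (specDiagram R K) (specτ R K q) u) w
    (pbCone (specDiagram R K) (specτ R K q) u (specCone R K) (tK R K q) (specCone_specτ R K q))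
    (isLimitPbCone (specDiagram R K) (specτ R K q) u (specCone R K) (tK R K q)
      (specCone_specτ R K q) (isLimitSpecCone R K)) (i := Opposite.op s) a b ha.symm hb.symm hab
  exact ⟨k.unop, leOfHom hik.unop, h⟩

end Groth.Agent.Lib.helper5.FGLimit
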