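import Groth.Agent.Lib.Helper5.AlgSpInf3
import Mathlib.CategoryTheory.Sites.LeftExact
import Mathlib.CategoryTheory.Extensive
import Mathlib.AlgebraicGeometry.Limits
import Mathlib.AlgebraicGeometry.Morphisms.ClosedImmersion
import Mathlib.CategoryTheory.Limits.VanKampen

/-!
Coproducts of fppf sheaves over a scheme (helper5): the sheaf of a disjoint union of schemes is the coproduct of the sheaves; the
terminal sheaf; the coprojections of a binary coproduct are open and closed immersions.
-/

set_option autoImplicit false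
universe u
open CategoryTheory CategoryTheory.Limits AlgebraicGeometry Opposite
open AlgSp

namespace Groth.Agent.Lib.helper5.Coprod

variable {S : Scheme.{u}}

/-- Two maps out of the sheaf of an empty scheme agree. -/
theorem yon_hom_ext_of_isEmpty {G : Sp S} {Z : Over S} [IsEmpty ↥Z.left]
    (m m' : (yon S).obj Z ⟶ G) : m = m' :=
  yon_hom_ext_of_family m m' (κ := PEmpty.{u + 1}) (fun k => k.elim) (fun k => k.elim)
    (fun k => k.elim) (fun k => k.elim) (fun x => isEmptyElim x) (fun k => k.elim)

/-- The sheaf of a scheme which is the disjoint union of open subschemes is the coproduct of their sheaves. -/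
noncomputable def isColimitYonCofan {V : Over S} {κ : Type u} (Vk : κ → Over S) (c : ∀ k, Vk k ⟶ V)
    (hoi : ∀ k, IsOpenImmersion (c k).left) (hcov : ∀ x : ↥V.left, ∃ k, x ∈ Set.range (c k).left)
    (hdisj : ∀ i j, i ≠ j → Disjoint (Set.range (c i).left) (Set.range (c j).left)) :
    IsColimit (Cofan.mk ((yon S).obj V) (fun k => (yon S).map (c k))) := by
  have hfl : ∀ k, Flat (c k).left := fun k => inferInstance
  have hfp : ∀ k, LocallyOfFinitePresentation (c k).left := fun k => inferInstance
  have compat : ∀ (s : Cofan (fun k => (yon S).obj (Vk k))) (i j : κ) (Z : Over S) (gi : Z ⟶ Vk i)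
      (gj : Z ⟶ Vk j), gi ≫ c i = gj ≫ c j →
      (yon S).map gi ≫ s.inj i = (yon S).map gj ≫ s.inj j := by
    intro s i j Z gi gj h
    by_cases hij : i = j
    · subst hij
      have : gi = gj := by
        ext1
        have h' := congrArg (fun k => k.left) h
        simp only [Over.comp_left] at h'
        exact (cancel_mono (c i).left).1 h'
      rw [this]
    · have : IsEmpty ↥Z.left := by
        refine ⟨fun z => ?_⟩
        have h' := congrArg (fun k => k.left z) h
        simp only [Over.comp_left, Scheme.Hom.comp_apply] at h'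
        exact Set.disjoint_iff.1 (hdisj i j hij) ⟨⟨_, rfl⟩, ⟨_, h'.symm⟩⟩
      exact yon_hom_ext_of_isEmpty _ _
  refine Cofan.IsColimit.mk _ (fun s => (exists_glue Vk c hfl hfp hcov (fun k => s.inj k)
    (compat s)).choose) (fun s k => ?_) (fun s m hm => ?_)
  · exact (exists_glue Vk c hfl hfp hcov (fun k => s.inj k) (compat s)).choose_spec k
  · refine yon_hom_ext_of_family _ _ Vk c hfl hfp hcov (fun k => ?_)
    rw [(exists_glue Vk c hfl hfp hcov (fun k => s.inj k) (compat s)).choose_spec k]
    exact hm k

/-- The sheaf of the terminal object is terminal. -/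
noncomputable def isTerminalYon : IsTerminal ((yon S).obj (Over.mk (𝟙 S))) := by
  refine IsTerminal.ofUniqueHom (fun F => ⟨{ app := fun T => TypeCat.ofHom (fun _ =>
    ULift.up (Over.mkIdTerminal.from T.unop)), naturality := ?_ }⟩) ?_
  · intro T T' f
    ext x
    apply ULift.ext
    exact Over.mkIdTerminal.hom_ext _ _
  · intro F m
    ext T x
    apply ULift.ext
    exact Over.mkIdTerminal.hom_ext _ _

/-- The two-point scheme over `S`. -/
noncomputable abbrev two (S : Scheme.{u}) : Over S := Over.mk (coprod.desc (𝟙 S) (𝟙 S) : S ⨿ S ⟶ S)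

noncomputable abbrev il (S : Scheme.{u}) : Over.mk (𝟙 S) ⟶ two S :=
  Over.homMk coprod.inl (coprod.inl_desc _ _)

noncomputable abbrev ir (S : Scheme.{u}) : Over.mk (𝟙 S) ⟶ two S :=
  Over.homMk coprod.inr (coprod.inr_desc _ _)

/-- The sheaf of `S ⨿ S` is the coproduct of two copies of the terminal sheaf. -/
noncomputable def isColimitTwo : IsColimit (BinaryCofan.mk ((yon S).map (il S)) ((yon S).map (ir S))) := by
  have hc := isColimitYonCofan (S := S) (V := two S) (κ := ULift.{u} Bool) (fun _ => Over.mk (𝟙 S))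
    (fun b => if b.down then il S else ir S)
    (fun b => by
      rcases b with ⟨_ | _⟩
      · exact inferInstanceAs (IsOpenImmersion (coprod.inr : S ⟶ S ⨿ S))
      · exact inferInstanceAs (IsOpenImmersion (coprod.inl : S ⟶ S ⨿ S)))
    (fun x => by
      have h := (isCompl_range_inl_inr S S).codisjoint
      have hx : x ∈ Set.range (coprod.inl : S ⟶ S ⨿ S) ∪ Set.range (coprod.inr : S ⟶ S ⨿ S) := by
        have h3 : Set.range (coprod.inl : S ⟶ S ⨿ S) ∪ Set.range (coprod.inr : S ⟶ S ⨿ S) =
            Set.univ := codisjoint_iff.1 h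
        rw [h3]
        exact Set.mem_univ x
      rcases hx with hx | hx
      · exact ⟨⟨true⟩, hx⟩
      · exact ⟨⟨false⟩, hx⟩)
    (fun i j hij => by
      have h := (isCompl_range_inl_inr S S).disjoint
      rcases i with ⟨_ | _⟩ <;> rcases j with ⟨_ | _⟩
      · exact absurd rfl hij
      · exact h.symm
      · exact h
      · exact absurd rfl hij)
  refine BinaryCofan.IsColimit.mk _ (fun {T} f g => hc.desc (Cofan.mk T (fun b : ULift.{u} Bool =>
    if b.down then f else g))) (fun {T} f g => ?_) (fun {T} f g => ?_) (fun {T} f g m h1 h2 => ?_)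
  · exact hc.fac (Cofan.mk T (fun b : ULift.{u} Bool => if b.down then f else g)) ⟨⟨true⟩⟩
  · exact hc.fac (Cofan.mk T (fun b : ULift.{u} Bool => if b.down then f else g)) ⟨⟨false⟩⟩
  · refine hc.uniq (Cofan.mk T (fun b : ULift.{u} Bool => if b.down then f else g)) m ?_
    rintro ⟨⟨_ | _⟩⟩
    · exact h2
    · exact h1

instance : IsClosedImmersion (coprod.inl : S ⟶ S ⨿ S) := by
  apply IsClosedImmersion.of_isPreimmersion
  have h := isCompl_range_inl_inr S S
  have : Set.range (coprod.inl : S ⟶ S ⨿ S) = (Set.range (coprod.inr : S ⟶ S ⨿ S))ᶜ :=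
    h.eq_compl
  rw [this]
  exact (coprod.inr : S ⟶ S ⨿ S).opensRange.isOpen.isClosed_compl

instance : IsClosedImmersion (coprod.inr : S ⟶ S ⨿ S) := by
  apply IsClosedImmersion.of_isPreimmersion
  have h := isCompl_range_inl_inr S S
  have : Set.range (coprod.inr : S ⟶ S ⨿ S) = (Set.range (coprod.inl : S ⟶ S ⨿ S))ᶜ :=
    h.symm.eq_compl
  rw [this]
  exact (coprod.inl : S ⟶ S ⨿ S).opensRange.isOpen.isClosed_compl

/-- The coprojections of a binary coproduct of sheaves are base changes of the coprojections of the two-point scheme. -/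
theorem exists_isPullback_two {F G : Sp S} (c : BinaryCofan F G) (hc : IsColimit c) :
    ∃ f : c.pt ⟶ (yon S).obj (two S),
      IsPullback c.inl (isTerminalYon.from F) f ((yon S).map (il S)) ∧
      IsPullback c.inr (isTerminalYon.from G) f ((yon S).map (ir S)) := by
  have hvk := FinitaryExtensive.vanKampen _ (isColimitTwo (S := S))
  rw [BinaryCofan.isVanKampen_iff] at hvk
  let f : c.pt ⟶ (yon S).obj (two S) := hc.desc (BinaryCofan.mk
    (isTerminalYon.from F ≫ (yon S).map (il S)) (isTerminalYon.from G ≫ (yon S).map (ir S)))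
  have h1 : isTerminalYon.from F ≫ (yon S).map (il S) = c.inl ≫ f :=
    (hc.fac (BinaryCofan.mk
      (isTerminalYon.from F ≫ (yon S).map (il S)) (isTerminalYon.from G ≫ (yon S).map (ir S)))
      ⟨WalkingPair.left⟩).symm
  have h2 : isTerminalYon.from G ≫ (yon S).map (ir S) = c.inr ≫ f :=
    (hc.fac (BinaryCofan.mk
      (isTerminalYon.from F ≫ (yon S).map (il S)) (isTerminalYon.from G ≫ (yon S).map (ir S)))
      ⟨WalkingPair.right⟩).symm
  exact ⟨f, (hvk c (isTerminalYon.from F) (isTerminalYon.from G) f h1 h2).1 ⟨hc⟩⟩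

/-- The coprojections of a binary coproduct of sheaves are open and closed immersions. -/
theorem repWith_openClosed_inl {F G : Sp S} (c : BinaryCofan F G) (hc : IsColimit c) :
    RepWith (@IsOpenImmersion ⊓ @IsClosedImmersion) c.inl := by
  obtain ⟨f, h1, -⟩ := exists_isPullback_two c hc
  refine (RepWith (S := S) (@IsOpenImmersion ⊓ @IsClosedImmersion)).of_isPullback h1.flip ?_
  refine (repWith_yon_map_iff _ _).2 ⟨?_, ?_⟩
  · exact inferInstanceAs (IsOpenImmersion (coprod.inl : S ⟶ S ⨿ S))
  · exact inferInstanceAs (IsClosedImmersion (coprod.inl : S ⟶ S ⨿ S))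

theorem repWith_openClosed_inr {F G : Sp S} (c : BinaryCofan F G) (hc : IsColimit c) :
    RepWith (@IsOpenImmersion ⊓ @IsClosedImmersion) c.inr := by
  obtain ⟨f, -, h2⟩ := exists_isPullback_two c hc
  refine (RepWith (S := S) (@IsOpenImmersion ⊓ @IsClosedImmersion)).of_isPullback h2.flip ?_
  refine (repWith_yon_map_iff _ _).2 ⟨?_, ?_⟩
  · exact inferInstanceAs (IsOpenImmersion (coprod.inr : S ⟶ S ⨿ S))
  · exact inferInstanceAs (IsClosedImmersion (coprod.inr : S ⟶ S ⨿ S))

end Groth.Agent.Lib.helper5.Coprod
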