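import Groth.Agent.S1516
import Mathlib

/-!
# Formally étale morphisms of schemes: closure properties and gluing

`FE' f`: unique lifting of `f` against all first-order thickenings of schemes.
-/

set_option autoImplicit false
universe u

namespace Groth.Agent.Lib.Helper5.FormallyEtale

open AlgebraicGeometry CategoryTheory Limits

/-- unique lifting against all first-order thickenings of schemes -/
def FE' {X Y : Scheme.{u}} (f : X ⟶ Y) : Prop :=
  ∀ {T T' : Scheme.{u}} (t : T ⟶ T'), MoreMor.IsFirstOrderThickening t →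
    ∀ (a : T ⟶ X) (b : T' ⟶ Y), t ≫ b = a ≫ f → ∃! l : T' ⟶ X, t ≫ l = a ∧ l ≫ f = b

lemma FE'.of_FE {X Y : Scheme.{u}} {f : X ⟶ Y} (hf : MoreMor.IsFormallyEtaleHom f) : FE' f :=
  fun t ht a b w => Groth.Agent.S1516.result f hf t ht a b w

lemma FE'.comp {X Y Z : Scheme.{u}} {f : X ⟶ Y} {g : Y ⟶ Z} (hf : FE' f) (hg : FE' g) :
    FE' (f ≫ g) := by
  intro T T' t ht a b w
  obtain ⟨l₁, ⟨h1, h2⟩, hu1⟩ := hg t ht (a ≫ f) b (by rw [w, Category.assoc])
  obtain ⟨l₂, ⟨h3, h4⟩, hu2⟩ := hf t ht a l₁ h1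
  refine ⟨l₂, ⟨h3, by rw [← Category.assoc, h4, h2]⟩, ?_⟩
  rintro l ⟨h5, h6⟩
  have h7 : l ≫ f = l₁ := hu1 (l ≫ f) ⟨by rw [← Category.assoc, h5], by rw [Category.assoc, h6]⟩
  exact hu2 l ⟨h5, h7⟩

lemma FE'.of_isOpenImmersion {U X : Scheme.{u}} (j : U ⟶ X) [IsOpenImmersion j] : FE' j := by
  intro T T' t ht a b w
  have hsurj : Function.Surjective t.base := ht.1.2.surj
  have hrange : Set.range b.base ⊆ Set.range j.base := by
    rintro _ ⟨y, rfl⟩
    obtain ⟨x, rfl⟩ := hsurj y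
    refine ⟨a.base x, ?_⟩
    have := congrArg (fun h => h.base x) w
    exact this.symm
  refine ⟨IsOpenImmersion.lift j b hrange, ⟨?_, IsOpenImmersion.lift_fac _ _ _⟩, ?_⟩
  · rw [← cancel_mono j, Category.assoc, IsOpenImmersion.lift_fac, w]
  · rintro l ⟨-, h2⟩
    rw [← cancel_mono j, IsOpenImmersion.lift_fac, h2]

lemma FE'.of_comp_mono {X Y Z : Scheme.{u}} {f : X ⟶ Y} {j : Y ⟶ Z} [Mono j] (h : FE' (f ≫ j)) :
    FE' f := by
  intro T T' t ht a b w
  obtain ⟨l, ⟨h1, h2⟩, hu⟩ := h t ht a (b ≫ j) (by rw [← Category.assoc, w, Category.assoc])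
  refine ⟨l, ⟨h1, by rw [← cancel_mono j, Category.assoc, h2]⟩, ?_⟩
  rintro l' ⟨h3, h4⟩
  exact hu l' ⟨h3, by rw [← Category.assoc, h4]⟩

lemma thickening_Spec (A : Type u) [CommRing A] (I : Ideal A) (hI : I ^ 2 = ⊥) :
    MoreMor.IsFirstOrderThickening (Spec.map (CommRingCat.ofHom (Ideal.Quotient.mk I))) := by
  set t := Spec.map (CommRingCat.ofHom (Ideal.Quotient.mk I)) with ht
  have hcl : IsClosedImmersion t :=
    IsClosedImmersion.spec_of_quotient_mk (R := CommRingCat.of A) I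
  refine ⟨⟨hcl, ⟨?_⟩⟩, ?_⟩
  · show Function.Surjective (PrimeSpectrum.comap (Ideal.Quotient.mk I))
    rw [← Set.range_eq_univ, _root_.range_comap_of_surjective _ _
      Ideal.Quotient.mk_surjective, Ideal.mk_ker, PrimeSpectrum.zeroLocus_eq_univ_iff]
    intro x hx
    refine ⟨2, ?_⟩
    have : x ^ 2 ∈ I ^ 2 := Ideal.pow_mem_pow hx 2
    rwa [hI] at this
  · have h1 : t.ker = Scheme.IdealSheafData.equivOfIsAffine.symm (RingHom.ker t.appTop.hom) := by
      rw [Scheme.IdealSheafData.equivOfIsAffine_symm_apply]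
      exact Scheme.ker_of_isAffine t
    have hK : ∀ x ∈ RingHom.ker t.appTop.hom,
        (Scheme.ΓSpecIso (CommRingCat.of A)).hom.hom x ∈ I := by
      intro x hx
      rw [← Ideal.Quotient.eq_zero_iff_mem]
      have := congrArg (fun h => h.hom x)
        (Scheme.ΓSpecIso_naturality (CommRingCat.ofHom (Ideal.Quotient.mk I)))
      simp only [CommRingCat.hom_comp, RingHom.comp_apply, CommRingCat.hom_ofHom] at this
      rw [← this, show (Spec.map (CommRingCat.ofHom (Ideal.Quotient.mk I))).appTop.hom x = 0 from hx,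
        map_zero]
    have h3 : RingHom.ker t.appTop.hom * RingHom.ker t.appTop.hom = 0 := by
      rw [Ideal.zero_eq_bot, eq_bot_iff, Ideal.mul_le]
      intro x hx y hy
      have hxy : (Scheme.ΓSpecIso (CommRingCat.of A)).hom.hom (x * y) ∈ I ^ 2 := by
        rw [map_mul, pow_two]
        exact Ideal.mul_mem_mul (hK x hx) (hK y hy)
      rw [hI, Ideal.mem_bot] at hxy
      have hinj : Function.Injective (Scheme.ΓSpecIso (CommRingCat.of A)).hom.hom :=
        (ConcreteCategory.bijective_of_isIso (Scheme.ΓSpecIso (CommRingCat.of A)).hom).1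
      exact (Ideal.mem_bot).mpr (hinj (hxy.trans (map_zero _).symm))
    rw [h1, ← map_mul, h3, map_zero]
    rfl

lemma FE'.toFE {X Y : Scheme.{u}} {f : X ⟶ Y} (hf : FE' f) : MoreMor.IsFormallyEtaleHom f :=
  fun A _ I hI a b w => hf _ (thickening_Spec A I hI) a b w

section SpecCase

lemma Spec_map_ofHom_comp {R S T : Type u} [CommRing R] [CommRing S] [CommRing T]
    (φ : R →+* S) (ψ : S →+* T) :
    Spec.map (CommRingCat.ofHom ψ) ≫ Spec.map (CommRingCat.ofHom φ) =
      Spec.map (CommRingCat.ofHom (ψ.comp φ)) := by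
  rw [← Spec.map_comp, ← CommRingCat.ofHom_comp]

lemma Spec_map_ofHom_inj {R S : Type u} [CommRing R] [CommRing S] {φ ψ : R →+* S}
    (h : Spec.map (CommRingCat.ofHom φ) = Spec.map (CommRingCat.ofHom ψ)) : φ = ψ := by
  have := Spec.map_injective h
  exact congrArg CommRingCat.Hom.hom this

lemma Spec_map_ofHom_preimage {R S : Type u} [CommRing R] [CommRing S]
    (l : Spec (CommRingCat.of S) ⟶ Spec (CommRingCat.of R)) :
    Spec.map (CommRingCat.ofHom (Spec.preimage l).hom) = l := by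
  exact Spec.map_preimage l

/-- `Spec` of a ring map is formally étale (for the prelude's lifting definition) iff
the ring map is formally étale. -/
lemma FE_Spec_iff {R B : Type u} [CommRing R] [CommRing B] (φ : R →+* B) :
    MoreMor.IsFormallyEtaleHom (Spec.map (CommRingCat.ofHom φ)) ↔ φ.FormallyEtale := by
  let _ := φ.toAlgebra
  rw [RingHom.FormallyEtale, Algebra.FormallyEtale.iff_comp_bijective]
  have hφ : algebraMap R B = φ := RingHom.algebraMap_toAlgebra φ
  constructor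
  · intro H C _ _ J hJ
    -- the square attached to `g`
    have sq : ∀ g : B →ₐ[R] C ⧸ J,
        Spec.map (CommRingCat.ofHom (Ideal.Quotient.mk J)) ≫
          Spec.map (CommRingCat.ofHom (algebraMap R C)) =
        Spec.map (CommRingCat.ofHom g.toRingHom) ≫ Spec.map (CommRingCat.ofHom φ) := by
      intro g
      rw [Spec_map_ofHom_comp, Spec_map_ofHom_comp]
      congr 2
      ext r
      have := g.commutes r
      rw [hφ] at this
      simp only [RingHom.comp_apply]
      exact this.symm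
    -- a lift of schemes satisfying the conditions comes from an algebra lift
    have key : ∀ (g : B →ₐ[R] C ⧸ J) (ψ : B →ₐ[R] C),
        (Ideal.Quotient.mkₐ R J).comp ψ = g →
        Spec.map (CommRingCat.ofHom (Ideal.Quotient.mk J)) ≫
            Spec.map (CommRingCat.ofHom ψ.toRingHom) = Spec.map (CommRingCat.ofHom g.toRingHom) ∧
          Spec.map (CommRingCat.ofHom ψ.toRingHom) ≫ Spec.map (CommRingCat.ofHom φ) =
            Spec.map (CommRingCat.ofHom (algebraMap R C)) := by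
      intro g ψ hψ
      constructor
      · rw [Spec_map_ofHom_comp]
        congr 2
        ext x
        exact congrArg (fun h : B →ₐ[R] C ⧸ J => h x) hψ
      · rw [Spec_map_ofHom_comp]
        congr 2
        ext r
        have := ψ.commutes r
        rw [hφ] at this
        exact this
    constructor
    · intro ψ₁ ψ₂ h
      obtain ⟨l, -, hu⟩ := H C J hJ _ _ (sq ((Ideal.Quotient.mkₐ R J).comp ψ₁))
      have e1 := hu _ (key _ ψ₁ rfl)
      have e2 := hu _ (key _ ψ₂ h.symm)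
      have := Spec_map_ofHom_inj (e1.trans e2.symm)
      exact AlgHom.ext (fun x => RingHom.congr_fun this x)
    · intro g
      obtain ⟨l, ⟨h1, h2⟩, -⟩ := H C J hJ _ _ (sq g)
      rw [← Spec_map_ofHom_preimage l, Spec_map_ofHom_comp] at h1 h2
      have h1' := Spec_map_ofHom_inj h1
      have h2' := Spec_map_ofHom_inj h2
      refine ⟨{ (Spec.preimage l).hom with
        commutes' := fun r => by
          have := RingHom.congr_fun h2' r
          rw [hφ]
          exact this }, ?_⟩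
      exact AlgHom.ext (fun x => RingHom.congr_fun h1' x)
  · intro H A _ I hI a b w
    let β : R →+* A := (Spec.preimage b).hom
    let _ : Algebra R A := β.toAlgebra
    have hβ : algebraMap R A = β := RingHom.algebraMap_toAlgebra β
    let α : B →+* A ⧸ I := (Spec.preimage a).hom
    have hb : Spec.map (CommRingCat.ofHom β) = b := Spec_map_ofHom_preimage b
    have ha : Spec.map (CommRingCat.ofHom α) = a := Spec_map_ofHom_preimage a
    have hαβ : α.comp φ = (Ideal.Quotient.mk I).comp β := by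
      rw [← hb, ← ha, Spec_map_ofHom_comp, Spec_map_ofHom_comp] at w
      exact (Spec_map_ofHom_inj w).symm
    let α' : B →ₐ[R] A ⧸ I :=
      { α with
        commutes' := fun r => by
          have := RingHom.congr_fun hαβ r
          rw [hφ]
          exact this }
    obtain ⟨ψ, hψ⟩ := (H I hI).2 α'
    have hψ1 : (Ideal.Quotient.mk I).comp ψ.toRingHom = α := by
      ext x
      exact congrArg (fun h : B →ₐ[R] A ⧸ I => h x) hψ
    have hψ2 : ψ.toRingHom.comp φ = β := by
      ext r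
      have := ψ.commutes r
      rw [hφ, hβ] at this
      exact this
    refine ⟨Spec.map (CommRingCat.ofHom ψ.toRingHom), ⟨?_, ?_⟩, ?_⟩
    · rw [Spec_map_ofHom_comp, hψ1, ha]
    · rw [Spec_map_ofHom_comp, hψ2, hb]
    · rintro l' ⟨h1, h2⟩
      rw [← Spec_map_ofHom_preimage l', ← ha, Spec_map_ofHom_comp] at h1
      rw [← Spec_map_ofHom_preimage l', ← hb, Spec_map_ofHom_comp] at h2
      have h1' := Spec_map_ofHom_inj h1
      have h2' := Spec_map_ofHom_inj h2
      let ψ' : B →ₐ[R] A :=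
        { (Spec.preimage l').hom with
          commutes' := fun r => by
            have := RingHom.congr_fun h2' r
            rw [hφ, hβ]
            exact this }
      have : ψ' = ψ := by
        apply (H I hI).1
        rw [hψ]
        exact AlgHom.ext (fun x => RingHom.congr_fun h1' x)
      rw [← Spec_map_ofHom_preimage l']
      congr 2
      exact congrArg (fun h : B →ₐ[R] A => h.toRingHom) this

end SpecCase

section Glue

lemma isOpenCover_of_isBasis {T' : Scheme.{u}} {ℬ : Set T'.Opens}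
    (hℬ : TopologicalSpace.Opens.IsBasis ℬ) :
    TopologicalSpace.IsOpenCover (fun W : ℬ => W.1) := by
  rw [TopologicalSpace.IsOpenCover, eq_top_iff]
  intro x _
  obtain ⟨W, hW, hxW, -⟩ := TopologicalSpace.Opens.isBasis_iff_nbhd.mp hℬ
    (show x ∈ (⊤ : T'.Opens) from trivial)
  exact TopologicalSpace.Opens.mem_iSup.mpr ⟨⟨W, hW⟩, hxW⟩

/-- The open cover given by a basis of opens. -/
@[simps I₀ X f]
def basisCover (T' : Scheme.{u}) (ℬ : Set T'.Opens) (hℬ : TopologicalSpace.Opens.IsBasis ℬ) :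
    T'.OpenCover where
  I₀ := ℬ
  X W := W.1
  f W := W.1.ι
  mem₀ := by
    rw [Scheme.presieve₀_mem_precoverage_iff]
    refine ⟨fun x ↦ ?_, inferInstance⟩
    obtain ⟨W, hW, hxW, -⟩ := TopologicalSpace.Opens.isBasis_iff_nbhd.mp hℬ
      (show x ∈ (⊤ : T'.Opens) from trivial)
    use ⟨W, hW⟩
    simpa using hxW

instance (T' : Scheme.{u}) (ℬ : Set T'.Opens) (hℬ : TopologicalSpace.Opens.IsBasis ℬ) :
    Preorder (basisCover T' ℬ hℬ).I₀ := inferInstanceAs <| Preorder ℬ

set_option backward.isDefEq.respectTransparency.types false in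
set_option backward.defeqAttrib.useBackward true in
noncomputable instance (T' : Scheme.{u}) (ℬ : Set T'.Opens)
    (hℬ : TopologicalSpace.Opens.IsBasis ℬ) :
    Scheme.Cover.LocallyDirected (basisCover T' ℬ hℬ) :=
  .ofIsBasisOpensRange (by intros; simp; rfl) <| by
    convert! hℬ
    simp

set_option backward.isDefEq.respectTransparency.types false in
lemma basisCover_trans (T' : Scheme.{u}) (ℬ : Set T'.Opens)
    (hℬ : TopologicalSpace.Opens.IsBasis ℬ) {U V : ℬ} (hUV : U ≤ V) :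
    Scheme.Cover.trans (basisCover T' ℬ hℬ) (homOfLE hUV) = T'.homOfLE hUV := rfl

/-- Gluing unique lifts along a basis of opens of the target of the thickening. -/
lemma glue_basis {X Y T T' : Scheme.{u}} (f : X ⟶ Y) (t : T ⟶ T') (a : T ⟶ X) (b : T' ⟶ Y)
    (ℬ : Set T'.Opens) (hℬ : TopologicalSpace.Opens.IsBasis ℬ)
    (H : ∀ W ∈ ℬ, ∃! l : W.toScheme ⟶ X,
      (t ∣_ W) ≫ l = (t ⁻¹ᵁ W).ι ≫ a ∧ l ≫ f = W.ι ≫ b) :
    ∃! l : T' ⟶ X, t ≫ l = a ∧ l ≫ f = b := by
  let 𝒰 : T'.OpenCover := basisCover T' ℬ hℬ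
  choose g hg using fun W : ℬ => (H W.1 W.2).exists
  have huniq : ∀ (W : ℬ) (l : W.1.toScheme ⟶ X),
      ((t ∣_ W.1) ≫ l = (t ⁻¹ᵁ W.1).ι ≫ a ∧ l ≫ f = W.1.ι ≫ b) → l = g W :=
    fun W l hl => (H W.1 W.2).unique hl (hg W)
  have hcompat : ∀ (W₁ W₂ : ℬ) (h : W₁.1 ≤ W₂.1), T'.homOfLE h ≫ g W₂ = g W₁ := by
    intro W₁ W₂ h
    apply huniq
    constructor
    · have h1 : (t ∣_ W₁.1) ≫ T'.homOfLE h =
          T.homOfLE (show t ⁻¹ᵁ W₁.1 ≤ t ⁻¹ᵁ W₂.1 from fun x hx => h hx) ≫ (t ∣_ W₂.1) := by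
        rw [← Scheme.Hom.resLE_eq_morphismRestrict, ← Scheme.Hom.resLE_eq_morphismRestrict,
          Scheme.Hom.resLE_map, Scheme.Hom.map_resLE]
      rw [← Category.assoc, h1, Category.assoc, (hg W₂).1, Scheme.homOfLE_ι_assoc]
    · rw [Category.assoc, (hg W₂).2, Scheme.homOfLE_ι_assoc]
  let l : T' ⟶ X := 𝒰.glueMorphismsOfLocallyDirected g (by
    intro i j hij
    have : hij = homOfLE (leOfHom hij) := Subsingleton.elim _ _
    rw [this, basisCover_trans]
    exact hcompat i j (leOfHom hij))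
  have hl : ∀ W : ℬ, W.1.ι ≫ l = g W := fun W =>
    𝒰.map_glueMorphismsOfLocallyDirected g _ W
  have hext : ∀ l₁ l₂ : T' ⟶ X, (∀ W : ℬ, W.1.ι ≫ l₁ = W.1.ι ≫ l₂) → l₁ = l₂ :=
    fun l₁ l₂ h => 𝒰.hom_ext _ _ h
  refine ⟨l, ⟨?_, ?_⟩, ?_⟩
  · apply (𝒰.pullback₁ t).hom_ext
    intro W
    show pullback.fst t W.1.ι ≫ t ≫ l = pullback.fst t W.1.ι ≫ a
    rw [← pullbackRestrictIsoRestrict_hom_ι, Category.assoc, Category.assoc, ← (hg W).1,
      ← morphismRestrict_ι_assoc, hl]
  · apply 𝒰.hom_ext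
    intro W
    show W.1.ι ≫ l ≫ f = W.1.ι ≫ b
    rw [← Category.assoc, hl, (hg W).2]
  · rintro l' ⟨hl1, hl2⟩
    apply hext
    intro W
    rw [hl]
    apply huniq
    constructor
    · rw [morphismRestrict_ι_assoc, hl1]
    · rw [Category.assoc, hl2]

end Glue

section LocalSource

/-- Unique lifting against first-order thickenings is local on the source. -/
lemma FE'_of_local_source {X Y : Scheme.{u}} (f : X ⟶ Y)
    (H : ∀ x : X, ∃ (U : Scheme.{u}) (j : U ⟶ X) (_ : IsOpenImmersion j),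
      x ∈ Set.range j.base ∧ FE' (j ≫ f)) :
    FE' f := by
  intro T T' t ht a b w
  have hcl : IsClosedImmersion t := ht.1.1
  have hsurj : Function.Surjective t.base := ht.1.2.surj
  have hhomeo : IsHomeomorph t.base :=
    isHomeomorph_iff_isEmbedding_surjective.mpr ⟨t.isClosedEmbedding.isEmbedding, hsurj⟩
  let ℬ : Set T'.Opens := {W | ∃ (U : Scheme.{u}) (j : U ⟶ X) (_ : IsOpenImmersion j),
    FE' (j ≫ f) ∧ ∀ x : T, t.base x ∈ W → a.base x ∈ Set.range j.base}
  have hℬ : TopologicalSpace.Opens.IsBasis ℬ := by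
    rw [TopologicalSpace.Opens.isBasis_iff_nbhd]
    intro W₀ y hy
    obtain ⟨x, rfl⟩ := hsurj y
    obtain ⟨U, j, hj, hxU, hFE⟩ := H (a.base x)
    let O : T.Opens := a ⁻¹ᵁ j.opensRange
    let W₁ : T'.Opens := ⟨t.base '' O, hhomeo.isOpenMap _ O.isOpen⟩
    refine ⟨W₀ ⊓ W₁, ⟨U, j, hj, hFE, ?_⟩, ⟨hy, ⟨x, hxU, rfl⟩⟩, inf_le_left⟩
    rintro x' ⟨-, ⟨x'', hx'', hx'x''⟩⟩
    have : x'' = x' := hhomeo.injective hx'x''
    subst this
    exact hx''
  refine glue_basis f t a b ℬ hℬ ?_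
  rintro W ⟨U, j, hj, hFE, hW⟩
  have htW : MoreMor.IsFirstOrderThickening (t ∣_ W) := Groth.Agent.S1516.restrict t ht W
  have hsurjW : Function.Surjective (t ∣_ W).base := htW.1.2.surj
  -- the restricted top map factors through `j`
  have hrange : Set.range ((t ⁻¹ᵁ W).ι ≫ a).base ⊆ Set.range j.base := by
    rintro _ ⟨x, rfl⟩
    exact hW x.1 x.2
  let a' : (t ⁻¹ᵁ W).toScheme ⟶ U := IsOpenImmersion.lift j ((t ⁻¹ᵁ W).ι ≫ a) hrange
  have ha' : a' ≫ j = (t ⁻¹ᵁ W).ι ≫ a := IsOpenImmersion.lift_fac _ _ _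
  have sq : (t ∣_ W) ≫ W.ι ≫ b = a' ≫ j ≫ f := by
    rw [morphismRestrict_ι_assoc, w, ← Category.assoc, ← ha', Category.assoc]
  obtain ⟨l', ⟨h1, h2⟩, hu⟩ := hFE (t ∣_ W) htW a' (W.ι ≫ b) sq
  refine ⟨l' ≫ j, ⟨by rw [← Category.assoc, h1, ha'], by rw [Category.assoc, h2]⟩, ?_⟩
  rintro l₁ ⟨h3, h4⟩
  have hrange₁ : Set.range l₁.base ⊆ Set.range j.base := by
    rintro _ ⟨y, rfl⟩
    obtain ⟨x, rfl⟩ := hsurjW y
    have := congrArg (fun h => h.base x) h3
    simp only [Scheme.Hom.comp_base, TopCat.hom_comp, ContinuousMap.comp_apply] at this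
    rw [this]
    exact hW x.1 x.2
  have h5 : IsOpenImmersion.lift j l₁ hrange₁ = l' := by
    apply hu
    constructor
    · rw [← cancel_mono j, Category.assoc, IsOpenImmersion.lift_fac, h3, ha']
    · rw [← Category.assoc, IsOpenImmersion.lift_fac, h4]
  rw [← h5, IsOpenImmersion.lift_fac]

end LocalSource

end Groth.Agent.Lib.Helper5.FormallyEtale
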