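import Groth.Agent.Lib.Helper5.AlgSpInf
import Groth.Agent.Lib.Helper5.FormallyEtale
import Groth.Agent.S1489
import Groth.Agent.S10510

/-!
# Formal lifting properties II (helper5)

* transport of lifting properties along isomorphisms of arrows,
* affine first order thickenings in `Over S` are of the form `Thk.j`,
* the dictionary `h_g` formally unramified / étale / smooth ↔ `g.left` is,
* representable étale maps are formally étale,
* descent of formal unramifiedness along a surjective étale map on the source.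
-/

set_option autoImplicit false
universe u

open CategoryTheory CategoryTheory.Limits AlgebraicGeometry Opposite

namespace Groth.Agent.Lib.helper5

section Abstract

variable {C : Type*} [Category C] {T T' P P' : C} {j : T ⟶ T'} {j' : P ⟶ P'} {F G : C} {f : F ⟶ G}

theorem LiftUniq.of_arrow_iso (e1 : T ≅ P) (e2 : T' ≅ P') (sq : e1.hom ≫ j' = j ≫ e2.hom)
    (h : LiftUniq j' f) : LiftUniq j f := by
  intro l l' h1 h2
  have sq' : j' ≫ e2.inv = e1.inv ≫ j := by
    rw [Iso.eq_inv_comp, ← Category.assoc, sq, Category.assoc, Iso.hom_inv_id, Category.comp_id]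
  have := h (e2.inv ≫ l) (e2.inv ≫ l') (by
    rw [← Category.assoc, ← Category.assoc, sq', Category.assoc, Category.assoc, h1])
    (by rw [Category.assoc, Category.assoc, h2])
  simpa using congrArg (fun k => e2.hom ≫ k) this

theorem LiftExists.of_arrow_iso (e1 : T ≅ P) (e2 : T' ≅ P') (sq : e1.hom ≫ j' = j ≫ e2.hom)
    (h : LiftExists j' f) : LiftExists j f := by
  intro top bot comm
  have sq' : j' ≫ e2.inv = e1.inv ≫ j := by
    rw [Iso.eq_inv_comp, ← Category.assoc, sq, Category.assoc, Iso.hom_inv_id, Category.comp_id]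
  obtain ⟨l, hl1, hl2⟩ := h (e1.inv ≫ top) (e2.inv ≫ bot) (by
    rw [Category.assoc, comm, ← Category.assoc, ← Category.assoc, sq'])
  refine ⟨e2.hom ≫ l, ?_, ?_⟩
  · rw [← Category.assoc, ← sq, Category.assoc, hl1, Iso.hom_inv_id_assoc]
  · rw [Category.assoc, hl2, Iso.hom_inv_id_assoc]

end Abstract

open AlgSp

variable {S : Scheme.{u}}

/-- An affine first order thickening in `Over S` is isomorphic to `D.j` for thickening data `D`. -/
theorem exists_thk_of_affine {W W' : Over S} (t : W ⟶ W') (hW' : IsAffine W'.left)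
    (ht : MoreMor.IsFirstOrderThickening t.left) :
    ∃ (D : Thk S) (e1 : W ≅ D.ptT) (e2 : W' ≅ D.ptT'), e1.hom ≫ D.j = t ≫ e2.hom := by
  have : IsClosedImmersion t.left := ht.1.1
  obtain ⟨hT, hsurj⟩ := IsClosedImmersion.isAffine_surjective_of_isAffine t.left
  let φ : Γ(W'.left, ⊤) →+* Γ(W.left, ⊤) := t.left.appTop.hom
  let I : Ideal Γ(W'.left, ⊤) := RingHom.ker φ
  have hI : I ^ 2 = ⊥ := by
    have h1 : t.left.ker = Scheme.IdealSheafData.equivOfIsAffine.symm I := by
      rw [Scheme.IdealSheafData.equivOfIsAffine_symm_apply]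
      exact Scheme.ker_of_isAffine t.left
    have h2 := ht.2
    rw [h1, ← map_mul] at h2
    have h3 : I * I = 0 := by
      apply Scheme.IdealSheafData.equivOfIsAffine.symm.injective
      exact h2.trans (map_zero Scheme.IdealSheafData.equivOfIsAffine.symm).symm
    rw [pow_two, h3]; rfl
  let ψ : (Γ(W'.left, ⊤) ⧸ I) ≃+* Γ(W.left, ⊤) := RingHom.quotientKerEquivOfSurjective hsurj
  have hψ : ψ.toRingHom.comp (Ideal.Quotient.mk I) = φ := by
    ext x; rfl
  let e1 : W.left ≅ Spec (CommRingCat.of (Γ(W'.left, ⊤) ⧸ I)) :=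
    W.left.isoSpec ≪≫ Scheme.Spec.mapIso ψ.toCommRingCatIso.op
  let e2 : W'.left ≅ Spec (CommRingCat.of Γ(W'.left, ⊤)) := W'.left.isoSpec
  have h4 : Spec.map (CommRingCat.ofHom ψ.toRingHom) ≫
      Spec.map (CommRingCat.ofHom (Ideal.Quotient.mk I)) = Spec.map t.left.appTop := by
    rw [← Spec.map_comp, ← CommRingCat.ofHom_comp, hψ]; rfl
  have h5 : e1.hom ≫ Spec.map (CommRingCat.ofHom (Ideal.Quotient.mk I)) = t.left ≫ e2.hom := by
    show (W.left.isoSpec.hom ≫ Spec.map (CommRingCat.ofHom ψ.toRingHom)) ≫ _ =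
      t.left ≫ W'.left.isoSpec.hom
    rw [Category.assoc, h4, Scheme.isoSpec_hom_naturality]
  let D : Thk S := ⟨Γ(W'.left, ⊤), I, hI, e2.inv ≫ W'.hom⟩
  refine ⟨D, Over.isoMk e1 ?_, Over.isoMk e2 ?_, ?_⟩
  · show e1.hom ≫ Spec.map (CommRingCat.ofHom (Ideal.Quotient.mk I)) ≫ e2.inv ≫ W'.hom = W.hom
    rw [← Category.assoc, h5, Category.assoc, Iso.hom_inv_id_assoc, Over.w]
  · show e2.hom ≫ e2.inv ≫ W'.hom = W'.hom
    rw [Iso.hom_inv_id_assoc]
  · ext
    exact h5

theorem liftUniq_of_affine {F G : Sp S} {f : F ⟶ G} (hf : IsFormallyUnramifiedMor f)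
    {W W' : Over S} (t : W ⟶ W') (hW' : IsAffine W'.left)
    (ht : MoreMor.IsFirstOrderThickening t.left) : LiftUniq ((yon S).map t) f := by
  obtain ⟨D, e1, e2, sq⟩ := exists_thk_of_affine t hW' ht
  refine LiftUniq.of_arrow_iso ((yon S).mapIso e1) ((yon S).mapIso e2) ?_
    ((isFormallyUnramifiedMor_iff f).1 hf D)
  simp only [Functor.mapIso_hom, ← Functor.map_comp, sq]

theorem liftExists_of_affine {F G : Sp S} {f : F ⟶ G} (hf : IsFormallySmoothMor f)
    {W W' : Over S} (t : W ⟶ W') (hW' : IsAffine W'.left)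
    (ht : MoreMor.IsFirstOrderThickening t.left) : LiftExists ((yon S).map t) f := by
  obtain ⟨D, e1, e2, sq⟩ := exists_thk_of_affine t hW' ht
  refine LiftExists.of_arrow_iso ((yon S).mapIso e1) ((yon S).mapIso e2) ?_
    ((isFormallySmoothMor_iff f).1 hf D)
  simp only [Functor.mapIso_hom, ← Functor.map_comp, sq]

theorem Thk.isFirstOrderThickening (D : Thk S) : MoreMor.IsFirstOrderThickening D.j.left :=
  Groth.Agent.Lib.Helper5.FormallyEtale.thickening_Spec D.A D.I D.sq_zero

/-! ## Dictionary between `Over S` and schemes -/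

section Dict

variable {U V : Over S} (h : U ⟶ V)

theorem liftExists_yon_map_of_left {W W' : Over S} (t : W ⟶ W')
    (H : LiftExists t.left h.left) : LiftExists ((yon S).map t) ((yon S).map h) := by
  intro top bot comm
  obtain ⟨σ, rfl⟩ := (yon S).map_surjective top
  obtain ⟨β, rfl⟩ := (yon S).map_surjective bot
  rw [← Functor.map_comp, ← Functor.map_comp] at comm
  have e := (yon S).map_injective comm
  obtain ⟨l, hl1, hl2⟩ := H σ.left β.left (by rw [← Over.comp_left, e, Over.comp_left])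
  refine ⟨(yon S).map (Over.homMk l ?_), ?_, ?_⟩
  · rw [← Over.w h, ← Category.assoc, hl2, Over.w]
  · rw [← Functor.map_comp]
    congr 1
    ext
    simpa using hl1
  · rw [← Functor.map_comp]
    congr 1
    ext
    simpa using hl2

theorem liftUniq_yon_map_of_left {W W' : Over S} (t : W ⟶ W')
    (H : LiftUniq t.left h.left) : LiftUniq ((yon S).map t) ((yon S).map h) := by
  intro l l' h1 h2
  obtain ⟨σ, rfl⟩ := (yon S).map_surjective l
  obtain ⟨σ', rfl⟩ := (yon S).map_surjective l'
  rw [← Functor.map_comp, ← Functor.map_comp] at h1 h2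
  have e1 := (yon S).map_injective h1
  have e2 := (yon S).map_injective h2
  congr 1
  ext
  exact H σ.left σ'.left (by rw [← Over.comp_left, e1, Over.comp_left])
    (by rw [← Over.comp_left, e2, Over.comp_left])

theorem liftExists_left_of_yon_map {T T' : Scheme.{u}} (τ : T ⟶ T')
    (H : ∀ str : T' ⟶ S, LiftExists
      ((yon S).map (Over.homMk τ rfl : Over.mk (τ ≫ str) ⟶ Over.mk str)) ((yon S).map h)) :
    LiftExists τ h.left := by
  intro a b comm
  have hw : a ≫ U.hom = τ ≫ b ≫ V.hom := by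
    rw [← Over.w h, ← Category.assoc, comm, Category.assoc]
  obtain ⟨l, hl1, hl2⟩ := H (b ≫ V.hom)
    ((yon S).map (Over.homMk a hw : Over.mk (τ ≫ b ≫ V.hom) ⟶ U))
    ((yon S).map (Over.homMk b rfl : Over.mk (b ≫ V.hom) ⟶ V)) (by
      rw [← Functor.map_comp, ← Functor.map_comp]
      congr 1
      ext
      simpa using comm)
  obtain ⟨lam, rfl⟩ := (yon S).map_surjective l
  rw [← Functor.map_comp] at hl1 hl2
  have e1 := congrArg CommaMorphism.left ((yon S).map_injective hl1)
  have e2 := congrArg CommaMorphism.left ((yon S).map_injective hl2)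
  exact ⟨lam.left, by simpa using e1, by simpa using e2⟩

theorem liftUniq_left_of_yon_map {T T' : Scheme.{u}} (τ : T ⟶ T')
    (H : ∀ str : T' ⟶ S, LiftUniq
      ((yon S).map (Over.homMk τ rfl : Over.mk (τ ≫ str) ⟶ Over.mk str)) ((yon S).map h)) :
    LiftUniq τ h.left := by
  intro l l' h1 h2
  have hw : l ≫ U.hom = l' ≫ U.hom := by
    rw [← Over.w h, ← Category.assoc, h2, Category.assoc]
  have := H (l ≫ U.hom) ((yon S).map (Over.homMk l rfl : Over.mk (l ≫ U.hom) ⟶ U))
    ((yon S).map (Over.homMk l' hw.symm : Over.mk (l ≫ U.hom) ⟶ U)) (by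
      rw [← Functor.map_comp, ← Functor.map_comp]
      congr 1
      ext
      simpa using h1) (by
      rw [← Functor.map_comp, ← Functor.map_comp]
      congr 1
      ext
      simpa using h2)
  simpa using congrArg CommaMorphism.left ((yon S).map_injective this)

theorem isFormallySmoothHom_iff {X Y : Scheme.{u}} (g : X ⟶ Y) :
    MoreMor.IsFormallySmoothHom g ↔ ∀ (A : Type u) [CommRing A] (I : Ideal A), I ^ 2 = ⊥ →
      LiftExists (Spec.map (CommRingCat.ofHom (Ideal.Quotient.mk I))) g := by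
  constructor
  · intro H A _ I hI top bot comm
    exact H A I hI top bot comm.symm
  · intro H A _ I hI a b w
    exact H A I hI a b w.symm

theorem isFormallyEtaleHom_iff {X Y : Scheme.{u}} (g : X ⟶ Y) :
    MoreMor.IsFormallyEtaleHom g ↔ ∀ (A : Type u) [CommRing A] (I : Ideal A), I ^ 2 = ⊥ →
      LiftExists (Spec.map (CommRingCat.ofHom (Ideal.Quotient.mk I))) g ∧
      LiftUniq (Spec.map (CommRingCat.ofHom (Ideal.Quotient.mk I))) g := by
  constructor
  · intro H A _ I hI
    refine ⟨fun top bot comm => (H A I hI top bot comm.symm).exists, fun l l' h1 h2 => ?_⟩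
    exact (H A I hI _ (l ≫ g) (Category.assoc _ _ _).symm).unique ⟨rfl, rfl⟩ ⟨h1.symm, h2.symm⟩
  · intro H A _ I hI a b w
    obtain ⟨l, hl1, hl2⟩ := (H A I hI).1 a b w.symm
    exact ⟨l, ⟨hl1, hl2⟩, fun l' hl' => (H A I hI).2 l' l (hl'.1.trans hl1.symm)
      (hl'.2.trans hl2.symm)⟩

theorem isFormallySmoothMor_yon_map_iff :
    IsFormallySmoothMor ((yon S).map h) ↔ MoreMor.IsFormallySmoothHom h.left := by
  rw [isFormallySmoothMor_iff, isFormallySmoothHom_iff]
  constructor
  · intro H A _ I hI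
    exact liftExists_left_of_yon_map h _ fun str => H ⟨A, I, hI, str⟩
  · intro H D
    exact liftExists_yon_map_of_left h _ (H D.A D.I D.sq_zero)

theorem isFormallyEtaleMor_yon_map_iff :
    IsFormallyEtaleMor ((yon S).map h) ↔ MoreMor.IsFormallyEtaleHom h.left := by
  rw [isFormallyEtaleMor_iff, isFormallySmoothMor_iff, isFormallyUnramifiedMor_iff,
    isFormallyEtaleHom_iff]
  constructor
  · intro H A _ I hI
    exact ⟨liftExists_left_of_yon_map h _ fun str => H.1 ⟨A, I, hI, str⟩,
      liftUniq_left_of_yon_map h _ fun str => H.2 ⟨A, I, hI, str⟩⟩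
  · intro H
    exact ⟨fun D => liftExists_yon_map_of_left h _ (H D.A D.I D.sq_zero).1,
      fun D => liftUniq_yon_map_of_left h _ (H D.A D.I D.sq_zero).2⟩

/-- Mathlib's formally unramified morphisms have unique lifts along first order thickenings. -/
theorem liftUniq_of_formallyUnramified {X Y : Scheme.{u}} (g : X ⟶ Y) [FormallyUnramified g]
    {T T' : Scheme.{u}} (τ : T ⟶ T') (hτ : MoreMor.IsFirstOrderThickening τ) : LiftUniq τ g := by
  intro l l' h1 h2
  have : IsClosedImmersion τ := hτ.1.1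
  refine FormallyUnramified.hom_ext τ ⟨2, ?_⟩ g h1 h2
  rw [pow_two, hτ.2]
  rfl

theorem formallyUnramified_of_liftUniq {X Y : Scheme.{u}} (g : X ⟶ Y)
    (H : ∀ (A : Type u) [CommRing A] (I : Ideal A), I ^ 2 = ⊥ →
      LiftUniq (Spec.map (CommRingCat.ofHom (Ideal.Quotient.mk I))) g) : FormallyUnramified g := by
  refine FormallyUnramified.of_hom_ext g ?_
  intro R R' φ hφ hker g₁ g₂ e1 e2
  let ψ : (R ⧸ RingHom.ker φ.hom) ≃+* R' := RingHom.quotientKerEquivOfSurjective hφ
  have hψ : φ = CommRingCat.ofHom (Ideal.Quotient.mk (RingHom.ker φ.hom)) ≫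
      CommRingCat.ofHom ψ.toRingHom := by
    ext x; rfl
  have hiso : IsIso (Spec.map (CommRingCat.ofHom ψ.toRingHom)) := by
    have : IsIso (CommRingCat.ofHom ψ.toRingHom) :=
      (ψ.toCommRingCatIso).isIso_hom
    infer_instance
  refine H R (RingHom.ker φ.hom) hker g₁ g₂ ?_ e2
  rw [hψ, Spec.map_comp, Category.assoc, Category.assoc] at e1
  exact (cancel_epi _).1 e1

theorem isFormallyUnramifiedMor_yon_map_iff :
    IsFormallyUnramifiedMor ((yon S).map h) ↔ FormallyUnramified h.left := by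
  rw [isFormallyUnramifiedMor_iff]
  constructor
  · intro H
    refine formallyUnramified_of_liftUniq _ fun A _ I hI => ?_
    exact liftUniq_left_of_yon_map h _ fun str => H ⟨A, I, hI, str⟩
  · intro H D
    exact liftUniq_yon_map_of_left h _ (liftUniq_of_formallyUnramified _ _ D.isFirstOrderThickening)

end Dict

/-! ## Representable morphisms -/

section Rep

variable {F G : Sp S} {a : F ⟶ G}

theorem liftUniq_of_rep (ha : Representable a) {W W' : Over S} (t : W ⟶ W')
    (H : ∀ ⦃V : Over S⦄ (g : (yon S).obj W' ⟶ G) (fst : (yon S).obj V ⟶ F) (snd : V ⟶ W'),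
      IsPullback fst ((yon S).map snd) a g → LiftUniq t.left snd.left) :
    LiftUniq ((yon S).map t) a := by
  intro l l' h1 h2
  obtain ⟨V, snd, fst, sq⟩ := ha (l ≫ a)
  obtain ⟨σ, hσ1, hσ2⟩ := sq.exists_lift l (𝟙 _) (by simp)
  obtain ⟨σ', hσ'1, hσ'2⟩ := sq.exists_lift l' (𝟙 _) (by simp [h2])
  obtain ⟨s, rfl⟩ := (yon S).map_surjective σ
  obtain ⟨s', rfl⟩ := (yon S).map_surjective σ'
  have e1 : t ≫ s = t ≫ s' := by
    apply (yon S).map_injective
    rw [Functor.map_comp, Functor.map_comp]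
    apply sq.hom_ext
    · rw [Category.assoc, Category.assoc, hσ1, hσ'1, h1]
    · rw [Category.assoc, Category.assoc, hσ2, hσ'2]
  have e2 : s ≫ snd = 𝟙 _ := by
    apply (yon S).map_injective
    rw [Functor.map_comp, hσ2, CategoryTheory.Functor.map_id]
  have e2' : s' ≫ snd = 𝟙 _ := by
    apply (yon S).map_injective
    rw [Functor.map_comp, hσ'2, CategoryTheory.Functor.map_id]
  have e3 : s = s' := by
    ext
    refine H _ fst snd sq s.left s'.left ?_ ?_
    · rw [← Over.comp_left, e1, Over.comp_left]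
    · rw [← Over.comp_left, ← Over.comp_left, e2, e2']
  rw [← hσ1, ← hσ'1, e3]

theorem liftExists_of_rep (ha : Representable a) {W W' : Over S} (t : W ⟶ W')
    (H : ∀ ⦃V : Over S⦄ (g : (yon S).obj W' ⟶ G) (fst : (yon S).obj V ⟶ F) (snd : V ⟶ W'),
      IsPullback fst ((yon S).map snd) a g → LiftExists t.left snd.left) :
    LiftExists ((yon S).map t) a := by
  intro top bot comm
  obtain ⟨V, snd, fst, sq⟩ := ha bot
  obtain ⟨τ, hτ1, hτ2⟩ := sq.exists_lift top ((yon S).map t) comm
  obtain ⟨r, rfl⟩ := (yon S).map_surjective τ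
  have e1 : r ≫ snd = t := by
    apply (yon S).map_injective
    rw [Functor.map_comp, hτ2]
  obtain ⟨l, hl1, hl2⟩ := H bot fst snd sq r.left (𝟙 _) (by
    rw [Category.comp_id, ← Over.comp_left, e1])
  have hl : l ≫ V.hom = W'.hom := by
    rw [← Over.w snd, ← Category.assoc, hl2, Category.id_comp]
  refine ⟨(yon S).map (Over.homMk l hl) ≫ fst, ?_, ?_⟩
  · rw [← Category.assoc, ← Functor.map_comp]
    have : t ≫ Over.homMk l hl = r := by
      ext
      simpa using hl1
    rw [this, hτ1]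
  · rw [Category.assoc, sq.w, ← Category.assoc, ← Functor.map_comp]
    have : Over.homMk l hl ≫ snd = 𝟙 _ := by
      ext
      simpa using hl2
    rw [this, CategoryTheory.Functor.map_id, Category.id_comp]

/-- Étale morphisms of schemes lift uniquely along first order thickenings. -/
theorem lift_of_etale {X Y : Scheme.{u}} (g : X ⟶ Y) [Etale g] {T T' : Scheme.{u}} (τ : T ⟶ T')
    (hτ : MoreMor.IsFirstOrderThickening τ) : LiftExists τ g ∧ LiftUniq τ g := by
  have hE : MoreMor.IsFormallyEtaleHom g := ((Groth.Agent.S1489.result g).1 inferInstance).2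
  have hE' : Groth.Agent.Lib.Helper5.FormallyEtale.FE' g :=
    Groth.Agent.Lib.Helper5.FormallyEtale.FE'.of_FE hE
  refine ⟨fun top bot comm => (hE' τ hτ top bot comm.symm).exists, fun l l' h1 h2 => ?_⟩
  exact (hE' τ hτ _ (l ≫ g) (Category.assoc _ _ _).symm).unique ⟨rfl, rfl⟩ ⟨h1.symm, h2.symm⟩

/-- Representable étale morphisms lift uniquely along first order thickenings of schemes. -/
theorem lift_of_repWith_etale (ha : RepWith @Etale a) {W W' : Over S} (t : W ⟶ W')
    (ht : MoreMor.IsFirstOrderThickening t.left) :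
    LiftExists ((yon S).map t) a ∧ LiftUniq ((yon S).map t) a := by
  refine ⟨liftExists_of_rep ha.rep t fun V g fst snd sq => ?_,
    liftUniq_of_rep ha.rep t fun V g fst snd sq => ?_⟩
  · have : Etale snd.left := ha.2 g fst snd sq
    exact (lift_of_etale snd.left t.left ht).1
  · have : Etale snd.left := ha.2 g fst snd sq
    exact (lift_of_etale snd.left t.left ht).2

theorem isFormallyEtaleMor_of_repWith_etale (ha : RepWith @Etale a) : IsFormallyEtaleMor a := by
  rw [isFormallyEtaleMor_iff, isFormallySmoothMor_iff, isFormallyUnramifiedMor_iff]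
  exact ⟨fun D => (lift_of_repWith_etale ha D.j D.isFirstOrderThickening).1,
    fun D => (lift_of_repWith_etale ha D.j D.isFirstOrderThickening).2⟩

theorem isFormallyUnramifiedMor_of_repWith (ha : RepWith @FormallyUnramified a) :
    IsFormallyUnramifiedMor a := by
  rw [isFormallyUnramifiedMor_iff]
  intro D
  refine liftUniq_of_rep ha.rep D.j fun V g fst snd sq => ?_
  have : FormallyUnramified snd.left := ha.2 g fst snd sq
  exact liftUniq_of_formallyUnramified _ _ D.isFirstOrderThickening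

end Rep

/-! ## Separatedness of sheaves -/

section Sep

theorem hom_ext_yon {F G : Sp S} (l l' : F ⟶ G)
    (h : ∀ (T : Over S) (s : (yon S).obj T ⟶ F), s ≫ l = s ≫ l') : l = l' := by
  apply Sheaf.hom_ext
  apply NatTrans.ext
  funext T
  ext z
  induction T using Opposite.rec with | _ T => ?_
  have key := congrArg (AlgSp.J S).uliftYonedaEquiv (h T ((AlgSp.J S).uliftYonedaEquiv.symm z))
  rw [GrothendieckTopology.uliftYonedaEquiv_comp, GrothendieckTopology.uliftYonedaEquiv_comp,
    Equiv.apply_symm_apply] at key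
  exact key

theorem yon_hom_ext_of_cover {G : Sp S} {T : Over S} (m m' : (yon S).obj T ⟶ G) (R : Sieve T)
    (hR : R ∈ (AlgSp.J S) T)
    (h : ∀ ⦃T' : Over S⦄ (t : T' ⟶ T), R t → (yon S).map t ≫ m = (yon S).map t ≫ m') :
    m = m' := by
  apply (AlgSp.J S).uliftYonedaEquiv.injective
  have hsep : Presieve.IsSeparatedFor G.obj (R : Presieve T) :=
    (((isSheaf_iff_isSheaf_of_type _ _).1 G.property) R hR).isSeparatedFor
  refine hsep.ext ?_
  intro T' t ht
  rw [GrothendieckTopology.uliftYonedaEquiv_naturality,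
    GrothendieckTopology.uliftYonedaEquiv_naturality, h t ht]

/-- Two maps out of `h_T` agree if they agree on a jointly surjective flat lfp family. -/
theorem yon_hom_ext_of_family {G : Sp S} {T : Over S} (m m' : (yon S).obj T ⟶ G) {κ : Type u}
    (Tk : κ → Over S) (c : ∀ k, Tk k ⟶ T) (h1 : ∀ k, Flat (c k).left)
    (h2 : ∀ k, LocallyOfFinitePresentation (c k).left)
    (h3 : ∀ x : ↥T.left, ∃ k, x ∈ Set.range (c k).left)
    (h : ∀ k, (yon S).map (c k) ≫ m = (yon S).map (c k) ≫ m') : m = m' := by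
  refine yon_hom_ext_of_cover m m' _ (Groth.Agent.S10510.cover_mem_family Tk c h1 h2 h3) ?_
  rintro T' t ⟨Z, a, b, ⟨k⟩, rfl⟩
  rw [Functor.map_comp, Category.assoc, Category.assoc, h k]

end Sep

/-! ## Affine refinement of thickening data -/

theorem exists_thk_over (D : Thk S) {Z : Over S} (hZ : IsAffine Z.left) (c : Z ⟶ D.ptT') :
    ∃ (D' : Thk S) (e : D'.ptT' ≅ Z) (c₀ : D'.ptT ⟶ D.ptT), c₀ ≫ D.j = D'.j ≫ e.hom ≫ c := by
  let ε : Z.left ≅ Spec (CommRingCat.of Γ(Z.left, ⊤)) := Z.left.isoSpec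
  let φ : CommRingCat.of D.A ⟶ CommRingCat.of Γ(Z.left, ⊤) := Spec.preimage (ε.inv ≫ c.left)
  have hφ : Spec.map φ = ε.inv ≫ c.left := Spec.map_preimage _
  let J : Ideal Γ(Z.left, ⊤) := D.I.map φ.hom
  have hJ : J ^ 2 = ⊥ := by
    rw [← Ideal.map_pow, D.sq_zero, Ideal.map_bot]
  let D' : Thk S := ⟨Γ(Z.left, ⊤), J, hJ, ε.inv ≫ Z.hom⟩
  have hq : CommRingCat.ofHom (Ideal.Quotient.mk D.I) ≫
      CommRingCat.ofHom (Ideal.quotientMap J φ.hom Ideal.le_comap_map) =
      φ ≫ CommRingCat.ofHom (Ideal.Quotient.mk J) := by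
    ext x
    rfl
  have hq' : Spec.map (CommRingCat.ofHom (Ideal.quotientMap J φ.hom Ideal.le_comap_map)) ≫
      Spec.map (CommRingCat.ofHom (Ideal.Quotient.mk D.I)) =
      Spec.map (CommRingCat.ofHom (Ideal.Quotient.mk J)) ≫ Spec.map φ := by
    rw [← Spec.map_comp, ← Spec.map_comp, hq]
  refine ⟨D', Over.isoMk ε.symm (by simp [D']),
    Over.homMk (Spec.map (CommRingCat.ofHom (Ideal.quotientMap J φ.hom Ideal.le_comap_map))) ?_, ?_⟩
  · show _ ≫ Spec.map (CommRingCat.ofHom (Ideal.Quotient.mk D.I)) ≫ D.str =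
      Spec.map (CommRingCat.ofHom (Ideal.Quotient.mk J)) ≫ ε.inv ≫ Z.hom
    rw [← Category.assoc, hq', hφ, Category.assoc, Category.assoc]
    congr 2
    exact Over.w c
  · ext
    have := hq'
    rw [hφ] at this
    exact this

/-- Every morphism of algebraic spaces has a chart diagram with surjective étale charts. -/
theorem exists_chart_diagram {X Y : Sp S} (hX : IsAlgSpace X) (hY : IsAlgSpace Y) (f : X ⟶ Y) :
    ∃ (U V : Over S) (a : (yon S).obj U ⟶ X) (b : (yon S).obj V ⟶ Y) (h : U ⟶ V),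
      RepWith @Etale a ∧ RepWith @Surjective a ∧ RepWith @Etale b ∧ RepWith @Surjective b ∧
      a ≫ f = (yon S).map h ≫ b := by
  obtain ⟨V, b, hbe, hbs⟩ := hY.atlas
  obtain ⟨U₀, a₀, hae, has⟩ := hX.atlas
  obtain ⟨U, snd, fst, sq⟩ := hbe.rep (a₀ ≫ f)
  obtain ⟨h, rfl⟩ := (yon S).map_surjective fst
  have h1 : RepWith @Etale ((yon S).map snd) := (repWith_yon_map_iff _ snd).2 (hbe.2 _ _ _ sq)
  have h2 : RepWith @Surjective ((yon S).map snd) :=
    (repWith_yon_map_iff _ snd).2 (hbs.2 _ _ _ sq)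
  refine ⟨U, V, (yon S).map snd ≫ a₀, b, h,
    (repWith_isMultiplicative (S := S) @Etale).comp_mem _ _ h1 hae,
    (repWith_isMultiplicative (S := S) @Surjective).comp_mem _ _ h2 has, hbe, hbs, ?_⟩
  rw [Category.assoc, sq.w]

/-! ## Descent of formal unramifiedness along étale surjective maps on the source -/

theorem isFormallyUnramifiedMor_of_comp_etale_surjective {F G H : Sp S} (a : F ⟶ G) (f : G ⟶ H)
    (hae : RepWith @Etale a) (has : RepWith @Surjective a)
    (hcomp : IsFormallyUnramifiedMor (a ≫ f)) : IsFormallyUnramifiedMor f := by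
  rw [isFormallyUnramifiedMor_iff] at hcomp ⊢
  intro D l l' h1 h2
  obtain ⟨V, p, fst, sq⟩ := hae.rep l
  have hpe : Etale p.left := hae.2 l fst p sq
  have hps : Surjective p.left := has.2 l fst p sq
  let 𝒰 := V.left.affineCover
  let Z : 𝒰.I₀ → Over S := fun i => Over.mk (𝒰.f i ≫ V.hom)
  let ι : ∀ i, Z i ⟶ V := fun i => Over.homMk (𝒰.f i) rfl
  refine yon_hom_ext_of_family l l' Z (fun i => ι i ≫ p) (fun i => ?_) (fun i => ?_) (fun x => ?_)
    (fun i => ?_)
  · show Flat (𝒰.f i ≫ p.left)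
    infer_instance
  · show LocallyOfFinitePresentation (𝒰.f i ≫ p.left)
    infer_instance
  · obtain ⟨v, rfl⟩ := hps.surj x
    obtain ⟨i, y, rfl⟩ := 𝒰.exists_eq v
    exact ⟨i, y, rfl⟩
  · have hZ : IsAffine (Z i).left := by
      show IsAffine (𝒰.X i)
      infer_instance
    obtain ⟨D', e, c₀, hc⟩ := exists_thk_over D hZ (ι i ≫ p)
    obtain ⟨κ, hκ⟩ : ∃ κ, κ = e.hom ≫ ι i ≫ p := ⟨_, rfl⟩
    rw [← hκ] at hc
    let m₀ : (yon S).obj D'.ptT' ⟶ F := (yon S).map (e.hom ≫ ι i) ≫ fst
    have hm₀ : m₀ ≫ a = (yon S).map κ ≫ l := by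
      show ((yon S).map (e.hom ≫ ι i) ≫ fst) ≫ a = _
      rw [Category.assoc, sq.w, ← Category.assoc, ← Functor.map_comp, Category.assoc, hκ]
    have key : (yon S).map D'.j ≫ (yon S).map κ ≫ l =
        (yon S).map D'.j ≫ (yon S).map κ ≫ l' := by
      rw [← Category.assoc, ← Category.assoc, ← Functor.map_comp, ← hc, Functor.map_comp,
        Category.assoc, Category.assoc, h1]
    obtain ⟨m, hm1, hm2⟩ := (lift_of_repWith_etale hae D'.j D'.isFirstOrderThickening).1
      ((yon S).map D'.j ≫ m₀) ((yon S).map κ ≫ l') (by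
        rw [Category.assoc, hm₀, key])
    have hmm : m = m₀ := by
      refine hcomp D' m m₀ hm1 ?_
      rw [← Category.assoc, ← Category.assoc, hm2, hm₀, Category.assoc, Category.assoc, h2]
    have hfin : (yon S).map κ ≫ l = (yon S).map κ ≫ l' := by
      rw [← hm₀, ← hm2, hmm]
    rw [hκ, Functor.map_comp, Category.assoc, Category.assoc] at hfin
    have : IsIso ((yon S).map e.hom) := inferInstance
    exact (cancel_epi _).1 hfin

end Groth.Agent.Lib.helper5
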