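import Groth.Prelude.Def_AlgSpCov
import Mathlib.AlgebraicGeometry.Sites.Fpqc
import Mathlib.AlgebraicGeometry.Sites.Etale
import Groth.Agent.Lib.Helper11.AlgSpBasic
import Groth.Agent.Lib.Helper1.EtLocalSource
import Groth.Agent.Lib.Helper5.AlgSpLocPInst2
import Groth.Agent.Lib.Helper5.AlgSpLocPInst

/-!
`AlgSp.LocP P` is τ-local on the source (τ = fpqc, fppf, smooth, etale) as soon as `P` is τ-local on the
source for morphisms of schemes (helper5).
-/

set_option autoImplicit false
universe u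
open CategoryTheory CategoryTheory.Limits AlgebraicGeometry
open AlgSp

namespace Groth.Agent.Lib.helper5.LocSrc

variable {S : Scheme.{u}}

section SchemeLevel

variable {P : MorphismProperty Scheme.{u}}

/-- The two-element family `{k, 𝟙}`. -/
abbrev pairCover {A B : Scheme.{u}} (k : A ⟶ B) : PreZeroHypercover.{u} B :=
  (PreZeroHypercover.singleton.{u} k).sum (PreZeroHypercover.singleton.{u} (𝟙 B))

theorem pairCover_mem_precoverage {Q : MorphismProperty Scheme.{u}} (hid : ∀ B : Scheme.{u}, Q (𝟙 B))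
    {A B : Scheme.{u}} (k : A ⟶ B) (hk : Q k) :
    (pairCover k).presieve₀ ∈ Scheme.precoverage Q B := by
  rw [Scheme.presieve₀_mem_precoverage_iff]
  refine ⟨fun x => ⟨Sum.inr PUnit.unit, x, rfl⟩, ?_⟩
  rintro (⟨⟩ | ⟨⟩)
  · exact hk
  · exact hid B

theorem pairCover_mem_fpqc {A B : Scheme.{u}} (k : A ⟶ B) (hk : Flat k) :
    (pairCover k).presieve₀ ∈ Scheme.fpqcPrecoverage B := by
  refine ⟨?_, pairCover_mem_precoverage (Q := @Flat) (fun _ => inferInstance) k hk⟩
  rw [Scheme.presieve₀_mem_qcPrecoverage_iff]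
  infer_instance

/-- Precomposition with a member of a covering family. -/
theorem pre_of_pairCover {K : Precoverage Scheme.{u}} (hK : P.IsLocalAtSource K)
    {A B C : Scheme.{u}} (k : A ⟶ B) (h : B ⟶ C) (hk : (pairCover k).presieve₀ ∈ K B)
    (hh : P h) : P (k ≫ h) :=
  hK.comp hk k (Presieve.ofArrows.mk (ι := (pairCover k).I₀) (Y := (pairCover k).X)
    (f := (pairCover k).f) (Sum.inl PUnit.unit)) hh

theorem etale_le {K : Precoverage Scheme.{u}} (hK : P.IsLocalAtSource K)
    (hle : Scheme.etalePrecoverage ≤ K) : P.IsLocalAtSource Scheme.etalePrecoverage :=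
  haveI := hK
  MorphismProperty.IsLocalAtSource.of_le hle

theorem zariski_of_etale (hK : P.IsLocalAtSource Scheme.etalePrecoverage) :
    IsZariskiLocalAtSource P :=
  haveI := hK
  MorphismProperty.IsLocalAtSource.of_le (L := Scheme.etalePrecoverage)
    (Scheme.precoverage_mono fun _ _ _ _ => inferInstance)

theorem esd_of_etale (hK : P.IsLocalAtSource Scheme.etalePrecoverage)
    {X' X Y : Scheme.{u}} (f : X' ⟶ X) (g : X ⟶ Y) (hf : Etale f) (hs : Surjective f)
    (h : P (f ≫ g)) : P g := by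
  refine hK.of_forall_comp (R := Presieve.singleton f) ?_ ?_
  · rw [Scheme.etalePrecoverage, Scheme.singleton_mem_precoverage_iff]
    exact ⟨hs.surj, hf⟩
  · rintro _ _ ⟨⟩
    exact h

end SchemeLevel

/-- (⇒): precomposing a morphism with `LocP P` by a morphism with `LocP Q₀`, when `P` is stable under
precomposition with `Q₀`-morphisms of schemes. -/
theorem locP_comp_of_pre {P Q₀ : MorphismProperty Scheme.{u}}
    (hcancel : ∀ {X Y Z : Scheme.{u}} (k : X ⟶ Y) (b : Y ⟶ Z), Etale b → Q₀ (k ≫ b) → Q₀ k)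
    (hESD : ∀ {X' X Y : Scheme.{u}} (f : X' ⟶ X) (g : X ⟶ Y), Etale f → Surjective f →
      P (f ≫ g) → P g)
    (hpre : ∀ {A B C : Scheme.{u}} (k : A ⟶ B) (h : B ⟶ C), Q₀ k → P h → P (k ≫ h))
    {X' X Y : Sp S} (hX : IsAlgSpace X) (g : X' ⟶ X) (f : X ⟶ Y)
    (hg : LocP Q₀ g) (hf : LocP P f) : LocP P (g ≫ f) := by
  intro U V a b h ha hb hsq
  obtain ⟨W, p, hpe, hps⟩ := hX.atlas
  -- `U' = U ×_X W`
  obtain ⟨U', e, fst, sqU⟩ := hpe.1 (a ≫ g)
  obtain ⟨k, rfl⟩ := (yon S).map_surjective fst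
  have he : Etale e.left := hpe.2 _ _ _ sqU
  have hes : Surjective e.left := hps.2 _ _ _ sqU
  -- `W' = W ×_Y V`
  obtain ⟨W', prW, fst', sqW⟩ := hb.1 (p ≫ f)
  obtain ⟨h', rfl⟩ := (yon S).map_surjective fst'
  have hprW : Etale prW.left := hb.2 _ _ _ sqW
  have hPh' : P h'.left := by
    refine hf ((yon S).map prW ≫ p) b h' ?_ hb ?_
    · exact (RepWith (S := S) @Etale).comp_mem _ _ ((repWith_yon_map_iff @Etale prW).2 hprW) hpe
    · rw [Category.assoc]; exact sqW.w.symm
  have hw : (yon S).map (e ≫ h) ≫ b = (yon S).map k ≫ (p ≫ f) := by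
    rw [Functor.map_comp, Category.assoc, ← hsq, ← Category.assoc ((yon S).map k), sqU.w]
    simp only [Category.assoc]
  obtain ⟨k'', hk1, hk2⟩ := sqW.exists_lift ((yon S).map (e ≫ h)) ((yon S).map k) hw
  obtain ⟨k', rfl⟩ := (yon S).map_surjective k''
  have hk1' : k' ≫ h' = e ≫ h := (yon S).map_injective (by rw [Functor.map_comp]; exact hk1)
  have hk2' : k' ≫ prW = k := (yon S).map_injective (by rw [Functor.map_comp]; exact hk2)
  have hQk : Q₀ k.left := by
    refine hg ((yon S).map e ≫ a) p k ?_ hpe ?_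
    · exact (RepWith (S := S) @Etale).comp_mem _ _ ((repWith_yon_map_iff @Etale e).2 he) ha
    · rw [Category.assoc]; exact sqU.w.symm
  have hQk' : Q₀ k'.left :=
    hcancel k'.left prW.left hprW (by rw [← Over.comp_left, hk2']; exact hQk)
  have hfin := hpre k'.left h'.left hQk' hPh'
  rw [← Over.comp_left, hk1', Over.comp_left] at hfin
  exact hESD e.left h.left he hes hfin

open Groth.Agent.Lib.helper11 in
/-- (⇐) for coverings defined by a property `Q₀` of morphisms. -/
theorem locP_of_cover {P Q₀ : MorphismProperty Scheme.{u}}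
    (hloc : P.IsLocalAtSource (Scheme.precoverage Q₀))
    {ι : Type u} {X : Sp S} (Xi : ι → Sp S) (g : ∀ i, Xi i ⟶ X) (hXi : ∀ i, IsAlgSpace (Xi i))
    (hcov : IsCover (LocP Q₀) Xi g) {Y : Sp S} (f : X ⟶ Y) (H : ∀ i, LocP P (g i ≫ f)) :
    LocP P f := by
  intro U V a b h ha hb hsq
  have key : ∀ u : ↥U.left, ∃ (B : Scheme.{u}) (β : B ⟶ U.left),
      u ∈ Set.range β ∧ Q₀ β ∧ P (β ≫ h.left) := by
    intro u
    obtain ⟨i, ξ, hξ⟩ := hcov.2 (Points.ofPt a u)
    obtain ⟨A0, α, a0, hαe, -, hα0⟩ := exists_chart_ofPt (⟨Xi i, hXi i⟩ : Space S) ξ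
    obtain ⟨B, r, β', sqB⟩ := ha.1 (α ≫ g i)
    have hr : Etale r.left := ha.2 _ _ _ sqB
    obtain ⟨β, rfl⟩ := (yon S).map_surjective β'
    have hchart : RepWith @Etale ((yon S).map r ≫ α) :=
      (RepWith (S := S) @Etale).comp_mem _ _ ((repWith_yon_map_iff @Etale r).2 hr) hαe
    have hβQ : Q₀ β.left :=
      hcov.1 i ((yon S).map r ≫ α) a β hchart ha (by rw [Category.assoc]; exact sqB.w.symm)
    have hβh : P (β ≫ h).left := by
      refine (H i) ((yon S).map r ≫ α) b (β ≫ h) hchart hb ?_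
      rw [Functor.map_comp, Category.assoc ((yon S).map β), ← hsq,
        ← Category.assoc ((yon S).map β), sqB.w]
      simp only [Category.assoc]
    have hut : Points.ofPt a u = Points.ofPt (α ≫ g i) a0 := by
      rw [← hξ, ← hα0]; rfl
    obtain ⟨b0, hb1, -⟩ := exists_of_isPullback_schemes sqB u a0 hut
    exact ⟨B.left, β.left, ⟨b0, hb1⟩, hβQ, by rw [← Over.comp_left]; exact hβh⟩
  choose B β hu hQ hP using key
  refine hloc.of_forall_comp (R := Presieve.ofArrows B β) ?_ ?_
  · rw [Scheme.ofArrows_mem_precoverage_iff]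
    exact ⟨fun x => ⟨x, hu x⟩, hQ⟩
  · rintro _ _ ⟨u⟩
    exact hP u

open Groth.Agent.Lib.helper11 in
/-- (⇐) for fpqc coverings. -/
theorem locP_of_fpqcCover {P : MorphismProperty Scheme.{u}}
    (hloc : P.IsLocalAtSource Scheme.fpqcPrecoverage)
    {ι : Type u} {X : Sp S} (Xi : ι → Sp S) (g : ∀ i, Xi i ⟶ X) (hXi : ∀ i, IsAlgSpace (Xi i))
    (hcov : IsFpqcCover Xi g) {Y : Sp S} (f : X ⟶ Y) (H : ∀ i, LocP P (g i ≫ f)) :
    LocP P f := by
  intro U V a b h ha hb hsq
  have data : ∀ i, ∃ (A B : Over S) (α : (yon S).obj A ⟶ Xi i) (r : B ⟶ A) (β : B ⟶ U),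
      RepWith @Etale α ∧ RepWith @Surjective α ∧
        IsPullback ((yon S).map β) ((yon S).map r) a (α ≫ g i) := by
    intro i
    obtain ⟨A, α, hαe, hαs⟩ := (hXi i).atlas
    obtain ⟨B, r, β', sqB⟩ := ha.1 (α ≫ g i)
    obtain ⟨β, rfl⟩ := (yon S).map_surjective β'
    exact ⟨A, B, α, r, β, hαe, hαs, sqB⟩
  choose A B α r β hαe hαs sqB using data
  have hr : ∀ i, Etale (r i).left := fun i => ha.2 _ _ _ (sqB i)
  have hchart : ∀ i, RepWith @Etale ((yon S).map (r i) ≫ α i) := fun i =>
    (RepWith (S := S) @Etale).comp_mem _ _ ((repWith_yon_map_iff @Etale (r i)).2 (hr i)) (hαe i)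
  have hβflat : ∀ i, Flat (β i).left := fun i =>
    hcov.1 i ((yon S).map (r i) ≫ α i) a (β i) (hchart i) ha
      (by rw [Category.assoc]; exact (sqB i).w.symm)
  have hβP : ∀ i, P ((β i).left ≫ h.left) := by
    intro i
    rw [← Over.comp_left]
    refine (H i) ((yon S).map (r i) ≫ α i) b (β i ≫ h) (hchart i) hb ?_
    rw [Functor.map_comp, Category.assoc ((yon S).map (β i)), ← hsq,
      ← Category.assoc ((yon S).map (β i)), (sqB i).w]
    simp only [Category.assoc]
  have hqc : ∀ {O : U.left.Opens}, IsAffineOpen O →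
      IsCompactOpenCovered (fun i => ⇑(β i).left) (O : Set U.left) := by
    intro O hO
    let Z : Over S := Over.mk (O.ι ≫ U.hom)
    let zι : Z ⟶ U := Over.homMk O.ι rfl
    obtain ⟨m, W, c, hWaff, hcflat, hcsurj, hlift⟩ := hcov.2 Z hO ((yon S).map zι ≫ a)
    choose i l hl using hlift
    have dataW : ∀ j, ∃ (W' : Over S) (e : W' ⟶ W j) (n : W' ⟶ B (i j)),
        Etale e.left ∧ Surjective e.left ∧ n ≫ β (i j) = e ≫ c j ≫ zι := by
      intro j
      obtain ⟨W', e, t', sqW⟩ := (hαe (i j)).1 (l j)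
      obtain ⟨t, rfl⟩ := (yon S).map_surjective t'
      have hw : (yon S).map (e ≫ c j ≫ zι) ≫ a = (yon S).map t ≫ (α (i j) ≫ g (i j)) := by
        rw [← Category.assoc ((yon S).map t), sqW.w, Category.assoc, hl j]
        simp only [Functor.map_comp, Category.assoc]
      obtain ⟨n', hn1, hn2⟩ := (sqB (i j)).exists_lift _ _ hw
      obtain ⟨n, rfl⟩ := (yon S).map_surjective n'
      exact ⟨W', e, n, (hαe (i j)).2 _ _ _ sqW, (hαs (i j)).2 _ _ _ sqW,
        (yon S).map_injective (by rw [Functor.map_comp]; exact hn1)⟩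
    choose W' e n he hes hn using dataW
    have hK : ∀ j, ∃ K : (W' j).left.Opens, IsCompact (K : Set (W' j).left) ∧
        ⇑(e j).left '' (K : Set (W' j).left) = Set.univ := by
      intro j
      have : IsAffine (W j).left := hWaff j
      have := he j
      exact (e j).left.isOpenMap.exists_opens_image_eq_of_prespectralSpace
        (e j).left.continuous (fun x _ => (hes j).surj x) isOpen_univ isCompact_univ
    choose K hKc hKe using hK
    refine IsCompactOpenCovered.of_comp (σ := Fin m) (Y := fun j => (W' j).left)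
      (fun j => ⇑(e j ≫ c j ≫ zι).left) (a := i) (fun j => ⇑(n j).left)
      (fun j => (n j).left.continuous) ?_ (fun i => (β i).left.continuous) O.2 ?_
    · intro j
      funext x
      rw [← hn j]
      simp
    · refine IsCompactOpenCovered.of_finite (κ := Fin m) id K hKc ?_
      apply Set.Subset.antisymm
      · intro x hx
        simp only [Set.mem_iUnion] at hx
        obtain ⟨j, k, -, rfl⟩ := hx
        have : (e j ≫ c j ≫ zι).left k ∈ Set.range O.ι :=
          ⟨(c j).left ((e j).left k), rfl⟩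
        rw [Scheme.Opens.range_ι] at this
        exact this
      · intro x hx
        obtain ⟨z, rfl⟩ : x ∈ Set.range O.ι := by rw [Scheme.Opens.range_ι]; exact hx
        obtain ⟨j, w, hw⟩ := hcsurj z
        have hwk : w ∈ ⇑(e j).left '' (K j : Set (W' j).left) := by rw [hKe j]; trivial
        obtain ⟨k, hk, rfl⟩ := hwk
        simp only [Set.mem_iUnion]
        refine ⟨j, k, hk, ?_⟩
        rw [← hw]
        rfl
  let E : PreZeroHypercover.{u} U.left := ⟨ι, fun i => (B i).left, fun i => (β i).left⟩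
  have hmem : E.presieve₀ ∈ Scheme.fpqcPrecoverage U.left := by
    refine ⟨?_, ?_⟩
    · rw [Scheme.presieve₀_mem_qcPrecoverage_iff]
      exact ⟨fun hO => hqc hO⟩
    · rw [Scheme.presieve₀_mem_precoverage_iff]
      refine ⟨fun x => ?_, hβflat⟩
      obtain ⟨O, hO, hxO, -⟩ := TopologicalSpace.Opens.isBasis_iff_nbhd.mp
        U.left.isBasis_affineOpens (TopologicalSpace.Opens.mem_top x)
      obtain ⟨s, -, Vs, -, hU⟩ := hqc hO
      have hx : x ∈ ⋃ (i : ι) (hi : i ∈ s), ⇑(β i).left '' (Vs i hi : Set (B i).left) := by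
        rw [hU]; exact hxO
      simp only [Set.mem_iUnion] at hx
      obtain ⟨i, hi, y, -, rfl⟩ := hx
      exact ⟨i, y, rfl⟩
  refine hloc.of_forall_comp hmem ?_
  rintro _ _ ⟨i⟩
  exact hβP i

theorem etalePrecoverage_le_fppf : Scheme.etalePrecoverage.{u} ≤ Scheme.fppfPrecoverage :=
  Scheme.precoverage_mono fun _ _ _ _ => ⟨inferInstance, inferInstance⟩

theorem etalePrecoverage_le_fpqc : Scheme.etalePrecoverage.{u} ≤ Scheme.fpqcPrecoverage :=
  le_trans etalePrecoverage_le_fppf Scheme.fppfPrecoverage_le_fpqcPrecoverage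

theorem etalePrecoverage_le_smooth : Scheme.etalePrecoverage.{u} ≤ Scheme.precoverage @Smooth :=
  Scheme.precoverage_mono fun _ _ _ _ => inferInstance

/-- Locality on the source for coverings defined by a property `Q₀` of morphisms of schemes. -/
theorem isLocalOnSource_of_precoverage {P Q₀ : MorphismProperty Scheme.{u}}
    (hid : ∀ B : Scheme.{u}, Q₀ (𝟙 B))
    (hcancel : ∀ {X Y Z : Scheme.{u}} (k : X ⟶ Y) (b : Y ⟶ Z), Etale b → Q₀ (k ≫ b) → Q₀ k)
    (hle : Scheme.etalePrecoverage ≤ Scheme.precoverage Q₀)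
    (hloc : P.IsLocalAtSource (Scheme.precoverage Q₀)) :
    IsLocalOnSource (S := S) (fun _ _ Y g => IsCover (LocP Q₀) Y g) (LocP P) := by
  have hEt := etale_le hloc hle
  intro ι X Xi g hX hXi hcov Y f hY
  constructor
  · intro hf i
    exact locP_comp_of_pre hcancel (esd_of_etale hEt)
      (fun k h hk hh => pre_of_pairCover hloc k h (pairCover_mem_precoverage hid k hk) hh)
      hX (g i) f (hcov.1 i) hf
  · exact locP_of_cover hloc Xi g hXi hcov f

theorem isLocalOnSource_fpqc {P : MorphismProperty Scheme.{u}}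
    (hloc : P.IsLocalAtSource Scheme.fpqcPrecoverage) :
    IsLocalOnSource (IsFpqcCover (S := S)) (LocP P) := by
  have hEt := etale_le hloc etalePrecoverage_le_fpqc
  intro ι X Xi g hX hXi hcov Y f hY
  constructor
  · intro hf i
    exact locP_comp_of_pre (Q₀ := @Flat) LocPBC.locPData_flat.cancel (esd_of_etale hEt)
      (fun k h hk hh => pre_of_pairCover hloc k h (pairCover_mem_fpqc k hk) hh)
      hX (g i) f (hcov.1 i) hf
  · exact locP_of_fpqcCover hloc Xi g hXi hcov f

theorem isLocalOnSource_smooth {P : MorphismProperty Scheme.{u}}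
    (hloc : P.IsLocalAtSource (Scheme.precoverage @Smooth)) :
    IsLocalOnSource (IsSmCover (S := S)) (LocP P) :=
  isLocalOnSource_of_precoverage (Q₀ := @Smooth) (fun _ => inferInstance)
    LocPBC.locPData_smooth.cancel
    etalePrecoverage_le_smooth hloc

theorem isLocalOnSource_fppf {P : MorphismProperty Scheme.{u}}
    (hloc : P.IsLocalAtSource Scheme.fppfPrecoverage) :
    IsLocalOnSource (IsFppfCover (S := S)) (LocP P) := by
  have key := isLocalOnSource_of_precoverage (S := S) (P := P)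
    (Q₀ := @Flat ⊓ @LocallyOfFinitePresentation) (fun _ => ⟨inferInstance, inferInstance⟩)
    (fun k b hb h => ⟨LocPBC.locPData_flat.cancel k b hb h.1, LocPBC.locPData_lfp.cancel k b hb h.2⟩)
    etalePrecoverage_le_fppf hloc
  intro ι X Xi g hX hXi hcov Y f hY
  refine key Xi g hX hXi ⟨fun i U V a b h ha hb hsq => ?_, hcov.2⟩ f hY
  exact ⟨(hcov.1 i).1 a b h ha hb hsq, (hcov.1 i).2 a b h ha hb hsq⟩

theorem isLocalOnSource_etale {P : MorphismProperty Scheme.{u}}
    (hloc : P.IsLocalAtSource Scheme.etalePrecoverage) :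
    IsLocalOnSource (IsEtCover (S := S)) (LocP P) :=
  haveI := zariski_of_etale hloc
  Groth.Agent.H1.EtLocalSource.isLocalOnSource_etale
    (fun f g hf hs h => esd_of_etale hloc f g hf hs h)

end Groth.Agent.Lib.helper5.LocSrc
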