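import Mathlib
import Groth.Agent.Lib.Helper5.AlgSpLocalSource
import Groth.Agent.Lib.Helper5.FppfSrcSmooth2
import Groth.Agent.S10265
import Groth.Agent.S10266

/-!
# Smooth / étale morphisms of algebraic spaces descend along fppf coverings of the source (helper5)

* `exists_factor_openRange`: a flat lfp morphism factors through its open image as a surjective flat
  lfp morphism.
* `desc_family`: a Zariski-local-at-source property which descends along surjective flat lfp
  morphisms of the source descends along jointly surjective flat lfp families.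
* `locP_of_cover'`: the one-directional version of `LocSrc.locP_of_cover`.
* `locP_smooth_of_fppf_comp`, `locP_etale_of_fppf_comp`.
-/

set_option autoImplicit false
universe u
open CategoryTheory CategoryTheory.Limits AlgebraicGeometry
open AlgSp

namespace Groth.Agent.Lib.helper5.LocSrc

theorem exists_factor_openRange {Y' Y : Scheme.{u}} (g : Y' ⟶ Y) [Flat g]
    [LocallyOfFinitePresentation g] :
    ∃ (W : Y.Opens) (g₁ : Y' ⟶ (W : Scheme.{u})), g₁ ≫ W.ι = g ∧ Surjective g₁ ∧ Flat g₁ ∧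
      LocallyOfFinitePresentation g₁ ∧ (W : Set Y) = Set.range g := by
  let W₁ : Y.Opens := ⟨Set.range g, g.isOpenMap.isOpen_range⟩
  have hrange : Set.range g ⊆ Set.range W₁.ι := by
    rw [Scheme.Opens.range_ι]
    exact subset_rfl
  let g₁ : Y' ⟶ (W₁ : Scheme.{u}) := IsOpenImmersion.lift W₁.ι g hrange
  have hg₁ : g₁ ≫ W₁.ι = g := IsOpenImmersion.lift_fac _ _ _
  haveI : Flat (g₁ ≫ W₁.ι) := by rw [hg₁]; infer_instance
  haveI : LocallyOfFinitePresentation (g₁ ≫ W₁.ι) := by rw [hg₁]; infer_instance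
  have h1 : Flat g₁ := MorphismProperty.of_postcomp (W := @Flat) (W' := @IsOpenImmersion) g₁ W₁.ι
    inferInstance inferInstance
  have h2 : LocallyOfFinitePresentation g₁ :=
    MorphismProperty.of_postcomp (W := @LocallyOfFinitePresentation) (W' := @IsOpenImmersion) g₁
      W₁.ι inferInstance inferInstance
  refine ⟨W₁, g₁, hg₁, ⟨fun y => ?_⟩, h1, h2, rfl⟩
  obtain ⟨x, hx⟩ := y.2
  refine ⟨x, ?_⟩
  apply Subtype.ext
  have := congrArg (fun m => m.base x) hg₁
  simpa using this.trans hx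

theorem desc_family {P : MorphismProperty Scheme.{u}} [IsZariskiLocalAtSource P]
    (hsingle : ∀ {X Y T : Scheme.{u}} (f : X ⟶ Y) (q : Y ⟶ T), Surjective f → Flat f →
      LocallyOfFinitePresentation f → P (f ≫ q) → P q)
    {U V : Scheme.{u}} (h : U ⟶ V) (B : U → Scheme.{u}) (β : ∀ x, B x ⟶ U)
    (hx : ∀ x, x ∈ Set.range (β x))
    (hQ : ∀ x, (@Flat ⊓ @LocallyOfFinitePresentation : MorphismProperty Scheme.{u}) (β x))
    (hP : ∀ x, P (β x ≫ h)) : P h := by
  have key : ∀ x : U, ∃ W : U.Opens, x ∈ W ∧ P (W.ι ≫ h) := by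
    intro x
    haveI : Flat (β x) := (hQ x).1
    haveI : LocallyOfFinitePresentation (β x) := (hQ x).2
    obtain ⟨W, g₁, hg₁, hs, hfl, hfp, hW⟩ := exists_factor_openRange (β x)
    refine ⟨W, ?_, ?_⟩
    · show x ∈ (W : Set U)
      rw [hW]
      exact hx x
    · refine hsingle g₁ (W.ι ≫ h) hs hfl hfp ?_
      rw [← Category.assoc, hg₁]
      exact hP x
  choose W hxW hW using key
  refine IsZariskiLocalAtSource.of_iSup_eq_top (P := P) W ?_ hW
  rw [eq_top_iff]
  intro x _
  exact TopologicalSpace.Opens.mem_iSup.mpr ⟨x, hxW x⟩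

variable {S : Scheme.{u}}

open Groth.Agent.Lib.helper11 in
/-- one-directional descent of `LocP P` along coverings defined by `Q₀`. -/
theorem locP_of_cover' {P Q₀ : MorphismProperty Scheme.{u}}
    (hdesc : ∀ {U V : Scheme.{u}} (h : U ⟶ V) (B : U → Scheme.{u}) (β : ∀ x, B x ⟶ U),
      (∀ x, x ∈ Set.range (β x)) → (∀ x, Q₀ (β x)) → (∀ x, P (β x ≫ h)) → P h)
    {ι : Type u} {X : Sp S} (Xi : ι → Sp S) (g : ∀ i, Xi i ⟶ X) (hXi : ∀ i, IsAlgSpace (Xi i))
    (hcov : IsCover (LocP Q₀) Xi g) {Y : Sp S} (f : X ⟶ Y) (H : ∀ i, LocP P (g i ≫ f)) :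
    LocP P f := by
  intro U V a b h ha hb hsq
  have key : ∀ u : ↥U.left, ∃ (B : Scheme.{u}) (β : B ⟶ U.left),
      u ∈ Set.range β ∧ Q₀ β ∧ P (β ≫ h.left) := by
    intro u
    obtain ⟨i, ξ, hξ⟩ := hcov.2 (Points.ofPt a u)
    obtain ⟨A0, α, a0, hαe, -, hα0⟩ := exists_chart_ofPt (⟨Xi i, hXi i⟩ : Space S) ξ
    obtain ⟨B, r, β', sqB⟩ := ha.1 (α ≫ g i)
    have hr : Etale r.left := ha.2 _ _ _ sqB
    obtain ⟨β, rfl⟩ := (yon S).map_surjective β'
    have hchart : RepWith @Etale ((yon S).map r ≫ α) :=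
      (RepWith (S := S) @Etale).comp_mem _ _ ((repWith_yon_map_iff @Etale r).2 hr) hαe
    have hβQ : Q₀ β.left :=
      hcov.1 i ((yon S).map r ≫ α) a β hchart ha (by rw [Category.assoc]; exact sqB.w.symm)
    have hβh : P (β ≫ h).left := by
      refine (H i) ((yon S).map r ≫ α) b (β ≫ h) hchart hb ?_
      rw [Functor.map_comp, Category.assoc ((yon S).map β), ← hsq,
        ← Category.assoc ((yon S).map β), sqB.w]
      simp only [Category.assoc]
    have hut : Points.ofPt a u = Points.ofPt (α ≫ g i) a0 := by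
      rw [← hξ, ← hα0]; rfl
    obtain ⟨b0, hb1, -⟩ := exists_of_isPullback_schemes sqB u a0 hut
    exact ⟨B.left, β.left, ⟨b0, hb1⟩, hβQ, by rw [← Over.comp_left]; exact hβh⟩
  choose B β hu hQ hP using key
  exact hdesc h.left B β hu hQ hP

theorem locP_of_fppf_comp {P : MorphismProperty Scheme.{u}} [IsZariskiLocalAtSource P]
    (hsingle : ∀ {X Y T : Scheme.{u}} (f : X ⟶ Y) (q : Y ⟶ T), Surjective f → Flat f →
      LocallyOfFinitePresentation f → P (f ≫ q) → P q)
    {X Y B : Sp S} (hX : IsAlgSpace X) (f : X ⟶ Y) (q : Y ⟶ B)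
    (hs : IsSurjectiveMor f) (hfl : LocP @Flat f) (hfp : LocP @LocallyOfFinitePresentation f)
    (h : LocP P (f ≫ q)) : LocP P q := by
  refine locP_of_cover' (P := P) (Q₀ := @Flat ⊓ @LocallyOfFinitePresentation)
    (fun h B β hx hQ hP => desc_family hsingle h B β hx hQ hP)
    (fun _ : PUnit.{u + 1} => X) (fun _ => f) (fun _ => hX)
    ⟨fun _ U V a b k ha hb hsq => ⟨hfl a b k ha hb hsq, hfp a b k ha hb hsq⟩,
      fun y => ⟨PUnit.unit, hs y⟩⟩ q (fun _ => h)

theorem locP_smooth_of_fppf_comp {X Y B : Sp S} (hX : IsAlgSpace X) (f : X ⟶ Y) (q : Y ⟶ B)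
    (hs : IsSurjectiveMor f) (hfl : LocP @Flat f) (hfp : LocP @LocallyOfFinitePresentation f)
    (h : LocP @Smooth (f ≫ q)) : LocP @Smooth q :=
  locP_of_fppf_comp (P := @Smooth)
    (fun f q _ _ _ hfq => by
      haveI : Smooth (f ≫ q) := hfq
      exact Groth.Agent.Lib.helper5.FppfSrcSmooth.smooth_of_comp f q) hX f q hs hfl hfp h

theorem locP_etale_of_fppf_comp {X Y B : Sp S} (hX : IsAlgSpace X) (f : X ⟶ Y) (q : Y ⟶ B)
    (hs : IsSurjectiveMor f) (hfl : LocP @Flat f) (hfp : LocP @LocallyOfFinitePresentation f)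
    (h : LocP @Etale (f ≫ q)) : LocP @Etale q :=
  locP_of_fppf_comp (P := @Etale)
    (fun f q _ _ _ hfq => by
      haveI : Etale (f ≫ q) := hfq
      exact Groth.Agent.Lib.helper5.FppfSrcSmooth.etale_of_comp f q) hX f q hs hfl hfp h

end Groth.Agent.Lib.helper5.LocSrc
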