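import Mathlib

/-!
# Retracts of morphisms of schemes (helper5)

`s : T ⟶ W`, `p : W ⟶ T` with `s ≫ p = 𝟙 T`, and `ψ : T ⟶ V`.  If `p ≫ ψ : W ⟶ V` is flat /
locally of finite type / locally of finite presentation, then so is `ψ`.
-/

set_option autoImplicit false
universe u
open AlgebraicGeometry CategoryTheory Limits TopologicalSpace

namespace Groth.Agent.Lib.helper5.RetractMor

section RingLevel

variable {R A B : Type u} [CommRing R] [CommRing A] [CommRing B]

theorem flat_of_retract (f : R →+* A) (ι : A →+* B) (π : B →+* A)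
    (h : π.comp ι = RingHom.id A) (hf : (ι.comp f).Flat) : f.Flat := by
  algebraize [f, ι.comp f]
  have hfl : Module.Flat R B := hf
  let i : A →ₗ[R] B :=
    { toFun := ι
      map_add' := map_add ι
      map_smul' := fun r a => by
        simp only [Algebra.smul_def, map_mul, RingHom.id_apply]
        rfl }
  let r : B →ₗ[R] A :=
    { toFun := π
      map_add' := map_add π
      map_smul' := fun r b => by
        simp only [Algebra.smul_def, map_mul, RingHom.id_apply]
        congr 1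
        show π (ι (f r)) = f r
        exact congrArg (fun φ : A →+* A => φ (f r)) h }
  have hri : r.comp i = LinearMap.id := by
    ext a
    exact congrArg (fun φ : A →+* A => φ a) h
  exact Module.Flat.of_retract i r hri

theorem surjective_of_retract (ι : A →+* B) (π : B →+* A) (h : π.comp ι = RingHom.id A) :
    Function.Surjective π := fun a => ⟨ι a, congrArg (fun φ : A →+* A => φ a) h⟩

theorem finiteType_of_retract (f : R →+* A) (ι : A →+* B) (π : B →+* A)
    (h : π.comp ι = RingHom.id A) (hf : (ι.comp f).FiniteType) : f.FiniteType := by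
  have h1 : (π.comp (ι.comp f)).FiniteType :=
    RingHom.FiniteType.comp (RingHom.FiniteType.of_surjective π (surjective_of_retract ι π h)) hf
  have h2 : π.comp (ι.comp f) = f := by
    rw [← RingHom.comp_assoc, h, RingHom.id_comp]
  rwa [h2] at h1

theorem finitePresentation_of_retract (f : R →+* A) (ι : A →+* B) (π : B →+* A)
    (h : π.comp ι = RingHom.id A) (hf : (ι.comp f).FinitePresentation) :
    f.FinitePresentation := by
  have hι : ι.FiniteType := RingHom.FiniteType.of_comp_finiteType (f := f) (RingHom.FiniteType.of_finitePresentation hf)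
  have hπ : π.FinitePresentation := by
    refine RingHom.FinitePresentation.of_comp_finiteType ι ?_ hι
    rw [h]
    exact RingHom.FinitePresentation.id A
  have h1 : (π.comp (ι.comp f)).FinitePresentation := RingHom.FinitePresentation.comp hπ hf
  have h2 : π.comp (ι.comp f) = f := by
    rw [← RingHom.comp_assoc, h, RingHom.id_comp]
  rwa [h2] at h1

end RingLevel

section SchemeLevel

variable {T W V : Scheme.{u}}

theorem appLE_eq_id {T : Scheme.{u}} (φ : T ⟶ T) (hφ : φ = 𝟙 T) (U : T.Opens) (e : U ≤ φ ⁻¹ᵁ U) :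
    (φ.appLE U U e).hom = RingHom.id _ := by
  subst hφ
  have h1 : (𝟙 T : T ⟶ T).appLE U U e = 𝟙 _ := by
    have h3 : (𝟙 T : T ⟶ T).appLE U (𝟙 T ⁻¹ᵁ U) le_rfl = (𝟙 T : T ⟶ T).app U :=
      Scheme.Hom.appLE_eq_app _
    rw [Scheme.Hom.id_app] at h3
    exact h3
  rw [h1]
  rfl

theorem of_retract {P : MorphismProperty Scheme.{u}}
    {Q : ∀ {R S : Type u} [CommRing R] [CommRing S], (R →+* S) → Prop} [HasRingHomProperty P Q]
    (hQ : ∀ {R A B : Type u} [CommRing R] [CommRing A] [CommRing B] (f : R →+* A) (ι : A →+* B)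
      (π : B →+* A), π.comp ι = RingHom.id A → Q (ι.comp f) → Q f)
    (hQs : RingHom.StableUnderCompositionWithLocalizationAwaySource Q)
    (s : T ⟶ W) (p : W ⟶ T) (hsp : s ≫ p = 𝟙 T) (ψ : T ⟶ V) (h : P (p ≫ ψ)) : P ψ := by
  rw [HasRingHomProperty.iff_exists_appLE (P := P) hQs]
  intro t
  obtain ⟨V₀, hV₀, hψV₀, -⟩ := Opens.isBasis_iff_nbhd.mp V.isBasis_affineOpens
    (Opens.mem_top (ψ t))
  obtain ⟨T₀, hT₀, htT₀, eT₀⟩ := Opens.isBasis_iff_nbhd.mp T.isBasis_affineOpens
    (show t ∈ ψ ⁻¹ᵁ V₀ from hψV₀)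
  have hpst : p (s t) = t := by
    rw [← Scheme.Hom.comp_apply, hsp]; rfl
  obtain ⟨W₀, hW₀, hsW₀, eW₀⟩ := Opens.isBasis_iff_nbhd.mp W.isBasis_affineOpens
    (show s t ∈ p ⁻¹ᵁ T₀ by show p (s t) ∈ T₀; rw [hpst]; exact htT₀)
  obtain ⟨a, haO, hta⟩ := hT₀.exists_basicOpen_le (V := s ⁻¹ᵁ W₀) ⟨t, hsW₀⟩ htT₀
  have hT₁ : IsAffineOpen (T.basicOpen a) := hT₀.basicOpen a
  have hW₁ : IsAffineOpen (W.basicOpen (p.appLE T₀ W₀ eW₀ a)) := hW₀.basicOpen _
  have hW₁eq : W.basicOpen (p.appLE T₀ W₀ eW₀ a) = W₀ ⊓ p ⁻¹ᵁ (T.basicOpen a) :=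
    Scheme.basicOpen_appLE p W₀ T₀ eW₀ a
  have e₁ : W.basicOpen (p.appLE T₀ W₀ eW₀ a) ≤ p ⁻¹ᵁ (T.basicOpen a) := by
    rw [hW₁eq]; exact inf_le_right
  have e₂ : T.basicOpen a ≤ s ⁻¹ᵁ (W.basicOpen (p.appLE T₀ W₀ eW₀ a)) := by
    intro x hx
    show s x ∈ W.basicOpen (p.appLE T₀ W₀ eW₀ a)
    rw [hW₁eq]
    refine ⟨haO hx, ?_⟩
    show p (s x) ∈ T.basicOpen a
    have : p (s x) = x := by rw [← Scheme.Hom.comp_apply, hsp]; rfl
    rw [this]
    exact hx
  have eT : T.basicOpen a ≤ ψ ⁻¹ᵁ V₀ := (T.basicOpen_le a).trans eT₀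
  refine ⟨⟨V₀, hV₀⟩, ⟨T.basicOpen a, hT₁⟩, hta, eT, ?_⟩
  apply hQ (ψ.appLE V₀ _ eT).hom (p.appLE _ _ e₁).hom (s.appLE _ _ e₂).hom
  · rw [← CommRingCat.hom_comp, Scheme.Hom.appLE_comp_appLE]
    exact appLE_eq_id _ hsp _ _
  · rw [← CommRingCat.hom_comp, Scheme.Hom.appLE_comp_appLE]
    exact HasRingHomProperty.appLE P (p ≫ ψ) h ⟨V₀, hV₀⟩ ⟨_, hW₁⟩ _

theorem flat_of_retract' (s : T ⟶ W) (p : W ⟶ T) (hsp : s ≫ p = 𝟙 T) (ψ : T ⟶ V)
    (h : Flat (p ≫ ψ)) : Flat ψ :=
  of_retract (P := @Flat) (Q := @RingHom.Flat) (fun f ι π => flat_of_retract f ι π)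
    (RingHom.Flat.stableUnderComposition.stableUnderCompositionWithLocalizationAway
      RingHom.Flat.holdsForLocalizationAway).left s p hsp ψ h

theorem locallyOfFiniteType_of_retract (s : T ⟶ W) (p : W ⟶ T) (hsp : s ≫ p = 𝟙 T) (ψ : T ⟶ V)
    (h : LocallyOfFiniteType (p ≫ ψ)) : LocallyOfFiniteType ψ :=
  of_retract (P := @LocallyOfFiniteType) (Q := @RingHom.FiniteType)
    (fun f ι π => finiteType_of_retract f ι π)
    (RingHom.finiteType_stableUnderComposition.stableUnderCompositionWithLocalizationAway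
      RingHom.finiteType_holdsForLocalizationAway).left s p hsp ψ h

theorem locallyOfFinitePresentation_of_retract (s : T ⟶ W) (p : W ⟶ T) (hsp : s ≫ p = 𝟙 T)
    (ψ : T ⟶ V) (h : LocallyOfFinitePresentation (p ≫ ψ)) : LocallyOfFinitePresentation ψ :=
  of_retract (P := @LocallyOfFinitePresentation) (Q := @RingHom.FinitePresentation)
    (fun f ι π => finitePresentation_of_retract f ι π)
    (RingHom.finitePresentation_stableUnderComposition.stableUnderCompositionWithLocalizationAway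
      RingHom.finitePresentation_holdsForLocalizationAway).left s p hsp ψ h

end SchemeLevel

end Groth.Agent.Lib.helper5.RetractMor
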