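import Mathlib
import Groth.Agent.Lib.Helper5.AlgSpEpi
import Groth.Agent.Lib.Helper5.AlgSpFppfSrcSmooth
import Groth.Agent.Lib.Helper5.RetractMor

/-!
# `g : X ⟶ Y` a surjection of fppf sheaves, `P (g ≫ h)` ⟹ `P h` for flat / lft / lfp (helper5)

Chart chase: fppf locally on a chart `U` of `Y` the morphism `g` has a section, so a suitable étale
cover `T` of the fppf-cover member `U'` is a retract (over the chart of `Z`) of an étale chart `W''`
of `X ×_Y U'`; `P` passes to retracts (`RetractMor`) and descends along fppf covers of the source.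
-/

set_option autoImplicit false
universe u
open CategoryTheory CategoryTheory.Limits AlgebraicGeometry
open AlgSp

namespace Groth.Agent.Lib.helper5.LocSurjComp

variable {S : Scheme.{u}}

theorem exists_fppf_mem_of_mem_fppfTopology {X : Scheme.{u}} (R : Sieve X)
    (hR : R ∈ Scheme.fppfTopology X) (x : ↥X) :
    ∃ (Y : Scheme.{u}) (f : Y ⟶ X) (y : ↥Y), R f ∧ f y = x ∧ Flat f ∧
      LocallyOfFinitePresentation f := by
  have : Scheme.fppfPrecoverage.{u}.HasIsos :=
    ⟨fun f _ => f.singleton_mem_fppfPrecoverage⟩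
  have : Scheme.fppfPrecoverage.{u}.HasPullbacks := ⟨fun f _ => inferInstance⟩
  obtain ⟨R', hR', hle⟩ := Precoverage.mem_toGrothendieck_iff_of_isStableUnderComposition.1 hR
  obtain ⟨𝒰, rfl⟩ := R'.exists_eq_preZeroHypercover
  rw [Scheme.fppfPrecoverage, Scheme.ofArrows_mem_precoverage_iff] at hR'
  obtain ⟨i, y, hy⟩ := hR'.1 x
  exact ⟨_, 𝒰.f i, y, hle _ _ (Presieve.ofArrows.mk i), hy, (hR'.2 i).1, (hR'.2 i).2⟩

theorem exists_fppf_mem_of_mem_J {T : Over S} (R : Sieve T) (hR : R ∈ J S T) (t : ↥T.left) :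
    ∃ (T' : Over S) (f : T' ⟶ T) (t' : ↥T'.left), R f ∧ f.left t' = t ∧ Flat f.left ∧
      LocallyOfFinitePresentation f.left := by
  rw [GrothendieckTopology.mem_over_iff] at hR
  obtain ⟨Y, f, y, h1, hy, hf1, hf2⟩ := exists_fppf_mem_of_mem_fppfTopology _ hR t
  rw [Sieve.overEquiv_iff] at h1
  exact ⟨Over.mk (f ≫ T.hom), Over.homMk f, y, h1, hy, hf1, hf2⟩

open Groth.Agent.Lib.helper5.Epi in
/-- the chart chase -/
theorem locP_of_comp_of_isLocallySurjective {P : MorphismProperty Scheme.{u}}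
    (hpre : ∀ {A B C : Scheme.{u}} (e : A ⟶ B) (f : B ⟶ C), Flat e →
      LocallyOfFinitePresentation e → P f → P (e ≫ f))
    (hretract : ∀ {T W V : Scheme.{u}} (s : T ⟶ W) (p : W ⟶ T), s ≫ p = 𝟙 T → ∀ ψ : T ⟶ V,
      P (p ≫ ψ) → P ψ)
    (hdesc : ∀ {U V : Scheme.{u}} (h : U ⟶ V) (B : U → Scheme.{u}) (β : ∀ x, B x ⟶ U),
      (∀ x, x ∈ Set.range (β x)) →
      (∀ x, (@Flat ⊓ @LocallyOfFinitePresentation : MorphismProperty Scheme.{u}) (β x)) →
      (∀ x, P (β x ≫ h)) → P h)
    {X Y Z : Sp S} (hX : IsAlgSpace X) (g : X ⟶ Y) (h : Y ⟶ Z)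
    (hg : Sheaf.IsLocallySurjective g) (hgh : LocP P (g ≫ h)) : LocP P h := by
  intro U V a b k ha hb hsq
  have key : ∀ u : ↥U.left, ∃ (B : Scheme.{u}) (β : B ⟶ U.left), u ∈ Set.range β ∧
      (@Flat ⊓ @LocallyOfFinitePresentation : MorphismProperty Scheme.{u}) β ∧
      P (β ≫ k.left) := by
    intro u
    -- step 1: an fppf member with a lift
    obtain ⟨U', c, u', ⟨x, hx⟩, hcu, hcfl, hcfp⟩ :=
      exists_fppf_mem_of_mem_J _ ((isLocallySurjective_iff g).1 hg U a) u
    -- step 2: atlas of X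
    obtain ⟨W, p, hpe, hps⟩ := hX.atlas
    -- step 3: W_U = W ×_Y U
    obtain ⟨WU, e₁, fst₁, sq₁⟩ := ha.1 (p ≫ g)
    obtain ⟨k₁, rfl⟩ := (yon S).map_surjective fst₁
    have he₁ : Etale e₁.left := ha.2 _ _ _ sq₁
    have hchart : RepWith @Etale ((yon S).map e₁ ≫ p) :=
      (RepWith (S := S) @Etale).comp_mem _ _ ((repWith_yon_map_iff @Etale e₁).2 he₁) hpe
    have hH1 : P (k₁ ≫ k).left := by
      refine hgh ((yon S).map e₁ ≫ p) b (k₁ ≫ k) hchart hb ?_
      have h1 := sq₁.w
      simp only [Functor.map_comp, Category.assoc] at h1 ⊢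
      rw [← hsq, ← Category.assoc ((yon S).map k₁), h1]
      simp only [Category.assoc]
    -- step 4: W' = W_U ×_U U'
    have sqW' : IsPullback (pullback.fst k₁ c).left (pullback.snd k₁ c).left k₁.left c.left :=
      (IsPullback.of_hasPullback k₁ c).map (Over.forget S)
    have hfst_fl : Flat (pullback.fst k₁ c).left :=
      MorphismProperty.of_isPullback (P := @Flat) sqW'.flip hcfl
    have hfst_fp : LocallyOfFinitePresentation (pullback.fst k₁ c).left :=
      MorphismProperty.of_isPullback (P := @LocallyOfFinitePresentation) sqW'.flip hcfp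
    have hH2 : P ((pullback.fst k₁ c).left ≫ (k₁ ≫ k).left) :=
      hpre _ _ hfst_fl hfst_fp hH1
    -- step 5: T = U' ×_X W
    obtain ⟨T, t₁, fst₂, sq₂⟩ := hpe.1 x
    obtain ⟨t₀, rfl⟩ := (yon S).map_surjective fst₂
    have ht₁e : Etale t₁.left := hpe.2 _ _ _ sq₂
    have ht₁s : Surjective t₁.left := hps.2 _ _ _ sq₂
    -- step 6: s₁ : T ⟶ W_U
    have hw : (yon S).map (t₁ ≫ c) ≫ a = (yon S).map t₀ ≫ (p ≫ g) := by
      rw [← Category.assoc ((yon S).map t₀), sq₂.w, Category.assoc, hx, Functor.map_comp,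
        Category.assoc]
    obtain ⟨s₁', hs₁a, hs₁b⟩ := sq₁.exists_lift ((yon S).map (t₁ ≫ c)) ((yon S).map t₀) hw
    obtain ⟨s₁, rfl⟩ := (yon S).map_surjective s₁'
    have hs₁k : s₁ ≫ k₁ = t₁ ≫ c :=
      (yon S).map_injective (by rw [Functor.map_comp]; exact hs₁a)
    -- step 7: s' : T ⟶ W'
    let s' : T ⟶ pullback k₁ c := pullback.lift s₁ t₁ hs₁k
    have hs'fst : s' ≫ pullback.fst k₁ c = s₁ := pullback.lift_fst _ _ _
    have hs'snd : s' ≫ pullback.snd k₁ c = t₁ := pullback.lift_snd _ _ _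
    -- step 8: W'' = W' ×_{U'} T
    let W'' : Over S := pullback (pullback.snd k₁ c) t₁
    let s'' : T ⟶ W'' := pullback.lift s' (𝟙 T) (by rw [hs'snd, Category.id_comp])
    have hs''snd : s'' ≫ pullback.snd (pullback.snd k₁ c) t₁ = 𝟙 T := pullback.lift_snd _ _ _
    have sqW'' : IsPullback (pullback.fst (pullback.snd k₁ c) t₁).left
        (pullback.snd (pullback.snd k₁ c) t₁).left (pullback.snd k₁ c).left t₁.left :=
      (IsPullback.of_hasPullback (pullback.snd k₁ c) t₁).map (Over.forget S)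
    have hfst''e : Etale (pullback.fst (pullback.snd k₁ c) t₁).left :=
      MorphismProperty.of_isPullback (P := @Etale) sqW''.flip ht₁e
    -- step 9
    have hH3 : P ((pullback.fst (pullback.snd k₁ c) t₁).left ≫
        (pullback.fst k₁ c).left ≫ (k₁ ≫ k).left) :=
      hpre _ _ inferInstance inferInstance hH2
    have hβ : (pullback.fst (pullback.snd k₁ c) t₁) ≫ (pullback.fst k₁ c) ≫ (k₁ ≫ k) =
        (pullback.snd (pullback.snd k₁ c) t₁) ≫ (t₁ ≫ c ≫ k) := by
      rw [← Category.assoc (pullback.fst k₁ c), pullback.condition, Category.assoc,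
        ← Category.assoc (pullback.fst (pullback.snd k₁ c) t₁), pullback.condition]
      simp only [Category.assoc]
    have hH4 : P ((pullback.snd (pullback.snd k₁ c) t₁).left ≫ (t₁ ≫ c ≫ k).left) := by
      have := congrArg (fun m : W'' ⟶ V => m.left) hβ
      simp only [Over.comp_left] at this hH3 ⊢
      rw [← this]
      exact hH3
    -- step 10: retract
    have hsp : s''.left ≫ (pullback.snd (pullback.snd k₁ c) t₁).left = 𝟙 T.left := by
      rw [← Over.comp_left, hs''snd]; rfl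
    have hH5 : P (t₁ ≫ c ≫ k).left := hretract s''.left _ hsp _ hH4
    -- step 11
    refine ⟨T.left, (t₁ ≫ c).left, ?_, ⟨?_, ?_⟩, ?_⟩
    · obtain ⟨τ, hτ⟩ := ht₁s.surj u'
      exact ⟨τ, by rw [Over.comp_left, Scheme.Hom.comp_apply, hτ, hcu]⟩
    · rw [Over.comp_left]; infer_instance
    · rw [Over.comp_left]; infer_instance
    · simpa only [Over.comp_left, Category.assoc] using hH5
  choose B β hu hQ hP using key
  exact hdesc k.left B β hu hQ hP

theorem locP_flat_of_comp {X Y Z : Sp S} (hX : IsAlgSpace X) (g : X ⟶ Y) (h : Y ⟶ Z)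
    (hg : Sheaf.IsLocallySurjective g) (hgh : LocP @Flat (g ≫ h)) : LocP @Flat h :=
  locP_of_comp_of_isLocallySurjective (P := @Flat)
    (fun e f he _ hf => by
      haveI : Flat e := he
      haveI : Flat f := hf
      infer_instance)
    (fun s p hsp ψ hψ => Groth.Agent.Lib.helper5.RetractMor.flat_of_retract' s p hsp ψ hψ)
    (fun h B β hx hQ hP => Groth.Agent.Lib.helper5.LocSrc.desc_family (P := @Flat)
      (fun f q _ _ _ hfq => by
        haveI : Flat (f ≫ q) := hfq
        exact Groth.Agent.Lib.helper22.flat_of_flat_comp f q) h B β hx hQ hP)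
    hX g h hg hgh

theorem locP_lft_of_comp {X Y Z : Sp S} (hX : IsAlgSpace X) (g : X ⟶ Y) (h : Y ⟶ Z)
    (hg : Sheaf.IsLocallySurjective g) (hgh : LocP @LocallyOfFiniteType (g ≫ h)) :
    LocP @LocallyOfFiniteType h :=
  locP_of_comp_of_isLocallySurjective (P := @LocallyOfFiniteType)
    (fun e f _ he hf => by
      haveI : LocallyOfFinitePresentation e := he
      haveI : LocallyOfFiniteType f := hf
      infer_instance)
    (fun s p hsp ψ hψ =>
      Groth.Agent.Lib.helper5.RetractMor.locallyOfFiniteType_of_retract s p hsp ψ hψ)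
    (fun h B β hx hQ hP => Groth.Agent.Lib.helper5.LocSrc.desc_family (P := @LocallyOfFiniteType)
      (fun f q _ _ _ hfq => by
        haveI : LocallyOfFiniteType (f ≫ q) := hfq
        exact Groth.Agent.Lib.helper5.FppfSource.locallyOfFiniteType_of_comp f q) h B β hx hQ hP)
    hX g h hg hgh

theorem locP_lfp_of_comp {X Y Z : Sp S} (hX : IsAlgSpace X) (g : X ⟶ Y) (h : Y ⟶ Z)
    (hg : Sheaf.IsLocallySurjective g) (hgh : LocP @LocallyOfFinitePresentation (g ≫ h)) :
    LocP @LocallyOfFinitePresentation h :=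
  locP_of_comp_of_isLocallySurjective (P := @LocallyOfFinitePresentation)
    (fun e f _ he hf => by
      haveI : LocallyOfFinitePresentation e := he
      haveI : LocallyOfFinitePresentation f := hf
      infer_instance)
    (fun s p hsp ψ hψ =>
      Groth.Agent.Lib.helper5.RetractMor.locallyOfFinitePresentation_of_retract s p hsp ψ hψ)
    (fun h B β hx hQ hP =>
      Groth.Agent.Lib.helper5.LocSrc.desc_family (P := @LocallyOfFinitePresentation)
      (fun f q _ _ _ hfq => by
        haveI : LocallyOfFinitePresentation (f ≫ q) := hfq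
        exact Groth.Agent.Lib.helper5.FppfSource.locallyOfFinitePresentation_of_comp f q)
      h B β hx hQ hP)
    hX g h hg hgh

end Groth.Agent.Lib.helper5.LocSurjComp
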