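import Mathlib
import Groth.Agent.S10103
import Groth.Agent.Lib.Helper14.AlgSpQuot1
import Groth.Agent.Lib.Helper14.RepSh6
import Groth.Agent.Lib.Helper1.MonoSp
import Groth.Agent.Lib.Helper5.AlgSpLocSurjComp
import Groth.Agent.Lib.Helper5.FppfBoot4
import Groth.Agent.Lib.Helper5.AlgSpLocPInst
import Groth.Agent.Lib.Helper5.AlgSpCoprod
import Groth.Agent.Lib.Helper5.FieldQuot
import Groth.Agent.Lib.Helper5.AlgSpEpi
import Groth.Agent.Lib.Helper5.AlgSpInf2
import Groth.Agent.Lib.Helper4.FlatDescends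

/-!
# The fppf image factorisation of a morphism locally of finite presentation (helper5)

Let `f : X ⟶ Y` be locally of finite presentation.

* `flat_fst_of_factor`: if `f = f' ≫ f''` with `f'` flat and `f''` a monomorphism then
  `pr₁ : X ×_Y X ⟶ X` is flat.
* `exists_factor`: if `pr₁ : X ×_Y X ⟶ X` is flat then `f = f' ≫ f''` with `f'` surjective, flat, lfp
  and `f''` a monomorphism.  (The fppf quotient sheaf of `X` by `X ×_Y X` is an algebraic space by Artin's
  theorem `S10103`; it is a subsheaf of the terminal sheaf `h_Y`, locally of finite type over it since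
  finite type is fppf local on the source, hence a scheme.)
* `exists_hom_of_factor`, `exists_iso_of_factor`: uniqueness of the factorisation.
-/

set_option autoImplicit false
universe u
open CategoryTheory CategoryTheory.Limits AlgebraicGeometry

namespace Groth.Agent.Lib.helper5.FppfImage

open AlgSp

variable {X Y : Scheme.{u}} (f : X ⟶ Y)

/-- `X` over `Y`. -/
abbrev objU : Over Y := Over.mk f

/-- `X ×_Y X` over `Y`. -/
noncomputable abbrev objR : Over Y := Over.mk (pullback.fst f f ≫ f)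

/-- the first projection, over `Y` -/
noncomputable abbrev relS : objR f ⟶ objU f := Over.homMk (pullback.fst f f) rfl

/-- the second projection, over `Y` -/
noncomputable abbrev relT : objR f ⟶ objU f :=
  Over.homMk (pullback.snd f f) pullback.condition.symm

theorem exists_rel {T : Over Y} (a b : T ⟶ objU f) :
    ∃ r : T ⟶ objR f, r ≫ relT f = a ∧ r ≫ relS f = b := by
  have ha : a.left ≫ f = T.hom := Over.w a
  have hb : b.left ≫ f = T.hom := Over.w b
  refine ⟨Over.homMk (pullback.lift b.left a.left (by rw [ha, hb])) ?_, ?_, ?_⟩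
  · change pullback.lift b.left a.left _ ≫ pullback.fst f f ≫ f = T.hom
    rw [pullback.lift_fst_assoc, hb]
  · apply Over.OverMorphism.ext
    change pullback.lift b.left a.left _ ≫ pullback.snd f f = a.left
    exact pullback.lift_snd _ _ _
  · apply Over.OverMorphism.ext
    change pullback.lift b.left a.left _ ≫ pullback.fst f f = b.left
    exact pullback.lift_fst _ _ _

theorem isEqvRel : AlgSp.IsEqvRel (relS f) (relT f) where
  injective T r r' ht hs := by
    apply Over.OverMorphism.ext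
    apply pullback.hom_ext
    · exact congrArg CommaMorphism.left hs
    · exact congrArg CommaMorphism.left ht
  equivalence T :=
    ⟨fun a => exists_rel f a a, fun {a b} _ => exists_rel f b a, fun {a b c} _ _ => exists_rel f a c⟩

/-- `pr₁` is a base change of `f'` when `f = f' ≫ f''` with `f''` a monomorphism. -/
theorem isPullback_of_factor {X' : Scheme.{u}} (f' : X ⟶ X') (f'' : X' ⟶ Y) [Mono f'']
    (e : f' ≫ f'' = f) : IsPullback (pullback.fst f f) (pullback.snd f f) f' f' := by
  subst e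
  refine ⟨⟨by rw [← cancel_mono f'', Category.assoc, Category.assoc, pullback.condition]⟩,
    ⟨PullbackCone.IsLimit.mk _
      (fun s => pullback.lift s.fst s.snd (by
        rw [← Category.assoc, ← Category.assoc, s.condition]))
      (fun s => pullback.lift_fst _ _ _) (fun s => pullback.lift_snd _ _ _)
      (fun s m h1 h2 => ?_)⟩⟩
  apply pullback.hom_ext
  · rw [pullback.lift_fst]; exact h1
  · rw [pullback.lift_snd]; exact h2

theorem flat_fst_of_factor {X' : Scheme.{u}} (f' : X ⟶ X') (f'' : X' ⟶ Y) [Flat f'] [Mono f'']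
    (e : f' ≫ f'' = f) : Flat (pullback.fst f f) :=
  MorphismProperty.of_isPullback (P := @Flat) (isPullback_of_factor f f' f'' e).flip inferInstance

theorem exists_factor [LocallyOfFinitePresentation f] [Flat (pullback.fst f f)] :
    ∃ (X' : Scheme.{u}) (f' : X ⟶ X') (f'' : X' ⟶ Y),
      Surjective f' ∧ Flat f' ∧ LocallyOfFinitePresentation f' ∧ Mono f'' ∧ f' ≫ f'' = f := by
  have e_snd : pullback.snd f f = (pullbackSymmetry f f).hom ≫ pullback.fst f f := by simp
  haveI hsndF : Flat (pullback.snd f f) := by rw [e_snd]; infer_instance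
  haveI hfstP : LocallyOfFinitePresentation (pullback.fst f f) := inferInstance
  haveI hsndP : LocallyOfFinitePresentation (pullback.snd f f) := inferInstance
  have hsndS : Surjective (pullback.snd f f) := by
    constructor
    intro x
    refine ⟨pullback.diagonal f x, ?_⟩
    rw [← Scheme.Hom.comp_apply, pullback.diagonal_snd]
    rfl
  haveI : Flat (relS f).left := ‹Flat (pullback.fst f f)›
  haveI : LocallyOfFinitePresentation (relS f).left := hfstP
  haveI : Flat (relT f).left := hsndF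
  haveI : LocallyOfFinitePresentation (relT f).left := hsndP
  have hE := isEqvRel f
  have hF : IsAlgSpace (QuotSh.quot Scheme.fppfPrecoverage (relS f) (relT f)) :=
    Groth.Agent.S10103.result Y (relS f) (relT f) hE
  let F : Sp Y := QuotSh.quot Scheme.fppfPrecoverage (relS f) (relT f)
  let Yt : Over Y := Over.mk (𝟙 Y)
  let q : F ⟶ (yon Y).obj Yt := Groth.Agent.Lib.helper5.Coprod.isTerminalYon.from F
  let π : (yon Y).obj (objU f) ⟶ F := Groth.Agent.Lib.Helper14.AlgSpQuot.quotMap (relS f) (relT f)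
  have hk : IsPullback ((yon Y).map (relT f)) ((yon Y).map (relS f)) π π :=
    Groth.Agent.Lib.Helper14.AlgSpQuot.isPullback_quotMap hE
  have hπs : Sheaf.IsLocallySurjective π := (Sheaf.isLocallySurjective_iff_epi π).2 inferInstance
  -- `q` is a monomorphism
  haveI hqm : Mono q := by
    refine Groth.Agent.Lib.helper5.FieldQuot.mono_of_sections_unique q (fun T a b _ => ?_)
    have ha := (Groth.Agent.Lib.helper5.Epi.isLocallySurjective_iff π).1 hπs T a
    have hb := (Groth.Agent.Lib.helper5.Epi.isLocallySurjective_iff π).1 hπs T b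
    refine Groth.Agent.Lib.helper5.yon_hom_ext_of_cover a b _
      ((AlgSp.J Y).intersection_covering ha hb) ?_
    rintro T' t ⟨⟨x, hx⟩, ⟨y, hy⟩⟩
    obtain ⟨x', rfl⟩ := (yon Y).map_surjective x
    obtain ⟨y', rfl⟩ := (yon Y).map_surjective y
    obtain ⟨r, hr1, hr2⟩ := exists_rel f x' y'
    rw [← hx, ← hy, ← hr1, ← hr2, Functor.map_comp, Functor.map_comp, Category.assoc,
      Category.assoc, hk.w]
  -- `q` is locally of finite type
  have hq : LocP @LocallyOfFiniteType q := by
    refine Groth.Agent.Lib.helper5.LocSurjComp.locP_lft_of_comp (IsAlgSpace.yon_obj _) π q hπs ?_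
    have e : π ≫ q = (yon Y).map (Over.homMk f (Category.comp_id f) : objU f ⟶ Yt) :=
      Groth.Agent.Lib.helper5.Coprod.isTerminalYon.hom_ext _ _
    rw [e]
    exact Groth.Agent.Lib.helper5.FppfBoot.locP_yon_map_of
      Groth.Agent.Lib.helper5.LocPBC.locPData_lft _
      (show LocallyOfFiniteType f from inferInstance)
  -- hence `F` is a scheme
  obtain ⟨I, j, k, sq, hjm, -⟩ := Groth.Agent.H1.MonoSp.exists_rep_of_mono_lft hF
    (IsAlgSpace.yon_obj Yt) q hq (𝟙 _)
  haveI : IsIso k := sq.isIso_fst_of_isIso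
  obtain ⟨p', hp'⟩ := (yon Y).map_surjective (π ≫ inv k)
  have hrep : AlgSp.Representable π := hF.representable_from_yon π
  have key : ∀ (P : MorphismProperty Scheme.{u}) [P.IsStableUnderBaseChange]
      [IsZariskiLocalAtTarget P]
      [P.DescendsAlong (@Surjective ⊓ @Flat ⊓ @LocallyOfFinitePresentation)],
      P (pullback.snd f f) → P p'.left := by
    intro P _ _ _ hP
    have h1 : RepWith P π :=
      Groth.Agent.Lib.Helper14.AlgSpQuot.repWith_of_kernelPair P (relS f) (relT f) π hrep hk hP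
    have h2 : RepWith P (π ≫ inv k) := MorphismProperty.RespectsIso.postcomp _ _ _ h1
    rw [← hp'] at h2
    exact (repWith_yon_map_iff P p').1 h2
  haveI : Mono j := hjm
  have hj : j.left = I.hom := (Category.comp_id j.left).symm.trans (Over.w j)
  refine ⟨I.left, p'.left, I.hom, key @Surjective hsndS, key @Flat hsndF,
    key @LocallyOfFinitePresentation hsndP, ?_, Over.w p'⟩
  rw [← hj]
  infer_instance

theorem exists_hom_of_factor (X₁ X₂ : Scheme.{u}) (g₁ : X ⟶ X₁) (h₁ : X₁ ⟶ Y) (g₂ : X ⟶ X₂)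
    (h₂ : X₂ ⟶ Y) [Surjective g₁] [Flat g₁] [LocallyOfFinitePresentation g₁]
    (e₁ : g₁ ≫ h₁ = f) [Mono h₂] (e₂ : g₂ ≫ h₂ = f) :
    ∃ φ : X₁ ⟶ X₂, g₁ ≫ φ = g₂ ∧ φ ≫ h₂ = h₁ := by
  let G₁ : Over.mk f ⟶ Over.mk h₁ := Over.homMk g₁ e₁
  let G₂ : Over.mk f ⟶ Over.mk h₂ := Over.homMk g₂ e₂
  haveI : Flat G₁.left := ‹Flat g₁›
  haveI : LocallyOfFinitePresentation G₁.left := ‹LocallyOfFinitePresentation g₁›
  haveI : Surjective G₁.left := ‹Surjective g₁›
  haveI : Epi (QuotSh.repMap Scheme.fppfPrecoverage G₁) :=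
    Groth.Agent.Lib.Helper14.RepSh.epi_repMap_fppf G₁
  obtain ⟨σ, hσ, -⟩ := Groth.Agent.Lib.Helper14.RepSh.existsUnique_desc Scheme.fppfPrecoverage G₁
    (QuotSh.repMap Scheme.fppfPrecoverage G₂) (fun P z₁ z₂ _ => by
      have : z₁ ≫ G₂ = z₂ ≫ G₂ := by
        apply Over.OverMorphism.ext
        change z₁.left ≫ g₂ = z₂.left ≫ g₂
        rw [← cancel_mono h₂, Category.assoc, Category.assoc, e₂]
        exact (Over.w z₁).trans (Over.w z₂).symm
      rw [← Groth.Agent.Lib.Helper14.RepSh.repMap_comp, ← Groth.Agent.Lib.Helper14.RepSh.repMap_comp,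
        this])
  obtain ⟨Φ, rfl⟩ := Groth.Agent.Lib.Helper14.RepSh.exists_repMap_eq Scheme.fppfPrecoverage σ
  rw [← Groth.Agent.Lib.Helper14.RepSh.repMap_comp] at hσ
  have h := Groth.Agent.Lib.Helper14.RepSh.repMap_injective Scheme.fppfPrecoverage hσ
  refine ⟨Φ.left, ?_, Over.w Φ⟩
  exact (congrArg CommaMorphism.left h).symm

theorem exists_iso_of_factor (X₁ X₂ : Scheme.{u}) (g₁ : X ⟶ X₁) (h₁ : X₁ ⟶ Y) (g₂ : X ⟶ X₂)
    (h₂ : X₂ ⟶ Y) [Surjective g₁] [Flat g₁] [LocallyOfFinitePresentation g₁] [Mono h₁]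
    (e₁ : g₁ ≫ h₁ = f) [Surjective g₂] [Flat g₂] [LocallyOfFinitePresentation g₂] [Mono h₂]
    (e₂ : g₂ ≫ h₂ = f) :
    ∃ φ : X₁ ≅ X₂, g₁ ≫ φ.hom = g₂ ∧ φ.hom ≫ h₂ = h₁ := by
  obtain ⟨φ, hφ1, hφ2⟩ := exists_hom_of_factor f X₁ X₂ g₁ h₁ g₂ h₂ e₁ e₂
  obtain ⟨ψ, hψ1, hψ2⟩ := exists_hom_of_factor f X₂ X₁ g₂ h₂ g₁ h₁ e₂ e₁
  refine ⟨⟨φ, ψ, ?_, ?_⟩, hφ1, hφ2⟩
  · rw [← cancel_mono h₁, Category.assoc, hψ2, hφ2, Category.id_comp]
  · rw [← cancel_mono h₂, Category.assoc, hφ2, hψ2, Category.id_comp]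

end Groth.Agent.Lib.helper5.FppfImage
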