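import Mathlib
import Groth.Agent.Lib.Helper5.FppfImage1
import Groth.Agent.Lib.Helper5.FppfSource4
import Groth.Agent.Lib.Helper18.LfpCancel
import Groth.Agent.Lib.Helper22.ActPts

/-!
# fppf image factorisation over a base, quotient by a flat stabilizer (helper5)

* `isPullback_of_comp_mono`: a pullback square over `p ≫ i, p' ≫ i` with `i` mono is a pullback over `p, p'`.
* `exists_factor_over`: for `o : G ⟶ X` over `S`, `G` lfp and `X` lft over `S`, with `pr₁ : G ×_X G ⟶ G` flat:
  `o = p ≫ i`, `p` fppf, `i` mono, and the middle object is lfp over `S`.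
* `exists_quotient_by_flat_stabilizer` (S4093).
-/

set_option autoImplicit false
universe u
open CategoryTheory MonoidalCategory CartesianMonoidalCategory MonObj AlgebraicGeometry
  CategoryTheory.Limits

namespace Groth.Agent.Lib.helper5.FppfImage

theorem isPullback_of_comp_mono {C : Type*} [Category C] {P A A' B B' : C} {a : P ⟶ A}
    {b : P ⟶ A'} {p : A ⟶ B} {p' : A' ⟶ B} (i : B ⟶ B') [Mono i]
    (h : IsPullback a b (p ≫ i) (p' ≫ i)) : IsPullback a b p p' := by
  apply Groth.Agent.Lib.helper22.isPullback_of_points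
  · rw [← cancel_mono i, Category.assoc, Category.assoc, h.w]
  · intro T s t hst
    exact ⟨h.lift s t (by rw [← Category.assoc, hst, Category.assoc]), h.lift_fst _ _ _,
      h.lift_snd _ _ _⟩
  · intro T l l' h1 h2
    exact h.hom_ext h1 h2

variable {S : Scheme.{u}}

theorem exists_factor_over {G X : Over S} (o : G ⟶ X) [LocallyOfFinitePresentation G.hom]
    [LocallyOfFiniteType X.hom] (hfl : Flat (pullback.fst o.left o.left)) :
    ∃ (Q : Over S) (p : G ⟶ Q) (i : Q ⟶ X), p ≫ i = o ∧ Surjective p.left ∧ Flat p.left ∧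
      LocallyOfFinitePresentation p.left ∧ Mono i ∧ LocallyOfFinitePresentation Q.hom := by
  haveI : LocallyOfFinitePresentation o.left := by
    refine Groth.Agent.Lib.Helper18.RelSmoothFiber.locallyOfFinitePresentation_of_comp o.left X.hom
      inferInstance ?_
    rw [Over.w o]
    infer_instance
  haveI := hfl
  obtain ⟨X', f', f'', hs, hf, hp, hm, e⟩ := exists_factor o.left
  haveI := hs
  haveI := hf
  haveI := hp
  haveI := hm
  have hw : f' ≫ f'' ≫ X.hom = G.hom := by rw [← Category.assoc, e, Over.w o]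
  let Q : Over S := Over.mk (f'' ≫ X.hom)
  let p : G ⟶ Q := Over.homMk f' hw
  let i : Q ⟶ X := Over.homMk f'' rfl
  have hi : Mono i := by
    haveI : Mono ((Over.forget S).map i) := hm
    exact (Over.forget S).mono_of_mono_map inferInstance
  refine ⟨Q, p, i, Over.OverMorphism.ext e, hs, hf, hp, hi, ?_⟩
  haveI : LocallyOfFinitePresentation (f' ≫ f'' ≫ X.hom) := by rw [hw]; infer_instance
  exact Groth.Agent.Lib.helper5.FppfSource.locallyOfFinitePresentation_of_comp f' (f'' ≫ X.hom)

/-- Quotient by a flat stabilizer (SGA3 V 10.1.2 / VI_A): S4093. -/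
theorem exists_quotient_by_flat_stabilizer (G X : Over S) [GrpObj G]
    [LocallyOfFinitePresentation G.hom] [LocallyOfFiniteType X.hom] (a : AlgGrp.Action G X)
    (ξ : 𝟙_ (Over S) ⟶ X) (hH : Flat (pullback (a.orbitMap ξ) ξ).hom) :
    ∃ (Q : Over S) (p : G ⟶ Q) (i : Q ⟶ X), p ≫ i = a.orbitMap ξ ∧
      Surjective p.left ∧ Flat p.left ∧ LocallyOfFinitePresentation p.left ∧ Mono i ∧
      LocallyOfFinitePresentation Q.hom ∧
      IsPullback ((G ◁ pullback.fst (a.orbitMap ξ) ξ) ≫ μ[G]) (fst G (pullback (a.orbitMap ξ) ξ))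
        p p := by
  have hGo : IsPullback (pullback.fst (a.orbitMap ξ) ξ) (toUnit (pullback (a.orbitMap ξ) ξ))
      (a.orbitMap ξ) ξ := by
    rw [toUnit_unique (toUnit (pullback (a.orbitMap ξ) ξ)) (pullback.snd (a.orbitMap ξ) ξ)]
    exact IsPullback.of_hasPullback _ _
  have sq := Groth.Agent.Lib.helper22.isPullback_shear_of_stabilizer a ξ _ hGo
  have sqL : IsPullback (fst G (pullback (a.orbitMap ξ) ξ)).left
      ((G ◁ pullback.fst (a.orbitMap ξ) ξ) ≫ μ[G]).left (a.orbitMap ξ).left (a.orbitMap ξ).left :=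
    sq.map (Over.forget S)
  have hfl : Flat (pullback.fst (a.orbitMap ξ).left (a.orbitMap ξ).left) := by
    have e1 := sqL.isoPullback_inv_fst
    rw [← e1]
    haveI : Flat (fst G (pullback (a.orbitMap ξ) ξ)).left := by
      rw [Over.fst_left]
      haveI := hH
      infer_instance
    infer_instance
  obtain ⟨Q, p, i, e, hs, hf, hp, hi, hQ⟩ := exists_factor_over (a.orbitMap ξ) hfl
  refine ⟨Q, p, i, e, hs, hf, hp, hi, hQ, ?_⟩
  haveI := hi
  apply isPullback_of_comp_mono i
  rw [e]
  exact sq.flip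

end Groth.Agent.Lib.helper5.FppfImage
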