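import Groth.Agent.Lib.Helper5.GrpHomLocus3

/-!
# A homomorphism of group schemes as an orbit map (helper5)

`u : G ⟶ H` a homomorphism of `S`-group schemes.  `G` acts on `H` by `g · h = u(g) h` and `u` is the
orbit map of the unit section.  Consequence (SGA3 VI_B 1.3): if `G` is flat over `S` and `u` is flat
at a point `g₀`, then it is flat at every point with the same image in `S`.

* `actOfHom u`, `orbitMap_actOfHom`
* `flat_hom_at_of_flat_at`
-/

set_option autoImplicit false
set_option backward.isDefEq.respectTransparency false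
universe u
open CategoryTheory CategoryTheory.Limits MonoidalCategory CartesianMonoidalCategory MonObj
  AlgebraicGeometry

namespace Groth.Agent.Lib.helper5.GrpHomLocus

variable {S : Scheme.{u}} {G H : Over S} [GrpObj G] [GrpObj H] (u : G ⟶ H) [IsMonHom u]

omit [GrpObj G] [IsMonHom u] in
theorem act_eq : (u ▷ H) ≫ μ[H] = (fst G H ≫ u) * snd G H := by
  rw [MonObj.mul_eq_mul, MonObj.comp_mul, whiskerRight_fst, whiskerRight_snd]

/-- the action of `G` on `H` by left translation through `u`. -/
noncomputable def actOfHom : AlgGrp.Action G H where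
  act := (u ▷ H) ≫ μ[H]
  one_act := by
    rw [← Category.assoc, ← comp_whiskerRight, IsMonHom.one_hom, MonObj.one_mul]
  mul_act := by
    rw [act_eq]
    have hL : (μ[G] ▷ H) ≫ ((fst G H ≫ u) * snd G H) =
        ((fst (G ⊗ G) H ≫ fst G G ≫ u) * (fst (G ⊗ G) H ≫ snd G G ≫ u)) * snd (G ⊗ G) H := by
      rw [MonObj.comp_mul, whiskerRight_fst_assoc, whiskerRight_snd, MonObj.mul_eq_mul,
        MonObj.mul_comp, MonObj.comp_mul]
    have hR : (α_ G G H).hom ≫ (G ◁ ((fst G H ≫ u) * snd G H)) ≫ ((fst G H ≫ u) * snd G H) =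
        (fst (G ⊗ G) H ≫ fst G G ≫ u) * ((fst (G ⊗ G) H ≫ snd G G ≫ u) * snd (G ⊗ G) H) := by
      rw [MonObj.comp_mul, MonObj.comp_mul, whiskerLeft_fst_assoc, whiskerLeft_snd,
        MonObj.comp_mul, MonObj.comp_mul]
      simp only [Category.assoc, associator_hom_fst_assoc, associator_hom_snd_fst_assoc,
        associator_hom_snd_snd]
    rw [hL, hR, _root_.mul_assoc]

theorem orbitMap_actOfHom : (actOfHom u).orbitMap η[H] = u := by
  unfold AlgGrp.Action.orbitMap actOfHom
  dsimp only
  rw [act_eq, MonObj.comp_mul, lift_fst_assoc, lift_snd, Category.id_comp, ← Hom.one_def,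
    _root_.mul_one]

/-- homogeneity of the flat locus of a homomorphism from a flat group scheme. -/
theorem flat_hom_at_of_flat_at [Flat G.hom] (g₀ g : G.left) (hfib : G.hom g₀ = G.hom g)
    (h : (u.left.stalkMap g₀).hom.Flat) : (u.left.stalkMap g).hom.Flat := by
  have h1 := flat_orbitMap_at_of_flat_at (actOfHom u) η[H] g₀ g hfib
  rw [orbitMap_actOfHom] at h1
  exact h1 h

end Groth.Agent.Lib.helper5.GrpHomLocus
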