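import Mathlib
import Groth.Agent.Lib.Helper5.FppfImage2
import Groth.Agent.Lib.Helper5.GrpHomOrbit
import Groth.Agent.Lib.Helper14.GrpQuot8

/-!
# Quotient of a group scheme by a flat kernel (helper5)

* `prop_tensorHom_left`: base change stable properties pass to `f ⊗ₘ g` in `Over S`.
* `exists_desc_of_mono`: descent of a morphism along an fppf cover, into a subobject.
* `exists_quotient_by_flat_kernel` (S4094).
-/

set_option autoImplicit false
universe u
open CategoryTheory MonoidalCategory CartesianMonoidalCategory MonObj AlgebraicGeometry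
  CategoryTheory.Limits

namespace Groth.Agent.Lib.helper5.FppfImage

variable {S : Scheme.{u}}

theorem prop_tensorHom_left (P : MorphismProperty Scheme.{u}) [P.IsStableUnderBaseChange]
    [P.IsStableUnderComposition] {A B C D : Over S} (f : A ⟶ B) (g : C ⟶ D) (hf : P f.left)
    (hg : P g.left) : P (f ⊗ₘ g).left := by
  rw [Over.tensorHom_left]
  exact MorphismProperty.pullbackMap hf hg (Over.w f).symm (Over.w g).symm

theorem epi_of_flat_surjective {A B : Over S} (π : A ⟶ B) [Flat π.left] [Surjective π.left] :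
    Epi π := by
  haveI : Epi ((Over.forget S).map π) := Flat.epi_of_flat_of_surjective π.left
  exact (Over.forget S).epi_of_epi_map inferInstance

/-- Descent of a morphism along an fppf cover `π : A ⟶ B`, into a subobject `i : Q ⟶ H`. -/
theorem exists_desc_of_mono {A B Q H : Over S} (π : A ⟶ B) [Flat π.left]
    [LocallyOfFinitePresentation π.left] [Surjective π.left] (φ : A ⟶ Q) (i : Q ⟶ H) [Mono i]
    (ψ : B ⟶ H) (h : φ ≫ i = π ≫ ψ) : ∃ σ : B ⟶ Q, π ≫ σ = φ ∧ σ ≫ i = ψ := by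
  haveI : Epi (QuotSh.repMap Scheme.fppfPrecoverage π) :=
    Groth.Agent.Lib.Helper14.RepSh.epi_repMap_fppf π
  obtain ⟨σ, hσ, -⟩ := Groth.Agent.Lib.Helper14.RepSh.existsUnique_desc Scheme.fppfPrecoverage π
    (QuotSh.repMap Scheme.fppfPrecoverage φ) (fun P z₁ z₂ hz => by
      have : z₁ ≫ φ = z₂ ≫ φ := by
        rw [← cancel_mono i, Category.assoc, Category.assoc, h, ← Category.assoc, hz,
          Category.assoc]
      rw [← Groth.Agent.Lib.Helper14.RepSh.repMap_comp, ← Groth.Agent.Lib.Helper14.RepSh.repMap_comp,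
        this])
  obtain ⟨Φ, rfl⟩ := Groth.Agent.Lib.Helper14.RepSh.exists_repMap_eq Scheme.fppfPrecoverage σ
  rw [← Groth.Agent.Lib.Helper14.RepSh.repMap_comp] at hσ
  have h1 : π ≫ Φ = φ := (Groth.Agent.Lib.Helper14.RepSh.repMap_injective Scheme.fppfPrecoverage hσ).symm
  refine ⟨Φ, h1, ?_⟩
  haveI := epi_of_flat_surjective π
  rw [← cancel_epi π, ← Category.assoc, h1, h]

/-- Quotient of a group scheme by a flat kernel: S4094. -/
theorem exists_quotient_by_flat_kernel (G H : Over S) [GrpObj G] [GrpObj H]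
    [LocallyOfFinitePresentation G.hom] [LocallyOfFiniteType H.hom] (u : G ⟶ H) [IsMonHom u]
    (hK : Flat (pullback u η[H]).hom) :
    ∃ (Q : Over S) (_ : GrpObj Q) (p : G ⟶ Q) (i : Q ⟶ H), IsMonHom p ∧ IsMonHom i ∧ p ≫ i = u ∧
      Surjective p.left ∧ Flat p.left ∧ LocallyOfFinitePresentation p.left ∧ Mono i ∧
      LocallyOfFinitePresentation Q.hom ∧ AlgGrp.IsKernel (pullback.fst u η[H]) p := by
  have hK0 : IsPullback (pullback.fst u η[H]) (toUnit (pullback u η[H])) u η[H] := by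
    rw [toUnit_unique (toUnit (pullback u η[H])) (pullback.snd u η[H])]
    exact IsPullback.of_hasPullback _ _
  -- `pr₁ : G ×_H G ⟶ G` is flat
  have hfl : Flat (pullback.fst u.left u.left) := by
    have hGo : IsPullback (pullback.fst u η[H]) (toUnit (pullback u η[H]))
        ((Groth.Agent.Lib.helper5.GrpHomLocus.actOfHom u).orbitMap η[H]) η[H] := by
      rw [Groth.Agent.Lib.helper5.GrpHomLocus.orbitMap_actOfHom]
      exact hK0
    have sq := Groth.Agent.Lib.helper22.isPullback_shear_of_stabilizer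
      (Groth.Agent.Lib.helper5.GrpHomLocus.actOfHom u) η[H] _ hGo
    rw [Groth.Agent.Lib.helper5.GrpHomLocus.orbitMap_actOfHom] at sq
    have sqL : IsPullback (fst G (pullback u η[H])).left
        ((G ◁ pullback.fst u η[H]) ≫ μ[G]).left u.left u.left := sq.map (Over.forget S)
    have e1 := sqL.isoPullback_inv_fst
    rw [← e1]
    haveI : Flat (fst G (pullback u η[H])).left := by
      rw [Over.fst_left]
      haveI := hK
      infer_instance
    infer_instance
  obtain ⟨Q, p, i, e, hs, hf, hp, hi, hQ⟩ := exists_factor_over u hfl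
  haveI := hs
  haveI := hf
  haveI := hp
  haveI := hi
  -- fppf covers
  have hpp : (@Surjective ⊓ @Flat ⊓ @LocallyOfFinitePresentation : MorphismProperty Scheme.{u})
      (p ⊗ₘ p).left :=
    prop_tensorHom_left _ p p ⟨⟨hs, hf⟩, hp⟩ ⟨⟨hs, hf⟩, hp⟩
  have hppp : (@Surjective ⊓ @Flat ⊓ @LocallyOfFinitePresentation : MorphismProperty Scheme.{u})
      ((p ⊗ₘ p) ⊗ₘ p).left :=
    prop_tensorHom_left _ (p ⊗ₘ p) p hpp ⟨⟨hs, hf⟩, hp⟩
  haveI : Surjective (p ⊗ₘ p).left := hpp.1.1
  haveI : Flat (p ⊗ₘ p).left := hpp.1.2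
  haveI : LocallyOfFinitePresentation (p ⊗ₘ p).left := hpp.2
  haveI : Surjective ((p ⊗ₘ p) ⊗ₘ p).left := hppp.1.1
  haveI : Flat ((p ⊗ₘ p) ⊗ₘ p).left := hppp.1.2
  haveI : Epi p := epi_of_flat_surjective p
  haveI : Epi ((p ⊗ₘ p) ⊗ₘ p) := epi_of_flat_surjective _
  -- multiplication and inverse on `Q`
  obtain ⟨m, hm, hmi⟩ := exists_desc_of_mono (p ⊗ₘ p) (μ[G] ≫ p) i ((i ⊗ₘ i) ≫ μ[H]) (by
    rw [Category.assoc, e, IsMonHom.mul_hom, ← Category.assoc, tensorHom_comp_tensorHom, e])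
  obtain ⟨v, hv, hvi⟩ := exists_desc_of_mono p (ι[G] ≫ p) i (i ≫ ι[H]) (by
    rw [Category.assoc, e, GrpObj.inv_hom, ← Category.assoc, e])
  let str : GrpObj Q := Groth.Agent.Lib.Helper14.GrpQuot.grpObjOfEpi' p m hm v hv
  have hone : η[Q] ≫ i = η[H] := by
    change (η[G] ≫ p) ≫ i = η[H]
    rw [Category.assoc, e, IsMonHom.one_hom]
  refine ⟨Q, str, p, i, @IsMonHom.mk _ _ _ G Q _ str.toMonObj p rfl hm.symm,
    @IsMonHom.mk _ _ _ Q H str.toMonObj _ i hone hmi, e, hs, hf, hp, hi, hQ, ?_⟩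
  change IsPullback (pullback.fst u η[H]) (toUnit (pullback u η[H])) p η[Q]
  apply isPullback_of_comp_mono i
  rw [e, hone]
  exact hK0

end Groth.Agent.Lib.helper5.FppfImage
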