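import Mathlib
import Groth.Agent.Lib.Helper5.FppfImage3
import Groth.Agent.Lib.Helper22.FlatSrc

/-!
# The image of the graph morphism of an action (helper5)

`G` acts on `X` over `S`, `d = (g, x) ↦ (g x, x) : G × X ⟶ X × X`, `F = d⁻¹(Δ)` the stabilizer of the diagonal.

* `isPullback_dMap`: `G × F ≅ (G × X) ×_{X × X} (G × X)`, `(g, (h, x)) ↦ ((g, x), (g h, x))`.
* `isPullback_unit`: `F ⟶ X` is the base change of `G ◁ (F ⟶ X)` along the unit section.
* `flat_fst_iff` : `pr₁` of the kernel pair of `d` is flat iff `F ⟶ X` is flat.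
* `image_graph` (S4096).
-/

set_option autoImplicit false
universe u
open CategoryTheory MonoidalCategory CartesianMonoidalCategory MonObj AlgebraicGeometry
  CategoryTheory.Limits

namespace Groth.Agent.Lib.helper5.FppfImage

open Groth.Agent.Lib.helper22

variable {S : Scheme.{u}} {G X : Over S} [GrpObj G] (a : AlgGrp.Action G X)

/-- `(g, x) ↦ (g x, x)` -/
noncomputable abbrev dMap : G ⊗ X ⟶ X ⊗ X := lift a.act (snd G X)

theorem comp_dMap {T : Over S} (w : T ⟶ G ⊗ X) :
    w ≫ dMap a = lift (smul a (w ≫ fst G X) (w ≫ snd G X)) (w ≫ snd G X) := by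
  rw [comp_lift, act_eq_smul a, comp_smul]

/-- the stabilizer of the diagonal -/
noncomputable abbrev stabF : Over S := pullback (dMap a) (lift (𝟙 X) (𝟙 X))

/-- `F ⟶ G × X` -/
noncomputable abbrev stabι : stabF a ⟶ G ⊗ X := pullback.fst (dMap a) (lift (𝟙 X) (𝟙 X))

/-- `F ⟶ X` -/
noncomputable abbrev stabφ : stabF a ⟶ X := pullback.snd (dMap a) (lift (𝟙 X) (𝟙 X))

theorem stab_cond {T : Over S} (f : T ⟶ stabF a) :
    lift (smul a (f ≫ stabι a ≫ fst G X) (f ≫ stabι a ≫ snd G X)) (f ≫ stabι a ≫ snd G X) =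
      lift (f ≫ stabφ a) (f ≫ stabφ a) := by
  have h := congrArg (fun k => f ≫ k) (pullback.condition (f := dMap a) (g := lift (𝟙 X) (𝟙 X)))
  rw [← Category.assoc, comp_dMap, Category.assoc, Category.assoc] at h
  rw [h]
  simp only [comp_lift, Category.comp_id]

theorem stab_snd {T : Over S} (f : T ⟶ stabF a) : f ≫ stabι a ≫ snd G X = f ≫ stabφ a := by
  have h := congrArg (fun k => k ≫ snd X X) (stab_cond a f)
  simpa using h

theorem stab_smul {T : Over S} (f : T ⟶ stabF a) :
    smul a (f ≫ stabι a ≫ fst G X) (f ≫ stabφ a) = f ≫ stabφ a := by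
  have h := congrArg (fun k => k ≫ fst X X) (stab_cond a f)
  simp only [lift_fst] at h
  rw [stab_snd] at h
  exact h

/-- `(g, (h, x)) ↦ (g h, x)` -/
noncomputable abbrev mTwo : G ⊗ stabF a ⟶ G ⊗ X :=
  lift (fst G (stabF a) * (snd G (stabF a) ≫ stabι a ≫ fst G X)) (snd G (stabF a) ≫ stabφ a)

theorem isPullback_dMap :
    IsPullback (G ◁ stabφ a) (mTwo a) (dMap a) (dMap a) := by
  apply isPullback_of_points
  · rw [comp_dMap, comp_dMap, whiskerLeft_fst, whiskerLeft_snd, lift_fst, lift_snd, helper22.mul_smul,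
      stab_smul]
  · intro T s t hst
    rw [comp_dMap, comp_dMap] at hst
    have h2 : s ≫ snd G X = t ≫ snd G X := by
      have := congrArg (fun k => k ≫ snd X X) hst
      simpa using this
    have h1 : smul a (s ≫ fst G X) (s ≫ snd G X) = smul a (t ≫ fst G X) (t ≫ snd G X) := by
      have := congrArg (fun k => k ≫ fst X X) hst
      simpa using this
    have hc : lift ((s ≫ fst G X)⁻¹ * (t ≫ fst G X)) (s ≫ snd G X) ≫ dMap a =
        (s ≫ snd G X) ≫ lift (𝟙 X) (𝟙 X) := by
      rw [comp_dMap, lift_fst, lift_snd, comp_lift, Category.comp_id, helper22.mul_smul]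
      have h3 : smul a (t ≫ fst G X) (s ≫ snd G X) = smul a (s ≫ fst G X) (s ≫ snd G X) := by
        rw [h1, h2]
      rw [h3, helper22.inv_smul_smul]
    let f : T ⟶ stabF a := pullback.lift _ _ hc
    have hf1 : f ≫ stabι a = lift ((s ≫ fst G X)⁻¹ * (t ≫ fst G X)) (s ≫ snd G X) :=
      pullback.lift_fst _ _ _
    have hf2 : f ≫ stabφ a = s ≫ snd G X := pullback.lift_snd _ _ _
    refine ⟨lift (s ≫ fst G X) f, ?_, ?_⟩
    · rw [lift_whiskerLeft, hf2, lift_comp_fst_snd]
    · rw [comp_lift, MonObj.comp_mul, lift_fst, lift_snd_assoc, lift_snd_assoc, hf2,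
        ← Category.assoc, hf1, lift_fst, mul_inv_cancel_left, h2, lift_comp_fst_snd]
  · intro T l l' h1 h2
    have e1 : l ≫ fst G (stabF a) = l' ≫ fst G (stabF a) := by
      have := congrArg (fun k => k ≫ fst G X) h1
      simpa using this
    have e2 : l ≫ snd G (stabF a) ≫ stabφ a = l' ≫ snd G (stabF a) ≫ stabφ a := by
      have := congrArg (fun k => k ≫ snd G X) h1
      simpa using this
    have e3 : l ≫ snd G (stabF a) ≫ stabι a ≫ fst G X =
        l' ≫ snd G (stabF a) ≫ stabι a ≫ fst G X := by
      have := congrArg (fun k => k ≫ fst G X) h2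
      simp only [Category.assoc, lift_fst, MonObj.comp_mul] at this
      rw [e1] at this
      exact mul_left_cancel this
    apply CartesianMonoidalCategory.hom_ext
    · exact e1
    · apply pullback.hom_ext
      · apply CartesianMonoidalCategory.hom_ext
        · simpa using e3
        · have s1 := stab_snd a (l ≫ snd G (stabF a))
          have s2 := stab_snd a (l' ≫ snd G (stabF a))
          simp only [Category.assoc] at s1 s2 ⊢
          rw [s1, s2, e2]
      · simpa using e2

/-- `F ⟶ X` is the base change of `G ◁ (F ⟶ X)` along the unit section. -/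
theorem isPullback_unit :
    IsPullback (lift (toUnit (stabF a) ≫ η[G]) (𝟙 (stabF a))) (stabφ a) (G ◁ stabφ a)
      (lift (toUnit X ≫ η[G]) (𝟙 X)) := by
  apply isPullback_of_points
  · rw [lift_whiskerLeft, comp_lift, Category.id_comp, Category.comp_id, ← Category.assoc,
      toUnit_unique (stabφ a ≫ toUnit X) (toUnit (stabF a))]
  · intro T s t hst
    refine ⟨s ≫ snd G (stabF a), ?_, ?_⟩
    · rw [comp_lift, Category.comp_id]
      have h1 : s ≫ fst G (stabF a) = toUnit T ≫ η[G] := by
        have := congrArg (fun k => k ≫ fst G X) hst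
        simp only [Category.assoc, whiskerLeft_fst, lift_fst] at this
        rw [this, ← Category.assoc, toUnit_unique (t ≫ toUnit X) (toUnit T)]
      rw [← Category.assoc, toUnit_unique ((s ≫ snd G (stabF a)) ≫ toUnit (stabF a)) (toUnit T),
        ← h1, lift_comp_fst_snd]
    · have := congrArg (fun k => k ≫ snd G X) hst
      simpa using this
  · intro T l l' h1 _
    have := congrArg (fun k => k ≫ snd G (stabF a)) h1
    simpa using this

theorem flat_fst_iff :
    Flat (pullback.fst (dMap a).left (dMap a).left) ↔ Flat (stabφ a).left := by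
  have sqL : IsPullback (G ◁ stabφ a).left (mTwo a).left (dMap a).left (dMap a).left :=
    (isPullback_dMap a).map (Over.forget S)
  have e1 := sqL.isoPullback_inv_fst
  have e2 := sqL.isoPullback_hom_fst
  have key : Flat (pullback.fst (dMap a).left (dMap a).left) ↔ Flat (G ◁ stabφ a).left := by
    constructor
    · intro h
      rw [← e2]
      infer_instance
    · intro h
      rw [← e1]
      infer_instance
  rw [key]
  constructor
  · intro h
    have sqU : IsPullback (lift (toUnit (stabF a) ≫ η[G]) (𝟙 (stabF a))).left (stabφ a).left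
        (G ◁ stabφ a).left (lift (toUnit X ≫ η[G]) (𝟙 X)).left :=
      (isPullback_unit a).map (Over.forget S)
    exact MorphismProperty.of_isPullback (P := @Flat) sqU h
  · intro h
    have : G ◁ stabφ a = 𝟙 G ⊗ₘ stabφ a := (id_tensorHom G (stabφ a)).symm
    rw [this]
    exact prop_tensorHom_left @Flat (𝟙 G) (stabφ a) (by dsimp; infer_instance) h

section descent

theorem quasiCompact_of_comp_surjective {A B C : Scheme.{u}} (ψ : A ⟶ B) (q : B ⟶ C)
    [Surjective ψ] [QuasiCompact (ψ ≫ q)] : QuasiCompact q := by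
  constructor
  intro U hU hUc
  have h := QuasiCompact.isCompact_preimage (f := ψ ≫ q) U hU hUc
  have e : q ⁻¹' U = ψ '' ((ψ ≫ q) ⁻¹' U) := by
    ext y
    constructor
    · intro hy
      obtain ⟨x, rfl⟩ := ψ.surjective y
      exact ⟨x, by simpa using hy, rfl⟩
    · rintro ⟨x, hx, rfl⟩
      simpa using hx
  rw [e]
  exact h.image ψ.continuous

theorem quasiSeparated_of_quasiSeparatedSpace {B C : Scheme.{u}} (q : B ⟶ C)
    [QuasiSeparatedSpace B] : QuasiSeparated q := by
  have h : QuasiSeparated (terminal.from B) :=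
    (quasiSeparatedSpace_iff_quasiSeparated B).1 inferInstance
  rw [← terminalIsTerminal.hom_ext (q ≫ terminal.from C) (terminal.from B)] at h
  exact QuasiSeparated.of_comp q (terminal.from C)

theorem lfp_of_lft_noeth {A B : Scheme.{u}} (F : A ⟶ B) [IsLocallyNoetherian B]
    [LocallyOfFiniteType F] : LocallyOfFinitePresentation F := by
  rw [HasRingHomProperty.iff_appLE (P := @LocallyOfFinitePresentation)]
  intro U V e
  have := IsLocallyNoetherian.component_noetherian U
  exact RingHom.FinitePresentation.of_finiteType.mp (F.finiteType_appLE U.2 V.2 e)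

/-- descent of the properties of `ψ ≫ q` to `q` along an fppf cover `ψ` of a locally Noetherian scheme. -/
theorem props_of_comp {A B C : Scheme.{u}} (ψ : A ⟶ B) (q : B ⟶ C) [Surjective ψ] [Flat ψ]
    [LocallyOfFinitePresentation ψ] [IsLocallyNoetherian B] (h1 : Surjective (ψ ≫ q))
    (h2 : Flat (ψ ≫ q)) (h3 : LocallyOfFinitePresentation (ψ ≫ q)) (h4 : QuasiCompact (ψ ≫ q)) :
    Surjective q ∧ Flat q ∧ LocallyOfFinitePresentation q ∧ QuasiCompact q ∧ QuasiSeparated q :=
  ⟨Surjective.of_comp ψ q, Groth.Agent.Lib.helper22.flat_of_flat_comp ψ q,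
    Groth.Agent.Lib.helper5.FppfSource.locallyOfFinitePresentation_of_comp ψ q,
    quasiCompact_of_comp_surjective ψ q, quasiSeparated_of_quasiSeparatedSpace q⟩

end descent

/-- The image of the graph morphism of an action: S4096. -/
theorem image_graph [IsNoetherian S] [Flat G.hom] [LocallyOfFiniteType G.hom] [QuasiCompact G.hom]
    [LocallyOfFiniteType X.hom] [QuasiCompact X.hom] :
    ((∃ (Y : Over S) (ψ : G ⊗ X ⟶ Y) (τ : Y ⟶ X ⊗ X), ψ ≫ τ = lift a.act (snd G X) ∧
        Surjective ψ.left ∧ Flat ψ.left ∧ LocallyOfFinitePresentation ψ.left ∧ Mono τ) ↔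
      Flat (pullback.snd (lift a.act (snd G X)) (lift (𝟙 X) (𝟙 X))).left) ∧
    (∀ (Y : Over S) (ψ : G ⊗ X ⟶ Y) (τ : Y ⟶ X ⊗ X), ψ ≫ τ = lift a.act (snd G X) →
      Surjective ψ.left → Flat ψ.left → LocallyOfFinitePresentation ψ.left → Mono τ →
      (Surjective (τ ≫ fst X X).left ∧ Flat (τ ≫ fst X X).left ∧
        LocallyOfFinitePresentation (τ ≫ fst X X).left ∧
        QuasiCompact (τ ≫ fst X X).left ∧ QuasiSeparated (τ ≫ fst X X).left ∧
       Surjective (τ ≫ snd X X).left ∧ Flat (τ ≫ snd X X).left ∧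
        LocallyOfFinitePresentation (τ ≫ snd X X).left ∧
        QuasiCompact (τ ≫ snd X X).left ∧ QuasiSeparated (τ ≫ snd X X).left)) := by
  haveI : IsLocallyNoetherian S := inferInstance
  haveI hGp : LocallyOfFinitePresentation G.hom := lfp_of_lft_noeth G.hom
  haveI hXp : LocallyOfFinitePresentation X.hom := lfp_of_lft_noeth X.hom
  haveI hGX : LocallyOfFinitePresentation (G ⊗ X).hom := by
    rw [Over.tensorObj_hom]; infer_instance
  haveI hXX : LocallyOfFiniteType (X ⊗ X).hom := by
    rw [Over.tensorObj_hom]; infer_instance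
  refine ⟨⟨?_, ?_⟩, ?_⟩
  · rintro ⟨Y, ψ, τ, e, -, hf, -, hm⟩
    haveI := hf
    haveI := hm
    haveI : Mono τ.left := inferInstance
    have e' : ψ.left ≫ τ.left = (dMap a).left := by
      rw [← Over.comp_left, e]
    exact (flat_fst_iff a).1 (flat_fst_of_factor (dMap a).left ψ.left τ.left e')
  · intro h
    obtain ⟨Q, p, i, e, hs, hf, hp, hi, -⟩ := exists_factor_over (dMap a) ((flat_fst_iff a).2 h)
    exact ⟨Q, p, i, e, hs, hf, hp, hi⟩
  · intro Y ψ τ e hs hf hp hm
    haveI := hs
    haveI := hf
    haveI := hp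
    -- `Y` is locally Noetherian
    haveI hdl : LocallyOfFiniteType (dMap a).left := by
      haveI : LocallyOfFiniteType ((dMap a).left ≫ (X ⊗ X).hom) := by
        rw [Over.w (dMap a)]; infer_instance
      exact locallyOfFiniteType_of_comp (dMap a).left (X ⊗ X).hom
    have e' : ψ.left ≫ τ.left = (dMap a).left := by
      rw [← Over.comp_left, e]
    haveI : LocallyOfFiniteType (ψ.left ≫ τ.left) := by rw [e']; exact hdl
    haveI : LocallyOfFiniteType τ.left :=
      Groth.Agent.Lib.helper5.FppfSource.locallyOfFiniteType_of_comp ψ.left τ.left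
    haveI : IsLocallyNoetherian (X ⊗ X).left :=
      LocallyOfFiniteType.isLocallyNoetherian (X ⊗ X).hom
    haveI : IsLocallyNoetherian Y.left := LocallyOfFiniteType.isLocallyNoetherian τ.left
    -- the second projection `G × X ⟶ X`
    haveI hGs : Surjective G.hom := by
      haveI : Surjective (η[G].left ≫ G.hom) := by
        rw [Over.w η[G]]
        exact inferInstanceAs (Surjective (𝟙 S))
      exact Surjective.of_comp η[G].left G.hom
    have r2 : Surjective (snd G X).left ∧ Flat (snd G X).left ∧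
        LocallyOfFinitePresentation (snd G X).left ∧ QuasiCompact (snd G X).left := by
      rw [Over.snd_left]
      exact ⟨inferInstance, inferInstance, inferInstance, inferInstance⟩
    obtain ⟨r2s, r2f, r2p, r2q⟩ := r2
    -- the action `G × X ⟶ X`
    have hact : a.act.left = (shear a).hom.left ≫ (snd G X).left := by
      rw [← Over.comp_left, shear_hom_snd]
    haveI : IsIso (shear a).hom.left :=
      inferInstanceAs (IsIso ((Over.forget S).map (shear a).hom))
    have r1 : Surjective a.act.left ∧ Flat a.act.left ∧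
        LocallyOfFinitePresentation a.act.left ∧ QuasiCompact a.act.left := by
      rw [hact]
      exact ⟨inferInstance, inferInstance, inferInstance, inferInstance⟩
    obtain ⟨r1s, r1f, r1p, r1q⟩ := r1
    have c1 : ψ.left ≫ (τ ≫ fst X X).left = a.act.left := by
      rw [← Over.comp_left, ← Category.assoc, e, lift_fst]
    have c2 : ψ.left ≫ (τ ≫ snd X X).left = (snd G X).left := by
      rw [← Over.comp_left, ← Category.assoc, e, lift_snd]
    obtain ⟨a1, a2, a3, a4, a5⟩ := props_of_comp ψ.left (τ ≫ fst X X).left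
      (by rw [c1]; exact r1s) (by rw [c1]; exact r1f) (by rw [c1]; exact r1p)
      (by rw [c1]; exact r1q)
    obtain ⟨b1, b2, b3, b4, b5⟩ := props_of_comp ψ.left (τ ≫ snd X X).left
      (by rw [c2]; exact r2s) (by rw [c2]; exact r2f) (by rw [c2]; exact r2p)
      (by rw [c2]; exact r2q)
    exact ⟨a1, a2, a3, a4, a5, b1, b2, b3, b4, b5⟩

end Groth.Agent.Lib.helper5.FppfImage
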