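import Mathlib
import Groth.Agent.Lib.Helper5.FppfImage4
import Groth.Prelude.Def_RedSub

/-!
# fppf image factorisation, finite type version; quotients by flat stabilizers / kernels, second form (helper5)

* `exists_factor'`: `f : X ⟶ Y` locally of finite type with `pr₁ : X ×_Y X ⟶ X` flat and locally of finite
  presentation factors as (surjective, flat, lfp) followed by a monomorphism.
* `exists_factor_over'`
* `exists_quotient_by_flat_stabilizer'` (S5416), `exists_quotient_by_flat_kernel'` (S5417).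
-/

set_option autoImplicit false
universe u
open CategoryTheory MonoidalCategory CartesianMonoidalCategory MonObj AlgebraicGeometry
  CategoryTheory.Limits

namespace Groth.Agent.Lib.helper5.FppfImage

open AlgSp

section
variable {X Y : Scheme.{u}} (f : X ⟶ Y)

theorem exists_factor' [LocallyOfFiniteType f] [Flat (pullback.fst f f)]
    [LocallyOfFinitePresentation (pullback.fst f f)] :
    ∃ (X' : Scheme.{u}) (f' : X ⟶ X') (f'' : X' ⟶ Y),
      Surjective f' ∧ Flat f' ∧ LocallyOfFinitePresentation f' ∧ Mono f'' ∧ f' ≫ f'' = f := by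
  have e_snd : pullback.snd f f = (pullbackSymmetry f f).hom ≫ pullback.fst f f := by simp
  haveI hsndF : Flat (pullback.snd f f) := by rw [e_snd]; infer_instance
  haveI hfstP : LocallyOfFinitePresentation (pullback.fst f f) := inferInstance
  haveI hsndP : LocallyOfFinitePresentation (pullback.snd f f) := by rw [e_snd]; infer_instance
  have hsndS : Surjective (pullback.snd f f) := by
    constructor
    intro x
    refine ⟨pullback.diagonal f x, ?_⟩
    rw [← Scheme.Hom.comp_apply, pullback.diagonal_snd]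
    rfl
  haveI : Flat (relS f).left := ‹Flat (pullback.fst f f)›
  haveI : LocallyOfFinitePresentation (relS f).left := hfstP
  haveI : Flat (relT f).left := hsndF
  haveI : LocallyOfFinitePresentation (relT f).left := hsndP
  have hE := isEqvRel f
  have hF : IsAlgSpace (QuotSh.quot Scheme.fppfPrecoverage (relS f) (relT f)) :=
    Groth.Agent.S10103.result Y (relS f) (relT f) hE
  let F : Sp Y := QuotSh.quot Scheme.fppfPrecoverage (relS f) (relT f)
  let Yt : Over Y := Over.mk (𝟙 Y)
  let q : F ⟶ (yon Y).obj Yt := Groth.Agent.Lib.helper5.Coprod.isTerminalYon.from F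
  let π : (yon Y).obj (objU f) ⟶ F := Groth.Agent.Lib.Helper14.AlgSpQuot.quotMap (relS f) (relT f)
  have hk : IsPullback ((yon Y).map (relT f)) ((yon Y).map (relS f)) π π :=
    Groth.Agent.Lib.Helper14.AlgSpQuot.isPullback_quotMap hE
  have hπs : Sheaf.IsLocallySurjective π := (Sheaf.isLocallySurjective_iff_epi π).2 inferInstance
  -- `q` is a monomorphism
  haveI hqm : Mono q := by
    refine Groth.Agent.Lib.helper5.FieldQuot.mono_of_sections_unique q (fun T a b _ => ?_)
    have ha := (Groth.Agent.Lib.helper5.Epi.isLocallySurjective_iff π).1 hπs T a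
    have hb := (Groth.Agent.Lib.helper5.Epi.isLocallySurjective_iff π).1 hπs T b
    refine Groth.Agent.Lib.helper5.yon_hom_ext_of_cover a b _
      ((AlgSp.J Y).intersection_covering ha hb) ?_
    rintro T' t ⟨⟨x, hx⟩, ⟨y, hy⟩⟩
    obtain ⟨x', rfl⟩ := (yon Y).map_surjective x
    obtain ⟨y', rfl⟩ := (yon Y).map_surjective y
    obtain ⟨r, hr1, hr2⟩ := exists_rel f x' y'
    rw [← hx, ← hy, ← hr1, ← hr2, Functor.map_comp, Functor.map_comp, Category.assoc,
      Category.assoc, hk.w]
  -- `q` is locally of finite type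
  have hq : LocP @LocallyOfFiniteType q := by
    refine Groth.Agent.Lib.helper5.LocSurjComp.locP_lft_of_comp (IsAlgSpace.yon_obj _) π q hπs ?_
    have e : π ≫ q = (yon Y).map (Over.homMk f (Category.comp_id f) : objU f ⟶ Yt) :=
      Groth.Agent.Lib.helper5.Coprod.isTerminalYon.hom_ext _ _
    rw [e]
    exact Groth.Agent.Lib.helper5.FppfBoot.locP_yon_map_of
      Groth.Agent.Lib.helper5.LocPBC.locPData_lft _
      (show LocallyOfFiniteType f from inferInstance)
  -- hence `F` is a scheme
  obtain ⟨I, j, k, sq, hjm, -⟩ := Groth.Agent.H1.MonoSp.exists_rep_of_mono_lft hF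
    (IsAlgSpace.yon_obj Yt) q hq (𝟙 _)
  haveI : IsIso k := sq.isIso_fst_of_isIso
  obtain ⟨p', hp'⟩ := (yon Y).map_surjective (π ≫ inv k)
  have hrep : AlgSp.Representable π := hF.representable_from_yon π
  have key : ∀ (P : MorphismProperty Scheme.{u}) [P.IsStableUnderBaseChange]
      [IsZariskiLocalAtTarget P]
      [P.DescendsAlong (@Surjective ⊓ @Flat ⊓ @LocallyOfFinitePresentation)],
      P (pullback.snd f f) → P p'.left := by
    intro P _ _ _ hP
    have h1 : RepWith P π :=
      Groth.Agent.Lib.Helper14.AlgSpQuot.repWith_of_kernelPair P (relS f) (relT f) π hrep hk hP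
    have h2 : RepWith P (π ≫ inv k) := MorphismProperty.RespectsIso.postcomp _ _ _ h1
    rw [← hp'] at h2
    exact (repWith_yon_map_iff P p').1 h2
  haveI : Mono j := hjm
  have hj : j.left = I.hom := (Category.comp_id j.left).symm.trans (Over.w j)
  refine ⟨I.left, p'.left, I.hom, key @Surjective hsndS, key @Flat hsndF,
    key @LocallyOfFinitePresentation hsndP, ?_, Over.w p'⟩
  rw [← hj]
  infer_instance

end

variable {S : Scheme.{u}}

theorem exists_factor_over' {G X : Over S} (o : G ⟶ X) [LocallyOfFinitePresentation G.hom]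
    (hfl : Flat (pullback.fst o.left o.left))
    (hlp : LocallyOfFinitePresentation (pullback.fst o.left o.left)) :
    ∃ (Q : Over S) (p : G ⟶ Q) (i : Q ⟶ X), p ≫ i = o ∧ Surjective p.left ∧ Flat p.left ∧
      LocallyOfFinitePresentation p.left ∧ Mono i ∧ LocallyOfFinitePresentation Q.hom := by
  haveI : LocallyOfFiniteType o.left := by
    haveI : LocallyOfFiniteType (o.left ≫ X.hom) := by rw [Over.w o]; infer_instance
    exact locallyOfFiniteType_of_comp o.left X.hom
  haveI := hfl
  haveI := hlp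
  obtain ⟨X', f', f'', hs, hf, hp, hm, e⟩ := exists_factor' o.left
  haveI := hs
  haveI := hf
  haveI := hp
  haveI := hm
  have hw : f' ≫ f'' ≫ X.hom = G.hom := by rw [← Category.assoc, e, Over.w o]
  let Q : Over S := Over.mk (f'' ≫ X.hom)
  let p : G ⟶ Q := Over.homMk f' hw
  let i : Q ⟶ X := Over.homMk f'' rfl
  have hi : Mono i := by
    haveI : Mono ((Over.forget S).map i) := hm
    exact (Over.forget S).mono_of_mono_map inferInstance
  refine ⟨Q, p, i, Over.OverMorphism.ext e, hs, hf, hp, hi, ?_⟩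
  haveI : LocallyOfFinitePresentation (f' ≫ f'' ≫ X.hom) := by rw [hw]; infer_instance
  exact Groth.Agent.Lib.helper5.FppfSource.locallyOfFinitePresentation_of_comp f' (f'' ≫ X.hom)

/-- Quotient by a flat stabilizer, second form: S5416. -/
theorem exists_quotient_by_flat_stabilizer' (G X : Over S) [GrpObj G]
    [LocallyOfFinitePresentation G.hom] (a : AlgGrp.Action G X) (ξ : 𝟙_ (Over S) ⟶ X)
    (H : Over S) [GrpObj H] (h : H ⟶ G)
    (hH : IsPullback h (toUnit H) (a.orbitMap ξ) ξ) [Flat H.hom]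
    (hX : LocallyOfFiniteType X.hom ∨ IsLocallyNoetherian S) :
    ∃ (Q : Over S) (q : G ⟶ Q), RedSub.IsQuotient h q ∧ LocallyOfFinitePresentation Q.hom ∧
      ∃ m : Q ⟶ X, Mono m ∧ q ≫ m = a.orbitMap ξ := by
  have sq := Groth.Agent.Lib.helper22.isPullback_shear_of_stabilizer a ξ h hH
  have sqL : IsPullback (fst G H).left ((G ◁ h) ≫ μ[G]).left (a.orbitMap ξ).left
      (a.orbitMap ξ).left := sq.map (Over.forget S)
  have e1 := sqL.isoPullback_inv_fst
  have hfl : Flat (pullback.fst (a.orbitMap ξ).left (a.orbitMap ξ).left) := by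
    rw [← e1]
    haveI : Flat (fst G H).left := by
      rw [Over.fst_left]
      infer_instance
    infer_instance
  have hlp : LocallyOfFinitePresentation
      (pullback.fst (a.orbitMap ξ).left (a.orbitMap ξ).left) := by
    rcases hX with hX | hX
    · haveI := hX
      haveI : LocallyOfFinitePresentation (a.orbitMap ξ).left := by
        refine Groth.Agent.Lib.Helper18.RelSmoothFiber.locallyOfFinitePresentation_of_comp
          (a.orbitMap ξ).left X.hom inferInstance ?_
        rw [Over.w (a.orbitMap ξ)]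
        infer_instance
      infer_instance
    · haveI := hX
      have sqH : IsPullback h.left (toUnit H).left (a.orbitMap ξ).left ξ.left :=
        hH.map (Over.forget S)
      haveI : LocallyOfFiniteType ξ.left := by
        haveI : LocallyOfFiniteType (ξ.left ≫ X.hom) := by
          rw [Over.w ξ]
          exact inferInstanceAs (LocallyOfFiniteType (𝟙 S))
        exact locallyOfFiniteType_of_comp ξ.left X.hom
      haveI : LocallyOfFiniteType h.left :=
        MorphismProperty.of_isPullback (P := @LocallyOfFiniteType) sqH.flip inferInstance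
      haveI : LocallyOfFiniteType H.hom := by
        rw [← Over.w h]
        infer_instance
      haveI : LocallyOfFinitePresentation H.hom := lfp_of_lft_noeth H.hom
      rw [← e1]
      haveI : LocallyOfFinitePresentation (fst G H).left := by
        rw [Over.fst_left]
        infer_instance
      infer_instance
  obtain ⟨Q, p, i, e, hs, hf, hp, hi, hQ⟩ := exists_factor_over' (a.orbitMap ξ) hfl hlp
  haveI := hi
  refine ⟨Q, p, ⟨hs, hf, hp, ?_⟩, hQ, i, hi, e⟩
  apply isPullback_of_comp_mono i
  rw [e]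
  exact sq

/-- A group structure on the image of a homomorphism. -/
theorem exists_grpObj_of_factor {G H Q : Over S} [GrpObj G] [GrpObj H] (u : G ⟶ H) [IsMonHom u]
    (p : G ⟶ Q) (i : Q ⟶ H) (e : p ≫ i = u) (hs : Surjective p.left) (hf : Flat p.left)
    (hp : LocallyOfFinitePresentation p.left) [Mono i] :
    ∃ str : GrpObj Q, @IsMonHom _ _ _ G Q _ str.toMonObj p ∧
      @IsMonHom _ _ _ Q H str.toMonObj _ i := by
  haveI := hs
  haveI := hf
  haveI := hp
  have hpp : (@Surjective ⊓ @Flat ⊓ @LocallyOfFinitePresentation : MorphismProperty Scheme.{u})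
      (p ⊗ₘ p).left :=
    prop_tensorHom_left _ p p ⟨⟨hs, hf⟩, hp⟩ ⟨⟨hs, hf⟩, hp⟩
  have hppp : (@Surjective ⊓ @Flat ⊓ @LocallyOfFinitePresentation : MorphismProperty Scheme.{u})
      ((p ⊗ₘ p) ⊗ₘ p).left :=
    prop_tensorHom_left _ (p ⊗ₘ p) p hpp ⟨⟨hs, hf⟩, hp⟩
  haveI : Surjective (p ⊗ₘ p).left := hpp.1.1
  haveI : Flat (p ⊗ₘ p).left := hpp.1.2
  haveI : LocallyOfFinitePresentation (p ⊗ₘ p).left := hpp.2
  haveI : Surjective ((p ⊗ₘ p) ⊗ₘ p).left := hppp.1.1
  haveI : Flat ((p ⊗ₘ p) ⊗ₘ p).left := hppp.1.2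
  haveI : Epi p := epi_of_flat_surjective p
  haveI : Epi ((p ⊗ₘ p) ⊗ₘ p) := epi_of_flat_surjective _
  obtain ⟨m, hm, hmi⟩ := exists_desc_of_mono (p ⊗ₘ p) (μ[G] ≫ p) i ((i ⊗ₘ i) ≫ μ[H]) (by
    rw [Category.assoc, e, IsMonHom.mul_hom, ← Category.assoc, tensorHom_comp_tensorHom, e])
  obtain ⟨v, hv, hvi⟩ := exists_desc_of_mono p (ι[G] ≫ p) i (i ≫ ι[H]) (by
    rw [Category.assoc, e, GrpObj.inv_hom, ← Category.assoc, e])
  let str : GrpObj Q := Groth.Agent.Lib.Helper14.GrpQuot.grpObjOfEpi' p m hm v hv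
  have hone : η[Q] ≫ i = η[H] := by
    change (η[G] ≫ p) ≫ i = η[H]
    rw [Category.assoc, e, IsMonHom.one_hom]
  exact ⟨str, @IsMonHom.mk _ _ _ G Q _ str.toMonObj p rfl hm.symm,
    @IsMonHom.mk _ _ _ Q H str.toMonObj _ i hone hmi⟩

/-- Quotient by a flat kernel, second form: S5417. -/
theorem exists_quotient_by_flat_kernel' (G H : Over S) [GrpObj G] [GrpObj H]
    [LocallyOfFinitePresentation G.hom]
    (hH : LocallyOfFiniteType H.hom ∨ IsLocallyNoetherian S) (u : G ⟶ H) [IsMonHom u]
    (K : Over S) [GrpObj K] (k : K ⟶ G) [IsMonHom k] (hK : AlgGrp.IsKernel k u) [Flat K.hom] :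
    ∃ (Q : Over S) (_ : GrpObj Q) (q : G ⟶ Q) (_ : IsMonHom q), RedSub.IsQuotient k q ∧
      LocallyOfFinitePresentation Q.hom ∧ ∃ (m : Q ⟶ H) (_ : IsMonHom m), Mono m ∧ q ≫ m = u := by
  have hK' : IsPullback k (toUnit K)
      ((Groth.Agent.Lib.helper5.GrpHomLocus.actOfHom u).orbitMap η[H]) η[H] := by
    rw [Groth.Agent.Lib.helper5.GrpHomLocus.orbitMap_actOfHom]
    exact hK
  obtain ⟨Q, q, hq, hQ, m, hm, e⟩ := exists_quotient_by_flat_stabilizer' G H
    (Groth.Agent.Lib.helper5.GrpHomLocus.actOfHom u) η[H] K k hK' hH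
  rw [Groth.Agent.Lib.helper5.GrpHomLocus.orbitMap_actOfHom] at e
  haveI := hm
  obtain ⟨str, h1, h2⟩ := exists_grpObj_of_factor u q m e hq.1 hq.2.1 hq.2.2.1
  exact ⟨Q, str, q, h1, hq, hQ, m, h2, hm, e⟩

end Groth.Agent.Lib.helper5.FppfImage
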