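import Groth.Agent.Lib.Helper5.GrpHomLocus5

/-!
# Étale and open-immersion loci of a homomorphism of group schemes (SGA3 VI_B 2.5 (iv), 2.6)
(helper5)

`u : G ⟶ H`, `G` flat and locally of finite presentation over `S`, `H` locally of finite type.

* `exists_etale_nhd_iff` : étale near `x` iff flat at `x` and unramified near `x` (flat locus open).
* `etale_fibre_iff`
* `etale_main` : statement of S5314.
* `isOpenImmersion_main` : statement of S5317.
-/

set_option autoImplicit false
set_option backward.isDefEq.respectTransparency false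
universe u
open CategoryTheory CategoryTheory.Limits MonoidalCategory CartesianMonoidalCategory MonObj
  AlgebraicGeometry

namespace Groth.Agent.Lib.helper5.GrpHomLocus

open Groth.Agent.Lib.helper28.MaxOpenSrc Groth.Agent.Lib.helper5.FibCrit
  Groth.Agent.Lib.helper5.UnramLocus Groth.Agent.Lib.helper5.ConsMono

/-- flatness of the restriction to an open subscheme, stalkwise. -/
theorem flat_ι_comp_iff {X Y : Scheme.{u}} (f : X ⟶ Y) (W : X.Opens) :
    Flat (W.ι ≫ f) ↔ ∀ x ∈ W, (f.stalkMap x).hom.Flat := by
  rw [Flat.iff_flat_stalkMap]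
  constructor
  · intro h x hx
    exact (flat_comp_left_iff W.ι f ⟨x, hx⟩ (bijective_stalkMap_of_isOpenImmersion _ _)).mp
      (h ⟨x, hx⟩)
  · intro h x
    exact (flat_comp_left_iff W.ι f x (bijective_stalkMap_of_isOpenImmersion _ _)).mpr
      (h _ x.2)

/-- formal unramifiedness passes to smaller opens. -/
theorem formallyUnramified_ι_comp_of_le {X Y : Scheme.{u}} (f : X ⟶ Y) {W W' : X.Opens}
    (hle : W ≤ W') (h : FormallyUnramified (W'.ι ≫ f)) : FormallyUnramified (W.ι ≫ f) := by
  have e : W.ι ≫ f = X.homOfLE hle ≫ W'.ι ≫ f := by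
    rw [← Category.assoc, Scheme.homOfLE_ι]
  rw [e]
  haveI := h
  exact MorphismProperty.comp_mem (W := @FormallyUnramified) _ _ inferInstance h

/-- étale near `x` iff flat at `x` and unramified near `x`, when the flat locus is open. -/
theorem exists_etale_nhd_iff {X Y : Scheme.{u}} (f : X ⟶ Y) [LocallyOfFinitePresentation f]
    (hopen : IsOpen {x : X | (f.stalkMap x).hom.Flat}) (x : X) :
    (∃ W : X.Opens, x ∈ W ∧ Etale (W.ι ≫ f)) ↔
      (f.stalkMap x).hom.Flat ∧ ∃ W : X.Opens, x ∈ W ∧ FormallyUnramified (W.ι ≫ f) := by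
  constructor
  · rintro ⟨W, hxW, hW⟩
    rw [Etale.iff_flat_and_formallyUnramified] at hW
    exact ⟨(flat_ι_comp_iff f W).mp hW.1 x hxW, W, hxW, hW.2.1⟩
  · rintro ⟨hfl, W, hxW, hW⟩
    refine ⟨W ⊓ ⟨_, hopen⟩, ⟨hxW, hfl⟩, ?_⟩
    rw [Etale.iff_flat_and_formallyUnramified]
    refine ⟨?_, formallyUnramified_ι_comp_of_le f inf_le_left hW, inferInstance⟩
    rw [flat_ι_comp_iff]
    intro y hy
    exact hy.2

variable {S : Scheme.{u}} {G H : Over S} (u : G ⟶ H)

theorem lfp_left' [LocallyOfFinitePresentation G.hom] [LocallyOfFiniteType H.hom] :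
    LocallyOfFinitePresentation u.left :=
  Groth.Agent.Lib.Helper18.RelSmoothFiber.locallyOfFinitePresentation_of_comp u.left H.hom
    inferInstance (lfp_comp_hom u)

theorem lfp_fibre [LocallyOfFinitePresentation G.hom] [LocallyOfFiniteType H.hom] (s : S) :
    LocallyOfFinitePresentation ((Over.pullback (S.fromSpecResidueField s)).map u).left := by
  haveI := lfp_left' u
  exact MorphismProperty.of_isPullback (P := @LocallyOfFinitePresentation)
    (isPullback_pullback_map (S.fromSpecResidueField s) u) inferInstance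

theorem etale_fibre_iff [LocallyOfFinitePresentation G.hom] [LocallyOfFiniteType H.hom] (s : S) :
    Etale ((Over.pullback (S.fromSpecResidueField s)).map u).left ↔
      Flat ((Over.pullback (S.fromSpecResidueField s)).map u).left ∧
        FormallyUnramified ((Over.pullback (S.fromSpecResidueField s)).map u).left := by
  haveI := lfp_fibre u s
  rw [Etale.iff_flat_and_formallyUnramified]
  constructor
  · intro h; exact ⟨h.1, h.2.1⟩
  · intro h; exact ⟨h.1, h.2, inferInstance⟩

variable [GrpObj G] [GrpObj H] [IsMonHom u]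

/-- SGA3 VI_B 2.5 (iv), étale. -/
theorem etale_main [Flat G.hom] [LocallyOfFinitePresentation G.hom] [LocallyOfFiniteType H.hom] :
    IsOpen {s : S | Etale ((Over.pullback (S.fromSpecResidueField s)).map u).left} ∧
      {x : G.left | ∃ W : G.left.Opens, x ∈ W ∧ Etale (W.ι ≫ u.left)} =
        G.hom.base ⁻¹' {s : S | Etale ((Over.pullback (S.fromSpecResidueField s)).map u).left} := by
  haveI := lfp_left' u
  haveI : LocallyOfFiniteType u.left := inferInstance
  obtain ⟨hF1, hF2⟩ := flat_main u
  obtain ⟨hU1, hU2⟩ := unramified_main u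
  have hset : {s : S | Etale ((Over.pullback (S.fromSpecResidueField s)).map u).left} =
      {s : S | Flat ((Over.pullback (S.fromSpecResidueField s)).map u).left} ∩
        {s : S | FormallyUnramified ((Over.pullback (S.fromSpecResidueField s)).map u).left} := by
    ext s
    exact etale_fibre_iff u s
  refine ⟨?_, ?_⟩
  · rw [hset]; exact hF1.inter hU1
  · rw [hset, Set.preimage_inter, ← hF2, ← hU2]
    ext x
    exact exists_etale_nhd_iff u.left (isOpen_flatLocus u) x

/-- SGA3 VI_B 2.6, open immersion. -/
theorem isOpenImmersion_main [UniversallyInjective u.left]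
    [Flat G.hom] [LocallyOfFinitePresentation G.hom] [LocallyOfFiniteType H.hom] :
    IsOpen {s : S | IsOpenImmersion ((Over.pullback (S.fromSpecResidueField s)).map u).left} ∧
    ∀ W : S.Opens, (W : Set S) ⊆
      {s : S | IsOpenImmersion ((Over.pullback (S.fromSpecResidueField s)).map u).left} →
        IsOpenImmersion ((G.hom ⁻¹ᵁ W).ι ≫ u.left) := by
  haveI := lfp_left' u
  haveI : LocallyOfFiniteType u.left := inferInstance
  obtain ⟨hE1, hE2⟩ := etale_main u
  have hset : {s : S | IsOpenImmersion ((Over.pullback (S.fromSpecResidueField s)).map u).left} =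
      {s : S | Etale ((Over.pullback (S.fromSpecResidueField s)).map u).left} := by
    ext s
    constructor
    · intro (h : IsOpenImmersion _)
      haveI := h
      exact (inferInstance : Etale ((Over.pullback (S.fromSpecResidueField s)).map u).left)
    · intro (h : Etale _)
      haveI := h
      haveI := lfp_fibre u s
      haveI : UniversallyInjective ((Over.pullback (S.fromSpecResidueField s)).map u).left :=
        MorphismProperty.of_isPullback (P := @UniversallyInjective)
          (isPullback_pullback_map (S.fromSpecResidueField s) u) inferInstance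
      haveI : Mono ((Over.pullback (S.fromSpecResidueField s)).map u).left :=
        (mono_iff _).mpr ⟨inferInstance, inferInstance⟩
      exact IsOpenImmersion.of_flat_of_mono _
  refine ⟨?_, ?_⟩
  · rw [hset]; exact hE1
  · intro W hW
    rw [hset] at hW
    have hsub : ((G.hom ⁻¹ᵁ W : G.left.Opens) : Set G.left) ⊆
        {x : G.left | ∃ W : G.left.Opens, x ∈ W ∧ Etale (W.ι ≫ u.left)} := by
      rw [hE2]
      intro x hx
      exact hW hx
    have hfl : Flat ((G.hom ⁻¹ᵁ W).ι ≫ u.left) := by
      rw [flat_ι_comp_iff]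
      intro x hx
      exact ((exists_etale_nhd_iff u.left (isOpen_flatLocus u) x).mp (hsub hx)).1
    have hunr : FormallyUnramified ((G.hom ⁻¹ᵁ W).ι ≫ u.left) := by
      rw [formallyUnramified_iff_forall_unrAt]
      intro x
      obtain ⟨W', hxW', hW'⟩ := ((exists_etale_nhd_iff u.left (isOpen_flatLocus u) x.1).mp
        (hsub x.2)).2
      have h1 : UnrAt _ _ u.left ((G.hom ⁻¹ᵁ W).ι x) := ⟨W', hxW', inferInstance, hW'⟩
      exact (unrAt_comp_etale_left (G.hom ⁻¹ᵁ W).ι u.left x).mpr h1
    haveI : UniversallyInjective ((G.hom ⁻¹ᵁ W).ι ≫ u.left) :=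
      MorphismProperty.comp_mem (W := @UniversallyInjective) _ _ inferInstance inferInstance
    haveI : Mono ((G.hom ⁻¹ᵁ W).ι ≫ u.left) := (mono_iff _).mpr ⟨inferInstance, hunr⟩
    exact IsOpenImmersion.of_flat_of_mono _

end Groth.Agent.Lib.helper5.GrpHomLocus
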