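import Groth.Agent.Lib.Helper5.OverField
import Mathlib.AlgebraicGeometry.Limits
import Mathlib.AlgebraicGeometry.Artinian
import Mathlib.AlgebraicGeometry.Morphisms.UniversallyOpen

/-!
# Finite schemes over a field: ranks and descent along flat covers of the source (helper5)

* `finrank_eq_finrank`: the rank of an affine finite scheme over a field is the dimension of its ring of functions.
* `isFinite_of_flat_surjective_cover`: if `π : T' ⟶ T` is flat and surjective and `T'` is finite over a field of rank at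
  most `n`, then so is `T`.
-/

set_option autoImplicit false
universe u
open CategoryTheory CategoryTheory.Limits AlgebraicGeometry Opposite Topology

namespace Groth.Agent.Lib.helper5.OverField

theorem exists_ringHom_of_affine {K : Type u} [Field K] {T : Scheme.{u}} [IsAffine T]
    (c : T ⟶ Spec (CommRingCat.of K)) :
    ∃ φ : CommRingCat.of K ⟶ Γ(T, ⊤), c = T.isoSpec.hom ≫ Spec.map φ := by
  obtain ⟨φ, hφ⟩ := Spec.map_surjective (T.isoSpec.inv ≫ c)
  exact ⟨φ, by rw [hφ]; simp⟩

theorem isFinite_iff_of_eq {K : Type u} [Field K] {T : Scheme.{u}} [IsAffine T]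
    (c : T ⟶ Spec (CommRingCat.of K)) (φ : CommRingCat.of K ⟶ Γ(T, ⊤))
    (hc : c = T.isoSpec.hom ≫ Spec.map φ) : IsFinite c ↔ φ.hom.Finite := by
  rw [hc, MorphismProperty.cancel_left_of_respectsIso @IsFinite, IsFinite.SpecMap_iff]

theorem finrank_eq_finrank {K : Type u} [Field K] {T : Scheme.{u}} [IsAffine T]
    (c : T ⟶ Spec (CommRingCat.of K)) (φ : CommRingCat.of K ⟶ Γ(T, ⊤))
    (hc : c = T.isoSpec.hom ≫ Spec.map φ) (hfin : φ.hom.Finite) (s : ↥(Spec (CommRingCat.of K))) :
    c.finrank s = @Module.finrank K Γ(T, ⊤) _ _ φ.hom.toAlgebra.toModule := by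
  algebraize [φ.hom]
  have hφflat : φ.hom.Flat := by
    change Module.Flat K Γ(T, ⊤)
    infer_instance
  have hflat : Flat (Spec.map φ) := Flat.SpecMap_iff.mpr hφflat
  have hfin' : IsFinite (Spec.map φ) := (IsFinite.SpecMap_iff _).mpr hfin
  rw [hc, Scheme.Hom.finrank_comp_left_of_isIso, Scheme.Hom.finrank_SpecMap_eq_finrank hfin hφflat,
    ← RingHom.algebraMap_toAlgebra φ.hom, RingHom.finrank_algebraMap,
    Module.rankAtStalk_eq_finrank_of_free]
  rfl

theorem finite_of_injective_comp {K B A : Type u} [Field K] [CommRing B] [CommRing A] (φ : K →+* B)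
    (ψ : B →+* A) (hψ : Function.Injective ψ) (h : (ψ.comp φ).Finite) :
    φ.Finite ∧ @Module.finrank K B _ _ φ.toAlgebra.toModule ≤
      @Module.finrank K A _ _ (ψ.comp φ).toAlgebra.toModule := by
  let _ := φ.toAlgebra
  let _ := (ψ.comp φ).toAlgebra
  have hA : Module.Finite K A := h
  let ψ' : B →ₗ[K] A :=
    { toFun := ψ
      map_add' := map_add ψ
      map_smul' := fun r b => by
        simp only [Algebra.smul_def, map_mul, RingHom.id_apply]
        rfl }
  have hψ' : Function.Injective ψ' := hψ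
  have hB : Module.Finite K B := Module.Finite.of_injective ψ' hψ'
  exact ⟨hB, LinearMap.finrank_le_finrank_of_injective hψ'⟩

theorem isFinite_of_flat_surjective_cover {K : Type u} [Field K] {T T' : Scheme.{u}}
    (c : T ⟶ Spec (CommRingCat.of K)) (π : T' ⟶ T) [Surjective π] [Flat π] (hfin : IsFinite (π ≫ c))
    (n : ℕ) (hn : ∀ s, (π ≫ c).finrank s ≤ n) : IsFinite c ∧ ∀ s, c.finrank s ≤ n := by
  have hsub := subsingleton_spec_field K
  have hart : IsLocallyArtinian (Spec (CommRingCat.of K)) :=
    Scheme.isLocallyArtinianScheme_Spec.2 (inferInstanceAs (IsArtinianRing K))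
  have hart' : IsLocallyArtinian T' := IsLocallyArtinian.of_locallyQuasiFinite (π ≫ c)
  have hdisc' : DiscreteTopology ↥T' := inferInstance
  have haff' : IsAffine T' := isAffine_of_isAffineHom (π ≫ c)
  have hfinT' : Finite ↥T' := finite_of_compact_of_discrete
  have hfinT : Finite ↥T := Finite.of_surjective π π.surjective
  have hT1 : T1Space ↥T := by
    rw [t1Space_iff_specializes_imp_eq]
    intro t₁ t₂ h12
    obtain ⟨t₂', rfl⟩ := π.surjective t₂
    obtain ⟨t₁', h', rfl⟩ := (Flat.generalizingMap π) h12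
    rw [h'.eq]
  have hdisc : DiscreteTopology ↥T := inferInstance
  have haff : IsAffine T := inferInstance
  obtain ⟨φ, hφ⟩ := exists_ringHom_of_affine c
  obtain ⟨φ', hφ'⟩ := exists_ringHom_of_affine (π ≫ c)
  have hφφ' : φ' = φ ≫ π.appTop := by
    apply Spec.map_injective
    rw [Spec.map_comp, ← cancel_epi T'.isoSpec.hom, ← hφ', ← Category.assoc,
      Scheme.isoSpec_hom_naturality, Category.assoc, ← hφ]
  have hff : π.appTop.hom.FaithfullyFlat :=
    (Flat.flat_and_surjective_iff_faithfullyFlat_of_isAffine π).1 ⟨inferInstance, inferInstance⟩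
  have hfin' : φ'.hom.Finite := (isFinite_iff_of_eq (π ≫ c) φ' hφ').1 hfin
  have hfin'' : (π.appTop.hom.comp φ.hom).Finite := by
    rw [← CommRingCat.hom_comp, ← hφφ']; exact hfin'
  obtain ⟨h1, h2⟩ := finite_of_injective_comp φ.hom π.appTop.hom hff.injective hfin''
  refine ⟨(isFinite_iff_of_eq c φ hφ).2 h1, fun s => ?_⟩
  rw [finrank_eq_finrank c φ hφ h1 s]
  refine h2.trans ?_
  have h3 := finrank_eq_finrank (π ≫ c) φ' hφ' hfin' s
  subst hφφ'
  exact h3.symm.le.trans (hn s)

end Groth.Agent.Lib.helper5.OverField
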