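import Mathlib
import Groth.Agent.Lib.Helper5.AlgSpFpqcRep

/-!
Quasi-compact immersions descend along fpqc morphisms of schemes (helper5).
-/

set_option autoImplicit false
universe u
open CategoryTheory CategoryTheory.Limits AlgebraicGeometry MorphismProperty

namespace Groth.Agent.Lib.helper5.ImmQC

open Groth.Agent.Lib.helper5.FpqcRep

/-- The morphism to the scheme-theoretic image of a quasi-compact morphism is scheme-theoretically dominant. -/
instance isSchemeTheoreticallyDominant_toImage {X Y : Scheme.{u}} (f : X ⟶ Y) [QuasiCompact f] :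
    IsSchemeTheoreticallyDominant f.toImage := by
  rw [isSchemeTheoreticallyDominant_iff]
  refine Scheme.IdealSheafData.ext_of_iSup_eq_top (ι := Y.affineOpens)
    (fun U => ⟨f.imageι ⁻¹ᵁ U.1, U.2.preimage f.imageι⟩) ?_ ?_
  · have h1 : ⨆ U : Y.affineOpens, f.imageι ⁻¹ᵁ U.1 = f.imageι ⁻¹ᵁ (⨆ U : Y.affineOpens, U.1) := by
      rw [Scheme.Hom.preimage_iSup]
    rw [h1, iSup_affineOpens_eq_top]
    rfl
  · intro U
    rw [Scheme.Hom.ker_apply]
    simp only [Scheme.IdealSheafData.ideal_bot, Pi.bot_apply]
    exact (RingHom.injective_iff_ker_eq_bot _).1 (f.toImage_app_injective U)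

/-- A quasi-compact scheme-theoretically dominant immersion is an open immersion. -/
theorem isOpenImmersion_of_dominant {X Y : Scheme.{u}} (h : X ⟶ Y) [IsImmersion h] [QuasiCompact h]
    [IsSchemeTheoreticallyDominant h] : IsOpenImmersion h := by
  have h1 : IsIso h.imageι := by
    show IsIso h.ker.subschemeι
    rw [Scheme.isIso_subschemeι_iff_eq_bot]
    exact h.ker_eq_bot
  rw [← h.toImage_imageι]
  infer_instance

/-- Quasi-compact immersions descend along surjective flat quasi-compact morphisms. -/
instance immersion_quasiCompact_descendsAlong :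
    MorphismProperty.DescendsAlong (@IsImmersion ⊓ @QuasiCompact : MorphismProperty Scheme.{u})
      (@Surjective ⊓ @Flat ⊓ @QuasiCompact) where
  of_isPullback {A X Y Z fst snd f g} h hf hfst := by
    have hf1 : Surjective f := hf.1.1
    have hf2 : Flat f := hf.1.2
    have hf3 : QuasiCompact f := hf.2
    have hfst1 : IsImmersion fst := hfst.1
    have hfst2 : QuasiCompact fst := hfst.2
    have hgqc : QuasiCompact g :=
      MorphismProperty.of_isPullback_of_descendsAlong (P := @QuasiCompact)
        (Q := @Surjective ⊓ @Flat ⊓ @QuasiCompact) h hf hfst2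
    refine ⟨?_, hgqc⟩
    -- the base change of the scheme-theoretic image
    have R : IsPullback (pullback.fst g.imageι f) (pullback.snd g.imageι f) g.imageι f :=
      IsPullback.of_hasPullback _ _
    have hw : (snd ≫ g.toImage) ≫ g.imageι = fst ≫ f := by
      rw [Category.assoc, g.toImage_imageι, h.w]
    let h' : A ⟶ pullback g.imageι f := pullback.lift (snd ≫ g.toImage) fst hw
    have hh1 : h' ≫ pullback.fst g.imageι f = snd ≫ g.toImage := pullback.lift_fst _ _ _
    have hh2 : h' ≫ pullback.snd g.imageι f = fst := pullback.lift_snd _ _ _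
    have L : IsPullback snd h' g.toImage (pullback.fst g.imageι f) := by
      refine IsPullback.of_bot ?_ hh1.symm R
      rw [hh2, g.toImage_imageι]
      exact h.flip
    have hdom : IsSchemeTheoreticallyDominant h' := IsSchemeTheoreticallyDominant.of_isPullback L
    have himm : IsImmersion h' := by
      have : IsImmersion (h' ≫ pullback.snd g.imageι f) := by rw [hh2]; exact hfst1
      exact IsImmersion.of_comp h' (pullback.snd g.imageι f)
    have hqc : QuasiCompact h' := by
      have : QuasiCompact (h' ≫ pullback.snd g.imageι f) := by rw [hh2]; exact hfst2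
      exact QuasiCompact.of_comp h' (pullback.snd g.imageι f)
    have hoi : IsOpenImmersion h' := isOpenImmersion_of_dominant h'
    have hcover : (@Surjective ⊓ @Flat ⊓ @QuasiCompact : MorphismProperty Scheme.{u}) (pullback.fst g.imageι f) :=
      ⟨⟨inferInstance, inferInstance⟩, inferInstance⟩
    have hoi2 : IsOpenImmersion g.toImage :=
      MorphismProperty.of_isPullback_of_descendsAlong (P := @IsOpenImmersion)
        (Q := @Surjective ⊓ @Flat ⊓ @QuasiCompact) L.flip hcover hoi
    rw [← g.toImage_imageι]
    infer_instance

end Groth.Agent.Lib.helper5.ImmQC
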