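import Mathlib
import Groth.Agent.Lib.Helper14.QuotOrbit
import Groth.Agent.Lib.Helper4.AffineDescent
import Groth.Agent.Lib.Helper5.GrpHomOrbit

/-!
# Homogeneity: equivariant quasi-compact monomorphisms from homogeneous spaces, fppf form (helper5)

Over a base `S` with at most one point, `G` a flat lfp `S`-group acting on `X` and `Y`, `ψ : Y ⟶ X` an
equivariant quasi-compact monomorphism locally of finite type, `Y` homogeneous (the orbit map of a section is
surjective).  Then `ψ` is a closed immersion onto an open of `X` (no quasi-compactness of `G`, `X`, `Y`).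

* `exists_open_isClosedImmersion_of_mono_equivariant`
* `exists_open_isClosedImmersion_of_mono_hom`: the case of a homomorphism `u : G ⟶ H`.
-/

set_option autoImplicit false
set_option linter.style.haveILetI false
universe u
open CategoryTheory MonoidalCategory CartesianMonoidalCategory MonObj GrpObj AlgebraicGeometry
  CategoryTheory.Limits TopologicalSpace

namespace Groth.Agent.Lib.helper5.GrpMonoClosed

open Groth.Agent.Lib.helper22 Groth.Agent.Lib.Helper14.OrbitLC
  Groth.Agent.Lib.Helper14.OrbitClosure Groth.Agent.Lib.Helper14.QuotOrbit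

variable {S : Scheme.{u}} {G X Y : Over S} [GrpObj G]

theorem lfp_act (a : AlgGrp.Action G X) [LocallyOfFinitePresentation G.hom] :
    LocallyOfFinitePresentation a.act.left := by
  have hsnd : LocallyOfFinitePresentation (snd G X).left := by
    change LocallyOfFinitePresentation (pullback.snd G.hom X.hom); infer_instance
  have hiso : IsIso (shear a).hom.left :=
    inferInstanceAs (IsIso ((Over.forget S).map (shear a).hom))
  rw [← shear_hom_snd a, Over.comp_left]
  infer_instance

/-- **Homogeneity, fppf form.** -/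
theorem exists_open_isClosedImmersion_of_mono_equivariant [Subsingleton S] [Flat G.hom]
    [LocallyOfFinitePresentation G.hom] (a : AlgGrp.Action G X) (b : AlgGrp.Action G Y) (ψ : Y ⟶ X)
    (hψ : (G ◁ ψ) ≫ a.act = b.act ≫ ψ) [Mono ψ.left] [LocallyOfFiniteType ψ.left]
    [QuasiCompact ψ.left] (y : 𝟙_ (Over S) ⟶ Y) [Surjective (b.orbitMap y).left]
    [Nonempty Y.left] :
    ∃ A : X.left.Opens, ψ.left ⁻¹ᵁ A = ⊤ ∧ IsClosedImmersion (ψ.left ∣_ A) := by
  obtain ⟨N, ⟨⟨y₀, hy₀⟩⟩, hcl⟩ :=
    Groth.Agent.Lib.Helper14.MonoImm.exists_open_isClosedImmersion_of_mono ψ.left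
  -- the open `W₁ = G × N` and its image `A` under the action
  let W₁ : (G ⊗ X).left.Opens := (snd G X).left ⁻¹ᵁ N
  let A : X.left.Opens := ⟨a.act.left '' (W₁ : Set (G ⊗ X).left), isOpenMap_act a _ W₁.isOpen⟩
  have hWA : W₁ ≤ a.act.left ⁻¹ᵁ A := fun w hw => ⟨w, hw, rfl⟩
  -- transitivity: the image of `ψ` lies in `A`
  have htrans : ∀ y₁ : Y.left, ψ.left y₁ ∈ A := by
    intro y₁
    obtain ⟨g₀, hg₀⟩ := (b.orbitMap y).left.surjective y₀
    obtain ⟨g₁, hg₁⟩ := (b.orbitMap y).left.surjective y₁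
    obtain ⟨w, hw₁, hw₀⟩ := exists_point_tensor G G g₁ g₀ (Subsingleton.elim _ _)
    let ζ : (G ⊗ Y).left := (diffMap b y).left w
    have hζ₀ : (snd G Y).left ζ = y₀ := by
      rw [← Scheme.Hom.comp_apply, ← Over.comp_left, diffMap_snd, Over.comp_left,
        Scheme.Hom.comp_apply, hw₀, hg₀]
    have hζ₁ : b.act.left ζ = y₁ := by
      rw [← Scheme.Hom.comp_apply, ← Over.comp_left, diffMap_act, Over.comp_left,
        Scheme.Hom.comp_apply, hw₁, hg₁]
    refine ⟨(G ◁ ψ).left ζ, ?_, ?_⟩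
    · change (snd G X).left ((G ◁ ψ).left ζ) ∈ N
      rw [← Scheme.Hom.comp_apply, ← Over.comp_left, whiskerLeft_snd, Over.comp_left,
        Scheme.Hom.comp_apply, hζ₀]
      exact hy₀
    · rw [← Scheme.Hom.comp_apply, ← Over.comp_left, hψ, Over.comp_left,
        Scheme.Hom.comp_apply, hζ₁]
  -- the two cartesian squares
  have hsq₁ : IsPullback (snd G Y).left (G ◁ ψ).left ψ.left (snd G X).left :=
    ((isPullback_whiskerLeft G ψ).flip).map (Over.forget _)
  have hsq₂ : IsPullback b.act.left (G ◁ ψ).left ψ.left a.act.left :=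
    (isPullback_act_of_equivariant a b ψ hψ).map (Over.forget _)
  -- `(G ◁ ψ)` is a closed immersion over `W₁`
  have hcl₁ : IsClosedImmersion ((G ◁ ψ).left ∣_ W₁) := by
    have h1 := isPullback_resLE hsq₁ N W₁ le_rfl (by
      intro p hp
      change ψ.left ((snd G Y).left p) ∈ N
      rw [← Scheme.Hom.comp_apply, hsq₁.w, Scheme.Hom.comp_apply]
      exact hp)
    exact MorphismProperty.of_isPullback h1 hcl
  -- descent along `W₁ ⟶ A`
  have h2 := isPullback_resLE hsq₂ A W₁ hWA (by
    intro p hp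
    change ψ.left (b.act.left p) ∈ A
    rw [← Scheme.Hom.comp_apply, hsq₂.w, Scheme.Hom.comp_apply]
    exact hWA hp)
  haveI : Flat a.act.left := Groth.Agent.Lib.Helper14.HomFlat.flat_act a
  haveI : LocallyOfFinitePresentation a.act.left := lfp_act a
  have hQ : (@Surjective ⊓ @Flat ⊓ @LocallyOfFinitePresentation : MorphismProperty Scheme.{u})
      (a.act.left.resLE A W₁ hWA) := by
    refine ⟨⟨⟨?_⟩, ?_⟩, ?_⟩
    · rintro ⟨p, w, hw, rfl⟩
      refine ⟨⟨w, hw⟩, ?_⟩
      apply Subtype.ext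
      rw [Scheme.Hom.coe_resLE_apply]
    · delta Scheme.Hom.resLE
      infer_instance
    · delta Scheme.Hom.resLE
      infer_instance
  have hcA : IsClosedImmersion (ψ.left ∣_ A) :=
    MorphismProperty.of_isPullback_of_descendsAlong (P := @IsClosedImmersion) h2.flip hQ hcl₁
  refine ⟨A, ?_, hcA⟩
  ext p
  exact ⟨fun _ => trivial, fun _ => htrans p⟩

/-- the case of a homomorphism: a quasi-compact monomorphism `u : G ⟶ H` of group schemes, `G` flat lfp over a
base with at most one point, is a closed immersion onto an open of `H`. -/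
theorem exists_open_isClosedImmersion_of_mono_hom [Subsingleton S] {G H : Over S} [GrpObj G]
    [GrpObj H] [Flat G.hom] [LocallyOfFinitePresentation G.hom] (u : G ⟶ H) [IsMonHom u]
    [Mono u.left] [LocallyOfFiniteType u.left] [QuasiCompact u.left] [Nonempty G.left] :
    ∃ A : H.left.Opens, u.left ⁻¹ᵁ A = ⊤ ∧ IsClosedImmersion (u.left ∣_ A) := by
  have hψ : (G ◁ u) ≫ (Groth.Agent.Lib.helper5.GrpHomLocus.actOfHom u).act =
      (Groth.Agent.Lib.helper5.GrpHomLocus.actOfHom (𝟙 G)).act ≫ u := by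
    change (G ◁ u) ≫ (u ▷ H) ≫ μ[H] = ((𝟙 G) ▷ G ≫ μ[G]) ≫ u
    rw [id_whiskerRight, Category.id_comp, IsMonHom.mul_hom, ← Category.assoc,
      ← tensorHom_def']
  haveI : Surjective ((Groth.Agent.Lib.helper5.GrpHomLocus.actOfHom (𝟙 G)).orbitMap η[G]).left := by
    rw [Groth.Agent.Lib.helper5.GrpHomLocus.orbitMap_actOfHom]
    exact inferInstanceAs (Surjective (𝟙 G.left))
  exact exists_open_isClosedImmersion_of_mono_equivariant
    (Groth.Agent.Lib.helper5.GrpHomLocus.actOfHom u)
    (Groth.Agent.Lib.helper5.GrpHomLocus.actOfHom (𝟙 G)) u hψ η[G]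

theorem isImmersion_of_open_isClosedImmersion {X Y : Scheme.{u}} (f : X ⟶ Y) (A : Y.Opens)
    (htop : f ⁻¹ᵁ A = ⊤) [IsClosedImmersion (f ∣_ A)] : IsImmersion f := by
  haveI : IsIso (f ⁻¹ᵁ A).ι := by
    rw [isIso_iff_isOpenImmersion_and_surjective]
    refine ⟨inferInstance, ⟨fun p => ⟨⟨p, by rw [htop]; trivial⟩, rfl⟩⟩⟩
  have hfac : f = inv (f ⁻¹ᵁ A).ι ≫ f ∣_ A ≫ A.ι := by
    rw [morphismRestrict_ι, IsIso.inv_hom_id_assoc]
  rw [hfac]
  infer_instance

end Groth.Agent.Lib.helper5.GrpMonoClosed
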