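import Mathlib
import Groth.Agent.Lib.Helper5.GrpMonoClosed1
import Groth.Agent.Lib.Helper14.BCAct
import Groth.Agent.S0351
import Groth.Agent.Lib.Helper5.FppfImage5

/-!
# Monomorphisms of group schemes over local artinian rings are closed immersions (helper5)

* `isClosedImmersion_of_mono_hom_field`: over a field, a quasi-compact monomorphism `u : G ⟶ H` of group schemes
  with `G` locally of finite type is a closed immersion.
* `isClosedImmersion_of_isImmersion_hom_artinian` (S5384): over a local artinian ring, an immersion of group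
  schemes is a closed immersion (reduction to the residue field, `S0351`).
* `universallyClosed_of_isPullback`: universal closedness can be checked after base change along a surjective closed
  immersion.
* `isClosedImmersion_of_mono_hom_artinian` (S3036).
* `hom_factor_artinian` (S3034).
-/

set_option autoImplicit false
set_option linter.style.haveILetI false
universe u
open CategoryTheory MonoidalCategory CartesianMonoidalCategory MonObj GrpObj AlgebraicGeometry
  CategoryTheory.Limits TopologicalSpace

namespace Groth.Agent.Lib.helper5.GrpMonoClosed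

open Groth.Agent.Lib.Helper14.BCAct

section field

variable (k : Type u) [Field k]

theorem isClosedImmersion_of_mono_hom_field (G H : Over (Spec (CommRingCat.of k))) [GrpObj G]
    [GrpObj H] [LocallyOfFiniteType G.hom] (u : G ⟶ H) [IsMonHom u] [Mono u]
    [QuasiCompact u.left] : IsClosedImmersion u.left := by
  haveI : Flat G.hom := inferInstance
  haveI : LocallyOfFinitePresentation G.hom :=
    Groth.Agent.Lib.helper5.FppfImage.lfp_of_lft_noeth G.hom
  haveI : LocallyOfFiniteType u.left := by
    haveI : LocallyOfFiniteType (u.left ≫ H.hom) := by rw [Over.w u]; infer_instance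
    exact locallyOfFiniteType_of_comp u.left H.hom
  haveI : Mono u.left := inferInstance
  haveI : Nonempty G.left :=
    ⟨η[G].left (show ↥(Spec (CommRingCat.of k)) from default)⟩
  obtain ⟨A, htop, hcl⟩ := exists_open_isClosedImmersion_of_mono_hom u
  haveI := hcl
  haveI : IsImmersion u.left := isImmersion_of_open_isClosedImmersion u.left A htop
  exact Groth.Agent.S0351.result k G H u

end field

section UC

/-- universal closedness can be checked after base change along a surjective closed immersion. -/
theorem universallyClosed_of_isPullback {X Y X₀ Y₀ : Scheme.{u}} {f : X ⟶ Y} {f₀ : X₀ ⟶ Y₀}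
    {i : X₀ ⟶ X} {j : Y₀ ⟶ Y} (sq : IsPullback i f₀ f j) [IsClosedImmersion j] [Surjective j]
    [UniversallyClosed f₀] : UniversallyClosed f := by
  rw [universallyClosed_eq]
  intro X' T i₁ i₂ f' hf
  let jT : pullback i₂ j ⟶ T := pullback.fst i₂ j
  let p : pullback f' jT ⟶ X' := pullback.fst f' jT
  let f'₀ : pullback f' jT ⟶ pullback i₂ j := pullback.snd f' jT
  have h1 : IsPullback p f'₀ f' jT := IsPullback.of_hasPullback _ _
  have h2 : IsPullback (p ≫ i₁) f'₀ f (jT ≫ i₂) := h1.paste_horiz hf.flip
  have hc : (p ≫ i₁) ≫ f = (f'₀ ≫ pullback.snd i₂ j) ≫ j := by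
    have hpc : pullback.snd i₂ j ≫ j = jT ≫ i₂ := pullback.condition.symm
    rw [Category.assoc f'₀, hpc, h2.w]
  let l : pullback f' jT ⟶ X₀ := sq.lift (p ≫ i₁) (f'₀ ≫ pullback.snd i₂ j) hc
  have hl1 : l ≫ i = p ≫ i₁ := sq.lift_fst _ _ _
  have hl2 : l ≫ f₀ = f'₀ ≫ pullback.snd i₂ j := sq.lift_snd _ _ _
  have h2' : IsPullback (l ≫ i) f'₀ f (pullback.snd i₂ j ≫ j) := by
    have hpc : pullback.snd i₂ j ≫ j = jT ≫ i₂ := pullback.condition.symm
    rw [hl1, hpc]
    exact h2
  have h3 : IsPullback l f'₀ f₀ (pullback.snd i₂ j) := IsPullback.of_right h2' hl2 sq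
  haveI : UniversallyClosed f'₀ :=
    MorphismProperty.of_isPullback (P := @UniversallyClosed) h3 inferInstance
  haveI : IsClosedImmersion jT := inferInstanceAs (IsClosedImmersion (pullback.fst i₂ j))
  haveI : Surjective jT := inferInstanceAs (Surjective (pullback.fst i₂ j))
  haveI : Surjective p := inferInstanceAs (Surjective (pullback.fst f' jT))
  intro Z hZ
  have e : f' '' Z = jT '' (f'₀ '' (p ⁻¹' Z)) := by
    ext t
    constructor
    · rintro ⟨z, hz, rfl⟩
      obtain ⟨x₀, rfl⟩ := p.surjective z
      refine ⟨f'₀ x₀, ⟨x₀, hz, rfl⟩, ?_⟩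
      rw [← Scheme.Hom.comp_apply, ← h1.w, Scheme.Hom.comp_apply]
    · rintro ⟨_, ⟨x₀, hx₀, rfl⟩, rfl⟩
      refine ⟨p x₀, hx₀, ?_⟩
      rw [← Scheme.Hom.comp_apply, h1.w, Scheme.Hom.comp_apply]
  rw [e]
  exact jT.isClosedEmbedding.isClosedMap _ (f'₀.isClosedMap _ (hZ.preimage p.continuous))

end UC

section artinian

variable (A : Type u) [CommRing A] [IsLocalRing A]

/-- `Spec k ⟶ Spec A` for the residue field `k` of `A`. -/
noncomputable abbrev resMap :
    Spec (CommRingCat.of (IsLocalRing.ResidueField A)) ⟶ Spec (CommRingCat.of A) :=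
  Spec.map (CommRingCat.ofHom (IsLocalRing.residue A))

instance : IsClosedImmersion (resMap A) :=
  IsClosedImmersion.spec_of_surjective _ IsLocalRing.residue_surjective

variable [IsArtinianRing A]

instance : Subsingleton ↥(Spec (CommRingCat.of A)) :=
  inferInstanceAs (Subsingleton (PrimeSpectrum A))

instance : Surjective (resMap A) := ⟨fun _ => ⟨default, Subsingleton.elim _ _⟩⟩

/-- S5384 -/
theorem isClosedImmersion_of_isImmersion_hom_artinian (G H : Over (Spec (CommRingCat.of A)))
    [GrpObj G] [GrpObj H] (u : H ⟶ G) [IsMonHom u] [IsImmersion u.left] :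
    IsClosedImmersion u.left := by
  let uk : Red.bc (resMap A) H ⟶ Red.bc (resMap A) G := (Over.pullback (resMap A)).map u
  haveI : IsMonHom uk := inferInstance
  have sq : IsPullback (prL (resMap A) H) uk.left u.left (prL (resMap A) G) :=
    isPullback_map_left (resMap A) u
  haveI : IsImmersion uk.left := MorphismProperty.of_isPullback (P := @IsImmersion) sq inferInstance
  have hk : IsClosedImmersion uk.left :=
    Groth.Agent.S0351.result (IsLocalRing.ResidueField A) (Red.bc (resMap A) H)
      (Red.bc (resMap A) G) uk
  haveI := surjective_prL (resMap A) H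
  haveI : IsClosedImmersion (prL (resMap A) G) :=
    inferInstanceAs (IsClosedImmersion (pullback.fst G.hom (resMap A)))
  have hrange : Set.range u.left = prL (resMap A) G '' Set.range uk.left := by
    ext x
    constructor
    · rintro ⟨h, rfl⟩
      obtain ⟨h', rfl⟩ := (prL (resMap A) H).surjective h
      refine ⟨uk.left h', ⟨h', rfl⟩, ?_⟩
      rw [← Scheme.Hom.comp_apply, ← sq.w, Scheme.Hom.comp_apply]
    · rintro ⟨_, ⟨h', rfl⟩, rfl⟩
      refine ⟨prL (resMap A) H h', ?_⟩
      rw [← Scheme.Hom.comp_apply, sq.w, Scheme.Hom.comp_apply]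
  refine IsClosedImmersion.of_isPreimmersion _ ?_
  rw [hrange]
  exact (prL (resMap A) G).isClosedEmbedding.isClosedMap _ uk.left.isClosedEmbedding.isClosed_range

/-- S3036 -/
theorem isClosedImmersion_of_mono_hom_artinian (G H : Over (Spec (CommRingCat.of A)))
    [GrpObj G] [GrpObj H] [LocallyOfFiniteType G.hom] (u : G ⟶ H) [IsMonHom u] [Mono u]
    [QuasiCompact u.left] : IsClosedImmersion u.left := by
  let uk : Red.bc (resMap A) G ⟶ Red.bc (resMap A) H := (Over.pullback (resMap A)).map u
  haveI : IsMonHom uk := inferInstance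
  haveI : Mono uk := inferInstance
  have sq : IsPullback (prL (resMap A) G) uk.left u.left (prL (resMap A) H) :=
    isPullback_map_left (resMap A) u
  haveI : QuasiCompact uk.left := MorphismProperty.of_isPullback (P := @QuasiCompact) sq inferInstance
  haveI : LocallyOfFiniteType (Red.bc (resMap A) G).hom :=
    inferInstanceAs (LocallyOfFiniteType (pullback.snd G.hom (resMap A)))
  have hk : IsClosedImmersion uk.left :=
    isClosedImmersion_of_mono_hom_field (IsLocalRing.ResidueField A) (Red.bc (resMap A) G)
      (Red.bc (resMap A) H) uk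
  haveI : UniversallyClosed uk.left := inferInstance
  haveI : IsClosedImmersion (prL (resMap A) H) :=
    inferInstanceAs (IsClosedImmersion (pullback.fst H.hom (resMap A)))
  haveI := surjective_prL (resMap A) H
  haveI : UniversallyClosed u.left := universallyClosed_of_isPullback sq
  haveI : Mono u.left := inferInstance
  haveI : LocallyOfFiniteType u.left := by
    haveI : LocallyOfFiniteType (u.left ≫ H.hom) := by rw [Over.w u]; infer_instance
    exact locallyOfFiniteType_of_comp u.left H.hom
  haveI : IsProper u.left := {}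
  haveI : LocallyQuasiFinite u.left := inferInstance
  haveI : IsFinite u.left := IsFinite.of_isProper_of_locallyQuasiFinite u.left
  exact (IsClosedImmersion.iff_isFinite_and_mono u.left).2 ⟨inferInstance, inferInstance⟩

/-- S3034 -/
theorem hom_factor_artinian (G H : Over (Spec (CommRingCat.of A))) [GrpObj G] [GrpObj H]
    [LocallyOfFiniteType G.hom] [LocallyOfFiniteType H.hom] (u : G ⟶ H) [IsMonHom u]
    [QuasiCompact u.left]
    (hN : Flat (Limits.pullback.snd u.left
      (η[H] : 𝟙_ (Over (Spec (CommRingCat.of A))) ⟶ H).left)) :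
    ∃ (C : Over (Spec (CommRingCat.of A))) (_ : GrpObj C) (p : G ⟶ C) (i : C ⟶ H),
      IsMonHom p ∧ IsMonHom i ∧ p ≫ i = u ∧
      Flat p.left ∧ Surjective p.left ∧ LocallyOfFinitePresentation p.left ∧
      IsClosedImmersion i.left := by
  haveI : IsLocallyNoetherian (Spec (CommRingCat.of A)) := inferInstance
  haveI : LocallyOfFinitePresentation G.hom :=
    Groth.Agent.Lib.helper5.FppfImage.lfp_of_lft_noeth G.hom
  have hK : Flat (pullback u η[H]).hom := by
    have sqK : IsPullback (pullback.fst u η[H]).left (pullback.snd u η[H]).left u.left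
        (η[H] : 𝟙_ (Over (Spec (CommRingCat.of A))) ⟶ H).left :=
      (IsPullback.of_hasPullback u η[H]).map (Over.forget _)
    have e1 := sqK.isoPullback_hom_snd
    have e2 : (pullback u η[H]).hom = (pullback.snd u η[H]).left := by
      have := Over.w (pullback.snd u η[H])
      rw [← this]
      exact (Category.comp_id _).symm
    rw [e2, ← e1]
    haveI := hN
    infer_instance
  obtain ⟨Q, str, p, i, hpm, him, e, hs, hf, hpp, himono, hQ, -⟩ :=
    Groth.Agent.Lib.helper5.FppfImage.exists_quotient_by_flat_kernel G H u hK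
  haveI := hs
  haveI := himono
  haveI := him
  haveI : QuasiCompact i.left := by
    haveI : QuasiCompact (p.left ≫ i.left) := by
      rw [← Over.comp_left, e]; infer_instance
    exact Groth.Agent.Lib.helper5.FppfImage.quasiCompact_of_comp_surjective p.left i.left
  haveI := hQ
  haveI : LocallyOfFiniteType Q.hom := inferInstance
  exact ⟨Q, str, p, i, hpm, him, e, hf, hs, hpp,
    isClosedImmersion_of_mono_hom_artinian A Q H i⟩

end artinian

end Groth.Agent.Lib.helper5.GrpMonoClosed
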