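import Mathlib
import Groth.Agent.Lib.Helper5.GrpMonoClosed2
import Groth.Agent.Lib.Helper18.NilBaseProper
import Groth.Agent.Lib.Helper18.ThickeningImm
import Groth.Agent.Lib.Helper18.NilBaseMono

/-!
# Schemes over a local artinian ring and their special fibres (helper5)

`A` a local artinian ring with residue field `k`, `resMap A : Spec k ⟶ Spec A`.

* `isNilpotent_ker_resMap`: the ideal sheaf of `Spec k` in `Spec A` is nilpotent.
* `isNilpotent_ker_fst`: for every morphism `f : Y ⟶ Spec A`, the ideal of `Y ×_A k` in `Y` is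
  nilpotent on every affine open.
* `locallyOfFiniteType_of_special`, `quasiCompact_of_special`, `isImmersion_of_special`,
  `isClosedImmersion_of_special` (SGA3 VI_A 1.2; S5346).
-/

set_option autoImplicit false
universe u
open CategoryTheory AlgebraicGeometry CategoryTheory.Limits

namespace Groth.Agent.Lib.helper5.ArtinNil

open Groth.Agent.Lib.helper5.GrpMonoClosed Groth.Agent.Lib.Helper18.NilBase
  Groth.Agent.Lib.Helper18.RelSmoothFiber

variable (A : Type u) [CommRing A] [IsLocalRing A] [IsArtinianRing A]

theorem isNilpotent_ker_residue : IsNilpotent (RingHom.ker (IsLocalRing.residue A)) := by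
  rw [IsLocalRing.ker_residue, ← IsLocalRing.jacobson_eq_maximalIdeal (⊥ : Ideal A) bot_ne_top]
  exact IsArtinianRing.isNilpotent_jacobson_bot

theorem isNilpotent_ker_resMap : IsNilpotent (resMap A).ker := by
  apply isNilpotent_of_isAffine
  rw [Scheme.Hom.ker_apply]
  obtain ⟨n, hn⟩ := isNilpotent_ker_residue A
  refine ⟨n, ?_⟩
  rw [Ideal.zero_eq_bot, eq_bot_iff]
  let φ : CommRingCat.of A ⟶ CommRingCat.of (IsLocalRing.ResidueField A) :=
    CommRingCat.ofHom (IsLocalRing.residue A)
  have hnat : (Spec.map φ).appTop ≫ (Scheme.ΓSpecIso _).hom = (Scheme.ΓSpecIso _).hom ≫ φ :=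
    Scheme.ΓSpecIso_naturality φ
  have hle : RingHom.ker ((resMap A).app ⊤).hom ≤
      (RingHom.ker (IsLocalRing.residue A)).comap (Scheme.ΓSpecIso (CommRingCat.of A)).hom.hom := by
    intro x hx
    rw [RingHom.mem_ker] at hx
    rw [Ideal.mem_comap, RingHom.mem_ker]
    have h2 := congr($(hnat).hom x)
    simp only [CommRingCat.hom_comp, RingHom.comp_apply] at h2
    have h3 : ((Spec.map φ).appTop).hom x = 0 := hx
    rw [h3, map_zero] at h2
    exact h2.symm
  intro x hx
  have h1 := Ideal.pow_right_mono hle n hx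
  have h2 := Ideal.le_comap_pow (Scheme.ΓSpecIso (CommRingCat.of A)).hom.hom n h1
  rw [hn, Ideal.zero_eq_bot, Ideal.mem_comap, Ideal.mem_bot] at h2
  have hinj : Function.Injective (Scheme.ΓSpecIso (CommRingCat.of A)).hom.hom :=
    (ConcreteCategory.bijective_of_isIso (Scheme.ΓSpecIso (CommRingCat.of A)).hom).1
  exact hinj (by rw [h2, map_zero])

/-- for every `A`-scheme `Y`, the ideal of `Y ×_A k` in `Y` is nilpotent on affine opens. -/
theorem isNilpotent_ker_fst {Y : Scheme.{u}} (f : Y ⟶ Spec (CommRingCat.of A))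
    (U : Y.affineOpens) : IsNilpotent ((pullback.fst f (resMap A)).ker.ideal U) := by
  have hc : IsPullback (pullback.fst f (resMap A)) (pullback.snd f (resMap A)) f (resMap A) :=
    IsPullback.of_hasPullback _ _
  obtain ⟨hWU, hUS, hW, hPO, hs, hsX, hker⟩ :=
    chart_thickening hc (isAffineOpen_top (Spec (CommRingCat.of A))) U.2 (by simp)
  rw [Scheme.Hom.ker_apply, hker]
  obtain ⟨n, hn⟩ := isNilpotent_ideal_of_isNilpotent _ (isNilpotent_ker_resMap A)
    ⟨⊤, isAffineOpen_top _⟩
  rw [Scheme.Hom.ker_apply] at hn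
  refine ⟨n, ?_⟩
  rw [← Ideal.map_pow, hn, Ideal.zero_eq_bot, Ideal.map_bot, Ideal.zero_eq_bot]

instance surjective_fst {Y : Scheme.{u}} (f : Y ⟶ Spec (CommRingCat.of A)) :
    Surjective (pullback.fst f (resMap A)) :=
  MorphismProperty.pullback_fst (P := @Surjective) _ _ inferInstance

/-- SGA3 VI_A 1.2 (i) -/
theorem locallyOfFiniteType_of_special {X : Scheme.{u}} (f : X ⟶ Spec (CommRingCat.of A))
    [LocallyOfFiniteType (pullback.snd f (resMap A))] : LocallyOfFiniteType f :=
  locallyOfFiniteType_of_thickening_base'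
    (fun U => isNilpotent_ideal_of_isNilpotent _ (isNilpotent_ker_resMap A) U)
    (IsPullback.of_hasPullback f (resMap A))

theorem quasiCompact_of_special {X : Scheme.{u}} (f : X ⟶ Spec (CommRingCat.of A))
    [QuasiCompact (pullback.snd f (resMap A))] : QuasiCompact f := by
  have h1 : QuasiCompact (pullback.fst f (resMap A) ≫ f) := by
    rw [pullback.condition]; infer_instance
  exact Groth.Agent.Lib.helper12.quasiCompact_of_comp_surjective
    (pullback.fst f (resMap A)) f

omit [IsArtinianRing A] in
/-- the base change square of a morphism of `A`-schemes to the residue field -/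
theorem isPullback_map {X Y : Over (Spec (CommRingCat.of A))} (u : X ⟶ Y) :
    IsPullback (pullback.fst X.hom (resMap A)) ((Over.pullback (resMap A)).map u).left u.left
      (pullback.fst Y.hom (resMap A)) :=
  Groth.Agent.Lib.Helper14.BCAct.isPullback_map_left (resMap A) u
/-- SGA3 VI_A 1.2 (ii), closed immersions -/
theorem isClosedImmersion_of_special {X Y : Over (Spec (CommRingCat.of A))} (u : X ⟶ Y)
    [IsClosedImmersion ((Over.pullback (resMap A)).map u).left] : IsClosedImmersion u.left :=
  isClosedImmersion_of_thickening_base' (fun U => isNilpotent_ker_fst A Y.hom U)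
    (isPullback_map A u)

/-- SGA3 VI_A 1.2 (ii), immersions -/
theorem isImmersion_of_special {X Y : Over (Spec (CommRingCat.of A))} (u : X ⟶ Y)
    [IsImmersion ((Over.pullback (resMap A)).map u).left] : IsImmersion u.left := by
  haveI : LocallyOfFiniteType u.left :=
    locallyOfFiniteType_of_thickening_base' (fun U => isNilpotent_ker_fst A Y.hom U)
      (isPullback_map A u)
  exact isImmersion_of_thickening (pullback.fst Y.hom (resMap A)).surjective (isPullback_map A u)

end Groth.Agent.Lib.helper5.ArtinNil
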