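import Mathlib

/-!
# The shear isomorphism of a group object (helper5)

For a group object `G` of a cartesian monoidal category, `(g, h) ↦ (g, g h)` is an automorphism of `G ⊗ G`;
hence `(fst, μ)` is also a product projection pair.
-/

set_option autoImplicit false
open CategoryTheory CategoryTheory.Limits MonoidalCategory CartesianMonoidalCategory MonObj

namespace Groth.Agent.Lib.helper5.GrpShear

universe v u
variable {C : Type u} [Category.{v} C] [CartesianMonoidalCategory C] (G : C) [GrpObj G]

/-- `(g, h) ↦ (g, g h)` -/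
noncomputable def shear : G ⊗ G ≅ G ⊗ G where
  hom := lift (fst G G) (fst G G * snd G G)
  inv := lift (fst G G) ((fst G G)⁻¹ * snd G G)
  hom_inv_id := by
    apply CartesianMonoidalCategory.hom_ext
    · simp
    · rw [Category.assoc, lift_snd, MonObj.comp_mul, GrpObj.comp_inv, lift_fst, lift_snd, Category.id_comp,
        inv_mul_cancel_left]
  inv_hom_id := by
    apply CartesianMonoidalCategory.hom_ext
    · simp
    · rw [Category.assoc, lift_snd, MonObj.comp_mul, lift_fst, lift_snd, Category.id_comp,
        mul_inv_cancel_left]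

@[reassoc (attr := simp)]
theorem shear_hom_fst : (shear G).hom ≫ fst G G = fst G G := lift_fst _ _

@[reassoc (attr := simp)]
theorem shear_hom_snd : (shear G).hom ≫ snd G G = μ[G] := by
  rw [shear, lift_snd, Hom.mul_def, lift_fst_snd, Category.id_comp]

@[reassoc (attr := simp)]
theorem shear_inv_fst : (shear G).inv ≫ fst G G = fst G G := lift_fst _ _

@[reassoc (attr := simp)]
theorem shear_inv_mul : (shear G).inv ≫ μ[G] = snd G G := by
  rw [← shear_hom_snd, Iso.inv_hom_id_assoc]

/-- the section `g ↦ (g, 1)` -/
noncomputable def unitSec : G ⟶ G ⊗ G := lift (𝟙 G) (toUnit G ≫ η[G])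

@[reassoc (attr := simp)]
theorem unitSec_fst : unitSec G ≫ fst G G = 𝟙 G := lift_fst _ _

@[reassoc (attr := simp)]
theorem unitSec_snd : unitSec G ≫ snd G G = toUnit G ≫ η[G] := lift_snd _ _

@[reassoc (attr := simp)]
theorem unitSec_mul : unitSec G ≫ μ[G] = 𝟙 G := by
  rw [unitSec, ← Hom.mul_def, ← Hom.one_def, _root_.mul_one]

end Groth.Agent.Lib.helper5.GrpShear
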