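import Mathlib

/-!
# Pointwise descent of finite type along base change from a field: ring level (helper5)

`k` a field, `B`, `C` two `k`-algebras.

* `exists_finset_forall_pow_mul_mem`: if `D_t` is of finite type over `R`, a finite subset of `D` controls all of `D` up to
  powers of `t`.
* `exists_finiteType_away`: if `(C ⊗ B)_t` is of finite type over `B` and `q` is a prime of `C ⊗ B` not containing `t`, then
  `C_c` is of finite type over `k` for some `c : C` with `c ⊗ 1 ∉ q` (EGA IV 2.7.1 made pointwise; uses that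
  `Spec (C₀ ⊗ B) → Spec C₀` is open).
* `exists_finiteType_away_of_isPushout(')`: the same for an abstract pushout square of rings.
-/

set_option autoImplicit false
universe u
open TensorProduct

namespace Groth.Agent.Lib.helper5.LftPt

variable {k B C : Type u} [Field k] [CommRing B] [CommRing C] [Algebra k B] [Algebra k C]
variable {ι : Type u} (b : Module.Basis ι k B)

/-- the map `C₀ ⊗ B → C ⊗ B` -/
noncomputable abbrev jmap (C₀ : Subalgebra k C) : C₀ ⊗[k] B →ₐ[k] C ⊗[k] B :=
  Algebra.TensorProduct.map C₀.val (AlgHom.id k B)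

theorem repr_jmap (C₀ : Subalgebra k C) (d : C₀ ⊗[k] B) (i : ι) :
    (Algebra.TensorProduct.basis C b).repr (jmap C₀ d) i =
      ((Algebra.TensorProduct.basis C₀ b).repr d i : C) := by
  induction d using TensorProduct.induction_on with
  | zero => simp
  | tmul x y =>
    simp only [jmap, Algebra.TensorProduct.map_tmul, Algebra.TensorProduct.basis_repr_tmul]
    simp [Algebra.algebraMap_eq_smul_one]
  | add x y hx hy =>
    simp only [map_add, Finsupp.coe_add, Pi.add_apply, hx, hy]
    simp

theorem mem_range_jmap_iff (C₀ : Subalgebra k C) (d : C ⊗[k] B) :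
    d ∈ (jmap (B := B) C₀).range ↔ ∀ i, (Algebra.TensorProduct.basis C b).repr d i ∈ C₀ := by
  constructor
  · rintro ⟨d₀, rfl⟩ i
    change (Algebra.TensorProduct.basis C b).repr (jmap C₀ d₀) i ∈ C₀
    rw [repr_jmap]
    exact Subtype.prop _
  · intro h
    have h1 := (Algebra.TensorProduct.basis C b).linearCombination_repr d
    rw [← h1, Finsupp.linearCombination_apply]
    refine Subalgebra.sum_mem _ fun i _ => ?_
    beta_reduce
    rw [Algebra.TensorProduct.basis_repr_symm_apply']
    exact ⟨(⟨_, h i⟩ : C₀) ⊗ₜ b i, by simp [jmap]⟩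

end Groth.Agent.Lib.helper5.LftPt

namespace Groth.Agent.Lib.helper5.LftPt

/-- If `D_t` is of finite type over `R`, there is a finite subset `F` of `D` such that for every
subring `D'` of `D` containing `t`, `F` and the image of `R`, every element of `D` is multiplied
into `D'` by a power of `t`. -/
theorem exists_finset_forall_pow_mul_mem {R D : Type u} [CommRing R] [CommRing D] (φ : R →+* D)
    (t : D) (hft : ((algebraMap D (Localization.Away t)).comp φ).FiniteType) :
    ∃ F : Finset D, ∀ D' : Subring D, t ∈ D' → (∀ r, φ r ∈ D') → (∀ d ∈ F, d ∈ D') →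
      ∀ d : D, ∃ n : ℕ, t ^ n * d ∈ D' := by
  classical
  letI : Algebra R (Localization.Away t) := ((algebraMap D (Localization.Away t)).comp φ).toAlgebra
  have hft' : Algebra.FiniteType R (Localization.Away t) := hft
  obtain ⟨s, hs⟩ := hft'.out
  have hsurj : ∀ z : Localization.Away t, ∃ x : D × ℕ,
      z * algebraMap D (Localization.Away t) (t ^ x.2) = algebraMap D _ x.1 := by
    intro z
    obtain ⟨⟨d, ⟨_, n, rfl⟩⟩, h⟩ := IsLocalization.surj (Submonoid.powers t) z
    exact ⟨⟨d, n⟩, h⟩
  choose num hnum using hsurj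
  refine ⟨s.image fun z => (num z).1, fun D' htD hφ hF d => ?_⟩
  let 𝒮 : Subalgebra R (Localization.Away t) :=
    { carrier := {z | ∃ n : ℕ, ∃ d ∈ D', z * algebraMap D (Localization.Away t) (t ^ n) =
        algebraMap D _ d}
      mul_mem' := by
        rintro z₁ z₂ ⟨n₁, d₁, hd₁, h₁⟩ ⟨n₂, d₂, hd₂, h₂⟩
        refine ⟨n₁ + n₂, d₁ * d₂, D'.mul_mem hd₁ hd₂, ?_⟩
        rw [pow_add, map_mul, map_mul, ← h₁, ← h₂]; ring
      add_mem' := by
        rintro z₁ z₂ ⟨n₁, d₁, hd₁, h₁⟩ ⟨n₂, d₂, hd₂, h₂⟩
        refine ⟨n₁ + n₂, d₁ * t ^ n₂ + d₂ * t ^ n₁,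
          D'.add_mem (D'.mul_mem hd₁ (D'.pow_mem htD _)) (D'.mul_mem hd₂ (D'.pow_mem htD _)), ?_⟩
        rw [pow_add, map_mul, map_add, map_mul, map_mul, ← h₁, ← h₂]; ring
      algebraMap_mem' := by
        intro r
        refine ⟨0, φ r, hφ r, ?_⟩
        simp [RingHom.algebraMap_toAlgebra] }
  have hle : Algebra.adjoin R (s : Set (Localization.Away t)) ≤ 𝒮 := by
    refine Algebra.adjoin_le fun z hz => ?_
    exact ⟨(num z).2, (num z).1, hF _ (Finset.mem_image_of_mem _ hz), hnum z⟩
  rw [hs] at hle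
  obtain ⟨n, d', hd', h⟩ := hle (Algebra.mem_top (x := algebraMap D (Localization.Away t) d))
  rw [← map_mul, IsLocalization.eq_iff_exists (Submonoid.powers t)] at h
  obtain ⟨⟨_, m, rfl⟩, h⟩ := h
  refine ⟨m + n, ?_⟩
  have : t ^ (m + n) * d = t ^ m * d' := by rw [pow_add, ← h]; ring
  rw [this]
  exact D'.mul_mem (D'.pow_mem htD _) hd'

end Groth.Agent.Lib.helper5.LftPt

namespace Groth.Agent.Lib.helper5.LftPt

variable {k B C : Type u} [Field k] [CommRing B] [CommRing C] [Algebra k B] [Algebra k C]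

/-- the conductor of `x` into `C₀` -/
def conductor (C₀ : Subalgebra k C) (x : C) : Ideal C₀ where
  carrier := {a | (a : C) * x ∈ C₀}
  add_mem' := by
    intro a b ha hb
    simp only [Set.mem_ofPred_eq, Subalgebra.coe_add, add_mul] at ha hb ⊢
    exact C₀.add_mem ha hb
  zero_mem' := by simp
  smul_mem' := by
    intro r a ha
    simp only [Set.mem_ofPred_eq, smul_eq_mul, Subalgebra.coe_mul, mul_assoc] at ha ⊢
    exact C₀.mul_mem r.2 ha

theorem finiteType_away_of_forall_pow_mul_mem (C₀ : Subalgebra k C) (hC₀ : C₀.FG) (c : C₀)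
    (h : ∀ x : C, ∃ n : ℕ, (c : C) ^ n * x ∈ C₀) :
    Algebra.FiniteType k (Localization.Away (c : C)) := by
  haveI : Algebra.FiniteType k C₀ := (Subalgebra.fg_iff_finiteType C₀).mp hC₀
  haveI : Algebra.FinitePresentation C₀ (Localization.Away c) :=
    IsLocalization.Away.finitePresentation c
  haveI : Algebra.FiniteType C₀ (Localization.Away c) := inferInstance
  haveI : Algebra.FiniteType k (Localization.Away c) := Algebra.FiniteType.trans ‹_› ‹_›
  refine Algebra.FiniteType.of_surjective (Localization.awayMapₐ C₀.val c) ?_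
  have : Function.Surjective (Localization.awayMap C₀.val.toRingHom c) := by
    rw [Localization.awayMap_surjective_iff]
    intro x
    obtain ⟨n, hn⟩ := h x
    exact ⟨⟨_, hn⟩, n, rfl⟩
  exact this

end Groth.Agent.Lib.helper5.LftPt

namespace Groth.Agent.Lib.helper5.LftPt

variable {k B C : Type u} [Field k] [CommRing B] [CommRing C] [Algebra k B] [Algebra k C]

open PrimeSpectrum in
/-- **Pointwise descent of finite type along base change from a field.**  If `(C ⊗ B)_t` is of
finite type over `B` and `q` is a prime of `C ⊗ B` not containing `t`, then `C_c` is of finite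
type over `k` for some `c` with `c ⊗ 1 ∉ q`. -/
theorem exists_finiteType_away (t : C ⊗[k] B)
    (hft : ((algebraMap (C ⊗[k] B) (Localization.Away t)).comp
      (Algebra.TensorProduct.includeRight (R := k) (A := C) (B := B)).toRingHom).FiniteType)
    (q : Ideal (C ⊗[k] B)) [q.IsPrime] (ht : t ∉ q) :
    ∃ c : C, c ⊗ₜ[k] (1 : B) ∉ q ∧ Algebra.FiniteType k (Localization.Away c) := by
  classical
  let b := Module.Free.chooseBasis k B
  let 𝔟 := Algebra.TensorProduct.basis C b
  obtain ⟨F, hF⟩ := exists_finset_forall_pow_mul_mem _ t hft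
  let E : Finset (C ⊗[k] B) := insert t F
  let gens : Finset C := E.biUnion fun d => (𝔟.repr d).support.image (𝔟.repr d)
  let C₀ : Subalgebra k C := Algebra.adjoin k (gens : Set C)
  have hC₀ : C₀.FG := Subalgebra.fg_adjoin_finset _
  have hE : ∀ d ∈ E, d ∈ (jmap (B := B) C₀).range := by
    intro d hd
    rw [mem_range_jmap_iff b]
    intro i
    by_cases hi : i ∈ (𝔟.repr d).support
    · refine Algebra.subset_adjoin ?_
      simp only [gens, Finset.coe_biUnion, Set.mem_iUnion]
      exact ⟨d, hd, Finset.mem_coe.mpr (Finset.mem_image_of_mem _ hi)⟩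
    · rw [Finsupp.notMem_support_iff] at hi
      change 𝔟.repr d i ∈ C₀
      rw [hi]
      exact C₀.zero_mem
  have H1 : ∀ d : C ⊗[k] B, ∃ n : ℕ, t ^ n * d ∈ (jmap (B := B) C₀).range := by
    refine hF (jmap (B := B) C₀).range.toSubring (hE t (Finset.mem_insert_self _ _)) ?_ ?_
    · intro r
      exact ⟨(1 : C₀) ⊗ₜ r, by simp [jmap]⟩
    · intro d hd
      exact hE d (Finset.mem_insert_of_mem hd)
  obtain ⟨t₀, ht₀⟩ := hE t (Finset.mem_insert_self _ _)
  change jmap C₀ t₀ = t at ht₀
  -- the open image of `D(t₀)` in `Spec C₀`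
  have hopen := isOpenMap_comap_algebraMap_tensorProduct_of_field (K := k) (A := C₀) (B := B)
  let O₀ : Set (PrimeSpectrum C₀) :=
    comap (algebraMap C₀ (C₀ ⊗[k] B)) '' (basicOpen t₀ : Set (PrimeSpectrum (C₀ ⊗[k] B)))
  have hO₀ : IsOpen O₀ := hopen _ (basicOpen t₀).isOpen
  let q₀ : PrimeSpectrum (C₀ ⊗[k] B) := ⟨q.comap (jmap C₀), inferInstance⟩
  have hq₀ : q₀ ∈ (basicOpen t₀ : Set (PrimeSpectrum (C₀ ⊗[k] B))) := by
    change t₀ ∉ q.comap (jmap C₀)
    rw [Ideal.mem_comap, ht₀]
    exact ht
  have hp₀ : comap (algebraMap C₀ (C₀ ⊗[k] B)) q₀ ∈ O₀ := ⟨q₀, hq₀, rfl⟩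
  obtain ⟨_, ⟨_, ⟨c, rfl⟩, rfl⟩, hc, hcO⟩ := isBasis_basic_opens.exists_subset_of_mem_open hp₀ hO₀
  have hcq : (c : C) ⊗ₜ[k] (1 : B) ∉ q := by
    intro h
    apply hc
    change algebraMap C₀ (C₀ ⊗[k] B) c ∈ q.comap (jmap C₀)
    rw [Ideal.mem_comap]
    simpa [jmap, Algebra.TensorProduct.algebraMap_apply] using h
  refine ⟨c, hcq, finiteType_away_of_forall_pow_mul_mem C₀ hC₀ c fun x => ?_⟩
  -- `c` lies in the radical of the conductor of `x`
  suffices hrad : c ∈ (conductor C₀ x).radical by
    obtain ⟨n, hn⟩ := hrad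
    exact ⟨n, by have h : ((c ^ n : C₀) : C) * x ∈ C₀ := hn; simpa using h⟩
  rw [Ideal.radical_eq_sInf, Ideal.mem_sInf]
  rintro P ⟨hP, hPprime⟩
  by_contra hcP
  have hPO : (⟨P, hPprime⟩ : PrimeSpectrum C₀) ∈ O₀ := hcO hcP
  obtain ⟨Q, hQt, hQP⟩ := hPO
  obtain ⟨n, hn⟩ := H1 (x ⊗ₜ 1)
  let 𝔟₀ := Algebra.TensorProduct.basis C₀ b
  -- coordinates of `t₀ ^ n`
  have hcoord : ∀ i, 𝔟₀.repr (t₀ ^ n) i ∈ conductor C₀ x := by
    intro i
    have h1 := (mem_range_jmap_iff b C₀ _).mp hn i
    have h2 : t ^ n * x ⊗ₜ[k] (1 : B) = x • jmap C₀ (t₀ ^ n) := by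
      rw [map_pow, ht₀, Algebra.smul_def, Algebra.TensorProduct.algebraMap_apply,
        Algebra.algebraMap_self, RingHom.id_apply, mul_comm]
    rw [h2, map_smul, Finsupp.smul_apply, repr_jmap, smul_eq_mul, mul_comm] at h1
    exact h1
  have hmem : t₀ ^ n ∈ Q.asIdeal := by
    rw [← 𝔟₀.linearCombination_repr (t₀ ^ n), Finsupp.linearCombination_apply]
    refine Ideal.sum_mem _ fun i _ => ?_
    beta_reduce
    rw [Algebra.smul_def]
    refine Ideal.mul_mem_right _ _ ?_
    have h3 : 𝔟₀.repr (t₀ ^ n) i ∈ P := hP (hcoord i)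
    have h4 : P = (comap (algebraMap C₀ (C₀ ⊗[k] B)) Q).asIdeal := by rw [hQP]
    rw [h4] at h3
    exact h3
  exact hQt (Q.isPrime.mem_of_pow_mem n hmem)

end Groth.Agent.Lib.helper5.LftPt

namespace Groth.Agent.Lib.helper5.LftPt

/-- `exists_finiteType_away` for an abstract pushout square of rings. -/
theorem exists_finiteType_away_of_isPushout {k B C D : Type u} [Field k] [CommRing B] [CommRing C]
    [CommRing D] [Algebra k B] [Algebra k C] [Algebra B D] [Algebra C D] [Algebra k D]
    [IsScalarTower k B D] [IsScalarTower k C D] [Algebra.IsPushout k C B D] (r : D)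
    (hft : ((algebraMap D (Localization.Away r)).comp (algebraMap B D)).FiniteType)
    (q : Ideal D) [q.IsPrime] (hr : r ∉ q) :
    ∃ c : C, algebraMap C D c ∉ q ∧ Algebra.FiniteType k (Localization.Away c) := by
  let e := Algebra.IsPushout.equiv k C B D
  let t : C ⊗[k] B := e.symm r
  have het : e t = r := e.apply_symm_apply r
  let q' : Ideal (C ⊗[k] B) := q.comap e.toRingEquiv.toRingHom
  haveI : q'.IsPrime := Ideal.comap_isPrime _ _
  have ht : t ∉ q' := by
    change e t ∉ q
    rw [het]; exact hr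
  have hpow : (Submonoid.powers r).map e.symm.toRingEquiv.toMonoidHom = Submonoid.powers t := by
    rw [Submonoid.map_powers]; rfl
  let ψ : Localization.Away r ≃+* Localization.Away t :=
    IsLocalization.ringEquivOfRingEquiv (M := Submonoid.powers r) (T := Submonoid.powers t)
      (Localization.Away r) (Localization.Away t) e.symm.toRingEquiv hpow
  have hcomp : (algebraMap (C ⊗[k] B) (Localization.Away t)).comp
      (Algebra.TensorProduct.includeRight (R := k) (A := C) (B := B)).toRingHom =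
      ψ.toRingHom.comp ((algebraMap D (Localization.Away r)).comp (algebraMap B D)) := by
    ext b'
    simp only [RingHom.comp_apply, AlgHom.toRingHom_eq_coe, RingHom.coe_coe,
      Algebra.TensorProduct.includeRight_apply, RingEquiv.toRingHom_eq_coe]
    rw [IsLocalization.ringEquivOfRingEquiv_eq]
    congr 1
    exact (Algebra.IsPushout.equiv_symm_algebraMap_right k C B D b').symm
  have hft' : ((algebraMap (C ⊗[k] B) (Localization.Away t)).comp
      (Algebra.TensorProduct.includeRight (R := k) (A := C) (B := B)).toRingHom).FiniteType := by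
    rw [hcomp]
    exact (RingHom.FiniteType.of_surjective _ ψ.surjective).comp hft
  obtain ⟨c, hc, hfin⟩ := exists_finiteType_away t hft' q' ht
  refine ⟨c, ?_, hfin⟩
  intro h
  apply hc
  change e (c ⊗ₜ 1) ∈ q
  rw [Algebra.IsPushout.equiv_tmul, map_one, mul_one]
  exact h

end Groth.Agent.Lib.helper5.LftPt

namespace Groth.Agent.Lib.helper5.LftPt

/-- `IsField` version -/
theorem exists_finiteType_away_of_isPushout' {k B C D : Type u} [CommRing k] (hk : IsField k)
    [CommRing B] [CommRing C]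
    [CommRing D] [Algebra k B] [Algebra k C] [Algebra B D] [Algebra C D] [Algebra k D]
    [IsScalarTower k B D] [IsScalarTower k C D] [Algebra.IsPushout k C B D] (r : D)
    (hft : ((algebraMap D (Localization.Away r)).comp (algebraMap B D)).FiniteType)
    (q : Ideal D) [q.IsPrime] (hr : r ∉ q) :
    ∃ c : C, algebraMap C D c ∉ q ∧ Algebra.FiniteType k (Localization.Away c) := by
  letI := hk.toField
  exact exists_finiteType_away_of_isPushout r hft q hr

end Groth.Agent.Lib.helper5.LftPt
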