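import Mathlib
import Groth.Agent.Lib.Helper5.LftPt1
import Groth.Agent.Lib.Helper18.StalkEtale
import Groth.Agent.Lib.Helper18.ClosedImmNear
import Groth.Agent.Lib.Helper18.PullbackSquare

/-!
# Pointwise descent of "locally of finite type" along base change from a one-point integral base (helper5)

* `finiteType_appLE_of_comp_ι`, `finiteType_away_of_appLE_basicOpen`: chart lemmas.
* `exists_lft_nhd_of_isPullback`: in a cartesian square over a one-point integral base `S` (e.g. the spectrum of a field),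
  if `b : P ⟶ S'` is locally of finite type near `x'` then `f : X ⟶ S` is locally of finite type near `a x'`.
-/

set_option autoImplicit false
universe u
open CategoryTheory AlgebraicGeometry CategoryTheory.Limits

namespace Groth.Agent.Lib.helper5.LftPt

/-- if `W.ι ≫ f` is locally of finite type, the maps on sections from affine opens of the target to
affine opens inside `W` are of finite type. -/
theorem finiteType_appLE_of_comp_ι {X Y : Scheme.{u}} (f : X ⟶ Y) (W : X.Opens)
    [LocallyOfFiniteType (W.ι ≫ f)] {U : Y.Opens} (hU : IsAffineOpen U) {V : X.Opens}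
    (hV : IsAffineOpen V) (hVW : V ≤ W) (e : V ≤ f ⁻¹ᵁ U) : (f.appLE U V e).hom.FiniteType := by
  haveI : LocallyOfFiniteType (V.ι ≫ f) := by
    rw [← X.homOfLE_ι hVW, Category.assoc]; infer_instance
  haveI : LocallyOfFiniteType (f.resLE U V e ≫ U.ι) := by
    rw [Scheme.Hom.resLE_comp_ι]; infer_instance
  haveI : LocallyOfFiniteType (f.resLE U V e) := locallyOfFiniteType_of_comp _ U.ι
  have : IsAffine (U : Scheme) := hU
  have : IsAffine (V : Scheme) := hV
  have h0 : LocallyOfFiniteType (f.resLE U V e) := inferInstance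
  have h1 := (HasRingHomProperty.iff_of_isAffine (P := @LocallyOfFiniteType)).mp h0
  exact (RingHom.finiteType_respectsIso.arrow_mk_iso_iff (arrowResLEAppIso f U V e)).mp h1

/-- converse of helper18's `appLE_basicOpen_of_away` for finite type -/
theorem finiteType_away_of_appLE_basicOpen {X Y : Scheme.{u}} (f : X ⟶ Y) (U : Y.Opens)
    (V : X.Opens) (hV : IsAffineOpen V) (hVU : V ≤ f ⁻¹ᵁ U) (r : Γ(X, V))
    (hr : (f.appLE U (X.basicOpen r) ((X.basicOpen_le r).trans hVU)).hom.FiniteType) :
    ((algebraMap Γ(X, V) (Localization.Away r)).comp (f.appLE U V hVU).hom).FiniteType := by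
  have := hV.isLocalization_basicOpen r
  convert RingHom.finiteType_respectsIso.1 _
    (IsLocalization.algEquiv (.powers r) Γ(X, X.basicOpen r) (Localization.Away r)).toRingEquiv hr
  ext a
  dsimp
  have h1 : (f.appLE U (X.basicOpen r) ((X.basicOpen_le r).trans hVU)).hom a =
      algebraMap Γ(X, V) Γ(X, X.basicOpen r) ((f.appLE U V hVU).hom a) := by
    simp only [RingHom.algebraMap_toAlgebra, ← ConcreteCategory.comp_apply,
      Scheme.Hom.appLE_map]
  rw [h1, AlgEquiv.commutes]

end Groth.Agent.Lib.helper5.LftPt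

namespace Groth.Agent.Lib.helper5.LftPt

open Groth.Agent.Lib.Helper18.PullbackStalk H18Stalk

theorem isField_of_subsingleton_of_isIntegral (S : Scheme.{u}) [Subsingleton S] [IsIntegral S]
    (U : S.Opens) (hU : (U : Set S).Nonempty) : IsField Γ(S, U) := by
  have hUtop : U = ⊤ := by
    ext x
    obtain ⟨y, hy⟩ := hU
    simp only [TopologicalSpace.Opens.coe_top, Set.mem_univ, iff_true]
    rwa [Subsingleton.elim x y]
  subst hUtop
  exact isField_of_isIntegral_of_subsingleton S

/-- **Pointwise descent of "locally of finite type" along base change from a one-point integral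
base (e.g. the spectrum of a field).**  In a cartesian square, if `b` is locally of finite type on a
neighbourhood of `x'` then `f` is locally of finite type on a neighbourhood of `a x'`. -/
theorem exists_lft_nhd_of_isPullback {P X S S' : Scheme.{u}} [Subsingleton S] [IsIntegral S]
    {a : P ⟶ X} {b : P ⟶ S'} {f : X ⟶ S} {g : S' ⟶ S}
    (H : IsPullback a b f g) (x' : P) (W : P.Opens) (hx' : x' ∈ W)
    [LocallyOfFiniteType (W.ι ≫ b)] :
    ∃ U : X.Opens, a x' ∈ U ∧ LocallyOfFiniteType (U.ι ≫ f) := by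
  obtain ⟨US, UX, UT, UY, hUS, hUX, hUT, hUY, hXS, hTS, hYX, hYT, hxY, hPO⟩ :=
    exists_chart_of_isPullback H x'
  have hxX : a x' ∈ UX := hYX hxY
  have hk : IsField Γ(S, US) :=
    isField_of_subsingleton_of_isIntegral S US ⟨f (a x'), hXS hxX⟩
  obtain ⟨r, hrW, hxr⟩ := hUY.exists_basicOpen_le (V := W) ⟨x', hx'⟩ hxY
  have hft0 := finiteType_appLE_of_comp_ι b W hUT (hUY.basicOpen r) hrW
    ((P.basicOpen_le r).trans hYT)
  have hft := finiteType_away_of_appLE_basicOpen b UT UY hUY hYT r hft0
  let _ : Algebra Γ(S, US) Γ(X, UX) := (f.appLE US UX hXS).hom.toAlgebra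
  let _ : Algebra Γ(S, US) Γ(S', UT) := (g.appLE US UT hTS).hom.toAlgebra
  let _ : Algebra Γ(X, UX) Γ(P, UY) := (a.appLE UX UY hYX).hom.toAlgebra
  let _ : Algebra Γ(S', UT) Γ(P, UY) := (b.appLE UT UY hYT).hom.toAlgebra
  let _ : Algebra Γ(S, US) Γ(P, UY) :=
    ((a.appLE UX UY hYX).hom.comp (f.appLE US UX hXS).hom).toAlgebra
  have : IsScalarTower Γ(S, US) Γ(X, UX) Γ(P, UY) :=
    IsScalarTower.of_algebraMap_eq fun _ => rfl
  have : IsScalarTower Γ(S, US) Γ(S', UT) Γ(P, UY) :=
    IsScalarTower.of_algebraMap_eq fun r => congr($(hPO.w).hom r)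
  have : Algebra.IsPushout Γ(S, US) Γ(X, UX) Γ(S', UT) Γ(P, UY) :=
    CommRingCat.isPushout_iff_isPushout.mp hPO
  have hrq : r ∉ (hUY.primeIdealOf ⟨x', hxY⟩).asIdeal :=
    (Groth.Agent.Lib.Helper18.ClosedImmNear.mem_basicOpen_iff_notMem_primeIdealOf hUY x' hxY r).mp hxr
  obtain ⟨c, hcq, hfin⟩ := exists_finiteType_away_of_isPushout' (k := Γ(S, US)) hk
    (B := Γ(S', UT)) (C := Γ(X, UX)) (D := Γ(P, UY)) r hft
    (hUY.primeIdealOf ⟨x', hxY⟩).asIdeal hrq
  refine ⟨X.basicOpen c, ?_, ?_⟩
  · rw [Groth.Agent.Lib.Helper18.ClosedImmNear.mem_basicOpen_iff_notMem_primeIdealOf hUX (a x')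
      hxX c]
    have e1 := IsAffineOpen.comap_primeIdealOf_appLE UX hUX UY hUY hYX hxY
    rw [← e1]
    exact hcq
  · refine comp_ι_of_appLE (P := @LocallyOfFiniteType) (fun g _ => inferInstance) f US hUS _
      (hUX.basicOpen c) ((X.basicOpen_le c).trans hXS) ?_
    refine appLE_basicOpen_of_away RingHom.finiteType_respectsIso f US UX hUX hXS c ?_
    have h3 := (RingHom.finiteType_algebraMap (A := Γ(S, US)) (B := Localization.Away c)).mpr hfin
    rw [IsScalarTower.algebraMap_eq Γ(S, US) Γ(X, UX) (Localization.Away c)] at h3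
    exact h3

end Groth.Agent.Lib.helper5.LftPt
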