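import Mathlib
import Groth.Agent.Lib.Helper5.GrpShear
import Groth.Agent.Lib.Helper5.LftPt2
import Groth.Agent.Lib.Helper5.ArtinNil

/-!
# Homogeneity of group schemes (helper5; SGA3 VI_A 1.3)

* `isPullback_snd_fst`, `isPullback_mul_fst`, `sec`: `G ×_S G ⟶ G` (first projection) is the base change of `G ⟶ S` along
  itself in two ways (second projection / multiplication), with the section `g ↦ (g, 1)`.
* `homog`: a pointwise property `Q` of morphisms which is compatible with these base changes holds at `g` iff it holds at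
  the unit point of the fibre of `g`.
* `LftAt`, `lftAt_iff_of_isPullback`, `locallyOfFiniteType_of_nonempty_open` (one-point integral base),
  `locallyOfFiniteType_of_nonempty_open_artinian` (S5340).
-/

set_option autoImplicit false
universe u
open CategoryTheory CategoryTheory.Limits MonoidalCategory CartesianMonoidalCategory MonObj GrpObj
  AlgebraicGeometry

namespace Groth.Agent.Lib.helper5.GrpHomog1

open Groth.Agent.Lib.helper5

variable {S : Scheme.{u}} (G : Over S) [GrpObj G]

omit [GrpObj G] in
theorem isPullback_snd_fst : IsPullback (snd G G).left (fst G G).left G.hom G.hom :=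
  (IsPullback.of_hasPullback G.hom G.hom).flip

theorem isPullback_mul_fst : IsPullback μ[G].left (fst G G).left G.hom G.hom := by
  let τ : (G ⊗ G).left ≅ (G ⊗ G).left := (Over.forget S).mapIso (GrpShear.shear G)
  have h1 : τ.inv ≫ μ[G].left = (snd G G).left :=
    congrArg (fun k => k.left) (GrpShear.shear_inv_mul G)
  have h2 : τ.inv ≫ (fst G G).left = (fst G G).left :=
    congrArg (fun k => k.left) (GrpShear.shear_inv_fst G)
  refine IsPullback.of_iso (isPullback_snd_fst G) τ.symm (Iso.refl _) (Iso.refl _) (Iso.refl _)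
    ?_ ?_ ?_ ?_
  · simpa using h1.symm
  · simpa using h2.symm
  · simp
  · simp

/-- `g ↦ (g, 1)` -/
noncomputable def sec : G.left ⟶ (G ⊗ G).left := (GrpShear.unitSec G).left

theorem sec_mul : sec G ≫ μ[G].left = 𝟙 G.left :=
  congrArg (fun k => k.left) (GrpShear.unitSec_mul G)

theorem sec_snd : sec G ≫ (snd G G).left = G.hom ≫ η[G].left := by
  have h := congrArg (fun k => k.left) (GrpShear.unitSec_snd G)
  have h2 : (toUnit G).left = G.hom := by
    have := Over.w (toUnit G)
    simpa using this
  change sec G ≫ (snd G G).left = (toUnit G ≫ η[G]).left at h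
  rw [Over.comp_left, h2] at h
  exact h

/-- **Homogeneity**: a pointwise property of morphisms which is compatible with the base changes of
`G ⟶ S` along itself holds at `g` iff it holds at the unit point of the fibre of `g`. -/
theorem homog (Q : ∀ {X Y : Scheme.{u}}, (X ⟶ Y) → X → Prop)
    (hQ : ∀ {P : Scheme.{u}} {a b : P ⟶ G.left}, IsPullback a b G.hom G.hom →
      ∀ x' : P, Q b x' ↔ Q G.hom (a x'))
    (g : G.left) : Q G.hom g ↔ Q G.hom (η[G].left (G.hom g)) := by
  have h1 := hQ (isPullback_snd_fst G) (sec G g)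
  have h2 := hQ (isPullback_mul_fst G) (sec G g)
  rw [← Scheme.Hom.comp_apply, sec_snd, Scheme.Hom.comp_apply] at h1
  rw [← Scheme.Hom.comp_apply, sec_mul] at h2
  exact h2.symm.trans h1

end Groth.Agent.Lib.helper5.GrpHomog1

namespace Groth.Agent.Lib.helper5.GrpHomog1

open Groth.Agent.Lib.helper5 Groth.Agent.Lib.helper5.LftPt

/-- base change of the restriction to an open subscheme of the source -/
theorem isPullback_restrict {P X S S' : Scheme.{u}} {a : P ⟶ X} {b : P ⟶ S'} {f : X ⟶ S}
    {g : S' ⟶ S} (H : IsPullback a b f g) (U : X.Opens) :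
    IsPullback (a ∣_ U) ((a ⁻¹ᵁ U).ι ≫ b) (U.ι ≫ f) g :=
  (isPullback_morphismRestrict a U).paste_vert H

/-- the pointwise predicate "locally of finite type near the point" -/
def LftAt {X Y : Scheme.{u}} (f : X ⟶ Y) (x : X) : Prop :=
  ∃ U : X.Opens, x ∈ U ∧ LocallyOfFiniteType (U.ι ≫ f)

theorem locallyOfFiniteType_of_forall_lftAt {X Y : Scheme.{u}} (f : X ⟶ Y)
    (h : ∀ x, LftAt f x) : LocallyOfFiniteType f := by
  choose U hxU hU using h
  refine IsZariskiLocalAtSource.of_iSup_eq_top (P := @LocallyOfFiniteType) U ?_ hU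
  rw [eq_top_iff]
  intro x _
  exact TopologicalSpace.Opens.mem_iSup.mpr ⟨x, hxU x⟩

theorem lftAt_iff_of_isPullback {P X S S' : Scheme.{u}} [Subsingleton S] [IsIntegral S]
    {a : P ⟶ X} {b : P ⟶ S'} {f : X ⟶ S} {g : S' ⟶ S} (H : IsPullback a b f g) (x' : P) :
    LftAt b x' ↔ LftAt f (a x') := by
  constructor
  · rintro ⟨W, hx', hW⟩
    exact exists_lft_nhd_of_isPullback H x' W hx'
  · rintro ⟨U, hxU, hU⟩
    exact ⟨a ⁻¹ᵁ U, hxU, MorphismProperty.of_isPullback (isPullback_restrict H U) hU⟩

/-- SGA3 VI_A 1.3.1 over a one-point integral base: a group scheme with a nonempty open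
subscheme locally of finite type is locally of finite type. -/
theorem locallyOfFiniteType_of_nonempty_open {S : Scheme.{u}} [Subsingleton S] [IsIntegral S]
    (G : Over S) [GrpObj G] (W : G.left.Opens) (hW : (W : Set G.left).Nonempty)
    [LocallyOfFiniteType (W.ι ≫ G.hom)] : LocallyOfFiniteType G.hom := by
  obtain ⟨w, hw⟩ := hW
  have key := homog G (fun f x => LftAt f x) (fun H x' => lftAt_iff_of_isPullback H x')
  have h1 : LftAt G.hom (η[G].left (G.hom w)) := (key w).mp ⟨W, hw, inferInstance⟩
  refine locallyOfFiniteType_of_forall_lftAt _ fun g => (key g).mpr ?_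
  rwa [Subsingleton.elim (G.hom g) (G.hom w)]

end Groth.Agent.Lib.helper5.GrpHomog1

namespace Groth.Agent.Lib.helper5.GrpHomog1

open Groth.Agent.Lib.helper5.GrpMonoClosed Groth.Agent.Lib.Helper14.BCAct

/-- SGA3 VI_A 1.3.1 (S5340): a group scheme over a local artinian ring with a nonempty open
subscheme locally of finite type is locally of finite type. -/
theorem locallyOfFiniteType_of_nonempty_open_artinian (A : Type u) [CommRing A] [IsLocalRing A]
    [IsArtinianRing A] (G : Over (Spec (CommRingCat.of A))) [GrpObj G] (W : G.left.Opens)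
    (hW : (W : Set G.left).Nonempty) [LocallyOfFiniteType (W.ι ≫ G.hom)] :
    LocallyOfFiniteType G.hom := by
  have sq : IsPullback (prL (resMap A) G) (Red.bc (resMap A) G).hom G.hom (resMap A) :=
    IsPullback.of_hasPullback _ _
  haveI := surjective_prL (resMap A) G
  have hWk : ((prL (resMap A) G ⁻¹ᵁ W : (Red.bc (resMap A) G).left.Opens) :
      Set (Red.bc (resMap A) G).left).Nonempty := by
    obtain ⟨w, hw⟩ := hW
    obtain ⟨w', rfl⟩ := (prL (resMap A) G).surjective w
    exact ⟨w', hw⟩
  haveI : LocallyOfFiniteType ((prL (resMap A) G ⁻¹ᵁ W).ι ≫ (Red.bc (resMap A) G).hom) :=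
    MorphismProperty.of_isPullback (isPullback_restrict sq W) inferInstance
  haveI : LocallyOfFiniteType (Red.bc (resMap A) G).hom :=
    locallyOfFiniteType_of_nonempty_open (Red.bc (resMap A) G) _ hWk
  haveI : LocallyOfFiniteType (pullback.snd G.hom (resMap A)) :=
    inferInstanceAs (LocallyOfFiniteType (Red.bc (resMap A) G).hom)
  exact ArtinNil.locallyOfFiniteType_of_special A G.hom

end Groth.Agent.Lib.helper5.GrpHomog1
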