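import Mathlib
import Groth.Agent.Lib.Helper5.GrpHomog1
import Groth.Agent.Lib.Helper18.SmoothDescentScheme

/-!
# Homogeneity of group schemes II: quasi-finite, unramified, smooth (helper5; SGA3 VI_A 1.3.1)

* `IsolatedInFiber`, `quasiFiniteAt_iff_isolatedInFiber`, `isolatedInFiber_of_isPullback`,
  `quasiFiniteAt_iff_of_isPullback`: quasi-finiteness at a point is compatible with arbitrary base change (for `f` locally
  of finite type).
* `formallySmooth_stalk_iff_of_isPullback`: smoothness at a point and flat base change (helper18 for the descent).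
* `locallyQuasiFinite_of_nonempty_open`, `formallyUnramified_of_nonempty_open`, `smooth_of_nonempty_open`: over a
  one-point base, a group scheme which has the property on a nonempty open subscheme has it everywhere.
-/

set_option autoImplicit false
universe u
open CategoryTheory CategoryTheory.Limits MonoidalCategory CartesianMonoidalCategory MonObj GrpObj
  AlgebraicGeometry

namespace Groth.Agent.Lib.helper5.GrpHomog2

/-- `x` is isolated in its fibre -/
def IsolatedInFiber {X Y : Scheme.{u}} (f : X ⟶ Y) (x : X) : Prop :=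
  ∃ U : Set X, IsOpen U ∧ U ∩ f ⁻¹' {f x} = {x}

theorem quasiFiniteAt_iff_isolatedInFiber {X Y : Scheme.{u}} (f : X ⟶ Y) [LocallyOfFiniteType f]
    (x : X) : f.QuasiFiniteAt x ↔ IsolatedInFiber f x := by
  rw [Scheme.Hom.quasiFiniteAt_iff_isOpen_singleton_asFiber,
    ← (f.fiberHomeo (f x)).isOpen_image]
  simp only [Set.image_singleton, Scheme.Hom.asFiber, Homeomorph.apply_symm_apply]
  rw [isOpen_induced_iff]
  constructor
  · rintro ⟨U, hU, hUx⟩
    refine ⟨U, hU, ?_⟩
    ext y
    constructor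
    · rintro ⟨hyU, hy⟩
      have : (⟨y, hy⟩ : f ⁻¹' {f x}) ∈ Subtype.val ⁻¹' U := hyU
      rw [hUx] at this
      exact congrArg Subtype.val this
    · rintro rfl
      have : (⟨y, rfl⟩ : f ⁻¹' {f y}) ∈ Subtype.val ⁻¹' U := by rw [hUx]; rfl
      exact ⟨this, rfl⟩
  · rintro ⟨U, hU, hUx⟩
    refine ⟨U, hU, ?_⟩
    ext ⟨y, hy⟩
    constructor
    · intro hyU
      have : y ∈ U ∩ f ⁻¹' {f x} := ⟨hyU, hy⟩
      rw [hUx] at this
      exact Subtype.ext this
    · intro h
      have h' : y = x := congrArg Subtype.val h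
      subst h'
      have : y ∈ U ∩ f ⁻¹' {f y} := by rw [hUx]; rfl
      exact this.1

end Groth.Agent.Lib.helper5.GrpHomog2

namespace Groth.Agent.Lib.helper5.GrpHomog2

theorem isolatedInFiber_of_isPullback {P X S S' : Scheme.{u}} {a : P ⟶ X} {b : P ⟶ S'}
    {f : X ⟶ S} {g : S' ⟶ S} (H : IsPullback a b f g) (x' : P) (h : IsolatedInFiber b x') :
    IsolatedInFiber f (a x') := by
  obtain ⟨U', hU', hUx⟩ := h
  have hfa : f (a x') = g (b x') := by
    rw [← Scheme.Hom.comp_apply, ← Scheme.Hom.comp_apply, H.w]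
  let φ : b.fiber (b x') ⟶ f.fiber (g (b x')) :=
    pullback.map _ _ _ _ a (Spec.map (g.residueFieldMap (b x'))) g H.w.symm (by simp)
  have sq := isPullback_fiberToSpecResidueField_of_isPullback H (b x')
  haveI : Subsingleton ↥(Spec (S.residueField (g (b x')))) :=
    inferInstanceAs (Subsingleton (PrimeSpectrum (S.residueField (g (b x')))))
  haveI : UniversallyOpen (Spec.map (g.residueFieldMap (b x'))) := inferInstance
  haveI : UniversallyOpen φ := MorphismProperty.of_isPullback (P := @UniversallyOpen) sq.flip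
    inferInstance
  have hφ : φ ≫ f.fiberι (g (b x')) = b.fiberι (b x') ≫ a := by
    exact pullback.lift_fst _ _ _
  let y := b.asFiber x'
  have hy : b.fiberι (b x') y = x' := b.fiberι_asFiber x'
  have h1 : (b.fiberι (b x')) ⁻¹' U' = {y} := by
    ext z
    constructor
    · intro hz
      have hz2 : b.fiberι (b x') z ∈ b ⁻¹' {b x'} := by
        rw [← Scheme.Hom.range_fiberι]; exact ⟨z, rfl⟩
      have hz3 : b.fiberι (b x') z ∈ U' ∩ b ⁻¹' {b x'} := ⟨hz, hz2⟩
      rw [hUx] at hz3
      exact (b.fiberι (b x')).isEmbedding.injective (hz3.trans hy.symm)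
    · rintro rfl
      change b.fiberι (b x') y ∈ U'
      rw [hy]
      have : x' ∈ U' ∩ b ⁻¹' {b x'} := by rw [hUx]; rfl
      exact this.1
  have h2 : IsOpen ({y} : Set (b.fiber (b x'))) := by
    rw [← h1]; exact hU'.preimage (b.fiberι (b x')).continuous
  have h3 : IsOpen ({φ y} : Set (f.fiber (g (b x')))) := by
    have := φ.isOpenMap _ h2
    rwa [Set.image_singleton] at this
  obtain ⟨V, hV, hVφ⟩ := (f.fiberι (g (b x'))).isEmbedding.isOpen_iff.mp h3
  have hφy : f.fiberι (g (b x')) (φ y) = a x' := by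
    rw [← Scheme.Hom.comp_apply, hφ, Scheme.Hom.comp_apply, hy]
  refine ⟨V, hV, ?_⟩
  rw [hfa]
  ext z
  constructor
  · rintro ⟨hzV, hz⟩
    rw [← Scheme.Hom.range_fiberι] at hz
    obtain ⟨w, rfl⟩ := hz
    have hw : w ∈ (f.fiberι (g (b x'))) ⁻¹' V := hzV
    rw [hVφ] at hw
    rw [Set.mem_singleton_iff.mp hw]
    exact hφy
  · rintro rfl
    refine ⟨?_, ?_⟩
    · rw [← hφy]
      have : φ y ∈ (f.fiberι (g (b x'))) ⁻¹' V := by rw [hVφ]; rfl
      exact this
    · exact hfa

end Groth.Agent.Lib.helper5.GrpHomog2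

namespace Groth.Agent.Lib.helper5.GrpHomog2

open Groth.Agent.Lib.helper5.GrpHomog1

/-- quasi-finiteness at a point in a cartesian square -/
theorem quasiFiniteAt_iff_of_isPullback {P X S S' : Scheme.{u}} {a : P ⟶ X} {b : P ⟶ S'}
    {f : X ⟶ S} {g : S' ⟶ S} (H : IsPullback a b f g) [LocallyOfFiniteType f] (x' : P) :
    b.QuasiFiniteAt x' ↔ f.QuasiFiniteAt (a x') := by
  haveI : LocallyOfFiniteType b := MorphismProperty.of_isPullback H inferInstance
  constructor
  · intro h
    rw [quasiFiniteAt_iff_isolatedInFiber] at h ⊢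
    exact isolatedInFiber_of_isPullback H x' h
  · intro h
    let U := f.quasiFiniteLocus
    have hxU : a x' ∈ U := h
    haveI : LocallyQuasiFinite (U.ι ≫ f) := inferInstance
    haveI : LocallyQuasiFinite ((a ⁻¹ᵁ U).ι ≫ b) :=
      MorphismProperty.of_isPullback (isPullback_restrict H U) inferInstance
    have h1 := ((a ⁻¹ᵁ U).ι ≫ b).quasiFiniteAt (⟨x', hxU⟩ : (a ⁻¹ᵁ U).toScheme)
    rwa [Scheme.Hom.quasiFiniteAt_comp_iff_of_isOpenImmersion] at h1

/-- formal smoothness of the stalk map in a cartesian square with `g` flat -/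
theorem formallySmooth_stalk_iff_of_isPullback {P X S S' : Scheme.{u}} {a : P ⟶ X} {b : P ⟶ S'}
    {f : X ⟶ S} {g : S' ⟶ S} (H : IsPullback a b f g) [LocallyOfFinitePresentation f] [Flat g]
    (x' : P) :
    (b.stalkMap x').hom.FormallySmooth ↔ (f.stalkMap (a x')).hom.FormallySmooth := by
  haveI : LocallyOfFinitePresentation b := MorphismProperty.of_isPullback H inferInstance
  constructor
  · intro h
    exact Groth.Agent.Lib.Helper18.SmoothDescent.formallySmooth_stalk_descent_of_isPullback H x'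
      (Flat.stalkMap g (b x')) h
  · intro h
    obtain ⟨U, hxU, hU⟩ :=
      (Groth.Agent.Lib.Helper18.SmoothDescent.exists_smooth_nhd_iff f (a x')).mpr h
    rw [← Groth.Agent.Lib.Helper18.SmoothDescent.exists_smooth_nhd_iff b x']
    exact ⟨a ⁻¹ᵁ U, hxU, MorphismProperty.of_isPullback (isPullback_restrict H U) hU⟩

end Groth.Agent.Lib.helper5.GrpHomog2

namespace Groth.Agent.Lib.helper5.GrpHomog2

open Groth.Agent.Lib.helper5.GrpHomog1

variable {S : Scheme.{u}} [Subsingleton S] (G : Over S) [GrpObj G] (W : G.left.Opens)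

include W in
/-- a group scheme over a one-point base which is locally quasi-finite on a nonempty open is
locally quasi-finite -/
theorem locallyQuasiFinite_of_nonempty_open (hW : (W : Set G.left).Nonempty)
    [LocallyOfFiniteType G.hom] [LocallyQuasiFinite (W.ι ≫ G.hom)] :
    LocallyQuasiFinite G.hom := by
  obtain ⟨w, hw⟩ := hW
  have key := homog G (fun f x => f.QuasiFiniteAt x)
    (fun H x' => quasiFiniteAt_iff_of_isPullback H x')
  have h0 : G.hom.QuasiFiniteAt w := by
    have h1 := (W.ι ≫ G.hom).quasiFiniteAt (⟨w, hw⟩ : W.toScheme)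
    rwa [Scheme.Hom.quasiFiniteAt_comp_iff_of_isOpenImmersion] at h1
  have h1 := (key w).mp h0
  rw [← Scheme.Hom.quasiFiniteLocus_eq_top_iff, eq_top_iff]
  intro g _
  refine (key g).mpr ?_
  rwa [Subsingleton.elim (G.hom g) (G.hom w)]

include W in
theorem formallyUnramified_of_nonempty_open (hW : (W : Set G.left).Nonempty)
    [LocallyOfFiniteType G.hom] [FormallyUnramified (W.ι ≫ G.hom)] :
    FormallyUnramified G.hom := by
  obtain ⟨w, hw⟩ := hW
  have key := homog G (fun f x => (f.stalkMap x).hom.FormallyUnramified)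
    (fun H x' => Groth.Agent.Lib.Helper18.PullbackStalk.unram_stalk_iff_of_isPullback H x')
  have h0 : (G.hom.stalkMap w).hom.FormallyUnramified :=
    (H18Stalk.exists_unramified_nhd_iff G.hom w).mp ⟨W, hw, inferInstance⟩
  have h1 := (key w).mp h0
  have h2 : ∀ g : G.left, ∃ U : G.left.Opens, g ∈ U ∧ FormallyUnramified (U.ι ≫ G.hom) := by
    intro g
    rw [H18Stalk.exists_unramified_nhd_iff]
    refine (key g).mpr ?_
    rwa [Subsingleton.elim (G.hom g) (G.hom w)]
  choose U hgU hU using h2
  refine IsZariskiLocalAtSource.of_iSup_eq_top (P := @FormallyUnramified) U ?_ hU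
  rw [eq_top_iff]
  intro x _
  exact TopologicalSpace.Opens.mem_iSup.mpr ⟨x, hgU x⟩

include W in
theorem smooth_of_nonempty_open (hW : (W : Set G.left).Nonempty)
    [LocallyOfFinitePresentation G.hom] [Flat G.hom] [Smooth (W.ι ≫ G.hom)] :
    Smooth G.hom := by
  obtain ⟨w, hw⟩ := hW
  have key := homog G (fun f x => (f.stalkMap x).hom.FormallySmooth)
    (fun H x' => formallySmooth_stalk_iff_of_isPullback H x')
  have h0 : (G.hom.stalkMap w).hom.FormallySmooth :=
    (Groth.Agent.Lib.Helper18.SmoothDescent.exists_smooth_nhd_iff G.hom w).mp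
      ⟨W, hw, inferInstance⟩
  have h1 := (key w).mp h0
  rw [← Scheme.Hom.smoothLocus_eq_top_iff, eq_top_iff]
  intro g _
  refine (key g).mpr ?_
  rwa [Subsingleton.elim (G.hom g) (G.hom w)]

end Groth.Agent.Lib.helper5.GrpHomog2
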