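import Mathlib
import Groth.Agent.Lib.Helper5.GrpHomog2
import Groth.Agent.Lib.Helper22.ActPts
import Groth.Agent.Lib.Helper5.FppfSource4

/-!
# Homogeneity for homomorphisms of group schemes (helper5; SGA3 VI_B 1.3)

* `actH`, `isPullback_snd`, `isPullback_mul`, `shearH`, `psi`: for a homomorphism `u : G ⟶ H`, the morphism
  `G ◁ u : G ⊗ G ⟶ G ⊗ H` is the base change of `u` along the second projection and along `(a, h) ↦ u(a) h`.
* `exists_point`, `homog_hom`: a pointwise property of morphisms compatible with flat base change (locally of finite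
  presentation) holds at one point of a fibre of `G ⟶ S` iff it holds at all of them (`G` flat, lfp over `S`).
* `LfpAt`, `lfpAt_iff_of_isPullback`: local finite presentation at a point and flat lfp base change.
* `hom_locallyQuasiFinite/formallyUnramified/lfp/smooth/etale_of_nonempty_open` (S5337): over a one-point base, a
  homomorphism from a flat lfp group scheme having the property on a nonempty open has it everywhere.
-/

set_option autoImplicit false
set_option linter.style.haveILetI false
universe u
open CategoryTheory CategoryTheory.Limits MonoidalCategory CartesianMonoidalCategory MonObj GrpObj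
  AlgebraicGeometry

namespace Groth.Agent.Lib.helper5.GrpHomog3

section cat

variable {C : Type*} [Category C] [CartesianMonoidalCategory C] {G H : C} [GrpObj G] [GrpObj H]
  (u : G ⟶ H) [IsMonHom u]

/-- `(a, h) ↦ u(a) h` -/
noncomputable def actH : G ⊗ H ⟶ H := (fst G H ≫ u) * snd G H

omit [GrpObj G] [GrpObj H] [IsMonHom u] in
theorem isPullback_snd : IsPullback (snd G G) (G ◁ u) u (snd G H) := by
  refine Groth.Agent.Lib.helper22.isPullback_of_points (by simp) ?_ ?_
  · intro T s t h
    refine ⟨lift (t ≫ fst G H) s, by simp, ?_⟩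
    apply CartesianMonoidalCategory.hom_ext
    · simp
    · simp [h]
  · intro T l l' h1 h2
    apply CartesianMonoidalCategory.hom_ext
    · have := congrArg (fun k => k ≫ fst G H) h2
      simpa using this
    · exact h1

theorem isPullback_mul : IsPullback μ[G] (G ◁ u) u (actH u) := by
  refine Groth.Agent.Lib.helper22.isPullback_of_points ?_ ?_ ?_
  · rw [actH, MonObj.comp_mul, MonObj.mul_eq_mul, MonObj.mul_comp]
    simp
  · intro T s t h
    rw [actH, MonObj.comp_mul] at h
    refine ⟨lift (t ≫ fst G H) ((t ≫ fst G H)⁻¹ * s), ?_, ?_⟩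
    · rw [MonObj.mul_eq_mul, MonObj.comp_mul]
      simp
    · apply CartesianMonoidalCategory.hom_ext
      · simp
      · simp only [Category.assoc, whiskerLeft_snd, lift_snd_assoc]
        rw [MonObj.mul_comp, GrpObj.inv_comp, h]
        simp
  · intro T l l' h1 h2
    have hf : l ≫ fst G G = l' ≫ fst G G := by
      have := congrArg (fun k => k ≫ fst G H) h2
      simpa using this
    apply CartesianMonoidalCategory.hom_ext
    · exact hf
    · rw [MonObj.mul_eq_mul, MonObj.comp_mul, MonObj.comp_mul, hf] at h1
      exact mul_left_cancel h1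

/-- the shear automorphism `(a, h) ↦ (a, u(a) h)` of `G ⊗ H` -/
noncomputable def shearH : G ⊗ H ≅ G ⊗ H where
  hom := lift (fst G H) (actH u)
  inv := lift (fst G H) ((fst G H ≫ u)⁻¹ * snd G H)
  hom_inv_id := by
    apply CartesianMonoidalCategory.hom_ext
    · simp
    · simp only [Category.assoc, lift_snd, Category.id_comp]
      rw [MonObj.comp_mul, GrpObj.comp_inv]
      simp [actH]
  inv_hom_id := by
    apply CartesianMonoidalCategory.hom_ext
    · simp
    · simp only [Category.assoc, lift_snd, Category.id_comp]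
      rw [actH, MonObj.comp_mul]
      simp

theorem shearH_hom_snd : (shearH u).hom ≫ snd G H = actH u := by simp [shearH]

/-- `(x, y) ↦ (y x⁻¹, x)` -/
noncomputable def psi (G : C) [GrpObj G] : G ⊗ G ⟶ G ⊗ G :=
  lift (snd G G * (fst G G)⁻¹) (fst G G)

theorem psi_snd (G : C) [GrpObj G] : psi G ≫ snd G G = fst G G := by simp [psi]

theorem psi_mul (G : C) [GrpObj G] : psi G ≫ μ[G] = snd G G := by
  rw [MonObj.mul_eq_mul, MonObj.comp_mul]
  simp [psi]

end cat

end Groth.Agent.Lib.helper5.GrpHomog3

namespace Groth.Agent.Lib.helper5.GrpHomog3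

section sch

variable {S : Scheme.{u}} {G H : Over S} [GrpObj G] [GrpObj H] (u : G ⟶ H) [IsMonHom u]

omit [GrpObj H] [IsMonHom u] in
theorem exists_point (w g : G.left) (h : G.hom w = G.hom g) :
    ∃ z : (G ⊗ G).left, (snd G G).left z = w ∧ μ[G].left z = g := by
  obtain ⟨t, ht1, ht2⟩ := Scheme.Pullback.exists_preimage_pullback w g h
  refine ⟨(psi G).left t, ?_, ?_⟩
  · have h1 := congrArg (fun k => k.left) (psi_snd G)
    simp only [Over.comp_left] at h1
    rw [← Scheme.Hom.comp_apply, h1]
    exact ht1
  · have h1 := congrArg (fun k => k.left) (psi_mul G)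
    simp only [Over.comp_left] at h1
    rw [← Scheme.Hom.comp_apply, h1]
    exact ht2

/-- **Homogeneity for homomorphisms** (SGA3 VI_B 1.3): a pointwise property of morphisms compatible with flat base
change holds at one point of a fibre of `G` iff it holds at every point of the fibre. -/
theorem homog_hom [Flat G.hom] [LocallyOfFinitePresentation G.hom]
    (Q : ∀ {X Y : Scheme.{u}}, (X ⟶ Y) → X → Prop)
    (hQ : ∀ {P P' : Scheme.{u}} {a : P ⟶ G.left} {b : P ⟶ P'} {c : P' ⟶ H.left},
      IsPullback a b u.left c → Flat c → LocallyOfFinitePresentation c →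
      ∀ x' : P, Q b x' ↔ Q u.left (a x'))
    (w g : G.left) (h : G.hom w = G.hom g) : Q u.left w ↔ Q u.left g := by
  have sq1 : IsPullback (snd G G).left (G ◁ u).left u.left (snd G H).left :=
    (isPullback_snd u).map (Over.forget S)
  have sq2 : IsPullback μ[G].left (G ◁ u).left u.left (actH u).left :=
    (isPullback_mul u).map (Over.forget S)
  have f1 : Flat (snd G H).left := inferInstanceAs (Flat (pullback.snd G.hom H.hom))
  have p1 : LocallyOfFinitePresentation (snd G H).left :=
    inferInstanceAs (LocallyOfFinitePresentation (pullback.snd G.hom H.hom))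
  haveI : IsIso (shearH u).hom.left :=
    inferInstanceAs (IsIso ((Over.forget S).map (shearH u).hom))
  have e : (actH u).left = (shearH u).hom.left ≫ (snd G H).left := by
    rw [← Over.comp_left, shearH_hom_snd]
  have f2 : Flat (actH u).left := by rw [e]; infer_instance
  have p2 : LocallyOfFinitePresentation (actH u).left := by rw [e]; infer_instance
  obtain ⟨z, hz1, hz2⟩ := exists_point w g h
  have h1 := hQ sq1 f1 p1 z
  have h2 := hQ sq2 f2 p2 z
  rw [hz1] at h1
  rw [hz2] at h2
  exact h1.symm.trans h2

end sch

end Groth.Agent.Lib.helper5.GrpHomog3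

namespace Groth.Agent.Lib.helper5.GrpHomog3

open Groth.Agent.Lib.helper5.GrpHomog1

/-- the pointwise predicate "locally of finite presentation near the point" -/
def LfpAt {X Y : Scheme.{u}} (f : X ⟶ Y) (x : X) : Prop :=
  ∃ U : X.Opens, x ∈ U ∧ LocallyOfFinitePresentation (U.ι ≫ f)

theorem locallyOfFinitePresentation_of_forall_lfpAt {X Y : Scheme.{u}} (f : X ⟶ Y)
    (h : ∀ x, LfpAt f x) : LocallyOfFinitePresentation f := by
  choose U hxU hU using h
  refine IsZariskiLocalAtSource.of_iSup_eq_top (P := @LocallyOfFinitePresentation) U ?_ hU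
  rw [eq_top_iff]
  intro x _
  exact TopologicalSpace.Opens.mem_iSup.mpr ⟨x, hxU x⟩

/-- local finite presentation at a point is compatible with flat base change locally of finite presentation. -/
theorem lfpAt_iff_of_isPullback {P X S S' : Scheme.{u}} {a : P ⟶ X} {b : P ⟶ S'} {f : X ⟶ S}
    {g : S' ⟶ S} (H : IsPullback a b f g) [Flat g] [LocallyOfFinitePresentation g] (x' : P) :
    LfpAt b x' ↔ LfpAt f (a x') := by
  constructor
  · rintro ⟨U', hx', hU'⟩
    haveI : Flat a := MorphismProperty.of_isPullback H.flip inferInstance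
    haveI : LocallyOfFinitePresentation a := MorphismProperty.of_isPullback H.flip inferInstance
    let k : U'.toScheme ⟶ X := U'.ι ≫ a
    haveI : Flat k := inferInstanceAs (Flat (U'.ι ≫ a))
    haveI : LocallyOfFinitePresentation k :=
      inferInstanceAs (LocallyOfFinitePresentation (U'.ι ≫ a))
    let U : X.Opens := ⟨Set.range k, k.isOpenMap.isOpen_range⟩
    have hr : Set.range k ⊆ Set.range U.ι := by
      rw [Scheme.Opens.range_ι]
      exact subset_rfl
    let k' : U'.toScheme ⟶ U.toScheme := IsOpenImmersion.lift U.ι k hr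
    have fac : k' ≫ U.ι = k := IsOpenImmersion.lift_fac U.ι k hr
    haveI : Flat k' := MorphismProperty.of_postcomp (W := @Flat) (W' := @IsOpenImmersion) k' U.ι
      inferInstance (by rw [fac]; infer_instance)
    haveI : LocallyOfFinitePresentation k' :=
      MorphismProperty.of_postcomp (W := @LocallyOfFinitePresentation) (W' := @IsOpenImmersion)
        k' U.ι inferInstance (by rw [fac]; infer_instance)
    haveI : Surjective k' := by
      constructor
      rintro ⟨y, ⟨z, rfl⟩⟩
      refine ⟨z, ?_⟩
      apply U.ι.injective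
      rw [← Scheme.Hom.comp_apply, fac]
      rfl
    haveI : LocallyOfFinitePresentation (k' ≫ U.ι ≫ f) := by
      rw [← Category.assoc, fac]
      have : k ≫ f = (U'.ι ≫ b) ≫ g := by
        simp only [k, Category.assoc, H.w]
      rw [this]
      infer_instance
    refine ⟨U, ⟨⟨x', hx'⟩, rfl⟩, ?_⟩
    exact Groth.Agent.Lib.helper5.FppfSource.locallyOfFinitePresentation_of_comp k' (U.ι ≫ f)
  · rintro ⟨U, hxU, hU⟩
    exact ⟨a ⁻¹ᵁ U, hxU, MorphismProperty.of_isPullback (isPullback_restrict H U) hU⟩

end Groth.Agent.Lib.helper5.GrpHomog3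

namespace Groth.Agent.Lib.helper5.GrpHomog3

open Groth.Agent.Lib.helper5.GrpHomog1 Groth.Agent.Lib.helper5.GrpHomog2

variable {S : Scheme.{u}} [Subsingleton S] {G H : Over S} [GrpObj G] [GrpObj H] (u : G ⟶ H)
  [IsMonHom u] [Flat G.hom] [LocallyOfFinitePresentation G.hom] (W : G.left.Opens)

include W in
theorem hom_locallyQuasiFinite_of_nonempty_open (hW : (W : Set G.left).Nonempty)
    [LocallyOfFiniteType u.left] [LocallyQuasiFinite (W.ι ≫ u.left)] :
    LocallyQuasiFinite u.left := by
  obtain ⟨w, hw⟩ := hW
  have key := homog_hom u (fun f x => f.QuasiFiniteAt x)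
    (fun H _ _ x' => quasiFiniteAt_iff_of_isPullback H x')
  have h0 : u.left.QuasiFiniteAt w := by
    have h1 := (W.ι ≫ u.left).quasiFiniteAt (⟨w, hw⟩ : W.toScheme)
    rwa [Scheme.Hom.quasiFiniteAt_comp_iff_of_isOpenImmersion] at h1
  rw [← Scheme.Hom.quasiFiniteLocus_eq_top_iff, eq_top_iff]
  intro g _
  exact (key w g (Subsingleton.elim _ _)).mp h0

include W in
theorem hom_formallyUnramified_of_nonempty_open (hW : (W : Set G.left).Nonempty)
    [LocallyOfFiniteType u.left] [FormallyUnramified (W.ι ≫ u.left)] :
    FormallyUnramified u.left := by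
  obtain ⟨w, hw⟩ := hW
  have key := homog_hom u (fun f x => (f.stalkMap x).hom.FormallyUnramified)
    (fun H _ _ x' => Groth.Agent.Lib.Helper18.PullbackStalk.unram_stalk_iff_of_isPullback H x')
  have h0 : (u.left.stalkMap w).hom.FormallyUnramified :=
    (H18Stalk.exists_unramified_nhd_iff u.left w).mp ⟨W, hw, inferInstance⟩
  have h2 : ∀ g : G.left, ∃ U : G.left.Opens, g ∈ U ∧ FormallyUnramified (U.ι ≫ u.left) := by
    intro g
    rw [H18Stalk.exists_unramified_nhd_iff]
    exact (key w g (Subsingleton.elim _ _)).mp h0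
  choose U hgU hU using h2
  refine IsZariskiLocalAtSource.of_iSup_eq_top (P := @FormallyUnramified) U ?_ hU
  rw [eq_top_iff]
  intro x _
  exact TopologicalSpace.Opens.mem_iSup.mpr ⟨x, hgU x⟩

include W in
theorem hom_lfp_of_nonempty_open (hW : (W : Set G.left).Nonempty)
    [LocallyOfFinitePresentation (W.ι ≫ u.left)] :
    LocallyOfFinitePresentation u.left := by
  obtain ⟨w, hw⟩ := hW
  have key := homog_hom u (fun f x => LfpAt f x)
    (fun H hc hc' x' => by
      haveI := hc
      haveI := hc'
      exact lfpAt_iff_of_isPullback H x')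
  have h0 : LfpAt u.left w := ⟨W, hw, inferInstance⟩
  exact locallyOfFinitePresentation_of_forall_lfpAt _ fun g =>
    (key w g (Subsingleton.elim _ _)).mp h0

include W in
theorem hom_smooth_of_nonempty_open (hW : (W : Set G.left).Nonempty)
    [Smooth (W.ι ≫ u.left)] : Smooth u.left := by
  haveI : LocallyOfFinitePresentation u.left := hom_lfp_of_nonempty_open u W hW
  obtain ⟨w, hw⟩ := hW
  have key := homog_hom u (fun f x => (f.stalkMap x).hom.FormallySmooth)
    (fun H hc _ x' => by
      haveI := hc
      exact formallySmooth_stalk_iff_of_isPullback H x')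
  have h0 : (u.left.stalkMap w).hom.FormallySmooth :=
    (Groth.Agent.Lib.Helper18.SmoothDescent.exists_smooth_nhd_iff u.left w).mp
      ⟨W, hw, inferInstance⟩
  rw [← Scheme.Hom.smoothLocus_eq_top_iff, eq_top_iff]
  intro g _
  exact (key w g (Subsingleton.elim _ _)).mp h0

include W in
theorem hom_etale_of_nonempty_open (hW : (W : Set G.left).Nonempty)
    [LocallyOfFiniteType u.left] [Etale (W.ι ≫ u.left)] : Etale u.left := by
  haveI : Smooth u.left := hom_smooth_of_nonempty_open u W hW
  haveI : FormallyUnramified u.left := hom_formallyUnramified_of_nonempty_open u W hW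
  haveI : Flat u.left := inferInstance
  haveI : LocallyOfFinitePresentation u.left := inferInstance
  exact Etale.of_formallyUnramified_of_flat u.left

end Groth.Agent.Lib.helper5.GrpHomog3
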