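import Mathlib
import Groth.Agent.Lib.Helper22.ActPts
import Groth.Agent.Lib.Helper5.GrpHomog3
import Groth.Agent.Lib.Helper14.BCAct
import Groth.Agent.S0348
import Groth.Agent.S5342

/-!
# Homogeneous spaces under connected-fibre group schemes are separated (helper5; SGA3 VI_B 5.2/5.3, S4100)

* `isPullback_whisker`: `G ◁ f` is the base change of `f` along the second projection.
* `diag`, `act₂`, `Psi`: the diagonal action of `G` on `X ⊗ X`; `whisker_diag_act₂`, `Psi_act₂`.
* `act₂_mem_closure`, `snd_mem_range_of_act₂_mem`: the closure of the diagonal (resp. the diagonal) is stable under the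
  diagonal action (`G` universally open).
* `closure_diagonal_inter_subset`: the diagonal of `X/S` is closed in `U ×_S U` for `U` open separated over `S`.
* `irreducibleSpace_bc`: a group scheme with connected fibres has irreducible base changes to fields.
* `jm`, `isPullback_jm`: `G ×_S T ⟶ G ×_S Z` for `T ⟶ Z`.
* `exists_translate`: any point of `X ×_S X` can be translated into `U ×_S U` (transitive action, connected fibres).
* `isSeparated_of_transitive` (S4100).
-/

set_option autoImplicit false
set_option linter.style.haveILetI false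
universe u
open CategoryTheory CategoryTheory.Limits MonoidalCategory CartesianMonoidalCategory MonObj GrpObj
  AlgebraicGeometry

namespace Groth.Agent.Lib.helper5.HomogSep1

open Groth.Agent.Lib.helper22

section cat

variable {C : Type*} [Category C] [CartesianMonoidalCategory C]

/-- `G ◁ f` is the base change of `f` along the second projection. -/
theorem isPullback_whisker (G : C) {X Y : C} (f : X ⟶ Y) :
    IsPullback (snd G X) (G ◁ f) f (snd G Y) := by
  refine isPullback_of_points (by simp) ?_ ?_
  · intro T s t h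
    refine ⟨lift (t ≫ fst G Y) s, by simp, ?_⟩
    apply CartesianMonoidalCategory.hom_ext
    · simp
    · simp [h]
  · intro T l l' h1 h2
    apply CartesianMonoidalCategory.hom_ext
    · have := congrArg (fun k => k ≫ fst G Y) h2
      simpa using this
    · exact h1

end cat

section act

variable {S : Scheme.{u}} {G X : Over S} [GrpObj G] (a : AlgGrp.Action G X)

/-- the diagonal of `X` -/
noncomputable def diag (X : Over S) : X ⟶ X ⊗ X := lift (𝟙 X) (𝟙 X)

/-- the diagonal action on `X ⊗ X` -/
noncomputable def act₂ : G ⊗ (X ⊗ X) ⟶ X ⊗ X :=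
  lift (smul a (fst G (X ⊗ X)) (snd G (X ⊗ X) ≫ fst X X))
    (smul a (fst G (X ⊗ X)) (snd G (X ⊗ X) ≫ snd X X))

theorem act₂_fst : act₂ a ≫ fst X X = (G ◁ fst X X) ≫ a.act := by
  rw [act₂, lift_fst, act_eq_smul a, comp_smul]
  simp

theorem act₂_snd : act₂ a ≫ snd X X = (G ◁ snd X X) ≫ a.act := by
  rw [act₂, lift_snd, act_eq_smul a, comp_smul]
  simp

theorem whisker_diag_act₂ : (G ◁ diag X) ≫ act₂ a = a.act ≫ diag X := by
  apply CartesianMonoidalCategory.hom_ext
  · rw [Category.assoc, act₂_fst, ← Category.assoc, ← MonoidalCategory.whiskerLeft_comp]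
    simp [diag]
  · rw [Category.assoc, act₂_snd, ← Category.assoc, ← MonoidalCategory.whiskerLeft_comp]
    simp [diag]

/-- `(g, w) ↦ (g⁻¹, g w)` -/
noncomputable def Psi : G ⊗ (X ⊗ X) ⟶ G ⊗ (X ⊗ X) := lift (fst G (X ⊗ X))⁻¹ (act₂ a)

theorem Psi_snd : Psi a ≫ snd G (X ⊗ X) = act₂ a := by simp [Psi]

theorem Psi_act₂ : Psi a ≫ act₂ a = snd G (X ⊗ X) := by
  apply CartesianMonoidalCategory.hom_ext
  · rw [Category.assoc]
    conv_lhs => rw [act₂, lift_fst, comp_smul]
    simp only [Psi, lift_fst, lift_snd_assoc]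
    rw [act₂, lift_fst, helper22.inv_smul_smul]
  · rw [Category.assoc]
    conv_lhs => rw [act₂, lift_snd, comp_smul]
    simp only [Psi, lift_fst, lift_snd_assoc]
    rw [act₂, lift_snd, helper22.inv_smul_smul]

end act

section top

variable {S : Scheme.{u}} {G X : Over S} [GrpObj G] (a : AlgGrp.Action G X)

omit [GrpObj G] in
theorem range_whisker_diag :
    Set.range (G ◁ diag X).left = (snd G (X ⊗ X)).left ⁻¹' Set.range (diag X).left := by
  have sq : IsPullback (snd G X).left (G ◁ diag X).left (diag X).left (snd G (X ⊗ X)).left :=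
    (isPullback_whisker G (diag X)).map (Over.forget S)
  have := Scheme.image_preimage_eq_of_isPullback sq Set.univ
  simpa using this

theorem act₂_whisker_diag_apply (r : (G ⊗ X).left) :
    (act₂ a).left ((G ◁ diag X).left r) = (diag X).left (a.act.left r) := by
  have h := congrArg (fun k => k.left) (whisker_diag_act₂ a)
  simp only [Over.comp_left] at h
  rw [← Scheme.Hom.comp_apply, h, Scheme.Hom.comp_apply]

/-- the closure of the diagonal is stable under the diagonal action. -/
theorem act₂_mem_closure [UniversallyOpen G.hom] (t : (G ⊗ (X ⊗ X)).left)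
    (ht : (snd G (X ⊗ X)).left t ∈ closure (Set.range (diag X).left)) :
    (act₂ a).left t ∈ closure (Set.range (diag X).left) := by
  haveI : UniversallyOpen (snd G (X ⊗ X)).left :=
    inferInstanceAs (UniversallyOpen (pullback.snd G.hom (X ⊗ X).hom))
  have hopen : IsOpenMap (snd G (X ⊗ X)).left := (snd G (X ⊗ X)).left.isOpenMap
  have h1 : t ∈ closure (Set.range (G ◁ diag X).left) := by
    rw [range_whisker_diag, ← hopen.preimage_closure_eq_closure_preimage
      (snd G (X ⊗ X)).left.continuous]
    exact ht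
  refine map_mem_closure (act₂ a).left.continuous h1 ?_
  rintro _ ⟨r, rfl⟩
  exact ⟨_, (act₂_whisker_diag_apply a r).symm⟩

theorem snd_mem_range_of_act₂_mem (t : (G ⊗ (X ⊗ X)).left)
    (ht : (act₂ a).left t ∈ Set.range (diag X).left) :
    (snd G (X ⊗ X)).left t ∈ Set.range (diag X).left := by
  have h1 := congrArg (fun k => k.left) (Psi_snd a)
  have h2 := congrArg (fun k => k.left) (Psi_act₂ a)
  simp only [Over.comp_left] at h1 h2
  have h3 : (Psi a).left t ∈ Set.range (G ◁ diag X).left := by
    rw [range_whisker_diag, Set.mem_preimage, ← Scheme.Hom.comp_apply, h1]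
    exact ht
  obtain ⟨r, hr⟩ := h3
  refine ⟨a.act.left r, ?_⟩
  rw [← act₂_whisker_diag_apply, hr, ← Scheme.Hom.comp_apply, h2]

end top

section sepU

/-- the diagonal is closed in the part of `X ×_S X` lying over an open `U` separated over the base. -/
theorem closure_diagonal_inter_subset {X S : Scheme.{u}} (f : X ⟶ S) (U : X.Opens)
    [IsSeparated (U.ι ≫ f)] (w : ↑(pullback f f))
    (hw : w ∈ closure (Set.range (pullback.diagonal f)))
    (h1 : pullback.fst f f w ∈ U) (h2 : pullback.snd f f w ∈ U) :
    w ∈ Set.range (pullback.diagonal f) := by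
  let j : pullback (U.ι ≫ f) (U.ι ≫ f) ⟶ pullback f f :=
    pullback.map (U.ι ≫ f) (U.ι ≫ f) f f U.ι U.ι (𝟙 S) (by simp) (by simp)
  haveI : IsOpenImmersion j := by dsimp only [j]; infer_instance
  have hrj : Set.range j = pullback.fst f f ⁻¹' (U : Set X) ∩ pullback.snd f f ⁻¹' (U : Set X) := by
    dsimp only [j]
    rw [Scheme.Pullback.range_map]
    simp
  have hcl : IsClosed (Set.range (pullback.diagonal (U.ι ≫ f))) :=
    (pullback.diagonal (U.ι ≫ f)).isClosedEmbedding.isClosed_range
  have hcomm : pullback.diagonal (U.ι ≫ f) ≫ j = U.ι ≫ pullback.diagonal f := by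
    apply pullback.hom_ext
    · simp only [j, Category.assoc, pullback.lift_fst, pullback.diagonal_fst_assoc, pullback.diagonal_fst, Category.comp_id]
    · simp only [j, Category.assoc, pullback.lift_snd, pullback.diagonal_snd_assoc, pullback.diagonal_snd, Category.comp_id]
  have hwV : w ∈ Set.range j := by rw [hrj]; exact ⟨h1, h2⟩
  have hVopen : IsOpen (Set.range j) := j.isOpenEmbedding.isOpen_range
  have hDV : Set.range (pullback.diagonal f) ∩ Set.range j ⊆
      j '' Set.range (pullback.diagonal (U.ι ≫ f)) := by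
    rintro _ ⟨⟨x, rfl⟩, hx⟩
    rw [hrj] at hx
    have hxU : x ∈ U := by
      have := hx.1
      rw [Set.mem_preimage, ← Scheme.Hom.comp_apply, pullback.diagonal_fst] at this
      exact this
    refine ⟨pullback.diagonal (U.ι ≫ f) ⟨x, hxU⟩, ⟨_, rfl⟩, ?_⟩
    rw [← Scheme.Hom.comp_apply, hcomm, Scheme.Hom.comp_apply]
    rfl
  have h3 : w ∈ closure (j '' Set.range (pullback.diagonal (U.ι ≫ f))) :=
    closure_mono hDV (hVopen.closure_inter ⟨hw, hwV⟩)
  obtain ⟨v, rfl⟩ := hwV
  have h4 : v ∈ closure (Set.range (pullback.diagonal (U.ι ≫ f))) := by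
    rw [j.isOpenEmbedding.isInducing.closure_eq_preimage_closure_image]
    exact h3
  rw [hcl.closure_eq] at h4
  obtain ⟨x, rfl⟩ := h4
  refine ⟨U.ι x, ?_⟩
  rw [← Scheme.Hom.comp_apply, ← hcomm, Scheme.Hom.comp_apply]

end sepU



/-- a group scheme with connected fibres has irreducible base changes to fields. -/
theorem irreducibleSpace_bc (K : Type u) [Field K] {S : Scheme.{u}}
    (h : Spec (CommRingCat.of K) ⟶ S) (G : Over S) [GrpObj G]
    (hconn : ∀ s : S, _root_.IsConnected (G.hom.base ⁻¹' {s})) :
    IrreducibleSpace (Red.bc h G).left := by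
  set s : S := h (IsLocalRing.closedPoint K) with hs
  let φ : S.residueField s ⟶ CommRingCat.of K :=
    Scheme.descResidueField (Scheme.stalkClosedPointTo h)
  have hfac : Spec.map φ ≫ S.fromSpecResidueField s = h :=
    Scheme.descResidueField_stalkClosedPointTo_fromSpecResidueField K S h
  haveI : ConnectedSpace ↥(G.hom.fiber s) := by
    haveI : ConnectedSpace ↥(G.hom.base ⁻¹' {s}) := isConnected_iff_connectedSpace.mp (hconn s)
    exact (G.hom.fiberHomeo s).symm.surjective.connectedSpace (G.hom.fiberHomeo s).symm.continuous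
  have he : (η[G] : 𝟙_ (Over S) ⟶ G).left ≫ G.hom = 𝟙 S := Over.w η[G]
  let x : Spec (S.residueField s) ⟶ G.hom.fiber s :=
    pullback.lift (S.fromSpecResidueField s ≫ (η[G] : 𝟙_ (Over S) ⟶ G).left) (𝟙 _)
      (by rw [Category.assoc, he]; simp)
  have hx : x ≫ G.hom.fiberToSpecResidueField s = 𝟙 _ := pullback.lift_snd _ _ _
  haveI : ConnectedSpace ↥(Spec (CommRingCat.of K)) := by
    haveI : IrreducibleSpace ↥(Spec (CommRingCat.of K)) :=
      inferInstanceAs (IrreducibleSpace (PrimeSpectrum K))
    infer_instance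
  have hc : ConnectedSpace ↥(pullback (G.hom.fiberToSpecResidueField s) (Spec.map φ)) :=
    Groth.Agent.S5342.result (S.residueField s) (G.hom.fiber s) (Spec (CommRingCat.of K))
      (G.hom.fiberToSpecResidueField s) (Spec.map φ) x hx
  let e1 : pullback (G.hom.fiberToSpecResidueField s) (Spec.map φ) ≅
      pullback G.hom (Spec.map φ ≫ S.fromSpecResidueField s) :=
    pullbackLeftPullbackSndIso G.hom (S.fromSpecResidueField s) (Spec.map φ)
  let e2 : pullback G.hom (Spec.map φ ≫ S.fromSpecResidueField s) ≅ pullback G.hom h :=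
    pullback.congrHom rfl hfac
  haveI : ConnectedSpace ↥(Red.bc h G).left :=
    (Scheme.homeoOfIso (e1 ≪≫ e2)).surjective.connectedSpace (Scheme.homeoOfIso (e1 ≪≫ e2)).continuous
  exact Groth.Agent.S0348.result K (Red.bc h G)

section jm

variable {S : Scheme.{u}} (G : Over S) {Z : Over S} {T : Scheme.{u}} (y : T ⟶ Z.left)

/-- the map `G ×_S T ⟶ G ×_S Z` induced by `y : T ⟶ Z` -/
noncomputable def jm : pullback G.hom (y ≫ Z.hom) ⟶ (G ⊗ Z).left :=
  pullback.map G.hom (y ≫ Z.hom) G.hom Z.hom (𝟙 G.left) y (𝟙 S) (by simp) (by simp)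

theorem isPullback_jm :
    IsPullback (jm G y) (pullback.snd G.hom (y ≫ Z.hom)) (snd G Z).left y := by
  have hbig : IsPullback (jm G y ≫ pullback.fst G.hom Z.hom) (pullback.snd G.hom (y ≫ Z.hom))
      G.hom (y ≫ Z.hom) := by
    have : jm G y ≫ pullback.fst G.hom Z.hom = pullback.fst G.hom (y ≫ Z.hom) := by
      rw [jm, pullback.lift_fst, Category.comp_id]
    rw [this]
    exact IsPullback.of_hasPullback G.hom (y ≫ Z.hom)
  have hcomm : jm G y ≫ pullback.snd G.hom Z.hom = pullback.snd G.hom (y ≫ Z.hom) ≫ y := by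
    rw [jm, pullback.lift_snd]
  exact IsPullback.of_right hbig hcomm (IsPullback.of_hasPullback G.hom Z.hom)

end jm

section translate

open Groth.Agent.Lib.helper22

variable {S : Scheme.{u}} {G X : Over S} [GrpObj G] (a : AlgGrp.Action G X)

/-- every point of `X ×_S X` can be translated into `U ×_S U` for any open `U` meeting the fibre. -/
theorem exists_translate (hconn : ∀ s : S, _root_.IsConnected (G.hom.base ⁻¹' {s}))
    (hΦ : Surjective (lift a.act (snd G X)).left)
    (w : (X ⊗ X).left) (U : X.left.Opens) (x0 : X.left) (hx0 : x0 ∈ U)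
    (hs : X.hom x0 = (X ⊗ X).hom w) :
    ∃ t : (G ⊗ (X ⊗ X)).left, (snd G (X ⊗ X)).left t = w ∧
      (fst X X).left ((act₂ a).left t) ∈ U ∧ (snd X X).left ((act₂ a).left t) ∈ U := by
  let y : Spec ((X ⊗ X).left.residueField w) ⟶ (X ⊗ X).left :=
    (X ⊗ X).left.fromSpecResidueField w
  haveI : IrreducibleSpace ↥(pullback G.hom (y ≫ (X ⊗ X).hom)) :=
    irreducibleSpace_bc ((X ⊗ X).left.residueField w) (y ≫ (X ⊗ X).hom) G hconn
  -- the key claim for a projection `p`
  have key : ∀ (p : X ⊗ X ⟶ X),
      ∃ z' : ↥(pullback G.hom (y ≫ (X ⊗ X).hom)),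
        a.act.left ((G ◁ p).left (jm G y z')) ∈ U := by
    intro p
    have sqp : IsPullback (G ◁ p).left (snd G (X ⊗ X)).left (snd G X).left p.left :=
      ((isPullback_whisker G p).map (Over.forget S)).flip
    have sq := (isPullback_jm G y).paste_horiz sqp
    have hpw : X.hom (p.left w) = (X ⊗ X).hom w := by
      rw [← Scheme.Hom.comp_apply, Over.w p]
    obtain ⟨pt, hpt1, hpt2⟩ := Scheme.Pullback.exists_preimage_pullback (f := X.hom) (g := X.hom)
      x0 (p.left w) (hs.trans hpw.symm)
    obtain ⟨z, hz⟩ := hΦ.surj pt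
    have hz1 : a.act.left z = x0 := by
      have h1 := congrArg (fun k => k.left) (lift_fst a.act (snd G X))
      simp only [Over.comp_left] at h1
      rw [← h1, Scheme.Hom.comp_apply, hz]
      exact hpt1
    have hz2 : (snd G X).left z = p.left w := by
      have h1 := congrArg (fun k => k.left) (lift_snd a.act (snd G X))
      simp only [Over.comp_left] at h1
      rw [← h1, Scheme.Hom.comp_apply, hz]
      exact hpt2
    obtain ⟨z', hz'1, -⟩ := Scheme.exists_preimage_of_isPullback sq z
      (IsLocalRing.closedPoint _) (by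
        rw [hz2, Scheme.Hom.comp_apply]
        congr 1
        exact ((X ⊗ X).left.fromSpecResidueField_apply w _).symm)
    refine ⟨z', ?_⟩
    rw [Scheme.Hom.comp_apply] at hz'1
    rw [hz'1, hz1]
    exact hx0
  obtain ⟨z1, hz1⟩ := key (fst X X)
  obtain ⟨z2, hz2⟩ := key (snd X X)
  let q1 : pullback G.hom (y ≫ (X ⊗ X).hom) ⟶ X.left := jm G y ≫ (G ◁ fst X X).left ≫ a.act.left
  let q2 : pullback G.hom (y ≫ (X ⊗ X).hom) ⟶ X.left := jm G y ≫ (G ◁ snd X X).left ≫ a.act.left
  obtain ⟨z', hz'1, hz'2⟩ := nonempty_preirreducible_inter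
    (s := q1 ⁻¹' (U : Set X.left)) (t := q2 ⁻¹' (U : Set X.left))
    (U.2.preimage q1.continuous) (U.2.preimage q2.continuous)
    ⟨z1, by simpa [q1] using hz1⟩ ⟨z2, by simpa [q2] using hz2⟩
  refine ⟨jm G y z', ?_, ?_, ?_⟩
  · rw [← Scheme.Hom.comp_apply, (isPullback_jm G y).w, Scheme.Hom.comp_apply]
    exact (X ⊗ X).left.fromSpecResidueField_apply w _
  · have h1 := congrArg (fun k => k.left) (act₂_fst a)
    simp only [Over.comp_left] at h1
    rw [← Scheme.Hom.comp_apply, h1]
    simpa [q1] using hz'1
  · have h1 := congrArg (fun k => k.left) (act₂_snd a)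
    simp only [Over.comp_left] at h1
    rw [← Scheme.Hom.comp_apply, h1]
    simpa [q2] using hz'2

end translate

section main

variable {S : Scheme.{u}} {G X : Over S} [GrpObj G] (a : AlgGrp.Action G X)

/-- **SGA3 VI_B**: a scheme which is homogeneous under a universally open group scheme with connected fibres is
separated. -/
theorem isSeparated_of_transitive [UniversallyOpen G.hom]
    (hconn : ∀ s : S, _root_.IsConnected (G.hom.base ⁻¹' {s}))
    (hΦ : Surjective (lift a.act (snd G X)).left) : IsSeparated X.hom := by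
  have hd : (diag X).left = pullback.diagonal X.hom := rfl
  refine ⟨IsClosedImmersion.of_isPreimmersion _ ?_⟩
  rw [← hd]
  rw [← closure_subset_iff_isClosed]
  intro w hw
  -- an affine open neighbourhood of the first coordinate
  obtain ⟨_, ⟨U, hU, rfl⟩, hxU, -⟩ := X.left.isBasis_affineOpens.exists_subset_of_mem_open
    (Set.mem_univ ((fst X X).left w)) isOpen_univ
  haveI : IsAffine (U : Scheme.{u}) := hU
  have hs : X.hom ((fst X X).left w) = (X ⊗ X).hom w := by
    rw [← Scheme.Hom.comp_apply, Over.w (fst X X)]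
  obtain ⟨t, ht1, ht2, ht3⟩ := exists_translate a hconn hΦ w U _ hxU hs
  have h1 : (act₂ a).left t ∈ closure (Set.range (diag X).left) :=
    act₂_mem_closure a t (by rw [ht1]; exact hw)
  have h2 : (act₂ a).left t ∈ Set.range (diag X).left :=
    closure_diagonal_inter_subset X.hom U _ h1 ht2 ht3
  have h3 := snd_mem_range_of_act₂_mem a t h2
  rwa [ht1] at h3

end main

end Groth.Agent.Lib.helper5.HomogSep1
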