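import Mathlib
import Groth.Agent.Lib.Helper5.HomogSep1

/-!
# Group schemes with connected fibres are quasi-compact (helper5; SGA3 VI_B 5.5, S3025, S5324)

* `exists_mem_inter_of_fibre`: the fibres of `G ×_S Z ⟶ Z` are irreducible (two opens meeting a fibre meet in it).
* `ψ`, `τ'`, `exists_mul_eq` (key lemma): if the open `U` of `G` meets the fibre through `g` then `g = u₁ u₂` with `u₁, u₂ ∈ U`.
* `isCompact_inter_preimage`: quasi-compactness of `W ×_S W'` for affine opens over a common affine open.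
* `quasiCompact_of_connected_fibres` (S5324), `regAction`, `surjective_regAction`, `isSeparated_and_quasiCompact` (S3025).
-/

set_option autoImplicit false
set_option linter.style.haveILetI false
universe u
open CategoryTheory CategoryTheory.Limits MonoidalCategory CartesianMonoidalCategory MonObj GrpObj
  AlgebraicGeometry

namespace Groth.Agent.Lib.helper5.GrpQC1

open Groth.Agent.Lib.helper5.HomogSep1

variable {S : Scheme.{u}} {G : Over S} [GrpObj G]

/-- the fibres of `G ×_S Z ⟶ Z` are irreducible when `G` has connected fibres: two opens meeting a fibre meet in it. -/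
theorem exists_mem_inter_of_fibre (hconn : ∀ s : S, _root_.IsConnected (G.hom.base ⁻¹' {s}))
    {Z : Over S} (w : Z.left) (O₁ O₂ : (G ⊗ Z).left.Opens)
    (h₁ : ∃ z ∈ O₁, (snd G Z).left z = w) (h₂ : ∃ z ∈ O₂, (snd G Z).left z = w) :
    ∃ t, t ∈ O₁ ∧ t ∈ O₂ ∧ (snd G Z).left t = w := by
  let y : Spec (Z.left.residueField w) ⟶ Z.left := Z.left.fromSpecResidueField w
  haveI : IrreducibleSpace ↥(pullback G.hom (y ≫ Z.hom)) :=
    irreducibleSpace_bc (Z.left.residueField w) (y ≫ Z.hom) G hconn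
  have key : ∀ z : (G ⊗ Z).left, (snd G Z).left z = w →
      ∃ z' : ↥(pullback G.hom (y ≫ Z.hom)), jm G y z' = z := by
    intro z hz
    obtain ⟨z', hz'1, -⟩ := Scheme.exists_preimage_of_isPullback (isPullback_jm G y) z
      (IsLocalRing.closedPoint _) (by
        rw [hz]
        exact (Z.left.fromSpecResidueField_apply w _).symm)
    exact ⟨z', hz'1⟩
  obtain ⟨z1, hz1, hz1w⟩ := h₁
  obtain ⟨z2, hz2, hz2w⟩ := h₂
  obtain ⟨z1', rfl⟩ := key z1 hz1w
  obtain ⟨z2', rfl⟩ := key z2 hz2w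
  obtain ⟨z', hz'1, hz'2⟩ := nonempty_preirreducible_inter
    (s := jm G y ⁻¹' (O₁ : Set (G ⊗ Z).left)) (t := jm G y ⁻¹' (O₂ : Set (G ⊗ Z).left))
    (O₁.2.preimage (jm G y).continuous) (O₂.2.preimage (jm G y).continuous)
    ⟨z1', hz1⟩ ⟨z2', hz2⟩
  refine ⟨jm G y z', hz'1, hz'2, ?_⟩
  rw [← Scheme.Hom.comp_apply, (isPullback_jm G y).w, Scheme.Hom.comp_apply]
  exact Z.left.fromSpecResidueField_apply w _

/-- `(a, g) ↦ a⁻¹ g` -/
noncomputable def ψ (G : Over S) [GrpObj G] : G ⊗ G ⟶ G := (fst G G)⁻¹ * snd G G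

/-- `(b, g) ↦ (g b⁻¹, g)` -/
noncomputable def τ' (G : Over S) [GrpObj G] : G ⊗ G ⟶ G ⊗ G := lift (snd G G * (fst G G)⁻¹) (snd G G)

theorem τ'_ψ : τ' G ≫ ψ G = fst G G := by
  rw [ψ, MonObj.comp_mul, GrpObj.comp_inv]
  simp [τ']

theorem τ'_snd : τ' G ≫ snd G G = snd G G := by simp [τ']

theorem lift_fst_ψ_mul : lift (fst G G) (ψ G) ≫ μ[G] = snd G G := by
  rw [MonObj.mul_eq_mul, MonObj.comp_mul]
  simp [ψ]

/-- **Key lemma**: if `U` is an open of `G` meeting the fibre through `g` (fibres connected), then `g = u₁ u₂` with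
`u₁, u₂ ∈ U`. -/
theorem exists_mul_eq (hconn : ∀ s : S, _root_.IsConnected (G.hom.base ⁻¹' {s}))
    (U : G.left.Opens) (g : G.left) (hU : ∃ u ∈ U, G.hom u = G.hom g) :
    ∃ z : (G ⊗ G).left, (fst G G).left z ∈ U ∧ (snd G G).left z ∈ U ∧ μ[G].left z = g := by
  obtain ⟨u, hu, hug⟩ := hU
  obtain ⟨p0, hp01, hp02⟩ := Scheme.Pullback.exists_preimage_pullback (f := G.hom) (g := G.hom)
    u g hug
  have e1 := congrArg (fun k => k.left) (τ'_ψ (G := G))
  have e2 := congrArg (fun k => k.left) (τ'_snd (G := G))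
  have e3 := congrArg (fun k => k.left) (lift_fst_ψ_mul (G := G))
  have e4 := congrArg (fun k => k.left) (lift_fst (fst G G) (ψ G))
  have e5 := congrArg (fun k => k.left) (lift_snd (fst G G) (ψ G))
  simp only [Over.comp_left] at e1 e2 e3 e4 e5
  obtain ⟨t, ht1, ht2, ht3⟩ := exists_mem_inter_of_fibre hconn g
    ((fst G G).left ⁻¹ᵁ U) ((ψ G).left ⁻¹ᵁ U)
    ⟨p0, by
      show (fst G G).left p0 ∈ U
      rw [show (fst G G).left p0 = u from hp01]; exact hu, hp02⟩
    ⟨(τ' G).left p0, by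
      show (ψ G).left ((τ' G).left p0) ∈ U
      rw [← Scheme.Hom.comp_apply, e1, show (fst G G).left p0 = u from hp01]; exact hu, by
      rw [← Scheme.Hom.comp_apply, e2]; exact hp02⟩
  refine ⟨(lift (fst G G) (ψ G)).left t, ?_, ?_, ?_⟩
  · rw [← Scheme.Hom.comp_apply, e4]; exact ht1
  · rw [← Scheme.Hom.comp_apply, e5]; exact ht2
  · rw [← Scheme.Hom.comp_apply, e3]; exact ht3

/-- in a fibre product, the part over affine opens mapping into a common affine open is quasi-compact. -/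
theorem isCompact_inter_preimage {X Y S : Scheme.{u}} (f : X ⟶ S) (g : Y ⟶ S) (V : S.Opens)
    (hV : IsAffineOpen V) (W : X.Opens) (hW : IsAffineOpen W) (hWV : W ≤ f ⁻¹ᵁ V) (W' : Y.Opens)
    (hW' : IsAffineOpen W') (hW'V : W' ≤ g ⁻¹ᵁ V) :
    IsCompact (pullback.fst f g ⁻¹' (W : Set X) ∩ pullback.snd f g ⁻¹' (W' : Set Y)) := by
  haveI : IsAffine (V : Scheme.{u}) := hV
  haveI : IsAffine (W : Scheme.{u}) := hW
  haveI : IsAffine (W' : Scheme.{u}) := hW'
  let m : pullback (f.resLE V W hWV) (g.resLE V W' hW'V) ⟶ pullback f g :=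
    pullback.map (f.resLE V W hWV) (g.resLE V W' hW'V) f g W.ι W'.ι V.ι
      (Scheme.Hom.resLE_comp_ι f hWV) (Scheme.Hom.resLE_comp_ι g hW'V)
  have hm : Set.range m = pullback.fst f g ⁻¹' (W : Set X) ∩ pullback.snd f g ⁻¹' (W' : Set Y) := by
    dsimp only [m]
    rw [Scheme.Pullback.range_map]
    simp
  rw [← hm]
  exact isCompact_range m.continuous

/-- **S5324** (SGA3 VI_B): a group scheme with connected fibres is quasi-compact over the base. -/
theorem quasiCompact_of_connected_fibres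
    (hconn : ∀ s : S, _root_.IsConnected (G.hom.base ⁻¹' {s})) : QuasiCompact G.hom := by
  rw [quasiCompact_iff_forall_isAffineOpen]
  intro V hV
  let e : S ⟶ G.left := (η[G] : 𝟙_ (Over S) ⟶ G).left
  have he : e ≫ G.hom = 𝟙 S := Over.w η[G]
  have heV : ∀ s : S, G.hom (e s) = s := by
    intro s
    rw [← Scheme.Hom.comp_apply, he]; rfl
  have hcomp : IsCompact (e '' (V : Set S)) := hV.isCompact.image e.continuous
  have hbasis : ∀ x : G.left, x ∈ e '' (V : Set S) →
      ∃ W : G.left.Opens, IsAffineOpen W ∧ x ∈ W ∧ W ≤ G.hom ⁻¹ᵁ V := by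
    rintro _ ⟨s, hs, rfl⟩
    obtain ⟨_, ⟨W, hW, rfl⟩, hxW, hWV⟩ := G.left.isBasis_affineOpens.exists_subset_of_mem_open
      (show e s ∈ ((G.hom ⁻¹ᵁ V : G.left.Opens) : Set G.left) by
        show G.hom (e s) ∈ V
        rw [heV]; exact hs) (G.hom ⁻¹ᵁ V).2
    exact ⟨W, hW, hxW, hWV⟩
  choose W hWaff hxW hWV using hbasis
  obtain ⟨t, ht⟩ := hcomp.elim_nhds_subcover' (fun x hx => (W x hx : Set G.left))
    (fun x hx => (W x hx).2.mem_nhds (hxW x hx))
  -- the compact set of pairs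
  let P : Set (G ⊗ G).left := ⋃ x ∈ t, ⋃ x' ∈ t,
    ((fst G G).left ⁻¹' (W x.1 x.2 : Set G.left) ∩ (snd G G).left ⁻¹' (W x'.1 x'.2 : Set G.left))
  have hP : IsCompact P := by
    refine t.isCompact_biUnion fun x _ => t.isCompact_biUnion fun x' _ => ?_
    exact isCompact_inter_preimage G.hom G.hom V hV _ (hWaff x.1 x.2) (hWV x.1 x.2) _
      (hWaff x'.1 x'.2) (hWV x'.1 x'.2)
  have hμ : (G.hom ⁻¹ᵁ V : Set G.left) = μ[G].left '' P := by
    apply Set.Subset.antisymm
    · intro g hg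
      have hgV : G.hom g ∈ V := hg
      obtain ⟨x, hxt, hx⟩ := Set.mem_iUnion₂.mp (ht ⟨G.hom g, hgV, rfl⟩)
      -- the open `U := ⋃ W`
      let U : G.left.Opens := ⨆ x ∈ t, W x.1 x.2
      have hU : ∃ u ∈ U, G.hom u = G.hom g := by
        refine ⟨e (G.hom g), ?_, heV _⟩
        simp only [U, TopologicalSpace.Opens.mem_iSup]
        exact ⟨x, hxt, hx⟩
      obtain ⟨z, hz1, hz2, hz3⟩ := exists_mul_eq hconn U g hU
      simp only [U, TopologicalSpace.Opens.mem_iSup] at hz1 hz2
      obtain ⟨x1, hx1t, hx1⟩ := hz1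
      obtain ⟨x2, hx2t, hx2⟩ := hz2
      refine ⟨z, ?_, hz3⟩
      simp only [P, Set.mem_iUnion]
      exact ⟨x1, hx1t, x2, hx2t, hx1, hx2⟩
    · rintro _ ⟨z, hz, rfl⟩
      simp only [P, Set.mem_iUnion] at hz
      obtain ⟨x1, hx1t, x2, hx2t, hx1, hx2⟩ := hz
      show G.hom (μ[G].left z) ∈ V
      have h1 : G.hom (μ[G].left z) = G.hom ((fst G G).left z) := by
        rw [← Scheme.Hom.comp_apply, ← Scheme.Hom.comp_apply, Over.w μ[G], Over.w (fst G G)]
      rw [h1]
      exact hWV x1.1 x1.2 hx1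
  rw [hμ]
  exact hP.image μ[G].left.continuous

/-- the regular action of `G` on itself by left translations -/
noncomputable def regAction (G : Over S) [GrpObj G] : AlgGrp.Action G G where
  act := μ[G]
  one_act := MonObj.one_mul G
  mul_act := MonObj.mul_assoc G

theorem surjective_regAction (G : Over S) [GrpObj G] :
    Surjective (lift (regAction G).act (snd G G)).left := by
  let i : G ⊗ G ⟶ G ⊗ G := lift (fst G G * (snd G G)⁻¹) (snd G G)
  have h : i ≫ lift (regAction G).act (snd G G) = 𝟙 _ := by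
    apply CartesianMonoidalCategory.hom_ext
    · simp only [Category.assoc, lift_fst, Category.id_comp]
      show i ≫ μ[G] = _
      rw [MonObj.mul_eq_mul, MonObj.comp_mul]
      simp [i]
    · simp [i]
  have h' := congrArg (fun k => k.left) h
  simp only [Over.comp_left, Over.id_left] at h'
  refine ⟨fun x => ⟨i.left x, ?_⟩⟩
  rw [← Scheme.Hom.comp_apply, h']
  rfl

/-- **S3025** (SGA3 VI_B 5.5): a universally open group scheme with connected fibres is separated and quasi-compact. -/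
theorem isSeparated_and_quasiCompact [UniversallyOpen G.hom]
    (hconn : ∀ s : S, _root_.IsConnected (G.hom.base ⁻¹' {s})) :
    IsSeparated G.hom ∧ QuasiCompact G.hom :=
  ⟨isSeparated_of_transitive (regAction G) hconn (surjective_regAction G),
    quasiCompact_of_connected_fibres hconn⟩

end Groth.Agent.Lib.helper5.GrpQC1
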