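import Groth.Agent.Lib.Helper5.ConsFlat3
import Groth.Agent.Lib.Helper18.SmoothFiberScheme

/-!
# Smoothness of the morphisms induced on the fibres is a constructible property (helper5)

* `isConsMor_smooth`
* `isLocallyConstructible_locusMor_smooth`, `isLocallyConstructible_setOf_smooth_snd`
-/

set_option autoImplicit false
set_option backward.isDefEq.respectTransparency false
universe u
open CategoryTheory CategoryTheory.Limits AlgebraicGeometry Topology TopologicalSpace

namespace Groth.Agent.Lib.helper5.ConsFlat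

open Groth.Agent.Lib.helper5.ConsSep Groth.Agent.Lib.helper5.ConsFibre
  Groth.Agent.Lib.helper5.ConsApprox

theorem isFieldStableMor_smooth :
    ConsProp.IsFieldStableMor.{u} (fun X Y T (f : X ⟶ Y) (_ : Y ⟶ T) => Smooth f) :=
  isFieldStableMor_of_descendsAlong @Smooth

/-- if `f` is smooth at all points above `s` then `f_s` is smooth. -/
theorem smooth_fiberMap_of_forall {X Y S : Scheme.{u}} (f : X ⟶ Y) (g : Y ⟶ S)
    [LocallyOfFinitePresentation f] (s : S)
    (h : ∀ x : X, (f ≫ g) x = s → x ∈ f.smoothLocus) :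
    Smooth (MoreMor.fiberMap f g s) := by
  have sq := isPullback_fiberMap f g s
  haveI : LocallyOfFinitePresentation (MoreMor.fiberMap f g s) :=
    MorphismProperty.of_isPullback (P := @LocallyOfFinitePresentation) sq inferInstance
  rw [← Scheme.Hom.smoothLocus_eq_top_iff, eq_top_iff]
  intro z _
  rw [Scheme.Hom.mem_smoothLocus]
  refine Groth.Agent.Lib.Helper18.SmoothFiber.formallySmooth_stalk_baseChange_of_isPullback sq z ?_
  rw [← Scheme.Hom.mem_smoothLocus]
  apply h
  have : ((f ≫ g).fiberι s) z ∈ (f ≫ g) ⁻¹' {s} := by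
    rw [← (f ≫ g).range_fiberι s]; exact ⟨z, rfl⟩
  exact this

/-- if `f` is flat at a point `x` above `s` and `f_s` is smooth then `f` is smooth at `x`. -/
theorem mem_smoothLocus_of_smooth_fiberMap {X Y S : Scheme.{u}} (f : X ⟶ Y) (g : Y ⟶ S)
    [LocallyOfFinitePresentation f] (s : S)
    (hs : Smooth (MoreMor.fiberMap f g s)) (x : X) (hx : (f ≫ g) x = s)
    (hfl : (f.stalkMap x).hom.Flat) : x ∈ f.smoothLocus := by
  have hxr : x ∈ Set.range ((f ≫ g).fiberι s) := by
    rw [(f ≫ g).range_fiberι s]; exact hx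
  obtain ⟨z, rfl⟩ := hxr
  rw [Scheme.Hom.mem_smoothLocus]
  refine Groth.Agent.Lib.Helper18.SmoothFiber.formallySmooth_stalk_descent_of_isPullback_of_flat
    (isPullback_fiberMap f g s) z hfl ?_
  rw [← Scheme.Hom.mem_smoothLocus, Scheme.Hom.smoothLocus_eq_top_iff.mpr hs]
  trivial

theorem isConsMor_smooth :
    ConsProp.IsConsMor.{u} (fun X Y T (f : X ⟶ Y) (_ : Y ⟶ T) => Smooth f) := by
  refine ⟨isFieldStableMor_smooth, ?_⟩
  intro X Y S f g _ _ _ _ _ _
  haveI : IsNoetherian Y := isNoetherian_of_lft g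
  haveI : IsNoetherian X := isNoetherian_of_lft (f ≫ g)
  haveI : QuasiCompact f := quasiCompact_of_isNoetherian f
  haveI : LocallyOfFiniteType f := locallyOfFiniteType_of_comp f g
  haveI : LocallyOfFinitePresentation f :=
    (LocallyOfFinitePresentation.iff_locallyOfFiniteType).mpr inferInstance
  -- the non-smooth locus
  set E : Set X := (f.smoothLocus : Set X)ᶜ with hE
  have hEc : IsClosed E := f.smoothLocus.isOpen.isClosed_compl
  have hEcons : IsConstructible E :=
    Groth.Agent.Lib.helper9.isConstructible_of_isLocallyClosed hEc.isLocallyClosed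
  -- generic flatness of `X` over `S`
  obtain ⟨V, hVne, hV⟩ := Groth.Agent.Lib.helper5.GenFlatMor.exists_open_flat_stalkMap (f ≫ g)
  have hηV := genericPoint_mem_of_nonempty V hVne
  have key : ∀ s ∈ V, (s ∈ ConsProp.locusMor.{u}
      (fun X Y T (f : X ⟶ Y) (_ : Y ⟶ T) => Smooth f) f g ↔ s ∉ (f ≫ g) '' E) := by
    intro s hs
    constructor
    · rintro hsm ⟨x, hxE, hxs⟩
      have hsm' : Smooth (MoreMor.fiberMap f g s) := hsm
      have hfl : Flat (MoreMor.fiberMap f g s) := inferInstance
      exact hxE (mem_smoothLocus_of_smooth_fiberMap f g s hsm' x hxs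
        (flat_stalkMap_of_flat_fiberMap f g s
          (fun x' hx' => hV x' (by rw [hx']; exact hs)) hfl x hxs))
    · intro hn
      refine smooth_fiberMap_of_forall f g s fun x hx => ?_
      by_contra hxn
      exact hn ⟨x, hxn, hx⟩
  by_cases hη : genericPoint S ∈ (f ≫ g) '' E
  · right
    obtain ⟨V₁, hηV₁, hV₁⟩ := exists_open_subset_image (f ≫ g) E hEcons hη
    refine ⟨genericPoint S, interior_maximal (fun s hs => ?_) (V ⊓ V₁).2 ⟨hηV, hηV₁⟩⟩
    intro hsl
    exact ((key s hs.1).mp hsl) (hV₁ hs.2)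
  · left
    obtain ⟨V₁, hηV₁, hV₁⟩ := exists_open_disjoint_image (f ≫ g) E hEcons hη
    refine ⟨genericPoint S, interior_maximal (fun s hs => ?_) (V ⊓ V₁).2 ⟨hηV, hηV₁⟩⟩
    exact (key s hs.1).mpr (fun hsE => Set.disjoint_left.mp hV₁ hs.2 hsE)

variable {X Y S : Scheme.{u}} (f : X ⟶ Y) (g : Y ⟶ S)
  [LocallyOfFinitePresentation g] [QuasiCompact g] [QuasiSeparated g]
  [LocallyOfFinitePresentation (f ≫ g)] [QuasiCompact (f ≫ g)] [QuasiSeparated (f ≫ g)]

theorem isLocallyConstructible_locusMor_smooth :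
    IsLocallyConstructible {s : S | Smooth (MoreMor.fiberMap f g s)} :=
  isLocallyConstructible_locusMor isConsMor_smooth f g

/-- the form with `pullback.snd f (g.fiberι s)`. -/
theorem isLocallyConstructible_setOf_smooth_snd :
    IsLocallyConstructible {s : S | Smooth (pullback.snd f (g.fiberι s))} := by
  have key : ∀ (Q : MorphismProperty Scheme.{u}) [Q.RespectsIso] (s : S),
      Q (pullback.snd f (g.fiberι s)) ↔ Q (MoreMor.fiberMap f g s) := fun Q _ s =>
    Groth.Agent.Lib.helper5.ConsProper.iff_of_isPullback_of_isPullback Q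
      (IsPullback.of_hasPullback f (g.fiberι s)) (isPullback_fiberMap f g s)
  convert isLocallyConstructible_locusMor_smooth f g using 1
  ext s
  exact key @Smooth s

end Groth.Agent.Lib.helper5.ConsFlat
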