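import Groth.Agent.Lib.Helper5.FibLocus1
import Groth.Agent.Lib.Helper5.ConsSmooth1
import Groth.Agent.S2156

/-!
# The set of points at which the fibre is smooth is locally constructible (EGA IV 9.9.4 (iii),
smooth case) (helper5)

* `fibSm f` : the set of `x` such that the fibre of `f` through `x` is smooth at `x`.
* `baseChangeCompat_fibSm`, `openCompat_fibSm`, `genericallyCons_fibSm`
* `isLocallyConstructible_fibSm`
-/

set_option autoImplicit false
set_option backward.isDefEq.respectTransparency false
universe u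
open CategoryTheory CategoryTheory.Limits AlgebraicGeometry Topology TopologicalSpace

namespace Groth.Agent.Lib.helper5.FibLocus

open Groth.Agent.Lib.helper5.ConsFibre Groth.Agent.Lib.helper5.ConsSep
  Groth.Agent.Lib.Helper18.SmoothFiber Groth.Agent.Lib.Helper18.SmoothDescent

/-- the set of points `x` of `X` such that the fibre of `f` through `x` is smooth at `x`. -/
def fibSm ⦃X S : Scheme.{u}⦄ (f : X ⟶ S) : Set X :=
  {x | ((f.fiberToSpecResidueField (f x)).stalkMap (f.asFiber x)).hom.FormallySmooth}

theorem mem_fibSm_iff_of_eq {X S : Scheme.{u}} (f : X ⟶ S) {x : X} (s : S) (z : f.fiber s)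
    (hz : f.fiberι s z = x) :
    x ∈ fibSm f ↔ ((f.fiberToSpecResidueField s).stalkMap z).hom.FormallySmooth := by
  have hs : f x = s := by
    have : f.fiberι s z ∈ f ⁻¹' {s} := by rw [← f.range_fiberι s]; exact ⟨z, rfl⟩
    rw [hz] at this; exact this
  subst hs
  have hz' : z = f.asFiber x :=
    (f.fiberι (f x)).isEmbedding.injective (by rw [hz, f.fiberι_asFiber])
  subst hz'
  rfl

theorem baseChangeCompat_fibSm : BaseChangeCompat.{u} fibSm := by
  intro P X S S' a b f g H hf
  haveI := hf
  haveI : LocallyOfFinitePresentation b :=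
    MorphismProperty.of_isPullback (P := @LocallyOfFinitePresentation) H hf
  ext x'
  obtain ⟨m, sq, hm⟩ : ∃ m, IsPullback m (b.fiberToSpecResidueField (b x'))
      (f.fiberToSpecResidueField (g (b x'))) (Spec.map (g.residueFieldMap (b x'))) ∧
      m ≫ f.fiberι (g (b x')) = b.fiberι (b x') ≫ a :=
    ⟨_, isPullback_fiberToSpecResidueField_of_isPullback H (b x'), by
      unfold Scheme.Hom.fiberι; exact pullback.lift_fst _ _ _⟩
  have hpt : f.fiberι (g (b x')) (m (b.asFiber x')) = a x' := by
    have h1 : (m ≫ f.fiberι (g (b x'))) (b.asFiber x') = (b.fiberι (b x') ≫ a) (b.asFiber x') := by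
      rw [hm]
    rw [Scheme.Hom.comp_apply, Scheme.Hom.comp_apply, b.fiberι_asFiber] at h1
    exact h1
  rw [Set.mem_preimage, mem_fibSm_iff_of_eq f (g (b x')) _ hpt,
    mem_fibSm_iff_of_eq b (b x') (b.asFiber x') (b.fiberι_asFiber x')]
  haveI : LocallyOfFinitePresentation (f.fiberToSpecResidueField (g (b x'))) :=
    MorphismProperty.pullback_snd _ _ hf
  have hflatK : Flat (Spec.map (g.residueFieldMap (b x'))) := by
    rw [HasRingHomProperty.Spec_iff (P := @Flat)]
    unfold RingHom.Flat
    infer_instance
  constructor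
  · intro h
    exact formallySmooth_stalk_descent_of_isPullback sq (b.asFiber x') (Flat.stalkMap _ _) h
  · intro h
    exact formallySmooth_stalk_baseChange_of_isPullback sq (b.asFiber x') h

theorem openCompat_fibSm : OpenCompat.{u} fibSm := by
  intro U X S j f hj hf
  haveI := hj; haveI := hf
  ext u
  set s : S := (j ≫ f) u with hs
  -- the map between the fibres
  let k : (j ≫ f).fiber s ⟶ f.fiber s :=
    pullback.map (j ≫ f) (S.fromSpecResidueField s) f (S.fromSpecResidueField s) j (𝟙 _) (𝟙 _)
      (by simp) (by simp)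
  have hk1 : k ≫ f.fiberι s = (j ≫ f).fiberι s ≫ j := by
    unfold Scheme.Hom.fiberι; exact pullback.lift_fst _ _ _
  have hk2 : k ≫ f.fiberToSpecResidueField s = (j ≫ f).fiberToSpecResidueField s := by
    unfold Scheme.Hom.fiberToSpecResidueField
    rw [pullback.lift_snd, Category.comp_id]
  have sqk : IsPullback ((j ≫ f).fiberι s) k j (f.fiberι s) := by
    refine IsPullback.of_bot ?_ hk1.symm (IsPullback.of_hasPullback f (S.fromSpecResidueField s))
    have h := IsPullback.of_hasPullback (j ≫ f) (S.fromSpecResidueField s)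
    have e : k ≫ pullback.snd f (S.fromSpecResidueField s) =
        pullback.snd (j ≫ f) (S.fromSpecResidueField s) := hk2
    rw [e]
    exact h
  haveI : IsOpenImmersion k := MorphismProperty.of_isPullback (P := @IsOpenImmersion) sqk hj
  haveI : LocallyOfFinitePresentation (f.fiberToSpecResidueField s) :=
    MorphismProperty.pullback_snd _ _ hf
  have hpt : f.fiberι s (k ((j ≫ f).asFiber u)) = j u := by
    rw [← Scheme.Hom.comp_apply, hk1, Scheme.Hom.comp_apply, (j ≫ f).fiberι_asFiber]
  rw [Set.mem_preimage, mem_fibSm_iff_of_eq f s _ hpt,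
    mem_fibSm_iff_of_eq (j ≫ f) s ((j ≫ f).asFiber u) ((j ≫ f).fiberι_asFiber u)]
  have h1 := Scheme.Hom.preimage_smoothLocus_eq k (f.fiberToSpecResidueField s)
  have h2 : ((j ≫ f).asFiber u ∈ k ⁻¹ᵁ (f.fiberToSpecResidueField s).smoothLocus) ↔
      ((j ≫ f).asFiber u ∈ (k ≫ f.fiberToSpecResidueField s).smoothLocus) := by rw [h1]
  rw [Scheme.Hom.mem_preimage, Scheme.Hom.mem_smoothLocus, Scheme.Hom.mem_smoothLocus] at h2
  rw [h2]
  have : ∀ (φ ψ : (j ≫ f).fiber s ⟶ Spec (S.residueField s)) (h : φ = ψ) (z : (j ≫ f).fiber s),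
      (φ.stalkMap z).hom.FormallySmooth ↔ (ψ.stalkMap z).hom.FormallySmooth := by
    intro φ ψ h z; subst h; rfl
  exact (this _ _ hk2 _).symm

theorem genericallyCons_fibSm : GenericallyCons.{u} fibSm := by
  intro X T f _ _ _ _
  haveI : IsNoetherian X := isNoetherian_of_lft f
  haveI : LocallyOfFinitePresentation f :=
    (LocallyOfFinitePresentation.iff_locallyOfFiniteType).mpr inferInstance
  obtain ⟨V, hVne, hV⟩ := Groth.Agent.Lib.helper5.GenFlatMor.exists_open_flat_stalkMap f
  refine ⟨V, hVne, ?_⟩
  have heq : fibSm f ∩ f ⁻¹' (V : Set T) = (f.smoothLocus : Set X) ∩ f ⁻¹' (V : Set T) := by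
    ext x
    simp only [Set.mem_inter_iff, Set.mem_preimage, SetLike.mem_coe]
    refine and_congr_left fun hx => ?_
    haveI : LocallyOfFinitePresentation (f.fiberToSpecResidueField (f.base x)) :=
      MorphismProperty.pullback_snd _ _ inferInstance
    rw [Groth.Agent.S2156.result f x]
    constructor
    · intro h
      exact ⟨hV x hx, h⟩
    · intro h
      exact h.2
  rw [heq]
  exact Groth.Agent.Lib.helper9.isConstructible_of_isLocallyClosed
    ((f.smoothLocus.isOpen.inter (V.2.preimage f.continuous)).isLocallyClosed)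

/-- EGA IV 9.9.4-type: the set of points at which the fibre is smooth is locally constructible. -/
theorem isLocallyConstructible_fibSm {X S : Scheme.{u}} (f : X ⟶ S)
    [LocallyOfFinitePresentation f] : IsLocallyConstructible (fibSm f) :=
  isLocallyConstructible baseChangeCompat_fibSm openCompat_fibSm genericallyCons_fibSm f

end Groth.Agent.Lib.helper5.FibLocus
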