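import Groth.Agent.Lib.Helper5.GrpHomLocus5
import Groth.Agent.Lib.Helper5.FibLocus2
import Groth.Agent.Lib.Helper18.SmoothDescentScheme

/-!
# Smooth locus of a homomorphism of group schemes (SGA3 VI_B 2.5 (iii)) (helper5)

`u : G ⟶ H`, `G` flat and locally of finite presentation over `S`, `H` locally of finite type.

* `mem_smoothLocus_iff` : smooth at `x` iff flat at `x` and the fibre is smooth at `x`.
* `mem_smoothLocus_iff_of_isPullback_base`
* `translationInvariant_smoothLocus`
* `smooth_main` : statement of S5313.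
-/

set_option autoImplicit false
set_option backward.isDefEq.respectTransparency false
universe u
open CategoryTheory CategoryTheory.Limits MonoidalCategory CartesianMonoidalCategory MonObj
  AlgebraicGeometry

namespace Groth.Agent.Lib.helper5.GrpHomLocus

open Groth.Agent.Lib.helper28.MaxOpenSrc Groth.Agent.Lib.helper5.FibCrit
  Groth.Agent.Lib.helper5.FibLocus

/-- smooth at `x` iff flat at `x` and the fibre through `x` is smooth at `x`. -/
theorem mem_smoothLocus_iff {X S : Scheme.{u}} (f : X ⟶ S) [LocallyOfFinitePresentation f]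
    (x : X) : x ∈ f.smoothLocus ↔ (f.stalkMap x).hom.Flat ∧ x ∈ fibSm f := by
  haveI : LocallyOfFinitePresentation (f.fiberToSpecResidueField (f.base x)) :=
    MorphismProperty.pullback_snd _ _ inferInstance
  exact Groth.Agent.S2156.result f x

/-- the smooth locus of an `S`-morphism `f : X ⟶ Y` (with `X` flat lfp over `S` along the points
considered) is compatible with arbitrary base change `S' ⟶ S`. -/
theorem mem_smoothLocus_iff_of_isPullback_base {X Y S X' Y' S' : Scheme.{u}}
    (f : X ⟶ Y) (g : Y ⟶ S) [LocallyOfFiniteType g]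
    [LocallyOfFinitePresentation (f ≫ g)] [LocallyOfFinitePresentation f]
    (f' : X' ⟶ Y') [LocallyOfFinitePresentation f'] (g' : Y' ⟶ S')
    (eX : X' ⟶ X) (eY : Y' ⟶ Y) (h : S' ⟶ S) (sqY : IsPullback eY g' g h)
    (sqX : IsPullback eX f' f eY) (x' : X') (hfl : ((f ≫ g).stalkMap (eX x')).hom.Flat) :
    x' ∈ f'.smoothLocus ↔ eX x' ∈ f.smoothLocus := by
  rw [mem_smoothLocus_iff, mem_smoothLocus_iff,
    flat_stalkMap_iff_of_isPullback_base f g f' g' eX eY h sqY sqX x' hfl,
    baseChangeCompat_fibSm sqX inferInstance]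
  rfl

/-- smoothness at a point is invariant under compatible isomorphisms. -/
theorem mem_smoothLocus_of_iso_comm {A B : Scheme.{u}} (ψ : A ⟶ B)
    [LocallyOfFinitePresentation ψ] (σ : A ⟶ A) (τ : B ⟶ B)
    [IsIso σ] [IsIso τ] (hc : σ ≫ ψ = ψ ≫ τ) (w : A)
    (h : σ w ∈ ψ.smoothLocus) : w ∈ ψ.smoothLocus := by
  have sq2 : IsPullback σ ψ ψ τ := IsPullback.of_horiz_isIso ⟨hc⟩
  rw [mem_smoothLocus_iff] at h ⊢
  refine ⟨flat_stalkMap_of_iso_comm ψ σ τ hc w h.1, ?_⟩
  rw [baseChangeCompat_fibSm sq2 inferInstance]
  exact h.2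

variable {S : Scheme.{u}} {G H : Over S} (u : G ⟶ H)

theorem lfp_left [LocallyOfFinitePresentation G.hom] [LocallyOfFiniteType H.hom] :
    LocallyOfFinitePresentation u.left :=
  Groth.Agent.Lib.Helper18.RelSmoothFiber.locallyOfFinitePresentation_of_comp u.left H.hom
    inferInstance (lfp_comp_hom u)

theorem lfp_whiskerLeft_left [LocallyOfFinitePresentation u.left] (T : Over S) :
    LocallyOfFinitePresentation (T ◁ u).left :=
  MorphismProperty.of_isPullback (P := @LocallyOfFinitePresentation)
    (isPullback_snd_whiskerLeft T u) inferInstance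

theorem smooth_whiskerLeft_iff [Flat G.hom] [LocallyOfFinitePresentation G.hom]
    [LocallyOfFiniteType H.hom] [LocallyOfFinitePresentation u.left] (T : Over S)
    [LocallyOfFinitePresentation (T ◁ u).left] (w : (T ⊗ G).left) :
    w ∈ (T ◁ u).left.smoothLocus ↔ (snd T G).left w ∈ u.left.smoothLocus := by
  haveI := lfp_comp_hom u
  exact mem_smoothLocus_iff_of_isPullback_base u.left H.hom (T ◁ u).left (fst T H).left
    (snd T G).left (snd T H).left T.hom (isPullback_snd_fst T H) (isPullback_snd_whiskerLeft T u) w
    (flat_comp_hom u _)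

theorem translationInvariant_smoothLocus [Flat G.hom] [LocallyOfFinitePresentation G.hom]
    [LocallyOfFiniteType H.hom] [LocallyOfFinitePresentation u.left] :
    TranslationInvariant u (u.left.smoothLocus : Set G.left) := by
  intro T σ τ hσ hτ hcomm w
  haveI := hσ; haveI := hτ
  haveI : IsIso σ.left := inferInstanceAs (IsIso ((Over.forget _).map σ))
  haveI : IsIso τ.left := inferInstanceAs (IsIso ((Over.forget _).map τ))
  haveI : LocallyOfFinitePresentation (T ◁ u).left := lfp_whiskerLeft_left u T
  have hcomml : σ.left ≫ (T ◁ u).left = (T ◁ u).left ≫ τ.left := by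
    rw [← Over.comp_left, ← Over.comp_left, hcomm]
  have hcomml' : inv σ.left ≫ (T ◁ u).left = (T ◁ u).left ≫ inv τ.left := by
    rw [IsIso.inv_comp_eq, ← Category.assoc, IsIso.eq_comp_inv, hcomml]
  change (snd T G).left w ∈ u.left.smoothLocus ↔ (snd T G).left (σ.left w) ∈ u.left.smoothLocus
  rw [← smooth_whiskerLeft_iff u T w, ← smooth_whiskerLeft_iff u T (σ.left w)]
  constructor
  · intro h
    refine mem_smoothLocus_of_iso_comm (T ◁ u).left (inv σ.left) (inv τ.left) hcomml' (σ.left w) ?_
    have : (inv σ.left) (σ.left w) = w := by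
      rw [← Scheme.Hom.comp_apply, IsIso.hom_inv_id]; rfl
    rw [this]
    exact h
  · intro h
    exact mem_smoothLocus_of_iso_comm (T ◁ u).left σ.left τ.left hcomml w h

/-- the fibre of `u` over `s` is smooth iff `u` is smooth at all points over `s`. -/
theorem smooth_fibre_iff [Flat G.hom] [LocallyOfFinitePresentation G.hom]
    [LocallyOfFiniteType H.hom] [LocallyOfFinitePresentation u.left] (s : S) :
    Smooth ((Over.pullback (S.fromSpecResidueField s)).map u).left ↔
      ∀ x : G.left, G.hom x = s → x ∈ u.left.smoothLocus := by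
  haveI := lfp_comp_hom u
  have sq := isPullback_pullback_map (S.fromSpecResidueField s) u
  have sqY : IsPullback (pullback.fst H.hom (S.fromSpecResidueField s))
      (pullback.snd H.hom (S.fromSpecResidueField s)) H.hom (S.fromSpecResidueField s) :=
    IsPullback.of_hasPullback _ _
  haveI : LocallyOfFinitePresentation ((Over.pullback (S.fromSpecResidueField s)).map u).left :=
    MorphismProperty.of_isPullback (P := @LocallyOfFinitePresentation) sq inferInstance
  have key : ∀ x' : ↑(pullback G.hom (S.fromSpecResidueField s)),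
      x' ∈ ((Over.pullback (S.fromSpecResidueField s)).map u).left.smoothLocus ↔
        (pullback.fst G.hom (S.fromSpecResidueField s) x') ∈ u.left.smoothLocus := fun x' =>
    mem_smoothLocus_iff_of_isPullback_base u.left H.hom _ _ _ _ _ sqY sq x' (flat_comp_hom u _)
  rw [← Scheme.Hom.smoothLocus_eq_top_iff]
  constructor
  · intro h x hx
    have hxr : x ∈ Set.range (pullback.fst G.hom (S.fromSpecResidueField s)) := by
      rw [range_pullback_fst_fromSpecResidueField]; exact hx
    obtain ⟨x', rfl⟩ := hxr
    refine (key x').mp ?_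
    rw [h]; trivial
  · intro h
    rw [eq_top_iff]
    intro x' _
    refine (key x').mpr (h _ ?_)
    have : pullback.fst G.hom (S.fromSpecResidueField s) x' ∈ G.hom ⁻¹' {s} := by
      rw [← range_pullback_fst_fromSpecResidueField]; exact ⟨x', rfl⟩
    exact this

variable [GrpObj G] [GrpObj H] [IsMonHom u]

/-- SGA3 VI_B 2.5 (iii), smooth. -/
theorem smooth_main [Flat G.hom] [LocallyOfFinitePresentation G.hom] [LocallyOfFiniteType H.hom] :
    IsOpen {s : S | Smooth ((Over.pullback (S.fromSpecResidueField s)).map u).left} ∧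
      {x : G.left | ∃ W : G.left.Opens, x ∈ W ∧ Smooth (W.ι ≫ u.left)} =
        G.hom.base ⁻¹' {s : S | Smooth ((Over.pullback (S.fromSpecResidueField s)).map u).left} := by
  haveI := lfp_left u
  have hL := translationInvariant_smoothLocus u
  have hset : {s : S | Smooth ((Over.pullback (S.fromSpecResidueField s)).map u).left} =
      {s : S | η[G].left s ∈ (u.left.smoothLocus : Set G.left)} := by
    ext s
    exact (smooth_fibre_iff u s).trans (forall_fibre_mem_iff hL s)
  have hset2 : {x : G.left | ∃ W : G.left.Opens, x ∈ W ∧ Smooth (W.ι ≫ u.left)} =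
      (u.left.smoothLocus : Set G.left) := by
    ext x
    exact Groth.Agent.Lib.Helper18.SmoothDescent.exists_smooth_nhd_iff u.left x
  rw [hset, hset2]
  exact ⟨isOpen_unit_preimage u.left.smoothLocus.isOpen, eq_preimage_unit hL⟩

end Groth.Agent.Lib.helper5.GrpHomLocus
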