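import Groth.Agent.Lib.Helper5.ThickFlatScheme
import Groth.Agent.Lib.Helper5.GrpHomLocus6

/-!
# Smoothness / étaleness deform along arbitrary thickenings (helper5)

Setup: `U ⟶ V ⟶ W`, `W₀ ⟶ W` surjective, base changes `U₀ ⟶ V₀ ⟶ W₀`;
`U` flat lfp over `W`, `V` lft over `W`.

* `lfp_of_comp`, `smooth_of_surjective_base`, `formallyUnramified_of_surjective_base`,
  `etale_of_surjective_base`.
-/

set_option autoImplicit false
set_option backward.isDefEq.respectTransparency false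
universe u
open CategoryTheory CategoryTheory.Limits AlgebraicGeometry

namespace Groth.Agent.Lib.helper5.ThickFlat

open Groth.Agent.Lib.helper5.FibCrit Groth.Agent.Lib.helper5.GrpHomLocus
  Groth.Agent.Lib.helper5.UnramLocus Groth.Agent.Lib.helper5.ConsMono

theorem lfp_of_comp {U V W : Scheme.{u}} (h : U ⟶ V) (k : V ⟶ W) [LocallyOfFiniteType k]
    [LocallyOfFinitePresentation (h ≫ k)] : LocallyOfFinitePresentation h :=
  Groth.Agent.Lib.Helper18.RelSmoothFiber.locallyOfFinitePresentation_of_comp h k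
    inferInstance inferInstance

theorem smooth_of_surjective_base {U V W U₀ V₀ W₀ : Scheme.{u}}
    (h : U ⟶ V) (k : V ⟶ W) (lam : W₀ ⟶ W) (κ : V₀ ⟶ V) (ι : U₀ ⟶ U) (h₀ : U₀ ⟶ V₀) (k₀ : V₀ ⟶ W₀)
    [Surjective lam] [LocallyOfFiniteType k] [LocallyOfFinitePresentation (h ≫ k)]
    (sqV : IsPullback κ k₀ k lam) (sqU : IsPullback ι h₀ h κ)
    (hfl : Flat (h ≫ k)) (hsm₀ : Smooth h₀) : Smooth h := by
  have sqbig : IsPullback ι (h₀ ≫ k₀) (h ≫ k) lam := sqU.paste_vert sqV
  haveI : Surjective ι := MorphismProperty.of_isPullback (P := @Surjective) sqbig.flip inferInstance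
  haveI := lfp_of_comp h k
  haveI : LocallyOfFinitePresentation h₀ :=
    MorphismProperty.of_isPullback (P := @LocallyOfFinitePresentation) sqU inferInstance
  rw [← Scheme.Hom.smoothLocus_eq_top_iff, eq_top_iff]
  intro x _
  obtain ⟨x₀, rfl⟩ := ι.surjective x
  refine (mem_smoothLocus_iff_of_isPullback_base h k h₀ k₀ ι κ lam sqV sqU x₀
    (Flat.stalkMap (h ≫ k) (ι x₀))).mp ?_
  rw [Scheme.Hom.smoothLocus_eq_top h₀]
  trivial

theorem formallyUnramified_of_surjective_base {U V U₀ V₀ : Scheme.{u}}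
    (h : U ⟶ V) (κ : V₀ ⟶ V) (ι : U₀ ⟶ U) (h₀ : U₀ ⟶ V₀) [LocallyOfFiniteType h]
    [Surjective ι] (sqU : IsPullback ι h₀ h κ) (h0 : FormallyUnramified h₀) :
    FormallyUnramified h := by
  haveI : LocallyOfFiniteType h₀ :=
    MorphismProperty.of_isPullback (P := @LocallyOfFiniteType) sqU inferInstance
  rw [formallyUnramified_iff_forall_unrAt] at h0 ⊢
  intro x
  obtain ⟨x₀, rfl⟩ := ι.surjective x
  exact (unrAt_iff_of_isPullback sqU x₀).mp (h0 x₀)

theorem etale_of_surjective_base {U V W U₀ V₀ W₀ : Scheme.{u}}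
    (h : U ⟶ V) (k : V ⟶ W) (lam : W₀ ⟶ W) (κ : V₀ ⟶ V) (ι : U₀ ⟶ U) (h₀ : U₀ ⟶ V₀) (k₀ : V₀ ⟶ W₀)
    [Surjective lam] [LocallyOfFiniteType k] [LocallyOfFinitePresentation (h ≫ k)]
    (sqV : IsPullback κ k₀ k lam) (sqU : IsPullback ι h₀ h κ)
    (hfl : Flat (h ≫ k)) (het₀ : Etale h₀) : Etale h := by
  have sqbig : IsPullback ι (h₀ ≫ k₀) (h ≫ k) lam := sqU.paste_vert sqV
  haveI : Surjective ι := MorphismProperty.of_isPullback (P := @Surjective) sqbig.flip inferInstance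
  haveI := lfp_of_comp h k
  rw [Etale.iff_flat_and_formallyUnramified]
  refine ⟨(flat_of_surjective_base h k lam κ ι h₀ k₀ sqV sqU hfl inferInstance).1,
    formallyUnramified_of_surjective_base h κ ι h₀ sqU inferInstance, inferInstance⟩

end Groth.Agent.Lib.helper5.ThickFlat
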