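import Mathlib
import Groth.Agent.Lib.Helper5.GrpQC1
import Groth.Agent.Lib.Helper5.ThickFlatScheme2

/-!
# The key lemma in dense form and fppf coverings of a group scheme by products (helper5; SGA3 VI_B, S5394)

* `exists_open_image_fst`: for a field valued point `h` of `S`, the projection `G ×_S Spec K ⟶ G` is open onto the fibre.
* `τ''`: `(a, g) ↦ (a⁻¹ g, g)`, inverse to `GrpQC1.τ'`.
* `exists_mul_eq_of_dense` (key lemma, dense form): if the open `U` of `G` is dense in the fibre through `g` then `g = u₁ u₂`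
  with `u₁, u₂ ∈ U` (no hypothesis on `G`).
* `fibre_subset_closure`: a set containing the maximal points of a fibre is dense in it.
* `isPullback_whiskerRight`: `f ▷ Z` is the base change of `f` along the first projection.
* `mul_left_flat_lfp`, `flat_ι_comp`, `fppf_mul_of_flat`, `fppf_mul` (S5394).
-/

set_option autoImplicit false
set_option linter.style.haveILetI false
universe u
open CategoryTheory CategoryTheory.Limits MonoidalCategory CartesianMonoidalCategory MonObj GrpObj
  AlgebraicGeometry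

namespace Groth.Agent.Lib.helper5.GrpQC2

open Groth.Agent.Lib.helper5.HomogSep1 Groth.Agent.Lib.helper5.GrpQC1

/-- the projection of the base change of `f : G ⟶ S` to a field valued point `h` is open onto the fibre: the image of an
open is the trace on the fibre of an open of `G`. -/
theorem exists_open_image_fst (K : Type u) [Field K] {S G : Scheme.{u}} (f : G ⟶ S)
    (h : Spec (CommRingCat.of K) ⟶ S) (O : Set ↥(pullback f h)) (hO : IsOpen O) :
    ∃ N : Set G, IsOpen N ∧ pullback.fst f h '' O = N ∩ f ⁻¹' {h (IsLocalRing.closedPoint K)} := by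
  set s : S := h (IsLocalRing.closedPoint K) with hs
  let φ : S.residueField s ⟶ CommRingCat.of K :=
    Scheme.descResidueField (Scheme.stalkClosedPointTo h)
  have hfac : Spec.map φ ≫ S.fromSpecResidueField s = h :=
    Scheme.descResidueField_stalkClosedPointTo_fromSpecResidueField K S h
  let e1 : pullback (f.fiberToSpecResidueField s) (Spec.map φ) ≅
      pullback f (Spec.map φ ≫ S.fromSpecResidueField s) :=
    pullbackLeftPullbackSndIso f (S.fromSpecResidueField s) (Spec.map φ)
  let e2 : pullback f (Spec.map φ ≫ S.fromSpecResidueField s) ≅ pullback f h :=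
    pullback.congrHom rfl hfac
  let e := e1 ≪≫ e2
  have he : e.hom ≫ pullback.fst f h =
      pullback.fst (f.fiberToSpecResidueField s) (Spec.map φ) ≫ f.fiberι s := by
    simp only [e, e1, e2, Iso.trans_hom, Category.assoc, pullback.congrHom_hom, pullback.lift_fst,
      Category.comp_id]
    exact pullbackLeftPullbackSndIso_hom_fst _ _ _
  haveI : UniversallyOpen (pullback.fst (f.fiberToSpecResidueField s) (Spec.map φ)) :=
    MorphismProperty.pullback_fst _ _ (inferInstance : UniversallyOpen (Spec.map φ))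
  -- the image in the scheme-theoretic fibre
  let O' : Set ↥(f.fiber s) :=
    pullback.fst (f.fiberToSpecResidueField s) (Spec.map φ) '' (e.hom ⁻¹' O)
  have hO' : IsOpen O' :=
    (pullback.fst (f.fiberToSpecResidueField s) (Spec.map φ)).isOpenMap _
      (hO.preimage e.hom.continuous)
  obtain ⟨N, hN, hNO⟩ := (f.fiberι s).isEmbedding.isInducing.isOpen_iff.mp hO'
  refine ⟨N, hN, ?_⟩
  have h1 : pullback.fst f h '' O = f.fiberι s '' O' := by
    have hsurj : Function.Surjective e.hom := (Scheme.homeoOfIso e).surjective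
    ext x
    constructor
    · rintro ⟨o, ho, rfl⟩
      obtain ⟨o', rfl⟩ := hsurj o
      refine ⟨pullback.fst (f.fiberToSpecResidueField s) (Spec.map φ) o', ⟨o', ho, rfl⟩, ?_⟩
      rw [← Scheme.Hom.comp_apply, ← he, Scheme.Hom.comp_apply]
    · rintro ⟨_, ⟨o', ho', rfl⟩, rfl⟩
      refine ⟨e.hom o', ho', ?_⟩
      rw [← Scheme.Hom.comp_apply, he, Scheme.Hom.comp_apply]
  rw [h1, ← hNO, Set.image_preimage_eq_inter_range, f.range_fiberι s]

section dense

variable {S : Scheme.{u}} {G : Over S} [GrpObj G]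

/-- `(a, g) ↦ (a⁻¹ g, g)` -/
noncomputable def τ'' (G : Over S) [GrpObj G] : G ⊗ G ⟶ G ⊗ G := lift (ψ G) (snd G G)

theorem τ''_fst : τ'' G ≫ fst G G = ψ G := by simp [τ'']

theorem τ''_snd : τ'' G ≫ snd G G = snd G G := by simp [τ'']

theorem τ'_τ'' : τ' G ≫ τ'' G = 𝟙 _ := by
  apply CartesianMonoidalCategory.hom_ext
  · rw [Category.assoc, τ''_fst, τ'_ψ]; simp
  · rw [Category.assoc, τ''_snd, τ'_snd]; simp

theorem τ''_τ' : τ'' G ≫ τ' G = 𝟙 _ := by
  apply CartesianMonoidalCategory.hom_ext
  · simp only [τ', Category.assoc, lift_fst, Category.id_comp]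
    rw [MonObj.comp_mul, GrpObj.comp_inv, τ''_snd, τ''_fst, ψ]
    simp
  · rw [Category.assoc, τ'_snd, τ''_snd]; simp

/-- **Key lemma, dense form**: if the open `U` of `G` is dense in the fibre through `g`, then `g = u₁ u₂` with
`u₁, u₂ ∈ U`. -/
theorem exists_mul_eq_of_dense (U : G.left.Opens) (g : G.left)
    (hU : G.hom.base ⁻¹' {G.hom g} ⊆ closure ((U : Set G.left) ∩ G.hom.base ⁻¹' {G.hom g})) :
    ∃ z : (G ⊗ G).left, (fst G G).left z ∈ U ∧ (snd G G).left z ∈ U ∧ μ[G].left z = g := by
  let y : Spec (G.left.residueField g) ⟶ G.left := G.left.fromSpecResidueField g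
  have hP := isPullback_jm G y
  have hpt : (y ≫ G.hom) (IsLocalRing.closedPoint (G.left.residueField g)) = G.hom g := by
    rw [Scheme.Hom.comp_apply]
    congr 1
    exact G.left.fromSpecResidueField_apply g _
  have hq₁ : jm G y ≫ (fst G G).left = pullback.fst G.hom (y ≫ G.hom) := by
    show jm G y ≫ pullback.fst G.hom G.hom = _
    rw [jm, pullback.lift_fst, Category.comp_id]
  -- density of the first open
  have hd1 : Dense (pullback.fst G.hom (y ≫ G.hom) ⁻¹' (U : Set G.left)) := by
    rw [dense_iff_inter_open]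
    rintro O hO ⟨o, ho⟩
    obtain ⟨N, hN, hNO⟩ := exists_open_image_fst (G.left.residueField g) G.hom (y ≫ G.hom) O hO
    rw [hpt] at hNO
    have h1 : pullback.fst G.hom (y ≫ G.hom) o ∈ N ∩ G.hom.base ⁻¹' {G.hom g} := by
      rw [← hNO]; exact ⟨o, ho, rfl⟩
    obtain ⟨p, hpN, hpU, hpf⟩ := mem_closure_iff.mp (hU h1.2) N hN h1.1
    have h2 : p ∈ pullback.fst G.hom (y ≫ G.hom) '' O := by rw [hNO]; exact ⟨hpN, hpf⟩
    obtain ⟨o', ho', rfl⟩ := h2
    exact ⟨o', ho', hpU⟩
  -- the automorphism of the fibre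
  have e1 := congrArg (fun k => k.left) (τ''_snd (G := G))
  have e2 := congrArg (fun k => k.left) (τ'_snd (G := G))
  have e3 := congrArg (fun k => k.left) (τ''_τ' (G := G))
  have e4 := congrArg (fun k => k.left) (τ'_τ'' (G := G))
  have e5 := congrArg (fun k => k.left) (τ''_fst (G := G))
  simp only [Over.comp_left, Over.id_left] at e1 e2 e3 e4 e5
  let τK : pullback G.hom (y ≫ G.hom) ⟶ pullback G.hom (y ≫ G.hom) :=
    hP.lift (jm G y ≫ (τ'' G).left) (pullback.snd G.hom (y ≫ G.hom))
      (by rw [Category.assoc, e1, hP.w])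
  let τK' : pullback G.hom (y ≫ G.hom) ⟶ pullback G.hom (y ≫ G.hom) :=
    hP.lift (jm G y ≫ (τ' G).left) (pullback.snd G.hom (y ≫ G.hom))
      (by rw [Category.assoc, e2, hP.w])
  have hτ1 : τK ≫ jm G y = jm G y ≫ (τ'' G).left := hP.lift_fst _ _ _
  have hτ2 : τK ≫ pullback.snd G.hom (y ≫ G.hom) = pullback.snd G.hom (y ≫ G.hom) :=
    hP.lift_snd _ _ _
  have hτ1' : τK' ≫ jm G y = jm G y ≫ (τ' G).left := hP.lift_fst _ _ _
  have hτ2' : τK' ≫ pullback.snd G.hom (y ≫ G.hom) = pullback.snd G.hom (y ≫ G.hom) :=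
    hP.lift_snd _ _ _
  let eK : pullback G.hom (y ≫ G.hom) ≅ pullback G.hom (y ≫ G.hom) :=
    { hom := τK
      inv := τK'
      hom_inv_id := by
        apply hP.hom_ext
        · rw [Category.assoc, hτ1', ← Category.assoc, hτ1, Category.assoc, e3]; simp
        · rw [Category.assoc, hτ2', hτ2]; simp
      inv_hom_id := by
        apply hP.hom_ext
        · rw [Category.assoc, hτ1, ← Category.assoc, hτ1', Category.assoc, e4]; simp
        · rw [Category.assoc, hτ2, hτ2']; simp }
  have hd2 : Dense (τK ⁻¹' (pullback.fst G.hom (y ≫ G.hom) ⁻¹' (U : Set G.left))) :=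
    hd1.preimage (Scheme.homeoOfIso eK).isOpenMap
  have hτq : τK ≫ pullback.fst G.hom (y ≫ G.hom) = jm G y ≫ (ψ G).left := by
    rw [← hq₁, ← Category.assoc, hτ1, Category.assoc, e5]
  -- nonemptiness
  obtain ⟨p0, -, hp02⟩ := Scheme.Pullback.exists_preimage_pullback (f := G.hom) (g := G.hom)
    g g rfl
  obtain ⟨z0, -, -⟩ := Scheme.exists_preimage_of_isPullback hP p0
    (IsLocalRing.closedPoint _) (by
      rw [show (snd G G).left p0 = g from hp02]
      exact (G.left.fromSpecResidueField_apply g _).symm)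
  have hO2 : IsOpen (τK ⁻¹' (pullback.fst G.hom (y ≫ G.hom) ⁻¹' (U : Set G.left))) :=
    (U.2.preimage (pullback.fst G.hom (y ≫ G.hom)).continuous).preimage τK.continuous
  haveI : Nonempty ↥(pullback G.hom (y ≫ G.hom)) := ⟨z0⟩
  obtain ⟨z', hz'2, hz'1⟩ := hd1.inter_open_nonempty _ hO2 hd2.nonempty
  have f3 := congrArg (fun k => k.left) (lift_fst_ψ_mul (G := G))
  have f4 := congrArg (fun k => k.left) (lift_fst (fst G G) (ψ G))
  have f5 := congrArg (fun k => k.left) (lift_snd (fst G G) (ψ G))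
  simp only [Over.comp_left] at f3 f4 f5
  refine ⟨(lift (fst G G) (ψ G)).left (jm G y z'), ?_, ?_, ?_⟩
  · rw [← Scheme.Hom.comp_apply, f4, ← Scheme.Hom.comp_apply, hq₁]; exact hz'1
  · rw [← Scheme.Hom.comp_apply, f5, ← Scheme.Hom.comp_apply, ← hτq, Scheme.Hom.comp_apply]
    exact hz'2
  · rw [← Scheme.Hom.comp_apply, f3, ← Scheme.Hom.comp_apply, hP.w, Scheme.Hom.comp_apply]
    exact G.left.fromSpecResidueField_apply g _

end dense

section maxpts

/-- a subset of a scheme containing the maximal points of a fibre is dense in it -/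
theorem fibre_subset_closure {G S : Scheme.{u}} (f : G ⟶ S) (s : S) (U : Set G)
    (hU : ∀ ξ : ↥(f.base ⁻¹' {s}), closure {ξ} ∈ irreducibleComponents ↥(f.base ⁻¹' {s}) → ξ.1 ∈ U) :
    f.base ⁻¹' {s} ⊆ closure (U ∩ f.base ⁻¹' {s}) := by
  intro x hx
  haveI : QuasiSober ↥(f.base ⁻¹' {s}) := (f.fiberHomeo s).symm.isClosedEmbedding.quasiSober
  let x' : ↥(f.base ⁻¹' {s}) := ⟨x, hx⟩
  obtain ⟨ξ, hξ⟩ := QuasiSober.sober (isIrreducible_irreducibleComponent (x := x'))
    isClosed_irreducibleComponent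
  have h1 : closure {ξ} ∈ irreducibleComponents ↥(f.base ⁻¹' {s}) := by
    rw [hξ.def]; exact irreducibleComponent_mem_irreducibleComponents x'
  have h2 := hU ξ h1
  have h3 : x' ∈ closure {ξ} := by rw [hξ.def]; exact mem_irreducibleComponent
  have h4 := map_mem_closure (f := (Subtype.val : ↥(f.base ⁻¹' {s}) → G)) continuous_subtype_val h3
    (t := U ∩ f.base ⁻¹' {s}) (by
      intro a ha
      rw [Set.mem_singleton_iff.mp ha]
      exact ⟨h2, ξ.2⟩)
  exact h4

end maxpts

section whisker

variable {C : Type*} [Category C] [CartesianMonoidalCategory C]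

/-- `f ▷ Z` is the base change of `f` along the first projection. -/
theorem isPullback_whiskerRight (Z : C) {X Y : C} (f : X ⟶ Y) :
    IsPullback (fst X Z) (f ▷ Z) f (fst Y Z) := by
  refine Groth.Agent.Lib.helper22.isPullback_of_points (by simp) ?_ ?_
  · intro T s t h
    refine ⟨lift s (t ≫ snd Y Z), by simp, ?_⟩
    apply CartesianMonoidalCategory.hom_ext
    · simp [h]
    · simp
  · intro T l l' h1 h2
    apply CartesianMonoidalCategory.hom_ext
    · exact h1
    · have := congrArg (fun k => k ≫ snd Y Z) h2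
      simpa using this

end whisker

section fppf

variable {S : Scheme.{u}} {G : Over S} [GrpObj G]

theorem mul_left_flat_lfp [Flat G.hom] [LocallyOfFinitePresentation G.hom] :
    Flat μ[G].left ∧ LocallyOfFinitePresentation μ[G].left := by
  have h := Groth.Agent.Lib.helper22.shear_hom_snd (regAction G)
  have h' : μ[G].left = (Groth.Agent.Lib.helper22.shear (regAction G)).hom.left ≫ (snd G G).left := by
    rw [← Over.comp_left, h]; rfl
  haveI : IsIso (Groth.Agent.Lib.helper22.shear (regAction G)).hom.left :=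
    inferInstanceAs (IsIso ((Over.forget S).map (Groth.Agent.Lib.helper22.shear (regAction G)).hom))
  haveI : Flat (snd G G).left := inferInstanceAs (Flat (pullback.snd G.hom G.hom))
  haveI : LocallyOfFinitePresentation (snd G G).left :=
    inferInstanceAs (LocallyOfFinitePresentation (pullback.snd G.hom G.hom))
  rw [h']
  exact ⟨inferInstance, inferInstance⟩

/-- flatness of the restriction of `f` to its flat locus -/
theorem flat_ι_comp {X Y : Scheme.{u}} (f : X ⟶ Y) (V : X.Opens)
    (hV : ∀ x ∈ V, (f.stalkMap x).hom.Flat) : Flat (V.ι ≫ f) := by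
  rw [Flat.iff_flat_stalkMap]
  intro x
  have h1 : (f.stalkMap (V.ι x)).hom.Flat := hV _ x.2
  have key : ((V.ι ≫ f).stalkMap x).hom =
      (V.ι.stalkMap x).hom.comp (f.stalkMap (V.ι x)).hom := by
    rw [← CommRingCat.hom_comp]
    exact congrArg _ (Scheme.Hom.stalkMap_comp V.ι f x)
  rw [key]
  exact RingHom.Flat.comp h1
    (RingHom.Flat.of_bijective (ConcreteCategory.bijective_of_isIso (V.ι.stalkMap x)))

/-- **S5394** (SGA3 VI_B), general form: if `fV : X' ⟶ G` is flat, locally of finite presentation and its image contains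
all maximal points of the fibres of `G`, then `X' ×_S X' ⟶ G`, `(x, y) ↦ f(x) f(y)` is an fppf covering. -/
theorem fppf_mul_of_flat [LocallyOfFinitePresentation G.hom] [Flat G.hom] (X' : Over S)
    (fV : X' ⟶ G) (hflat : Flat fV.left) (hlfp : LocallyOfFinitePresentation fV.left)
    (hmax : ∀ (s : S) (g : ↥(G.hom.base ⁻¹' {s})),
      closure {g} ∈ irreducibleComponents ↥(G.hom.base ⁻¹' {s}) → g.1 ∈ Set.range fV.left) :
    Flat ((fV ⊗ₘ fV) ≫ μ[G]).left ∧ LocallyOfFinitePresentation ((fV ⊗ₘ fV) ≫ μ[G]).left ∧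
      Surjective ((fV ⊗ₘ fV) ≫ μ[G]).left := by
  -- the two whiskerings
  have sq2 : IsPullback (snd G X').left (G ◁ fV).left fV.left (snd G G).left :=
    (isPullback_whisker G fV).map (Over.forget S)
  have sq1 : IsPullback (fst X' X').left (fV ▷ X').left fV.left (fst G X').left :=
    (isPullback_whiskerRight X' fV).map (Over.forget S)
  have hw2f : Flat (G ◁ fV).left := MorphismProperty.of_isPullback sq2 hflat
  have hw2p : LocallyOfFinitePresentation (G ◁ fV).left := MorphismProperty.of_isPullback sq2 hlfp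
  have hw1f : Flat (fV ▷ X').left := MorphismProperty.of_isPullback sq1 hflat
  have hw1p : LocallyOfFinitePresentation (fV ▷ X').left :=
    MorphismProperty.of_isPullback sq1 hlfp
  obtain ⟨hμf, hμp⟩ := mul_left_flat_lfp (G := G)
  have hdef : ((fV ⊗ₘ fV) ≫ μ[G]).left = (fV ▷ X').left ≫ (G ◁ fV).left ≫ μ[G].left := by
    rw [MonoidalCategory.tensorHom_def]
    simp only [Over.comp_left, Category.assoc]
  refine ⟨?_, ?_, ?_⟩
  · rw [hdef]; infer_instance
  · rw [hdef]; infer_instance
  · -- surjectivity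
    haveI : UniversallyOpen fV.left := inferInstance
    let U : G.left.Opens := ⟨Set.range fV.left, fV.left.isOpenMap.isOpen_range⟩
    refine ⟨fun g => ?_⟩
    have hU : G.hom.base ⁻¹' {G.hom g} ⊆
        closure ((U : Set G.left) ∩ G.hom.base ⁻¹' {G.hom g}) :=
      fibre_subset_closure G.hom (G.hom g) (U : Set G.left) (fun ξ hξ => hmax _ ξ hξ)
    obtain ⟨z, ⟨v₁, hv₁⟩, ⟨v₂, hv₂⟩, hz⟩ := exists_mul_eq_of_dense U g hU
    obtain ⟨z₁, hz₁1, hz₁2⟩ := Scheme.exists_preimage_of_isPullback sq2 v₂ z hv₂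
    have hfst : fV.left v₁ = (fst G X').left z₁ := by
      have h1 := congrArg (fun k => k.left) (whiskerLeft_fst G fV)
      simp only [Over.comp_left] at h1
      rw [hv₁, ← hz₁2, ← Scheme.Hom.comp_apply, h1]
    obtain ⟨p, -, hp2⟩ := Scheme.exists_preimage_of_isPullback sq1 v₁ z₁ hfst
    refine ⟨p, ?_⟩
    rw [hdef, Scheme.Hom.comp_apply, Scheme.Hom.comp_apply, hp2, hz₁2, hz]

/-- **S5394** (SGA3 VI_B) -/
theorem fppf_mul (X : Over S) [LocallyOfFinitePresentation G.hom] [Flat G.hom]
    [LocallyOfFinitePresentation X.hom] (f : X ⟶ G)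
    (hf : ∀ (s : S) (g : ↥(G.hom.base ⁻¹' {s})),
      closure {g} ∈ irreducibleComponents ↥(G.hom.base ⁻¹' {s}) →
      ∃ x : X.left, f.left.base x = g.1 ∧ (f.left.stalkMap x).hom.Flat)
    (V : X.left.Opens) (hV : (V : Set X.left) = {x : X.left | (f.left.stalkMap x).hom.Flat})
    (fV : Over.mk (V.ι ≫ X.hom) ⟶ G) (hfV : fV.left = V.ι ≫ f.left) :
    Flat ((fV ⊗ₘ fV) ≫ μ[G]).left ∧ LocallyOfFinitePresentation ((fV ⊗ₘ fV) ≫ μ[G]).left ∧
      Surjective ((fV ⊗ₘ fV) ≫ μ[G]).left := by
  have hflat : Flat fV.left := by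
    rw [hfV]
    apply flat_ι_comp
    intro x hx
    have : x ∈ (V : Set X.left) := hx
    rw [hV] at this
    exact this
  have hlfp : LocallyOfFinitePresentation fV.left := by
    haveI : LocallyOfFinitePresentation (fV.left ≫ G.hom) := by
      rw [Over.w fV]
      exact inferInstanceAs (LocallyOfFinitePresentation (V.ι ≫ X.hom))
    exact Groth.Agent.Lib.helper5.ThickFlat.lfp_of_comp fV.left G.hom
  refine fppf_mul_of_flat _ fV hflat hlfp ?_
  intro s ξ hξ
  obtain ⟨x, hx1, hx2⟩ := hf s ξ hξ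
  have hxV : x ∈ (V : Set X.left) := by rw [hV]; exact hx2
  refine ⟨⟨x, hxV⟩, ?_⟩
  rw [hfV, Scheme.Hom.comp_apply]
  exact hx1

end fppf

end Groth.Agent.Lib.helper5.GrpQC2
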