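import Mathlib
import Groth.Agent.Lib.Helper5.GrpQC2

/-!
# Every point of a group scheme over a field is a product of two maximal points (helper5; SGA3 VI_A, S5354)

* `maximal_of_generalizingMap`: generalizing continuous maps to quasi-sober spaces preserve maximal points.
* `exists_maximal_point`: nonempty quasi-sober spaces have maximal points.
* `exists_fibre_iso`: the automorphism `a ↦ a⁻¹ g` of `G ×_S Spec κ(g)`.
* `exists_mul_eq_of_maximal_points` (S5354).
-/

set_option autoImplicit false
set_option linter.style.haveILetI false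
universe u
open CategoryTheory CategoryTheory.Limits MonoidalCategory CartesianMonoidalCategory MonObj GrpObj
  AlgebraicGeometry

namespace Groth.Agent.Lib.helper5.GrpMaxPt

open Groth.Agent.Lib.helper5.HomogSep1 Groth.Agent.Lib.helper5.GrpQC1 Groth.Agent.Lib.helper5.GrpQC2

section top

variable {X Y : Type*} [TopologicalSpace X] [TopologicalSpace Y]

/-- a generalizing continuous map to a quasi-sober space sends maximal points to maximal points -/
theorem maximal_of_generalizingMap [QuasiSober Y] {f : X → Y} (hf : Continuous f)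
    (hg : GeneralizingMap f) {ξ : X} (hξ : closure {ξ} ∈ irreducibleComponents X) :
    closure {f ξ} ∈ irreducibleComponents Y := by
  refine ⟨isIrreducible_singleton.closure, ?_⟩
  intro Z hZ hle
  -- generic point of the closure of `Z`
  obtain ⟨ζ, hζ⟩ := QuasiSober.sober hZ.closure isClosed_closure
  have h1 : ζ ⤳ f ξ := by
    rw [specializes_iff_mem_closure, hζ.def]
    exact subset_closure (hle (subset_closure rfl))
  obtain ⟨ξ', hξ'1, hξ'2⟩ := hg h1
  have h2 : closure {ξ} ⊆ closure {ξ'} := by
    apply closure_minimal _ isClosed_closure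
    rintro _ rfl
    exact specializes_iff_mem_closure.mp hξ'1
  have h3 : closure {ξ'} ⊆ closure {ξ} := hξ.2 isIrreducible_singleton.closure h2
  have h4 : ξ ⤳ ξ' := specializes_iff_mem_closure.mpr (h3 (subset_closure rfl))
  have h5 : f ξ ⤳ ζ := by rw [← hξ'2]; exact h4.map hf
  have h6 : closure Z ⊆ closure {f ξ} := by
    rw [← hζ.def]
    apply closure_minimal _ isClosed_closure
    rintro _ rfl
    exact specializes_iff_mem_closure.mp h5
  exact subset_closure.trans h6

/-- a nonempty quasi-sober space has a maximal point -/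
theorem exists_maximal_point [QuasiSober X] [Nonempty X] :
    ∃ ξ : X, closure {ξ} ∈ irreducibleComponents X := by
  obtain ⟨x⟩ := ‹Nonempty X›
  obtain ⟨ξ, hξ⟩ := QuasiSober.sober (isIrreducible_irreducibleComponent (x := x))
    isClosed_irreducibleComponent
  exact ⟨ξ, by rw [hξ.def]; exact irreducibleComponent_mem_irreducibleComponents x⟩

end top

section grp

variable {S : Scheme.{u}} {G : Over S} [GrpObj G]

/-- the automorphism `a ↦ a⁻¹ g` of the fibre of `G` through `g`, base changed to `κ(g)` -/
theorem exists_fibre_iso (g : G.left) :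
    ∃ eK : pullback G.hom (G.left.fromSpecResidueField g ≫ G.hom) ≅
        pullback G.hom (G.left.fromSpecResidueField g ≫ G.hom),
      eK.hom ≫ pullback.fst G.hom (G.left.fromSpecResidueField g ≫ G.hom) =
        jm G (G.left.fromSpecResidueField g) ≫ (ψ G).left := by
  set y : Spec (G.left.residueField g) ⟶ G.left := G.left.fromSpecResidueField g with hy
  have hP := isPullback_jm G y
  have hq₁ : jm G y ≫ (fst G G).left = pullback.fst G.hom (y ≫ G.hom) := by
    show jm G y ≫ pullback.fst G.hom G.hom = _
    rw [jm, pullback.lift_fst, Category.comp_id]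
  have e1 := congrArg (fun k => k.left) (τ''_snd (G := G))
  have e2 := congrArg (fun k => k.left) (τ'_snd (G := G))
  have e3 := congrArg (fun k => k.left) (τ''_τ' (G := G))
  have e4 := congrArg (fun k => k.left) (τ'_τ'' (G := G))
  have e5 := congrArg (fun k => k.left) (τ''_fst (G := G))
  simp only [Over.comp_left, Over.id_left] at e1 e2 e3 e4 e5
  let τK : pullback G.hom (y ≫ G.hom) ⟶ pullback G.hom (y ≫ G.hom) :=
    hP.lift (jm G y ≫ (τ'' G).left) (pullback.snd G.hom (y ≫ G.hom))
      (by rw [Category.assoc, e1, hP.w])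
  let τK' : pullback G.hom (y ≫ G.hom) ⟶ pullback G.hom (y ≫ G.hom) :=
    hP.lift (jm G y ≫ (τ' G).left) (pullback.snd G.hom (y ≫ G.hom))
      (by rw [Category.assoc, e2, hP.w])
  have hτ1 : τK ≫ jm G y = jm G y ≫ (τ'' G).left := hP.lift_fst _ _ _
  have hτ2 : τK ≫ pullback.snd G.hom (y ≫ G.hom) = pullback.snd G.hom (y ≫ G.hom) :=
    hP.lift_snd _ _ _
  have hτ1' : τK' ≫ jm G y = jm G y ≫ (τ' G).left := hP.lift_fst _ _ _
  have hτ2' : τK' ≫ pullback.snd G.hom (y ≫ G.hom) = pullback.snd G.hom (y ≫ G.hom) :=
    hP.lift_snd _ _ _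
  refine ⟨{ hom := τK
            inv := τK'
            hom_inv_id := ?_
            inv_hom_id := ?_ }, ?_⟩
  · apply hP.hom_ext
    · rw [Category.assoc, hτ1', ← Category.assoc, hτ1, Category.assoc, e3]; simp
    · rw [Category.assoc, hτ2', hτ2]; simp
  · apply hP.hom_ext
    · rw [Category.assoc, hτ1, ← Category.assoc, hτ1', Category.assoc, e4]; simp
    · rw [Category.assoc, hτ2, hτ2']; simp
  · show τK ≫ _ = _
    rw [← hq₁, ← Category.assoc, hτ1, Category.assoc, e5]

end grp

section field

variable (k : Type u) [Field k] (G : Over (Spec (CommRingCat.of k))) [GrpObj G]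

/-- **S5354** (SGA3 VI_A 2.6.?): every point of a group scheme over a field is the product of two maximal points. -/
theorem exists_mul_eq_of_maximal_points (x : G.left) :
    ∃ z : ↥(G ⊗ G).left, μ[G].left.base z = x ∧
      closure {(fst G G).left.base z} ∈ irreducibleComponents ↥G.left ∧
      closure {(snd G G).left.base z} ∈ irreducibleComponents ↥G.left := by
  set y : Spec (G.left.residueField x) ⟶ G.left := G.left.fromSpecResidueField x with hy
  have hP := isPullback_jm G y
  obtain ⟨eK, heK⟩ := exists_fibre_iso x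
  have hq₁ : jm G y ≫ (fst G G).left = pullback.fst G.hom (y ≫ G.hom) := by
    show jm G y ≫ pullback.fst G.hom G.hom = _
    rw [jm, pullback.lift_fst, Category.comp_id]
  -- nonemptiness
  obtain ⟨p0, -, hp02⟩ := Scheme.Pullback.exists_preimage_pullback (f := G.hom) (g := G.hom)
    x x rfl
  obtain ⟨z0, -, -⟩ := Scheme.exists_preimage_of_isPullback hP p0
    (IsLocalRing.closedPoint _) (by
      rw [show (snd G G).left p0 = x from hp02]
      exact (G.left.fromSpecResidueField_apply x _).symm)
  haveI : Nonempty ↥(pullback G.hom (y ≫ G.hom)) := ⟨z0⟩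
  obtain ⟨ξ, hξ⟩ := exists_maximal_point (X := ↥(pullback G.hom (y ≫ G.hom)))
  -- the projection is flat, hence generalizing
  haveI : Flat (y ≫ G.hom) := inferInstance
  have hgen : GeneralizingMap (pullback.fst G.hom (y ≫ G.hom)) :=
    Flat.generalizingMap (pullback.fst G.hom (y ≫ G.hom))
  have hm1 : closure {pullback.fst G.hom (y ≫ G.hom) ξ} ∈ irreducibleComponents ↥G.left :=
    maximal_of_generalizingMap (pullback.fst G.hom (y ≫ G.hom)).continuous hgen hξ
  have hξ' : closure {eK.hom ξ} ∈ irreducibleComponents ↥(pullback G.hom (y ≫ G.hom)) :=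
    maximal_of_generalizingMap eK.hom.continuous (Flat.generalizingMap eK.hom) hξ
  have hm2 : closure {pullback.fst G.hom (y ≫ G.hom) (eK.hom ξ)} ∈ irreducibleComponents ↥G.left :=
    maximal_of_generalizingMap (pullback.fst G.hom (y ≫ G.hom)).continuous hgen hξ'
  have f3 := congrArg (fun k => k.left) (lift_fst_ψ_mul (G := G))
  have f4 := congrArg (fun k => k.left) (lift_fst (fst G G) (ψ G))
  have f5 := congrArg (fun k => k.left) (lift_snd (fst G G) (ψ G))
  simp only [Over.comp_left] at f3 f4 f5
  refine ⟨(lift (fst G G) (ψ G)).left (jm G y ξ), ?_, ?_, ?_⟩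
  · show μ[G].left ((lift (fst G G) (ψ G)).left (jm G y ξ)) = x
    rw [← Scheme.Hom.comp_apply, f3, ← Scheme.Hom.comp_apply, hP.w, Scheme.Hom.comp_apply]
    exact G.left.fromSpecResidueField_apply x _
  · show closure {(fst G G).left ((lift (fst G G) (ψ G)).left (jm G y ξ))} ∈ _
    rw [← Scheme.Hom.comp_apply, f4, ← Scheme.Hom.comp_apply, hq₁]
    exact hm1
  · show closure {(snd G G).left ((lift (fst G G) (ψ G)).left (jm G y ξ))} ∈ _
    rw [← Scheme.Hom.comp_apply, f5, ← Scheme.Hom.comp_apply, ← heK, Scheme.Hom.comp_apply]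
    exact hm2

end field

end Groth.Agent.Lib.helper5.GrpMaxPt
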