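import Mathlib
import Groth.Agent.Lib.Helper5.GrpMonoClosed2
import Groth.Agent.S0084
import Groth.Agent.S0086
import Groth.Agent.S5331

/-!
# Homomorphisms of group schemes over local artinian rings: proper / finite iff kernel is (helper5)

* `prop_fst_kernelPair`: for a homomorphism `u : G ⟶ H` of group schemes over `S`, a base change stable property of
  the kernel `ker u ⟶ S` passes to the first projection of the kernel pair `G ×_H G ⟶ G` (shear isomorphism).
* `unit_bc_prL`, `isPullback_ker_bc`: the kernel of the base change is the base change of the kernel.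
* `prop_hom_of_prop_ker_field`: over a field, a quasi-compact homomorphism of group schemes locally of finite type
  has every fppf-local, base change and composition stable property containing closed immersions that its kernel has.
* `isProper_hom_of_isProper_ker_artinian` (S3035), `isFinite_hom_of_isFinite_ker_artinian` (towards S3037).
-/

set_option autoImplicit false
set_option linter.style.haveILetI false
universe u
open CategoryTheory MonoidalCategory CartesianMonoidalCategory MonObj GrpObj AlgebraicGeometry
  CategoryTheory.Limits TopologicalSpace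

namespace Groth.Agent.Lib.helper5.GrpMonoClosed

open Groth.Agent.Lib.Helper14.BCAct

section general

variable {S : Scheme.{u}}

/-- The structure map of the categorical kernel has any iso-respecting property that the scheme-level
kernel `G ×_H S ⟶ S` has. -/
theorem prop_ker_hom (P : MorphismProperty Scheme.{u}) [P.RespectsIso] {G H : Over S} [GrpObj H]
    (u : G ⟶ H) (hK : P (pullback.snd u.left (η[H] : 𝟙_ (Over S) ⟶ H).left)) :
    P (pullback u η[H]).hom := by
  have sqK : IsPullback (pullback.fst u η[H]).left (pullback.snd u η[H]).left u.left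
      (η[H] : 𝟙_ (Over S) ⟶ H).left :=
    (IsPullback.of_hasPullback u η[H]).map (Over.forget _)
  have e1 := sqK.isoPullback_hom_snd
  have e2 : (pullback u η[H]).hom = (pullback.snd u η[H]).left := by
    have := Over.w (pullback.snd u η[H])
    rw [← this]
    exact (Category.comp_id _).symm
  rw [e2, ← e1]
  exact (MorphismProperty.cancel_left_of_respectsIso P _ _).2 hK

/-- shear isomorphism: the first projection of the kernel pair of a homomorphism is a base change of the
kernel. -/
theorem prop_fst_kernelPair (P : MorphismProperty Scheme.{u}) [P.IsStableUnderBaseChange]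
    [P.RespectsIso] {G H : Over S} [GrpObj G] [GrpObj H] (u : G ⟶ H) [IsMonHom u]
    (hK : P (pullback.snd u.left (η[H] : 𝟙_ (Over S) ⟶ H).left)) :
    P (pullback.fst u.left u.left) := by
  have hK' := prop_ker_hom P u hK
  have hK0 : IsPullback (pullback.fst u η[H]) (toUnit (pullback u η[H])) u η[H] := by
    rw [toUnit_unique (toUnit (pullback u η[H])) (pullback.snd u η[H])]
    exact IsPullback.of_hasPullback _ _
  have hGo : IsPullback (pullback.fst u η[H]) (toUnit (pullback u η[H]))
      ((Groth.Agent.Lib.helper5.GrpHomLocus.actOfHom u).orbitMap η[H]) η[H] := by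
    rw [Groth.Agent.Lib.helper5.GrpHomLocus.orbitMap_actOfHom]
    exact hK0
  have sq := Groth.Agent.Lib.helper22.isPullback_shear_of_stabilizer
    (Groth.Agent.Lib.helper5.GrpHomLocus.actOfHom u) η[H] _ hGo
  rw [Groth.Agent.Lib.helper5.GrpHomLocus.orbitMap_actOfHom] at sq
  have sqL : IsPullback (fst G (pullback u η[H])).left
      ((G ◁ pullback.fst u η[H]) ≫ μ[G]).left u.left u.left := sq.map (Over.forget S)
  have e1 := sqL.isoPullback_inv_fst
  rw [← e1]
  refine (MorphismProperty.cancel_left_of_respectsIso P _ _).2 ?_
  rw [Over.fst_left]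
  exact MorphismProperty.pullback_fst _ _ hK'

end general

section bc

variable {S S' : Scheme.{u}} (g : S' ⟶ S)

/-- the unit section of the base change lies over the unit section. -/
theorem unit_bc_prL (H : Over S) [GrpObj H] :
    (η[Red.bc g H] : 𝟙_ (Over S') ⟶ Red.bc g H).left ≫ prL g H =
      g ≫ (η[H] : 𝟙_ (Over S) ⟶ H).left := by
  have h1 : (η[Red.bc g H] : 𝟙_ (Over S') ⟶ Red.bc g H) =
      Functor.LaxMonoidal.ε (Over.pullback g) ≫ (Over.pullback g).map η[H] := rfl
  rw [h1, Over.comp_left, Category.assoc, map_left_prL, ← Category.assoc]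
  congr 1
  have h2 : prL g (𝟙_ (Over S)) = pullback.snd (𝟙_ (Over S)).hom g ≫ g := by
    have := pullback.condition (f := (𝟙_ (Over S)).hom) (g := g)
    rw [← this]
    exact (Category.comp_id _).symm
  rw [h2, ← Category.assoc]
  have h3 : (Functor.LaxMonoidal.ε (Over.pullback g)).left ≫ pullback.snd (𝟙_ (Over S)).hom g =
      𝟙 S' := Over.w (Functor.LaxMonoidal.ε (Over.pullback g))
  rw [h3]
  exact Category.id_comp _

/-- the kernel of the base change is the base change of the kernel. -/
theorem exists_isPullback_ker_bc {G H : Over S} [GrpObj H] (u : G ⟶ H) :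
    ∃ l, IsPullback l
      (pullback.snd ((Over.pullback g).map u).left (η[Red.bc g H] : 𝟙_ (Over S') ⟶ Red.bc g H).left)
      (pullback.snd u.left (η[H] : 𝟙_ (Over S) ⟶ H).left) g := by
  set uk := (Over.pullback g).map u
  have sq : IsPullback (prL g G) uk.left u.left (prL g H) := isPullback_map_left g u
  have h1 : IsPullback (pullback.fst uk.left (η[Red.bc g H] : 𝟙_ (Over S') ⟶ Red.bc g H).left)
      (pullback.snd uk.left (η[Red.bc g H] : 𝟙_ (Over S') ⟶ Red.bc g H).left) uk.left
      (η[Red.bc g H] : 𝟙_ (Over S') ⟶ Red.bc g H).left := IsPullback.of_hasPullback _ _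
  have h2 := h1.flip.paste_vert sq.flip
  rw [unit_bc_prL] at h2
  have h0 : IsPullback (pullback.fst u.left (η[H] : 𝟙_ (Over S) ⟶ H).left)
      (pullback.snd u.left (η[H] : 𝟙_ (Over S) ⟶ H).left) u.left
      (η[H] : 𝟙_ (Over S) ⟶ H).left := IsPullback.of_hasPullback _ _
  let l := h0.lift (pullback.fst uk.left (η[Red.bc g H] : 𝟙_ (Over S') ⟶ Red.bc g H).left ≫ prL g G)
    (pullback.snd uk.left (η[Red.bc g H] : 𝟙_ (Over S') ⟶ Red.bc g H).left ≫ g)
    (by rw [Category.assoc, Category.assoc]; exact h2.w.symm)
  refine ⟨l, ?_⟩
  have hl1 : l ≫ pullback.fst u.left (η[H] : 𝟙_ (Over S) ⟶ H).left = _ := h0.lift_fst _ _ _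
  have hl2 : l ≫ pullback.snd u.left (η[H] : 𝟙_ (Over S) ⟶ H).left = _ := h0.lift_snd _ _ _
  have h2' : IsPullback (pullback.snd uk.left (η[Red.bc g H] : 𝟙_ (Over S') ⟶ Red.bc g H).left)
      (l ≫ pullback.fst u.left (η[H] : 𝟙_ (Over S) ⟶ H).left)
      (g ≫ (η[H] : 𝟙_ (Over S) ⟶ H).left) u.left := by
    rw [hl1]; exact h2
  exact (IsPullback.of_bot h2' hl2.symm h0.flip).flip

end bc

section field

variable (k : Type u) [Field k]

/-- Over a field, a quasi-compact homomorphism of group schemes locally of finite type has every fppf-local,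
base change and composition stable property containing closed immersions that its kernel has. -/
theorem prop_hom_of_prop_ker_field (P : MorphismProperty Scheme.{u}) [P.IsStableUnderBaseChange]
    [P.IsStableUnderComposition] [P.RespectsIso]
    [P.DescendsAlong (@Surjective ⊓ @Flat ⊓ @LocallyOfFinitePresentation)]
    (hcl : ∀ {X Y : Scheme.{u}} (f : X ⟶ Y) [IsClosedImmersion f], P f)
    (G H : Over (Spec (CommRingCat.of k))) [GrpObj G] [GrpObj H] [LocallyOfFiniteType G.hom]
    [LocallyOfFiniteType H.hom] (u : G ⟶ H) [IsMonHom u] [QuasiCompact u.left]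
    (hK : P (pullback.snd u.left
      (η[H] : 𝟙_ (Over (Spec (CommRingCat.of k))) ⟶ H).left)) : P u.left := by
  have hN : Flat (pullback.snd u.left
      (η[H] : 𝟙_ (Over (Spec (CommRingCat.of k))) ⟶ H).left) :=
    inferInstanceAs (Flat (Y := Spec (CommRingCat.of k)) (pullback.snd u.left
      (η[H] : 𝟙_ (Over (Spec (CommRingCat.of k))) ⟶ H).left))
  obtain ⟨C, str, p, i, hpm, him, e, hf, hs, hpp, hi⟩ := hom_factor_artinian k G H u hN
  haveI := hi
  haveI : Mono i := (Over.forget _).mono_of_mono_map (inferInstanceAs (Mono i.left))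
  have h1 : P (pullback.fst u.left u.left) := prop_fst_kernelPair P u hK
  have sq : IsPullback (pullback.fst u.left u.left) (pullback.snd u.left u.left) p.left p.left := by
    have h0 : IsPullback (pullback.fst u.left u.left) (pullback.snd u.left u.left)
        (p.left ≫ i.left) (p.left ≫ i.left) := by
      rw [← Over.comp_left, e]
      exact IsPullback.of_hasPullback _ _
    exact Groth.Agent.Lib.helper5.FppfImage.isPullback_of_comp_mono i.left h0
  have h2 : P p.left :=
    MorphismProperty.of_isPullback_of_descendsAlong
      (Q := @Surjective ⊓ @Flat ⊓ @LocallyOfFinitePresentation) sq ⟨⟨hs, hf⟩, hpp⟩ h1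
  rw [← e, Over.comp_left]
  exact P.comp_mem _ _ h2 (hcl i.left)

end field

section LQF

/-- local quasi-finiteness can be checked after base change along a surjective closed immersion. -/
theorem locallyQuasiFinite_of_isPullback {X Y X₀ Y₀ : Scheme.{u}} {f : X ⟶ Y} {f₀ : X₀ ⟶ Y₀}
    {i : X₀ ⟶ X} {j : Y₀ ⟶ Y} (sq : IsPullback i f₀ f j) [IsClosedImmersion j] [Surjective i]
    [LocallyOfFiniteType f] [LocallyQuasiFinite f₀] [QuasiCompact f₀] : LocallyQuasiFinite f := by
  refine LocallyQuasiFinite.of_finite_preimage_singleton f fun y => ?_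
  have hsub : (j ⁻¹' {y}).Subsingleton :=
    Set.subsingleton_singleton.preimage j.isClosedEmbedding.injective
  have hfin : (f₀ ⁻¹' (j ⁻¹' {y})).Finite := f₀.finite_preimage hsub.finite
  refine (hfin.image i).subset ?_
  intro x hx
  obtain ⟨x₀, rfl⟩ := i.surjective x
  refine ⟨x₀, ?_, rfl⟩
  change j (f₀ x₀) = y
  rw [← Scheme.Hom.comp_apply, ← sq.w, Scheme.Hom.comp_apply]
  exact hx

end LQF

section artinian

variable (A : Type u) [CommRing A] [IsLocalRing A] [IsArtinianRing A]

/-- (⇐) of S3035 -/
theorem isProper_hom_of_isProper_ker_artinian (G H : Over (Spec (CommRingCat.of A))) [GrpObj G]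
    [GrpObj H] [LocallyOfFiniteType G.hom] [LocallyOfFiniteType H.hom] (u : G ⟶ H) [IsMonHom u]
    [QuasiCompact u.left]
    (hK : IsProper (pullback.snd u.left
      (η[H] : 𝟙_ (Over (Spec (CommRingCat.of A))) ⟶ H).left)) : IsProper u.left := by
  let uk : Red.bc (resMap A) G ⟶ Red.bc (resMap A) H := (Over.pullback (resMap A)).map u
  haveI : IsMonHom uk := inferInstance
  have sq : IsPullback (prL (resMap A) G) uk.left u.left (prL (resMap A) H) :=
    isPullback_map_left (resMap A) u
  haveI : QuasiCompact uk.left := MorphismProperty.of_isPullback (P := @QuasiCompact) sq inferInstance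
  haveI : LocallyOfFiniteType (Red.bc (resMap A) G).hom :=
    inferInstanceAs (LocallyOfFiniteType (pullback.snd G.hom (resMap A)))
  haveI : LocallyOfFiniteType (Red.bc (resMap A) H).hom :=
    inferInstanceAs (LocallyOfFiniteType (pullback.snd H.hom (resMap A)))
  obtain ⟨l, hl⟩ := exists_isPullback_ker_bc (resMap A) u
  have hKk : IsProper (pullback.snd uk.left (η[Red.bc (resMap A) H] :
      𝟙_ (Over (Spec (CommRingCat.of (IsLocalRing.ResidueField A)))) ⟶ Red.bc (resMap A) H).left) :=
    MorphismProperty.of_isPullback (P := @IsProper) hl hK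
  haveI := Groth.Agent.S0086.result.{u}
  have hk : IsProper uk.left :=
    prop_hom_of_prop_ker_field (IsLocalRing.ResidueField A) @IsProper
      (fun f _ => inferInstance) (Red.bc (resMap A) G) (Red.bc (resMap A) H) uk hKk
  haveI : UniversallyClosed uk.left := inferInstance
  haveI : IsClosedImmersion (prL (resMap A) H) :=
    inferInstanceAs (IsClosedImmersion (pullback.fst H.hom (resMap A)))
  haveI := surjective_prL (resMap A) H
  haveI : UniversallyClosed u.left := universallyClosed_of_isPullback sq
  haveI : LocallyOfFiniteType u.left := by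
    haveI : LocallyOfFiniteType (u.left ≫ H.hom) := by rw [Over.w u]; infer_instance
    exact locallyOfFiniteType_of_comp u.left H.hom
  haveI : IsSeparated G.hom := Groth.Agent.S5331.result _ G
  haveI : IsSeparated u.left := by
    haveI : IsSeparated (u.left ≫ H.hom) := by rw [Over.w u]; infer_instance
    exact IsSeparated.of_comp u.left H.hom
  exact {}

/-- (⇐) of S3037, finite kernel form -/
theorem isFinite_hom_of_isFinite_ker_artinian (G H : Over (Spec (CommRingCat.of A))) [GrpObj G]
    [GrpObj H] [LocallyOfFiniteType G.hom] [LocallyOfFiniteType H.hom] (u : G ⟶ H) [IsMonHom u]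
    [QuasiCompact u.left]
    (hK : IsFinite (pullback.snd u.left
      (η[H] : 𝟙_ (Over (Spec (CommRingCat.of A))) ⟶ H).left)) : IsFinite u.left := by
  haveI : IsProper u.left := isProper_hom_of_isProper_ker_artinian A G H u inferInstance
  let uk : Red.bc (resMap A) G ⟶ Red.bc (resMap A) H := (Over.pullback (resMap A)).map u
  haveI : IsMonHom uk := inferInstance
  have sq : IsPullback (prL (resMap A) G) uk.left u.left (prL (resMap A) H) :=
    isPullback_map_left (resMap A) u
  haveI : QuasiCompact uk.left := MorphismProperty.of_isPullback (P := @QuasiCompact) sq inferInstance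
  haveI : LocallyOfFiniteType (Red.bc (resMap A) G).hom :=
    inferInstanceAs (LocallyOfFiniteType (pullback.snd G.hom (resMap A)))
  haveI : LocallyOfFiniteType (Red.bc (resMap A) H).hom :=
    inferInstanceAs (LocallyOfFiniteType (pullback.snd H.hom (resMap A)))
  obtain ⟨l, hl⟩ := exists_isPullback_ker_bc (resMap A) u
  have hKk : IsFinite (pullback.snd uk.left (η[Red.bc (resMap A) H] :
      𝟙_ (Over (Spec (CommRingCat.of (IsLocalRing.ResidueField A)))) ⟶ Red.bc (resMap A) H).left) :=
    MorphismProperty.of_isPullback (P := @IsFinite) hl hK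
  haveI := Groth.Agent.S0084.result.{u}
  have hk : IsFinite uk.left :=
    prop_hom_of_prop_ker_field (IsLocalRing.ResidueField A) @IsFinite
      (fun f _ => inferInstance) (Red.bc (resMap A) G) (Red.bc (resMap A) H) uk hKk
  haveI : LocallyQuasiFinite uk.left := inferInstance
  haveI : IsClosedImmersion (prL (resMap A) H) :=
    inferInstanceAs (IsClosedImmersion (pullback.fst H.hom (resMap A)))
  haveI := surjective_prL (resMap A) G
  haveI : LocallyQuasiFinite u.left := locallyQuasiFinite_of_isPullback sq
  exact IsFinite.of_isProper_of_locallyQuasiFinite u.left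

/-- a quasi-compact scheme locally of finite type over an artinian ring with discrete underlying space is finite. -/
theorem isFinite_of_discreteTopology {K : Scheme.{u}} (f : K ⟶ Spec (CommRingCat.of A))
    [LocallyOfFiniteType f] [QuasiCompact f] [DiscreteTopology K] : IsFinite f := by
  haveI : LocallyQuasiFinite f :=
    locallyQuasiFinite_iff_isDiscrete_preimage_singleton.2 fun x =>
      ⟨inferInstance⟩
  haveI : IsLocallyArtinian (Spec (CommRingCat.of A)) :=
    Scheme.isLocallyArtinianScheme_Spec.mpr inferInstance
  exact IsFinite.of_locallyQuasiFinite f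

end artinian

end Groth.Agent.Lib.helper5.GrpMonoClosed
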