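/-
# Lib.Helper5.GrpNeutral1 — the union G⁰ of the neutral components of the fibres (SGA3 VI_B §3)

* `unitSec G : S ⟶ G.left`, `unitSec_hom`.
* `neutralSet_eq_sectionComponents`: `SGA3x.neutralSet G = MoreMor.sectionComponents G.hom (unitSec G)`.
* `neutralSet_bc`: formation of `neutralSet` commutes with base change (S5322), via helper3's S1324.
-/
import Mathlib
import Groth.Agent.Lib.Helper5.GrpMonoClosed3
import Groth.Agent.S1324
import Groth.Prelude.Def_SGA3x

set_option autoImplicit false
set_option linter.style.haveILetI false
universe u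
open CategoryTheory CategoryTheory.Limits MonoidalCategory CartesianMonoidalCategory MonObj GrpObj
  AlgebraicGeometry

namespace Groth.Agent.Lib.helper5.GrpNeutral1

variable {S : Scheme.{u}}

/-- the unit section, as a morphism of schemes `S ⟶ G` -/
noncomputable def unitSec (G : Over S) [GrpObj G] : S ⟶ G.left := (η[G] : 𝟙_ (Over S) ⟶ G).left

theorem unitSec_hom (G : Over S) [GrpObj G] : unitSec G ≫ G.hom = 𝟙 S := Over.w η[G]

/-- the union of the neutral components of the fibres is the set of section components of the unit section -/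
theorem neutralSet_eq_sectionComponents (G : Over S) [GrpObj G] :
    SGA3x.neutralSet G = MoreMor.sectionComponents G.hom (unitSec G) := by
  ext x
  simp only [SGA3x.neutralSet, Set.mem_iUnion]
  constructor
  · rintro ⟨p, hp⟩
    have h1 : x ∈ G.hom.base ⁻¹' {(𝟙_ (Over S)).hom.base p} := connectedComponentIn_subset _ _ hp
    have h2 : G.hom x = p := h1
    show x ∈ connectedComponentIn (G.hom ⁻¹' {G.hom x}) (unitSec G (G.hom x))
    rw [h2]
    exact hp
  · intro hx
    exact ⟨G.hom x, hx⟩

/-- **S5322**: the formation of the neutral components commutes with base change. -/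
theorem neutralSet_bc {S' : Scheme.{u}} (f : S' ⟶ S) (G : Over S) [GrpObj G] :
    SGA3x.neutralSet (Red.bc f G) = (pullback.fst G.hom f).base ⁻¹' SGA3x.neutralSet G := by
  rw [neutralSet_eq_sectionComponents, neutralSet_eq_sectionComponents]
  exact Groth.Agent.S1324.result G.hom (unitSec G) (unitSec_hom G) (Red.bc f G).hom
    (pullback.fst G.hom f) f (IsPullback.of_hasPullback G.hom f) (unitSec (Red.bc f G))
    (unitSec_hom (Red.bc f G)) (Groth.Agent.Lib.helper5.GrpMonoClosed.unit_bc_prL f G)

end Groth.Agent.Lib.helper5.GrpNeutral1
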