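/-
# Lib.Helper5.GrpNeutral2 — key lemma for the union G⁰ of the neutral components of the fibres (SGA3 VI_B §3)

* `unitSec_mem_neutralSet`, `mem_neutralSet_iff`, `unitSec_comp`.
* `neutralSet_field`: over a field, `neutralSet G = connectedComponent (unit point)`.
* `isIrreducible_preimage_neutralSet`: for `h : Spec K ⟶ S`, the preimage of `G⁰` in `G ×_S Spec K` is irreducible (it is the
  neutral component; S0355 + S5322).
* `psi_diag`.
* `exists_mul_eq_of_neutral` (**key lemma**): if the open `U` meets the neutral component of the fibre through `g ∈ G⁰`,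
  then `g = u₁ u₂` with `u₁, u₂ ∈ U ∩ G⁰`. No hypothesis on `G`.
* `image_neutralSet_subset`: a homomorphism maps `H⁰` into `G⁰`.
* `neutralSet_subset_image_mul`: `G⁰ ⊆ (W ∩ G⁰)·(W ∩ G⁰)` for an open neighbourhood `W` of the unit section.
* `exists_isCompact_open_neutralSet` (S5323), `neutralSet_subset_range`, `image_neutralSet_eq` (S5327).
-/
import Mathlib
import Groth.Agent.Lib.Helper5.GrpNeutral1
import Groth.Agent.Lib.Helper5.GrpMaxPt
import Groth.Agent.S0355

set_option autoImplicit false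
set_option linter.style.haveILetI false
universe u
open CategoryTheory CategoryTheory.Limits MonoidalCategory CartesianMonoidalCategory MonObj GrpObj
  AlgebraicGeometry

namespace Groth.Agent.Lib.helper5.GrpNeutral2

open Groth.Agent.Lib.helper5.GrpNeutral1 Groth.Agent.Lib.helper5.HomogSep1
  Groth.Agent.Lib.helper5.GrpQC1 Groth.Agent.Lib.helper5.GrpQC2 Groth.Agent.Lib.helper5.GrpMaxPt

variable {S : Scheme.{u}}

/-- the unit point of a fibre lies in the neutral set -/
theorem unitSec_mem_neutralSet (G : Over S) [GrpObj G] (s : S) :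
    unitSec G s ∈ SGA3x.neutralSet G := by
  rw [neutralSet_eq_sectionComponents]
  show unitSec G s ∈ connectedComponentIn (G.hom ⁻¹' {G.hom (unitSec G s)}) (unitSec G (G.hom (unitSec G s)))
  have h : G.hom (unitSec G s) = s := by
    rw [← Scheme.Hom.comp_apply, unitSec_hom]; rfl
  rw [h]
  exact mem_connectedComponentIn h

/-- over a field the neutral set is the connected component of the unit point -/
theorem neutralSet_field (K : Type u) [Field K] (G : Over (Spec (CommRingCat.of K))) [GrpObj G] :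
    SGA3x.neutralSet G = connectedComponent (η[G].left (IsLocalRing.closedPoint K)) := by
  haveI : Subsingleton ↥(Spec (CommRingCat.of K)) :=
    inferInstanceAs (Subsingleton (PrimeSpectrum K))
  have huniv : ∀ p : ↥(Spec (CommRingCat.of K)), G.hom.base ⁻¹' {p} = Set.univ := by
    intro p
    ext w
    simp only [Set.mem_preimage, Set.mem_singleton_iff, Set.mem_univ, iff_true]
    exact Subsingleton.elim _ _
  ext x
  simp only [SGA3x.neutralSet, Set.mem_iUnion]
  constructor
  · rintro ⟨p, hp⟩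
    have hp' : p = IsLocalRing.closedPoint K := Subsingleton.elim (α := ↥(Spec (CommRingCat.of K))) _ _
    subst hp'
    rw [show G.hom.base ⁻¹' {(𝟙_ (Over (Spec (CommRingCat.of K)))).hom.base (IsLocalRing.closedPoint K)} = Set.univ
      from huniv _, connectedComponentIn_univ] at hp
    exact hp
  · intro hx
    refine ⟨IsLocalRing.closedPoint K, ?_⟩
    rw [show G.hom.base ⁻¹' {(𝟙_ (Over (Spec (CommRingCat.of K)))).hom.base (IsLocalRing.closedPoint K)} = Set.univ
      from huniv _, connectedComponentIn_univ]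
    exact hx

/-- the preimage of `G⁰` in a base change to a field is irreducible: it is the neutral component. -/
theorem isIrreducible_preimage_neutralSet (K : Type u) [Field K] (h : Spec (CommRingCat.of K) ⟶ S)
    (G : Over S) [GrpObj G] :
    IsIrreducible ((pullback.fst G.hom h).base ⁻¹' SGA3x.neutralSet G) ∧
      (pullback.fst G.hom h).base ⁻¹' SGA3x.neutralSet G =
        connectedComponent (η[Red.bc h G].left (IsLocalRing.closedPoint K)) := by
  have h1 := neutralSet_bc h G
  have h2 := neutralSet_field K (Red.bc h G)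
  rw [← h1, h2]
  exact ⟨(Groth.Agent.S0355.result K (Red.bc h G)).1, rfl⟩

theorem psi_diag (G : Over S) [GrpObj G] : HomogSep1.diag G ≫ ψ G = toUnit G ≫ η[G] := by
  rw [ψ, MonObj.comp_mul, GrpObj.comp_inv]
  simp [HomogSep1.diag, MonObj.one_eq_one]

section key

variable {G : Over S} [GrpObj G]

/-- **Key lemma for `G⁰`**: if the open `U` of `G` meets the neutral component of the fibre through `g ∈ G⁰`, then
`g = u₁ u₂` with `u₁, u₂ ∈ U ∩ G⁰`. -/
theorem exists_mul_eq_of_neutral (U : G.left.Opens) (g : G.left) (hg : g ∈ SGA3x.neutralSet G)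
    (u : G.left) (huU : u ∈ U) (hu0 : u ∈ SGA3x.neutralSet G) (hug : G.hom u = G.hom g) :
    ∃ z : (G ⊗ G).left, (fst G G).left z ∈ U ∧ (fst G G).left z ∈ SGA3x.neutralSet G ∧
      (snd G G).left z ∈ U ∧ (snd G G).left z ∈ SGA3x.neutralSet G ∧ μ[G].left z = g := by
  set y : Spec (G.left.residueField g) ⟶ G.left := G.left.fromSpecResidueField g with hy
  have hP := isPullback_jm G y
  obtain ⟨eK, heK⟩ : ∃ eK : pullback G.hom (y ≫ G.hom) ≅ pullback G.hom (y ≫ G.hom),
      eK.hom ≫ pullback.fst G.hom (y ≫ G.hom) = jm G y ≫ (ψ G).left := exists_fibre_iso g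
  have hq₁ : jm G y ≫ (fst G G).left = pullback.fst G.hom (y ≫ G.hom) := by
    show jm G y ≫ pullback.fst G.hom G.hom = _
    rw [jm, pullback.lift_fst, Category.comp_id]
  obtain ⟨hCirr, hCcc⟩ := isIrreducible_preimage_neutralSet (G.left.residueField g) (y ≫ G.hom) G
  set C : Set ↥(pullback G.hom (y ≫ G.hom)) :=
    (pullback.fst G.hom (y ≫ G.hom)).base ⁻¹' SGA3x.neutralSet G with hC
  -- the rational point
  let gK : Spec (G.left.residueField g) ⟶ pullback G.hom (y ≫ G.hom) :=
    pullback.lift y (𝟙 _) (by simp)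
  set c : ↥(Spec (G.left.residueField g)) := IsLocalRing.closedPoint (G.left.residueField g) with hc
  have hyc : y c = g := G.left.fromSpecResidueField_apply g _
  have h1 : gK c ∈ C := by
    show pullback.fst G.hom (y ≫ G.hom) (gK c) ∈ SGA3x.neutralSet G
    rw [← Scheme.Hom.comp_apply, pullback.lift_fst, hyc]; exact hg
  have hgj : gK ≫ jm G y = y ≫ (HomogSep1.diag G).left := by
    apply pullback.hom_ext
    · rw [Category.assoc]
      erw [hq₁]
      rw [pullback.lift_fst, Category.assoc]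
      have := congrArg (fun k => k.left) (lift_fst (𝟙 G) (𝟙 G))
      simp only [Over.comp_left, Over.id_left] at this
      erw [this]; simp
    · rw [Category.assoc]
      erw [hP.w]
      rw [← Category.assoc, pullback.lift_snd, Category.id_comp, Category.assoc]
      have := congrArg (fun k => k.left) (lift_snd (𝟙 G) (𝟙 G))
      simp only [Over.comp_left, Over.id_left] at this
      erw [this]; simp
  have h2 : eK.hom (gK c) ∈ C := by
    show pullback.fst G.hom (y ≫ G.hom) (eK.hom (gK c)) ∈ SGA3x.neutralSet G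
    rw [← Scheme.Hom.comp_apply, heK, ← Scheme.Hom.comp_apply, ← Category.assoc, hgj, Category.assoc,
      ← Over.comp_left, psi_diag, Scheme.Hom.comp_apply, hyc]
    exact unitSec_mem_neutralSet G (G.hom g)
  -- the homeomorphism preserves `C`
  let φ := Scheme.homeoOfIso eK
  have hCe : C = connectedComponent (gK c) := by
    rw [hCcc]; exact connectedComponent_eq (by rw [← hCcc]; exact h1)
  have hCe' : C = connectedComponent (eK.hom (gK c)) := by
    rw [hCcc]; exact connectedComponent_eq (by rw [← hCcc]; exact h2)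
  have hsub1 : ∀ x ∈ C, eK.hom x ∈ C := by
    intro x hx
    rw [hCe']; rw [hCe] at hx
    exact (φ.continuous.image_connectedComponent_subset (gK c)) ⟨x, hx, rfl⟩
  have hsub2 : ∀ x ∈ C, eK.inv x ∈ C := by
    intro x hx
    rw [hCe'] at hx; rw [hCe]
    have h3 := (φ.symm.continuous.image_connectedComponent_subset (eK.hom (gK c))) ⟨x, hx, rfl⟩
    have h4 : φ.symm (eK.hom (gK c)) = gK c := φ.symm_apply_apply (gK c)
    rw [h4] at h3
    exact h3
  obtain ⟨a, ha1, ha2⟩ := Scheme.Pullback.exists_preimage_pullback (f := G.hom) (g := y ≫ G.hom) u c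
    (by rw [Scheme.Hom.comp_apply, hyc]; exact hug)
  have haC : a ∈ C := by
    show pullback.fst G.hom (y ≫ G.hom) a ∈ SGA3x.neutralSet G
    rw [ha1]; exact hu0
  have haU : a ∈ (pullback.fst G.hom (y ≫ G.hom)).base ⁻¹' (U : Set G.left) := by
    show pullback.fst G.hom (y ≫ G.hom) a ∈ U
    rw [ha1]; exact huU
  have hbC : eK.inv a ∈ C := hsub2 a haC
  have hb : eK.hom (eK.inv a) = a := φ.apply_symm_apply a
  have hO1 : IsOpen ((pullback.fst G.hom (y ≫ G.hom)).base ⁻¹' (U : Set G.left)) :=
    U.2.preimage (pullback.fst G.hom (y ≫ G.hom)).continuous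
  have hO2 : IsOpen (eK.hom.base ⁻¹' ((pullback.fst G.hom (y ≫ G.hom)).base ⁻¹' (U : Set G.left))) :=
    hO1.preimage eK.hom.continuous
  obtain ⟨z', hz'C, hz'1, hz'2⟩ := hCirr.2 _ _ hO1 hO2 ⟨a, haC, haU⟩
    ⟨eK.inv a, hbC, by
      show eK.hom (eK.inv a) ∈ (pullback.fst G.hom (y ≫ G.hom)).base ⁻¹' (U : Set G.left)
      rw [hb]; exact haU⟩
  have f3 := congrArg (fun k => k.left) (lift_fst_ψ_mul (G := G))
  have f4 := congrArg (fun k => k.left) (lift_fst (fst G G) (ψ G))
  have f5 := congrArg (fun k => k.left) (lift_snd (fst G G) (ψ G))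
  simp only [Over.comp_left] at f3 f4 f5
  refine ⟨(lift (fst G G) (ψ G)).left (jm G y z'), ?_, ?_, ?_, ?_, ?_⟩
  · rw [← Scheme.Hom.comp_apply, f4, ← Scheme.Hom.comp_apply, hq₁]; exact hz'1
  · rw [← Scheme.Hom.comp_apply, f4, ← Scheme.Hom.comp_apply, hq₁]; exact hz'C
  · rw [← Scheme.Hom.comp_apply, f5, ← Scheme.Hom.comp_apply, ← heK, Scheme.Hom.comp_apply]
    exact hz'2
  · rw [← Scheme.Hom.comp_apply, f5, ← Scheme.Hom.comp_apply, ← heK, Scheme.Hom.comp_apply]
    exact hsub1 z' hz'C
  · rw [← Scheme.Hom.comp_apply, f3, ← Scheme.Hom.comp_apply, hP.w, Scheme.Hom.comp_apply]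
    exact G.left.fromSpecResidueField_apply g _

end key

section cons

variable {G H : Over S} [GrpObj G] [GrpObj H]

theorem mem_neutralSet_iff (G : Over S) [GrpObj G] (x : G.left) :
    x ∈ SGA3x.neutralSet G ↔
      x ∈ connectedComponentIn (G.hom.base ⁻¹' {G.hom x}) (unitSec G (G.hom x)) := by
  rw [neutralSet_eq_sectionComponents]; rfl

theorem unitSec_comp (u : H ⟶ G) [IsMonHom u] : unitSec H ≫ u.left = unitSec G := by
  have := congrArg (fun k => k.left) (IsMonHom.one_hom (f := u))
  simp only [Over.comp_left] at this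
  exact this

/-- a homomorphism maps `H⁰` into `G⁰` -/
theorem image_neutralSet_subset (u : H ⟶ G) [IsMonHom u] :
    u.left.base '' SGA3x.neutralSet H ⊆ SGA3x.neutralSet G := by
  rintro _ ⟨h, hh, rfl⟩
  rw [mem_neutralSet_iff] at hh ⊢
  have hu : ∀ x : H.left, G.hom (u.left x) = H.hom x := by
    intro x
    rw [← Scheme.Hom.comp_apply, Over.w u]
  have he : u.left (unitSec H (H.hom h)) = unitSec G (H.hom h) := by
    rw [← Scheme.Hom.comp_apply, unitSec_comp]
  have hmem : unitSec H (H.hom h) ∈ H.hom.base ⁻¹' {H.hom h} := by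
    show H.hom (unitSec H (H.hom h)) = H.hom h
    rw [← Scheme.Hom.comp_apply, unitSec_hom]; rfl
  have h1 := (u.left.continuous.continuousOn.image_connectedComponentIn_subset hmem) ⟨h, hh, rfl⟩
  have h2 : u.left.base '' (H.hom.base ⁻¹' {H.hom h}) ⊆ G.hom.base ⁻¹' {G.hom (u.left h)} := by
    rintro _ ⟨x, hx, rfl⟩
    show G.hom (u.left x) = G.hom (u.left h)
    rw [hu, hu]; exact hx
  have h3 := connectedComponentIn_mono (u.left (unitSec H (H.hom h))) h2 h1
  rw [he] at h3
  rw [show G.hom (u.left h) = H.hom h from hu h] at h3 ⊢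
  exact h3

/-- `G⁰ ⊆ (W ∩ G⁰) · (W ∩ G⁰)` for every open neighbourhood `W` of the unit section -/
theorem neutralSet_subset_image_mul (W : G.left.Opens) (hW : ∀ s : S, unitSec G s ∈ W) :
    SGA3x.neutralSet G ⊆ μ[G].left.base '' (((fst G G).left.base ⁻¹' ((W : Set G.left) ∩ SGA3x.neutralSet G)) ∩
      ((snd G G).left.base ⁻¹' ((W : Set G.left) ∩ SGA3x.neutralSet G))) := by
  intro g hg
  have h1 : G.hom (unitSec G (G.hom g)) = G.hom g := by
    rw [← Scheme.Hom.comp_apply, unitSec_hom]; rfl
  obtain ⟨z, hz1, hz2, hz3, hz4, hz5⟩ := exists_mul_eq_of_neutral W g hg (unitSec G (G.hom g)) (hW _)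
    (unitSec_mem_neutralSet G _) h1
  exact ⟨z, ⟨⟨hz1, hz2⟩, ⟨hz3, hz4⟩⟩, hz5⟩

/-- **S5323**: over a quasi-compact quasi-separated base, `G⁰` is contained in a quasi-compact open. -/
theorem exists_isCompact_open_neutralSet [CompactSpace S] [QuasiSeparatedSpace S] (G : Over S) [GrpObj G] :
    ∃ U : G.left.Opens, IsCompact (U : Set G.left) ∧ SGA3x.neutralSet G ⊆ U := by
  have hcomp : IsCompact (Set.range (unitSec G)) := isCompact_range (unitSec G).continuous
  obtain ⟨W, hWc, hWo, hKW, -⟩ :=
    PrespectralSpace.exists_isCompact_and_isOpen_between hcomp isOpen_univ (Set.subset_univ _)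
  let Wo : G.left.Opens := ⟨W, hWo⟩
  haveI : CompactSpace ↥Wo := isCompact_iff_compactSpace.mp hWc
  haveI : CompactSpace ↥(Wo : Scheme.{u}) := ‹CompactSpace ↥Wo›
  haveI : QuasiCompact (Wo.ι ≫ G.hom) := quasiCompact_of_compactSpace _
  let m : pullback (Wo.ι ≫ G.hom) (Wo.ι ≫ G.hom) ⟶ pullback G.hom G.hom :=
    pullback.map (Wo.ι ≫ G.hom) (Wo.ι ≫ G.hom) G.hom G.hom Wo.ι Wo.ι (𝟙 S) (by simp) (by simp)
  have hm : Set.range m = pullback.fst G.hom G.hom ⁻¹' W ∩ pullback.snd G.hom G.hom ⁻¹' W := by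
    dsimp only [m]
    rw [Scheme.Pullback.range_map]
    simp [Wo]
  have hM : IsCompact (μ[G].left.base '' Set.range m) :=
    (isCompact_range m.continuous).image μ[G].left.continuous
  obtain ⟨U, hUc, hUo, hMU, -⟩ :=
    PrespectralSpace.exists_isCompact_and_isOpen_between hM isOpen_univ (Set.subset_univ _)
  refine ⟨⟨U, hUo⟩, hUc, ?_⟩
  intro g hg
  obtain ⟨z, ⟨⟨hz1, -⟩, ⟨hz3, -⟩⟩, hz5⟩ := neutralSet_subset_image_mul Wo (fun s => hKW ⟨s, rfl⟩) hg
  apply hMU
  refine ⟨z, ?_, hz5⟩
  rw [hm]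
  exact ⟨hz1, hz3⟩

end cons

section opensub

variable {G H : Over S} [GrpObj G] [GrpObj H]

/-- `G⁰` is contained in every open subgroup -/
theorem neutralSet_subset_range (i : H ⟶ G) [IsMonHom i] [IsOpenImmersion i.left] :
    SGA3x.neutralSet G ⊆ Set.range i.left.base := by
  intro g hg
  obtain ⟨z, ⟨⟨hz1, -⟩, ⟨hz3, -⟩⟩, hz5⟩ := neutralSet_subset_image_mul i.left.opensRange
    (fun s => ⟨unitSec H s, by rw [← Scheme.Hom.comp_apply, unitSec_comp]⟩) hg
  have hm : Set.range (i ⊗ₘ i).left = pullback.fst G.hom G.hom ⁻¹' (Set.range i.left) ∩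
      pullback.snd G.hom G.hom ⁻¹' (Set.range i.left) := by
    rw [Over.tensorHom_left, Scheme.Pullback.range_map]
  have hz : z ∈ Set.range (i ⊗ₘ i).left := by
    rw [hm]; exact ⟨hz1, hz3⟩
  obtain ⟨z', rfl⟩ := hz
  have h1 := congrArg (fun k => k.left) (IsMonHom.mul_hom (f := i))
  simp only [Over.comp_left] at h1
  refine ⟨μ[H].left z', ?_⟩
  rw [← hz5, ← Scheme.Hom.comp_apply, h1, Scheme.Hom.comp_apply]

/-- **S5327**: for an open subgroup `H ⊆ G`, `G⁰ = H⁰`. -/
theorem image_neutralSet_eq (i : H ⟶ G) [IsMonHom i] [IsOpenImmersion i.left] :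
    i.left.base '' SGA3x.neutralSet H = SGA3x.neutralSet G := by
  apply subset_antisymm (image_neutralSet_subset i)
  intro g hg
  have hu : ∀ x : H.left, G.hom (i.left x) = H.hom x := by
    intro x
    rw [← Scheme.Hom.comp_apply, Over.w i]
  set s := G.hom g with hs
  set Z := connectedComponentIn (G.hom.base ⁻¹' {s}) (unitSec G s) with hZ
  have hgZ : g ∈ Z := (mem_neutralSet_iff G g).mp hg
  have hZsub : Z ⊆ Set.range i.left.base := by
    intro x hx
    apply neutralSet_subset_range i
    rw [mem_neutralSet_iff]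
    have : G.hom x = s := connectedComponentIn_subset (G.hom.base ⁻¹' {s}) (unitSec G s) hx
    rw [this]; exact hx
  have hpre : _root_.IsPreconnected (i.left.base ⁻¹' Z) :=
    isPreconnected_connectedComponentIn.preimage_of_isOpenMap i.left.isOpenEmbedding.injective
      i.left.isOpenEmbedding.isOpenMap hZsub
  have hes : G.hom (unitSec G s) = s := by
    rw [← Scheme.Hom.comp_apply, unitSec_hom]; rfl
  have heZ : unitSec H s ∈ i.left.base ⁻¹' Z := by
    show i.left (unitSec H s) ∈ Z
    rw [← Scheme.Hom.comp_apply, unitSec_comp]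
    exact mem_connectedComponentIn hes
  have hsubF : i.left.base ⁻¹' Z ⊆ H.hom.base ⁻¹' {s} := by
    intro x hx
    show H.hom x = s
    rw [← hu]
    exact connectedComponentIn_subset (G.hom.base ⁻¹' {s}) (unitSec G s) hx
  have h2 := hpre.subset_connectedComponentIn heZ hsubF
  obtain ⟨h, rfl⟩ := hZsub hgZ
  refine ⟨h, ?_, rfl⟩
  rw [mem_neutralSet_iff]
  have h3 := h2 hgZ
  have : H.hom h = s := by rw [← hu]
  rw [this]
  exact h3

end opensub

end Groth.Agent.Lib.helper5.GrpNeutral2
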