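/-
# Lib.Helper5.GrpNeutral3 — stability of G⁰ under the group operations (SGA3 VI_B §3)

* `exists_fibre_iso_of`: an automorphism of `G ×_S G` over `snd` induces automorphisms of the fibres `G ×_S T` of `snd`.
* `unitL`, `fst_mem_neutralSet_of_iso` (**translation principle**): if `Φ` is an automorphism of `G ×_S G` over `snd` with
  `fst (Φ (e, b)) ∈ G⁰` then `fst (Φ (a, b)) ∈ G⁰` for all `a ∈ G⁰`.
* `image_neutralSet_subset_of`, `inv_mem_neutralSet`, `mul_mem_neutralSet`, `conj_mem_neutralSet`,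
  `range_mul_inv_subset`, `range_conj_subset`: `G⁰` is stable under inversion, multiplication and conjugation by `G`.
* `neutralSet_of_subsingleton`: over a one-point base, `G⁰ = connectedComponent (unit point)`.
-/
import Mathlib
import Groth.Agent.Lib.Helper5.GrpNeutral2

set_option autoImplicit false
set_option linter.style.haveILetI false
universe u
open CategoryTheory CategoryTheory.Limits MonoidalCategory CartesianMonoidalCategory MonObj GrpObj
  AlgebraicGeometry

namespace Groth.Agent.Lib.helper5.GrpNeutral3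

open Groth.Agent.Lib.helper5.GrpNeutral1 Groth.Agent.Lib.helper5.GrpNeutral2 Groth.Agent.Lib.helper5.HomogSep1
  Groth.Agent.Lib.helper5.GrpQC1 Groth.Agent.Lib.helper5.GrpQC2 Groth.Agent.Lib.helper5.GrpMaxPt

variable {S : Scheme.{u}}

section fibreAut

variable {G : Over S} [GrpObj G]

omit [GrpObj G] in
/-- an automorphism of `G ×_S G` over the second projection induces automorphisms of the fibres of the second
projection -/
theorem exists_fibre_iso_of (Φ Φ' : G ⊗ G ⟶ G ⊗ G) (h1 : Φ ≫ snd G G = snd G G)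
    (h1' : Φ' ≫ snd G G = snd G G) (h2 : Φ ≫ Φ' = 𝟙 _) (h3 : Φ' ≫ Φ = 𝟙 _)
    {T : Scheme.{u}} (y : T ⟶ G.left) :
    ∃ eK : pullback G.hom (y ≫ G.hom) ≅ pullback G.hom (y ≫ G.hom),
      eK.hom ≫ jm G y = jm G y ≫ Φ.left := by
  have hP := isPullback_jm G y
  have e1 := congrArg (fun k => k.left) h1
  have e2 := congrArg (fun k => k.left) h1'
  have e3 := congrArg (fun k => k.left) h2
  have e4 := congrArg (fun k => k.left) h3
  simp only [Over.comp_left, Over.id_left] at e1 e2 e3 e4
  let τK : pullback G.hom (y ≫ G.hom) ⟶ pullback G.hom (y ≫ G.hom) :=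
    hP.lift (jm G y ≫ Φ.left) (pullback.snd G.hom (y ≫ G.hom))
      (by rw [Category.assoc, e1, hP.w])
  let τK' : pullback G.hom (y ≫ G.hom) ⟶ pullback G.hom (y ≫ G.hom) :=
    hP.lift (jm G y ≫ Φ'.left) (pullback.snd G.hom (y ≫ G.hom))
      (by rw [Category.assoc, e2, hP.w])
  have hτ1 : τK ≫ jm G y = jm G y ≫ Φ.left := hP.lift_fst _ _ _
  have hτ2 : τK ≫ pullback.snd G.hom (y ≫ G.hom) = pullback.snd G.hom (y ≫ G.hom) :=
    hP.lift_snd _ _ _
  have hτ1' : τK' ≫ jm G y = jm G y ≫ Φ'.left := hP.lift_fst _ _ _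
  have hτ2' : τK' ≫ pullback.snd G.hom (y ≫ G.hom) = pullback.snd G.hom (y ≫ G.hom) :=
    hP.lift_snd _ _ _
  refine ⟨{ hom := τK
            inv := τK'
            hom_inv_id := ?_
            inv_hom_id := ?_ }, hτ1⟩
  · apply hP.hom_ext
    · rw [Category.assoc, hτ1', ← Category.assoc, hτ1, Category.assoc, e3]; simp
    · rw [Category.assoc, hτ2', hτ2]; simp
  · apply hP.hom_ext
    · rw [Category.assoc, hτ1, ← Category.assoc, hτ1', Category.assoc, e4]; simp
    · rw [Category.assoc, hτ2, hτ2']; simp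

/-- the section `b ↦ (e, b)` of the second projection -/
noncomputable def unitL (G : Over S) [GrpObj G] : G ⟶ G ⊗ G := lift (toUnit G ≫ η[G]) (𝟙 G)

/-- **Translation principle for `G⁰`**: let `Φ` be an automorphism of `G ×_S G` over the second projection. If
`fst (Φ (e, b)) ∈ G⁰`, then `fst (Φ (a, b)) ∈ G⁰` for all `a ∈ G⁰`. -/
theorem fst_mem_neutralSet_of_iso (Φ Φ' : G ⊗ G ⟶ G ⊗ G) (h1 : Φ ≫ snd G G = snd G G)
    (h1' : Φ' ≫ snd G G = snd G G) (h2 : Φ ≫ Φ' = 𝟙 _) (h3 : Φ' ≫ Φ = 𝟙 _) (z : (G ⊗ G).left)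
    (hb : (Φ ≫ fst G G).left ((unitL G).left ((snd G G).left z)) ∈ SGA3x.neutralSet G)
    (hz : (fst G G).left z ∈ SGA3x.neutralSet G) :
    (Φ ≫ fst G G).left z ∈ SGA3x.neutralSet G := by
  set b := (snd G G).left z with hbdef
  set y : Spec (G.left.residueField b) ⟶ G.left := G.left.fromSpecResidueField b with hy
  have hP := isPullback_jm G y
  obtain ⟨eK, heK⟩ := exists_fibre_iso_of Φ Φ' h1 h1' h2 h3 y
  have hq₁ : jm G y ≫ (fst G G).left = pullback.fst G.hom (y ≫ G.hom) := by
    show jm G y ≫ pullback.fst G.hom G.hom = _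
    rw [jm, pullback.lift_fst, Category.comp_id]
  obtain ⟨hCirr, hCcc⟩ := isIrreducible_preimage_neutralSet (G.left.residueField b) (y ≫ G.hom) G
  set C : Set ↥(pullback G.hom (y ≫ G.hom)) :=
    (pullback.fst G.hom (y ≫ G.hom)).base ⁻¹' SGA3x.neutralSet G with hC
  set c : ↥(Spec (G.left.residueField b)) := IsLocalRing.closedPoint (G.left.residueField b) with hc
  have hyc : y c = b := G.left.fromSpecResidueField_apply b _
  -- the unit point of the fibre
  let eP : Spec (G.left.residueField b) ⟶ pullback G.hom (y ≫ G.hom) :=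
    pullback.lift (y ≫ G.hom ≫ unitSec G) (𝟙 _) (by
      rw [Category.assoc, Category.assoc, unitSec_hom]; simp)
  have hej : eP ≫ jm G y = y ≫ (unitL G).left := by
    apply pullback.hom_ext
    · rw [Category.assoc]
      erw [hq₁]
      rw [pullback.lift_fst, Category.assoc]
      have := congrArg (fun k => k.left) (lift_fst (toUnit G ≫ η[G]) (𝟙 G))
      simp only [Over.comp_left, Over.id_left] at this
      erw [this]
      rfl
    · rw [Category.assoc]
      erw [hP.w]
      rw [← Category.assoc, pullback.lift_snd, Category.id_comp, Category.assoc]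
      have := congrArg (fun k => k.left) (lift_snd (toUnit G ≫ η[G]) (𝟙 G))
      simp only [Over.comp_left, Over.id_left] at this
      erw [this]; simp
  have h1C : eP c ∈ C := by
    show pullback.fst G.hom (y ≫ G.hom) (eP c) ∈ SGA3x.neutralSet G
    rw [← Scheme.Hom.comp_apply, pullback.lift_fst, Scheme.Hom.comp_apply, Scheme.Hom.comp_apply]
    exact unitSec_mem_neutralSet G _
  have h2C : eK.hom (eP c) ∈ C := by
    show pullback.fst G.hom (y ≫ G.hom) (eK.hom (eP c)) ∈ SGA3x.neutralSet G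
    rw [← hq₁, ← Scheme.Hom.comp_apply, ← Category.assoc, heK, ← Scheme.Hom.comp_apply,
      ← Category.assoc, ← Category.assoc, hej, Category.assoc, Category.assoc, Scheme.Hom.comp_apply, hyc]
    exact hb
  let φ := Scheme.homeoOfIso eK
  have hCe : C = connectedComponent (eP c) := by
    rw [hCcc]; exact connectedComponent_eq (by rw [← hCcc]; exact h1C)
  have hCe' : C = connectedComponent (eK.hom (eP c)) := by
    rw [hCcc]; exact connectedComponent_eq (by rw [← hCcc]; exact h2C)
  have hsub1 : ∀ x ∈ C, eK.hom x ∈ C := by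
    intro x hx
    rw [hCe']; rw [hCe] at hx
    exact (φ.continuous.image_connectedComponent_subset (eP c)) ⟨x, hx, rfl⟩
  obtain ⟨z', hz'1, -⟩ := Scheme.exists_preimage_of_isPullback hP z c (by rw [hyc])
  have hz'C : z' ∈ C := by
    show pullback.fst G.hom (y ≫ G.hom) z' ∈ SGA3x.neutralSet G
    rw [← hq₁, Scheme.Hom.comp_apply, hz'1]; exact hz
  have := hsub1 z' hz'C
  change pullback.fst G.hom (y ≫ G.hom) (eK.hom z') ∈ SGA3x.neutralSet G at this
  rw [← hq₁, ← Scheme.Hom.comp_apply, ← Category.assoc, heK, Category.assoc, Scheme.Hom.comp_apply, hz'1] at this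
  exact this

end fibreAut

section stable

variable {G H : Over S} [GrpObj G] [GrpObj H]

/-- a morphism of pointed `S`-schemes maps `H⁰` into `G⁰` -/
theorem image_neutralSet_subset_of (u : H ⟶ G) (hue : unitSec H ≫ u.left = unitSec G) :
    u.left.base '' SGA3x.neutralSet H ⊆ SGA3x.neutralSet G := by
  rintro _ ⟨h, hh, rfl⟩
  rw [mem_neutralSet_iff] at hh ⊢
  have hu : ∀ x : H.left, G.hom (u.left x) = H.hom x := by
    intro x
    rw [← Scheme.Hom.comp_apply, Over.w u]
  have he : u.left (unitSec H (H.hom h)) = unitSec G (H.hom h) := by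
    rw [← Scheme.Hom.comp_apply, hue]
  have hmem : unitSec H (H.hom h) ∈ H.hom.base ⁻¹' {H.hom h} := by
    show H.hom (unitSec H (H.hom h)) = H.hom h
    rw [← Scheme.Hom.comp_apply, unitSec_hom]; rfl
  have h1 := (u.left.continuous.continuousOn.image_connectedComponentIn_subset hmem) ⟨h, hh, rfl⟩
  have h2 : u.left.base '' (H.hom.base ⁻¹' {H.hom h}) ⊆ G.hom.base ⁻¹' {G.hom (u.left h)} := by
    rintro _ ⟨x, hx, rfl⟩
    show G.hom (u.left x) = G.hom (u.left h)
    rw [hu, hu]; exact hx
  have h3 := connectedComponentIn_mono (u.left (unitSec H (H.hom h))) h2 h1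
  rw [he] at h3
  rw [show G.hom (u.left h) = H.hom h from hu h] at h3 ⊢
  exact h3

/-- `G⁰` is stable under inversion -/
theorem inv_mem_neutralSet (g : G.left) (hg : g ∈ SGA3x.neutralSet G) :
    (ι[G] : G ⟶ G).left g ∈ SGA3x.neutralSet G := by
  apply image_neutralSet_subset_of (ι[G] : G ⟶ G) ?_ ⟨g, hg, rfl⟩
  have := congrArg (fun k => k.left) (GrpObj.one_inv (G := G))
  simp only [Over.comp_left] at this
  exact this

theorem shearMul_inv : (lift (fst G G * snd G G) (snd G G) : G ⊗ G ⟶ G ⊗ G) ≫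
    lift (fst G G * (snd G G)⁻¹) (snd G G) = 𝟙 _ := by
  apply CartesianMonoidalCategory.hom_ext
  · rw [Category.assoc, lift_fst, MonObj.comp_mul, GrpObj.comp_inv, lift_fst, lift_snd]
    simp
  · simp

theorem shearMul_inv' : (lift (fst G G * (snd G G)⁻¹) (snd G G) : G ⊗ G ⟶ G ⊗ G) ≫
    lift (fst G G * snd G G) (snd G G) = 𝟙 _ := by
  apply CartesianMonoidalCategory.hom_ext
  · rw [Category.assoc, lift_fst, MonObj.comp_mul, lift_fst, lift_snd]
    simp
  · simp

/-- `G⁰` is stable under multiplication -/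
theorem mul_mem_neutralSet (z : (G ⊗ G).left) (h1 : (fst G G).left z ∈ SGA3x.neutralSet G)
    (h2 : (snd G G).left z ∈ SGA3x.neutralSet G) : μ[G].left z ∈ SGA3x.neutralSet G := by
  have hΦ : (lift (fst G G * snd G G) (snd G G) : G ⊗ G ⟶ G ⊗ G) ≫ fst G G = μ[G] := by
    rw [lift_fst, MonObj.mul_eq_mul]
  have key := fst_mem_neutralSet_of_iso (lift (fst G G * snd G G) (snd G G))
    (lift (fst G G * (snd G G)⁻¹) (snd G G)) (by simp) (by simp) shearMul_inv shearMul_inv' z
  rw [hΦ] at key
  apply key _ h1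
  have : unitL G ≫ μ[G] = 𝟙 G := by
    rw [unitL, MonObj.lift_comp_one_left]
  have h3 := congrArg (fun k => k.left) this
  simp only [Over.comp_left, Over.id_left] at h3
  rw [← Scheme.Hom.comp_apply, h3]
  exact h2

end stable

section stable2

variable {G : Over S} [GrpObj G]

theorem conjShear_inv : (lift (snd G G * fst G G * (snd G G)⁻¹) (snd G G) : G ⊗ G ⟶ G ⊗ G) ≫
    lift ((snd G G)⁻¹ * fst G G * snd G G) (snd G G) = 𝟙 _ := by
  apply CartesianMonoidalCategory.hom_ext
  · rw [Category.assoc, lift_fst, MonObj.comp_mul, MonObj.comp_mul, GrpObj.comp_inv, lift_fst, lift_snd]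
    simp only [Category.id_comp]
    group
  · simp

theorem conjShear_inv' : (lift ((snd G G)⁻¹ * fst G G * snd G G) (snd G G) : G ⊗ G ⟶ G ⊗ G) ≫
    lift (snd G G * fst G G * (snd G G)⁻¹) (snd G G) = 𝟙 _ := by
  apply CartesianMonoidalCategory.hom_ext
  · rw [Category.assoc, lift_fst, MonObj.comp_mul, MonObj.comp_mul, GrpObj.comp_inv, lift_fst, lift_snd]
    simp only [Category.id_comp]
    group
  · simp

/-- `G⁰` is stable under conjugation by arbitrary points of `G` -/
theorem conj_mem_neutralSet (z : (G ⊗ G).left) (h1 : (fst G G).left z ∈ SGA3x.neutralSet G) :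
    (snd G G * fst G G * (snd G G)⁻¹).left z ∈ SGA3x.neutralSet G := by
  have key := fst_mem_neutralSet_of_iso (lift (snd G G * fst G G * (snd G G)⁻¹) (snd G G))
    (lift ((snd G G)⁻¹ * fst G G * snd G G) (snd G G)) (by simp) (by simp) conjShear_inv conjShear_inv' z
  rw [lift_fst] at key
  apply key _ h1
  have : unitL G ≫ (snd G G * fst G G * (snd G G)⁻¹) = toUnit G ≫ η[G] := by
    rw [MonObj.comp_mul, MonObj.comp_mul, GrpObj.comp_inv, unitL, lift_fst, lift_snd]
    simp [MonObj.one_eq_one]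
  have h3 := congrArg (fun k => k.left) this
  simp only [Over.comp_left] at h3
  rw [← Scheme.Hom.comp_apply, h3, Scheme.Hom.comp_apply]
  exact unitSec_mem_neutralSet G _

/-- `T`-point form of the stability of `G⁰` under `(g, h) ↦ g h⁻¹` -/
theorem range_mul_inv_subset (T : Over S) (g h : T ⟶ G)
    (hg : Set.range g.left.base ⊆ SGA3x.neutralSet G) (hh : Set.range h.left.base ⊆ SGA3x.neutralSet G) :
    Set.range (g * h⁻¹).left.base ⊆ SGA3x.neutralSet G := by
  rintro _ ⟨t, rfl⟩
  have e1 : g * h⁻¹ = lift g (h ≫ ι[G]) ≫ μ[G] := by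
    rw [MonObj.mul_eq_mul, MonObj.comp_mul, lift_fst, lift_snd, GrpObj.inv_eq_inv, GrpObj.comp_inv,
      Category.comp_id]
  rw [e1]
  have f1 := congrArg (fun k => k.left) (lift_fst g (h ≫ ι[G]))
  have f2 := congrArg (fun k => k.left) (lift_snd g (h ≫ ι[G]))
  simp only [Over.comp_left] at f1 f2
  show μ[G].left ((lift g (h ≫ ι[G])).left t) ∈ _
  apply mul_mem_neutralSet
  · rw [← Scheme.Hom.comp_apply, f1]; exact hg ⟨t, rfl⟩
  · rw [← Scheme.Hom.comp_apply, f2, Scheme.Hom.comp_apply]
    exact inv_mem_neutralSet _ (hh ⟨t, rfl⟩)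

/-- `T`-point form of the normality of `G⁰` -/
theorem range_conj_subset (T : Over S) (g n : T ⟶ G)
    (hn : Set.range n.left.base ⊆ SGA3x.neutralSet G) :
    Set.range (g * n * g⁻¹).left.base ⊆ SGA3x.neutralSet G := by
  rintro _ ⟨t, rfl⟩
  have e1 : g * n * g⁻¹ = lift n g ≫ (snd G G * fst G G * (snd G G)⁻¹) := by
    rw [MonObj.comp_mul, MonObj.comp_mul, GrpObj.comp_inv, lift_fst, lift_snd]
  rw [e1]
  have f1 := congrArg (fun k => k.left) (lift_fst n g)
  simp only [Over.comp_left] at f1
  show (snd G G * fst G G * (snd G G)⁻¹).left ((lift n g).left t) ∈ _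
  apply conj_mem_neutralSet
  rw [← Scheme.Hom.comp_apply, f1]; exact hn ⟨t, rfl⟩

end stable2

section onept

/-- over a one-point base the neutral set is the connected component of the unit point -/
theorem neutralSet_of_subsingleton [Subsingleton S] (G : Over S) [GrpObj G]
    (pt : ↥(𝟙_ (Over S)).left) :
    SGA3x.neutralSet G = connectedComponent (η[G].left.base pt) := by
  have huniv : ∀ p : S, G.hom.base ⁻¹' {p} = Set.univ := by
    intro p
    ext w
    simp only [Set.mem_preimage, Set.mem_singleton_iff, Set.mem_univ, iff_true]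
    exact Subsingleton.elim _ _
  ext x
  simp only [SGA3x.neutralSet, Set.mem_iUnion]
  constructor
  · rintro ⟨p, hp⟩
    have hp' : p = pt := Subsingleton.elim (α := ↥S) _ _
    subst hp'
    rw [show G.hom.base ⁻¹' {(𝟙_ (Over S)).hom.base p} = Set.univ from huniv _,
      connectedComponentIn_univ] at hp
    exact hp
  · intro hx
    refine ⟨pt, ?_⟩
    rw [show G.hom.base ⁻¹' {(𝟙_ (Over S)).hom.base pt} = Set.univ from huniv _,
      connectedComponentIn_univ]
    exact hx

end onept

end Groth.Agent.Lib.helper5.GrpNeutral3
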