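import Groth.Prelude.Def_FDesc
import Groth.Agent.Lib.Helper5.AlgSpChartInd

/-!
# Etale invariance of geometric reducedness at a point (helper5)
-/

set_option autoImplicit false
universe u
open CategoryTheory CategoryTheory.Limits AlgebraicGeometry Opposite

namespace Groth.Agent.Lib.helper5.GeomReducedEt

open Groth.Agent.Lib.helper5.ChartInd

/-- Geometric reducedness at a point is invariant under etale morphisms of `k`-schemes. -/
theorem isGeomReducedAt_iff_of_etale {k : Type u} [Field k] {V U : Scheme.{u}} (g : V ⟶ U) [Etale g]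
    (fU : U ⟶ Spec (CommRingCat.of k)) (fV : V ⟶ Spec (CommRingCat.of k)) (hfg : g ≫ fU = fV) (v : ↥V) :
    FBase.IsGeomReducedAt fV v ↔ FBase.IsGeomReducedAt fU (g v) := by
  subst hfg
  have key : ∀ (K : Type u) [Field K] [Algebra k K],
      ∃ (gK : FBase.bc (g ≫ fU) K ⟶ FBase.bc fU K),
        IsPullback gK (FBase.bcπ (g ≫ fU) K) (FBase.bcπ fU K) g := by
    intro K _ _
    let c := Spec.map (CommRingCat.ofHom (algebraMap k K))
    have s : IsPullback (pullback.snd (g ≫ fU) c) (pullback.fst (g ≫ fU) c) c (g ≫ fU) :=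
      (IsPullback.of_hasPullback (g ≫ fU) c).flip
    have t : IsPullback (pullback.snd fU c) (pullback.fst fU c) c fU :=
      (IsPullback.of_hasPullback fU c).flip
    exact ⟨_, IsPullback.of_right' s t⟩
  constructor
  · intro h K _ _ u' hu'
    obtain ⟨gK, hpb⟩ := key K
    have hgK : Etale gK := MorphismProperty.of_isPullback (P := @Etale) hpb.flip inferInstance
    obtain ⟨v', hv1, hv2⟩ := Scheme.exists_preimage_of_isPullback hpb u' v hu'
    have := h K v' hv2
    rw [isReduced_stalk_iff_of_etale gK v'] at this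
    rw [← hv1]
    exact this
  · intro h K _ _ v' hv'
    obtain ⟨gK, hpb⟩ := key K
    have hgK : Etale gK := MorphismProperty.of_isPullback (P := @Etale) hpb.flip inferInstance
    have h1 : (FBase.bcπ fU K) (gK v') = g v := by
      rw [← Scheme.Hom.comp_apply, hpb.w, Scheme.Hom.comp_apply]
      exact congrArg g hv'
    have := h K (gK v') h1
    rw [isReduced_stalk_iff_of_etale gK v']
    exact this

open AlgSp Groth.Agent.Lib.helper11 in
/-- chart independence for etale-invariant properties of pointed schemes over the base -/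
theorem exists_iff_forall_over {S : Scheme.{u}} {Q : ∀ U : Over S, ↥U.left → Prop}
    (hQ : ∀ {V U : Over S} (g : V ⟶ U), Etale g.left → ∀ v : ↥V.left, Q V v ↔ Q U (g.left v))
    (X : AlgSp.Space S) (x : AlgSp.Points X.obj) :
    (∃ (U : Over S) (a : (AlgSp.yon S).obj U ⟶ X.obj) (u : ↥U.left),
      AlgSp.RepWith @Etale a ∧ AlgSp.Points.ofPt a u = x ∧ Q U u) ↔
    ∀ (U : Over S) (a : (AlgSp.yon S).obj U ⟶ X.obj) (u : ↥U.left),
      AlgSp.RepWith @Etale a → AlgSp.Points.ofPt a u = x → Q U u := by
  constructor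
  · rintro ⟨U', a', u', ha', hu', hQ'⟩ U a u ha hu
    obtain ⟨W, g, g', w, hg, hg', -, hw, hw'⟩ := exists_common_chart a ha a' ha' u u' (hu.trans hu'.symm)
    rw [← hw, ← hQ g hg w, hQ g' hg' w, hw']
    exact hQ'
  · intro h
    obtain ⟨U, p, u, hpe, -, hu⟩ := exists_chart_ofPt X x
    exact ⟨U, p, u, hpe, hu, h U p u hpe hu⟩

/-- geometric reducedness at a point, as an etale-invariant property of pointed schemes over `Spec k` -/
theorem isGeomReducedAt_over_iff {k : Type u} [Field k] {V U : Over (Spec (CommRingCat.of k))} (g : V ⟶ U)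
    (hg : Etale g.left) (v : ↥V.left) :
    FBase.IsGeomReducedAt V.hom v ↔ FBase.IsGeomReducedAt U.hom (g.left v) :=
  isGeomReducedAt_iff_of_etale g.left U.hom V.hom (Over.w g) v

end Groth.Agent.Lib.helper5.GeomReducedEt
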