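import Groth.Agent.S1298
import Groth.Agent.Lib.Helper5.ConsFibre

/-!
# Closures and fibres near the generic point (EGA IV 9.5.2-type statements) (helper5)

* `exists_maximal_generization`
* `isNowhereDense_genericFibre` : a closed subset with dense complement of a locally Noetherian
  scheme over an irreducible base meets the generic fibre in a nowhere dense subset.
* `exists_open_fibre_subset_closure` : for `τ : T ⟶ S` of finite type, `S` integral Noetherian and
  `U ⊆ T` open dense, `U ∩ τ⁻¹(s)` is dense in `τ⁻¹(s)` for all `s` in a nonempty open.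
* `exists_open_closure_inter_fibre` : for `π : W ⟶ S` of finite type and `A ⊆ W` constructible,
  `closure A ∩ π⁻¹(s) ⊆ closure (A ∩ π⁻¹(s))` for all `s` in a nonempty open (EGA IV 9.5.2).
-/

set_option autoImplicit false
universe u
open CategoryTheory CategoryTheory.Limits AlgebraicGeometry Topology TopologicalSpace

namespace Groth.Agent.Lib.helper5.ConsSep

open Groth.Agent.Lib.helper5.ConsFibre

theorem exists_maximal_generization {T : Type*} [TopologicalSpace T] [QuasiSober T] [T0Space T]
    (t : T) : ∃ ζ : T, ζ ⤳ t ∧ ∀ t' : T, t' ⤳ ζ → t' = ζ := by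
  obtain ⟨ζ, hζ⟩ := QuasiSober.sober (isIrreducible_irreducibleComponent (x := t))
    isClosed_irreducibleComponent
  refine ⟨ζ, ?_, ?_⟩
  · rw [specializes_iff_mem_closure, hζ.def]
    exact mem_irreducibleComponent
  · intro t' ht'
    have hsub : irreducibleComponent t ⊆ closure {t'} := by
      rw [← hζ.def]
      exact closure_minimal (Set.singleton_subset_iff.mpr
        (specializes_iff_mem_closure.mp ht')) isClosed_closure
    have heq : closure {t'} = irreducibleComponent t :=
      (irreducibleComponent_property t).2.2 _ isIrreducible_singleton.closure.isPreirreducible hsub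
    have : IsGenericPoint t' (irreducibleComponent t) := heq
    exact this.eq hζ

/-- a dense open subset of a locally Noetherian scheme contains all maximal points. -/
theorem mem_of_maximal_of_dense {T : Scheme.{u}} [IsLocallyNoetherian T] (U : Set T)
    (hU : IsOpen U) (hd : Dense U) (ζ : T) (hmax : ∀ t : T, t ⤳ ζ → t = ζ) : ζ ∈ U := by
  by_contra hζ
  obtain ⟨x, hx⟩ := Groth.Agent.Lib.helper3.NowhereDenseGen.interior_nonempty_of_maximal_point ζ hmax
    Uᶜ hU.isClosed_compl hζ
  obtain ⟨y, hy1, hy2⟩ := hd.inter_open_nonempty _ isOpen_interior ⟨x, hx⟩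
  exact interior_subset hy1 hy2

theorem isNowhereDense_genericFibre {T S : Scheme.{u}} [IsLocallyNoetherian T] [IrreducibleSpace S]
    (τ : T ⟶ S) (D : Set T) (hD : IsClosed D) (hd : Dense Dᶜ) :
    IsNowhereDense ((τ.fiberι (genericPoint S)) ⁻¹' D) := by
  have hcl : IsClosed ((τ.fiberι (genericPoint S)) ⁻¹' D) :=
    hD.preimage (τ.fiberι (genericPoint S)).continuous
  rw [IsNowhereDense, hcl.closure_eq, Set.eq_empty_iff_forall_notMem]
  intro w hw
  obtain ⟨O, hOsub, hO, hwO⟩ := mem_interior.mp hw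
  obtain ⟨O', hO', rfl⟩ := (τ.fiberι (genericPoint S)).isEmbedding.isInducing.isOpen_iff.mp hO
  obtain ⟨ζ, hζsp, hζmax⟩ := exists_maximal_generization (τ.fiberι (genericPoint S) w)
  have hζO' : ζ ∈ O' := hζsp.mem_open hO' hwO
  have hζU : ζ ∈ Dᶜ := mem_of_maximal_of_dense Dᶜ hD.isOpen_compl hd ζ hζmax
  have hτζ : τ ζ = genericPoint S := by
    have h1 : τ ζ ⤳ τ (τ.fiberι (genericPoint S) w) := hζsp.map τ.continuous
    have h2 : τ (τ.fiberι (genericPoint S) w) = genericPoint S := by
      have : τ.fiberι (genericPoint S) w ∈ τ ⁻¹' {genericPoint S} := by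
        rw [← τ.range_fiberι]; exact ⟨w, rfl⟩
      exact this
    rw [h2] at h1
    exact (h1.antisymm (genericPoint_specializes _)).eq
  have hζr : ζ ∈ Set.range (τ.fiberι (genericPoint S)) := by
    rw [τ.range_fiberι]; exact hτζ
  obtain ⟨w', rfl⟩ := hζr
  exact hζU (hOsub hζO')

/-- EGA IV 9.5.2-type: a dense open subset stays dense in the fibres near the generic point. -/
theorem exists_open_fibre_subset_closure {T S : Scheme.{u}} [IsIntegral S] [IsNoetherian S]
    (τ : T ⟶ S) [LocallyOfFiniteType τ] [QuasiCompact τ] (U : Set T) (hU : IsOpen U)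
    (hd : Dense U) :
    ∃ V : S.Opens, (V : Set S).Nonempty ∧ ∀ s ∈ V, τ ⁻¹' {s} ⊆ closure (U ∩ τ ⁻¹' {s}) := by
  haveI : IsNoetherian T := isNoetherian_of_lft τ
  have hnd := isNowhereDense_genericFibre τ Uᶜ hU.isClosed_compl (by rwa [compl_compl])
  obtain ⟨V, hV, H⟩ := Groth.Agent.S1298.result τ Uᶜ hU.isClosed_compl hnd
  refine ⟨V, hV, fun s hs t ht => ?_⟩
  have hcl : IsClosed ((τ.fiberι s) ⁻¹' Uᶜ) := hU.isClosed_compl.preimage (τ.fiberι s).continuous
  have hint : interior ((τ.fiberι s) ⁻¹' Uᶜ) = ∅ := by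
    have := H s hs
    rwa [IsNowhereDense, hcl.closure_eq] at this
  have htr : t ∈ Set.range (τ.fiberι s) := by rw [τ.range_fiberι]; exact ht
  obtain ⟨z, rfl⟩ := htr
  rw [mem_closure_iff]
  intro O hO hzO
  have hOz : ((τ.fiberι s) ⁻¹' O).Nonempty := ⟨z, hzO⟩
  have hnot : ¬ ((τ.fiberι s) ⁻¹' O ⊆ (τ.fiberι s) ⁻¹' Uᶜ) := by
    intro hsub
    have : (τ.fiberι s) ⁻¹' O ⊆ interior ((τ.fiberι s) ⁻¹' Uᶜ) :=
      interior_maximal hsub (hO.preimage (τ.fiberι s).continuous)
    rw [hint] at this
    exact hOz.ne_empty (Set.subset_empty_iff.mp this)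
  obtain ⟨z', hz'O, hz'U⟩ := Set.not_subset.mp hnot
  refine ⟨τ.fiberι s z', hz'O, ?_, ?_⟩
  · by_contra h
    exact hz'U h
  · have : τ.fiberι s z' ∈ Set.range (τ.fiberι s) := ⟨z', rfl⟩
    rwa [τ.range_fiberι] at this

end Groth.Agent.Lib.helper5.ConsSep
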