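/-
# Lib.Helper5.SecNhd — open neighbourhoods of a section inside the section components

* `exists_open_nhd_section`: `f : X ⟶ S` with a section `e`, smooth on an open `U ⊇ e(S)`; then there is an open `N` with
  `e(S) ⊆ N ⊆ U ∩ sectionComponents f e` (uses helper9's `SecFlat.isOpen_of_smooth`; no quasi-separatedness needed).
-/
import Mathlib
import Groth.Agent.Lib.Helper9.SecFlat5

set_option autoImplicit false
set_option linter.style.haveILetI false
universe u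
open CategoryTheory CategoryTheory.Limits AlgebraicGeometry

namespace Groth.Agent.Lib.helper5.SecNhd

/-- the section components of a morphism with a section, smooth on an open neighbourhood `U` of the section, contain
an open neighbourhood of the section inside `U`. -/
theorem exists_open_nhd_section {X S : Scheme.{u}} (f : X ⟶ S) (e : S ⟶ X) (he : e ≫ f = 𝟙 S)
    (U : X.Opens) (hU : Smooth (U.ι ≫ f)) (heU : ∀ s : S, e s ∈ U) :
    ∃ N : X.Opens, N ≤ U ∧ (∀ s : S, e s ∈ N) ∧ (N : Set X) ⊆ MoreMor.sectionComponents f e := by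
  have hfe : ∀ s : S, f (e s) = s := fun s => by
    rw [← Scheme.Hom.comp_apply, he]; rfl
  have hloc : ∀ s : S, ∃ N : X.Opens, N ≤ U ∧ e s ∈ N ∧
      (N : Set X) ⊆ MoreMor.sectionComponents f e := by
    intro s
    obtain ⟨_, ⟨W, hW, rfl⟩, hesW, hWU⟩ := X.isBasis_affineOpens.exists_subset_of_mem_open
      (heU s) U.2
    set T : S.Opens := e ⁻¹ᵁ W with hT
    set X₁ : X.Opens := W ⊓ f ⁻¹ᵁ T with hX₁
    have hX₁T : X₁ ≤ f ⁻¹ᵁ T := inf_le_right
    have hTX₁ : T ≤ e ⁻¹ᵁ X₁ := by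
      intro t ht
      refine ⟨ht, ?_⟩
      show f (e t) ∈ T
      rw [hfe]; exact ht
    have hX₁U : X₁ ≤ U := fun x hx => hWU hx.1
    set f₁ : X₁.toScheme ⟶ T.toScheme := f.resLE T X₁ hX₁T with hf₁
    set g₁ : T.toScheme ⟶ X₁.toScheme := e.resLE X₁ T hTX₁ with hg₁
    have hf₁ι : f₁ ≫ T.ι = X₁.ι ≫ f := Scheme.Hom.resLE_comp_ι f hX₁T
    have hg₁ι : g₁ ≫ X₁.ι = T.ι ≫ e := Scheme.Hom.resLE_comp_ι e hTX₁
    have hgf : g₁ ≫ f₁ = 𝟙 _ := by
      rw [← cancel_mono T.ι, Category.assoc, hf₁ι, ← Category.assoc, hg₁ι, Category.assoc, he]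
      simp
    haveI : Smooth f₁ := by
      refine MorphismProperty.of_postcomp (W := @Smooth) (W' := @IsOpenImmersion) f₁ T.ι
        inferInstance ?_
      rw [hf₁ι]
      have : X₁.ι ≫ f = X.homOfLE hX₁U ≫ U.ι ≫ f := by
        rw [← Category.assoc, Scheme.homOfLE_ι]
      rw [this]
      infer_instance
    haveI : IsAffine (W : Scheme.{u}) := hW
    haveI : QuasiSeparatedSpace ↥(W : Scheme.{u}) := inferInstance
    haveI : QuasiSeparatedSpace ↥X₁.toScheme :=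
      QuasiSeparatedSpace.of_isOpenEmbedding (X.homOfLE (inf_le_left : X₁ ≤ W)).isOpenEmbedding
    have hopen := Groth.Agent.Lib.helper9.SecFlat.isOpen_of_smooth f₁ g₁ hgf
    have hfp : ∀ x : X₁.toScheme, f (X₁.ι x) = T.ι (f₁ x) := fun x => by
      rw [← Scheme.Hom.comp_apply, ← Scheme.Hom.comp_apply, hf₁ι]
    have hgp : ∀ t : T.toScheme, e (T.ι t) = X₁.ι (g₁ t) := fun t => by
      rw [← Scheme.Hom.comp_apply, ← Scheme.Hom.comp_apply, hg₁ι]
    have hfg₁ : ∀ t : T.toScheme, f₁ (g₁ t) = t := fun t => by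
      rw [← Scheme.Hom.comp_apply, hgf]; rfl
    refine ⟨⟨X₁.ι '' MoreMor.sectionComponents f₁ g₁, X₁.ι.isOpenEmbedding.isOpenMap _ hopen⟩,
      ?_, ?_, ?_⟩
    · rintro _ ⟨x, -, rfl⟩
      exact hX₁U x.2
    · have hsT : s ∈ T := hesW
      refine ⟨g₁ ⟨s, hsT⟩, ?_, (hgp ⟨s, hsT⟩).symm⟩
      show g₁ ⟨s, hsT⟩ ∈ connectedComponentIn (f₁ ⁻¹' {f₁ (g₁ ⟨s, hsT⟩)}) (g₁ (f₁ (g₁ ⟨s, hsT⟩)))
      rw [hfg₁]
      exact mem_connectedComponentIn (hfg₁ _)
    · rintro _ ⟨x, hx, rfl⟩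
      show X₁.ι x ∈ connectedComponentIn (f ⁻¹' {f (X₁.ι x)}) (e (f (X₁.ι x)))
      have hx' : x ∈ connectedComponentIn (f₁ ⁻¹' {f₁ x}) (g₁ (f₁ x)) := hx
      have hmem : g₁ (f₁ x) ∈ f₁ ⁻¹' {f₁ x} := hfg₁ _
      have h1 := (X₁.ι.continuous.continuousOn.image_connectedComponentIn_subset hmem) ⟨x, hx', rfl⟩
      have h2 : X₁.ι '' (f₁ ⁻¹' {f₁ x}) ⊆ f ⁻¹' {f (X₁.ι x)} := by
        rintro _ ⟨x', hx'', rfl⟩
        show f (X₁.ι x') = f (X₁.ι x)
        rw [hfp, hfp]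
        exact congrArg _ hx''
      have h3 := connectedComponentIn_mono (X₁.ι (g₁ (f₁ x))) h2 h1
      rw [← hgp, ← hfp] at h3
      exact h3
  choose N hNU heN hNsub using hloc
  refine ⟨⨆ s, N s, iSup_le hNU, fun s => TopologicalSpace.Opens.mem_iSup.mpr ⟨s, heN s⟩, ?_⟩
  intro x hx
  obtain ⟨s, hs⟩ := TopologicalSpace.Opens.mem_iSup.mp hx
  exact hNsub s hs

end Groth.Agent.Lib.helper5.SecNhd
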