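/-
# Lib.Helper5.GrpNeutral4 — the neutral component subgroup of a group scheme smooth along the unit section (SGA3 VI_B 3.10)

* `exists_nhd`: a smooth open neighbourhood `N` of the unit section with `N ⊆ G⁰`.
* `pNN`, `mNN`, `range_pNN`, `range_mNN`, `mNN_comp_hom`, `smooth_mNN_comp_hom`, `smooth_mNN`: the multiplication `N ×_S N ⟶ G` is
  smooth with image `G⁰`.
* `isOpen_neutralSet`: `G⁰` is open.
* `oSub`, `oInc`, `exists_lift`, `exists_grpObj_oSub`: an open subset containing the unit section and stable under the group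
  operations carries an open subgroup scheme.
* `flat_lfp_oSub`, `smooth_oSub`, `quasiCompact_oSub`, `exists_neutral_subgroup` (S4098).
-/
import Mathlib
import Groth.Agent.Lib.Helper5.GrpNeutral3
import Groth.Agent.Lib.Helper5.SecNhd
import Groth.Agent.Lib.Helper14.HomImage2

set_option autoImplicit false
set_option linter.style.haveILetI false
universe u
open CategoryTheory CategoryTheory.Limits MonoidalCategory CartesianMonoidalCategory MonObj GrpObj
  AlgebraicGeometry

namespace Groth.Agent.Lib.helper5.GrpNeutral4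

open Groth.Agent.Lib.helper5.GrpNeutral1 Groth.Agent.Lib.helper5.GrpNeutral2 Groth.Agent.Lib.helper5.GrpNeutral3
  Groth.Agent.Lib.helper5.HomogSep1 Groth.Agent.Lib.helper5.GrpQC1 Groth.Agent.Lib.helper5.GrpQC2

variable {S : Scheme.{u}} {G : Over S} [GrpObj G]

/-- a smooth open neighbourhood of the unit section contained in `G⁰` -/
theorem exists_nhd (hsm : ∃ U : G.left.Opens, Smooth (U.ι ≫ G.hom) ∧
      ∀ p : ↥(𝟙_ (Over S)).left, η[G].left.base p ∈ U) :
    ∃ N : G.left.Opens, Smooth (N.ι ≫ G.hom) ∧ (∀ s : S, unitSec G s ∈ N) ∧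
      (N : Set G.left) ⊆ SGA3x.neutralSet G := by
  obtain ⟨U, hU, heU⟩ := hsm
  obtain ⟨N, hNU, heN, hNsub⟩ := Groth.Agent.Lib.helper5.SecNhd.exists_open_nhd_section G.hom (unitSec G)
    (unitSec_hom G) U hU heU
  refine ⟨N, ?_, heN, ?_⟩
  · have : N.ι ≫ G.hom = G.left.homOfLE hNU ≫ U.ι ≫ G.hom := by
      rw [← Category.assoc, Scheme.homOfLE_ι]
    rw [this]
    infer_instance
  · rw [neutralSet_eq_sectionComponents]; exact hNsub

section mulmap

variable (N : G.left.Opens)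

/-- the inclusion `N ×_S N ⟶ G ×_S G` -/
noncomputable def pNN : pullback (N.ι ≫ G.hom) (N.ι ≫ G.hom) ⟶ (G ⊗ G).left :=
  pullback.map (N.ι ≫ G.hom) (N.ι ≫ G.hom) G.hom G.hom N.ι N.ι (𝟙 S) (by simp) (by simp)

/-- the multiplication `N ×_S N ⟶ G` -/
noncomputable def mNN : pullback (N.ι ≫ G.hom) (N.ι ≫ G.hom) ⟶ G.left := pNN N ≫ μ[G].left

omit [GrpObj G] in
theorem range_pNN : Set.range (pNN N) =
    (fst G G).left.base ⁻¹' (N : Set G.left) ∩ (snd G G).left.base ⁻¹' (N : Set G.left) := by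
  dsimp only [pNN]
  rw [Scheme.Pullback.range_map]
  simp

theorem range_mNN (heN : ∀ s : S, unitSec G s ∈ N) (hNsub : (N : Set G.left) ⊆ SGA3x.neutralSet G) :
    Set.range (mNN N) = SGA3x.neutralSet G := by
  apply subset_antisymm
  · rintro _ ⟨y, rfl⟩
    have hy : pNN N y ∈ Set.range (pNN N) := ⟨y, rfl⟩
    rw [range_pNN] at hy
    exact mul_mem_neutralSet _ (hNsub hy.1) (hNsub hy.2)
  · intro g hg
    obtain ⟨z, ⟨⟨hz1, -⟩, ⟨hz3, -⟩⟩, hz5⟩ := neutralSet_subset_image_mul N heN hg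
    have hz : z ∈ Set.range (pNN N) := by
      rw [range_pNN]; exact ⟨hz1, hz3⟩
    obtain ⟨y, rfl⟩ := hz
    exact ⟨y, hz5⟩

theorem mNN_comp_hom : mNN N ≫ G.hom =
    pullback.fst (N.ι ≫ G.hom) (N.ι ≫ G.hom) ≫ N.ι ≫ G.hom := by
  have h1 : μ[G].left ≫ G.hom = pullback.fst G.hom G.hom ≫ G.hom := Over.w μ[G]
  rw [mNN, Category.assoc, h1, pNN, ← Category.assoc, pullback.lift_fst]
  simp

theorem smooth_mNN_comp_hom [Smooth (N.ι ≫ G.hom)] : Smooth (mNN N ≫ G.hom) := by
  rw [mNN_comp_hom]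
  infer_instance

theorem smooth_mNN [Smooth (N.ι ≫ G.hom)] : Smooth (mNN N) := by
  have hP := isPullback_jm G (Z := G) N.ι
  haveI : IsOpenImmersion (jm G (Z := G) N.ι) :=
    MorphismProperty.of_isPullback (P := @IsOpenImmersion) hP.flip inferInstance
  let Φ : G ⊗ G ⟶ G ⊗ G := lift (fst G G * snd G G) (snd G G)
  let Φ' : G ⊗ G ⟶ G ⊗ G := lift (fst G G * (snd G G)⁻¹) (snd G G)
  have e3 := congrArg (fun k => k.left) (shearMul_inv (G := G))
  have e4 := congrArg (fun k => k.left) (shearMul_inv' (G := G))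
  simp only [Over.comp_left, Over.id_left] at e3 e4
  haveI : IsIso Φ.left := ⟨Φ'.left, e3, e4⟩
  have hΦ : Φ ≫ fst G G = μ[G] := by
    rw [lift_fst, MonObj.mul_eq_mul]
  have hΦs : Φ ≫ snd G G = snd G G := by simp [Φ]
  have hΦ' := congrArg (fun k => k.left) hΦ
  have hΦs' := congrArg (fun k => k.left) hΦs
  simp only [Over.comp_left] at hΦ' hΦs'
  have hrange : Set.range (pNN N ≫ Φ.left) ⊆ Set.range (jm G (Z := G) N.ι) := by
    rintro _ ⟨y, rfl⟩
    have hy : pNN N y ∈ Set.range (pNN N) := ⟨y, rfl⟩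
    rw [range_pNN] at hy
    have h2 : (snd G G).left ((pNN N ≫ Φ.left) y) ∈ N := by
      rw [← Scheme.Hom.comp_apply, Category.assoc, hΦs']
      exact hy.2
    obtain ⟨z', hz'1, -⟩ := Scheme.exists_preimage_of_isPullback hP ((pNN N ≫ Φ.left) y) ⟨_, h2⟩ rfl
    exact ⟨z', hz'1⟩
  let k := IsOpenImmersion.lift (jm G (Z := G) N.ι) (pNN N ≫ Φ.left) hrange
  have hk : k ≫ jm G (Z := G) N.ι = pNN N ≫ Φ.left := IsOpenImmersion.lift_fac _ _ _
  haveI : IsOpenImmersion (pNN N) := by dsimp only [pNN]; infer_instance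
  haveI : IsOpenImmersion (k ≫ jm G (Z := G) N.ι) := by rw [hk]; infer_instance
  haveI : IsOpenImmersion k := IsOpenImmersion.of_comp k (jm G (Z := G) N.ι)
  have hq₁ : jm G (Z := G) N.ι ≫ (fst G G).left = pullback.fst G.hom (N.ι ≫ G.hom) := by
    show jm G N.ι ≫ pullback.fst G.hom G.hom = _
    rw [jm, pullback.lift_fst, Category.comp_id]
  have : mNN N = k ≫ pullback.fst G.hom (N.ι ≫ G.hom) := by
    rw [← hq₁, ← Category.assoc, hk, Category.assoc, hΦ', mNN]
  rw [this]
  infer_instance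

end mulmap

section open_

/-- **S4098, first half**: `G⁰` is open if `G` is smooth along the unit section. -/
theorem isOpen_neutralSet (hsm : ∃ U : G.left.Opens, Smooth (U.ι ≫ G.hom) ∧
      ∀ p : ↥(𝟙_ (Over S)).left, η[G].left.base p ∈ U) : IsOpen (SGA3x.neutralSet G) := by
  obtain ⟨N, hN, heN, hNsub⟩ := exists_nhd hsm
  haveI := hN
  haveI := smooth_mNN N
  rw [← range_mNN N heN hNsub]
  haveI : UniversallyOpen (mNN N) := inferInstance
  exact (mNN N).isOpenMap.isOpen_range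

end open_

section sub

variable (V : G.left.Opens)

/-- the open subscheme `V` as an object over `S` -/
noncomputable abbrev oSub : Over S := Over.mk (V.ι ≫ G.hom)

/-- the inclusion of the open subscheme -/
noncomputable abbrev oInc : oSub V ⟶ G := Over.homMk V.ι rfl

omit [GrpObj G] in
theorem exists_lift (T : Over S) (f : T ⟶ G) (h : Set.range f.left.base ⊆ (V : Set G.left)) :
    ∃ f' : T ⟶ oSub V, f' ≫ oInc V = f := by
  have hr : Set.range f.left ⊆ Set.range V.ι := by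
    rw [Scheme.Opens.range_ι]; exact h
  refine ⟨Over.homMk (IsOpenImmersion.lift V.ι f.left hr) ?_, ?_⟩
  · show IsOpenImmersion.lift V.ι f.left hr ≫ V.ι ≫ G.hom = T.hom
    rw [← Category.assoc, IsOpenImmersion.lift_fac, Over.w f]
  · ext
    show IsOpenImmersion.lift V.ι f.left hr ≫ V.ι = f.left
    exact IsOpenImmersion.lift_fac _ _ _

/-- an open subset of `G` containing the unit section and stable under the group operations carries an open
subgroup scheme -/
theorem exists_grpObj_oSub (h1 : ∀ s : S, unitSec G s ∈ V)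
    (hmul : ∀ z : (G ⊗ G).left, (fst G G).left z ∈ V → (snd G G).left z ∈ V → μ[G].left z ∈ V)
    (hinv : ∀ g : G.left, g ∈ V → (ι[G] : G ⟶ G).left g ∈ V) :
    ∃ str : GrpObj (oSub V), @IsMonHom _ _ _ _ _ str.toMonObj _ (oInc V) := by
  haveI : Mono (oInc V).left := inferInstanceAs (Mono V.ι)
  haveI : Mono (oInc V) := Over.mono_of_mono_left _
  obtain ⟨o, ho⟩ := exists_lift V (𝟙_ (Over S)) η[G] (by
    rintro _ ⟨s, rfl⟩
    exact h1 s)
  obtain ⟨m, hm⟩ := exists_lift V (oSub V ⊗ oSub V) ((oInc V ⊗ₘ oInc V) ≫ μ[G]) (by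
    rintro _ ⟨y, rfl⟩
    show μ[G].left ((oInc V ⊗ₘ oInc V).left y) ∈ V
    have f1 := congrArg (fun k => k.left) (tensorHom_fst (oInc V) (oInc V))
    have f2 := congrArg (fun k => k.left) (tensorHom_snd (oInc V) (oInc V))
    simp only [Over.comp_left] at f1 f2
    apply hmul
    · rw [← Scheme.Hom.comp_apply, f1, Scheme.Hom.comp_apply]
      exact ((fst (oSub V) (oSub V)).left y).2
    · rw [← Scheme.Hom.comp_apply, f2, Scheme.Hom.comp_apply]
      exact ((snd (oSub V) (oSub V)).left y).2)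
  obtain ⟨v, hv⟩ := exists_lift V (oSub V) (oInc V ≫ ι[G]) (by
    rintro _ ⟨y, rfl⟩
    show (ι[G] : G ⟶ G).left ((oInc V).left y) ∈ V
    exact hinv _ y.2)
  exact ⟨Groth.Agent.Lib.Helper14.HomImage.grpObjOfMono (oInc V) o ho m hm v hv,
    @IsMonHom.mk _ _ _ _ _
      (Groth.Agent.Lib.Helper14.HomImage.grpObjOfMono (oInc V) o ho m hm v hv).toMonObj _ (oInc V) ho hm⟩

end sub

section props

variable (N V : G.left.Opens)

theorem flat_lfp_oSub [Smooth (N.ι ≫ G.hom)] (heN : ∀ s : S, unitSec G s ∈ N)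
    (hNsub : (N : Set G.left) ⊆ SGA3x.neutralSet G) (hV : (V : Set G.left) = SGA3x.neutralSet G) :
    Flat (V.ι ≫ G.hom) ∧ LocallyOfFinitePresentation (V.ι ≫ G.hom) := by
  haveI := smooth_mNN N
  haveI := smooth_mNN_comp_hom N
  have hr : Set.range (mNN N) ⊆ Set.range V.ι := by
    rw [Scheme.Opens.range_ι, hV, range_mNN N heN hNsub]
  let mV := IsOpenImmersion.lift V.ι (mNN N) hr
  have hmV : mV ≫ V.ι = mNN N := IsOpenImmersion.lift_fac _ _ _
  haveI : Smooth mV := by
    refine MorphismProperty.of_postcomp (W := @Smooth) (W' := @IsOpenImmersion) mV V.ι inferInstance ?_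
    rw [hmV]; infer_instance
  haveI : Surjective mV := ⟨fun v => by
    have : V.ι v ∈ Set.range (mNN N) := by
      rw [range_mNN N heN hNsub, ← hV]; exact v.2
    obtain ⟨y, hy⟩ := this
    refine ⟨y, V.ι.isOpenEmbedding.injective ?_⟩
    rw [← Scheme.Hom.comp_apply, hmV]; exact hy⟩
  constructor
  · apply flat_ι_comp G.hom V
    intro x hx
    have : x ∈ Set.range (mNN N) := by
      rw [range_mNN N heN hNsub, ← hV]; exact hx
    obtain ⟨y, rfl⟩ := this
    exact H18Stalk.stalk_flat_descent G.hom (mNN N) y (Flat.stalkMap (mNN N) y)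
      (Flat.stalkMap (mNN N ≫ G.hom) y)
  · haveI : LocallyOfFinitePresentation (mV ≫ V.ι ≫ G.hom) := by
      rw [← Category.assoc, hmV]; infer_instance
    exact Groth.Agent.Lib.helper5.FppfSource.locallyOfFinitePresentation_of_comp mV (V.ι ≫ G.hom)

theorem smooth_oSub [Smooth (N.ι ≫ G.hom)] (heN : ∀ s : S, unitSec G s ∈ N) (hNV : N ≤ V)
    [GrpObj (oSub V)] [Flat (V.ι ≫ G.hom)] [LocallyOfFinitePresentation (V.ι ≫ G.hom)] :
    Smooth (V.ι ≫ G.hom) := by
  have hto : (toUnit (oSub V)).left = V.ι ≫ G.hom := rfl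
  haveI : Flat (oSub V).hom := ‹Flat (V.ι ≫ G.hom)›
  haveI : LocallyOfFinitePresentation (oSub V).hom := ‹LocallyOfFinitePresentation (V.ι ≫ G.hom)›
  haveI : LocallyOfFinitePresentation (toUnit (oSub V)).left := ‹LocallyOfFinitePresentation (V.ι ≫ G.hom)›
  have key := Groth.Agent.Lib.helper5.GrpHomog3.homog_hom (toUnit (oSub V))
    (fun f x => (f.stalkMap x).hom.FormallySmooth)
    (fun H hc _ x' => by
      haveI := hc
      exact Groth.Agent.Lib.helper5.GrpHomog2.formallySmooth_stalk_iff_of_isPullback H x')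
  rw [← Scheme.Hom.smoothLocus_eq_top_iff, eq_top_iff]
  intro g _
  set s : S := (V.ι ≫ G.hom) g with hs
  let w : V.toScheme := ⟨unitSec G s, hNV (heN s)⟩
  have hw : (oSub V).hom w = (oSub V).hom g := by
    show (V.ι ≫ G.hom) w = s
    rw [Scheme.Hom.comp_apply]
    show G.hom (unitSec G s) = s
    rw [← Scheme.Hom.comp_apply, unitSec_hom]; rfl
  have hr : Set.range ((V.ι ⁻¹ᵁ N).ι ≫ V.ι) ⊆ Set.range N.ι := by
    rintro _ ⟨x, rfl⟩
    rw [Scheme.Opens.range_ι]
    exact x.2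
  have h0 : ((V.ι ≫ G.hom).stalkMap w).hom.FormallySmooth := by
    refine (Groth.Agent.Lib.Helper18.SmoothDescent.exists_smooth_nhd_iff (V.ι ≫ G.hom) w).mp
      ⟨V.ι ⁻¹ᵁ N, heN s, ?_⟩
    have : (V.ι ⁻¹ᵁ N).ι ≫ V.ι ≫ G.hom =
        IsOpenImmersion.lift N.ι ((V.ι ⁻¹ᵁ N).ι ≫ V.ι) hr ≫ N.ι ≫ G.hom := by
      rw [← Category.assoc, ← Category.assoc, IsOpenImmersion.lift_fac]
    rw [this]
    haveI : IsOpenImmersion (IsOpenImmersion.lift N.ι ((V.ι ⁻¹ᵁ N).ι ≫ V.ι) hr ≫ N.ι) := by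
      rw [IsOpenImmersion.lift_fac]; infer_instance
    haveI : IsOpenImmersion (IsOpenImmersion.lift N.ι ((V.ι ⁻¹ᵁ N).ι ≫ V.ι) hr) :=
      IsOpenImmersion.of_comp _ N.ι
    infer_instance
  exact (key w g hw).mp h0

theorem quasiCompact_oSub (hV : (V : Set G.left) = SGA3x.neutralSet G) [GrpObj (oSub V)] :
    QuasiCompact (V.ι ≫ G.hom) := by
  apply quasiCompact_of_connected_fibres (G := oSub V)
  intro s
  set Z := connectedComponentIn (G.hom.base ⁻¹' {s}) (unitSec G s) with hZ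
  have hes : G.hom (unitSec G s) = s := by
    rw [← Scheme.Hom.comp_apply, unitSec_hom]; rfl
  have hZV : Z ⊆ (V : Set G.left) := by
    intro x hx
    rw [hV, mem_neutralSet_iff]
    have : G.hom x = s := connectedComponentIn_subset (G.hom.base ⁻¹' {s}) (unitSec G s) hx
    rw [this]; exact hx
  have hfib : (oSub V).hom.base ⁻¹' {s} = V.ι.base ⁻¹' Z := by
    ext x
    constructor
    · intro hx
      have hx' : G.hom (V.ι x) = s := hx
      have h1 : V.ι x ∈ SGA3x.neutralSet G := by rw [← hV]; exact x.2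
      rw [mem_neutralSet_iff, hx'] at h1
      exact h1
    · intro hx
      exact connectedComponentIn_subset (G.hom.base ⁻¹' {s}) (unitSec G s) hx
  rw [hfib]
  refine ⟨⟨⟨unitSec G s, hZV (mem_connectedComponentIn hes)⟩, mem_connectedComponentIn hes⟩, ?_⟩
  exact isPreconnected_connectedComponentIn.preimage_of_isOpenMap V.ι.isOpenEmbedding.injective
    V.ι.isOpenEmbedding.isOpenMap (by rw [Scheme.Opens.range_ι]; exact hZV)

end props

/-- **S4098**: if `G` is smooth along the unit section, `G⁰` is open and carries an open subgroup scheme, smooth and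
quasi-compact over `S`. -/
theorem exists_neutral_subgroup (hsm : ∃ U : G.left.Opens, Smooth (U.ι ≫ G.hom) ∧
      ∀ p : ↥(𝟙_ (Over S)).left, η[G].left.base p ∈ U) :
    IsOpen (SGA3x.neutralSet G) ∧
    ∃ (G0 : Over S) (_ : GrpObj G0) (i : G0 ⟶ G), IsMonHom i ∧ IsOpenImmersion i.left ∧
      Set.range i.left.base = SGA3x.neutralSet G ∧ Smooth G0.hom ∧ QuasiCompact G0.hom := by
  have hopen := isOpen_neutralSet hsm
  refine ⟨hopen, ?_⟩
  obtain ⟨N, hN, heN, hNsub⟩ := exists_nhd hsm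
  haveI := hN
  let V : G.left.Opens := ⟨SGA3x.neutralSet G, hopen⟩
  have hV : (V : Set G.left) = SGA3x.neutralSet G := rfl
  obtain ⟨str, hmon⟩ := exists_grpObj_oSub V (fun s => unitSec_mem_neutralSet G s)
    (fun z h1 h2 => mul_mem_neutralSet z h1 h2) (fun g hg => inv_mem_neutralSet g hg)
  letI := str
  obtain ⟨hflat, hlfp⟩ := flat_lfp_oSub N V heN hNsub hV
  haveI := hflat
  haveI := hlfp
  refine ⟨oSub V, str, oInc V, hmon, inferInstanceAs (IsOpenImmersion V.ι), ?_, ?_, ?_⟩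
  · show Set.range V.ι = _
    rw [Scheme.Opens.range_ι]
    exact hV
  · exact smooth_oSub N V heN hNsub
  · exact quasiCompact_oSub V hV

end Groth.Agent.Lib.helper5.GrpNeutral4
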