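import Mathlib.CategoryTheory.Extensive
import Mathlib.CategoryTheory.Sites.LeftExact
import Mathlib.CategoryTheory.Limits.VanKampen
import Mathlib.CategoryTheory.Limits.Types.Coproducts
import Mathlib.CategoryTheory.Limits.Types.Pullbacks

/-!
Arbitrary coproducts in categories of sheaves of types are van Kampen (helper5).
-/

set_option autoImplicit false
universe w v u
open CategoryTheory CategoryTheory.Limits Opposite

namespace Groth.Agent.Lib.helper5.SheafVK

/-- Coproducts of types are van Kampen (cofan form). -/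
theorem isVanKampenColimit_cofan_type {ι : Type v} {f : ι → Type w} (c : Cofan f) (hc : IsColimit c) :
    IsVanKampenColimit c := by
  intro F' c' α g h hα
  let f' : ι → Type w := F'.obj ∘ Discrete.mk
  have hF' : F' = Discrete.functor f' :=
    Functor.hext (fun _ ↦ rfl) (by rintro ⟨i⟩ ⟨j⟩ ⟨⟨rfl : i = j⟩⟩; simp [f'])
  clear_value f'
  subst hF'
  let c' : Cofan f' := c'
  have hcomm : ∀ (i : ι) (z : f' i), c.inj i (α.app ⟨i⟩ z) = g (c'.inj i z) := by
    intro i z
    have := congrArg (fun k => k.app ⟨i⟩) h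
    simp only [NatTrans.comp_app, Functor.const_map_app] at this
    exact ConcreteCategory.congr_hom this z
  constructor
  · rintro ⟨hc'⟩ ⟨i⟩
    rw [Types.isPullback_iff]
    refine ⟨?_, ?_, ?_⟩
    · have := congrArg (fun k => k.app ⟨i⟩) h
      simp only [NatTrans.comp_app, Functor.const_map_app] at this
      exact this.symm
    · rintro x y ⟨h1, -⟩
      exact Cofan.inj_injective_of_isColimit hc' i h1
    · intro x₂ x₃ hx
      obtain ⟨k, z, rfl⟩ := Cofan.inj_jointly_surjective_of_isColimit hc' x₂
      have h1 : c.inj k (α.app ⟨k⟩ z) = c.inj i x₃ := (hcomm k z).trans hx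
      obtain rfl := Cofan.eq_of_inj_apply_eq_of_isColimit hc _ _ h1
      exact ⟨z, rfl, Cofan.inj_injective_of_isColimit hc k h1⟩
  · intro hpb
    rw [Cofan.nonempty_isColimit_iff_bijective_fromSigma]
    constructor
    · rintro ⟨i, z⟩ ⟨k, z'⟩ hzz
      have hzz' : c'.inj i z = c'.inj k z' := hzz
      have h1 : c.inj i (α.app ⟨i⟩ z) = c.inj k (α.app ⟨k⟩ z') := by
        rw [hcomm, hcomm, hzz']
      obtain rfl := Cofan.eq_of_inj_apply_eq_of_isColimit hc _ _ h1
      have h2 := Cofan.inj_injective_of_isColimit hc i h1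
      have h3 := ((Types.isPullback_iff _ _ _ _).1 (hpb ⟨i⟩)).2.1 z z' ⟨hzz', h2⟩
      rw [h3]
    · intro x
      obtain ⟨i, y, hy⟩ := Cofan.inj_jointly_surjective_of_isColimit hc (g x)
      obtain ⟨z, hz, -⟩ := ((Types.isPullback_iff _ _ _ _).1 (hpb ⟨i⟩)).2.2 x y hy.symm
      exact ⟨⟨i, z⟩, hz⟩

/-- Coproducts of types are van Kampen (cocone form). -/
theorem isVanKampenColimit_discrete_type {ι : Type v} {F : Discrete ι ⥤ Type w} (c : Cocone F)
    (hc : IsColimit c) : IsVanKampenColimit c := by
  let f : ι → Type w := F.obj ∘ Discrete.mk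
  have hF : F = Discrete.functor f :=
    Functor.hext (fun _ ↦ rfl) (by rintro ⟨i⟩ ⟨j⟩ ⟨⟨rfl : i = j⟩⟩; simp [f])
  clear_value f
  subst hF
  exact isVanKampenColimit_cofan_type c hc

/-- Coproducts of presheaves of types are van Kampen. -/
theorem isVanKampenColimit_discrete_presheaf {C : Type u} [Category.{v} C] {ι : Type v}
    {F : Discrete ι ⥤ (Cᵒᵖ ⥤ Type w)} (c : Cocone F) (hc : IsColimit c)
    [HasColimitsOfShape (Discrete ι) (Type w)] : IsVanKampenColimit c :=
  isVanKampenColimit_of_evaluation F c (fun x =>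
    isVanKampenColimit_discrete_type _ (isColimitOfPreserves ((evaluation Cᵒᵖ (Type w)).obj x) hc))

/-- Coproducts of sheaves of types are van Kampen. -/
theorem isVanKampenColimit_discrete_sheaf {C : Type u} [Category.{v} C] (J : GrothendieckTopology C)
    [HasSheafify J (Type w)] {ι : Type v} [HasColimitsOfShape (Discrete ι) (Type w)]
    {F : Discrete ι ⥤ Sheaf J (Type w)} (c : Cocone F) (hc : IsColimit c) : IsVanKampenColimit c := by
  let adj := sheafificationAdjunction J (Type w)
  have : PreservesColimitsOfSize.{v, v} (presheafToSheaf J (Type w)) := adj.leftAdjoint_preservesColimits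
  apply (IsVanKampenColimit.precompose_isIso_iff
    (Functor.isoWhiskerLeft _ (asIso adj.counit) ≪≫ Functor.rightUnitor _).hom).mp
  refine ((isVanKampenColimit_discrete_presheaf _
    (colimit.isColimit (F ⋙ sheafToPresheaf J (Type w)))).map_reflective adj).of_iso
    (IsColimit.uniqueUpToIso ?_ ?_)
  · exact isColimitOfPreserves (presheafToSheaf J (Type w)) (colimit.isColimit _)
  · exact (IsColimit.precomposeHomEquiv _ _).symm hc

end Groth.Agent.Lib.helper5.SheafVK
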