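import Mathlib

/-!
# Minimal primes along flat maps of finite type (helper5)

* `under_mem_minimalPrimes`: for `A → B` with going down, a minimal prime of `B` lies over a minimal prime of `A`.
* `finite_minimalPrimes_of_flat_finiteType`: `A → B` flat of finite type, `A` has finitely many minimal primes ⇒ so does `B`.
* `finite_irreducibleComponents_of_flat_finiteType`: the same for irreducible components of the prime spectra.
-/

set_option autoImplicit false
universe u

namespace Groth.Agent.Lib.helper5.FlatMinPrimes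

variable {A B : Type u} [CommRing A] [CommRing B] [Algebra A B]

theorem under_mem_minimalPrimes [Algebra.HasGoingDown A B] {q : Ideal B} (hq : q ∈ minimalPrimes B) :
    q.under A ∈ minimalPrimes A := by
  haveI : q.IsPrime := hq.1.1
  refine ⟨⟨inferInstance, bot_le⟩, fun p' hp' hle => ?_⟩
  haveI : p'.IsPrime := hp'.1
  obtain ⟨q', hq'q, hq'p, hq'l⟩ := Ideal.exists_ideal_le_liesOver_of_le (p := p') (q := q.under A) q hle
  have h1 : q ≤ q' := hq.2 ⟨hq'p, bot_le⟩ hq'q
  have h2 : q' = q := le_antisymm hq'q h1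
  rw [hq'l.over, h2]

/-- the minimal primes of `B` over a given prime `p` of `A` inject into the minimal primes of the fibre ring. -/
theorem finite_minimalPrimes_over [Algebra.FiniteType A B] (p : Ideal A) [p.IsPrime] :
    {q : Ideal B | q ∈ minimalPrimes B ∧ q.under A = p}.Finite := by
  haveI : Algebra.FiniteType p.ResidueField (p.Fiber B) := inferInstance
  haveI : IsNoetherianRing (p.Fiber B) := Algebra.FiniteType.isNoetherianRing p.ResidueField (p.Fiber B)
  have hfin := minimalPrimes.finite_of_isNoetherianRing (p.Fiber B)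
  let e := PrimeSpectrum.primesOverOrderIsoFiber A B p
  -- map `q ↦ e q`
  let φ : {q : Ideal B | q ∈ minimalPrimes B ∧ q.under A = p} → Ideal (p.Fiber B) := fun q =>
    (e ⟨q.1, ⟨q.2.1.1.1, ⟨q.2.2.symm⟩⟩⟩).asIdeal
  have hφ : Function.Injective φ := by
    intro q₁ q₂ h
    have h' := e.injective (PrimeSpectrum.ext h)
    exact Subtype.ext (congrArg (fun z : p.primesOver B => (z : Ideal B)) h')
  have hmem : ∀ q, φ q ∈ minimalPrimes (p.Fiber B) := by
    intro q
    refine ⟨⟨(e _).isPrime, bot_le⟩, fun r hr hle => ?_⟩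
    haveI : r.IsPrime := hr.1
    -- pull back `r`
    have h1 : e.symm ⟨r, hr.1⟩ ≤ ⟨q.1, ⟨q.2.1.1.1, ⟨q.2.2.symm⟩⟩⟩ := by
      rw [← e.symm_apply_apply ⟨q.1, _⟩]
      exact e.symm.monotone hle
    have h2 : q.1 ≤ (e.symm ⟨r, hr.1⟩).1 :=
      q.2.1.2 ⟨(e.symm ⟨r, hr.1⟩).2.1, bot_le⟩ h1
    have h3 : (⟨q.1, ⟨q.2.1.1.1, ⟨q.2.2.symm⟩⟩⟩ : p.primesOver B) ≤ e.symm ⟨r, hr.1⟩ := h2
    have h4 := e.monotone h3
    rw [e.apply_symm_apply] at h4
    exact h4
  haveI : Finite (minimalPrimes (p.Fiber B)) := hfin.to_subtype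
  haveI : Finite {q : Ideal B | q ∈ minimalPrimes B ∧ q.under A = p} :=
    Finite.of_injective (fun q => (⟨φ q, hmem q⟩ : minimalPrimes (p.Fiber B)))
      (fun q₁ q₂ h => hφ (congrArg Subtype.val h))
  exact Set.toFinite _

theorem finite_minimalPrimes_of_flat_finiteType [Module.Flat A B] [Algebra.FiniteType A B]
    (h : (minimalPrimes A).Finite) : (minimalPrimes B).Finite := by
  haveI : Algebra.HasGoingDown A B := Algebra.HasGoingDown.of_flat
  have hsub : minimalPrimes B ⊆ ⋃ p ∈ minimalPrimes A, {q : Ideal B | q ∈ minimalPrimes B ∧ q.under A = p} := by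
    intro q hq
    simp only [Set.mem_iUnion, Set.mem_ofPred_eq, exists_prop]
    exact ⟨q.under A, under_mem_minimalPrimes hq, hq, rfl⟩
  refine (Set.Finite.biUnion h fun p hp => ?_).subset hsub
  haveI : p.IsPrime := hp.1.1
  exact finite_minimalPrimes_over p

theorem finite_irreducibleComponents_iff (R : Type u) [CommRing R] :
    (irreducibleComponents (PrimeSpectrum R)).Finite ↔ (minimalPrimes R).Finite := by
  have e := (minimalPrimes.equivIrreducibleComponents R).toEquiv
  rw [← Set.finite_coe_iff, ← Set.finite_coe_iff]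
  exact ⟨fun _ => Finite.of_equiv _ (e.trans OrderDual.ofDual).symm, fun _ => Finite.of_equiv _ (e.trans OrderDual.ofDual)⟩

theorem finite_irreducibleComponents_of_flat_finiteType [Module.Flat A B] [Algebra.FiniteType A B]
    (h : (irreducibleComponents (PrimeSpectrum A)).Finite) : (irreducibleComponents (PrimeSpectrum B)).Finite := by
  rw [finite_irreducibleComponents_iff] at h ⊢
  exact finite_minimalPrimes_of_flat_finiteType h

end Groth.Agent.Lib.helper5.FlatMinPrimes
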