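import Mathlib
import Groth.Agent.Lib.Helper5.FlatMinimalPrimes

/-!
# Finiteness of irreducible components: open covers, flat morphisms (helper5)

* `finite_irreducibleComponents_of_isOpenEmbedding`: open subspaces of spaces with finitely many irreducible components.
* `finite_irreducibleComponents_of_finite_cover`: a space covered by finitely many open pieces with finitely many
  irreducible components.
* `LocFinIrr X`: every quasi-compact open of the scheme `X` has finitely many irreducible components;
  `locFinIrr_iff_affine`, `locFinIrr_of_flat_lft` (ascent along flat morphisms locally of finite type).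
-/

set_option autoImplicit false
universe u
open CategoryTheory AlgebraicGeometry Topology

namespace Groth.Agent.Lib.helper5.IrrCover

theorem finite_irreducibleComponents_of_isOpenEmbedding {Y T : Type*} [TopologicalSpace Y] [TopologicalSpace T]
    (f : Y → T) (hf : IsOpenEmbedding f) (h : (irreducibleComponents T).Finite) :
    (irreducibleComponents Y).Finite := by
  refine (h.image (fun Z => f ⁻¹' Z)).subset ?_
  intro W hW
  obtain ⟨Z, hZ, hWZ⟩ := exists_mem_irreducibleComponents_subset_of_isIrreducible (f '' W)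
    (hW.1.image f hf.continuous.continuousOn)
  refine ⟨Z, hZ, ?_⟩
  have hne : (Z ∩ Set.range f).Nonempty := by
    obtain ⟨w, hw⟩ := hW.1.1
    exact ⟨f w, hWZ ⟨w, hw, rfl⟩, w, rfl⟩
  have h1 : f ⁻¹' Z ∈ irreducibleComponents Y := preimage_mem_irreducibleComponents hZ hf hne
  have h2 : W ⊆ f ⁻¹' Z := fun w hw => hWZ ⟨w, hw, rfl⟩
  exact (h2.antisymm (hW.2 h1.1 h2)).symm

theorem finite_irreducibleComponents_of_homeomorph {Y T : Type*} [TopologicalSpace Y] [TopologicalSpace T]
    (e : Y ≃ₜ T) : (irreducibleComponents Y).Finite ↔ (irreducibleComponents T).Finite :=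
  ⟨finite_irreducibleComponents_of_isOpenEmbedding e.symm e.symm.isOpenEmbedding,
    finite_irreducibleComponents_of_isOpenEmbedding e e.isOpenEmbedding⟩

theorem finite_irreducibleComponents_of_finite_cover {T : Type*} [TopologicalSpace T] {J : Type*} [Finite J]
    (Y : J → Type*) [∀ j, TopologicalSpace (Y j)] (f : ∀ j, Y j → T) (hf : ∀ j, IsOpenEmbedding (f j))
    (hcov : ∀ t : T, ∃ j, t ∈ Set.range (f j)) (h : ∀ j, (irreducibleComponents (Y j)).Finite) :
    (irreducibleComponents T).Finite := by
  classical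
  have hsub : irreducibleComponents T ⊆
      ⋃ j, (fun W => closure (f j '' W)) '' irreducibleComponents (Y j) := by
    intro Z hZ
    obtain ⟨z, hz⟩ := hZ.1.1
    obtain ⟨j, y, hy⟩ := hcov z
    have hne : (Z ∩ Set.range (f j)).Nonempty := ⟨z, hz, y, hy⟩
    have h1 : f j ⁻¹' Z ∈ irreducibleComponents (Y j) := preimage_mem_irreducibleComponents hZ (hf j) hne
    have hne' : (f j ⁻¹' Z).Nonempty := ⟨y, by show f j y ∈ Z; rw [hy]; exact hz⟩
    have h2 : closure (f j '' (f j ⁻¹' Z)) = Z :=
      closure_image_preimage_of_isPreirreducible (f j) (hf j).isOpenMap Z hne' hZ.1.2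
        (isClosed_of_mem_irreducibleComponents Z hZ)
    exact Set.mem_iUnion.2 ⟨j, f j ⁻¹' Z, h1, h2⟩
  exact (Set.finite_iUnion fun j => (h j).image _).subset hsub

/-- every quasi-compact open of `X` has finitely many irreducible components -/
def LocFinIrr (X : Scheme.{u}) : Prop :=
  ∀ W : X.Opens, IsCompact (W : Set X) → (irreducibleComponents ↥W).Finite

theorem finite_irreducibleComponents_opens_of_le {X : Scheme.{u}} {W W' : X.Opens} (hle : W ≤ W')
    (h : (irreducibleComponents ↥W').Finite) : (irreducibleComponents ↥W).Finite :=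
  finite_irreducibleComponents_of_isOpenEmbedding (Set.inclusion hle)
    (TopologicalSpace.Opens.isOpenEmbedding_of_le hle) h

theorem finite_irreducibleComponents_affine_iff {X : Scheme.{u}} {U : X.Opens} (hU : IsAffineOpen U) :
    (irreducibleComponents ↥U).Finite ↔ (irreducibleComponents (PrimeSpectrum Γ(X, U))).Finite :=
  finite_irreducibleComponents_of_homeomorph (Scheme.homeoOfIso hU.isoSpec)

/-- it suffices to check affine opens -/
theorem locFinIrr_of_affine {X : Scheme.{u}}
    (h : ∀ x : X, ∃ U : X.Opens, IsAffineOpen U ∧ x ∈ U ∧ (irreducibleComponents ↥U).Finite) : LocFinIrr X := by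
  intro W hW
  choose U hU hxU hUf using h
  -- cover `W` by the `W ⊓ U x`
  obtain ⟨t, ht⟩ := hW.elim_finite_subcover (fun x : X => ((U x : X.Opens) : Set X)) (fun x => (U x).2)
    (fun x _ => Set.mem_iUnion.2 ⟨x, hxU x⟩)
  refine finite_irreducibleComponents_of_finite_cover (J := t) (fun j => ↥(W ⊓ U j.1))
    (fun j => Set.inclusion (show (W ⊓ U j.1 : X.Opens) ≤ W from inf_le_left))
    (fun j => TopologicalSpace.Opens.isOpenEmbedding_of_le inf_le_left) ?_ ?_
  · rintro ⟨w, hw⟩
    obtain ⟨x, hx, hwx⟩ := Set.mem_iUnion₂.1 (ht hw)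
    exact ⟨⟨x, hx⟩, ⟨w, hw, hwx⟩, rfl⟩
  · intro j
    exact finite_irreducibleComponents_opens_of_le inf_le_right (hUf j.1)

theorem locFinIrr_of_flat_lft {X Y : Scheme.{u}} (f : X ⟶ Y) [Flat f] [LocallyOfFiniteType f]
    (hY : LocFinIrr Y) : LocFinIrr X := by
  refine locFinIrr_of_affine fun x => ?_
  obtain ⟨_, ⟨U, hU, rfl⟩, hxU, -⟩ :=
    Y.isBasis_affineOpens.exists_subset_of_mem_open (Set.mem_univ (f x)) isOpen_univ
  obtain ⟨_, ⟨V, hV, rfl⟩, hxV, hVU0⟩ :=
    X.isBasis_affineOpens.exists_subset_of_mem_open hxU (U.2.preimage f.continuous)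
  have hVU : V ≤ f ⁻¹ᵁ U := hVU0
  refine ⟨V, hV, hxV, ?_⟩
  have h1 : (irreducibleComponents ↥U).Finite := hY U (IsAffineOpen.isCompact hU)
  rw [finite_irreducibleComponents_affine_iff hU] at h1
  rw [finite_irreducibleComponents_affine_iff hV]
  have h2 : (f.appLE U V hVU).hom.Flat := f.flat_appLE hU hV hVU
  have h3 : (f.appLE U V hVU).hom.FiniteType := f.finiteType_appLE hU hV hVU
  algebraize [(f.appLE U V hVU).hom]
  exact FlatMinPrimes.finite_irreducibleComponents_of_flat_finiteType h1

end Groth.Agent.Lib.helper5.IrrCover
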