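import Mathlib
import Groth.Agent.Lib.Helper5.IrrCompCover
import Groth.Agent.Lib.Helper5.AlgSpDimIneq

/-!
# Locally finitely many irreducible components: descent, codimension zero points (helper5)

* `finite_irreducibleComponents_of_surjective`: the continuous surjective image of a space with finitely many
  irreducible components has finitely many irreducible components.
* `locFinIrr_of_open_surjective`: `LocFinIrr` descends along open surjective morphisms (e.g. étale surjective).
* `stalk_dim_eq_zero_iff`: `dim 𝒪_{X,x} = 0 ↔ x` is a generic point of an irreducible component.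
* `finite_codimZero_iff`: for a scheme, finitely many irreducible components iff finitely many codimension zero points.
-/

set_option autoImplicit false
universe u
open CategoryTheory AlgebraicGeometry Topology

namespace Groth.Agent.Lib.helper5.IrrCover

theorem finite_irreducibleComponents_of_surjective {A B : Type*} [TopologicalSpace A] [TopologicalSpace B]
    (q : A → B) (hq : Continuous q) (hs : Function.Surjective q) (h : (irreducibleComponents A).Finite) :
    (irreducibleComponents B).Finite := by
  classical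
  have hfin := h.image (fun Z => closure (q '' Z))
  refine hfin.subset ?_
  intro W hW
  have hcov : W ⊆ ⋃₀ (↑hfin.toFinset : Set (Set B)) := by
    intro w _
    obtain ⟨a, rfl⟩ := hs w
    have : a ∈ ⋃₀ irreducibleComponents A := by rw [sUnion_irreducibleComponents]; trivial
    obtain ⟨Z, hZ, haZ⟩ := this
    refine ⟨closure (q '' Z), ?_, subset_closure ⟨a, haZ, rfl⟩⟩
    rw [Set.Finite.coe_toFinset]
    exact ⟨Z, hZ, rfl⟩
  obtain ⟨z, hz, hWz⟩ := (isIrreducible_iff_sUnion_isClosed.1 hW.1) hfin.toFinset
    (fun z hz => by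
      rw [Set.Finite.mem_toFinset] at hz
      obtain ⟨Z, -, rfl⟩ := hz
      exact isClosed_closure) hcov
  rw [Set.Finite.mem_toFinset] at hz
  obtain ⟨Z, hZ, rfl⟩ := hz
  refine ⟨Z, hZ, ?_⟩
  have hirr : IsIrreducible (closure (q '' Z)) := (hZ.1.image q hq.continuousOn).closure
  exact (hWz.antisymm (hW.2 hirr hWz)).symm

/-- `LocFinIrr` descends along open surjective morphisms. -/
theorem locFinIrr_of_open_surjective {W U : Scheme.{u}} (g : W ⟶ U) (hg : IsOpenMap g)
    (hs : Function.Surjective g) (hW : LocFinIrr W) : LocFinIrr U := by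
  intro O hO
  -- affine opens of `W` inside `g ⁻¹ O`
  have hex : ∀ w : W, g w ∈ O → ∃ V : W.Opens, IsAffineOpen V ∧ w ∈ V ∧ V ≤ g ⁻¹ᵁ O := by
    intro w hw
    obtain ⟨_, ⟨V, hV, rfl⟩, hwV, hVO⟩ :=
      W.isBasis_affineOpens.exists_subset_of_mem_open (show w ∈ ((g ⁻¹ᵁ O : W.Opens) : Set W) from hw)
        (g ⁻¹ᵁ O).2
    exact ⟨V, hV, hwV, hVO⟩
  choose V hV hwV hVO using hex
  let cov : {w : W // g w ∈ O} → Set U := fun w => g '' (V w.1 w.2 : Set W)
  obtain ⟨t, ht⟩ := hO.elim_finite_subcover cov (fun w => hg _ (V w.1 w.2).2)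
    (fun u hu => by
      obtain ⟨w, rfl⟩ := hs u
      exact Set.mem_iUnion.2 ⟨⟨w, hu⟩, w, hwV w hu, rfl⟩)
  let O' : W.Opens := ⨆ w ∈ t, V w.1 w.2
  have hO'c : IsCompact (O' : Set W) := by
    have : (O' : Set W) = ⋃ w ∈ t, (V w.1 w.2 : Set W) := by
      simp only [O', TopologicalSpace.Opens.coe_iSup]
    rw [this]
    exact t.isCompact_biUnion fun w _ => (hV w.1 w.2).isCompact
  have hO'O : O' ≤ g ⁻¹ᵁ O := by
    refine iSup₂_le fun w _ => hVO w.1 w.2
  have hfin := hW O' hO'c
  let q : ↥O' → ↥O := fun w => ⟨g w.1, hO'O w.2⟩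
  have hqc : Continuous q := (g.continuous.comp continuous_subtype_val).subtype_mk _
  have hqs : Function.Surjective q := by
    rintro ⟨u, hu⟩
    obtain ⟨w, hwt, w', hw', rfl⟩ := Set.mem_iUnion₂.1 (ht hu)
    refine ⟨⟨w', ?_⟩, rfl⟩
    exact TopologicalSpace.Opens.mem_iSup.2 ⟨w, TopologicalSpace.Opens.mem_iSup.2 ⟨hwt, hw'⟩⟩
  exact finite_irreducibleComponents_of_surjective q hqc hqs hfin

theorem isMaxPt_of_stalk_dim_eq_zero {X : Scheme.{u}} (x : X)
    (h : ringKrullDim (X.presheaf.stalk x) = 0) (y : X) (hy : y ⤳ x) : y = x := by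
  have hy' : y ∈ Set.range (X.fromSpecStalk x) := by
    rw [Scheme.range_fromSpecStalk]; exact hy
  obtain ⟨p, rfl⟩ := hy'
  haveI : Ring.KrullDimLE 0 (X.presheaf.stalk x) := by
    rw [Ring.krullDimLE_iff]; exact h.le
  have hp : p = IsLocalRing.closedPoint (X.presheaf.stalk x) := by
    apply PrimeSpectrum.ext
    haveI := p.isPrime
    have : p.asIdeal.IsMaximal := Ideal.IsPrime.isMaximal' inferInstance
    exact IsLocalRing.eq_maximalIdeal this
  rw [hp, Scheme.fromSpecStalk_closedPoint]

theorem closure_mem_irreducibleComponents_of_forall_specializes {X : Type*} [TopologicalSpace X] [QuasiSober X]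
    [T0Space X] (η : X) (h : ∀ y : X, y ⤳ η → y = η) : closure {η} ∈ irreducibleComponents X := by
  refine ⟨isIrreducible_singleton.closure, ?_⟩
  intro Z hZ hle
  have hZc : IsIrreducible (closure Z) := hZ.closure
  obtain ⟨ζ, hζ⟩ := QuasiSober.sober hZc isClosed_closure
  have hζZ : closure {ζ} = closure Z := hζ
  have hηZ : η ∈ closure Z := subset_closure (hle (subset_closure rfl))
  have hsp : ζ ⤳ η := by
    rw [specializes_iff_mem_closure, hζZ]
    exact hηZ
  have := h ζ hsp
  subst this
  exact subset_closure.trans hζZ.symm.le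

theorem stalk_dim_eq_zero_iff {X : Scheme.{u}} (x : X) :
    ringKrullDim (X.presheaf.stalk x) = 0 ↔ closure ({x} : Set X) ∈ irreducibleComponents X :=
  ⟨fun h => closure_mem_irreducibleComponents_of_forall_specializes x (isMaxPt_of_stalk_dim_eq_zero x h),
    AlgSpDimIneq.stalk_dim_eq_zero_of_generic x⟩

/-- a scheme has finitely many irreducible components iff it has finitely many codimension zero points -/
theorem finite_codimZero_iff (X : Scheme.{u}) :
    {x : X | ringKrullDim (X.presheaf.stalk x) = 0}.Finite ↔ (irreducibleComponents X).Finite := by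
  have h1 : {x : X | ringKrullDim (X.presheaf.stalk x) = 0} = genericPoints X := by
    ext x
    exact stalk_dim_eq_zero_iff x
  rw [h1]
  constructor
  · intro h
    haveI : Finite (genericPoints X) := h.to_subtype
    rw [← Set.finite_coe_iff]
    exact Finite.of_equiv _ (genericPoints.equiv (α := X))
  · exact genericPoints.finite

end Groth.Agent.Lib.helper5.IrrCover
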