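import Groth.Agent.Lib.Helper5.DimSupLocalDim
import Groth.Agent.Lib.Helper5.LocFinIrr
import Groth.Agent.Lib.Helper3.RelDim

/-!
# Irreducible components and extension of the base field (helper5)

* `dim_eq_localDim_of_mem_irreducibleComponents` : for `F` locally of finite type over a field and `ζ`
  the generic point of an irreducible component `T`, `dim T = dim_ζ F`.
* `forall_specializes_of_mem_irreducibleComponents`, `closure_map_mem_irreducibleComponents`
  (generalizing maps send maximal points to maximal points).
* `image_dim_irreducibleComponents_eq` : the dimensions of the irreducible components of `X ×_k K`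
  are those of the irreducible components of `X`.
-/

set_option autoImplicit false
universe u
open CategoryTheory CategoryTheory.Limits AlgebraicGeometry

namespace Groth.Agent.Lib.helper5.FieldBC

open Groth.Agent.Lib.helper3.FTField Groth.Agent.Lib.helper3.DimIneq
  Groth.Agent.Lib.helper5.IrrCover

theorem dim_eq_localDim_of_mem_irreducibleComponents (k : Type u) [Field k] (F : Scheme.{u})
    [F.Over (Spec (CommRingCat.of k))] [LocallyOfFiniteType (F ↘ Spec (CommRingCat.of k))]
    (ζ : F) (hT : closure ({ζ} : Set F) ∈ irreducibleComponents (F : Type u)) :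
    topologicalKrullDim ↥(closure ({ζ} : Set F)) = FlatMor.localDim F ζ := by
  obtain ⟨n, hn⟩ := exists_nat_trdeg_residueField k F ζ
  rw [dim_closure_eq_trdeg k F ζ n hn]
  obtain ⟨W, hW, hζW, -⟩ := exists_isAffineOpen_mem_and_subset (x := ζ) (U := ⊤) trivial
  have hmin := mem_minimalPrimes_of_closure_mem_irreducibleComponents F hW ζ hζW hT
  have hb' : ringKrullDim (F.presheaf.stalk ζ) = ((0 : ℕ) : WithBot ℕ∞) := by
    rw [ringKrullDim_stalk_eq_height hW ζ hζW, Ideal.height_eq_zero_iff.mpr hmin]; rfl
  rw [localDim_eq k F ζ n 0 hn hb']
  rfl

theorem forall_specializes_of_mem_irreducibleComponents {X : Type*} [TopologicalSpace X] [T0Space X]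
    (η : X) (h : closure ({η} : Set X) ∈ irreducibleComponents X) (y : X) (hy : y ⤳ η) : y = η := by
  have h1 : closure ({η} : Set X) ⊆ closure {y} := by
    apply closure_minimal _ isClosed_closure
    rintro _ rfl
    exact specializes_iff_mem_closure.mp hy
  have h2 : closure ({y} : Set X) ⊆ closure {η} := h.2 isIrreducible_singleton.closure h1
  have h3 : η ⤳ y := specializes_iff_mem_closure.mpr (h2 (subset_closure rfl))
  exact (hy.antisymm h3).eq

theorem closure_map_mem_irreducibleComponents {X' X : Type*} [TopologicalSpace X'] [TopologicalSpace X]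
    [T0Space X'] [QuasiSober X] [T0Space X] (π : X' → X) (hπ : GeneralizingMap π) (ζ' : X')
    (h : closure ({ζ'} : Set X') ∈ irreducibleComponents X') :
    closure ({π ζ'} : Set X) ∈ irreducibleComponents X := by
  apply closure_mem_irreducibleComponents_of_forall_specializes
  intro y hy
  obtain ⟨y', hy', rfl⟩ := hπ hy
  rw [forall_specializes_of_mem_irreducibleComponents ζ' h y' hy']

end Groth.Agent.Lib.helper5.FieldBC
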