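import Groth.Agent.Lib.Helper5.KrullComp

/-!
# Components of the preimage of a regularly immersed subscheme (helper5)

* `mem_range_iff_of_ker_eq` : over an affine open `U` where `ι` is a closed immersion with ideal
  `(rs)`, `x ∈ range ι ↔ all rs vanish at x`.
* `trdeg_le_of_maximal_in_preimage` : Krull's height theorem along `π : C ⟶ X`.
* `exists_generic_of_mem_irreducibleComponents(')` : generic points of irreducible components of a
  locally closed subspace.
* `dim_le_of_forall_irreducibleComponents`, `dim_subtype_image`, `add_le_iff_le_sub`.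
-/

set_option autoImplicit false
universe u
open CategoryTheory AlgebraicGeometry Function

namespace Groth.Agent.Lib.helper5.KrullComp2

open Groth.Agent.Lib.helper3.DimIneq Groth.Agent.Lib.helper3.FTField
open Groth.Agent.Lib.helper5.KrullComp

/-- Points of an affine open `U` over which `ι` is a closed immersion cut out by `rs`: they lie in
the range of `ι` iff all the `rs` vanish there. -/
theorem mem_range_iff_of_ker_eq {W X : Scheme.{u}} (ι : W ⟶ X) [QuasiCompact ι]
    (U : X.affineOpens) (hcl : IsClosedImmersion (ι ∣_ U.1)) (rs : List Γ(X, U.1))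
    (hker : RingHom.ker (ι.app U.1).hom = Ideal.ofList rs) (x : X) (hx : x ∈ U.1) :
    x ∈ Set.range ι ↔ ∀ r ∈ rs, x ∉ X.basicOpen r := by
  constructor
  · rintro ⟨w, rfl⟩ r hr hmem
    have h0 : (ι.app U.1).hom r = 0 := by
      rw [← RingHom.mem_ker, hker]
      exact Ideal.subset_span (by simpa using hr)
    have h1 : w ∈ ι ⁻¹ᵁ (X.basicOpen r) := hmem
    rw [Scheme.Hom.preimage_basicOpen] at h1
    change w ∈ W.basicOpen ((ι.app U.1).hom r) at h1
    rw [h0, Scheme.basicOpen_zero] at h1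
    exact h1
  · intro h
    have h1 : x ∈ ι.ker.support := by
      rw [AlgebraicGeometry.Scheme.IdealSheafData.mem_support_iff_of_mem (U := U) hx,
        Scheme.Hom.ker_apply, hker, Scheme.mem_zeroLocus_iff]
      intro f hf
      rw [← mem_primeIdealOf_iff U.2 x hx]
      have : Ideal.ofList rs ≤ (U.2.primeIdealOf ⟨x, hx⟩).asIdeal := by
        rw [Ideal.ofList, Ideal.span_le]
        intro r hr
        exact (mem_primeIdealOf_iff U.2 x hx r).2 (h r (by simpa using hr))
      exact this hf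
    have h1' : x ∈ closure (Set.range ι) := by
      rw [← Scheme.Hom.support_ker]
      exact h1
    have h2 : IsClosed (Set.range (ι ∣_ U.1)) := (ι ∣_ U.1).isClosedEmbedding.isClosed_range
    obtain ⟨F, hF, hFeq⟩ := (U.1.ι.isOpenEmbedding.isInducing.isClosed_iff).1 h2
    have hfac : ∀ z : ↥(ι ⁻¹ᵁ U.1), U.1.ι ((ι ∣_ U.1) z) = ι z.1 := fun z =>
      morphismRestrict_base_coe ι U.1 z
    have h3 : (U.1 : Set X) ∩ Set.range ι ⊆ F := by
      rintro _ ⟨hw, w, rfl⟩
      have : (ι ∣_ U.1) ⟨w, hw⟩ ∈ U.1.ι ⁻¹' F := by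
        rw [hFeq]
        exact ⟨_, rfl⟩
      rw [Set.mem_preimage, hfac] at this
      exact this
    have h4 : x ∈ F := closure_minimal h3 hF (U.1.isOpen.inter_closure ⟨hx, h1'⟩)
    have h5 : (⟨x, hx⟩ : ↥U.1) ∈ U.1.ι ⁻¹' F := h4
    rw [hFeq] at h5
    obtain ⟨z, hz⟩ := h5
    refine ⟨z.1, ?_⟩
    rw [← hfac, hz]
    rfl

/-- Krull's height theorem along a morphism `π : C ⟶ X`: `ξ` maximal among the points of
`cl{η} ∩ π⁻¹ Z` specializing to it, `Z` cut out by `rs` in the affine open `U ∋ π ξ`. -/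
theorem trdeg_le_of_maximal_in_preimage (k : Type u) [Field k] (C : Scheme.{u})
    [C.Over (Spec (CommRingCat.of k))] [LocallyOfFiniteType (C ↘ Spec (CommRingCat.of k))]
    {X : Scheme.{u}} (π : C ⟶ X) (U : X.affineOpens) (rs : List Γ(X, U.1)) (Z : Set X)
    (hZ : ∀ x ∈ U.1, (x ∈ Z ↔ ∀ r ∈ rs, x ∉ X.basicOpen r))
    (η ξ : C) (hηξ : η ⤳ ξ) (hξU : π ξ ∈ U.1) (hξZ : π ξ ∈ Z)
    (hmax : ∀ ζ : C, η ⤳ ζ → ζ ⤳ ξ → π ζ ∈ Z → ζ = ξ) (n m : ℕ)
    (hn : @Algebra.trdeg k (C.residueField η) _ _ (Curv2.resAlgebra k C η) = n)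
    (hm : @Algebra.trdeg k (C.residueField ξ) _ _ (Curv2.resAlgebra k C ξ) = m) :
    n ≤ m + rs.length := by
  obtain ⟨V, hV, hξV, hVU⟩ := exists_isAffineOpen_mem_and_subset (x := ξ) (U := π ⁻¹ᵁ U.1) hξU
  have hηV : η ∈ V := hηξ.mem_open V.isOpen hξV
  have e : V ≤ π ⁻¹ᵁ U.1 := hVU
  have hbo : ∀ (r : Γ(X, U.1)) (ζ : C), ζ ∈ V →
      (ζ ∈ C.basicOpen ((π.appLE U.1 V e).hom r) ↔ π ζ ∈ X.basicOpen r) := by
    intro r ζ hζ
    rw [Scheme.basicOpen_appLE]
    exact ⟨fun h => h.2, fun h => ⟨hζ, h⟩⟩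
  have := trdeg_le_trdeg_add_length k C hV η ξ hηV hξV hηξ (rs.map (π.appLE U.1 V e).hom) ?_ ?_
    n m hn hm
  · rwa [List.length_map] at this
  · intro f hf
    rw [List.mem_map] at hf
    obtain ⟨r, hr, rfl⟩ := hf
    rw [hbo r ξ hξV]
    exact (hZ _ hξU).1 hξZ r hr
  · intro ζ hζV h1 h2 h3
    apply hmax ζ h1 h2
    rw [hZ _ (e hζV)]
    intro r hr
    rw [← hbo r ζ hζV]
    exact h3 _ (List.mem_map.2 ⟨r, hr, rfl⟩)

/-- Generic points of the irreducible components of a locally closed subspace `O ∩ Z`. -/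
theorem exists_generic_of_mem_irreducibleComponents {T : Type*} [TopologicalSpace T] [QuasiSober T]
    [T0Space T] (O Z : Set T) (hO : IsOpen O) (hZ : IsClosed Z)
    (Q : Set ↥(O ∩ Z)) (hQ : Q ∈ irreducibleComponents ↥(O ∩ Z)) :
    ∃ ξ : T, ξ ∈ O ∩ Z ∧ Subtype.val '' Q = closure {ξ} ∩ O ∧
      ∀ ζ ∈ O ∩ Z, ζ ⤳ ξ → ζ = ξ := by
  have hQirr : IsIrreducible Q := hQ.1
  have hQcl : IsClosed Q := isClosed_of_mem_irreducibleComponents _ hQ
  have hI : IsIrreducible (closure ((Subtype.val : ↥(O ∩ Z) → T) '' Q)) :=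
    (hQirr.image _ continuous_subtype_val.continuousOn).closure
  obtain ⟨ξ, hξ⟩ := QuasiSober.sober hI isClosed_closure
  have hξI : closure ({ξ} : Set T) = closure ((Subtype.val : ↥(O ∩ Z) → T) '' Q) := hξ.def
  obtain ⟨y, hy⟩ := hQirr.nonempty
  have hyI : y.1 ∈ closure ({ξ} : Set T) := by
    rw [hξI]
    exact subset_closure ⟨y, hy, rfl⟩
  have hξO : ξ ∈ O := (specializes_iff_mem_closure.2 hyI).mem_open hO y.2.1
  have hIZ : closure ((Subtype.val : ↥(O ∩ Z) → T) '' Q) ⊆ Z :=
    closure_minimal (by rintro _ ⟨z, -, rfl⟩; exact z.2.2) hZ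
  have hξZ : ξ ∈ Z := hIZ (hξI ▸ subset_closure rfl)
  have hQeq : Q = (Subtype.val : ↥(O ∩ Z) → T) ⁻¹' closure ((Subtype.val : ↥(O ∩ Z) → T) '' Q) := by
    rw [← Topology.IsInducing.subtypeVal.closure_eq_preimage_closure_image, hQcl.closure_eq]
  have himage : Subtype.val '' Q = closure {ξ} ∩ O := by
    rw [hξI]
    conv_lhs => rw [hQeq]
    rw [Subtype.image_preimage_coe]
    ext z
    constructor
    · rintro ⟨h1, h2⟩
      exact ⟨h2, h1.1⟩
    · rintro ⟨h1, h2⟩
      exact ⟨⟨h2, hIZ h1⟩, h1⟩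
  refine ⟨ξ, ⟨hξO, hξZ⟩, himage, ?_⟩
  intro ζ hζ hζξ
  have hQ'irr : IsIrreducible (closure ({(⟨ζ, hζ⟩ : ↥(O ∩ Z))} : Set ↥(O ∩ Z))) :=
    isIrreducible_singleton.closure
  have hle : Q ≤ closure ({(⟨ζ, hζ⟩ : ↥(O ∩ Z))} : Set ↥(O ∩ Z)) := by
    intro z hz
    rw [Topology.IsInducing.subtypeVal.closure_eq_preimage_closure_image, Set.image_singleton]
    have h1 : z.1 ∈ closure ({ξ} : Set T) := by
      rw [hξI]
      exact subset_closure ⟨z, hz, rfl⟩
    have h2 : ζ ⤳ z.1 := hζξ.trans (specializes_iff_mem_closure.2 h1)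
    exact specializes_iff_mem_closure.1 h2
  have hge := hQ.2 hQ'irr hle
  have hζQ : (⟨ζ, hζ⟩ : ↥(O ∩ Z)) ∈ Q := hge (subset_closure rfl)
  have h3 : ζ ∈ closure ({ξ} : Set T) := by
    rw [hξI]
    exact subset_closure ⟨_, hζQ, rfl⟩
  exact (hζξ.antisymm (specializes_iff_mem_closure.2 h3)).eq

theorem exists_generic_of_mem_irreducibleComponents' {T : Type*} [TopologicalSpace T]
    [QuasiSober T] [T0Space T] (S O Z : Set T) (hS : S = O ∩ Z) (hO : IsOpen O) (hZ : IsClosed Z)
    (Q : Set ↥S) (hQ : Q ∈ irreducibleComponents ↥S) :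
    ∃ ξ : T, ξ ∈ S ∧ Subtype.val '' Q = closure {ξ} ∩ O ∧ ∀ ζ ∈ S, ζ ⤳ ξ → ζ = ξ := by
  subst hS
  exact exists_generic_of_mem_irreducibleComponents O Z hO hZ Q hQ

/-- In a Noetherian space the dimension is bounded by the dimensions of the irreducible
components. -/
theorem dim_le_of_forall_irreducibleComponents {T : Type*} [TopologicalSpace T]
    [TopologicalSpace.NoetherianSpace T] (N : WithBot ℕ∞)
    (h : ∀ Q ∈ irreducibleComponents T, topologicalKrullDim ↥Q ≤ N) :
    topologicalKrullDim T ≤ N := by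
  have hfin : (irreducibleComponents T).Finite :=
    TopologicalSpace.NoetherianSpace.finite_irreducibleComponents
  haveI : Finite (irreducibleComponents T) := hfin
  rw [Groth.Agent.Lib.helper3.TopDim.dim_eq_iSup_of_locallyFinite_closed_cover
    (fun P : irreducibleComponents T => (P : Set T))
    (fun P => isClosed_of_mem_irreducibleComponents _ P.2) (locallyFinite_of_finite _)
    (by rw [← Set.sUnion_eq_iUnion]; exact sUnion_irreducibleComponents)]
  exact iSup_le fun P => h P.1 P.2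

/-- The dimension of a subspace of a subspace. -/
theorem dim_subtype_image {T : Type*} [TopologicalSpace T] (S : Set T) (Q : Set ↥S) :
    topologicalKrullDim ↥Q = topologicalKrullDim ↥((Subtype.val : ↥S → T) '' Q) := by
  have hf : Topology.IsInducing (fun z : ↥Q => (z.1.1 : T)) :=
    Topology.IsInducing.subtypeVal.comp Topology.IsInducing.subtypeVal
  have hr : Set.range (fun z : ↥Q => (z.1.1 : T)) = (Subtype.val : ↥S → T) '' Q := by
    ext t
    constructor
    · rintro ⟨z, rfl⟩
      exact ⟨z.1, z.2, rfl⟩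
    · rintro ⟨z, hz, rfl⟩
      exact ⟨⟨z, hz⟩, rfl⟩
  apply le_antisymm
  · exact Groth.Agent.Lib.helper3.TopDim.dim_le_of_range_subset hf
      Topology.IsInducing.subtypeVal (by rw [hr, Subtype.range_coe])
  · exact Groth.Agent.Lib.helper3.TopDim.dim_le_of_range_subset
      Topology.IsInducing.subtypeVal hf (by rw [hr, Subtype.range_coe])

/-- `a + c ≤ n ↔ a ≤ N` in `WithBot ℕ∞`, where `N = n - c` or `⊥`. -/
theorem add_le_iff_le_sub (n c : ℕ) (a : WithBot ℕ∞) :
    a + (c : WithBot ℕ∞) ≤ (n : WithBot ℕ∞) ↔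
      a ≤ (if c ≤ n then ((n - c : ℕ) : WithBot ℕ∞) else ⊥) := by
  by_cases hcn : c ≤ n
  · rw [if_pos hcn]
    obtain ⟨d, rfl⟩ : ∃ d, n = d + c := ⟨n - c, by omega⟩
    rw [Nat.add_sub_cancel]
    induction a using WithBot.recBotCoe with
    | bot => simp
    | coe a =>
      induction a using ENat.recTopCoe with
      | top =>
        constructor
        · intro h
          exfalso
          have : ((⊤ : ℕ∞) : WithBot ℕ∞) + (c : WithBot ℕ∞) = ((⊤ : ℕ∞) : WithBot ℕ∞) := by
            rfl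
          rw [this] at h
          have h' : (⊤ : ℕ∞) ≤ ((d + c : ℕ) : ℕ∞) := by exact_mod_cast h
          exact absurd h' (by simp)
        · intro h
          exfalso
          have h' : (⊤ : ℕ∞) ≤ ((d : ℕ) : ℕ∞) := by exact_mod_cast h
          exact absurd h' (by simp)
      | coe a =>
        constructor
        · intro h
          have h' : a + c ≤ d + c := by exact_mod_cast h
          have : a ≤ d := by omega
          exact_mod_cast this
        · intro h
          have h' : a ≤ d := by exact_mod_cast h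
          have : a + c ≤ d + c := by omega
          exact_mod_cast this
  · rw [if_neg hcn]
    induction a using WithBot.recBotCoe with
    | bot => simp
    | coe a =>
      induction a using ENat.recTopCoe with
      | top =>
        constructor
        · intro h
          exfalso
          have : ((⊤ : ℕ∞) : WithBot ℕ∞) + (c : WithBot ℕ∞) = ((⊤ : ℕ∞) : WithBot ℕ∞) := by
            rfl
          rw [this] at h
          have h' : (⊤ : ℕ∞) ≤ ((n : ℕ) : ℕ∞) := by exact_mod_cast h
          exact absurd h' (by simp)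
        · intro h
          exact absurd h (by simp)
      | coe a =>
        constructor
        · intro h
          exfalso
          have h' : a + c ≤ n := by exact_mod_cast h
          omega
        · intro h
          exact absurd h (by simp)

end Groth.Agent.Lib.helper5.KrullComp2
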