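import Mathlib
import Groth.Agent.Lib.Helper5.LocFinIrr

/-!
# Locally finite irreducible components vs. `LocFinIrr` (helper5)

`locallyFinite_irreducibleComponents_iff`: for a scheme, the family of irreducible components is locally finite iff every
quasi-compact open has finitely many irreducible components.
-/

set_option autoImplicit false
universe u
open CategoryTheory AlgebraicGeometry Topology

namespace Groth.Agent.Lib.helper5.IrrCover

/-- irreducible components of an open subspace are traces of irreducible components meeting it -/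
theorem irreducibleComponents_subset_image_of_isOpenEmbedding {Y T : Type*} [TopologicalSpace Y] [TopologicalSpace T]
    (f : Y → T) (hf : IsOpenEmbedding f) :
    irreducibleComponents Y ⊆ (fun Z => f ⁻¹' Z) '' {Z ∈ irreducibleComponents T | (Z ∩ Set.range f).Nonempty} := by
  intro W hW
  obtain ⟨Z, hZ, hWZ⟩ := exists_mem_irreducibleComponents_subset_of_isIrreducible (f '' W)
    (hW.1.image f hf.continuous.continuousOn)
  have hne : (Z ∩ Set.range f).Nonempty := by
    obtain ⟨w, hw⟩ := hW.1.1
    exact ⟨f w, hWZ ⟨w, hw, rfl⟩, w, rfl⟩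
  refine ⟨Z, ⟨hZ, hne⟩, ?_⟩
  have h1 : f ⁻¹' Z ∈ irreducibleComponents Y := preimage_mem_irreducibleComponents hZ hf hne
  have h2 : W ⊆ f ⁻¹' Z := fun w hw => hWZ ⟨w, hw, rfl⟩
  exact (h2.antisymm (hW.2 h1.1 h2)).symm

/-- the irreducible components of `T` meeting an open subspace with finitely many irreducible components are finite -/
theorem finite_meeting_of_isOpenEmbedding {Y T : Type*} [TopologicalSpace Y] [TopologicalSpace T]
    (f : Y → T) (hf : IsOpenEmbedding f) (h : (irreducibleComponents Y).Finite) :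
    {Z ∈ irreducibleComponents T | (Z ∩ Set.range f).Nonempty}.Finite := by
  refine Set.Finite.of_finite_image (f := fun Z => f ⁻¹' Z) (h.subset ?_) ?_
  · rintro _ ⟨Z, ⟨hZ, hne⟩, rfl⟩
    exact preimage_mem_irreducibleComponents hZ hf hne
  · rintro Z ⟨hZ, hne⟩ Z' ⟨hZ', hne'⟩ (heq : f ⁻¹' Z = f ⁻¹' Z')
    have hn : (f ⁻¹' Z).Nonempty := by
      obtain ⟨_, hz, y, rfl⟩ := hne
      exact ⟨y, hz⟩
    have hn' : (f ⁻¹' Z').Nonempty := heq ▸ hn
    rw [← closure_image_preimage_of_isPreirreducible f hf.isOpenMap Z hn hZ.1.2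
        (isClosed_of_mem_irreducibleComponents Z hZ),
      ← closure_image_preimage_of_isPreirreducible f hf.isOpenMap Z' hn' hZ'.1.2
        (isClosed_of_mem_irreducibleComponents Z' hZ'), heq]

theorem locallyFinite_irreducibleComponents_iff (X : Scheme.{u}) :
    LocallyFinite (fun Z : ↥(irreducibleComponents ↥X) => (Z : Set ↥X)) ↔ LocFinIrr X := by
  constructor
  · intro h W hW
    -- `W` meets finitely many components
    have h1 : {Z : ↥(irreducibleComponents ↥X) | ((Z : Set ↥X) ∩ (W : Set X)).Nonempty}.Finite :=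
      h.finite_nonempty_inter_compact hW
    have h2 : {Z ∈ irreducibleComponents ↥X | (Z ∩ Set.range (Subtype.val : ↥W → X)).Nonempty}.Finite := by
      refine (h1.image Subtype.val).subset ?_
      rintro Z ⟨hZ, hne⟩
      refine ⟨⟨Z, hZ⟩, ?_, rfl⟩
      rw [Subtype.range_coe] at hne
      exact hne
    exact (h2.image _).subset
      (irreducibleComponents_subset_image_of_isOpenEmbedding (Subtype.val : ↥W → X) W.2.isOpenEmbedding_subtypeVal)
  · intro h x
    obtain ⟨_, ⟨U, hU, rfl⟩, hxU, -⟩ :=
      X.isBasis_affineOpens.exists_subset_of_mem_open (Set.mem_univ x) isOpen_univ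
    refine ⟨U, U.2.mem_nhds hxU, ?_⟩
    have h1 := finite_meeting_of_isOpenEmbedding (Subtype.val : ↥U → X) U.2.isOpenEmbedding_subtypeVal
      (h U (IsAffineOpen.isCompact hU))
    rw [Subtype.range_coe] at h1
    refine Set.Finite.of_finite_image (f := Subtype.val) (h1.subset ?_) Subtype.val_injective.injOn
    rintro _ ⟨Z, hZ, rfl⟩
    exact ⟨Z.2, hZ⟩

end Groth.Agent.Lib.helper5.IrrCover
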