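import Mathlib
import Groth.Prelude.Def_EGA4b

/-!
# The dimension of the fibre local ring `B_Q / p B_Q` (helper5)

`ringKrullDim_fibLocRing` : `dim (B_Q / p B_Q) = ht (Q / pB)` (height in `B / pB`), `p = Q ∩ A`.
-/

set_option autoImplicit false
universe u v

namespace Groth.Agent.Lib.helper5.FibLoc

variable (A : Type u) (B : Type v) [CommRing A] [CommRing B] [Algebra A B] (Q : Ideal B) [Q.IsPrime]

theorem map_comap_le : (Q.comap (algebraMap A B)).map (algebraMap A B) ≤ Q := Ideal.map_comap_le

theorem isPrime_map_mk :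
    (Q.map (Ideal.Quotient.mk ((Q.comap (algebraMap A B)).map (algebraMap A B)))).IsPrime := by
  apply Ideal.map_isPrime_of_surjective Ideal.Quotient.mk_surjective
  rw [Ideal.mk_ker]
  exact map_comap_le A B Q

theorem ringKrullDim_fibLocRing :
    ringKrullDim (EGA4.FibLocRing A B Q) =
      ((Q.map (Ideal.Quotient.mk ((Q.comap (algebraMap A B)).map (algebraMap A B)))).height :
        WithBot ℕ∞) := by
  set I := (Q.comap (algebraMap A B)).map (algebraMap A B) with hI
  have hIQ : I ≤ Q := map_comap_le A B Q
  haveI hP : (Q.map (Ideal.Quotient.mk I)).IsPrime := isPrime_map_mk A B Q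
  -- the ideal of the fibre local ring
  have hJ : (Q.comap (algebraMap A B)).map (algebraMap A (Localization.AtPrime Q)) =
      I.map (algebraMap B (Localization.AtPrime Q)) := by
    rw [hI, Ideal.map_map, ← IsScalarTower.algebraMap_eq]
  have e : EGA4.FibLocRing A B Q ≃+* (Localization.AtPrime Q ⧸ I.map (algebraMap B (Localization.AtPrime Q))) :=
    Ideal.quotEquivOfEq hJ
  rw [ringKrullDim_eq_of_ringEquiv e]
  -- localisation of the quotient
  haveI hlies : (Q.map (Ideal.Quotient.mk I)).LiesOver Q := by
    constructor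
    change Q = (Q.map (Ideal.Quotient.mk I)).comap (Ideal.Quotient.mk I)
    rw [Ideal.comap_map_of_surjective _ Ideal.Quotient.mk_surjective, ← RingHom.ker_eq_comap_bot,
      Ideal.mk_ker]
    exact (sup_eq_left.mpr hIQ).symm
  have hsub : Algebra.algebraMapSubmonoid (B ⧸ I) Q.primeCompl = (Q.map (Ideal.Quotient.mk I)).primeCompl :=
    Ideal.algebraMapSubmonoid_primeCompl_of_liesOver_surjective (p := Q) (P := Q.map (Ideal.Quotient.mk I))
      Ideal.Quotient.mk_surjective
  haveI : IsLocalization.AtPrime
      (Localization.AtPrime Q ⧸ I.map (algebraMap B (Localization.AtPrime Q)))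
      (Q.map (Ideal.Quotient.mk I)) := by
    change IsLocalization (Q.map (Ideal.Quotient.mk I)).primeCompl _
    rw [← hsub]
    infer_instance
  exact IsLocalization.AtPrime.ringKrullDim_eq_height (Q.map (Ideal.Quotient.mk I)) _

theorem ringKrullDim_fibLocRing' (p : Ideal A) (hp : Q.comap (algebraMap A B) = p) :
    ringKrullDim (EGA4.FibLocRing A B Q) =
      ((Q.map (Ideal.Quotient.mk (p.map (algebraMap A B)))).height : WithBot ℕ∞) := by
  subst hp
  exact ringKrullDim_fibLocRing A B Q

end Groth.Agent.Lib.helper5.FibLoc
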