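import Groth.Agent.Lib.Helper5.IntSplit
import Groth.Agent.Lib.Helper5.FinitePush

/-!
# Direct image along an integral morphism is exact on abelian étale sheaves (helper5)
-/

set_option autoImplicit false

namespace Groth.Agent.Lib.helper5.IntegralPush

open CategoryTheory CategoryTheory.Limits AlgebraicGeometry Opposite

universe u

variable {X Y : Scheme.{u}} (f : X ⟶ Y)

theorem preservesFiniteColimits_push_of_propB (hB : BigSite.PropB f) :
    PreservesFiniteColimits (EtCoh.push f) := by
  have := FinitePush.preservesHomology_push_of_propB f hB
  exact Functor.preservesFiniteColimits_of_preservesHomology _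

theorem preservesFiniteLimits_push : PreservesFiniteLimits (EtCoh.push f) := by
  have h : PreservesLimitsOfSize.{0, 0} (EtCoh.push f) :=
    (EtCoh.pullPushAdj f).rightAdjoint_preservesLimits
  exact PreservesLimitsOfSize.preservesFiniteLimits _

variable [IsIntegralHom f]

theorem preservesEpimorphisms_push_of_isIntegralHom : (EtCoh.push f).PreservesEpimorphisms :=
  PushEpi.preservesEpimorphisms_push f (IntSplit.propB_of_isIntegralHom f)

theorem preservesEpimorphisms_pushSh_of_isIntegralHom :
    (EtDesc.pushSh f).PreservesEpimorphisms :=
  PushEpi.preservesEpimorphisms_pushSh f (IntSplit.propB_of_isIntegralHom f)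

theorem isZero_Rpush_of_isIntegralHom (F : EtCoh.Ab X) (q : ℕ) (hq : 1 ≤ q) :
    IsZero ((EtCoh.Rpush f q).obj F) :=
  FinitePush.isZero_Rpush_of_propB f (IntSplit.propB_of_isIntegralHom f) F q hq

theorem preservesFiniteColimits_push_of_isIntegralHom :
    PreservesFiniteColimits (EtCoh.push f) :=
  preservesFiniteColimits_push_of_propB f (IntSplit.propB_of_isIntegralHom f)

theorem preservesHomology_push_of_isIntegralHom : (EtCoh.push f).PreservesHomology :=
  FinitePush.preservesHomology_push_of_propB f (IntSplit.propB_of_isIntegralHom f)

end Groth.Agent.Lib.helper5.IntegralPush
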