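import Mathlib
import Groth.Prelude.Def_Flat
import Groth.Agent.Lib.Helper3.FTFieldLocalDim

/-!
# Local dimension of the spectrum of a finite type algebra over a field, ring level (helper5)

* `dim_opens_eq_iSup_height` : for `W` open in `Spec B`, `dim W = sup_{y ∈ W} ht y`;
* `localDim_primeSpectrum_eq` : for `B` of finite type over a field `k` and a prime `q`,
  `dim_q Spec B = max_{p ≤ q minimal} trdeg_k (B/p)`.
-/

set_option autoImplicit false
universe u
open CategoryTheory AlgebraicGeometry Function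

namespace Groth.Agent.Lib.helper5.LocalDimFT

open Groth.Agent.Lib.helper3.FTField

theorem dim_opens_eq_iSup_height {B : Type u} [CommRing B]
    (W : TopologicalSpace.Opens (PrimeSpectrum B)) :
    topologicalKrullDim (W.1 : Set (PrimeSpectrum B)) =
      ⨆ y : W, ((y.1.asIdeal.height : ℕ∞) : WithBot ℕ∞) := by
  have h := dim_opens_eq_iSup_stalk (X := Spec (CommRingCat.of B)) W
  refine h.trans ?_
  congr 1
  funext y
  exact IsLocalization.AtPrime.ringKrullDim_eq_height y.1.asIdeal
    ((Spec.structureSheaf B).presheaf.stalk y.1)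

variable (k : Type u) [Field k] {B : Type u} [CommRing B] [Algebra k B] [Algebra.FiniteType k B]

theorem localDim_primeSpectrum_eq (q : Ideal B) [q.IsPrime] (N : ℕ)
    (hle : ∀ p ∈ minimalPrimes B, p ≤ q → Algebra.trdeg k (B ⧸ p) ≤ (N : Cardinal.{u}))
    (hex : ∃ p ∈ minimalPrimes B, p ≤ q ∧ Algebra.trdeg k (B ⧸ p) = (N : Cardinal.{u})) :
    FlatMor.localDim (PrimeSpectrum B) ⟨q, inferInstance⟩ = ((N : ℕ) : WithBot ℕ∞) := by
  haveI : IsNoetherianRing B := Algebra.FiniteType.isNoetherianRing k B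
  unfold FlatMor.localDim
  apply le_antisymm
  · -- upper bound: a basic open avoiding the components not through `q`
    have hfin : (minimalPrimes B).Finite := minimalPrimes.finite_of_isNoetherianRing _
    classical
    let s : Finset (Ideal B) := hfin.toFinset.filter (fun q0 => ¬ q0 ≤ q)
    have hnot : ¬ (s.inf id ≤ q) := by
      rw [Ideal.IsPrime.inf_le' inferInstance]
      rintro ⟨q0, hq0s, hq0q⟩
      exact (Finset.mem_filter.mp hq0s).2 hq0q
    obtain ⟨g, hgs, hgq⟩ := SetLike.not_le_iff_exists.mp hnot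
    have hxW : (⟨q, inferInstance⟩ : PrimeSpectrum B) ∈ PrimeSpectrum.basicOpen g := hgq
    refine le_trans (iInf_le _ ⟨PrimeSpectrum.basicOpen g, hxW⟩) ?_
    change topologicalKrullDim ((PrimeSpectrum.basicOpen g).1 : Set (PrimeSpectrum B)) ≤ _
    rw [dim_opens_eq_iSup_height]
    refine iSup_le fun y => ?_
    have hgy : g ∉ y.1.asIdeal := y.2
    obtain ⟨q0, hq0min, hq0le, hht⟩ := exists_minimalPrimes_height_map_eq y.1.asIdeal
    haveI := hq0min.1.1
    have hq0q : q0 ≤ q := by
      by_contra hcon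
      have h1 : q0 ∈ s := Finset.mem_filter.mpr ⟨hfin.mem_toFinset.mpr hq0min, hcon⟩
      have h2 : g ∈ q0 := (Finset.inf_le h1 : s.inf id ≤ id q0) hgs
      exact hgy (hq0le h2)
    have key1 := height_map_add_trdeg k q0 y.1.asIdeal hq0le
    rw [hht] at key1
    have h4 : ((y.1.asIdeal.height : ℕ∞) : Cardinal.{u}) ≤ ((N : ℕ) : Cardinal.{u}) :=
      calc ((y.1.asIdeal.height : ℕ∞) : Cardinal.{u}) ≤ _ := le_self_add
        _ = _ := key1
        _ ≤ _ := hle q0 hq0min hq0q
    have h5 : y.1.asIdeal.height ≤ ((N : ℕ) : ℕ∞) := by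
      rw [← Cardinal.ofENat_le_ofENat.{u}]
      simpa using h4
    exact_mod_cast h5
  · refine le_iInf fun ⟨W, hxW⟩ => ?_
    obtain ⟨p, hpmin, hpq, hpN⟩ := hex
    haveI := hpmin.1.1
    -- a basic open inside `W`
    obtain ⟨_, ⟨g, rfl⟩, hqg, hgW⟩ :=
      PrimeSpectrum.isTopologicalBasis_basic_opens.exists_subset_of_mem_open hxW W.isOpen
    have hgq : g ∉ q := hqg
    have hgp : g ∉ p := fun h => hgq (hpq h)
    -- a maximal ideal containing `p` and avoiding `g`
    obtain ⟨m, hm, hpm, hgm⟩ : ∃ m : Ideal B, m.IsMaximal ∧ p ≤ m ∧ g ∉ m := by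
      haveI : IsJacobsonRing B := isJacobsonRing_of_finiteType (A := k)
      have hjac : p.jacobson = p :=
        IsJacobsonRing.out inferInstance (Ideal.IsPrime.isRadical inferInstance)
      by_contra hcon
      push Not at hcon
      apply hgp
      rw [← hjac, Ideal.jacobson, Ideal.mem_sInf]
      rintro m ⟨hpm, hm⟩
      exact hcon m hm hpm
    haveI := hm
    haveI := hm.isPrime
    have key1 := height_map_add_trdeg k p m hpm
    rw [trdeg_quotient_eq_zero_of_isMaximal k m, add_zero, hpN] at key1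
    have h3 := height_map_le p m hpm
    have h4 : (m.map (Ideal.Quotient.mk p)).height = ((N : ℕ) : ℕ∞) := by
      rw [← Cardinal.ofENat_inj.{u}, key1]
      simp
    rw [h4] at h3
    change _ ≤ topologicalKrullDim (W.1 : Set (PrimeSpectrum B))
    rw [dim_opens_eq_iSup_height]
    have hmW : (⟨m, inferInstance⟩ : PrimeSpectrum B) ∈ W := hgW hgm
    refine le_trans ?_ (le_iSup _ ⟨⟨m, inferInstance⟩, hmW⟩)
    exact_mod_cast h3

end Groth.Agent.Lib.helper5.LocalDimFT
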