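import Groth.Agent.Lib.Helper5.FibClos3

/-!
# Fibrewise density, closedness, openness, local closedness loci (EGA IV 9.5.3, 9.5.4) (helper5)

* `isLocallyConstructible_setOf_fibre_dense`
* `isLocallyConstructible_setOf_fibre_isClosed`, `_isOpen`, `_isLocallyClosed`
-/

set_option autoImplicit false
set_option backward.isDefEq.respectTransparency false
universe u
open CategoryTheory CategoryTheory.Limits AlgebraicGeometry Topology TopologicalSpace

namespace Groth.Agent.Lib.helper5.FibClos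

theorem isLocallyConstructible_compl {X : Type*} [TopologicalSpace X] {s : Set X}
    (hs : IsLocallyConstructible s) : IsLocallyConstructible sᶜ := by
  intro x
  obtain ⟨U, hxU, hU, hsU⟩ := hs x
  refine ⟨U, hxU, hU, ?_⟩
  have : (Subtype.val ⁻¹' sᶜ : Set U) = (Subtype.val ⁻¹' s : Set U)ᶜ := rfl
  rw [this]
  exact hsU.compl

theorem isLocallyConstructible_sdiff {X : Type*} [TopologicalSpace X] {s t : Set X}
    (hs : IsLocallyConstructible s) (ht : IsLocallyConstructible t) :
    IsLocallyConstructible (s \ t) := by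
  rw [Set.sdiff_eq]
  exact hs.inter (isLocallyConstructible_compl ht)

section Top

variable {X : Type*} [TopologicalSpace X] (F Z : Set X)

theorem isClosed_preimage_val_iff :
    IsClosed (Subtype.val ⁻¹' Z : Set ↥F) ↔ ∀ x ∈ F, x ∈ closure (Z ∩ F) → x ∈ Z := by
  rw [Groth.Agent.Lib.helper5.ConsSep.isClosed_preimage_iff IsEmbedding.subtypeVal,
    Subtype.range_coe]
  constructor
  · intro h x hxF hxc
    by_contra hxZ
    exact h ⟨x, hxc, hxZ, hxF⟩
  · rintro h ⟨w, hw1, hw2, hw3⟩
    exact hw2 (h w hw3 hw1)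

theorem closure_preimage_val_sdiff :
    closure (Subtype.val ⁻¹' Z : Set ↥F) \ (Subtype.val ⁻¹' Z : Set ↥F) =
      (Subtype.val ⁻¹' (closure (Z ∩ F) \ Z) : Set ↥F) := by
  ext x
  have h : x ∈ closure (Subtype.val ⁻¹' Z : Set ↥F) ↔ (x : X) ∈ closure (Z ∩ F) := by
    rw [closure_subtype, Subtype.image_preimage_coe, Set.inter_comm]
  simp only [Set.mem_sdiff, Set.mem_preimage, h]

theorem isLocallyClosed_preimage_val_iff :
    IsLocallyClosed (Subtype.val ⁻¹' Z : Set ↥F) ↔
      IsClosed (Subtype.val ⁻¹' (closure (Z ∩ F) \ Z) : Set ↥F) := by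
  rw [isLocallyClosed_iff_isOpen_coborder, ← closure_preimage_val_sdiff, coborder,
    isOpen_compl_iff]

end Top

variable {X S : Scheme.{u}} (f : X ⟶ S)

theorem setOf_fibre_dense_eq (Z Z' : Set X) :
    {s : S | Z' ∩ f.base ⁻¹' {s} ⊆ closure (Z ∩ f.base ⁻¹' {s})} =
      (f '' (Z' \ fibClosure f Z))ᶜ := by
  ext s
  simp only [Set.mem_ofPred_eq, Set.mem_compl_iff, Set.mem_image, not_exists, not_and]
  constructor
  · rintro h x ⟨hxZ', hxn⟩ hxs
    apply hxn
    rw [mem_fibClosure_iff, hxs]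
    exact h ⟨hxZ', hxs⟩
  · rintro h x ⟨hxZ', hxs⟩
    have hxs' : f x = s := hxs
    by_contra hxc
    refine h x ⟨hxZ', fun hx => hxc ?_⟩ hxs'
    rw [mem_fibClosure_iff, hxs'] at hx
    exact hx

theorem setOf_fibre_isClosed_eq (Z : Set X) :
    {s : S | IsClosed (Subtype.val ⁻¹' Z : Set ↥(f.base ⁻¹' {s}))} =
      (f '' (fibClosure f Z \ Z))ᶜ := by
  ext s
  simp only [Set.mem_ofPred_eq, Set.mem_compl_iff, Set.mem_image, not_exists, not_and]
  rw [isClosed_preimage_val_iff]
  constructor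
  · rintro h x ⟨hx1, hx2⟩ hxs
    apply hx2
    rw [mem_fibClosure_iff, hxs] at hx1
    exact h x hxs hx1
  · intro h x hxs hxc
    have hxs' : f x = s := hxs
    by_contra hxZ
    refine h x ⟨?_, hxZ⟩ hxs'
    rw [mem_fibClosure_iff, hxs']
    exact hxc

theorem setOf_fibre_isOpen_eq (Z : Set X) :
    {s : S | IsOpen (Subtype.val ⁻¹' Z : Set ↥(f.base ⁻¹' {s}))} =
      {s : S | IsClosed (Subtype.val ⁻¹' Zᶜ : Set ↥(f.base ⁻¹' {s}))} := by
  ext s
  simp only [Set.mem_ofPred_eq]
  rw [Set.preimage_compl, isClosed_compl_iff]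

theorem setOf_fibre_isLocallyClosed_eq (Z : Set X) :
    {s : S | IsLocallyClosed (Subtype.val ⁻¹' Z : Set ↥(f.base ⁻¹' {s}))} =
      {s : S | IsClosed (Subtype.val ⁻¹' (fibClosure f Z \ Z) : Set ↥(f.base ⁻¹' {s}))} := by
  ext s
  simp only [Set.mem_ofPred_eq]
  rw [isLocallyClosed_preimage_val_iff]
  have : (Subtype.val ⁻¹' (closure (Z ∩ f.base ⁻¹' {s}) \ Z) : Set ↥(f.base ⁻¹' {s})) =
      (Subtype.val ⁻¹' (fibClosure f Z \ Z) : Set ↥(f.base ⁻¹' {s})) := by
    ext x
    have hx : f x.1 = s := x.2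
    simp only [Set.mem_preimage, Set.mem_sdiff, mem_fibClosure_iff, hx]
  rw [this]

variable [LocallyOfFinitePresentation f] [QuasiCompact f] [QuasiSeparated f]

/-- EGA IV 9.5.3. -/
theorem isLocallyConstructible_setOf_fibre_dense (Z Z' : Set X)
    (hZ : IsLocallyConstructible Z) (hZ' : IsLocallyConstructible Z') :
    IsLocallyConstructible
      {s : S | Z' ∩ f.base ⁻¹' {s} ⊆ closure (Z ∩ f.base ⁻¹' {s})} := by
  rw [setOf_fibre_dense_eq]
  exact isLocallyConstructible_compl (f.isLocallyConstructible_image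
    (isLocallyConstructible_sdiff hZ' (isLocallyConstructible_fibClosure f Z hZ)))

/-- EGA IV 9.5.4, closed. -/
theorem isLocallyConstructible_setOf_fibre_isClosed (Z : Set X)
    (hZ : IsLocallyConstructible Z) :
    IsLocallyConstructible {s : S | IsClosed (Subtype.val ⁻¹' Z : Set ↥(f.base ⁻¹' {s}))} := by
  rw [setOf_fibre_isClosed_eq]
  exact isLocallyConstructible_compl (f.isLocallyConstructible_image
    (isLocallyConstructible_sdiff (isLocallyConstructible_fibClosure f Z hZ) hZ))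

/-- EGA IV 9.5.4, open. -/
theorem isLocallyConstructible_setOf_fibre_isOpen (Z : Set X)
    (hZ : IsLocallyConstructible Z) :
    IsLocallyConstructible {s : S | IsOpen (Subtype.val ⁻¹' Z : Set ↥(f.base ⁻¹' {s}))} := by
  rw [setOf_fibre_isOpen_eq]
  exact isLocallyConstructible_setOf_fibre_isClosed f Zᶜ (isLocallyConstructible_compl hZ)

/-- EGA IV 9.5.4, locally closed. -/
theorem isLocallyConstructible_setOf_fibre_isLocallyClosed (Z : Set X)
    (hZ : IsLocallyConstructible Z) :
    IsLocallyConstructible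
      {s : S | IsLocallyClosed (Subtype.val ⁻¹' Z : Set ↥(f.base ⁻¹' {s}))} := by
  rw [setOf_fibre_isLocallyClosed_eq]
  exact isLocallyConstructible_setOf_fibre_isClosed f _
    (isLocallyConstructible_sdiff (isLocallyConstructible_fibClosure f Z hZ) hZ)

end Groth.Agent.Lib.helper5.FibClos
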