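import Groth.Agent.Lib.Helper5.FibClos2
import Groth.Agent.Lib.Helper5.ConsApprox4
import Groth.Agent.S4759
import Groth.Agent.S9207

/-!
# The fibrewise closure of a locally constructible set is locally constructible (helper5)

* `exists_set_model` : a finitely presented family over a cofiltered limit with a constructible
  subset of its total space comes from a stage.
* `exists_noetherian_set_model` : the same over an affine base with a Noetherian model.
* `isLocallyConstructible_fibClosure` : EGA IV 9.5.3-type statement over any base.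
-/

set_option autoImplicit false
set_option backward.isDefEq.respectTransparency false
universe u
open CategoryTheory CategoryTheory.Limits AlgebraicGeometry Topology TopologicalSpace

namespace Groth.Agent.Lib.helper5.FibClos

open Groth.Agent.Lib.helper5.ConsSep Groth.Agent.Lib.helper5.ConsFibre
  Groth.Agent.Lib.helper5.ConsApprox Groth.Agent.Lib.helper5.FGLimit

section Model

variable {I : Type u} [SmallCategory I] (D : I ⥤ Scheme.{u}) (c : Cone D)
variable [IsCofiltered I] (hc : IsLimit c)
    [∀ (i j : I) (f : i ⟶ j), IsAffineHom (D.map f)] [∀ i, CompactSpace (D.obj i)]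
    [∀ i, QuasiSeparatedSpace (D.obj i)]

include hc in
theorem exists_set_model {X : Scheme.{u}} (u : X ⟶ c.pt)
    [LocallyOfFinitePresentation u] [QuasiCompact u] [QuasiSeparated u] (Z : Set X)
    (hZ : IsConstructible Z) :
    ∃ (k : I) (Xk : Scheme.{u}) (uk : Xk ⟶ D.obj k) (eX : X ⟶ Xk) (Zk : Set Xk),
      LocallyOfFinitePresentation uk ∧ QuasiCompact uk ∧ QuasiSeparated uk ∧
      IsPullback eX u uk (c.π.app k) ∧ IsConstructible Zk ∧ eX ⁻¹' Zk = Z := by
  obtain ⟨i, Xi, ui, g, h1, h2, h3, sq⟩ := Groth.Agent.S0591.result D c hc X u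
  haveI := h1; haveI := h2; haveI := h3
  have : CategoryTheory.IsConnected (Over i) := CategoryTheory.isConnected_of_hasTerminal _
  have hlim : IsLimit (Groth.Agent.S9207.pbCone D c i ui) :=
    isLimitOfIsPullbackOfIsConnected (Groth.Agent.S9207.pbDiagramι D i ui)
      (Groth.Agent.S9207.pbCone D c i ui) (c.whisker (Over.forget i))
      { hom := pullback.snd ui (c.π.app i)
        w := fun j => (Groth.Agent.S9207.pbCone_π_app_snd D c i ui j).symm }
      (fun j => Groth.Agent.S9207.pbCone_isPullback D c i ui j)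
      ((Functor.Initial.isLimitWhiskerEquiv (Over.forget i) c).symm hc)
  haveI haff : ∀ (j k : Over i) (f : j ⟶ k),
      IsAffineHom ((Groth.Agent.S9207.pbDiagram D i ui).map f) := by
    intro j k f
    exact MorphismProperty.of_isPullback (P := @IsAffineHom)
      (Groth.Agent.S9207.pbDiagram_map_isPullback D i ui f).flip inferInstance
  have hqc : ∀ j : Over i, QuasiCompact (pullback.snd ui (D.map j.hom)) := fun j =>
    MorphismProperty.pullback_snd (P := @QuasiCompact) _ _ inferInstance
  have hqs : ∀ j : Over i, QuasiSeparated (pullback.snd ui (D.map j.hom)) := fun j =>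
    MorphismProperty.pullback_snd (P := @QuasiSeparated) _ _ inferInstance
  haveI hcpt : CompactSpace ((Groth.Agent.S9207.pbDiagram D i ui).obj (Over.mk (𝟙 i))) :=
    @QuasiCompact.compactSpace_of_compactSpace _ _ (pullback.snd ui (D.map (Over.mk (𝟙 i)).hom))
      (hqc _) _
  haveI hqsp : QuasiSeparatedSpace ((Groth.Agent.S9207.pbDiagram D i ui).obj (Over.mk (𝟙 i))) :=
    @quasiSeparatedSpace_of_quasiSeparated _ _ (pullback.snd ui (D.map (Over.mk (𝟙 i)).hom))
      _ (hqs _)
  -- transport `Z` to the vertex of the cone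
  set e := sq.isoPullback with he
  have hZ' : IsConstructible (e.inv ⁻¹' Z) :=
    hZ.preimage_of_isOpenEmbedding e.inv.homeomorph.isOpenEmbedding
  obtain ⟨j, -, Zj, hZj, hZjeq⟩ := Groth.Agent.S4759.result
    (Groth.Agent.S9207.pbDiagram D i ui) (Groth.Agent.S9207.pbCone D c i ui) hlim
    (Over.mk (𝟙 i)) (e.inv ⁻¹' Z) hZ'
  refine ⟨j.left, pullback ui (D.map j.hom), pullback.snd ui (D.map j.hom),
    e.hom ≫ (Groth.Agent.S9207.pbCone D c i ui).π.app j, Zj,
    MorphismProperty.pullback_snd (P := @LocallyOfFinitePresentation) _ _ inferInstance,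
    hqc j, hqs j, ?_, hZj, ?_⟩
  · have := (IsPullback.of_horiz_isIso (fst := e.hom) (snd := u)
      (f := pullback.snd ui (c.π.app i)) (g := 𝟙 c.pt)
      ⟨by rw [he, sq.isoPullback_hom_snd, Category.comp_id]⟩).paste_horiz
      (Groth.Agent.S9207.pbCone_isPullback D c i ui j)
    rwa [Category.id_comp] at this
  · ext x
    have hx : (e.hom ≫ (Groth.Agent.S9207.pbCone D c i ui).π.app j) x =
        ((Groth.Agent.S9207.pbCone D c i ui).π.app j) (e.hom x) := Scheme.Hom.comp_apply _ _ _
    change (e.hom ≫ (Groth.Agent.S9207.pbCone D c i ui).π.app j) x ∈ Zj ↔ x ∈ Z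
    rw [hx]
    have h2 : ((Groth.Agent.S9207.pbCone D c i ui).π.app j) (e.hom x) ∈ Zj ↔
        e.hom x ∈ e.inv ⁻¹' Z := by
      rw [← hZjeq]; rfl
    rw [h2]
    change e.inv (e.hom x) ∈ Z ↔ _
    rw [← Scheme.Hom.comp_apply, Iso.hom_inv_id]
    rfl

end Model

attribute [local instance] ULift.algebra'

theorem exists_noetherian_set_model {T X : Scheme.{u}} [IsAffine T] (u : X ⟶ T)
    [LocallyOfFinitePresentation u] [QuasiCompact u] [QuasiSeparated u] (Z : Set X)
    (hZ : IsConstructible Z) :
    ∃ (S₀ X₀ : Scheme.{u}) (_ : IsNoetherian S₀) (h : T ⟶ S₀) (u₀ : X₀ ⟶ S₀)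
      (eX : X ⟶ X₀) (Z₀ : Set X₀),
      LocallyOfFiniteType u₀ ∧ QuasiCompact u₀ ∧ IsPullback eX u u₀ h ∧ IsConstructible Z₀ ∧
      eX ⁻¹' Z₀ = Z := by
  let K : Type u := Γ(T, ⊤)
  let e : T ≅ Spec (CommRingCat.of K) := T.isoSpec
  let u' : X ⟶ (specCone (ULift.{u} ℤ) K).pt := u ≫ e.hom
  haveI : LocallyOfFinitePresentation u' :=
    inferInstanceAs (LocallyOfFinitePresentation (u ≫ e.hom))
  haveI : QuasiCompact u' := inferInstanceAs (QuasiCompact (u ≫ e.hom))
  haveI : QuasiSeparated u' := inferInstanceAs (QuasiSeparated (u ≫ e.hom))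
  obtain ⟨k, Xk, uk, eX, Zk, h1, h2, -, sqX, hZk, hZkeq⟩ :=
    exists_set_model (specDiagram (ULift.{u} ℤ) K) (specCone (ULift.{u} ℤ) K)
      (isLimitSpecCone (ULift.{u} ℤ) K) u' Z hZ
  haveI := h1
  refine ⟨_, Xk, isNoetherian_specDiagram_obj K k,
    e.hom ≫ (specCone (ULift.{u} ℤ) K).π.app k, uk, eX, Zk, inferInstance, h2, ?_, hZk, hZkeq⟩
  have := (IsPullback.of_horiz_isIso (fst := 𝟙 X) (snd := u) (f := u') (g := e.hom)
    ⟨by simp [u']⟩).paste_horiz sqX
  rwa [Category.id_comp] at this

/-- affine base. -/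
theorem isLocallyConstructible_fibClosure_of_isAffine {X S : Scheme.{u}} [IsAffine S] (f : X ⟶ S)
    [LocallyOfFinitePresentation f] [QuasiCompact f] [QuasiSeparated f] (Z : Set X)
    (hZ : IsLocallyConstructible Z) : IsLocallyConstructible (fibClosure f Z) := by
  haveI : CompactSpace X := QuasiCompact.compactSpace_of_compactSpace f
  haveI : QuasiSeparatedSpace X := quasiSeparatedSpace_of_quasiSeparated f
  have hZc : IsConstructible Z := hZ.isConstructible
  obtain ⟨S₀, X₀, hS₀, h, u₀, eX, Z₀, h1, h2, sq, hZ₀, hZ₀eq⟩ :=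
    exists_noetherian_set_model f Z hZc
  haveI := hS₀; haveI := h1; haveI := h2
  rw [← hZ₀eq, fibClosure_preimage sq Z₀]
  exact isLocallyConstructible_preimage eX
    (isConstructible_fibClosure u₀ Z₀ hZ₀).isLocallyConstructible

/-- EGA IV 9.5.3-type: the fibrewise closure of a locally constructible subset of the source of a
finitely presented morphism is locally constructible. -/
theorem isLocallyConstructible_fibClosure {X S : Scheme.{u}} (f : X ⟶ S)
    [LocallyOfFinitePresentation f] [QuasiCompact f] [QuasiSeparated f] (Z : Set X)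
    (hZ : IsLocallyConstructible Z) : IsLocallyConstructible (fibClosure f Z) := by
  refine IsLocallyConstructible.of_isOpenCover
    (U := fun i : S.affineOpens => (f ⁻¹ᵁ (i.1 : S.Opens) : X.Opens)) ?_ fun i => ?_
  · rw [TopologicalSpace.IsOpenCover, ← Scheme.Hom.preimage_iSup, iSup_affineOpens_eq_top]
    rfl
  · haveI : IsAffine ((i.1 : S.Opens) : Scheme.{u}) := i.2
    have sq : IsPullback (f ⁻¹ᵁ (i.1 : S.Opens)).ι (f ∣_ (i.1 : S.Opens)) f (i.1 : S.Opens).ι :=
      (isPullback_morphismRestrict f (i.1 : S.Opens)).flip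
    have hpre := fibClosure_preimage sq Z
    have hZ' : IsLocallyConstructible ((f ⁻¹ᵁ (i.1 : S.Opens)).ι ⁻¹' Z) :=
      isLocallyConstructible_preimage _ hZ
    have := isLocallyConstructible_fibClosure_of_isAffine (f ∣_ (i.1 : S.Opens)) _ hZ'
    rw [hpre] at this
    exact this

end Groth.Agent.Lib.helper5.FibClos
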