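import Mathlib
import Groth.Agent.Lib.Helper11.GenFree8

/-!
# Generic flatness for morphisms of finite type over an integral base (helper5)

* `flat_of_free_away` : if `A_a ⊗ B` is free over `A_a`, then `B_a` is flat over `A`.
* `flat_stalkMap_of_flat_appLE` : flatness of `Γ(Y,V) → Γ(X,W)` for affine opens gives flatness
  of the stalk maps at all points of `W`.
* `exists_open_flat_stalkMap` : `Y` integral, `u : X ⟶ Y` quasi-compact locally of finite type:
  `u` is flat at all points above a nonempty open of `Y`.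
-/

set_option autoImplicit false
set_option backward.isDefEq.respectTransparency false
universe u
open CategoryTheory AlgebraicGeometry TopologicalSpace Opposite TensorProduct

namespace Groth.Agent.Lib.helper5.GenFlatMor

open Groth.Agent.Lib.helper11.GenFree

theorem flat_of_free_away {A B B' : Type*} [CommRing A] [CommRing B] [CommRing B'] [Algebra A B]
    [Algebra B B'] [Algebra A B'] [IsScalarTower A B B'] (a : A)
    [IsLocalization.Away (algebraMap A B a) B']
    (h : Module.Free (Localization.Away a) (Localization.Away a ⊗[A] B)) : Module.Flat A B' := by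
  haveI : IsLocalization (Algebra.algebraMapSubmonoid B (Submonoid.powers a)) B' := by
    have : Algebra.algebraMapSubmonoid B (Submonoid.powers a) =
        Submonoid.powers (algebraMap A B a) := by
      simp [Algebra.algebraMapSubmonoid, Submonoid.map_powers]
    rw [this]
    infer_instance
  haveI : IsLocalizedModule (Submonoid.powers a) (IsScalarTower.toAlgHom A B B').toLinearMap :=
    inferInstance
  have hflat1 : Module.Flat (Localization.Away a) (Localization.Away a ⊗[A] B) := inferInstance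
  haveI : Module.Flat A (Localization.Away a) := IsLocalization.flat _ (Submonoid.powers a)
  have hflat2 : Module.Flat A (Localization.Away a ⊗[A] B) :=
    Module.Flat.trans A (Localization.Away a) _
  exact Module.Flat.of_linearEquiv
    (IsLocalizedModule.linearEquiv (Submonoid.powers a)
      (IsScalarTower.toAlgHom A B B').toLinearMap
      (TensorProduct.mk A (Localization.Away a) B 1))

variable {X Y : Scheme.{u}} (u : X ⟶ Y)

theorem flat_stalkMap_of_flat_appLE {V : Y.Opens} {W : X.Opens} (hV : IsAffineOpen V)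
    (hW : IsAffineOpen W) (e : W ≤ u ⁻¹ᵁ V) (h : (u.appLE V W e).hom.Flat) (x : X)
    (hx : x ∈ W) : (u.stalkMap x).hom.Flat := by
  haveI : IsAffine (V : Scheme.{u}) := hV
  haveI : IsAffine (W : Scheme.{u}) := hW
  have h1 : Flat (u.resLE V W e) := by
    rw [HasRingHomProperty.iff_of_isAffine (P := @Flat),
      RingHom.Flat.respectsIso.arrow_mk_iso_iff (arrowResLEAppIso u V W e)]
    exact h
  have h2 := Flat.stalkMap (u.resLE V W e) ⟨x, hx⟩
  rwa [RingHom.Flat.respectsIso.arrow_mk_iso_iff (Scheme.Hom.resLEStalkMap u e ⟨x, hx⟩)] at h2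

/-- chart-level. -/
theorem flat_stalkMap_of_PF {V : Y.Opens} {W : X.Opens} (hV : IsAffineOpen V)
    (hW : IsAffineOpen W) (e : W ≤ u ⁻¹ᵁ V) (a : Γ(Y, V))
    (h : letI := (u.appLE V W e).hom.toAlgebra; PF Γ(Y, V) a Γ(X, W)) (x : X) (hxW : x ∈ W)
    (hxa : u x ∈ Y.basicOpen a) : (u.stalkMap x).hom.Flat := by
  let a' : Γ(X, W) := (u.appLE V W e).hom a
  let W' : X.Opens := X.basicOpen a'
  have hW'W : W' ≤ W := X.basicOpen_le a'
  have e' : W' ≤ u ⁻¹ᵁ V := hW'W.trans e
  have hxW' : x ∈ W' := by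
    have h1 : x ∈ u ⁻¹ᵁ (Y.basicOpen a) := hxa
    rw [Scheme.preimage_basicOpen] at h1
    have h2 : a' = (X.presheaf.map (homOfLE e).op).hom ((u.app V).hom a) := rfl
    change x ∈ X.basicOpen a'
    rw [h2, Scheme.basicOpen_res]
    exact ⟨hxW, h1⟩
  refine flat_stalkMap_of_flat_appLE u hV (hW.basicOpen a') e' ?_ x hxW'
  letI := (u.appLE V W e).hom.toAlgebra
  letI := (u.appLE V W' e').hom.toAlgebra
  haveI : IsScalarTower Γ(Y, V) Γ(X, W) Γ(X, W') := by
    refine IsScalarTower.of_algebraMap_eq' ?_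
    have := Scheme.Hom.appLE_map u e (homOfLE hW'W).op
    exact (congrArg (fun φ => φ.hom) this).symm
  haveI : IsLocalization.Away (algebraMap Γ(Y, V) Γ(X, W) a) Γ(X, W') :=
    hW.isLocalization_basicOpen a'
  have hflat : Module.Flat Γ(Y, V) Γ(X, W') := flat_of_free_away (B := Γ(X, W)) a h
  exact hflat

theorem exists_open_flat_stalkMap [IsIntegral Y] [LocallyOfFiniteType u] [QuasiCompact u] :
    ∃ U : Y.Opens, (U : Set Y).Nonempty ∧ ∀ x : X, u x ∈ U → (u.stalkMap x).hom.Flat := by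
  classical
  obtain ⟨y⟩ : Nonempty Y := inferInstance
  obtain ⟨_, ⟨V₀, hV₀ : IsAffineOpen V₀, rfl⟩, hyV, -⟩ :=
    Y.isBasis_affineOpens.exists_subset_of_mem_open (Set.mem_univ y) isOpen_univ
  have hne : (V₀ : Set Y).Nonempty := ⟨y, hyV⟩
  haveI : Nonempty V₀ := hne.to_subtype
  haveI : IsDomain Γ(Y, V₀) := inferInstance
  have hqc : IsCompact (u ⁻¹ᵁ V₀ : Set X) := u.isCompact_preimage hV₀.isCompact
  obtain ⟨s, hs, hcov⟩ := isCompact_iff_finite_and_eq_biUnion_affineOpens.mp hqc
  have hle : ∀ W : s, (W.1 : X.Opens) ≤ u ⁻¹ᵁ V₀ := by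
    intro W
    rw [hcov]
    exact le_iSup₂ (f := fun (i : X.affineOpens) (_ : i ∈ s) => (i : X.Opens)) W.1 W.2
  have H' : ∀ W : s, ∃ a : Γ(Y, V₀), a ≠ 0 ∧
      (letI := (u.appLE V₀ (W.1 : X.Opens) (hle W)).hom.toAlgebra
       PF Γ(Y, V₀) a Γ(X, (W.1 : X.Opens))) := by
    intro W
    letI := (u.appLE V₀ (W.1 : X.Opens) (hle W)).hom.toAlgebra
    haveI : Algebra.FiniteType Γ(Y, V₀) Γ(X, (W.1 : X.Opens)) :=
      HasRingHomProperty.appLE (P := @LocallyOfFiniteType) u inferInstance ⟨V₀, hV₀⟩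
        ⟨W.1, W.1.2⟩ (hle W)
    exact GF_of_finiteType_domain Γ(X, (W.1 : X.Opens)) Γ(X, (W.1 : X.Opens))
  choose a ha hPF using H'
  haveI : Fintype s := hs.fintype
  let a₀ : Γ(Y, V₀) := ∏ W : s, a W
  have ha₀ : a₀ ≠ 0 := Finset.prod_ne_zero_iff.mpr (fun W _ => ha W)
  refine ⟨Y.basicOpen a₀, ?_, ?_⟩
  · by_contra hemp
    rw [Set.not_nonempty_iff_eq_empty] at hemp
    have : Y.basicOpen a₀ = ⊥ := by
      apply SetLike.coe_injective
      rw [hemp]
      rfl
    exact ha₀ ((basicOpen_eq_bot_iff a₀).mp this)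
  · intro x hx
    have hxV : x ∈ u ⁻¹ᵁ V₀ := Y.basicOpen_le a₀ hx
    rw [hcov] at hxV
    simp only [Opens.mem_iSup] at hxV
    obtain ⟨W, hWs, hxW⟩ := hxV
    let W' : s := ⟨W, hWs⟩
    have hPF' : (letI := (u.appLE V₀ (W : X.Opens) (hle W')).hom.toAlgebra
        PF Γ(Y, V₀) a₀ Γ(X, (W : X.Opens))) :=
      letI := (u.appLE V₀ (W : X.Opens) (hle W')).hom.toAlgebra
      (hPF W').of_dvd (Finset.dvd_prod_of_mem a (Finset.mem_univ W'))
    exact flat_stalkMap_of_PF u hV₀ W.2 (hle W') a₀ hPF' x hxW hx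

end Groth.Agent.Lib.helper5.GenFlatMor
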