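import Groth.Agent.Lib.Helper5.FppfSource2

/-!
# Finite type / finite presentation descend along an fppf ring map on the source (helper5)

`R → A → B` with `B` faithfully flat and finitely presented over `A`.  If `B` is of finite type
(resp. finitely presented) over `R`, so is `A` (Stacks 02KL / EGA IV 11.3.16, 17.7.5).

* `rTensor_surjective_iff_surjective`
* `surjective_of_theta`, `ker_fg_of_theta` : abstract form of the argument
* `finiteType_of_faithfullyFlat`, `finitePresentation_of_faithfullyFlat`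
-/

set_option autoImplicit false
universe u
open TensorProduct

namespace Groth.Agent.Lib.helper5.FppfSource

section FF

variable (R : Type u) (M : Type u) [CommRing R] [AddCommGroup M] [Module R M]
variable {N N' : Type u} [AddCommGroup N] [AddCommGroup N'] [Module R N] [Module R N']

theorem rTensor_surjective_iff_surjective [Module.FaithfullyFlat R M] (f : N →ₗ[R] N') :
    Function.Surjective (f.rTensor M) ↔ Function.Surjective f := by
  rw [← LinearMap.exact_zero_iff_surjective (Unit ⊗[R] M),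
    ← LinearMap.exact_zero_iff_surjective Unit]
  conv_rhs => rw [← Module.FaithfullyFlat.rTensor_exact_iff_exact R M]
  simp

end FF

section Abstract

variable {R A B : Type u} [CommRing R] [CommRing A] [CommRing B] [Algebra R A] [Algebra A B]
  [Algebra R B] [IsScalarTower R A B]
variable {A₁ B₁ : Type u} [CommRing A₁] [Algebra A₁ A] [CommRing B₁] [Algebra A₁ B₁]
variable {A' : Type u} [CommRing A'] [Algebra R A'] [Algebra A₁ A']

/-- the comparison map `A' ⊗ B₁ → A ⊗ B₁ ≃ B`. -/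
noncomputable def theta (e : A ⊗[A₁] B₁ ≃ₐ[A] B) (ψ : A' →ₐ[A₁] A) : A' ⊗[A₁] B₁ →+* B :=
  (e : A ⊗[A₁] B₁ →+* B).comp
    (Algebra.TensorProduct.map ψ (AlgHom.id A₁ B₁) : A' ⊗[A₁] B₁ →+* A ⊗[A₁] B₁)

theorem theta_tmul (e : A ⊗[A₁] B₁ ≃ₐ[A] B) (ψ : A' →ₐ[A₁] A) (a : A') (b : B₁) :
    theta e ψ (a ⊗ₜ b) = e (ψ a ⊗ₜ b) := by
  show e (Algebra.TensorProduct.map ψ (AlgHom.id A₁ B₁) (a ⊗ₜ b)) = _
  rw [Algebra.TensorProduct.map_tmul]
  rfl

theorem theta_surjective (e : A ⊗[A₁] B₁ ≃ₐ[A] B) (ψ : A' →ₐ[A₁] A)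
    (hψ : ∀ r : R, ψ (algebraMap R A' r) = algebraMap R A r) (t : Set B)
    (ht : Algebra.adjoin R t = ⊤) (he : ∀ b ∈ t, ∃ b₁ : B₁, e (1 ⊗ₜ b₁) = b) :
    Function.Surjective (theta e ψ) := by
  intro b
  have hb : b ∈ Algebra.adjoin R t := by rw [ht]; trivial
  induction hb using Algebra.adjoin_induction with
  | mem x hx =>
    obtain ⟨b₁, hb₁⟩ := he x hx
    refine ⟨1 ⊗ₜ b₁, ?_⟩
    rw [theta_tmul, map_one, hb₁]
  | algebraMap r =>
    refine ⟨algebraMap R A' r ⊗ₜ 1, ?_⟩
    rw [theta_tmul, hψ, IsScalarTower.algebraMap_apply R A B, ← e.commutes,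
      Algebra.TensorProduct.algebraMap_apply, Algebra.algebraMap_self, RingHom.id_apply]
  | add x y _ _ hx hy =>
    obtain ⟨x', rfl⟩ := hx
    obtain ⟨y', rfl⟩ := hy
    exact ⟨x' + y', map_add _ _ _⟩
  | mul x y _ _ hx hy =>
    obtain ⟨x', rfl⟩ := hx
    obtain ⟨y', rfl⟩ := hy
    exact ⟨x' * y', map_mul _ _ _⟩

theorem surjective_of_theta [Module.FaithfullyFlat A₁ B₁] (e : A ⊗[A₁] B₁ ≃ₐ[A] B)
    (ψ : A' →ₐ[A₁] A) (h : Function.Surjective (theta e ψ)) : Function.Surjective ψ := by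
  have h1 : Function.Surjective (ψ.toLinearMap.rTensor B₁) := by
    intro z
    obtain ⟨w, hw⟩ := h (e z)
    refine ⟨w, ?_⟩
    apply e.injective
    rw [← hw]
    rfl
  exact (rTensor_surjective_iff_surjective A₁ B₁ ψ.toLinearMap).mp h1

theorem ker_theta [Module.FaithfullyFlat A₁ B₁] (e : A ⊗[A₁] B₁ ≃ₐ[A] B)
    (ψ : A' →ₐ[A₁] A) (hψ : Function.Surjective ψ) :
    RingHom.ker (theta e ψ) = (RingHom.ker ψ).map (algebraMap A' (A' ⊗[A₁] B₁)) := by
  have h1 : RingHom.ker (theta e ψ) =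
      RingHom.ker (Algebra.TensorProduct.map ψ (AlgHom.id A₁ B₁)) := by
    ext w
    rw [RingHom.mem_ker, RingHom.mem_ker]
    show e (Algebra.TensorProduct.map ψ (AlgHom.id A₁ B₁) w) = 0 ↔ _
    rw [map_eq_zero_iff _ e.injective]
  rw [h1, Algebra.TensorProduct.rTensor_ker ψ hψ]
  rfl

theorem theta_algebraMap (e : A ⊗[A₁] B₁ ≃ₐ[A] B) (ψ : A' →ₐ[A₁] A)
    (hψ : ∀ r : R, ψ (algebraMap R A' r) = algebraMap R A r) (r : R) :
    theta e ψ (algebraMap R A' r ⊗ₜ 1) = algebraMap R B r := by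
  rw [theta_tmul, hψ, IsScalarTower.algebraMap_apply R A B, ← e.commutes,
    Algebra.TensorProduct.algebraMap_apply, Algebra.algebraMap_self, RingHom.id_apply]

theorem ker_fg_of_theta [Module.FaithfullyFlat A₁ B₁] [Algebra.FinitePresentation A₁ B₁]
    [Algebra.FinitePresentation R A'] [Algebra.FinitePresentation R B]
    (e : A ⊗[A₁] B₁ ≃ₐ[A] B) (ψ : A' →ₐ[A₁] A)
    (hψ : ∀ r : R, ψ (algebraMap R A' r) = algebraMap R A r)
    (hsurj : Function.Surjective (theta e ψ)) : (RingHom.ker ψ).FG := by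
  have hψs := surjective_of_theta e ψ hsurj
  haveI : IsScalarTower R A' (A' ⊗[A₁] B₁) := inferInstance
  haveI : Algebra.FinitePresentation R (A' ⊗[A₁] B₁) :=
    Algebra.FinitePresentation.trans R A' (A' ⊗[A₁] B₁)
  let θ : A' ⊗[A₁] B₁ →ₐ[R] B :=
    { theta e ψ with
      commutes' := fun r => by
        show theta e ψ (algebraMap R (A' ⊗[A₁] B₁) r) = algebraMap R B r
        rw [Algebra.TensorProduct.algebraMap_apply, theta_algebraMap e ψ hψ] }
  have hk : (RingHom.ker θ.toRingHom).FG :=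
    Algebra.FinitePresentation.ker_fG_of_surjective θ hsurj
  have h2 : RingHom.ker θ.toRingHom = RingHom.ker (theta e ψ) := rfl
  rw [h2, ker_theta e ψ hψs] at hk
  exact Ideal.FG.of_FG_map_of_faithfullyFlat (S := A' ⊗[A₁] B₁) hk

end Abstract

section Main

variable {R A B : Type u} [CommRing R] [CommRing A] [CommRing B] [Algebra R A] [Algebra A B]
  [Algebra R B] [IsScalarTower R A B]

theorem exists_surjective_of_faithfullyFlat [Algebra.FiniteType R B] [Module.FaithfullyFlat A B]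
    [Algebra.FinitePresentation A B] :
    ∃ (A' : Type u) (_ : CommRing A') (_ : Algebra R A') (ψ : A' →ₐ[R] A),
      Algebra.FinitePresentation R A' ∧ Function.Surjective ψ ∧
      (Algebra.FinitePresentation R B → (RingHom.ker ψ.toRingHom).FG) := by
  classical
  obtain ⟨t, ht⟩ := Algebra.FiniteType.out (R := R) (A := B)
  obtain ⟨A₁, _, _, hft, -, -, B₁, _, _, hfp, hff, e, he⟩ :=
    exists_fg_model_faithfullyFlat (A := A) (B := B) ∅ t
  haveI := hfp
  haveI := hff
  haveI : Algebra.FinitePresentation ℤ A₁ := Algebra.FinitePresentation.of_finiteType.mp hft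
  letI : Algebra A₁ (R ⊗[ℤ] A₁) := Algebra.TensorProduct.rightAlgebra
  let ψ₀ : R ⊗[ℤ] A₁ →ₐ[R] A :=
    Algebra.TensorProduct.lift (Algebra.ofId R A) ((algebraMap A₁ A).toIntAlgHom)
      (fun _ _ => Commute.all _ _)
  let ψ : R ⊗[ℤ] A₁ →ₐ[A₁] A :=
    { (ψ₀ : R ⊗[ℤ] A₁ →+* A) with
      commutes' := fun a₁ => by
        show ψ₀ (1 ⊗ₜ a₁) = algebraMap A₁ A a₁
        simp [ψ₀] }
  have hψ : ∀ r : R, ψ (algebraMap R (R ⊗[ℤ] A₁) r) = algebraMap R A r :=
    fun r => ψ₀.commutes r
  have hθ : Function.Surjective (theta e ψ) := theta_surjective e ψ hψ (t : Set B) ht he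
  refine ⟨R ⊗[ℤ] A₁, inferInstance, inferInstance, ψ₀, inferInstance,
    surjective_of_theta e ψ hθ, fun hB => ?_⟩
  haveI := hB
  exact ker_fg_of_theta e ψ hψ hθ

/-- **Finite type descends along an fppf ring map on the source.** -/
theorem finiteType_of_faithfullyFlat [Algebra.FiniteType R B] [Module.FaithfullyFlat A B]
    [Algebra.FinitePresentation A B] : Algebra.FiniteType R A := by
  obtain ⟨A', _, _, ψ, hfp, hsurj, -⟩ := exists_surjective_of_faithfullyFlat (R := R) (A := A) (B := B)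
  haveI := hfp
  exact Algebra.FiniteType.of_surjective ψ hsurj

/-- **Finite presentation descends along an fppf ring map on the source.** -/
theorem finitePresentation_of_faithfullyFlat [Algebra.FinitePresentation R B]
    [Module.FaithfullyFlat A B] [Algebra.FinitePresentation A B] :
    Algebra.FinitePresentation R A := by
  obtain ⟨A', _, _, ψ, hfp, hsurj, hker⟩ :=
    exists_surjective_of_faithfullyFlat (R := R) (A := A) (B := B)
  haveI := hfp
  exact Algebra.FinitePresentation.of_surjective hsurj (hker inferInstance)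

end Main

end Groth.Agent.Lib.helper5.FppfSource
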