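import Mathlib

/-!
# Regular elements under base change along a torsion-free extension (helper5)

`k` a commutative ring, `K` a flat `k`-algebra, `R → A` an injective map of `k`-algebras which are
domains.  A regular element `f` of `R ⊗[k] K` stays regular in `A ⊗[k] K`
(`mem_nonZeroDivisors_map_right`), and similarly with `K` on the left
(`mem_nonZeroDivisors_map_left`).  Consequently a minimal prime of `K ⊗[k] A` contracts to `⊥` in
`K ⊗[k] R` when the latter is a domain (`comap_eq_bot_of_mem_minimalPrimes`).
-/

set_option autoImplicit false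
universe u v w
open TensorProduct

namespace Groth.Agent.Lib.helper5.TensorRegular

section general

variable {R : Type*} [CommRing R] [IsDomain R]
  {A : Type*} [CommRing A] [IsDomain A] [Algebra R A] [FaithfulSMul R A]

/-- the fraction field of a domain `A` that is a torsion-free algebra over a domain `R` is `R`-flat. -/
theorem flat_fractionRing : Module.Flat R (FractionRing A) := by
  haveI : FaithfulSMul R (FractionRing A) := by
    rw [faithfulSMul_iff_algebraMap_injective]
    rw [IsScalarTower.algebraMap_eq R A (FractionRing A)]
    exact (IsFractionRing.injective A (FractionRing A)).comp (FaithfulSMul.algebraMap_injective R A)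
  letI : Algebra (FractionRing R) (FractionRing A) := FractionRing.liftAlgebra R _
  haveI := FractionRing.isScalarTower_liftAlgebra R (FractionRing A)
  haveI : Module.Flat R (FractionRing R) := IsLocalization.flat (FractionRing R) (nonZeroDivisors R)
  exact Module.Flat.trans R (FractionRing R) (FractionRing A)

/-- tensoring an injective map between flat modules ... : for `A` a torsion-free domain over the
domain `R`, `M` flat, `μ : M → N` injective, `A ⊗ μ` is injective. -/
theorem lTensor_injective {M N : Type*} [AddCommGroup M] [Module R M] [AddCommGroup N] [Module R N]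
    [Module.Flat R M] (μ : M →ₗ[R] N) (hμ : Function.Injective μ) :
    Function.Injective (LinearMap.lTensor A μ) := by
  haveI := flat_fractionRing (R := R) (A := A)
  let ι : A →ₗ[R] FractionRing A := (IsScalarTower.toAlgHom R A (FractionRing A)).toLinearMap
  have hι : Function.Injective ι := IsFractionRing.injective A (FractionRing A)
  have h1 : Function.Injective (LinearMap.lTensor (FractionRing A) μ) :=
    Module.Flat.lTensor_preserves_injective_linearMap μ hμ
  have h2 : Function.Injective (LinearMap.rTensor M ι) :=
    Module.Flat.rTensor_preserves_injective_linearMap ι hι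
  have hsq : (LinearMap.rTensor N ι).comp (LinearMap.lTensor A μ) =
      (LinearMap.lTensor (FractionRing A) μ).comp (LinearMap.rTensor M ι) := by
    rw [LinearMap.rTensor_comp_lTensor, LinearMap.lTensor_comp_rTensor]
  intro x y hxy
  apply h2
  apply h1
  have := congrArg (LinearMap.rTensor N ι) hxy
  have e1 := LinearMap.congr_fun hsq x
  have e2 := LinearMap.congr_fun hsq y
  simp only [LinearMap.comp_apply] at e1 e2
  rw [← e1, ← e2, this]

end general

section right

variable {k : Type*} [CommRing k] {R : Type*} [CommRing R] [IsDomain R]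
  {A : Type*} [CommRing A] [IsDomain A] [Algebra R A] [FaithfulSMul R A]
  [Algebra k R] [Algebra k A] [IsScalarTower k R A]
  {K : Type*} [CommRing K] [Algebra k K] [Module.Flat k K]

/-- a regular element of `R ⊗[k] K` stays regular in `A ⊗[k] K`. -/
theorem mem_nonZeroDivisors_map_right (f : R ⊗[k] K) (hf : f ∈ nonZeroDivisors (R ⊗[k] K)) :
    Algebra.TensorProduct.map (IsScalarTower.toAlgHom k R A) (AlgHom.id k K) f ∈
      nonZeroDivisors (A ⊗[k] K) := by
  set φ := Algebra.TensorProduct.map (IsScalarTower.toAlgHom k R A) (AlgHom.id k K) with hφ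
  let μ : (R ⊗[k] K) →ₗ[R] (R ⊗[k] K) := LinearMap.mulLeft R f
  have hμ : Function.Injective μ := by
    intro x y hxy
    have : f * (x - y) = 0 := by
      rw [mul_sub]; exact sub_eq_zero.mpr hxy
    have h2 := (mul_left_mem_nonZeroDivisors_eq_zero_iff hf).mp this
    exact sub_eq_zero.mp h2
  have hinj := lTensor_injective (R := R) (A := A) μ hμ
  let e := Algebra.TensorProduct.cancelBaseChange k R A A K
  have he1 : ∀ g : R ⊗[k] K, e ((1 : A) ⊗ₜ[R] g) = φ g := by
    intro g
    induction g using TensorProduct.induction_on with
    | zero => simp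
    | tmul r c =>
      simp only [e, Algebra.TensorProduct.cancelBaseChange_tmul, hφ,
        Algebra.TensorProduct.map_tmul, IsScalarTower.coe_toAlgHom', AlgHom.coe_id, id_eq,
        Algebra.algebraMap_eq_smul_one]
    | add x y hx hy => rw [TensorProduct.tmul_add, map_add, map_add, hx, hy]
  have hmul : ∀ z : A ⊗[R] (R ⊗[k] K), LinearMap.lTensor A μ z = ((1 : A) ⊗ₜ[R] f) * z := by
    intro z
    induction z using TensorProduct.induction_on with
    | zero => simp
    | tmul a r' =>
      simp only [LinearMap.lTensor_tmul, μ, LinearMap.mulLeft_apply,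
        Algebra.TensorProduct.tmul_mul_tmul, one_mul]
    | add x y hx hy => rw [map_add, mul_add, hx, hy]
  rw [mem_nonZeroDivisors_iff_right]
  intro w hw
  obtain ⟨z, rfl⟩ := e.surjective w
  have h0 : e (LinearMap.lTensor A μ z) = 0 := by
    rw [hmul, map_mul, he1, mul_comm]; exact hw
  have h1 : LinearMap.lTensor A μ z = 0 := by
    have := e.injective (h0.trans (map_zero e).symm)
    exact this
  have h2 : z = 0 := hinj (h1.trans (map_zero _).symm)
  rw [h2, map_zero]

end right

section left

theorem ringEquiv_mem_nonZeroDivisors {X Y : Type*} [CommRing X] [CommRing Y] (e : X ≃+* Y) {x : X}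
    (hx : x ∈ nonZeroDivisors X) : e x ∈ nonZeroDivisors Y := by
  rw [mem_nonZeroDivisors_iff_right]
  intro w hw
  have h1 : e.symm w * x = 0 := by
    apply e.injective
    rw [map_mul, e.apply_symm_apply, map_zero, hw]
  have h2 := (mem_nonZeroDivisors_iff_right.mp hx) _ h1
  have := congrArg e h2
  rwa [e.apply_symm_apply, map_zero] at this

variable {k : Type*} [CommRing k] {R : Type*} [CommRing R] [IsDomain R]
  {A : Type*} [CommRing A] [IsDomain A] [Algebra R A] [FaithfulSMul R A]
  [Algebra k R] [Algebra k A] [IsScalarTower k R A]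
  {K : Type*} [CommRing K] [Algebra k K] [Module.Flat k K]

/-- a regular element of `K ⊗[k] R` stays regular in `K ⊗[k] A`. -/
theorem mem_nonZeroDivisors_map_left (f : K ⊗[k] R) (hf : f ∈ nonZeroDivisors (K ⊗[k] R)) :
    Algebra.TensorProduct.map (AlgHom.id k K) (IsScalarTower.toAlgHom k R A) f ∈
      nonZeroDivisors (K ⊗[k] A) := by
  have key : ∀ g : K ⊗[k] R,
      Algebra.TensorProduct.map (AlgHom.id k K) (IsScalarTower.toAlgHom k R A) g =
        (Algebra.TensorProduct.comm k K A).symm.toRingEquiv
          (Algebra.TensorProduct.map (IsScalarTower.toAlgHom k R A) (AlgHom.id k K)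
            ((Algebra.TensorProduct.comm k K R) g)) := by
    intro g
    induction g using TensorProduct.induction_on with
    | zero => simp
    | tmul c r => simp
    | add x y hx hy =>
      simp only [map_add] at hx hy ⊢
      rw [hx, hy]
  have h1 : (Algebra.TensorProduct.comm k K R) f ∈ nonZeroDivisors (R ⊗[k] K) :=
    ringEquiv_mem_nonZeroDivisors (Algebra.TensorProduct.comm k K R).toRingEquiv hf
  have h2 := mem_nonZeroDivisors_map_right (A := A) _ h1
  have h3 := ringEquiv_mem_nonZeroDivisors (Algebra.TensorProduct.comm k K A).symm.toRingEquiv h2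
  rw [key f]
  exact h3

/-- a minimal prime of `K ⊗[k] A` contracts to `⊥` in `K ⊗[k] R` (assumed to be a domain). -/
theorem comap_eq_bot_of_mem_minimalPrimes [IsDomain (K ⊗[k] R)] (P : Ideal (K ⊗[k] A))
    (hP : P ∈ minimalPrimes (K ⊗[k] A)) :
    P.comap (Algebra.TensorProduct.map (AlgHom.id k K) (IsScalarTower.toAlgHom k R A)).toRingHom
      = ⊥ := by
  rw [eq_bot_iff]
  intro f hf
  rw [Ideal.mem_bot]
  by_contra hne
  have h1 : f ∈ nonZeroDivisors (K ⊗[k] R) := mem_nonZeroDivisors_of_ne_zero hne
  have h2 := mem_nonZeroDivisors_map_left (A := A) f h1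
  exact Set.disjoint_left.mp (Ideal.disjoint_nonZeroDivisors_of_mem_minimalPrimes hP) hf h2

end left

end Groth.Agent.Lib.helper5.TensorRegular
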