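import Mathlib
import Groth.Agent.Lib.Helper5.TensorRegular

/-!
# Transcendence degree of the components of a base field extension (helper5)

`S` of finite type over a field `k`, `K/k` a field extension, `P` a minimal prime of `K ⊗[k] S` and
`p` its contraction to `S`: `trdeg_K ((K ⊗ S)/P) = trdeg_k (S/p)` (`trdeg_quotient_eq`).
-/

set_option autoImplicit false
universe u
open TensorProduct

namespace Groth.Agent.Lib.helper5.TrdegBC

open Groth.Agent.Lib.helper5.TensorRegular

/-- a domain which is integral over an injective image of a polynomial ring in `s` variables has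
transcendence degree `s`. -/
theorem trdeg_eq_of_integral_injective {F B : Type u} [Field F] [CommRing B] [IsDomain B]
    [Algebra F B] (s : ℕ) (γ : MvPolynomial (Fin s) F →ₐ[F] B) (hinj : Function.Injective γ)
    (hint : γ.toRingHom.IsIntegral) : Algebra.trdeg F B = s := by
  letI := γ.toRingHom.toAlgebra
  haveI : IsScalarTower F (MvPolynomial (Fin s) F) B :=
    IsScalarTower.of_algebraMap_eq fun x => (γ.commutes x).symm
  haveI : FaithfulSMul (MvPolynomial (Fin s) F) B :=
    (faithfulSMul_iff_algebraMap_injective _ _).mpr hinj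
  haveI : Algebra.IsIntegral (MvPolynomial (Fin s) F) B := ⟨hint⟩
  have h1 := trdeg_add_eq F (MvPolynomial (Fin s) F) (A := B)
  have h0 : Algebra.trdeg (MvPolynomial (Fin s) F) B = 0 := trdeg_eq_zero
  rw [h0, add_zero] at h1
  rw [← h1, MvPolynomial.trdeg_of_isDomain]
  simp

section main

variable {k S K : Type u} [Field k] [CommRing S] [Algebra k S] [Algebra.FiniteType k S]
  [Field K] [Algebra k K]

/-- `trdeg_K ((K ⊗ S)/P) = trdeg_k (S/p)` for a minimal prime `P` of `K ⊗[k] S` with
contraction `p`. -/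
theorem trdeg_quotient_eq (P : Ideal (K ⊗[k] S)) (hP : P ∈ minimalPrimes (K ⊗[k] S))
    (p : Ideal S) [P.IsPrime] [p.IsPrime]
    (hp : P.comap (Algebra.TensorProduct.includeRight.toRingHom : S →+* K ⊗[k] S) = p) :
    Algebra.trdeg K ((K ⊗[k] S) ⧸ P) = Algebra.trdeg k (S ⧸ p) := by
  -- Noether normalization of `A = S/p`
  obtain ⟨s, g, hginj, hgint⟩ := exists_integral_inj_algHom_of_fg k (S ⧸ p)
  rw [trdeg_eq_of_integral_injective s g hginj hgint]
  -- the maps
  let α : (S ⧸ p) →ₐ[k] ((K ⊗[k] S) ⧸ P) :=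
    Ideal.Quotient.liftₐ p ((Ideal.Quotient.mkₐ k P).comp
      (Algebra.TensorProduct.includeRight : S →ₐ[k] K ⊗[k] S)) (by
      intro a ha
      rw [← hp] at ha
      exact Ideal.Quotient.eq_zero_iff_mem.mpr ha)
  let ρ : K ⊗[k] (S ⧸ p) →ₐ[K] ((K ⊗[k] S) ⧸ P) :=
    Algebra.TensorProduct.lift (Algebra.ofId K _) α (fun _ _ => Commute.all _ _)
  let ψ : K ⊗[k] S →ₐ[K] K ⊗[k] (S ⧸ p) :=
    Algebra.TensorProduct.map (AlgHom.id K K) (Ideal.Quotient.mkₐ k p)
  have hψsurj : Function.Surjective ψ := by
    intro w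
    induction w using TensorProduct.induction_on with
    | zero => exact ⟨0, map_zero _⟩
    | tmul c a =>
      obtain ⟨a', rfl⟩ := Ideal.Quotient.mk_surjective a
      exact ⟨c ⊗ₜ a', by simp [ψ]⟩
    | add x y hx hy =>
      obtain ⟨x', rfl⟩ := hx
      obtain ⟨y', rfl⟩ := hy
      exact ⟨x' + y', map_add _ _ _⟩
  have hρψ : ∀ z, ρ (ψ z) = Ideal.Quotient.mk P z := by
    intro z
    induction z using TensorProduct.induction_on with
    | zero => simp
    | tmul c a =>
      simp only [ψ, ρ, Algebra.TensorProduct.map_tmul, AlgHom.coe_id, id_eq,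
        Algebra.TensorProduct.lift_tmul, Ideal.Quotient.mkₐ_eq_mk, α]
      rw [Ideal.Quotient.liftₐ_apply, Ideal.Quotient.lift_mk]
      simp only [Algebra.ofId_apply]
      change (algebraMap K ((K ⊗[k] S) ⧸ P)) c *
        Ideal.Quotient.mk P ((1 : K) ⊗ₜ[k] a) = _
      rw [← Ideal.Quotient.mk_algebraMap, ← map_mul, Algebra.TensorProduct.algebraMap_apply,
        Algebra.TensorProduct.tmul_mul_tmul]
      simp
    | add x y hx hy => rw [map_add, map_add, map_add, hx, hy]
  -- `ker ρ` is a minimal prime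
  have hker : (RingHom.ker ρ.toRingHom).comap ψ.toRingHom = P := by
    ext z
    rw [Ideal.mem_comap, RingHom.mem_ker]
    change ρ (ψ z) = 0 ↔ _
    rw [hρψ, Ideal.Quotient.eq_zero_iff_mem]
  haveI hP'prime : (RingHom.ker ρ.toRingHom).IsPrime := RingHom.ker_isPrime _
  have hP'min : RingHom.ker ρ.toRingHom ∈ minimalPrimes (K ⊗[k] (S ⧸ p)) := by
    refine ⟨⟨hP'prime, bot_le⟩, ?_⟩
    rintro Q ⟨hQprime, -⟩ hQle
    have h1 : Q.comap ψ.toRingHom ≤ P := by rw [← hker]; exact Ideal.comap_mono hQle
    haveI := hQprime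
    have h2 : P ≤ Q.comap ψ.toRingHom := hP.2 ⟨Ideal.comap_isPrime _ _, bot_le⟩ h1
    intro w hw
    obtain ⟨z, rfl⟩ := hψsurj w
    have : z ∈ P := by rw [← hker]; exact hw
    exact h2 this
  -- the polynomial subring
  letI : Algebra (MvPolynomial (Fin s) k) (S ⧸ p) := g.toRingHom.toAlgebra
  haveI : IsScalarTower k (MvPolynomial (Fin s) k) (S ⧸ p) :=
    IsScalarTower.of_algebraMap_eq fun x => (g.commutes x).symm
  haveI : FaithfulSMul (MvPolynomial (Fin s) k) (S ⧸ p) :=
    (faithfulSMul_iff_algebraMap_injective _ _).mpr hginj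
  let e := MvPolynomial.algebraTensorAlgEquiv (σ := Fin s) k K
  haveI : IsDomain (K ⊗[k] MvPolynomial (Fin s) k) := e.toRingEquiv.toMulEquiv.isDomain _
  have hbot := comap_eq_bot_of_mem_minimalPrimes (R := MvPolynomial (Fin s) k)
    (RingHom.ker ρ.toRingHom) hP'min
  let φ : K ⊗[k] MvPolynomial (Fin s) k →ₐ[K] K ⊗[k] (S ⧸ p) :=
    Algebra.TensorProduct.map (AlgHom.id K K) (IsScalarTower.toAlgHom k _ _)
  have hφ : ∀ f, φ f = Algebra.TensorProduct.map (AlgHom.id k K)
      (IsScalarTower.toAlgHom k (MvPolynomial (Fin s) k) (S ⧸ p)) f := by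
    intro f
    induction f using TensorProduct.induction_on with
    | zero => simp
    | tmul c r => simp [φ]
    | add x y hx hy => rw [map_add, map_add, hx, hy]
  let γ : MvPolynomial (Fin s) K →ₐ[K] ((K ⊗[k] S) ⧸ P) := (ρ.comp φ).comp e.symm.toAlgHom
  have hγinj : Function.Injective γ := by
    rw [injective_iff_map_eq_zero]
    intro f' hf'
    have h1 : φ (e.symm f') ∈ RingHom.ker ρ.toRingHom := hf'
    have h2 : e.symm f' ∈ (RingHom.ker ρ.toRingHom).comap
        (Algebra.TensorProduct.map (AlgHom.id k K)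
          (IsScalarTower.toAlgHom k (MvPolynomial (Fin s) k) (S ⧸ p))).toRingHom := by
      rw [Ideal.mem_comap]
      rw [hφ] at h1
      exact h1
    rw [hbot, Ideal.mem_bot] at h2
    simpa using h2
  have hcomp : γ.toRingHom.comp (MvPolynomial.map (algebraMap k K)) =
      α.toRingHom.comp g.toRingHom := by
    apply MvPolynomial.ringHom_ext
    · intro c
      simp only [RingHom.comp_apply, MvPolynomial.map_C]
      change γ (MvPolynomial.C (algebraMap k K c)) = α (g (MvPolynomial.C c))
      rw [← MvPolynomial.algebraMap_eq, ← MvPolynomial.algebraMap_eq, γ.commutes, g.commutes,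
        α.commutes, ← IsScalarTower.algebraMap_apply]
    · intro i
      simp only [RingHom.comp_apply, MvPolynomial.map_X]
      change ρ (φ (e.symm (MvPolynomial.X i))) = α (g (MvPolynomial.X i))
      rw [MvPolynomial.algebraTensorAlgEquiv_symm_X]
      simp only [φ, ρ, Algebra.TensorProduct.map_tmul, AlgHom.coe_id, id_eq,
        Algebra.TensorProduct.lift_tmul, IsScalarTower.coe_toAlgHom', map_one, one_mul]
      rfl
  have hγint : γ.toRingHom.IsIntegral := by
    intro b
    obtain ⟨z, rfl⟩ := Ideal.Quotient.mk_surjective b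
    induction z using TensorProduct.induction_on with
    | zero => rw [map_zero]; exact RingHom.isIntegralElem_zero _
    | tmul c a =>
      have h1 : Ideal.Quotient.mk P (c ⊗ₜ[k] a) =
          γ.toRingHom (MvPolynomial.C c) * α (Ideal.Quotient.mk p a) := by
        rw [← hρψ]
        change _ = γ (MvPolynomial.C c) * _
        rw [← MvPolynomial.algebraMap_eq, γ.commutes]
        simp only [ψ, ρ, Algebra.TensorProduct.map_tmul, AlgHom.coe_id, id_eq,
          Algebra.TensorProduct.lift_tmul, Ideal.Quotient.mkₐ_eq_mk, Algebra.ofId_apply]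
      rw [h1]
      refine RingHom.IsIntegralElem.mul _ (RingHom.isIntegralElem_map _) ?_
      have h2 := (hgint (Ideal.Quotient.mk p a)).map α.toRingHom
      rw [← hcomp] at h2
      exact h2.of_comp
    | add x y hx hy => rw [map_add]; exact RingHom.IsIntegralElem.add _ hx hy
  exact trdeg_eq_of_integral_injective s γ hγinj hγint

end main

end Groth.Agent.Lib.helper5.TrdegBC
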