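import Groth.Agent.Lib.Helper5.SmoothSourceDescent
import Groth.Agent.Lib.Helper5.SmoothSection
import Groth.Agent.Lib.Helper4.SmoothSrcDescent

/-!
# Smoothness descends along smooth surjections on the source (helper5)

* `formallySmooth_of_retract`: a retract of a formally smooth algebra is formally smooth.
* `exists_etale_smooth_nhd`: `R → A → B` with `A → B` smooth, `R → B` smooth, `R → A` of finite presentation, `q` a prime
  of `B`: there is an étale `A`-algebra `A'`, smooth over `R`, with a prime over `q ∩ A` (étale-local sections of smooth maps).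
* `smooth_of_smooth_comp_scheme`: `f` smooth surjective, `f ≫ g` smooth ⇒ `g` smooth.
-/

set_option autoImplicit false
open CategoryTheory CategoryTheory.Limits AlgebraicGeometry Opposite
universe u

namespace Groth.Agent.Lib.helper5.SmoothSm

open TensorProduct

theorem formallySmooth_of_retract {R A C : Type u} [CommRing R] [CommRing A] [CommRing C] [Algebra R A] [Algebra R C]
    [Algebra.FormallySmooth R C] (ι : A →ₐ[R] C) (π : C →ₐ[R] A) (h : π.comp ι = AlgHom.id R A) :
    Algebra.FormallySmooth R A := by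
  refine Algebra.FormallySmooth.of_split π ((Ideal.Quotient.mkₐ R _).comp ι) ?_
  ext a
  have := congr($h a)
  rw [AlgHom.comp_apply, AlgHom.comp_apply]
  exact (AlgHom.kerSquareLift_mk π (ι a)).trans this

theorem exists_etale_smooth_nhd {R A B : Type u} [CommRing R] [CommRing A] [CommRing B] [Algebra R A] [Algebra A B]
    [Algebra R B] [IsScalarTower R A B] [Algebra.Smooth A B] [Algebra.Smooth R B] [Algebra.FinitePresentation R A]
    (q : Ideal B) [q.IsPrime] :
    ∃ (A' : Type u) (_ : CommRing A') (_ : Algebra A A') (_ : Algebra R A') (_ : IsScalarTower R A A'),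
      Algebra.Etale A A' ∧ Algebra.Smooth R A' ∧
      ∃ p' : Ideal A', p'.IsPrime ∧ p'.comap (algebraMap A A') = q.comap (algebraMap A B) := by
  obtain ⟨A', _, _, hA', τ, p', hp', hcomap⟩ := Groth.Agent.Lib.helper5.SmoothSection.exists_etale_section (A := A) q
  letI : Algebra R A' := ((algebraMap A A').comp (algebraMap R A)).toAlgebra
  haveI : IsScalarTower R A A' := .of_algebraMap_eq' rfl
  refine ⟨A', inferInstance, inferInstance, inferInstance, inferInstance, hA', ?_, p', hp', hcomap⟩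
  -- `C = B ⊗[A] A'` is étale over `B`, hence smooth over `R`
  haveI : Algebra.Etale B (B ⊗[A] A') := inferInstance
  haveI : Algebra.Smooth B (B ⊗[A] A') := ⟨inferInstance, inferInstance⟩
  haveI : Algebra.Smooth R (B ⊗[A] A') := Algebra.Smooth.comp R B (B ⊗[A] A')
  let ι : A' →ₐ[R] B ⊗[A] A' := (Algebra.TensorProduct.includeRight (R := A) (A := B) (B := A')).restrictScalars R
  let π : B ⊗[A] A' →ₐ[R] A' := (Algebra.TensorProduct.productMap τ (AlgHom.id A A')).restrictScalars R
  have hπι : π.comp ι = AlgHom.id R A' := by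
    ext a
    simp [ι, π]
  haveI : Algebra.FormallySmooth R A' := formallySmooth_of_retract ι π hπι
  haveI : Algebra.FinitePresentation A A' := inferInstance
  haveI : Algebra.FinitePresentation R A' := Algebra.FinitePresentation.trans R A A'
  exact ⟨inferInstance, inferInstance⟩

/-- pointwise version: `f ≫ g` smooth, `f` smooth; then `g` is smooth near every point of the image of `f`. -/
theorem exists_smooth_nhd {X' X Y : Scheme.{u}} (f : X' ⟶ X) (g : X ⟶ Y) [Smooth f] [Smooth (f ≫ g)]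
    [LocallyOfFinitePresentation g] (x' : X') : ∃ W : X.Opens, f x' ∈ W ∧ Smooth (W.ι ≫ g) := by
  obtain ⟨_, ⟨U, hU, rfl⟩, hxU, -⟩ :=
    Y.isBasis_affineOpens.exists_subset_of_mem_open (Set.mem_univ (g (f x'))) isOpen_univ
  obtain ⟨_, ⟨V, hV, rfl⟩, hxV, hVU0⟩ :=
    X.isBasis_affineOpens.exists_subset_of_mem_open hxU (U.2.preimage g.continuous)
  obtain ⟨_, ⟨V', hV', rfl⟩, hxV', hV'V0⟩ :=
    X'.isBasis_affineOpens.exists_subset_of_mem_open hxV (V.2.preimage f.continuous)
  have hVU : V ≤ g ⁻¹ᵁ U := hVU0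
  have hV'V : V' ≤ f ⁻¹ᵁ V := hV'V0
  have hV'U : V' ≤ (f ≫ g) ⁻¹ᵁ U := fun y hy => hVU (hV'V hy)
  have h1 : (f.appLE V V' hV'V).hom.Smooth := f.smooth_appLE hV hV' hV'V
  have h3 : (g.appLE U V hVU).hom.FinitePresentation := g.finitePresentation_appLE hU hV hVU
  have hcomp : g.appLE U V hVU ≫ f.appLE V V' hV'V = (f ≫ g).appLE U V' hV'U :=
    Scheme.Hom.appLE_comp_appLE f g U V V' hVU hV'V
  have h2 : ((f.appLE V V' hV'V).hom.comp (g.appLE U V hVU).hom).Smooth := by
    rw [← CommRingCat.hom_comp, hcomp]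
    exact (f ≫ g).smooth_appLE hU hV' hV'U
  algebraize [(g.appLE U V hVU).hom, (f.appLE V V' hV'V).hom,
    (f.appLE V V' hV'V).hom.comp (g.appLE U V hVU).hom]
  obtain ⟨A', _, _, _, _, hA', hRA', p', hp', hcomap⟩ :=
    exists_etale_smooth_nhd (R := Γ(Y, U)) (A := Γ(X, V)) (B := Γ(X', V'))
      (hV'.primeIdealOf ⟨x', hxV'⟩).asIdeal
  -- the étale neighbourhood `Spec A' ⟶ X`
  let eA : Spec (.of A') ⟶ Spec Γ(X, V) := Spec.map (CommRingCat.ofHom (algebraMap Γ(X, V) A'))
  haveI : Etale eA := (HasRingHomProperty.Spec_iff (P := @Etale)).2 (RingHom.etale_algebraMap.2 hA')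
  let e : Spec (.of A') ⟶ X := eA ≫ hV.fromSpec
  haveI : Etale e := inferInstance
  let W : X.Opens := ⟨Set.range e, e.isOpenMap.isOpen_range⟩
  have hsub : Set.range e ⊆ Set.range W.ι := by
    rw [Scheme.Opens.range_ι]
    exact le_rfl
  let e' : Spec (.of A') ⟶ (W : Scheme.{u}) := IsOpenImmersion.lift W.ι e hsub
  have hfac : e' ≫ W.ι = e := IsOpenImmersion.lift_fac _ _ _
  haveI : Etale (e' ≫ W.ι) := by rw [hfac]; infer_instance
  haveI : Etale e' :=
    MorphismProperty.of_postcomp (W := @Etale) (W' := @LocallyOfFiniteType ⊓ @FormallyUnramified)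
      e' W.ι ⟨inferInstance, inferInstance⟩ inferInstance
  haveI : Surjective e' := by
    constructor
    intro v
    obtain ⟨u, hu⟩ : W.ι v ∈ Set.range e := by
      have : W.ι v ∈ Set.range W.ι := ⟨v, rfl⟩
      rw [Scheme.Opens.range_ι] at this
      exact this
    refine ⟨u, ?_⟩
    apply W.ι.injective
    rw [← Scheme.Hom.comp_apply, hfac, hu]
  -- `Spec A' ⟶ Y` is smooth
  have hsm : Smooth (e' ≫ W.ι ≫ g) := by
    rw [← Category.assoc, hfac]
    have e1 : e ≫ g = Spec.map (CommRingCat.ofHom (algebraMap Γ(Y, U) A')) ≫ hU.fromSpec := by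
      have h4 : CommRingCat.ofHom (algebraMap Γ(Y, U) A') =
          g.appLE U V hVU ≫ CommRingCat.ofHom (algebraMap Γ(X, V) A') := by
        ext r
        exact IsScalarTower.algebraMap_apply Γ(Y, U) Γ(X, V) A' r
      have h5 : Spec.map (g.appLE U V hVU) ≫ IsAffineOpen.fromSpec hU = IsAffineOpen.fromSpec hV ≫ g :=
        IsAffineOpen.SpecMap_appLE_fromSpec g hU hV hVU
      calc e ≫ g = eA ≫ (IsAffineOpen.fromSpec hV ≫ g) := Category.assoc _ _ _
        _ = eA ≫ (Spec.map (g.appLE U V hVU) ≫ IsAffineOpen.fromSpec hU) := by rw [h5]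
        _ = _ := by rw [h4, Spec.map_comp, Category.assoc]
    rw [e1]
    haveI : Smooth (Spec.map (CommRingCat.ofHom (algebraMap Γ(Y, U) A'))) :=
      (HasRingHomProperty.Spec_iff (P := @Smooth)).2 (RingHom.smooth_algebraMap.2 hRA')
    infer_instance
  haveI := hsm
  refine ⟨W, ?_, SmoothSrc.smooth_of_etale_comp_scheme e' (W.ι ≫ g)⟩
  -- the point
  refine ⟨(⟨p', hp'⟩ : PrimeSpectrum A'), ?_⟩
  have h5 : eA (⟨p', hp'⟩ : PrimeSpectrum A') = hV.primeIdealOf ⟨f x', hxV⟩ := by
    rw [← IsAffineOpen.comap_primeIdealOf_appLE V hV V' hV' hV'V hxV']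
    apply PrimeSpectrum.ext
    exact hcomap
  show hV.fromSpec (eA (⟨p', hp'⟩ : PrimeSpectrum A')) = f x'
  rw [h5, hV.fromSpec_primeIdealOf]

/-- **Smoothness descends along smooth surjections on the source.** -/
theorem smooth_of_smooth_comp_scheme {X' X Y : Scheme.{u}} (f : X' ⟶ X) (g : X ⟶ Y)
    [Smooth f] [Surjective f] [Smooth (f ≫ g)] : Smooth g := by
  haveI : LocallyOfFinitePresentation g :=
    Groth.Agent.Lib.helper4.SmSrc.locallyOfFinitePresentation_of_smooth_comp f g
  have key : ∀ x : X, ∃ W : X.Opens, x ∈ W ∧ Smooth (W.ι ≫ g) := by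
    intro x
    obtain ⟨x', rfl⟩ := f.surjective x
    exact exists_smooth_nhd f g x'
  choose W hW1 hW2 using key
  have hcov : ⨆ x, W x = ⊤ := by
    rw [eq_top_iff]
    intro x _
    exact TopologicalSpace.Opens.mem_iSup.mpr ⟨x, hW1 x⟩
  exact (IsZariskiLocalAtSource.iff_of_iSup_eq_top (P := @Smooth) W hcov).2 hW2

end Groth.Agent.Lib.helper5.SmoothSm
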