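import Groth.Agent.Lib.Helper5.AlgSpAffDesc2
import Groth.Agent.Lib.Helper5.AlgSpFibreProduct

/-!
Affine morphisms of algebraic spaces are fpqc local on the base (helper5): the general form, carrying an extra property `P`
of the affine base changes.
-/

set_option autoImplicit false
universe u
open CategoryTheory CategoryTheory.Limits AlgebraicGeometry Opposite
open AlgSp

namespace Groth.Agent.Lib.helper5.AffDesc

variable {S : Scheme.{u}}

/-- Affine-type morphism with an extra property `P` of the base changes to affine schemes. -/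
def AffineWith (P : MorphismProperty Scheme.{u}) : MorphismProperty (Sp S) := fun F G f =>
  ∀ ⦃Z : Over S⦄, IsAffine Z.left → ∀ (g : (yon S).obj Z ⟶ G),
    ∃ (W : Over S) (i : W ⟶ Z) (fst : (yon S).obj W ⟶ F),
      IsPullback fst ((yon S).map i) f g ∧ IsAffine W.left ∧ P i.left

theorem AffineWith.of_isPullback {P : MorphismProperty Scheme.{u}} {X Y X' Y' : Sp S} {f : X ⟶ Y}
    {g : Y' ⟶ Y} {p : X' ⟶ Y'} {q : X' ⟶ X} (sq : IsPullback q p f g) (hf : AffineWith P f) :
    AffineWith P p := by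
  intro Z hZ h
  obtain ⟨W, i, fst, sqW, hW, hP⟩ := hf hZ (h ≫ g)
  obtain ⟨r, -, sqr⟩ := isPullback_of_lift sq sqW
  exact ⟨W, i, r, sqr, hW, hP⟩

/-- The main descent statement: base changes of `f` to affine schemes are affine schemes, and fpqc locally they are
base changes of the `p i`. -/
theorem exists_affine_pullback_of_fpqc (P : MorphismProperty Scheme.{u}) {ι : Type u} {Y : Sp S}
    (Yi : ι → Sp S) (g : ∀ i, Yi i ⟶ Y) (hY : IsAlgSpace Y) (hg : IsFpqcCover Yi g)
    {X : Sp S} (f : X ⟶ Y) (hX : IsAlgSpace X) (Xi : ι → Sp S) (p : ∀ i, Xi i ⟶ Yi i)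
    (q : ∀ i, Xi i ⟶ X) (sq : ∀ i, IsPullback (q i) (p i) f (g i))
    (hp : ∀ i, AffineWith P (p i)) {Z : Over S} (hZ : IsAffine Z.left)
    (h : (yon S).obj Z ⟶ Y) :
    ∃ (W : Over S) (k : W ⟶ Z) (fst : (yon S).obj W ⟶ X),
      IsPullback fst ((yon S).map k) f h ∧ IsAffine W.left ∧
      ∃ (m : ℕ) (V : Fin m → Over S) (c : ∀ j, V j ⟶ Z),
        (∀ j, IsAffine (V j).left) ∧ (∀ j, Flat (c j).left) ∧
        (∀ z : ↥Z.left, ∃ j, z ∈ Set.range (c j).left) ∧
        ∀ j, ∃ (W' : Over S) (k' : W' ⟶ V j) (b : W' ⟶ W), IsPullback b k' k (c j) ∧ P k'.left := by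
  obtain ⟨m, V, c, hVa, hcf, hcs, hl⟩ := hg.2 Z hZ h
  choose i l hl using hl
  -- the base changes to the `V j`
  have hex : ∀ j, ∃ (W' : Over S) (k' : W' ⟶ V j) (fst : (yon S).obj W' ⟶ Xi (i j)),
      IsPullback fst ((yon S).map k') (p (i j)) (l j) ∧ IsAffine W'.left ∧ P k'.left :=
    fun j => hp (i j) (hVa j) (l j)
  choose W' k' fst' sq' hW'a hPk' using hex
  -- the fibre product
  have sqF : IsPullback (pullback.fst f h) (pullback.snd f h) f h := IsPullback.of_hasPullback _ _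
  have hF : IsAlgSpace (pullback f h) :=
    isAlgSpace_of_isPullback hY.diag hX (IsAlgSpace.yon_obj Z) sqF
  have sq1 : ∀ j, IsPullback (fst' j ≫ q (i j)) ((yon S).map (k' j)) f
      ((yon S).map (c j) ≫ h) := by
    intro j
    have := (sq' j).paste_horiz (sq (i j))
    rw [hl j] at this
    exact this
  have hw : ∀ j, (fst' j ≫ q (i j)) ≫ f = ((yon S).map (k' j) ≫ (yon S).map (c j)) ≫ h := by
    intro j
    rw [(sq1 j).w, Category.assoc]
  have ha1 : ∀ j, sqF.lift _ _ (hw j) ≫ pullback.fst f h = fst' j ≫ q (i j) :=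
    fun j => sqF.lift_fst _ _ _
  have ha2 : ∀ j, sqF.lift _ _ (hw j) ≫ pullback.snd f h = (yon S).map (k' j) ≫ (yon S).map (c j) :=
    fun j => sqF.lift_snd _ _ _
  have sqa : ∀ j, IsPullback (sqF.lift _ _ (hw j)) ((yon S).map (k' j)) (pullback.snd f h)
      ((yon S).map (c j)) := by
    intro j
    refine IsPullback.of_right ?_ (ha2 j) sqF
    rw [ha1 j]
    exact sq1 j
  have : IsAffine Z.left := hZ
  obtain ⟨W, k, cc, hWa, hcc, hck⟩ := exists_affine_rep hF (pullback.snd f h) V c hVa hcf hcs W'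
    hW'a (fun j => sqF.lift _ _ (hw j)) k' sqa
  have sqW : IsPullback (inv cc ≫ pullback.fst f h) ((yon S).map k) f h := by
    have h1 : IsPullback (inv cc) ((yon S).map k) (pullback.snd f h) (𝟙 _) :=
      IsPullback.of_horiz_isIso ⟨by rw [Category.comp_id, ← hck, IsIso.inv_hom_id_assoc]⟩
    have h2 := h1.paste_horiz sqF
    rw [Category.id_comp] at h2
    exact h2
  refine ⟨W, k, _, sqW, hWa, m, V, c, hVa, hcf, hcs, fun j => ?_⟩
  obtain ⟨b, hb⟩ := (yon S).map_surjective (sqF.lift _ _ (hw j) ≫ cc)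
  refine ⟨W' j, k' j, b, ?_, hPk' j⟩
  apply isPullback_of_yon
  rw [hb]
  have h3 : IsPullback cc (pullback.snd f h) ((yon S).map k) (𝟙 _) :=
    IsPullback.of_horiz_isIso ⟨by rw [Category.comp_id, hck]⟩
  have h4 := (sqa j).paste_horiz h3
  rw [Category.comp_id] at h4
  exact h4

end Groth.Agent.Lib.helper5.AffDesc
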