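import Groth.Agent.Lib.Helper5.AlgSpQAffDesc

/-!
Quasi-affine morphisms of algebraic spaces are fpqc local on the base (helper5).
-/

set_option autoImplicit false
universe u
open CategoryTheory CategoryTheory.Limits AlgebraicGeometry Opposite
open AlgSp

namespace Groth.Agent.Lib.helper5.QAffDesc

open Groth.Agent.Lib.helper5.AffDesc

variable {S : Scheme.{u}}

theorem isQuasiAffineMor_of_isPullback {X Y X' Y' : Sp S} {f : X ⟶ Y}
    {g : Y' ⟶ Y} {p : X' ⟶ Y'} {q : X' ⟶ X} (sq : IsPullback q p f g) (hf : IsQuasiAffineMor f) :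
    IsQuasiAffineMor p := by
  intro Z hZ h
  obtain ⟨W, i, fst, sqW, hW⟩ := hf hZ (h ≫ g)
  obtain ⟨r, -, sqr⟩ := isPullback_of_lift sq sqW
  exact ⟨W, i, r, sqr, hW⟩

/-- The main descent statement: base changes of `f` to affine schemes are quasi-affine schemes. -/
theorem exists_quasiAffine_pullback_of_fpqc {ι : Type u} {Y : Sp S}
    (Yi : ι → Sp S) (g : ∀ i, Yi i ⟶ Y) (hY : IsAlgSpace Y) (hg : IsFpqcCover Yi g)
    {X : Sp S} (f : X ⟶ Y) (hX : IsAlgSpace X) (Xi : ι → Sp S) (p : ∀ i, Xi i ⟶ Yi i)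
    (q : ∀ i, Xi i ⟶ X) (sq : ∀ i, IsPullback (q i) (p i) f (g i))
    (hp : ∀ i, IsQuasiAffineMor (p i)) {Z : Over S} (hZ : IsAffine Z.left)
    (h : (yon S).obj Z ⟶ Y) :
    ∃ (W : Over S) (k : W ⟶ Z) (fst : (yon S).obj W ⟶ X),
      IsPullback fst ((yon S).map k) f h ∧ W.left.IsQuasiAffine := by
  obtain ⟨m, V, c, hVa, hcf, hcs, hl⟩ := hg.2 Z hZ h
  choose i l hl using hl
  have hex : ∀ j, ∃ (W' : Over S) (k' : W' ⟶ V j) (fst : (yon S).obj W' ⟶ Xi (i j)),
      IsPullback fst ((yon S).map k') (p (i j)) (l j) ∧ W'.left.IsQuasiAffine :=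
    fun j => hp (i j) (hVa j) (l j)
  choose W' k' fst' sq' hW'a using hex
  have sqF : IsPullback (pullback.fst f h) (pullback.snd f h) f h := IsPullback.of_hasPullback _ _
  have hF : IsAlgSpace (pullback f h) :=
    isAlgSpace_of_isPullback hY.diag hX (IsAlgSpace.yon_obj Z) sqF
  have sq1 : ∀ j, IsPullback (fst' j ≫ q (i j)) ((yon S).map (k' j)) f
      ((yon S).map (c j) ≫ h) := by
    intro j
    have := (sq' j).paste_horiz (sq (i j))
    rw [hl j] at this
    exact this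
  have hw : ∀ j, (fst' j ≫ q (i j)) ≫ f = ((yon S).map (k' j) ≫ (yon S).map (c j)) ≫ h := by
    intro j
    rw [(sq1 j).w, Category.assoc]
  have ha1 : ∀ j, sqF.lift _ _ (hw j) ≫ pullback.fst f h = fst' j ≫ q (i j) :=
    fun j => sqF.lift_fst _ _ _
  have ha2 : ∀ j, sqF.lift _ _ (hw j) ≫ pullback.snd f h = (yon S).map (k' j) ≫ (yon S).map (c j) :=
    fun j => sqF.lift_snd _ _ _
  have sqa : ∀ j, IsPullback (sqF.lift _ _ (hw j)) ((yon S).map (k' j)) (pullback.snd f h)
      ((yon S).map (c j)) := by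
    intro j
    refine IsPullback.of_right ?_ (ha2 j) sqF
    rw [ha1 j]
    exact sq1 j
  have : IsAffine Z.left := hZ
  obtain ⟨W, k, cc, hWa, hcc, hck⟩ := exists_quasiAffine_rep hF (pullback.snd f h) V c hVa hcf hcs W'
    hW'a (fun j => sqF.lift _ _ (hw j)) k' sqa
  have sqW : IsPullback (inv cc ≫ pullback.fst f h) ((yon S).map k) f h := by
    have h1 : IsPullback (inv cc) ((yon S).map k) (pullback.snd f h) (𝟙 _) :=
      IsPullback.of_horiz_isIso ⟨by rw [Category.comp_id, ← hck, IsIso.inv_hom_id_assoc]⟩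
    have h2 := h1.paste_horiz sqF
    rw [Category.id_comp] at h2
    exact h2
  exact ⟨W, k, _, sqW, hWa⟩

/-- Quasi-affine morphisms of algebraic spaces are fpqc local on the base. -/
theorem isLocalOnBase_fpqc_isQuasiAffineMor :
    IsLocalOnBase (IsFpqcCover (S := S)) IsQuasiAffineMor := by
  intro ι Y Yi g hY hYi hg X f hX Xi p q hXi sq
  constructor
  · intro hf i
    exact isQuasiAffineMor_of_isPullback (sq i) hf
  · intro hp Z hZ h
    exact exists_quasiAffine_pullback_of_fpqc Yi g hY hg f hX Xi p q sq hp hZ h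

end Groth.Agent.Lib.helper5.QAffDesc
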