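import Groth.Agent.Lib.Helper5.AffDescRing

/-!
Ring-level input for quasi-affine descent of algebraic spaces (helper5).
-/

set_option autoImplicit false
universe u
open TensorProduct CategoryTheory CategoryTheory.Limits

namespace Groth.Agent.Lib.helper5.AffDescRing2

open Groth.Agent.Lib.helper5.AffDescRing

section Main

/-- The ring-level core of (quasi-)affine descent, in `CommRingCat` form: only injectivity of `ι` is used. -/
theorem bijective_theta' {A AW C D CW DW B BW E : CommRingCat.{u}}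
    (α : A ⟶ AW) (γ : A ⟶ C) (r₁ r₂ : C ⟶ D) (jC : C ⟶ CW) (αC : AW ⟶ CW) (jD : D ⟶ DW)
    (αD : AW ⟶ DW) (r₁' r₂' : CW ⟶ DW) (βA : A ⟶ B) (β : B ⟶ C) (jB : B ⟶ BW) (αB : AW ⟶ BW)
    (ν : BW ⟶ CW) (ι : E ⟶ CW) (θ : BW ⟶ E)
    (hγ : γ ≫ r₁ = γ ≫ r₂) (poC : IsPushout γ α jC αC) (poD : IsPushout (γ ≫ r₁) α jD αD)
    (poB : IsPushout βA α jB αB) (hβ : βA ≫ β = γ)
    (c1 : jC ≫ r₁' = r₁ ≫ jD) (c2 : jC ≫ r₂' = r₂ ≫ jD) (a1 : αC ≫ r₁' = αD)
    (a2 : αC ≫ r₂' = αD) (cν : jB ≫ ν = β ≫ jC) (aν : αB ≫ ν = αC)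
    (hflat : α.hom.Flat) (βinj : Function.Injective β.hom)
    (βrange : ∀ x : C, r₁.hom x = r₂.hom x → x ∈ Set.range β.hom)
    (hw : ι ≫ r₁' = ι ≫ r₂') (hιinj : Function.Injective ι.hom) (hθ : θ ≫ ι = ν) :
    Function.Bijective θ.hom := by
  algebraize [α.hom, γ.hom, (γ ≫ r₁).hom, βA.hom, jC.hom, αC.hom, jD.hom, αD.hom, jB.hom, αB.hom]
  let _ : Algebra A CW := (γ ≫ jC).hom.toAlgebra
  let _ : Algebra A DW := ((γ ≫ r₁) ≫ jD).hom.toAlgebra
  let _ : Algebra A BW := (βA ≫ jB).hom.toAlgebra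
  have : IsScalarTower A C CW := .of_algebraMap_eq' rfl
  have : IsScalarTower A AW CW := .of_algebraMap_eq' (by
    show (γ ≫ jC).hom = (α ≫ αC).hom
    rw [poC.w])
  have : IsScalarTower A D DW := .of_algebraMap_eq' rfl
  have : IsScalarTower A AW DW := .of_algebraMap_eq' (by
    show ((γ ≫ r₁) ≫ jD).hom = (α ≫ αD).hom
    rw [poD.w])
  have : IsScalarTower A B BW := .of_algebraMap_eq' rfl
  have : IsScalarTower A AW BW := .of_algebraMap_eq' (by
    show (βA ≫ jB).hom = (α ≫ αB).hom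
    rw [poB.w])
  have hC : Algebra.IsPushout A AW C CW :=
    (CommRingCat.isPushout_iff_isPushout.1 poC.flip)
  have hD : Algebra.IsPushout A AW D DW :=
    (CommRingCat.isPushout_iff_isPushout.1 poD.flip)
  have hB : Algebra.IsPushout A AW B BW :=
    (CommRingCat.isPushout_iff_isPushout.1 poB.flip)
  have : Module.Flat A AW := hflat
  -- the algebra maps
  let R₁ : C →ₐ[A] D := ⟨r₁.hom, fun a => rfl⟩
  let R₂ : C →ₐ[A] D := ⟨r₂.hom, fun a => by
    show r₂.hom (γ.hom a) = r₁.hom (γ.hom a)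
    exact (congrArg (fun k => k.hom a) hγ).symm⟩
  let R₁' : CW →ₐ[AW] DW := ⟨r₁'.hom, fun a => congrArg (fun k => k.hom a) a1⟩
  let R₂' : CW →ₐ[AW] DW := ⟨r₂'.hom, fun a => congrArg (fun k => k.hom a) a2⟩
  let Bt : B →ₐ[A] C := ⟨β.hom, fun a => congrArg (fun k => k.hom a) hβ⟩
  let Nu : BW →ₐ[AW] CW := ⟨ν.hom, fun a => congrArg (fun k => k.hom a) aν⟩
  have hR1 : ∀ c, R₁' (algebraMap C CW c) = algebraMap D DW (R₁ c) :=
    fun c => congrArg (fun k => k.hom c) c1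
  have hR2 : ∀ c, R₂' (algebraMap C CW c) = algebraMap D DW (R₂ c) :=
    fun c => congrArg (fun k => k.hom c) c2
  have hNu : ∀ b, Nu (algebraMap B BW b) = algebraMap C CW (Bt b) :=
    fun b => congrArg (fun k => k.hom b) cν
  have hνinj : Function.Injective ν.hom := injective_of_flat Bt βinj Nu hNu
  have hθι : ∀ y, ι.hom (θ.hom y) = ν.hom y := fun y => congrArg (fun k => k.hom y) hθ
  refine ⟨fun y y' hyy => hνinj (by rw [← hθι, ← hθι, hyy]), fun e => ?_⟩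
  have hx : R₁' (ι.hom e) = R₂' (ι.hom e) := congrArg (fun k => k.hom e) hw
  have hmem := mem_span_of_eq R₁ R₂ R₁' R₂' hR1 hR2 (ι.hom e) hx
  have hle : Submodule.span AW (algebraMap C CW '' {c | R₁ c = R₂ c}) ≤
      LinearMap.range Nu.toLinearMap := by
    rw [Submodule.span_le]
    rintro _ ⟨c, hc, rfl⟩
    obtain ⟨b, rfl⟩ := βrange c hc
    exact ⟨algebraMap B BW b, hNu b⟩
  obtain ⟨y, hy⟩ := hle hmem
  refine ⟨y, hιinj ?_⟩
  rw [hθι]
  exact hy

end Main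

end Groth.Agent.Lib.helper5.AffDescRing2
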