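import Mathlib
import Groth.Prelude.Def_AlgSpGpd
import Groth.Prelude.Def_AlgSp3
import Groth.Agent.Lib.Helper5.GrpShear
import Groth.Agent.Lib.Helper5.AlgSpOpenSub
import Groth.Agent.Lib.Helper5.AlgSpFibreProduct
import Groth.Agent.Lib.Helper1.AlgSpBootstrap

/-!
# Loci of group algebraic spaces (helper5)

For a "locus package" (`LocusPkg P Q`: a pointwise predicate `Q` on morphisms of schemes whose locus in `|X|` is open,
compatible with base change, and detects `LocP P`), and a group algebraic space `G ⟶ B` locally of finite type, the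
`Q`-locus of `G ⟶ B` is the preimage of an open `Ω ⊆ |B|` (translation argument), and for every `t : T ⟶ B` the base change
`G_T ⟶ T` has `P` iff `t` maps `|T|` into `Ω` (`locP_iff_of_isPullback`).  This gives the largest open subspace of `B` over
which `G` has `P`, compatibly with base change (`exists_largest_open`).
-/

set_option autoImplicit false
universe u
open CategoryTheory CategoryTheory.Limits AlgebraicGeometry MonoidalCategory MonObj
open AlgSp

namespace Groth.Agent.Lib.helper5.GrpLocus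

/-- A pointwise predicate `Q` whose locus is open, commutes with base change and detects `LocP P`. -/
structure LocusPkg (P : MorphismProperty Scheme.{u}) (Q : ∀ (U V : Scheme.{u}), (U ⟶ V) → ↥U → Prop) : Prop where
  isOpen : ∀ {S : Scheme.{u}} {X Y : Sp S} (f : X ⟶ Y), IsOpen {x : Points X | HasAtMor Q f x}
  baseChange : ∀ {S : Scheme.{u}} {X Y Y' X' : Sp S} (_ : IsAlgSpace X) (_ : IsAlgSpace Y) (_ : IsAlgSpace Y')
    {f : X ⟶ Y} {g : Y' ⟶ Y} {g' : X' ⟶ X} {f' : X' ⟶ Y'} (_ : IsPullback g' f' f g)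
    (_ : LocP @LocallyOfFiniteType f) (x' : Points X'), HasAtMor Q f' x' ↔ HasAtMor Q f (Points.map g' x')
  of_locP : ∀ {S : Scheme.{u}} {X Y : Sp S} (_ : IsAlgSpace X) (_ : IsAlgSpace Y) (f : X ⟶ Y), LocP P f →
    ∀ x : Points X, HasAtMor Q f x
  to_locP : ∀ {S : Scheme.{u}} {X Y : Sp S} (f : X ⟶ Y), (∀ x : Points X, HasAtMor Q f x) → LocP P f

variable {S : Scheme.{u}}

/-- the source of a representable morphism to an algebraic space is an algebraic space -/
theorem isAlgSpace_of_representable {F G : Sp S} (f : F ⟶ G) (hf : Representable f) (hG : IsAlgSpace G) :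
    IsAlgSpace F := by
  refine Groth.Agent.H1.AlgSpBootstrap.isAlgSpace_of_repS f (fun U ξ F' fst snd sq => ?_) hG
  obtain ⟨V, v, fst', sq'⟩ := hf ξ
  exact (IsAlgSpace.yon_obj V).of_iso (sq'.isoIsPullback _ _ sq)

variable {P : MorphismProperty Scheme.{u}} {Q : ∀ (U V : Scheme.{u}), (U ⟶ V) → ↥U → Prop}

section
variable {B : Sp S} (G : Over B) [GrpObj G]

/-- the unit section `B ⟶ G` -/
noncomputable def e : B ⟶ G.left := η[G].left

@[reassoc (attr := simp)]
theorem e_hom : e G ≫ G.hom = 𝟙 B := Over.w η[G]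

/-- the multiplication `G ×_B G ⟶ G` -/
noncomputable def m : pullback G.hom G.hom ⟶ G.left := μ[G].left

theorem isPullback_fst_m : IsPullback (m G) (pullback.fst G.hom G.hom) G.hom G.hom := by
  have h0 : IsPullback (pullback.snd G.hom G.hom) (pullback.fst G.hom G.hom) G.hom G.hom :=
    (IsPullback.of_hasPullback G.hom G.hom).flip
  let τ : pullback G.hom G.hom ≅ pullback G.hom G.hom := (Over.forget B).mapIso (GrpShear.shear G)
  have h1 : τ.inv ≫ m G = pullback.snd G.hom G.hom :=
    congrArg (fun k => k.left) (GrpShear.shear_inv_mul G)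
  have h2 : τ.inv ≫ pullback.fst G.hom G.hom = pullback.fst G.hom G.hom :=
    congrArg (fun k => k.left) (GrpShear.shear_inv_fst G)
  refine IsPullback.of_iso h0 τ.symm (Iso.refl _) (Iso.refl _) (Iso.refl _) ?_ ?_ ?_ ?_
  · simpa using h1.symm
  · simpa using h2.symm
  · simp
  · simp

/-- `g ↦ (g, 1)` -/
noncomputable def sec : G.left ⟶ pullback G.hom G.hom := (GrpShear.unitSec G).left

theorem sec_m : sec G ≫ m G = 𝟙 G.left := congrArg (fun k => k.left) (GrpShear.unitSec_mul G)

theorem sec_snd : sec G ≫ pullback.snd G.hom G.hom = G.hom ≫ e G :=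
  congrArg (fun k => k.left) (GrpShear.unitSec_snd G)

/-- translation: the `Q`-locus of `G ⟶ B` is the preimage of its trace on the unit section. -/
theorem hasAtMor_iff_unit (pkg : LocusPkg P Q) (hB : IsAlgSpace B) (hG : IsAlgSpace G.left)
    (hlft : LocP @LocallyOfFiniteType G.hom) (g : Points G.left) :
    HasAtMor Q G.hom g ↔ HasAtMor Q G.hom (Points.map (e G) (Points.map G.hom g)) := by
  have h1 := pkg.baseChange hG hB hG (IsPullback.of_hasPullback G.hom G.hom).flip hlft (Points.map (sec G) g)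
  have h2 := pkg.baseChange hG hB hG (isPullback_fst_m G) hlft (Points.map (sec G) g)
  rw [← Points.map_comp, sec_snd, Points.map_comp] at h1
  rw [← Points.map_comp, sec_m, Points.map_id] at h2
  exact h2.symm.trans h1

/-- the open subset of `|B|` over which `G` has `Q` at the unit section -/
def Om (Q : ∀ (U V : Scheme.{u}), (U ⟶ V) → ↥U → Prop) : Set (Points B) :=
  {b | HasAtMor Q G.hom (Points.map (e G) b)}

theorem isOpen_Om (pkg : LocusPkg P Q) : IsOpen (Om G Q) :=
  (pkg.isOpen G.hom).preimage (Points.continuous_map (e G))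

/-- the base change of `G` along `t : T ⟶ B` has `P` iff `t` lands in `Ω`. -/
theorem locP_iff_of_isPullback (pkg : LocusPkg P Q) (hB : IsAlgSpace B) (hG : IsAlgSpace G.left)
    (hlft : LocP @LocallyOfFiniteType G.hom) {T X : Sp S} (hT : IsAlgSpace T) (t : T ⟶ B) (a : X ⟶ G.left)
    (c : X ⟶ T) (sq : IsPullback a c G.hom t) :
    LocP P c ↔ ∀ y : Points T, Points.map t y ∈ Om G Q := by
  have hX : IsAlgSpace X := isAlgSpace_of_isPullback hB.diag hG hT sq
  constructor
  · intro hc y
    obtain ⟨σ, hσa, hσc⟩ := sq.exists_lift (t ≫ e G) (𝟙 T) (by simp)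
    have h1 := (pkg.baseChange hG hB hT sq hlft (Points.map σ y)).1 (pkg.of_locP hX hT c hc _)
    rw [← Points.map_comp, hσa, Points.map_comp] at h1
    exact h1
  · intro h
    refine pkg.to_locP c fun z => (pkg.baseChange hG hB hT sq hlft z).2 ?_
    have h1 : Points.map G.hom (Points.map a z) = Points.map t (Points.map c z) := by
      rw [← Points.map_comp, sq.w, Points.map_comp]
    rw [hasAtMor_iff_unit G pkg hB hG hlft, h1]
    exact h _

end

/-- the largest open subspace of the base over which a group algebraic space has `P`. -/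
theorem exists_largest_open (pkg : LocusPkg P Q) (B : Sp S) (hB : IsAlgSpace B)
    (G : Over B) [GrpObj G] (hG : IsAlgSpace G.left) (hlft : LocP @LocallyOfFiniteType G.hom) :
    ∃ (W : Sp S) (w : W ⟶ B), RepWith @IsOpenImmersion w ∧
      (∀ (W' : Sp S) (w' : W' ⟶ B), RepWith @IsOpenImmersion w' →
        (LocP P (pullback.snd G.hom w') ↔ ∃ k : W' ⟶ W, k ≫ w = w')) ∧
      (∀ (B' : Sp S), IsAlgSpace B' → ∀ (f : B' ⟶ B) (W'' : Sp S) (w'' : W'' ⟶ B'),
        RepWith @IsOpenImmersion w'' →
        (LocP P (pullback.snd (pullback.snd G.hom f) w'') ↔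
          ∃ k : W'' ⟶ pullback w f, k ≫ pullback.snd w f = w'')) := by
  obtain ⟨W, w, hw, hr, -⟩ := OpenSub.exists_openSub ⟨B, hB⟩ (Om G Q) (isOpen_Om G pkg)
  refine ⟨W.obj, w.hom, hw, ?_, ?_⟩
  · intro W' w' hw'
    have hW' : IsAlgSpace W' := isAlgSpace_of_representable w' hw'.1 hB
    rw [locP_iff_of_isPullback G pkg hB hG hlft hW' w' _ _ (IsPullback.of_hasPullback G.hom w'),
      OpenSub.factors_iff w.hom hw w', hr]
    exact ⟨fun h => by rintro _ ⟨y, rfl⟩; exact h y, fun h y => h ⟨y, rfl⟩⟩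
  · intro B' hB' f W'' w'' hw''
    have hW'' : IsAlgSpace W'' := isAlgSpace_of_representable w'' hw''.1 hB'
    have sq : IsPullback (pullback.fst (pullback.snd G.hom f) w'' ≫ pullback.fst G.hom f)
        (pullback.snd (pullback.snd G.hom f) w'') G.hom (w'' ≫ f) :=
      (IsPullback.of_hasPullback (pullback.snd G.hom f) w'').paste_horiz (IsPullback.of_hasPullback G.hom f)
    rw [locP_iff_of_isPullback G pkg hB hG hlft hW'' (w'' ≫ f) _ _ sq]
    have key : (∃ k : W'' ⟶ pullback w.hom f, k ≫ pullback.snd w.hom f = w'') ↔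
        ∃ k₁ : W'' ⟶ W.obj, k₁ ≫ w.hom = w'' ≫ f := by
      constructor
      · rintro ⟨k, hk⟩
        exact ⟨k ≫ pullback.fst w.hom f, by rw [Category.assoc, pullback.condition, ← Category.assoc, hk]⟩
      · rintro ⟨k₁, hk₁⟩
        exact ⟨pullback.lift k₁ w'' hk₁, pullback.lift_snd _ _ _⟩
    rw [key, OpenSub.factors_iff w.hom hw (w'' ≫ f), hr]
    exact ⟨fun h => by rintro _ ⟨y, rfl⟩; exact h y, fun h y => h ⟨y, rfl⟩⟩

end Groth.Agent.Lib.helper5.GrpLocus
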