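import Mathlib
import Groth.Prelude.Def_Desc
import Groth.Agent.Lib.Helper4.DescGrpd

/-!
# Descent data from a relation on points (helper5)

`RelData p obj`: an equivalence relation on the `T`-points of a scheme `obj` over `X`, compatible with
base change, such that every point `v₀` has exactly one related point over each `x₁ : T ⟶ X` with the same
image in `S` as `v₀`.  `RelData.toSchDD`: the descent datum (functor of points form) whose gluing bijections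
send a point to the related point.
-/

set_option autoImplicit false
universe u

open CategoryTheory CategoryTheory.Limits AlgebraicGeometry

namespace Groth.Agent.Lib.helper5.DescChart

variable {X Y : Scheme.{u}} (p : X ⟶ Y)

/-- A relation on the points of `obj` defining a descent datum relative to `p`. -/
structure RelData (obj : Over X) where
  /-- the relation -/
  rel : ∀ ⦃T : Scheme.{u}⦄, (T ⟶ obj.left) → (T ⟶ obj.left) → Prop
  refl : ∀ ⦃T : Scheme.{u}⦄ (v : T ⟶ obj.left), rel v v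
  symm : ∀ ⦃T : Scheme.{u}⦄ {v₀ v₁ : T ⟶ obj.left}, rel v₀ v₁ → rel v₁ v₀
  trans : ∀ ⦃T : Scheme.{u}⦄ {v₀ v₁ v₂ : T ⟶ obj.left}, rel v₀ v₁ → rel v₁ v₂ → rel v₀ v₂
  comp : ∀ ⦃T T' : Scheme.{u}⦄ (g : T' ⟶ T) {v₀ v₁ : T ⟶ obj.left}, rel v₀ v₁ → rel (g ≫ v₀) (g ≫ v₁)
  exists_rel : ∀ ⦃T : Scheme.{u}⦄ (v₀ : T ⟶ obj.left) (x₁ : T ⟶ X), (v₀ ≫ obj.hom) ≫ p = x₁ ≫ p →
    ∃ v₁ : T ⟶ obj.left, v₁ ≫ obj.hom = x₁ ∧ rel v₀ v₁
  unique : ∀ ⦃T : Scheme.{u}⦄ {v v' : T ⟶ obj.left}, rel v v' → v ≫ obj.hom = v' ≫ obj.hom → v = v'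

namespace RelData

variable {p} {obj : Over X} (R : RelData p obj)

/-- the related point over `x₁` -/
noncomputable def push {T : Scheme.{u}} (x₀ x₁ : T ⟶ X) (h : x₀ ≫ p = x₁ ≫ p)
    (v : Desc.Lifts obj x₀) : Desc.Lifts obj x₁ :=
  ⟨(R.exists_rel v.1 x₁ (by rw [v.2]; exact h)).choose,
    (R.exists_rel v.1 x₁ (by rw [v.2]; exact h)).choose_spec.1⟩

theorem rel_push {T : Scheme.{u}} (x₀ x₁ : T ⟶ X) (h : x₀ ≫ p = x₁ ≫ p) (v : Desc.Lifts obj x₀) :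
    R.rel v.1 (R.push x₀ x₁ h v).1 :=
  (R.exists_rel v.1 x₁ (by rw [v.2]; exact h)).choose_spec.2

theorem push_eq_of_rel {T : Scheme.{u}} (x₀ x₁ : T ⟶ X) (h : x₀ ≫ p = x₁ ≫ p) (v : Desc.Lifts obj x₀)
    (w : Desc.Lifts obj x₁) (hw : R.rel v.1 w.1) : R.push x₀ x₁ h v = w := by
  apply Subtype.ext
  refine R.unique (R.trans (R.symm (R.rel_push x₀ x₁ h v)) hw) ?_
  rw [(R.push x₀ x₁ h v).2, w.2]

/-- The descent datum defined by a relation. -/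
noncomputable def toSchDD : Desc.SchDD p where
  obj := obj
  φ T x₀ x₁ h :=
    { toFun := R.push x₀ x₁ h
      invFun := R.push x₁ x₀ h.symm
      left_inv := fun v => R.push_eq_of_rel x₁ x₀ h.symm _ v (R.symm (R.rel_push x₀ x₁ h v))
      right_inv := fun v => R.push_eq_of_rel x₀ x₁ h _ v (R.symm (R.rel_push x₁ x₀ h.symm v)) }
  φ_natural T T' g x₀ x₁ h h' v v' hv' := by
    have hw : (g ≫ (R.push x₀ x₁ h v).1) ≫ obj.hom = g ≫ x₁ := by
      rw [Category.assoc, (R.push x₀ x₁ h v).2]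
    have := R.push_eq_of_rel (g ≫ x₀) (g ≫ x₁) h' v' ⟨g ≫ (R.push x₀ x₁ h v).1, hw⟩ (by
      show R.rel v'.1 (g ≫ (R.push x₀ x₁ h v).1)
      rw [hv']
      exact R.comp g (R.rel_push x₀ x₁ h v))
    exact congrArg Subtype.val this
  φ_self T x v := R.push_eq_of_rel x x rfl v v (R.refl v.1)
  φ_comp T x₀ x₁ x₂ h₀₁ h₁₂ v :=
    (R.push_eq_of_rel x₀ x₂ (h₀₁.trans h₁₂) v _
      (R.trans (R.rel_push x₀ x₁ h₀₁ v) (R.rel_push x₁ x₂ h₁₂ _))).symm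

@[simp] theorem toSchDD_obj : R.toSchDD.obj = obj := rfl

open Groth.Agent.Lib.Helper4.DescGrpd in
theorem rel_ph {T : Scheme.{u}} (x₀ x₁ : T ⟶ X) (h : x₀ ≫ p = x₁ ≫ p) (d : T ⟶ obj.left)
    (hd : d ≫ obj.hom = x₀) : R.rel d (ph p R.toSchDD x₀ x₁ h d hd) :=
  R.rel_push x₀ x₁ h ⟨d, hd⟩

open Groth.Agent.Lib.Helper4.DescGrpd in
theorem ph_eq_of_rel {T : Scheme.{u}} (x₀ x₁ : T ⟶ X) (h : x₀ ≫ p = x₁ ≫ p) (d d' : T ⟶ obj.left)
    (hd : d ≫ obj.hom = x₀) (hd' : d' ≫ obj.hom = x₁) (hr : R.rel d d') :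
    ph p R.toSchDD x₀ x₁ h d hd = d' :=
  congrArg Subtype.val (R.push_eq_of_rel x₀ x₁ h ⟨d, hd⟩ ⟨d', hd'⟩ hr)

end RelData

end Groth.Agent.Lib.helper5.DescChart
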