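import Mathlib
import Groth.Agent.Lib.Helper5.DescChart1
import Groth.Agent.Lib.Helper4.DescPi
import Groth.Agent.Lib.Helper5.AlgSpInf3
import Groth.Agent.Lib.Helper5.FieldQuot
import Groth.Agent.Lib.Helper14.RepSh5
import Groth.Agent.Lib.Helper5.AlgSpGrpLocus
import Groth.Agent.Lib.Helper5.AlgSpAffDesc

/-!
# Representability from a chart and effective descent (helper5)

Let `f : G ⟶ F` be a map of fppf sheaves, `ξ : h_T ⟶ F`, `π : T' ⟶ T` an fppf covering of schemes such that
the base change of `f` along `h_π ≫ ξ` is represented by a scheme `V'` over `T'`.  Then `V'` carries a descent datum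
relative to `π` (`relData`), and if it is effective then the base change of `f` along `ξ` is representable
(`exists_rep_of_effective`).  `repWith_of_chart_of_effective_descent` is S9894.
-/

set_option autoImplicit false
universe u

open CategoryTheory CategoryTheory.Limits AlgebraicGeometry

namespace Groth.Agent.Lib.helper5.DescChart

open AlgSp Groth.Agent.Lib.Helper4.DescGrpd Groth.Agent.Lib.Helper4.DescPi

variable {S : Scheme.{u}}

section Sec

variable {G : Sp S} {V' : Over S} (κ : (yon S).obj V' ⟶ G)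

/-- the section of `G` over `Z` given by a point of `V'`. -/
noncomputable def sec {Z : Scheme.{u}} (z : Z ⟶ S) (v : Z ⟶ V'.left) (hv : v ≫ V'.hom = z) :
    (yon S).obj (Over.mk z) ⟶ G := (yon S).map (Over.homMk v hv) ≫ κ

theorem sec_comp {Z Z' : Scheme.{u}} (g : Z' ⟶ Z) (z : Z ⟶ S) (v : Z ⟶ V'.left) (hv : v ≫ V'.hom = z) :
    sec κ (g ≫ z) (g ≫ v) (by rw [Category.assoc, hv]) =
      (yon S).map (Over.homMk g rfl : Over.mk (g ≫ z) ⟶ Over.mk z) ≫ sec κ z v hv := by
  unfold sec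
  have : (Over.homMk (g ≫ v) (by rw [Category.assoc, hv]; rfl) : Over.mk (g ≫ z) ⟶ V') =
      (Over.homMk g rfl : Over.mk (g ≫ z) ⟶ Over.mk z) ≫ Over.homMk v hv := by
    ext
    simp
  rw [this, Functor.map_comp, Category.assoc]

theorem sec_hom {A : Over S} (d : A ⟶ V') : sec κ A.hom d.left (Over.w d) = (yon S).map d ≫ κ := rfl

/-- two points of `V'` define the same section of `G`. -/
def Rel ⦃Z : Scheme.{u}⦄ (v₀ v₁ : Z ⟶ V'.left) : Prop :=
  ∃ (z : Z ⟶ S) (h₀ : v₀ ≫ V'.hom = z) (h₁ : v₁ ≫ V'.hom = z), sec κ z v₀ h₀ = sec κ z v₁ h₁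

theorem rel_of_hom {A : Over S} (d₁ d₂ : A ⟶ V') (h : (yon S).map d₁ ≫ κ = (yon S).map d₂ ≫ κ) :
    Rel κ d₁.left d₂.left :=
  ⟨A.hom, Over.w d₁, Over.w d₂, h⟩

theorem hom_of_rel {A : Over S} (d₁ d₂ : A ⟶ V') (h : Rel κ d₁.left d₂.left) :
    (yon S).map d₁ ≫ κ = (yon S).map d₂ ≫ κ := by
  obtain ⟨z, h₀, h₁, e⟩ := h
  have hz : z = A.hom := h₀.symm.trans (Over.w d₁)
  subst hz
  exact e

end Sec

section Data

variable {F G : Sp S} {T T' V' : Over S} (κ : (yon S).obj V' ⟶ G) (f : G ⟶ F) (π : T' ⟶ T) (g' : V' ⟶ T')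
  (ξ : (yon S).obj T ⟶ F) (sq : IsPullback κ ((yon S).map g') f ((yon S).map π ≫ ξ))

include sq in
theorem exists_rel_aux ⦃Z : Scheme.{u}⦄ (v₀ : Z ⟶ V'.left) (x₁ : Z ⟶ T'.left)
    (h : (v₀ ≫ g'.left) ≫ π.left = x₁ ≫ π.left) :
    ∃ v₁ : Z ⟶ V'.left, v₁ ≫ g'.left = x₁ ∧ Rel κ v₀ v₁ := by
  have hz : x₁ ≫ T'.hom = v₀ ≫ V'.hom := by
    rw [← Over.w π, ← Over.w g', ← Category.assoc, ← h, Category.assoc, Category.assoc, Over.w π]
  let x₁' : Over.mk (v₀ ≫ V'.hom) ⟶ T' := Over.homMk x₁ hz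
  let v₀' : Over.mk (v₀ ≫ V'.hom) ⟶ V' := Over.homMk v₀ rfl
  have hcomp : v₀' ≫ g' ≫ π = x₁' ≫ π := by
    ext
    simpa [v₀', x₁'] using h
  have cond : sec κ (v₀ ≫ V'.hom) v₀ rfl ≫ f = (yon S).map x₁' ≫ (yon S).map π ≫ ξ := by
    unfold sec
    rw [Category.assoc, sq.w, ← Category.assoc, ← Category.assoc, ← Functor.map_comp,
      ← Functor.map_comp, ← Category.assoc, ← Functor.map_comp, Category.assoc, hcomp]
  obtain ⟨w, hw⟩ := (yon S).map_surjective (sq.lift _ _ cond)
  have hw1 : (yon S).map w ≫ κ = sec κ (v₀ ≫ V'.hom) v₀ rfl := by rw [hw]; exact sq.lift_fst _ _ _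
  have hw2 : (yon S).map w ≫ (yon S).map g' = (yon S).map x₁' := by rw [hw]; exact sq.lift_snd _ _ _
  refine ⟨w.left, ?_, ⟨v₀ ≫ V'.hom, rfl, Over.w w, hw1.symm⟩⟩
  have : w ≫ g' = x₁' := (yon S).map_injective (by rw [Functor.map_comp, hw2])
  exact congrArg (fun k => k.left) this

include sq in
theorem unique_aux ⦃Z : Scheme.{u}⦄ {v v' : Z ⟶ V'.left} (hr : Rel κ v v')
    (h : v ≫ g'.left = v' ≫ g'.left) : v = v' := by
  obtain ⟨z, h₀, h₁, e⟩ := hr
  have : (Over.homMk v h₀ : Over.mk z ⟶ V') = Over.homMk v' h₁ := by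
    refine (yon S).map_injective (sq.hom_ext e ?_)
    rw [← Functor.map_comp, ← Functor.map_comp]
    congr 1
    ext
    simpa using h
  exact congrArg (fun k => k.left) this

/-- the relation defining the descent datum on `V'` relative to `π`. -/
noncomputable def relData : RelData π.left (Over.mk g'.left) where
  rel := fun Z (v₀ v₁ : Z ⟶ V'.left) => Rel κ v₀ v₁
  refl _ v := ⟨_, rfl, rfl, rfl⟩
  symm := by
    rintro Z v₀ v₁ ⟨z, h₀, h₁, e⟩
    exact ⟨z, h₁, h₀, e.symm⟩
  trans := by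
    rintro Z v₀ v₁ v₂ ⟨z, h₀, h₁, e⟩ ⟨z', h₁', h₂, e'⟩
    have hz : z = z' := h₁.symm.trans h₁'
    subst hz
    exact ⟨z, h₀, h₂, e.trans e'⟩
  comp := by
    rintro Z Z' g v₀ v₁ ⟨z, h₀, h₁, e⟩
    refine ⟨g ≫ z, by rw [Category.assoc, h₀], by rw [Category.assoc, h₁], ?_⟩
    rw [sec_comp κ g z v₀ h₀, sec_comp κ g z v₁ h₁, e]
  exists_rel := exists_rel_aux κ f π g' ξ sq
  unique := unique_aux κ f π g' ξ sq

end Data


section Effective

variable {F G : Sp S} {T T' V' : Over S} (κ : (yon S).obj V' ⟶ G) (f : G ⟶ F) (π : T' ⟶ T) (g' : V' ⟶ T')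
  (ξ : (yon S).obj T ⟶ F) (sq : IsPullback κ ((yon S).map g') f ((yon S).map π ≫ ξ))

/-- a single flat, lfp, surjective morphism is an "epimorphism" for maps into a sheaf. -/
theorem yon_hom_ext_single {H : Sp S} {A A' : Over S} (a : A' ⟶ A) (h1 : Flat a.left)
    (h2 : LocallyOfFinitePresentation a.left) (h3 : Surjective a.left) (m m' : (yon S).obj A ⟶ H)
    (h : (yon S).map a ≫ m = (yon S).map a ≫ m') : m = m' :=
  yon_hom_ext_of_family m m' (fun _ : PUnit.{u + 1} => A') (fun _ => a) (fun _ => h1) (fun _ => h2)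
    (fun x => ⟨PUnit.unit, h3.surj x⟩) (fun _ => h)

theorem exists_rep_of_effective (hπf : Flat π.left) (hπp : LocallyOfFinitePresentation π.left)
    (hπs : Surjective π.left)
    (heff : (Desc.toDD π.left).essImage (relData κ f π g' ξ sq).toSchDD) :
    ∃ (W : Over S) (ρ : W ⟶ T) (κ' : (yon S).obj W ⟶ G), IsPullback κ' ((yon S).map ρ) f ξ := by
  obtain ⟨W₀, ⟨θ⟩⟩ := heff
  let pi₀ : V'.left ⟶ W₀.left := pi π.left θ
  have hpi : pi₀ ≫ W₀.hom = g'.left ≫ π.left := pi_hom π.left θ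
  let W : Over S := Over.mk (W₀.hom ≫ T.hom)
  let ρ : W ⟶ T := Over.homMk W₀.hom rfl
  have hpiS : pi₀ ≫ W.hom = V'.hom := by
    show pi₀ ≫ W₀.hom ≫ T.hom = V'.hom
    rw [← Category.assoc, hpi, Category.assoc, Over.w π, Over.w g']
  let pî : V' ⟶ W := Over.homMk pi₀ hpiS
  have hw : pî ≫ ρ = g' ≫ π := by
    ext
    exact hpi
  have hpb : IsPullback pî g' ρ π :=
    Groth.Agent.Lib.Helper14.RepSh.isPullback_over_of_left hw (isPullback_pi π.left θ)
  have hpîf : Flat pî.left := by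
    show Flat (pi π.left θ)
    infer_instance
  have hpîp : LocallyOfFinitePresentation pî.left := by
    show LocallyOfFinitePresentation (pi π.left θ)
    infer_instance
  have hpîs : Surjective pî.left := by
    show Surjective (pi π.left θ)
    infer_instance
  -- descend `κ` along `pî`
  obtain ⟨κ', hκ'⟩ := exists_glue (G := G) (fun _ : PUnit.{u + 1} => V') (fun _ => pî) (fun _ => hpîf)
    (fun _ => hpîp) (fun x => ⟨PUnit.unit, hpîs.surj x⟩) (fun _ => κ) (by
      intro _ _ Z gi gj h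
      have h' : gi.left ≫ pi π.left θ = gj.left ≫ pi π.left θ := congrArg (fun k => k.left) h
      have e := eq_ph_of_pi_eq π.left θ h'
      have hr := (relData κ f π g' ξ sq).rel_ph _ _ (cond_of_pi_eq π.left θ h') gi.left rfl
      rw [← e] at hr
      exact hom_of_rel κ gi gj hr)
  have hκ : (yon S).map pî ≫ κ' = κ := hκ' PUnit.unit
  have comm : κ' ≫ f = (yon S).map ρ ≫ ξ := by
    refine yon_hom_ext_single pî hpîf hpîp hpîs _ _ ?_
    rw [← Category.assoc, hκ, sq.w, ← Category.assoc, ← Functor.map_comp, ← hw, Functor.map_comp,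
      Category.assoc]
  let c : (yon S).obj W ⟶ pullback f ξ := pullback.lift κ' ((yon S).map ρ) comm
  have hc1 : ((yon S).map pî ≫ c) ≫ pullback.fst f ξ = κ := by
    rw [Category.assoc, pullback.lift_fst, hκ]
  have hc2 : ((yon S).map pî ≫ c) ≫ pullback.snd f ξ = (yon S).map g' ≫ (yon S).map π := by
    rw [Category.assoc, pullback.lift_snd, ← Functor.map_comp, hw, Functor.map_comp]
  -- `c` is an epimorphism
  have sqc : IsPullback ((yon S).map pî ≫ c) ((yon S).map g') (pullback.snd f ξ) ((yon S).map π) := by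
    refine IsPullback.of_right ?_ hc2 (IsPullback.of_hasPullback f ξ)
    rw [hc1]
    exact sq
  have hepi : Epi ((yon S).map pî ≫ c) := by
    have h1 : RepWith @Flat ((yon S).map pî ≫ c) :=
      MorphismProperty.of_isPullback sqc.flip ((repWith_yon_map_iff @Flat π).2 hπf)
    have h2 : RepWith @LocallyOfFinitePresentation ((yon S).map pî ≫ c) :=
      MorphismProperty.of_isPullback sqc.flip ((repWith_yon_map_iff @LocallyOfFinitePresentation π).2 hπp)
    have h3 : RepWith @Surjective ((yon S).map pî ≫ c) :=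
      MorphismProperty.of_isPullback sqc.flip ((repWith_yon_map_iff @Surjective π).2 hπs)
    have : Sheaf.IsLocallySurjective ((yon S).map pî ≫ c) := Groth.Agent.S9885.result S _ _ _ h1 h2 h3
    infer_instance
  have hcepi : Epi c := epi_of_epi ((yon S).map pî) c
  -- `c` is a monomorphism
  have hcmono : Mono c := by
    refine Groth.Agent.Lib.helper5.FieldQuot.mono_of_sections_unique c (fun A w₁' w₂' h => ?_)
    obtain ⟨w₁, rfl⟩ := (yon S).map_surjective w₁'
    obtain ⟨w₂, rfl⟩ := (yon S).map_surjective w₂'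
    -- local lifts
    let a₁ : pullback w₁ pî ⟶ A := pullback.fst w₁ pî
    let v₁ : pullback w₁ pî ⟶ V' := pullback.snd w₁ pî
    have c₁ : a₁ ≫ w₁ = v₁ ≫ pî := pullback.condition
    let a₂ : pullback (a₁ ≫ w₂) pî ⟶ pullback w₁ pî := pullback.fst (a₁ ≫ w₂) pî
    let v₂ : pullback (a₁ ≫ w₂) pî ⟶ V' := pullback.snd (a₁ ≫ w₂) pî
    have c₂ : a₂ ≫ a₁ ≫ w₂ = v₂ ≫ pî := pullback.condition
    have sq₁ : IsPullback a₁.left v₁.left w₁.left pî.left :=
      (IsPullback.of_hasPullback w₁ pî).map (Over.forget S)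
    have sq₂ : IsPullback a₂.left v₂.left (a₁ ≫ w₂).left pî.left :=
      (IsPullback.of_hasPullback (a₁ ≫ w₂) pî).map (Over.forget S)
    have ha₁f : Flat a₁.left := MorphismProperty.of_isPullback sq₁.flip hpîf
    have ha₁p : LocallyOfFinitePresentation a₁.left := MorphismProperty.of_isPullback sq₁.flip hpîp
    have ha₁s : Surjective a₁.left := MorphismProperty.of_isPullback sq₁.flip hpîs
    have ha₂f : Flat a₂.left := MorphismProperty.of_isPullback sq₂.flip hpîf
    have ha₂p : LocallyOfFinitePresentation a₂.left := MorphismProperty.of_isPullback sq₂.flip hpîp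
    have ha₂s : Surjective a₂.left := MorphismProperty.of_isPullback sq₂.flip hpîs
    let d₁ : pullback (a₁ ≫ w₂) pî ⟶ V' := a₂ ≫ v₁
    have hd₁ : d₁ ≫ pî = (a₂ ≫ a₁) ≫ w₁ := by
      show (a₂ ≫ v₁) ≫ pî = _
      rw [Category.assoc, ← c₁, Category.assoc]
    have hd₂ : v₂ ≫ pî = (a₂ ≫ a₁) ≫ w₂ := by rw [← c₂, Category.assoc]
    have e1 : (yon S).map d₁ ≫ ((yon S).map pî ≫ c) = (yon S).map v₂ ≫ ((yon S).map pî ≫ c) := by
      have l1 : (yon S).map d₁ ≫ (yon S).map pî = (yon S).map (a₂ ≫ a₁) ≫ (yon S).map w₁ := by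
        rw [← Functor.map_comp, hd₁, Functor.map_comp]
      have l2 : (yon S).map v₂ ≫ (yon S).map pî = (yon S).map (a₂ ≫ a₁) ≫ (yon S).map w₂ := by
        rw [← Functor.map_comp, hd₂, Functor.map_comp]
      rw [reassoc_of% l1, reassoc_of% l2, h]
    have e2 : (yon S).map d₁ ≫ κ = (yon S).map v₂ ≫ κ := by
      rw [← hc1, ← Category.assoc, e1, Category.assoc]
    have e3 : d₁ ≫ g' ≫ π = v₂ ≫ g' ≫ π := by
      apply (yon S).map_injective
      have t1 : (yon S).map d₁ ≫ ((yon S).map pî ≫ c) ≫ pullback.snd f ξ =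
          (yon S).map v₂ ≫ ((yon S).map pî ≫ c) ≫ pullback.snd f ξ := by
        rw [← Category.assoc, e1, Category.assoc]
      rw [hc2] at t1
      rw [Functor.map_comp, Functor.map_comp, Functor.map_comp, Functor.map_comp]
      exact t1
    have e3' : (d₁.left ≫ g'.left) ≫ π.left = (v₂.left ≫ g'.left) ≫ π.left := by
      have := congrArg (fun k => k.left) e3
      simpa only [Over.comp_left, Category.assoc] using this
    have hr : Rel κ d₁.left v₂.left := rel_of_hom κ d₁ v₂ e2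
    have hph := (relData κ f π g' ξ sq).ph_eq_of_rel (d₁.left ≫ g'.left) (v₂.left ≫ g'.left) e3'
      d₁.left v₂.left rfl rfl hr
    have hpi2 := ph_pi π.left θ (d₁.left ≫ g'.left) (v₂.left ≫ g'.left) e3' d₁.left rfl
    rw [hph] at hpi2
    have e4 : v₂ ≫ pî = d₁ ≫ pî := by
      ext
      exact hpi2
    have e5 : (a₂ ≫ a₁) ≫ w₁ = (a₂ ≫ a₁) ≫ w₂ := by rw [← hd₁, ← hd₂, e4]
    have hf : Flat (a₂ ≫ a₁).left := by
      rw [Over.comp_left]; infer_instance
    have hp : LocallyOfFinitePresentation (a₂ ≫ a₁).left := by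
      rw [Over.comp_left]; infer_instance
    have hs : Surjective (a₂ ≫ a₁).left := by
      rw [Over.comp_left]; infer_instance
    refine yon_hom_ext_single (a₂ ≫ a₁) hf hp hs _ _ ?_
    rw [← Functor.map_comp, ← Functor.map_comp, e5]
  haveI : IsIso c := isIso_of_mono_of_epi c
  exact ⟨W, ρ, κ', IsPullback.of_iso_pullback ⟨comm⟩ (asIso c) (pullback.lift_fst _ _ _)
    (pullback.lift_snd _ _ _)⟩

end Effective

/-- **S9894**: representability and `P` from an étale chart and effective descent for `P`. -/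
theorem repWith_of_chart_of_effective_descent (S : Scheme.{u}) (P : MorphismProperty Scheme.{u})
    [P.IsStableUnderBaseChange] [P.IsLocalAtTarget Scheme.fppfPrecoverage]
    (hdesc : ∀ ⦃X' S' : Scheme.{u}⦄ (p : X' ⟶ S'), Surjective p → Flat p → LocallyOfFinitePresentation p →
      ∀ D : Desc.SchDD p, P D.obj.hom → (Desc.toDD p).essImage D)
    (F : AlgSp.Space S) (G : AlgSp.Sp S) (f : G ⟶ F.obj) {U V : Over S} (q : (AlgSp.yon S).obj U ⟶ F.obj)
    (hqe : AlgSp.RepWith @Etale q) (hqs : AlgSp.RepWith @Surjective q) (fst : (AlgSp.yon S).obj V ⟶ G)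
    (g : V ⟶ U) (sq : IsPullback fst ((AlgSp.yon S).map g) f q) (hP : P g.left) :
    AlgSp.IsAlgSpace G ∧ AlgSp.RepWith P f := by
  have key : ∀ {T : Over S} (ξ : (yon S).obj T ⟶ F.obj), ∃ (T' V' : Over S) (π : T' ⟶ T) (g' : V' ⟶ T')
      (κ : (yon S).obj V' ⟶ G), Etale π.left ∧ Surjective π.left ∧ P g'.left ∧
        IsPullback κ ((yon S).map g') f ((yon S).map π ≫ ξ) := by
    intro T ξ
    obtain ⟨T', π, u', sqT⟩ := hqe.1 ξ
    obtain ⟨u, rfl⟩ := (yon S).map_surjective u'
    have hπe : Etale π.left := hqe.2 _ _ _ sqT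
    have hπs : Surjective π.left := hqs.2 _ _ _ sqT
    obtain ⟨V', g', v, sqV⟩ := representable_yon_map g ((yon S).map u)
    have hP' : P g'.left := ((repWith_yon_map_iff P g).2 hP).2 _ _ _ sqV
    refine ⟨T', V', π, g', v ≫ fst, hπe, hπs, hP', ?_⟩
    have := sqV.paste_horiz sq
    rwa [sqT.w] at this
  have hrep : Representable f := by
    intro T ξ
    obtain ⟨T', V', π, g', κ, hπe, hπs, hP', sqV'⟩ := key ξ
    have hπf : Flat π.left := inferInstance
    have hπp : LocallyOfFinitePresentation π.left := inferInstance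
    have heff := hdesc π.left hπs hπf hπp (relData κ f π g' ξ sqV').toSchDD hP'
    obtain ⟨W, ρ, κ', sqW⟩ := exists_rep_of_effective κ f π g' ξ sqV' hπf hπp hπs heff
    exact ⟨W, ρ, κ', sqW⟩
  refine ⟨Groth.Agent.Lib.helper5.GrpLocus.isAlgSpace_of_representable f hrep F.property, hrep, ?_⟩
  intro T V'' ξ fst'' snd'' sq''
  obtain ⟨T', V', π, g', κ, hπe, hπs, hP', sqV'⟩ := key ξ
  have w : κ ≫ f = ((yon S).map g' ≫ (yon S).map π) ≫ ξ := by rw [Category.assoc]; exact sqV'.w
  obtain ⟨m, hm⟩ := (yon S).map_surjective (sq''.lift κ ((yon S).map g' ≫ (yon S).map π) w)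
  have hm1 : (yon S).map m ≫ fst'' = κ := by rw [hm]; exact sq''.lift_fst _ _ _
  have hm2 : (yon S).map m ≫ (yon S).map snd'' = (yon S).map g' ≫ (yon S).map π := by
    rw [hm]; exact sq''.lift_snd _ _ _
  have sqm : IsPullback ((yon S).map m) ((yon S).map g') ((yon S).map snd'') ((yon S).map π) := by
    refine IsPullback.of_right ?_ hm2 sq''
    rw [hm1]
    exact sqV'
  have sqL : IsPullback m.left g'.left snd''.left π.left :=
    Groth.Agent.Lib.helper5.AffDesc.isPullback_left_of_yon sqm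
  haveI : Flat π.left := inferInstance
  haveI : LocallyOfFinitePresentation π.left := inferInstance
  haveI : Surjective π.left := hπs
  refine MorphismProperty.IsLocalAtTarget.of_forall_pullbackSnd (K := Scheme.fppfPrecoverage)
    (π.left.singleton_mem_fppfPrecoverage) (fun {A a} _ ha => ?_)
  cases ha
  rw [← sqL.isoPullback_hom_snd] at hP'
  exact (MorphismProperty.cancel_left_of_respectsIso P _ _).1 hP'

end Groth.Agent.Lib.helper5.DescChart
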