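import Mathlib
import Groth.Agent.Lib.Helper5.DescChart2
import Groth.Agent.Lib.Helper4.DescQAffMain
import Groth.Agent.Lib.Helper4.AffineDescent
import Groth.Agent.Lib.Helper14.AlgSpQuot1
import Groth.Agent.Lib.Helper5.AlgSpCoprod

/-!
# An fppf sheaf which is fppf locally an affine scheme over the base is an affine scheme over the base (helper5)

* `exists_iso_toDD_of_isAffineHom`: effectivity of descent data for affine morphisms along one fppf morphism.
* `exists_affine_rep`: (S5232).
-/

set_option autoImplicit false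
set_option linter.style.haveILetI false
universe u
open CategoryTheory CategoryTheory.Limits AlgebraicGeometry

namespace Groth.Agent.Lib.helper5.AffRepDescent

open AlgSp Desc Groth.Agent.Lib.helper5.DescChart

/-- effectivity of descent data for affine morphisms along one fppf morphism. -/
theorem exists_iso_toDD_of_isAffineHom {X S : Scheme.{u}} (p : X ⟶ S) [Surjective p] [Flat p]
    [LocallyOfFinitePresentation p] (D : SchDD p) (hD : IsAffineHom D.obj.hom) :
    (toDD p).essImage D := by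
  have hf : Presieve.ofArrows (fun _ : PUnit.{u + 1} => X) (fun _ => p) ∈
      Scheme.fpqcPrecoverage S := by
    apply Scheme.fppfPrecoverage_le_fpqcPrecoverage
    rw [Presieve.ofArrows_pUnit]
    exact p.singleton_mem_fppfPrecoverage
  obtain ⟨U, ⟨θ⟩⟩ := Groth.Agent.Lib.Helper4.DescFamEff.isEffective_of_isAffineHom hf
    ((SchDDFam.ofSchDD p).obj D) (fun _ => hD)
  exact ⟨U, ⟨(SchDDFam.toSchDD p).mapIso θ⟩⟩

variable {S : Scheme.{u}}

/-- S5232 -/
theorem exists_affine_rep {S' : Scheme.{u}} (f : S' ⟶ S) [Flat f] [Surjective f]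
    [LocallyOfFinitePresentation f] (Z : QuotSh.Sh Scheme.fppfPrecoverage S)
    (T' : Over S) (a : T' ⟶ Over.mk f) [IsAffineHom a.left]
    (φ : QuotSh.rep Scheme.fppfPrecoverage T' ≅ Z ⨯ QuotSh.rep Scheme.fppfPrecoverage (Over.mk f))
    (hφ : φ.hom ≫ prod.snd = QuotSh.repMap Scheme.fppfPrecoverage a) :
    ∃ T : Over S, IsAffineHom T.hom ∧ Nonempty (QuotSh.rep Scheme.fppfPrecoverage T ≅ Z) := by
  let T₀ : Over S := Over.mk (𝟙 S)
  let C : Over S := Over.mk f
  let π : C ⟶ T₀ := Over.homMk f (by simp [C, T₀])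
  have t : IsTerminal ((yon S).obj T₀) := Groth.Agent.Lib.helper5.Coprod.isTerminalYon
  let qZ : Z ⟶ (yon S).obj T₀ := t.from Z
  let eX := QuotSh.repIsoUliftYoneda Scheme.fppfPrecoverage T'
  let eC := QuotSh.repIsoUliftYoneda Scheme.fppfPrecoverage C
  let κ : (yon S).obj T' ⟶ Z := eX.inv ≫ φ.hom ≫ prod.fst
  have h0 : IsPullback (prod.fst : Z ⨯ QuotSh.rep Scheme.fppfPrecoverage C ⟶ Z) prod.snd
      (t.from Z) (t.from (QuotSh.rep Scheme.fppfPrecoverage C)) :=
    IsPullback.of_is_product (prodIsProd Z (QuotSh.rep Scheme.fppfPrecoverage C)) t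
  have hya : (yon S).map a = eX.inv ≫ QuotSh.repMap Scheme.fppfPrecoverage a ≫ eC.hom := by
    have := Groth.Agent.Lib.Helper14.AlgSpQuot.yon_map_repIso_inv a
    rw [← Category.assoc, ← this, Category.assoc, Iso.inv_hom_id, Category.comp_id]
  have sq : IsPullback κ ((yon S).map a) qZ ((yon S).map π ≫ 𝟙 _) := by
    refine IsPullback.of_iso h0 (φ.symm ≪≫ eX) (Iso.refl _) eC (Iso.refl _) ?_ ?_ ?_ ?_
    · simp [κ]
      rfl
    · rw [hya]
      simp only [Iso.trans_hom, Iso.symm_hom, Category.assoc, Iso.hom_inv_id_assoc]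
      rw [← hφ, Category.assoc, Iso.inv_hom_id_assoc]
    · exact t.hom_ext _ _
    · exact t.hom_ext _ _
  have hπf : Flat π.left := ‹Flat f›
  have hπp : LocallyOfFinitePresentation π.left := ‹LocallyOfFinitePresentation f›
  have hπs : Surjective π.left := ‹Surjective f›
  have heff : (Desc.toDD π.left).essImage (relData κ qZ π a (𝟙 _) sq).toSchDD := by
    haveI := hπf
    haveI := hπp
    haveI := hπs
    exact exists_iso_toDD_of_isAffineHom π.left _ ‹IsAffineHom a.left›
  obtain ⟨W, ρ, κ', sqW⟩ := exists_rep_of_effective κ qZ π a (𝟙 _) sq hπf hπp hπs heff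
  haveI : IsIso κ' := sqW.isIso_fst_of_isIso
  -- `a` is the base change of `ρ`
  have w : κ ≫ qZ = ((yon S).map a ≫ (yon S).map π) ≫ 𝟙 _ := by rw [Category.assoc]; exact sq.w
  obtain ⟨m, hm⟩ := (yon S).map_surjective (sqW.lift κ ((yon S).map a ≫ (yon S).map π) w)
  have hm1 : (yon S).map m ≫ κ' = κ := by rw [hm]; exact sqW.lift_fst _ _ _
  have hm2 : (yon S).map m ≫ (yon S).map ρ = (yon S).map a ≫ (yon S).map π := by
    rw [hm]; exact sqW.lift_snd _ _ _
  have sqm : IsPullback ((yon S).map m) ((yon S).map a) ((yon S).map ρ) ((yon S).map π) := by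
    refine IsPullback.of_right ?_ hm2 sqW
    rw [hm1]
    exact sq
  have sqL : IsPullback m.left a.left ρ.left π.left :=
    Groth.Agent.Lib.helper5.AffDesc.isPullback_left_of_yon sqm
  have hρ : IsAffineHom ρ.left := by
    refine MorphismProperty.of_isPullback_of_descendsAlong (P := @IsAffineHom)
      (Q := @Surjective ⊓ @Flat ⊓ @LocallyOfFinitePresentation) sqL.flip ⟨⟨hπs, hπf⟩, hπp⟩
      ‹IsAffineHom a.left›
  refine ⟨W, ?_, ⟨(QuotSh.repIsoUliftYoneda Scheme.fppfPrecoverage W) ≪≫ asIso κ'⟩⟩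
  have : W.hom = ρ.left := by
    have := Over.w ρ
    rw [← this]
    exact (Category.comp_id _).symm
  rw [this]
  exact hρ

end Groth.Agent.Lib.helper5.AffRepDescent
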