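import Groth.Agent.Lib.Helper5.AlgSpAffDesc
import Groth.Agent.Lib.Helper5.AlgSpLocPInst2
import Groth.Agent.Lib.Helper7.AlgSpQC
import Groth.Agent.S10532
import Groth.Agent.S10535
import Groth.Agent.S10519

/-!
Affine descent for algebraic spaces, assembly (helper5).
-/

set_option autoImplicit false
universe u
open CategoryTheory CategoryTheory.Limits AlgebraicGeometry Opposite
open AlgSp

namespace Groth.Agent.Lib.helper5.AffDesc

variable {S : Scheme.{u}}

theorem exists_preimage_of_isPullback {P X Y Z : Scheme.{u}} {fst : P ⟶ X} {snd : P ⟶ Y}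
    {f : X ⟶ Z} {g : Y ⟶ Z} (h : IsPullback fst snd f g) (x : X) (y : Y) (hxy : f x = g y) :
    ∃ z : P, fst z = x ∧ snd z = y := by
  obtain ⟨z, hz1, hz2⟩ := Scheme.Pullback.exists_preimage_pullback x y hxy
  refine ⟨h.isoPullback.inv z, ?_, ?_⟩
  · rw [← Scheme.Hom.comp_apply, h.isoPullback_inv_fst]; exact hz1
  · rw [← Scheme.Hom.comp_apply, h.isoPullback_inv_snd]; exact hz2

theorem locP_flat_yon_map {U V : Over S} (g : U ⟶ V) (h : Flat g.left) :
    LocP @Flat ((yon S).map g) := by
  have hP := LocPBC.locPData_flat.{u}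
  intro A B a b k ha hb hsq
  obtain ⟨a', rfl⟩ := (yon S).map_surjective a
  obtain ⟨b', rfl⟩ := (yon S).map_surjective b
  have ha' : Etale a'.left := (repWith_yon_map_iff @Etale a').1 ha
  have hb' : Etale b'.left := (repWith_yon_map_iff @Etale b').1 hb
  have e : a' ≫ g = k ≫ b' := (yon S).map_injective (by simpa using hsq)
  have h1 : Flat (a'.left ≫ g.left) := hP.pre _ _ ha' h
  have h2 : Flat (k.left ≫ b'.left) := by
    rw [← Over.comp_left, ← e]; exact h1
  exact hP.cancel _ _ hb' h2

/-- A finite jointly surjective family of flat morphisms of affine schemes gives an fpqc covering of sheaves. -/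
theorem isFpqcCover_of_affine_family {Y : Over S} [IsAffine Y.left] {m : ℕ} (YW : Fin m → Over S)
    (yW : ∀ j, YW j ⟶ Y) (hYWa : ∀ j, IsAffine (YW j).left) (hflat : ∀ j, Flat (yW j).left)
    (hsurj : ∀ y : ↥Y.left, ∃ j, y ∈ Set.range (yW j).left) :
    IsFpqcCover (S := S) (ι := ULift.{u} (Fin m)) (X := (yon S).obj Y)
      (fun i => (yon S).obj (YW i.down)) (fun i => (yon S).map (yW i.down)) := by
  refine ⟨fun i => locP_flat_yon_map _ (hflat i.down), ?_⟩
  intro Z hZ h
  obtain ⟨z, rfl⟩ := (yon S).map_surjective h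
  have sqj : ∀ j, IsPullback (pullback.fst z (yW j)).left (pullback.snd z (yW j)).left z.left
      (yW j).left := fun j => (IsPullback.of_hasPullback z (yW j)).map (Over.forget S)
  refine ⟨m, fun j => pullback z (yW j), fun j => pullback.fst z (yW j), fun j => ?_, fun j => ?_,
    fun z₀ => ?_, fun j => ⟨ULift.up j, (yon S).map (pullback.snd z (yW j)), ?_⟩⟩
  · have := hYWa j
    exact IsAffine.of_isPullback (sqj j)
  · have := hflat j
    exact MorphismProperty.of_isPullback (P := @Flat) (sqj j).flip inferInstance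
  · obtain ⟨j, y', hy'⟩ := hsurj (z.left z₀)
    obtain ⟨v, hv1, -⟩ := exists_preimage_of_isPullback (sqj j) z₀ y' hy'.symm
    exact ⟨j, v, hv1⟩
  · rw [← Functor.map_comp, ← Functor.map_comp, pullback.condition]

/-- For a separated `s : F ⟶ h_T` with `T`, `U` affine, the kernel pair of a chart `h_U ⟶ F` is an affine scheme. -/
theorem isAffine_kernelPair {T U R : Over S} [IsAffine T.left] [IsAffine U.left] {F : Sp S}
    (s : F ⟶ (yon S).obj T) (hsep : IsSeparatedMor s) (p : (yon S).obj U ⟶ F) (t : U ⟶ T)
    (ht : (yon S).map t = p ≫ s) (r₁ r₂ : R ⟶ U)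
    (hKP : IsPullback ((yon S).map r₁) ((yon S).map r₂) p p) : IsAffine R.left := by
  have hr : r₁ ≫ t = r₂ ≫ t := (yon S).map_injective (by
    rw [Functor.map_comp, Functor.map_comp, ht, ← Category.assoc, hKP.w, Category.assoc])
  have sqV : IsPullback (pullback.fst t t) (pullback.snd t t) t t := IsPullback.of_hasPullback _ _
  have sqVy := sqV.map (yon S)
  have hg : ((yon S).map (pullback.fst t t) ≫ p) ≫ s = ((yon S).map (pullback.snd t t) ≫ p) ≫ s := by
    rw [Category.assoc, Category.assoc, ← ht]
    exact sqVy.w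
  let g : (yon S).obj (pullback t t) ⟶ pullback s s := pullback.lift _ _ hg
  let δ : R ⟶ pullback t t := pullback.lift r₁ r₂ hr
  have hδ1 : δ ≫ pullback.fst t t = r₁ := pullback.lift_fst _ _ _
  have hδ2 : δ ≫ pullback.snd t t = r₂ := pullback.lift_snd _ _ _
  have hg1 : g ≫ pullback.fst s s = (yon S).map (pullback.fst t t) ≫ p := pullback.lift_fst _ _ _
  have hg2 : g ≫ pullback.snd s s = (yon S).map (pullback.snd t t) ≫ p := pullback.lift_snd _ _ _
  have hcomm : ((yon S).map r₁ ≫ p) ≫ pullback.diagonal s = (yon S).map δ ≫ g := by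
    apply pullback.hom_ext
    · rw [Category.assoc, pullback.diagonal_fst, Category.comp_id, Category.assoc, hg1,
        ← Category.assoc, ← Functor.map_comp, hδ1]
    · rw [Category.assoc, pullback.diagonal_snd, Category.comp_id, Category.assoc, hg2,
        ← Category.assoc, ← Functor.map_comp, hδ2, hKP.w]
  have sq : IsPullback ((yon S).map r₁ ≫ p) ((yon S).map δ) (pullback.diagonal s) g := by
    refine IsPullback.of_isLimit (c := PullbackCone.mk _ _ hcomm) ?_
    refine PullbackCone.IsLimit.mk hcomm (fun c => ?_) (fun c => ?_) (fun c => ?_)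
      (fun c m hm1 hm2 => ?_)
    · refine hKP.lift (c.snd ≫ (yon S).map (pullback.fst t t)) (c.snd ≫ (yon S).map (pullback.snd t t)) ?_
      have h1 := congrArg (fun k => k ≫ pullback.fst s s) c.condition
      have h2 := congrArg (fun k => k ≫ pullback.snd s s) c.condition
      simp only [Category.assoc, pullback.diagonal_fst, pullback.diagonal_snd, Category.comp_id,
        hg1, hg2] at h1 h2
      rw [Category.assoc, Category.assoc, ← h1, ← h2]
    · have h1 := congrArg (fun k => k ≫ pullback.fst s s) c.condition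
      simp only [Category.assoc, pullback.diagonal_fst, Category.comp_id, hg1] at h1
      rw [← Category.assoc, hKP.lift_fst, Category.assoc, ← h1]
    · apply sqVy.hom_ext
      · rw [Category.assoc, ← Functor.map_comp, hδ1, hKP.lift_fst]
      · rw [Category.assoc, ← Functor.map_comp, hδ2, hKP.lift_snd]
    · apply hKP.hom_ext
      · rw [hKP.lift_fst, ← hm2, Category.assoc, ← Functor.map_comp, hδ1]
      · rw [hKP.lift_snd, ← hm2, Category.assoc, ← Functor.map_comp, hδ2]
  have hci : IsClosedImmersion δ.left := hsep.2 _ _ _ sq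
  have sqVl : IsPullback (pullback.fst t t).left (pullback.snd t t).left t.left t.left :=
    sqV.map (Over.forget S)
  have hV : IsAffine (pullback t t).left := IsAffine.of_isPullback sqVl
  exact isAffine_of_isAffineHom δ.left

/-- **Affine descent for algebraic spaces.** An algebraic space over an affine scheme `T` which becomes an affine scheme after base
change along a finite flat jointly surjective family of affine schemes is an affine scheme. -/
theorem exists_affine_rep {T : Over S} [IsAffine T.left] {F : Sp S} (hF : IsAlgSpace F)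
    (s : F ⟶ (yon S).obj T) {m : ℕ} (W : Fin m → Over S) (w : ∀ j, W j ⟶ T)
    (hWa : ∀ j, IsAffine (W j).left) (hflat : ∀ j, Flat (w j).left)
    (hsurj : ∀ y : ↥T.left, ∃ j, y ∈ Set.range (w j).left)
    (X : Fin m → Over S) (hXa : ∀ j, IsAffine (X j).left) (a : ∀ j, (yon S).obj (X j) ⟶ F)
    (π : ∀ j, X j ⟶ W j)
    (sq : ∀ j, IsPullback (a j) ((yon S).map (π j)) s ((yon S).map (w j))) :
    ∃ (Y : Over S) (tY : Y ⟶ T) (c : F ⟶ (yon S).obj Y), IsAffine Y.left ∧ IsIso c ∧
      c ≫ (yon S).map tY = s := by
  have hcovT := isFpqcCover_of_affine_family (Y := T) W w hWa hflat hsurj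
  have hTalg : IsAlgSpace ((yon S).obj T) := IsAlgSpace.yon_obj T
  -- `s` is quasi-compact and separated
  have hqcm : IsQuasiCompactMor s := by
    refine (Groth.Agent.S10519.result S (fun i : ULift.{u} (Fin m) => (yon S).obj (W i.down))
      (fun i => (yon S).map (w i.down)) hTalg (fun i => IsAlgSpace.yon_obj _) hcovT s hF
      (fun i => (yon S).obj (X i.down)) (fun i => (yon S).map (π i.down)) (fun i => a i.down)
      (fun i => IsAlgSpace.yon_obj _) (fun i => sq i.down)).2 ?_
    intro i
    apply Groth.Agent.Lib.helper7.AlgSpQC.isQuasiCompactMor_of_repWith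
    refine (repWith_yon_map_iff _ _).2 ?_
    have := hXa i.down
    have := hWa i.down
    show QuasiCompact (π i.down).left
    infer_instance
  have hsep : IsSeparatedMor s := by
    refine (Groth.Agent.S10535.result S (fun i : ULift.{u} (Fin m) => (yon S).obj (W i.down))
      (fun i => (yon S).map (w i.down)) hTalg (fun i => IsAlgSpace.yon_obj _) hcovT s hF
      (fun i => (yon S).obj (X i.down)) (fun i => (yon S).map (π i.down)) (fun i => a i.down)
      (fun i => IsAlgSpace.yon_obj _) (fun i => sq i.down)).2 ?_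
    intro i
    refine (isSeparatedMor_yon_map_iff _).2 ?_
    have := hXa i.down
    have := hWa i.down
    show IsSeparated (π i.down).left
    infer_instance
  have hqcF : IsQuasiCompactSp F :=
    hqcm hTalg (Groth.Agent.Lib.helper7.AlgSpQC.isQuasiCompactSp_yon T) (𝟙 _) (𝟙 F) s
      (IsPullback.id_horiz s)
  have hcomp : CompactSpace (Points F) :=
    Groth.Agent.Lib.helper7.AlgSpFibre.compactSpace_of_isQuasiCompactSp hqcF
  -- an affine chart
  obtain ⟨U₀, p₀, hp₀e, hp₀s⟩ := hF.atlas
  obtain ⟨U, p, hUa, hpe, hps⟩ :=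
    Groth.Agent.Lib.helper11.exists_affine_chart_of_compactSpace p₀ hp₀e hp₀s
  obtain ⟨t, ht⟩ := (yon S).map_surjective (p ≫ s)
  -- the kernel pair
  obtain ⟨R, r₂, r₁', hKP'⟩ := hF.representable_from_yon p p
  obtain ⟨r₁, rfl⟩ := (yon S).map_surjective r₁'
  have hRa : IsAffine R.left := isAffine_kernelPair s hsep p t ht r₁ r₂ hKP'
  have hr : r₁ ≫ t = r₂ ≫ t := (yon S).map_injective (by
    rw [Functor.map_comp, Functor.map_comp, ht, ← Category.assoc, hKP'.w, Category.assoc])
  -- the quotient
  obtain ⟨Y, tY, u, hYa, hu, hru, hinj, hrange⟩ := exists_quot t r₁ r₂ hr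
  -- `p` is an epimorphism
  have hpepi : Epi p := EtMono.epi_of_etale_surjective (IsAlgSpace.yon_obj U) p
    (fun _ φ hφ => (RepWith (S := S) @Etale).comp_mem φ p hφ hpe)
    (surjective_map_of_repWith_surjective p hps)
  obtain ⟨c, hc⟩ := exists_desc_of_epi p hKP' ((yon S).map u) (by
    rw [← Functor.map_comp, ← Functor.map_comp, hru])
  have hcs : c ≫ (yon S).map tY = s := by
    rw [← cancel_epi p, ← Category.assoc, hc, ← Functor.map_comp, hu, ht]
  refine ⟨Y, tY, c, hYa, ?_, hcs⟩
  -- base change of `Y`
  have sqY : ∀ j, IsPullback (pullback.fst tY (w j)) (pullback.snd tY (w j)) tY (w j) :=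
    fun j => IsPullback.of_hasPullback _ _
  have sqYl : ∀ j, IsPullback (pullback.fst tY (w j)).left (pullback.snd tY (w j)).left tY.left
      (w j).left := fun j => (sqY j).map (Over.forget S)
  have hcovY : IsFpqcCover (S := S) (ι := ULift.{u} (Fin m)) (X := (yon S).obj Y)
      (fun i => (yon S).obj (pullback tY (w i.down)))
      (fun i => (yon S).map (pullback.fst tY (w i.down))) := by
    refine isFpqcCover_of_affine_family (Y := Y) (fun j => pullback tY (w j))
      (fun j => pullback.fst tY (w j)) (fun j => ?_) (fun j => ?_) (fun y => ?_)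
    · have := hWa j
      exact IsAffine.of_isPullback (sqYl j)
    · have := hflat j
      exact MorphismProperty.of_isPullback (P := @Flat) (sqYl j).flip inferInstance
    · obtain ⟨j, t', ht'⟩ := hsurj (tY.left y)
      obtain ⟨v, hv1, -⟩ := exists_preimage_of_isPullback (sqYl j) y t' ht'.symm
      exact ⟨j, v, hv1⟩
  -- the comparison morphisms
  have hx : ∀ j, ∃ x : X j ⟶ Y, (yon S).map x = a j ≫ c := fun j => (yon S).map_surjective _
  choose x hx using hx
  have hxw : ∀ j, x j ≫ tY = π j ≫ w j := fun j => (yon S).map_injective (by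
    rw [Functor.map_comp, Functor.map_comp, hx, Category.assoc, hcs, (sq j).w])
  have hζ1 : ∀ j, (sqY j).lift (x j) (π j) (hxw j) ≫ pullback.fst tY (w j) = x j :=
    fun j => (sqY j).lift_fst _ _ _
  have hζ2 : ∀ j, (sqY j).lift (x j) (π j) (hxw j) ≫ pullback.snd tY (w j) = π j :=
    fun j => (sqY j).lift_snd _ _ _
  have sqζ : ∀ j, IsPullback (a j) ((yon S).map ((sqY j).lift (x j) (π j) (hxw j))) c
      ((yon S).map (pullback.fst tY (w j))) := by
    intro j
    refine IsPullback.of_bot (h₃₁ := (yon S).map (w j)) (v₂₁ := (yon S).map (pullback.snd tY (w j)))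
      (v₂₂ := (yon S).map tY) ?_ ?_ ((sqY j).map (yon S))
    · rw [← Functor.map_comp, hζ2, hcs]
      exact sq j
    · rw [← Functor.map_comp, hζ1, hx]
  have hiff := Groth.Agent.S10532.result S (fun i : ULift.{u} (Fin m) => (yon S).obj (pullback tY (w i.down)))
      (fun i => (yon S).map (pullback.fst tY (w i.down))) (IsAlgSpace.yon_obj Y)
      (fun i => IsAlgSpace.yon_obj _) hcovY c hF
      (fun i => (yon S).obj (X i.down))
      (fun i => (yon S).map ((sqY i.down).lift (x i.down) (π i.down) (hxw i.down)))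
      (fun i => a i.down)
      (fun i => IsAlgSpace.yon_obj _) (fun i => sqζ i.down)
  refine hiff.2 ?_
  intro i
  have := hWa i.down
  have := hXa i.down
  have := hflat i.down
  have hiso : IsIso ((sqY i.down).lift (x i.down) (π i.down) (hxw i.down)) :=
    isIso_zeta s p t ht r₁ r₂ hKP' hpe hps tY u hu hinj hrange c hc (w i.down) (a i.down)
      (π i.down) (sq i.down) (pullback.fst tY (w i.down)) (pullback.snd tY (w i.down))
      (sqY i.down) _ (by rw [← Functor.map_comp, hζ1, hx]) (hζ2 i.down)
  show IsIso ((yon S).map _)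
  infer_instance

end Groth.Agent.Lib.helper5.AffDesc
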