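import Mathlib
import Groth.Agent.Lib.Helper17.ChartTower

/-!
# Affine towers of étale charts and pulling charts down along thickenings (helper5)

* `exists_affine_tower`: through any point `x` of `|X|`, for `X ⟶ Y ⟶ Z` algebraic spaces, a tower of étale charts
  `U ⟶ V ⟶ W` with `U`, `V`, `W` affine.
* `chart_down_step`: for a cartesian square `X = X' ×_{Y'} Y` with `i : X ⟶ X'` representable, a chart diagram
  `(a', b', h')` of `f'` and a represented pullback `V = V' ×_{Y'} Y`, a chart diagram of `f` with cartesian square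
  of schemes `U = U' ×_{V'} V`.
-/

set_option autoImplicit false
universe u
open CategoryTheory CategoryTheory.Limits AlgebraicGeometry
open AlgSp

namespace Groth.Agent.Lib.helper5.AffTower

variable {S : Scheme.{u}}

/-- The open subscheme `O` of `U.left` as a scheme over `S`. -/
noncomputable abbrev ovOpen (U : Over S) (O : U.left.Opens) : Over S := Over.mk (O.ι ≫ U.hom)

/-- The inclusion of `ovOpen U O` in `U`. -/
noncomputable abbrev ovι (U : Over S) (O : U.left.Opens) : ovOpen U O ⟶ U :=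
  Over.homMk (U := Over.mk (O.ι ≫ U.hom)) O.ι rfl

/-- The restriction of a morphism over `S` to open subschemes. -/
noncomputable def ovRes {U V : Over S} (h : U ⟶ V) (O : U.left.Opens) (O' : V.left.Opens)
    (e : O ≤ h.left ⁻¹ᵁ O') : ovOpen U O ⟶ ovOpen V O' :=
  Over.homMk (h.left.resLE O' O e) (by
    show h.left.resLE O' O e ≫ O'.ι ≫ V.hom = O.ι ≫ U.hom
    rw [Scheme.Hom.resLE_comp_ι_assoc, Over.w])

theorem ovRes_comp_ovι {U V : Over S} (h : U ⟶ V) (O : U.left.Opens) (O' : V.left.Opens)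
    (e : O ≤ h.left ⁻¹ᵁ O') : ovRes h O O' e ≫ ovι V O' = ovι U O ≫ h := by
  apply Over.OverMorphism.ext
  show h.left.resLE O' O e ≫ O'.ι = O.ι ≫ h.left
  exact Scheme.Hom.resLE_comp_ι _ _

/-- Through any point of `|X|` there is a tower of affine étale charts of `X ⟶ Y ⟶ Z`. -/
theorem exists_affine_tower {X Y Z : Sp S} (hX : IsAlgSpace X) (hY : IsAlgSpace Y) (hZ : IsAlgSpace Z)
    (f : X ⟶ Y) (g : Y ⟶ Z) (x : Points X) :
    ∃ (U V W : Over S) (a : (yon S).obj U ⟶ X) (b : (yon S).obj V ⟶ Y) (c : (yon S).obj W ⟶ Z)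
      (h1 : U ⟶ V) (h2 : V ⟶ W) (u : ↥U.left),
      IsAffine U.left ∧ IsAffine V.left ∧ IsAffine W.left ∧
      RepWith @Etale a ∧ RepWith @Etale b ∧ RepWith @Etale c ∧
      a ≫ f = (yon S).map h1 ≫ b ∧ b ≫ g = (yon S).map h2 ≫ c ∧ Points.ofPt a u = x := by
  obtain ⟨U', V', W', a', b', c', h1', h2', u', hae, hbe, hce, hc1, hc2, hu, -⟩ :=
    Groth.Agent.Lib.helper17.ChartTower.exists_tower hX hY hZ f g x
  obtain ⟨_, ⟨T, hT, rfl⟩, hxT, -⟩ := W'.left.isBasis_affineOpens.exists_subset_of_mem_open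
    (Set.mem_univ (h2'.left (h1'.left u'))) isOpen_univ
  obtain ⟨_, ⟨O, hO, rfl⟩, hxO, hOT⟩ := V'.left.isBasis_affineOpens.exists_subset_of_mem_open
    (a := h1'.left u') hxT (T.2.preimage h2'.left.continuous)
  obtain ⟨_, ⟨N, hN, rfl⟩, hxN, hNO⟩ := U'.left.isBasis_affineOpens.exists_subset_of_mem_open
    (a := u') hxO (O.2.preimage h1'.left.continuous)
  have hOT' : O ≤ h2'.left ⁻¹ᵁ T := hOT
  have hNO' : N ≤ h1'.left ⁻¹ᵁ O := hNO
  obtain ⟨ha1, ha2⟩ := Groth.Agent.Lib.helper11.chart_comp a' hae (Scheme.Opens.ι N)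
  obtain ⟨hb1, -⟩ := Groth.Agent.Lib.helper11.chart_comp b' hbe (Scheme.Opens.ι O)
  obtain ⟨hc1', -⟩ := Groth.Agent.Lib.helper11.chart_comp c' hce (Scheme.Opens.ι T)
  refine ⟨ovOpen U' N, ovOpen V' O, ovOpen W' T, (yon S).map (ovι U' N) ≫ a',
    (yon S).map (ovι V' O) ≫ b', (yon S).map (ovι W' T) ≫ c', ovRes h1' N O hNO', ovRes h2' O T hOT',
    ⟨u', hxN⟩, hN, hO, hT, ha1, hb1, hc1', ?_, ?_, ?_⟩
  · rw [Category.assoc, hc1, ← Category.assoc, ← Functor.map_comp, ← ovRes_comp_ovι h1' N O hNO',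
      Functor.map_comp, Category.assoc]
  · rw [Category.assoc, hc2, ← Category.assoc, ← Functor.map_comp, ← ovRes_comp_ovι h2' O T hOT',
      Functor.map_comp, Category.assoc]
  · rw [ha2, ← hu]
    rfl

/-- Pull a chart diagram of `f'` down along a cartesian square with `i` representable, the represented pullback of
the target chart being given. -/
theorem chart_down_step {X X' Y Y' : Sp S} {i : X ⟶ X'} {j : Y ⟶ Y'} {f : X ⟶ Y} {f' : X' ⟶ Y'}
    {P : MorphismProperty Scheme.{u}} (hi : RepWith P i) (hcart : IsPullback i f f' j)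
    {U' V' : Over S} (a' : (yon S).obj U' ⟶ X') (b' : (yon S).obj V' ⟶ Y') (h' : U' ⟶ V')
    (hsq : a' ≫ f' = (yon S).map h' ≫ b')
    {V : Over S} {κ : V ⟶ V'} {b0 : (yon S).obj V ⟶ Y} (sqV : IsPullback b0 ((yon S).map κ) j b') :
    ∃ (U : Over S) (ι : U ⟶ U') (h : U ⟶ V) (a0 : (yon S).obj U ⟶ X),
      IsPullback a0 ((yon S).map ι) i a' ∧ a0 ≫ f = (yon S).map h ≫ b0 ∧ IsPullback ι h h' κ := by
  obtain ⟨U, ι, a0, sqU⟩ := hi.1 a'
  obtain ⟨h0, hh1, hh2⟩ := sqV.exists_lift (a0 ≫ f) ((yon S).map ι ≫ (yon S).map h') (by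
    rw [Category.assoc, ← hcart.w, ← Category.assoc, sqU.w, Category.assoc, hsq, Category.assoc])
  obtain ⟨h, rfl⟩ := (yon S).map_surjective h0
  refine ⟨U, ι, h, a0, sqU, hh1.symm, ?_⟩
  have big : IsPullback ((yon S).map ι) (a0 ≫ f) (a' ≫ f') j := sqU.flip.paste_vert hcart
  rw [hsq, ← hh1] at big
  have sqY : IsPullback ((yon S).map ι) ((yon S).map h) ((yon S).map h') ((yon S).map κ) :=
    IsPullback.of_bot big hh2.symm sqV.flip
  have hcomm : ι ≫ h' = h ≫ κ := (yon S).map_injective (by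
    rw [Functor.map_comp, Functor.map_comp]; exact sqY.w)
  exact IsPullback.of_map (yon S) hcomm sqY

end Groth.Agent.Lib.helper5.AffTower
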