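import Groth.Agent.Lib.Helper5.AlgSpUniv2

/-!
# Testing universal topological properties on affine schemes (helper5)

* `ChartFam`: the point-set situation of a family of chart squares; descent of open and closed maps.
* `univSp_of_affine`: `UnivSp Q f` follows from `Q` for all base changes of `f` to affine schemes, for `Q`
  descending along chart families.
-/

set_option autoImplicit false
universe u

open CategoryTheory CategoryTheory.Limits AlgebraicGeometry Opposite Topology

namespace Groth.Agent.Lib.helper5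

/-- The point-set shape of a family of chart squares. -/
structure ChartFam {ι : Type*} {A C : ι → Type*} {B D : Type*} [∀ i, TopologicalSpace (A i)]
    [∀ i, TopologicalSpace (C i)] [TopologicalSpace B] [TopologicalSpace D]
    (a : ∀ i, A i → B) (s : ∀ i, A i → C i) (t : B → D) (b : ∀ i, C i → D) : Prop where
  comm : ∀ i x, t (a i x) = b i (s i x)
  fib : ∀ i y c, t y = b i c → ∃ x, a i x = y ∧ s i x = c
  a_cont : ∀ i, Continuous (a i)
  t_cont : Continuous t
  b_cont : ∀ i, Continuous (b i)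
  b_open : ∀ i, IsOpenMap (b i)
  b_surj : ∀ d, ∃ i c, b i c = d

namespace ChartFam

variable {ι : Type*} {A C : ι → Type*} {B D : Type*} [∀ i, TopologicalSpace (A i)]
    [∀ i, TopologicalSpace (C i)] [TopologicalSpace B] [TopologicalSpace D]
    {a : ∀ i, A i → B} {s : ∀ i, A i → C i} {t : B → D} {b : ∀ i, C i → D}

theorem preimage_image (h : ChartFam a s t b) (i : ι) (K : Set B) :
    b i ⁻¹' (t '' K) = s i '' (a i ⁻¹' K) := by
  ext c
  constructor
  · rintro ⟨y, hy, hyc⟩
    obtain ⟨x, hx1, hx2⟩ := h.fib i y c hyc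
    exact ⟨x, by simpa [hx1] using hy, hx2⟩
  · rintro ⟨x, hx, rfl⟩
    exact ⟨a i x, hx, h.comm i x⟩

theorem isOpen_of_preimage (h : ChartFam a s t b) {W : Set D} (hW : ∀ i, IsOpen (b i ⁻¹' W)) :
    IsOpen W := by
  have : W = ⋃ i, b i '' (b i ⁻¹' W) := by
    ext d
    constructor
    · intro hd
      obtain ⟨i, c, rfl⟩ := h.b_surj d
      exact Set.mem_iUnion.2 ⟨i, c, hd, rfl⟩
    · intro hd
      obtain ⟨i, c, hc, rfl⟩ := Set.mem_iUnion.1 hd
      exact hc
  rw [this]
  exact isOpen_iUnion fun i => h.b_open i _ (hW i)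

theorem isOpenMap (h : ChartFam a s t b) (hs : ∀ i, IsOpenMap (s i)) : IsOpenMap t := by
  intro K hK
  refine h.isOpen_of_preimage fun i => ?_
  rw [h.preimage_image]
  exact hs i _ (hK.preimage (h.a_cont i))

theorem isClosedMap (h : ChartFam a s t b) (hs : ∀ i, IsClosedMap (s i)) : IsClosedMap t := by
  intro K hK
  rw [← isOpen_compl_iff]
  refine h.isOpen_of_preimage fun i => ?_
  rw [Set.preimage_compl, isOpen_compl_iff, h.preimage_image]
  exact hs i _ (hK.preimage (h.a_cont i))

end ChartFam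

open AlgSp Groth.Agent.Lib.helper11

variable {S : Scheme.{u}}

/-- `UnivSp Q f` follows from `Q` for all base changes of `f` to affine schemes, provided `Q` descends along
chart families. -/
theorem univSp_of_affine
    (Q₁ : ∀ {α β : Type (u + 1)} [TopologicalSpace α] [TopologicalSpace β] (_ : α → β), Prop)
    (hdesc : ∀ {ι : Type u} {A C : ι → Type (u + 1)} {B D : Type (u + 1)}
      [∀ i, TopologicalSpace (A i)] [∀ i, TopologicalSpace (C i)] [TopologicalSpace B]
      [TopologicalSpace D] {a : ∀ i, A i → B} {s : ∀ i, A i → C i} {t : B → D} {b : ∀ i, C i → D},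
      ChartFam a s t b → (∀ i, Q₁ (s i)) → Q₁ t)
    {X Y : Sp S} (f : X ⟶ Y)
    (h : ∀ (Z : Over S), IsAffine Z.left → ∀ (g : (yon S).obj Z ⟶ Y) (P : Sp S)
      (fst : P ⟶ X) (snd : P ⟶ (yon S).obj Z), IsPullback fst snd f g → Q₁ (Points.map snd)) :
    UnivSp (fun _ _ k => Q₁ (Points.map k)) f := by
  intro Z Z' hZ g fstZ sndZ sqZ
  obtain ⟨U, q, hqe, hqs⟩ := hZ.atlas
  -- the affine charts
  let Zi : U.left.affineOpens → Over S := fun i => Over.mk ((i : U.left.Opens).ι ≫ U.hom)
  let ji : ∀ i, Zi i ⟶ U := fun i => Over.homMk (i : U.left.Opens).ι rfl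
  let qi : ∀ i, (yon S).obj (Zi i) ⟶ Z := fun i => (yon S).map (ji i) ≫ q
  have hqi : ∀ i, RepWith @Etale (qi i) ∧ ∀ v : (i : U.left.Opens),
      Points.ofPt (qi i) v = Points.ofPt q ((i : U.left.Opens).ι v) :=
    fun i => chart_comp q hqe (i : U.left.Opens).ι
  have sqT : ∀ i, IsPullback (pullback.fst sndZ (qi i)) (pullback.snd sndZ (qi i)) sndZ (qi i) :=
    fun i => IsPullback.of_hasPullback _ _
  have hQ : ∀ i, Q₁ (Points.map (pullback.snd sndZ (qi i))) := fun i =>
    h (Zi i) (i.2 : IsAffineOpen _) (qi i ≫ g) _ _ _ ((sqT i).paste_horiz sqZ)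
  refine hdesc (ι := U.left.affineOpens) (a := fun i => Points.map (pullback.fst sndZ (qi i)))
    (b := fun i => Points.map (qi i)) ?_ hQ
  refine ⟨fun i x => ?_,
    fun i y c hyc => Groth.Agent.Lib.helper10.exists_point_of_isPullback (sqT i) y c hyc,
    fun i => Points.continuous_map _, Points.continuous_map _, fun i => Points.continuous_map _,
    fun i => isOpenMap_map_of_repWith_etale _ (hqi i).1, fun d => ?_⟩
  · rw [← Points.map_comp, ← Points.map_comp, (sqT i).w]
  · obtain ⟨u, rfl⟩ := surjective_ofPt q hqs d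
    obtain ⟨_, ⟨U₀, hU₀, rfl⟩, hu, -⟩ :=
      (U.left.isBasis_affineOpens).exists_subset_of_mem_open (Set.mem_univ u) isOpen_univ
    refine ⟨⟨U₀, hU₀⟩, Points.ofScheme _ ⟨u, hu⟩, ?_⟩
    rw [← Points.ofPt_eq_map_ofScheme]
    exact (hqi ⟨U₀, hU₀⟩).2 ⟨u, hu⟩

end Groth.Agent.Lib.helper5
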