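import Mathlib
import Groth.Prelude.Def_AlgSpMor5
import Groth.Agent.Lib.Helper5.AlgSpFibreProduct
import Groth.Agent.Lib.Helper11.AlgSpBasic
import Groth.Agent.Lib.Helper10.AlgSpPoints
import Groth.Agent.Lib.Helper17.ChartBC

/-!
# Étale charts for a base change square over prescribed charts of the base (helper5)

`exists_bc_charts_over`: relative form of helper17's `ChartBC.exists_bc_charts`: the charts `b, b', k`
of `g : Y' ⟶ Y` are prescribed (étale, not nec. surjective), and the point `x'` of `X'` maps into the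
image of `b'`.

`exists_bc_tower`: two-storey version for `X ⟶ Y ⟶ Z` and `Z' ⟶ Z`.
-/

set_option autoImplicit false
universe u
open CategoryTheory CategoryTheory.Limits AlgebraicGeometry
open AlgSp

namespace Groth.Agent.Lib.helper5.ChartBC2

variable {S : Scheme.{u}}

theorem exists_bc_charts_over {X Y Y' X' : Sp S} (hX : IsAlgSpace X) (hY : IsAlgSpace Y)
    {f : X ⟶ Y} {g : Y' ⟶ Y} {g' : X' ⟶ X} {f' : X' ⟶ Y'}
    (sq : IsPullback g' f' f g) {V V' : Over S} (b : (yon S).obj V ⟶ Y)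
    (b' : (yon S).obj V' ⟶ Y') (k : V' ⟶ V)
    (hbe : RepWith @Etale b) (hbe' : RepWith @Etale b') (hβg : b' ≫ g = (yon S).map k ≫ b)
    (x' : Points X') (v' : ↥V'.left) (hv' : Points.ofPt b' v' = Points.map f' x') :
    ∃ (U U' : Over S) (a : (yon S).obj U ⟶ X) (a' : (yon S).obj U' ⟶ X')
      (h : U ⟶ V) (h' : U' ⟶ V') (p : U' ⟶ U) (u' : ↥U'.left),
      RepWith @Etale a ∧ RepWith @Etale a' ∧
      a ≫ f = (yon S).map h ≫ b ∧ a' ≫ f' = (yon S).map h' ≫ b' ∧
      a' ≫ g' = (yon S).map p ≫ a ∧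
      IsPullback p h' h k ∧ Points.ofPt a' u' = x' := by
  -- `X_V = X ×_Y V`
  have sqF : IsPullback (pullback.fst f b) (pullback.snd f b) f b := IsPullback.of_hasPullback _ _
  have hFV : IsAlgSpace (pullback f b) :=
    Groth.Agent.Lib.helper5.isAlgSpace_of_isPullback hY.diag hX (IsAlgSpace.yon_obj V) sqF
  obtain ⟨U, q, hqe, hqs⟩ := hFV.atlas
  obtain ⟨h, hh⟩ := (yon S).map_surjective (q ≫ pullback.snd f b)
  have hfe : RepWith @Etale (pullback.fst f b) :=
    (RepWith (S := S) @Etale).of_isPullback sqF.flip hbe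
  have hae : RepWith @Etale (q ≫ pullback.fst f b) :=
    (RepWith (S := S) @Etale).comp_mem _ _ hqe hfe
  have haf : (q ≫ pullback.fst f b) ≫ f = (yon S).map h ≫ b := by
    rw [Category.assoc, sqF.w, hh, Category.assoc]
  -- `E₁ = X' ×_{Y'} V'`
  have sqE1 : IsPullback (pullback.fst f' b') (pullback.snd f' b') f' b' :=
    IsPullback.of_hasPullback _ _
  have he1e : RepWith @Etale (pullback.fst f' b') :=
    (RepWith (S := S) @Etale).of_isPullback sqE1.flip hbe'
  have big1 := sqE1.paste_horiz sq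
  rw [hβg] at big1
  have hl1 : (pullback.fst f' b' ≫ g') ≫ f = (pullback.snd f' b' ≫ (yon S).map k) ≫ b := by
    rw [big1.w, Category.assoc]
  have sqE1' : IsPullback (sqF.lift _ _ hl1) (pullback.snd f' b')
      (pullback.snd f b) ((yon S).map k) := by
    refine IsPullback.of_right ?_ (sqF.lift_snd _ _ _) sqF
    rw [sqF.lift_fst]
    exact big1
  -- `U' = U ×_V V'`
  have sqU0 := IsPullback.of_hasPullback h k
  have sqU := sqU0.map (yon S)
  have hc1 : ((yon S).map (pullback.fst h k) ≫ q) ≫ pullback.snd f b =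
      (yon S).map (pullback.snd h k) ≫ (yon S).map k := by
    rw [Category.assoc, ← hh]
    exact sqU.w
  have sqC1 : IsPullback ((yon S).map (pullback.fst h k)) (sqE1'.lift _ _ hc1) q
      (sqF.lift _ _ hl1) := by
    refine IsPullback.of_bot ?_ (sqE1'.lift_fst _ _ _).symm sqE1'
    rw [sqE1'.lift_snd, ← hh]
    exact sqU
  have hc1e : RepWith @Etale (sqE1'.lift _ _ hc1) :=
    (RepWith (S := S) @Etale).of_isPullback sqC1 hqe
  have hc1s : RepWith @Surjective (sqE1'.lift _ _ hc1) :=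
    (RepWith (S := S) @Surjective).of_isPullback sqC1 hqs
  have hce : RepWith @Etale (sqE1'.lift _ _ hc1 ≫ pullback.fst f' b') :=
    (RepWith (S := S) @Etale).comp_mem _ _ hc1e he1e
  -- the point
  have hxz : Points.map f' x' = Points.map b' (Points.ofScheme V' v') := by
    rw [← Points.ofPt_eq_map_ofScheme, hv']
  obtain ⟨e, he1, -⟩ := Groth.Agent.Lib.helper10.exists_point_of_isPullback sqE1 x'
    (Points.ofScheme V' v') hxz
  obtain ⟨u', hu'⟩ := Groth.Agent.Lib.helper11.surjective_ofPt _ hc1s e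
  have hu'' : Points.ofPt (sqE1'.lift _ _ hc1 ≫ pullback.fst f' b') u' = x' := by
    rw [← Points.map_ofPt, hu', he1]
  refine ⟨U, pullback h k, q ≫ pullback.fst f b,
    sqE1'.lift _ _ hc1 ≫ pullback.fst f' b',
    h, pullback.snd h k, pullback.fst h k, u', hae, hce, haf, ?_, ?_, sqU0, hu''⟩
  · rw [Category.assoc, sqE1.w, ← Category.assoc, sqE1'.lift_snd]
  · have e1 : sqF.lift _ _ hl1 ≫ pullback.fst f b = pullback.fst f' b' ≫ g' :=
      sqF.lift_fst _ _ hl1
    have e2 := sqC1.w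
    rw [Category.assoc]
    calc _ = sqE1'.lift _ _ hc1 ≫ (sqF.lift _ _ hl1 ≫ pullback.fst f b) :=
          congrArg (sqE1'.lift _ _ hc1 ≫ ·) e1.symm
      _ = (sqE1'.lift _ _ hc1 ≫ sqF.lift _ _ hl1) ≫ pullback.fst f b :=
          (Category.assoc _ _ _).symm
      _ = ((yon S).map (pullback.fst h k) ≫ q) ≫ pullback.fst f b :=
          congrArg (· ≫ pullback.fst f b) e2.symm
      _ = _ := Category.assoc _ _ _

/-- Two-storey chart tower for `X ⟶ Y ⟶ Z` and its base change along `Z' ⟶ Z`. -/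
theorem exists_bc_tower {X Y Z X' Y' Z' : Sp S} (hX : IsAlgSpace X) (hY : IsAlgSpace Y)
    (hZ : IsAlgSpace Z) (hZ' : IsAlgSpace Z')
    {f : X ⟶ Y} {q : Y ⟶ Z} {g : Z' ⟶ Z} {gY : Y' ⟶ Y} {q' : Y' ⟶ Z'} {gX : X' ⟶ X} {f' : X' ⟶ Y'}
    (sq1 : IsPullback gY q' q g) (sq2 : IsPullback gX f' f gY) (x' : Points X') :
    ∃ (U V W U' V' W' : Over S) (a : (yon S).obj U ⟶ X) (b : (yon S).obj V ⟶ Y)
      (c : (yon S).obj W ⟶ Z) (a' : (yon S).obj U' ⟶ X') (b' : (yon S).obj V' ⟶ Y')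
      (c' : (yon S).obj W' ⟶ Z')
      (h1 : U ⟶ V) (h2 : V ⟶ W) (h1' : U' ⟶ V') (h2' : V' ⟶ W')
      (p : U' ⟶ U) (k : V' ⟶ V) (l : W' ⟶ W) (u' : ↥U'.left),
      RepWith @Etale a ∧ RepWith @Etale b ∧ RepWith @Etale c ∧
      RepWith @Etale a' ∧ RepWith @Etale b' ∧ RepWith @Etale c' ∧
      a ≫ f = (yon S).map h1 ≫ b ∧ b ≫ q = (yon S).map h2 ≫ c ∧
      a' ≫ f' = (yon S).map h1' ≫ b' ∧ b' ≫ q' = (yon S).map h2' ≫ c' ∧
      a' ≫ gX = (yon S).map p ≫ a ∧ b' ≫ gY = (yon S).map k ≫ b ∧ c' ≫ g = (yon S).map l ≫ c ∧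
      IsPullback p h1' h1 k ∧ IsPullback k h2' h2 l ∧ Points.ofPt a' u' = x' := by
  obtain ⟨V, W, V', W', b, c, b', c', h2, h2', k, l, v', hbe, hce, hbe', hce', hc2, hc2', hck, hcl,
    sqV, hv', -⟩ := Groth.Agent.Lib.helper17.ChartBC.exists_bc_charts hY hZ hZ' sq1
      (Points.map f' x')
  obtain ⟨U, U', a, a', h1, h1', p, u', hae, hae', hc1, hc1', hcp, sqU, hu'⟩ :=
    exists_bc_charts_over hX hY sq2 b b' k hbe hbe' hck x' v' hv'
  exact ⟨U, V, W, U', V', W', a, b, c, a', b', c', h1, h2, h1', h2', p, k, l, u', hae, hbe, hce,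
    hae', hbe', hce', hc1, hc2, hc1', hc2', hcp, hck, hcl, sqU, sqV, hu'⟩

end Groth.Agent.Lib.helper5.ChartBC2
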