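import Groth.Agent.Lib.Helper5.AlgSpCoprod
import Groth.Agent.Lib.Helper1.AlgSpBootstrap

/-!
Coproducts of fppf sheaves (helper5): a coprojection of an arbitrary coproduct is an open and closed immersion; summands of algebraic
spaces are algebraic spaces.
-/

set_option autoImplicit false
universe u
open CategoryTheory CategoryTheory.Limits AlgebraicGeometry Opposite
open AlgSp

namespace Groth.Agent.Lib.helper5.Coprod

variable {S : Scheme.{u}}

/-- Split off one summand of a coproduct. -/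
theorem exists_binary_decomposition {ι : Type u} (F : ι → Sp S) (c : Cofan F) (hc : IsColimit c) (i : ι) :
    ∃ (R : Sp S) (r : R ⟶ c.pt), Nonempty (IsColimit (BinaryCofan.mk (c.inj i) r)) := by
  classical
  let F' : {j // j ≠ i} → Sp S := fun j => F j.1
  refine ⟨∐ F', Sigma.desc (fun j => c.inj j.1), ⟨?_⟩⟩
  refine BinaryCofan.IsColimit.mk _ (fun {T} f g => hc.desc (Cofan.mk T (fun j =>
    if h : j = i then eqToHom (by rw [h]) ≫ f else Sigma.ι F' ⟨j, h⟩ ≫ g)))
    (fun {T} f g => ?_) (fun {T} f g => ?_) (fun {T} f g m h1 h2 => ?_)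
  · have := hc.fac (Cofan.mk T (fun j =>
      if h : j = i then eqToHom (by rw [h]) ≫ f else Sigma.ι F' ⟨j, h⟩ ≫ g)) ⟨i⟩
    simp only [Cofan.mk_pt, Cofan.mk_ι_app, dite_true, eqToHom_refl, Category.id_comp] at this
    exact this
  · apply Sigma.hom_ext
    intro j
    have := hc.fac (Cofan.mk T (fun j =>
      if h : j = i then eqToHom (by rw [h]) ≫ f else Sigma.ι F' ⟨j, h⟩ ≫ g)) ⟨j.1⟩
    simp only [Cofan.mk_pt, Cofan.mk_ι_app, dif_neg j.2] at this
    show Sigma.ι F' j ≫ Sigma.desc (fun j : {j // j ≠ i} => c.inj j.1) ≫ _ = _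
    rw [← Category.assoc, Sigma.ι_desc]
    exact this
  · apply hc.hom_ext
    rintro ⟨j⟩
    rw [hc.fac]
    simp only [Cofan.mk_pt, Cofan.mk_ι_app]
    by_cases h : j = i
    · subst h
      simp only [dite_true, eqToHom_refl, Category.id_comp]
      exact h1
    · simp only [dif_neg h]
      have h2' : Sigma.desc (fun j : {j // j ≠ i} => c.inj j.1) ≫ m = g := h2
      rw [← h2', ← Category.assoc, Sigma.ι_desc]
      rfl

theorem repWith_openClosed_inj {ι : Type u} (F : ι → Sp S) (c : Cofan F) (hc : IsColimit c) (i : ι) :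
    RepWith (@IsOpenImmersion ⊓ @IsClosedImmersion) (c.inj i) := by
  obtain ⟨R, r, ⟨hb⟩⟩ := exists_binary_decomposition F c hc i
  exact repWith_openClosed_inl _ hb

theorem isAlgSpace_summand {ι : Type u} (F : ι → Sp S) (c : Cofan F) (hc : IsColimit c)
    (h : IsAlgSpace c.pt) (i : ι) : IsAlgSpace (F i) := by
  have hrep := (repWith_openClosed_inj F c hc i).1
  refine Groth.Agent.H1.AlgSpBootstrap.isAlgSpace_of_repS (c.inj i) ?_ h
  intro U ξ F' fst snd sq
  obtain ⟨W, w, fst', sq'⟩ := hrep ξ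
  exact (IsAlgSpace.yon_obj W).of_iso (sq'.isoIsPullback _ _ sq)

end Groth.Agent.Lib.helper5.Coprod
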