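import Groth.Agent.Lib.Helper5.AlgSpCoprod2

/-!
Coproducts of fppf sheaves (helper5): disjointness of summands, and a sheaf coproduct decomposition of a scheme is a
scheme coproduct decomposition.
-/

set_option autoImplicit false
universe u
open CategoryTheory CategoryTheory.Limits AlgebraicGeometry Opposite
open AlgSp

namespace Groth.Agent.Lib.helper5.Coprod

variable {S : Scheme.{u}}

/-- Split off one summand of a coproduct, remembering the other coprojections. -/
theorem exists_binary_decomposition' {ι : Type u} (F : ι → Sp S) (c : Cofan F) (hc : IsColimit c) (i : ι) :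
    ∃ (R : Sp S) (r : R ⟶ c.pt), Nonempty (IsColimit (BinaryCofan.mk (c.inj i) r)) ∧
      ∀ j, j ≠ i → ∃ t : F j ⟶ R, t ≫ r = c.inj j := by
  classical
  let F' : {j // j ≠ i} → Sp S := fun j => F j.1
  refine ⟨∐ F', Sigma.desc (fun j => c.inj j.1), ⟨?_⟩, ?_⟩
  · refine BinaryCofan.IsColimit.mk _ (fun {T} f g => hc.desc (Cofan.mk T (fun j =>
      if h : j = i then eqToHom (by rw [h]) ≫ f else Sigma.ι F' ⟨j, h⟩ ≫ g)))
      (fun {T} f g => ?_) (fun {T} f g => ?_) (fun {T} f g m h1 h2 => ?_)
    · have := hc.fac (Cofan.mk T (fun j =>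
        if h : j = i then eqToHom (by rw [h]) ≫ f else Sigma.ι F' ⟨j, h⟩ ≫ g)) ⟨i⟩
      simp only [Cofan.mk_pt, Cofan.mk_ι_app, dite_true, eqToHom_refl, Category.id_comp] at this
      exact this
    · apply Sigma.hom_ext
      intro j
      have := hc.fac (Cofan.mk T (fun j =>
        if h : j = i then eqToHom (by rw [h]) ≫ f else Sigma.ι F' ⟨j, h⟩ ≫ g)) ⟨j.1⟩
      simp only [Cofan.mk_pt, Cofan.mk_ι_app, dif_neg j.2] at this
      show Sigma.ι F' j ≫ Sigma.desc (fun j : {j // j ≠ i} => c.inj j.1) ≫ _ = _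
      rw [← Category.assoc, Sigma.ι_desc]
      exact this
    · apply hc.hom_ext
      rintro ⟨j⟩
      rw [hc.fac]
      simp only [Cofan.mk_pt, Cofan.mk_ι_app]
      by_cases h : j = i
      · subst h
        simp only [dite_true, eqToHom_refl, Category.id_comp]
        exact h1
      · simp only [dif_neg h]
        have h2' : Sigma.desc (fun j : {j // j ≠ i} => c.inj j.1) ≫ m = g := h2
        rw [← h2', ← Category.assoc, Sigma.ι_desc]
        rfl
  · intro j hj
    exact ⟨Sigma.ι F' ⟨j, hj⟩, Sigma.ι_desc _ _⟩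

/-- Distinct summands of a coproduct of sheaves are disjoint: a scheme mapping compatibly to two of them is empty. -/
theorem isEmpty_of_inj_eq {ι : Type u} (F : ι → Sp S) (c : Cofan F) (hc : IsColimit c) {i j : ι} (hij : j ≠ i)
    {Z : Over S} (α : (yon S).obj Z ⟶ F i) (β : (yon S).obj Z ⟶ F j)
    (h : α ≫ c.inj i = β ≫ c.inj j) : IsEmpty ↥Z.left := by
  obtain ⟨R, r, ⟨hb⟩, ht⟩ := exists_binary_decomposition' F c hc i
  obtain ⟨t, ht⟩ := ht j hij
  obtain ⟨f, h1, h2⟩ := exists_isPullback_two _ hb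
  let z : Z ⟶ Over.mk (𝟙 S) := Over.homMk Z.hom (by simp)
  have e1 : α ≫ isTerminalYon.from (F i) = (yon S).map z := isTerminalYon.hom_ext _ _
  have e2 : (β ≫ t) ≫ isTerminalYon.from R = (yon S).map z := isTerminalYon.hom_ext _ _
  have w1 : c.inj i ≫ f = isTerminalYon.from (F i) ≫ (yon S).map (il S) := h1.w
  have w2 : r ≫ f = isTerminalYon.from R ≫ (yon S).map (ir S) := h2.w
  have key : (yon S).map (z ≫ il S) = (yon S).map (z ≫ ir S) := by
    rw [Functor.map_comp, Functor.map_comp]
    calc (yon S).map z ≫ (yon S).map (il S)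
        = α ≫ isTerminalYon.from (F i) ≫ (yon S).map (il S) := by rw [← e1, Category.assoc]
      _ = (α ≫ c.inj i) ≫ f := by rw [← w1, Category.assoc]
      _ = (β ≫ c.inj j) ≫ f := by rw [h]
      _ = (β ≫ t) ≫ r ≫ f := by rw [← ht]; simp only [Category.assoc]
      _ = (β ≫ t) ≫ isTerminalYon.from R ≫ (yon S).map (ir S) := by rw [w2]
      _ = (yon S).map z ≫ (yon S).map (ir S) := by rw [← e2]; simp only [Category.assoc]
  have key' := (yon S).map_injective key
  have key'' : z.left ≫ (il S).left = z.left ≫ (ir S).left := by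
    have := congrArg (fun k => k.left) key'
    simpa only [Over.comp_left] using this
  refine ⟨fun x => ?_⟩
  have hx := congrArg (fun k : Z.left ⟶ S ⨿ S => k x) key''
  simp only [Scheme.Hom.comp_apply] at hx
  have hd := (isCompl_range_inl_inr S S).disjoint
  exact Set.disjoint_iff.1 hd ⟨⟨_, rfl⟩, ⟨_, hx.symm⟩⟩

end Groth.Agent.Lib.helper5.Coprod
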