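import Groth.Agent.Lib.Helper5.AlgSpCoprod3

/-!
Coproducts of fppf sheaves (helper5): the sheaf of a coproduct of schemes over `S`; finite coproducts of sheaves are
universal (van Kampen).
-/

set_option autoImplicit false
universe u
open CategoryTheory CategoryTheory.Limits AlgebraicGeometry Opposite
open AlgSp

namespace Groth.Agent.Lib.helper5.Coprod

variable {S : Scheme.{u}}

/-- The coproduct of a family of schemes over `S`, as a scheme over `S`. -/
noncomputable abbrev sigmaOver {κ : Type u} (W : κ → Over S) : Over S :=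
  Over.mk (Sigma.desc (fun k => (W k).hom) : (∐ fun k => (W k).left) ⟶ S)

/-- The coprojections of the coproduct over `S`. -/
noncomputable abbrev sigmaOverι {κ : Type u} (W : κ → Over S) (k : κ) : W k ⟶ sigmaOver W :=
  Over.homMk (Sigma.ι (fun k => (W k).left) k) (by simp)

/-- The morphism from the coproduct over `S` induced by a family of morphisms. -/
noncomputable abbrev sigmaOverDesc {κ : Type u} (W : κ → Over S) {Z : Over S} (c : ∀ k, W k ⟶ Z) :
    sigmaOver W ⟶ Z :=
  Over.homMk (Sigma.desc (fun k => (c k).left)) (by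
    apply Sigma.hom_ext
    intro k
    simp)

theorem sigmaOverι_desc {κ : Type u} (W : κ → Over S) {Z : Over S} (c : ∀ k, W k ⟶ Z) (k : κ) :
    sigmaOverι W k ≫ sigmaOverDesc W c = c k := by
  ext1
  simp

/-- The sheaf of a coproduct of schemes over `S` is the coproduct of the sheaves. -/
noncomputable def isColimitYonSigma {κ : Type u} (W : κ → Over S) :
    IsColimit (Cofan.mk ((yon S).obj (sigmaOver W)) (fun k => (yon S).map (sigmaOverι W k))) := by
  refine isColimitYonCofan W (sigmaOverι W) (fun k => ?_) (fun x => ?_) (fun i j hij => ?_)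
  · exact inferInstanceAs (IsOpenImmersion (Sigma.ι (fun k => (W k).left) k))
  · obtain ⟨k, y, hy⟩ := (sigmaOpenCover (fun k => (W k).left)).exists_eq x
    exact ⟨k, y, hy⟩
  · have := disjoint_opensRange_sigmaι (fun k => (W k).left) i j hij
    rw [disjoint_iff] at this
    rw [Set.disjoint_iff]
    rintro x ⟨hx1, hx2⟩
    have hx : x ∈ ((Sigma.ι (fun k => (W k).left) i).opensRange ⊓
      (Sigma.ι (fun k => (W k).left) j).opensRange : (∐ fun k => (W k).left).Opens) := ⟨hx1, hx2⟩
    rw [this] at hx
    exact hx

/-- Finite coproducts of sheaves are universal: the base change of a colimit cofan is a colimit cofan. -/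
theorem nonempty_isColimit_of_isPullback {κ : Type u} [Finite κ] (F : κ → Sp S) (c : Cofan F) (hc : IsColimit c)
    {A : Sp S} (f : A ⟶ c.pt) (F' : κ → Sp S) (a : ∀ k, F' k ⟶ A) (b : ∀ k, F' k ⟶ F k)
    (sq : ∀ k, IsPullback (a k) (b k) f (c.inj k)) : Nonempty (IsColimit (Cofan.mk A a)) := by
  have hvk := FinitaryExtensive.isVanKampen_finiteCoproducts hc
  refine (hvk (Cofan.mk A a) (Discrete.natTrans (fun k => b k.as)) f ?_
    (NatTrans.Equifibered.of_discrete _)).2 ?_
  · apply NatTrans.ext
    funext ⟨k⟩
    simp only [NatTrans.comp_app, Discrete.natTrans_app, Cofan.mk_ι_app, Functor.const_map_app]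
    exact (sq k).w.symm
  · rintro ⟨k⟩
    exact sq k

end Groth.Agent.Lib.helper5.Coprod
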