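import Groth.Agent.Lib.Helper5.AlgSpCoprod4
import Groth.Agent.Lib.Helper5.SheafCoprodVK

/-!
Arbitrary coproducts of fppf sheaves over a scheme are van Kampen; consequences (helper5).
-/

set_option autoImplicit false
universe u
open CategoryTheory CategoryTheory.Limits AlgebraicGeometry Opposite
open AlgSp

namespace Groth.Agent.Lib.helper5.Coprod

variable {S : Scheme.{u}}

/-- Arbitrary (universe-sized) coproducts of fppf sheaves are van Kampen. -/
theorem isVanKampen_cofan {κ : Type u} (F : κ → Sp S) (c : Cofan F) (hc : IsColimit c) :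
    IsVanKampenColimit c :=
  SheafVK.isVanKampenColimit_discrete_sheaf (J S) c hc

/-- Coproducts of sheaves are universal: the base change of a colimit cofan is a colimit cofan. -/
theorem nonempty_isColimit_of_isPullback' {κ : Type u} (F : κ → Sp S) (c : Cofan F) (hc : IsColimit c)
    {A : Sp S} (f : A ⟶ c.pt) (F' : κ → Sp S) (a : ∀ k, F' k ⟶ A) (b : ∀ k, F' k ⟶ F k)
    (sq : ∀ k, IsPullback (a k) (b k) f (c.inj k)) : Nonempty (IsColimit (Cofan.mk A a)) := by
  have hvk := isVanKampen_cofan F c hc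
  refine (hvk (Cofan.mk A a) (Discrete.natTrans (fun k => b k.as)) f ?_
    (NatTrans.Equifibered.of_discrete _)).2 ?_
  · apply NatTrans.ext
    funext ⟨k⟩
    simp only [NatTrans.comp_app, Discrete.natTrans_app, Cofan.mk_ι_app, Functor.const_map_app]
    exact (sq k).w.symm
  · rintro ⟨k⟩
    exact sq k

/-- Coproducts of sheaves are van Kampen: a map of colimit cofans is cartesian. -/
theorem isPullback_of_isColimit {κ : Type u} (F : κ → Sp S) (c : Cofan F) (hc : IsColimit c)
    {A : Sp S} (f : A ⟶ c.pt) (F' : κ → Sp S) (a : ∀ k, F' k ⟶ A) (b : ∀ k, F' k ⟶ F k)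
    (w : ∀ k, a k ≫ f = b k ≫ c.inj k) (hA : IsColimit (Cofan.mk A a)) (k : κ) :
    IsPullback (a k) (b k) f (c.inj k) := by
  have hvk := isVanKampen_cofan F c hc
  exact (hvk (Cofan.mk A a) (Discrete.natTrans (fun k => b k.as)) f (by
    apply NatTrans.ext
    funext ⟨k⟩
    simp only [NatTrans.comp_app, Discrete.natTrans_app, Cofan.mk_ι_app, Functor.const_map_app]
    exact (w k).symm) (NatTrans.Equifibered.of_discrete _)).1 ⟨hA⟩ ⟨k⟩

/-- The fibre product of two sheaves over a coproduct is the coproduct of the fibre products of the pieces. -/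
theorem nonempty_isColimit_pullback {κ : Type u} (F : κ → Sp S) (c : Cofan F) (hc : IsColimit c)
    {A B Q : Sp S} (a : A ⟶ c.pt) (b : B ⟶ c.pt) (q1 : Q ⟶ A) (q2 : Q ⟶ B) (sqQ : IsPullback q1 q2 a b)
    (A' B' Q' : κ → Sp S) (a' : ∀ k, A' k ⟶ F k) (α : ∀ k, A' k ⟶ A)
    (sqA : ∀ k, IsPullback (a' k) (α k) (c.inj k) a)
    (b' : ∀ k, B' k ⟶ F k) (β : ∀ k, B' k ⟶ B)
    (sqB : ∀ k, IsPullback (b' k) (β k) (c.inj k) b)
    (u : ∀ k, Q' k ⟶ A' k) (u' : ∀ k, Q' k ⟶ B' k) (sqQ' : ∀ k, IsPullback (u k) (u' k) (a' k) (b' k))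
    (ℓ : ∀ k, Q' k ⟶ Q) (h1 : ∀ k, ℓ k ≫ q1 = u k ≫ α k) (h2 : ∀ k, ℓ k ≫ q2 = u' k ≫ β k) :
    Nonempty (IsColimit (Cofan.mk Q ℓ)) := by
  refine nonempty_isColimit_of_isPullback' F c hc (q2 ≫ b) Q' ℓ (fun k => u' k ≫ b' k) (fun k => ?_)
  have p1 : IsPullback (u' k) (u k ≫ α k) (b' k ≫ c.inj k) a := (sqQ' k).flip.paste_vert (sqA k)
  rw [(sqB k).w, ← h1 k] at p1
  have S1 : IsPullback (u' k) (ℓ k) (β k) q2 := IsPullback.of_bot p1 (h2 k).symm sqQ.flip
  exact S1.flip.paste_vert (sqB k).flip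

/-- If `h_T` is the coproduct of the `h_{T_k}` along open immersions, the `T_k` cover `T`. -/
theorem cover_of_isColimit_yon {κ : Type u} {T : Over S} (Tk : κ → Over S) (t : ∀ k, Tk k ⟶ T)
    (hoi : ∀ k, IsOpenImmersion (t k).left)
    (hc : IsColimit (Cofan.mk ((yon S).obj T) (fun k => (yon S).map (t k)))) :
    ∀ x : T.left, ∃ k, x ∈ Set.range (t k).left := by
  set W : T.left.Opens := ⨆ k, (t k).left.opensRange with hW
  have hle : ∀ k, Set.range (t k).left ⊆ Set.range W.ι := by
    intro k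
    rw [Scheme.Opens.range_ι]
    intro x hx
    have : (t k).left.opensRange ≤ W := le_iSup (fun k => (t k).left.opensRange) k
    exact this hx
  let g' : ∀ k, Tk k ⟶ Over.mk (W.ι ≫ T.hom) := fun k =>
    Over.homMk (IsOpenImmersion.lift W.ι (t k).left (hle k)) (by
      simp only [Over.mk_left, Over.mk_hom]
      rw [← Category.assoc, IsOpenImmersion.lift_fac]
      exact Over.w (t k))
  have hg' : ∀ k, g' k ≫ (Over.homMk W.ι rfl : Over.mk (W.ι ≫ T.hom) ⟶ T) = t k := by
    intro k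
    ext1
    simp only [Over.comp_left]
    exact IsOpenImmersion.lift_fac _ _ _
  let d : (yon S).obj T ⟶ (yon S).obj (Over.mk (W.ι ≫ T.hom)) :=
    hc.desc (Cofan.mk _ (fun k => (yon S).map (g' k)))
  have hd : d ≫ (yon S).map (Over.homMk W.ι rfl : Over.mk (W.ι ≫ T.hom) ⟶ T) = 𝟙 _ := by
    apply hc.hom_ext
    rintro ⟨k⟩
    rw [← Category.assoc, hc.fac]
    simp only [Cofan.mk_pt, Cofan.mk_ι_app, Category.comp_id]
    rw [← Functor.map_comp, hg']
  let s : T ⟶ Over.mk (W.ι ≫ T.hom) := (yon S).preimage d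
  have hs : s ≫ (Over.homMk W.ι rfl : Over.mk (W.ι ≫ T.hom) ⟶ T) = 𝟙 T := by
    apply (yon S).map_injective
    rw [Functor.map_comp, Functor.map_preimage, hd]
    exact ((yon S).map_id T).symm
  intro x
  have hx : (s.left ≫ W.ι) x = x := by
    have := congrArg (fun k => k.left) hs
    simp only [Over.comp_left, Over.id_left] at this
    have h2 : s.left ≫ W.ι = 𝟙 T.left := this
    rw [h2]
    rfl
  have hxW : x ∈ W := by
    rw [← hx, Scheme.Hom.comp_apply]
    exact (s.left x).2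
  rw [hW, TopologicalSpace.Opens.mem_iSup] at hxW
  exact hxW

/-- If `h_T` is the coproduct of the `h_{T_k}`, the `T_k` are pairwise disjoint in `T`. -/
theorem disjoint_of_isColimit_yon {κ : Type u} {T : Over S} (Tk : κ → Over S) (t : ∀ k, Tk k ⟶ T)
    (hc : IsColimit (Cofan.mk ((yon S).obj T) (fun k => (yon S).map (t k)))) (i j : κ) (hij : i ≠ j) :
    Disjoint (Set.range (t i).left) (Set.range (t j).left) := by
  rw [Set.disjoint_iff]
  rintro x ⟨⟨a, ha⟩, ⟨b, hb⟩⟩
  obtain ⟨z, hz1, hz2⟩ := Scheme.Pullback.exists_preimage_pullback a b (ha.trans hb.symm)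
  let Z : Over S := Over.mk (pullback.fst (t i).left (t j).left ≫ (Tk i).hom)
  let p1 : Z ⟶ Tk i := Over.homMk (pullback.fst (t i).left (t j).left) rfl
  let p2 : Z ⟶ Tk j := Over.homMk (pullback.snd (t i).left (t j).left) (by
    simp only [Over.mk_left, Over.mk_hom, Z]
    rw [← Over.w (t i), ← Over.w (t j), ← Category.assoc, ← Category.assoc, pullback.condition])
  have hp : p1 ≫ t i = p2 ≫ t j := by
    ext1
    simp only [Over.comp_left]
    exact pullback.condition
  have hemp := isEmpty_of_inj_eq (fun k => (yon S).obj (Tk k)) _ hc (i := i) (j := j) (Ne.symm hij)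
    (Z := Z) ((yon S).map p1) ((yon S).map p2) (by
      show (yon S).map p1 ≫ (yon S).map (t i) = (yon S).map p2 ≫ (yon S).map (t j)
      rw [← Functor.map_comp, ← Functor.map_comp, hp])
  exact hemp.false z

/-- A map is representable with `P` as soon as every base change to a scheme has one representative with `P`. -/
theorem repWith_of_forall_exists (P : MorphismProperty Scheme.{u}) [P.RespectsIso] {F G : Sp S} (f : F ⟶ G)
    (h : ∀ (T : Over S) (ξ : (yon S).obj T ⟶ G), ∃ (X : Over S) (snd : X ⟶ T) (fst : (yon S).obj X ⟶ F),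
      IsPullback fst ((yon S).map snd) f ξ ∧ P snd.left) : RepWith P f := by
  refine ⟨fun T ξ => ?_, fun T X' ξ fst' snd' sq' => ?_⟩
  · obtain ⟨X, snd, fst, sq, -⟩ := h T ξ
    exact ⟨X, snd, fst, sq⟩
  · obtain ⟨X, snd, fst, sq, hP⟩ := h T ξ
    let e : (yon S).obj X' ≅ (yon S).obj X := sq'.isoIsPullback _ _ sq
    let e' : X' ≅ X := (yon S).preimageIso e
    have he : e'.hom ≫ snd = snd' := by
      apply (yon S).map_injective
      rw [Functor.map_comp, Functor.preimageIso_hom, Functor.map_preimage]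
      exact sq'.isoIsPullback_hom_snd _ _ sq
    show P snd'.left
    rw [← he, Over.comp_left]
    exact (P.cancel_left_of_respectsIso e'.hom.left snd.left).2 hP

/-- The fibre product of two schemes over a coproduct of sheaves, given decompositions of both and representing objects
of the fibre products of the pieces. -/
theorem isPullback_sigmaOver {κ : Type u} (F : κ → Sp S) (c : Cofan F) (hc : IsColimit c) {T T' : Over S}
    (a : (yon S).obj T ⟶ c.pt) (b : (yon S).obj T' ⟶ c.pt)
    (Tk : κ → Over S) (t : ∀ k, Tk k ⟶ T) (fa : ∀ k, (yon S).obj (Tk k) ⟶ F k)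
    (sqA : ∀ k, IsPullback (fa k) ((yon S).map (t k)) (c.inj k) a)
    (T'k : κ → Over S) (t' : ∀ k, T'k k ⟶ T') (fb : ∀ k, (yon S).obj (T'k k) ⟶ F k)
    (sqB : ∀ k, IsPullback (fb k) ((yon S).map (t' k)) (c.inj k) b)
    (Pk : κ → Over S) (v : ∀ k, Pk k ⟶ Tk k) (v' : ∀ k, Pk k ⟶ T'k k)
    (sqP : ∀ k, IsPullback ((yon S).map (v k)) ((yon S).map (v' k)) (fa k) (fb k)) :
    IsPullback ((yon S).map (sigmaOverDesc Pk (fun k => v k ≫ t k)))
      ((yon S).map (sigmaOverDesc Pk (fun k => v' k ≫ t' k))) a b := by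
  have comm : ∀ k, ((yon S).map (v k) ≫ (yon S).map (t k)) ≫ a =
      ((yon S).map (v' k) ≫ (yon S).map (t' k)) ≫ b := by
    intro k
    rw [Category.assoc, Category.assoc, ← (sqA k).w, ← (sqB k).w, ← Category.assoc, ← Category.assoc, (sqP k).w]
  let ℓ : ∀ k, (yon S).obj (Pk k) ⟶ pullback a b := fun k =>
    pullback.lift ((yon S).map (v k) ≫ (yon S).map (t k)) ((yon S).map (v' k) ≫ (yon S).map (t' k)) (comm k)
  obtain ⟨hQ⟩ := nonempty_isColimit_pullback F c hc a b (pullback.fst a b) (pullback.snd a b)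
    (IsPullback.of_hasPullback a b) _ _ _ fa (fun k => (yon S).map (t k)) sqA fb (fun k => (yon S).map (t' k)) sqB
    (fun k => (yon S).map (v k)) (fun k => (yon S).map (v' k)) sqP ℓ
    (fun k => pullback.lift_fst _ _ _) (fun k => pullback.lift_snd _ _ _)
  let hYon := isColimitYonSigma Pk
  let e := hYon.coconePointUniqueUpToIso hQ
  have he : ∀ k, (yon S).map (sigmaOverι Pk k) ≫ e.hom = ℓ k :=
    fun k => hYon.comp_coconePointUniqueUpToIso_hom hQ ⟨k⟩
  have h1 : e.hom ≫ pullback.fst a b = (yon S).map (sigmaOverDesc Pk (fun k => v k ≫ t k)) := by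
    apply hYon.hom_ext
    rintro ⟨k⟩
    simp only [Cofan.mk_pt, Cofan.mk_ι_app]
    rw [← Category.assoc, he k, ← Functor.map_comp, sigmaOverι_desc, Functor.map_comp]
    exact pullback.lift_fst _ _ _
  have h2 : e.hom ≫ pullback.snd a b = (yon S).map (sigmaOverDesc Pk (fun k => v' k ≫ t' k)) := by
    apply hYon.hom_ext
    rintro ⟨k⟩
    simp only [Cofan.mk_pt, Cofan.mk_ι_app]
    rw [← Category.assoc, he k, ← Functor.map_comp, sigmaOverι_desc, Functor.map_comp]
    exact pullback.lift_snd _ _ _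
  refine IsPullback.of_iso_pullback ⟨?_⟩ e h1 h2
  rw [← h1, ← h2, Category.assoc, Category.assoc, pullback.condition]

end Groth.Agent.Lib.helper5.Coprod
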