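import Groth.Agent.S10364
import Groth.Agent.Lib.Helper5.AlgSpFibreProduct

/-!
# Decency is local on the base (helper5)

* `isDecent_of_open_cover_base`: an algebraic space `P` over a scheme `T` is decent if `T` is covered by opens `D`
  such that `P ×_T D` is decent.
-/

set_option autoImplicit false
universe u
open CategoryTheory CategoryTheory.Limits AlgebraicGeometry AlgSp Opposite

namespace Groth.Agent.Lib.helper5.DecentLocal

variable {S : Scheme.{u}}

/-- An algebraic space `P` over a scheme `T` is decent if `T` is covered by opens `D` with `P ×_T D` decent. -/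
theorem isDecent_of_open_cover_base {P : Sp S} (hP : IsAlgSpace P) {T : Over S} (snd : P ⟶ (yon S).obj T)
    (H : ∀ t : ↥T.left, ∃ D : T.left.Opens, t ∈ D ∧
      IsDecent (pullback snd ((yon S).map (OpenSub.subOverι T D)))) : IsDecent P := by
  choose D hD hdec using H
  have halg : ∀ t, IsAlgSpace (pullback snd ((yon S).map (OpenSub.subOverι T (D t)))) := fun t =>
    isAlgSpace_of_isPullback (IsAlgSpace.yon_obj T).diag hP (IsAlgSpace.yon_obj _)
      (IsPullback.of_hasPullback snd ((yon S).map (OpenSub.subOverι T (D t))))
  refine Groth.Agent.S10364.result ⟨P, hP⟩ (fun t => ⟨_, halg t⟩)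
    (fun t => ObjectProperty.homMk (pullback.fst snd ((yon S).map (OpenSub.subOverι T (D t))))) ⟨?_, ?_⟩ hdec
  · intro t
    exact (repWith_isStableUnderBaseChange (S := S) @IsOpenImmersion).of_isPullback
      (IsPullback.of_hasPullback snd ((yon S).map (OpenSub.subOverι T (D t)))).flip
      (OpenSub.repWith_subOverι T (D t))
  · intro x
    let t : ↥T.left := Points.toScheme T (Points.map snd x)
    refine ⟨t, ?_⟩
    have hxz : Points.map snd x = Points.map ((yon S).map (OpenSub.subOverι T (D t)))
        (Points.ofScheme (OpenSub.subOver T (D t)) ⟨t, hD t⟩) := by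
      rw [← Points.ofPt_eq_map_ofScheme, Groth.Agent.Lib.helper11.ofPt_yon_map]
      exact (Points.ofScheme_toScheme T _).symm
    obtain ⟨w, hw, -⟩ := Groth.Agent.Lib.helper10.exists_point_of_isPullback
      (IsPullback.of_hasPullback snd ((yon S).map (OpenSub.subOverι T (D t)))) x _ hxz
    exact ⟨w, hw⟩

end Groth.Agent.Lib.helper5.DecentLocal
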