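import Groth.Agent.Lib.Helper5.AlgSpEtFpqc
import Groth.Agent.Lib.Helper5.AlgSpOpenSub

/-!
The affine opens of an etale atlas form an fpqc covering of an algebraic space (helper5).
-/

set_option autoImplicit false
universe u
open CategoryTheory CategoryTheory.Limits AlgebraicGeometry Opposite
open AlgSp

namespace Groth.Agent.Lib.helper5.EtFpqc

variable {S : Scheme.{u}}

open Groth.Agent.Lib.helper5.OpenSub in
theorem isFpqcCover_affineOpens {Y : Sp S} (hY : IsAlgSpace Y) (V : Over S)
    (p : (yon S).obj V ⟶ Y) (hp : RepWith @Etale p) (hps : RepWith @Surjective p) :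
    IsFpqcCover (S := S) (ι := V.left.affineOpens)
      (fun k => (yon S).obj (subOver V k.1)) (fun k => (yon S).map (subOverι V k.1) ≫ p) := by
  have hk : ∀ k : V.left.affineOpens, RepWith @Etale ((yon S).map (subOverι V k.1) ≫ p) := by
    intro k
    refine (RepWith (S := S) @Etale).comp_mem _ _ ((repWith_yon_map_iff _ _).2 ?_) hp
    show Etale k.1.ι
    infer_instance
  have h2 : ∀ k : V.left.affineOpens, LocP @Etale ((yon S).map (subOverι V k.1) ≫ p) := fun k =>
    Groth.Agent.S10265.locP_etale_of_isEtaleMor _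
      (fun U φ hφ => (RepWith (S := S) @Etale).comp_mem _ _ hφ (hk k))
  have hfl : ∀ k : V.left.affineOpens, LocP @Flat ((yon S).map (subOverι V k.1) ≫ p) := fun k =>
    Groth.Agent.S10265.locP_mono (fun X Y f hf => by
      have : Etale f := hf
      exact inferInstanceAs (Flat f)) (h2 k)
  have hlfp : ∀ k : V.left.affineOpens,
      LocP @LocallyOfFinitePresentation ((yon S).map (subOverι V k.1) ≫ p) := fun k =>
    Groth.Agent.S10265.locP_mono (fun X Y f hf => by
      have : Etale f := hf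
      exact inferInstanceAs (LocallyOfFinitePresentation f)) (h2 k)
  refine Groth.Agent.S10505.result (S := S) ⟨Y, hY⟩ (ι := V.left.affineOpens)
    (fun k => ⟨(yon S).obj (subOver V k.1), IsAlgSpace.yon_obj _⟩)
    (fun k => ObjectProperty.homMk ((yon S).map (subOverι V k.1) ≫ p))
    ⟨fun k => ⟨hfl k, hlfp k⟩, fun x => ?_⟩
  obtain ⟨v, rfl⟩ := Groth.Agent.Lib.helper11.surjective_ofPt p hps x
  obtain ⟨_, ⟨U₀, hU₀, rfl⟩, hv, -⟩ :=
    (V.left.isBasis_affineOpens).exists_subset_of_mem_open (Set.mem_univ v) isOpen_univ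
  refine ⟨⟨U₀, hU₀⟩, Points.ofPt (𝟙 _) (⟨v, hv⟩ : U₀), ?_⟩
  show Points.map ((yon S).map (subOverι V U₀) ≫ p) (Points.ofPt (𝟙 _) (⟨v, hv⟩ : U₀)) = _
  rw [Points.map_ofPt, Category.id_comp, Groth.Agent.Lib.helper11.ofPt_yon_map_comp]
  rfl

end Groth.Agent.Lib.helper5.EtFpqc
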