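import Mathlib

/-!
# Lifting étale algebras along square-zero ideals (helper5)

`exists_standardEtalePair_lift`: a standard étale pair over `A ⧸ I`, `I ^ 2 = 0`, lifts to `A`.
`exists_etale_lift_ring`: an étale `A ⧸ I`-algebra is, locally around a prime, the base change of an étale
`A`-algebra.
-/

set_option autoImplicit false
universe u

open Polynomial TensorProduct

namespace Groth.Agent.Lib.helper5

theorem exists_standardEtalePair_lift {A : Type u} [CommRing A] (I : Ideal A) (hI : I ^ 2 = ⊥)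
    (Q : StandardEtalePair (A ⧸ I)) :
    ∃ P : StandardEtalePair A, P.map (algebraMap A (A ⧸ I)) = Q := by
  have hsurj : Function.Surjective (algebraMap A (A ⧸ I)) := Ideal.Quotient.mk_surjective
  obtain ⟨f, hf, -, hfm⟩ := Polynomial.lifts_and_natDegree_eq_and_monic
    (Polynomial.mem_lifts_of_surjective hsurj Q.f) Q.monic_f
  obtain ⟨g, hg⟩ := Polynomial.map_surjective _ hsurj Q.g
  obtain ⟨p₁', p₂', n, e⟩ := Q.cond
  obtain ⟨p₁, hp₁⟩ := Polynomial.map_surjective _ hsurj p₁'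
  obtain ⟨p₂, hp₂⟩ := Polynomial.map_surjective _ hsurj p₂'
  set ε : A[X] := derivative f * p₁ + f * p₂ - g ^ n with hε
  have hε0 : ε.map (algebraMap A (A ⧸ I)) = 0 := by
    rw [hε, Polynomial.map_sub, Polynomial.map_add, Polynomial.map_mul, Polynomial.map_mul,
      Polynomial.map_pow, ← Polynomial.derivative_map, hf, hg, hp₁, hp₂, e, sub_self]
  have hεI : ε ∈ Ideal.map (C : A →+* A[X]) I := by
    have h1 : ε ∈ RingHom.ker (Polynomial.mapRingHom (algebraMap A (A ⧸ I))) := by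
      rw [RingHom.mem_ker]
      exact hε0
    rw [Polynomial.ker_mapRingHom] at h1
    have h2 : RingHom.ker (algebraMap A (A ⧸ I)) = I := Ideal.mk_ker
    rwa [h2] at h1
  have hεε : ε * ε = 0 := by
    have h1 : ε * ε ∈ Ideal.map (C : A →+* A[X]) I ^ 2 := by
      rw [pow_two]
      exact Ideal.mul_mem_mul hεI hεI
    rw [← Ideal.map_pow, hI, Ideal.map_bot] at h1
    exact h1
  refine ⟨⟨f, hfm, g, ⟨p₁ * (g ^ n - ε), p₂ * (g ^ n - ε), 2 * n, ?_⟩⟩, ?_⟩
  · have h3 : derivative f * p₁ + f * p₂ = g ^ n + ε := by rw [hε]; ring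
    linear_combination (g ^ n - ε) * h3 - hεε
  · cases Q
    simp only [StandardEtalePair.map, StandardEtalePair.mk.injEq]
    exact ⟨hf, hg⟩

theorem exists_etale_lift_ring {A : Type u} [CommRing A] (I : Ideal A) (hI : I ^ 2 = ⊥)
    {Bb : Type u} [CommRing Bb] [Algebra (A ⧸ I) Bb] [Algebra.Etale (A ⧸ I) Bb]
    (q : Ideal Bb) [q.IsPrime] :
    ∃ g ∉ q, ∃ (B : Type u) (_ : CommRing B) (_ : Algebra A B), Algebra.Etale A B ∧
      Nonempty ((A ⧸ I) ⊗[A] B ≃ₐ[A ⧸ I] Localization.Away g) := by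
  obtain ⟨g, hg, hstd⟩ := Algebra.IsEtaleAt.exists_isStandardEtale (R := A ⧸ I) q
  obtain ⟨⟨Q, x, hx, hbij⟩⟩ := hstd.nonempty_standardEtalePresentation
  obtain ⟨P, rfl⟩ := exists_standardEtalePair_lift I hI Q
  refine ⟨g, hg, P.Ring, inferInstance, inferInstance, inferInstance, ⟨?_⟩⟩
  let PP : StandardEtalePresentation A P.Ring :=
    ⟨P, P.X, P.hasMap_X, by simpa [StandardEtalePair.lift_X_left] using Function.bijective_id⟩
  let e1 := (PP.baseChange (T := A ⧸ I)).equivRing
  let e2 := (⟨P.map (algebraMap A (A ⧸ I)), x, hx, hbij⟩ :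
    StandardEtalePresentation (A ⧸ I) (Localization.Away g)).equivRing
  exact e1.trans e2.symm

end Groth.Agent.Lib.helper5
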