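import Groth.Agent.Lib.Helper5.AlgSpEtaleLift

/-!
# Lifting étale neighbourhoods, open immersion version (helper5)

`exists_etale_lift_nhd`: for thickening data `D` (`T = Spec (A ⧸ I) ⟶ T' = Spec A`), an étale
`p : W ⟶ T` and a point `w` of `W`, there are an affine étale `c : T'_w ⟶ T'`, an affine first order
thickening `t : T_w ⟶ T'_w` and a map `ι : T_w ⟶ W` through `w`, forming a pullback square of schemes.
-/

set_option autoImplicit false
universe u

open CategoryTheory CategoryTheory.Limits AlgebraicGeometry Opposite TensorProduct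

namespace Groth.Agent.Lib.helper5

open AlgSp

variable {S : Scheme.{u}}

theorem exists_etale_lift_nhd' (D : Thk S) {W : Over S} (p : W ⟶ D.ptT) (hp : Etale p.left)
    (w : ↥W.left) :
    ∃ (T'w Tw : Over S) (c : T'w ⟶ D.ptT') (t : Tw ⟶ T'w) (ι : Tw ⟶ W),
      IsAffine T'w.left ∧ Etale c.left ∧ w ∈ Set.range ι.left ∧
      MoreMor.IsFirstOrderThickening t.left ∧
      IsPullback (ι.left ≫ p.left) t.left D.j.left c.left ∧ IsOpenImmersion ι.left := by
  obtain ⟨W₀, hW₀, hw, -⟩ := exists_affineOpen_mem_le (⊤ : W.left.Opens) w trivial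
  let fs : Spec Γ(W.left, W₀) ⟶ W.left := hW₀.fromSpec
  let ρ : CommRingCat.of (D.A ⧸ D.I) ⟶ Γ(W.left, W₀) := Spec.preimage (fs ≫ p.left)
  have hρ : Spec.map ρ = fs ≫ p.left := Spec.map_preimage _
  have hρe : ρ.hom.Etale := by
    have h1 : Etale (Spec.map ρ) := by
      rw [hρ]
      infer_instance
    exact (HasRingHomProperty.Spec_iff (P := @Etale)).1 h1
  let _ : Algebra (D.A ⧸ D.I) Γ(W.left, W₀) := ρ.hom.toAlgebra
  have hρalg : algebraMap (D.A ⧸ D.I) Γ(W.left, W₀) = ρ.hom := RingHom.algebraMap_toAlgebra _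
  have : Algebra.Etale (D.A ⧸ D.I) Γ(W.left, W₀) := hρe
  obtain ⟨y, hy⟩ : ∃ y : ↥(Spec Γ(W.left, W₀)), fs y = w := by
    have : w ∈ Set.range fs := by
      rw [hW₀.range_fromSpec]
      exact hw
    exact this
  have : y.asIdeal.IsPrime := y.isPrime
  obtain ⟨g, hg, B, _, _, hB, ⟨e⟩⟩ := exists_etale_lift_ring D.I D.sq_zero y.asIdeal
  -- scheme maps
  let cL : Spec (.of B) ⟶ Spec (.of D.A) := Spec.map (CommRingCat.ofHom (algebraMap D.A B))
  let tL : Spec (.of ((D.A ⧸ D.I) ⊗[D.A] B)) ⟶ Spec (.of B) :=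
    Spec.map (CommRingCat.ofHom
      (Algebra.TensorProduct.includeRight (R := D.A) (A := D.A ⧸ D.I) (B := B)).toRingHom)
  let pL : Spec (.of ((D.A ⧸ D.I) ⊗[D.A] B)) ⟶ Spec (.of (D.A ⧸ D.I)) :=
    Spec.map (CommRingCat.ofHom
      (Algebra.TensorProduct.includeLeft (R := D.A) (S := D.A) (A := D.A ⧸ D.I) (B := B)).toRingHom)
  have sqL : IsPullback pL tL (Spec.map (CommRingCat.ofHom (algebraMap D.A (D.A ⧸ D.I)))) cL :=
    isPullback_SpecMap_of_isPushout _ _ _ _
      (CommRingCat.isPushout_tensorProduct D.A (D.A ⧸ D.I) B)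
  let ιL : Spec (.of ((D.A ⧸ D.I) ⊗[D.A] B)) ⟶ W.left :=
    Spec.map (CommRingCat.ofHom e.symm.toRingEquiv.toRingHom) ≫
      Spec.map (CommRingCat.ofHom (algebraMap Γ(W.left, W₀) (Localization.Away g))) ≫ fs
  have hιp : ιL ≫ p.left = pL := by
    show (Spec.map _ ≫ Spec.map _ ≫ fs) ≫ p.left = _
    rw [Category.assoc, Category.assoc, ← hρ, ← Spec.map_comp, ← Spec.map_comp]
    congr 1
    ext a
    show e.symm (algebraMap Γ(W.left, W₀) (Localization.Away g) (ρ.hom a)) = _
    rw [← hρalg, ← IsScalarTower.algebraMap_apply, e.symm.commutes]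
    rfl
  have hstr : ιL ≫ W.hom = tL ≫ cL ≫ D.str := by
    have h1 : W.hom = p.left ≫ Spec.map (CommRingCat.ofHom (Ideal.Quotient.mk D.I)) ≫ D.str :=
      (Over.w p).symm
    rw [h1, ← Category.assoc, hιp, ← Category.assoc, ← Category.assoc]
    congr 1
    exact sqL.w
  have hD : MoreMor.IsFirstOrderThickening
      (Spec.map (CommRingCat.ofHom (algebraMap D.A (D.A ⧸ D.I)))) := D.isFirstOrderThickening
  refine ⟨Over.mk (cL ≫ D.str), Over.mk (tL ≫ cL ≫ D.str), Over.homMk cL rfl, Over.homMk tL rfl,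
    Over.homMk ιL hstr, ?_, ?_, ?_, ?_, ?_, ?_⟩
  · show IsAffine (Spec _)
    infer_instance
  · show Etale cL
    exact (HasRingHomProperty.Spec_iff (P := @Etale)).2 (RingHom.etale_algebraMap.2 hB)
  · show w ∈ Set.range ιL
    have hyg : y ∈ Set.range (Spec.map (CommRingCat.ofHom
        (algebraMap Γ(W.left, W₀) (Localization.Away g)))) := by
      have h1 := PrimeSpectrum.localization_away_comap_range (Localization.Away g) g
      have h2 : y ∈ (PrimeSpectrum.basicOpen g : Set (PrimeSpectrum Γ(W.left, W₀))) := hg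
      rw [← h1] at h2
      exact h2
    obtain ⟨y', hy'⟩ := hyg
    have hiso : IsIso (Spec.map (CommRingCat.ofHom e.symm.toRingEquiv.toRingHom)) := by
      have : IsIso (CommRingCat.ofHom e.symm.toRingEquiv.toRingHom) :=
        (e.symm.toRingEquiv.toCommRingCatIso).isIso_hom
      infer_instance
    obtain ⟨y'', hy''⟩ : ∃ y'', (Spec.map (CommRingCat.ofHom e.symm.toRingEquiv.toRingHom)) y'' =
        y' := by
      have := (asIso (Spec.map (CommRingCat.ofHom e.symm.toRingEquiv.toRingHom))).inv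
      exact ⟨(inv (Spec.map (CommRingCat.ofHom e.symm.toRingEquiv.toRingHom))) y', by
        rw [← Scheme.Hom.comp_apply, IsIso.inv_hom_id]
        rfl⟩
    refine ⟨y'', ?_⟩
    show (Spec.map _ ≫ Spec.map _ ≫ fs) y'' = w
    rw [Scheme.Hom.comp_apply, Scheme.Hom.comp_apply, hy'', hy', hy]
  · show MoreMor.IsFirstOrderThickening tL
    refine ⟨⟨?_, ?_⟩, ?_⟩
    · have : IsClosedImmersion (Spec.map (CommRingCat.ofHom (algebraMap D.A (D.A ⧸ D.I)))) :=
        hD.1.1
      exact MorphismProperty.of_isPullback (P := @IsClosedImmersion) sqL this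
    · have : Surjective (Spec.map (CommRingCat.ofHom (algebraMap D.A (D.A ⧸ D.I)))) := hD.1.2
      exact MorphismProperty.of_isPullback (P := @Surjective) sqL this
    · exact sqZero_of_isPullback_thk D.I D.sq_zero cL pL tL sqL
  · show IsPullback (ιL ≫ p.left) tL _ cL
    rw [hιp]
    exact sqL
  · show IsOpenImmersion ιL
    have hiso : IsIso (Spec.map (CommRingCat.ofHom e.symm.toRingEquiv.toRingHom)) := by
      have : IsIso (CommRingCat.ofHom e.symm.toRingEquiv.toRingHom) :=
        (e.symm.toRingEquiv.toCommRingCatIso).isIso_hom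
      infer_instance
    have hloc : IsOpenImmersion (Spec.map (CommRingCat.ofHom
        (algebraMap Γ(W.left, W₀) (Localization.Away g)))) :=
      IsOpenImmersion.of_isLocalization g
    have hfs : IsOpenImmersion fs := inferInstanceAs (IsOpenImmersion hW₀.fromSpec)
    infer_instance

end Groth.Agent.Lib.helper5
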