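import Groth.Agent.Lib.Helper1.LocNoeth
import Groth.Agent.Lib.Helper5.AlgSpFibreProduct

/-!
# Locally Noetherian fibres and field extensions (helper5)

* `isLocallyNoetherian_of_flat_surjective_affineHom`: local Noetherianity descends along flat surjective affine morphisms.
* `IsLocNoethSp.of_iso`.
* `isLocNoethSp_fibre_descent`: if the fibre of `f` over a field point `q'` is locally Noetherian and `q'` factors through the
  field point `q`, then the fibre over `q` is locally Noetherian.
-/

set_option autoImplicit false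
universe u
open CategoryTheory CategoryTheory.Limits AlgebraicGeometry AlgSp Opposite

namespace Groth.Agent.Lib.helper5.FibreNoeth

/-- Local Noetherianity descends along flat surjective affine morphisms. -/
theorem isLocallyNoetherian_of_flat_surjective_affineHom {T U : Scheme.{u}} (f : T ⟶ U) [Flat f]
    [Surjective f] [IsAffineHom f] [IsLocallyNoetherian T] : IsLocallyNoetherian U := by
  refine isLocallyNoetherian_of_affine_cover (S := fun V : U.affineOpens => V) (iSup_affineOpens_eq_top U) ?_
  intro V
  have hV : IsAffineOpen V.1 := V.2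
  have hpre : IsAffineOpen (f ⁻¹ᵁ V.1) := hV.preimage f
  have : IsAffine ((f ⁻¹ᵁ V.1 : T.Opens) : Scheme.{u}) := hpre
  have : IsAffine ((V.1 : U.Opens) : Scheme.{u}) := hV
  have hgf : Flat (f ∣_ V.1) := inferInstance
  have hgs : Surjective (f ∣_ V.1) := IsZariskiLocalAtTarget.restrict ‹Surjective f› V.1
  have hff : (f ∣_ V.1).appTop.hom.FaithfullyFlat :=
    (Flat.flat_and_surjective_iff_faithfullyFlat_of_isAffine (f ∣_ V.1)).1 ⟨hgf, hgs⟩
  have hN : IsNoetherianRing Γ((f ⁻¹ᵁ V.1 : T.Opens), ⊤) :=
    IsLocallyNoetherian.component_noetherian ⟨⊤, isAffineOpen_top _⟩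
  have hN' : IsNoetherianRing Γ((V.1 : U.Opens), ⊤) :=
    Groth.Agent.S10368.isNoetherianRing_of_faithfullyFlat _ hff
  exact isNoetherianRing_of_ringEquiv _ V.1.topIso.commRingCatIsoToRingEquiv

namespace FieldQuotAux

theorem surjective_of_fields {k' Ω : Type u} [Field k'] [Field Ω]
    (f : Spec (CommRingCat.of Ω) ⟶ Spec (CommRingCat.of k')) : Function.Surjective f := by
  have : Subsingleton ↥(Spec (CommRingCat.of k')) :=
    inferInstanceAs (Subsingleton (PrimeSpectrum k'))
  exact fun y => ⟨(IsLocalRing.closedPoint Ω : ↥(Spec (CommRingCat.of Ω))),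
    @Subsingleton.elim ↥(Spec (CommRingCat.of k')) this _ _⟩

end FieldQuotAux

variable {S : Scheme.{u}}

theorem isLocNoethSp_of_iso {F G : Sp S} (e : F ≅ G) (hF : IsLocNoethSp F) : IsLocNoethSp G := by
  obtain ⟨U, a, hae, has, hU⟩ := hF
  refine ⟨U, a ≫ e.hom, ?_, ?_, hU⟩
  · exact (RepWith (S := S) @Etale).comp_mem _ _ hae (MorphismProperty.of_isIso (RepWith (S := S) @Etale) e.hom)
  · exact (RepWith (S := S) @Surjective).comp_mem _ _ has
      (MorphismProperty.of_isIso (RepWith (S := S) @Surjective) e.hom)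

/-- If the fibre of `f` over a field point `q'` is locally Noetherian and `q'` factors through the field point `q`,
then the fibre over `q` is locally Noetherian. -/
theorem isLocNoethSp_fibre_descent {X Y : Sp S} (hX : IsAlgSpace X) (hY : IsAlgSpace Y) (f : X ⟶ Y)
    (q q' : FieldPt Y) (c : q'.pt ⟶ q.pt) (hc : (yon S).map c ≫ q.toHom = q'.toHom)
    (hNoeth : ∀ ⦃P : Sp S⦄ (fst : P ⟶ X) (snd : P ⟶ (yon S).obj q'.pt),
      IsPullback fst snd f q'.toHom → IsLocNoethSp P)
    {Q : Sp S} (qfst : Q ⟶ X) (qsnd : Q ⟶ (yon S).obj q.pt) (hQ : IsPullback qfst qsnd f q.toHom) :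
    IsLocNoethSp Q := by
  have hQalg : IsAlgSpace Q := isAlgSpace_of_isPullback hY.diag hX (IsAlgSpace.yon_obj _) hQ
  obtain ⟨U₀, a₀, hae, has⟩ := hQalg.atlas
  obtain ⟨β, hβ⟩ := (yon S).map_surjective (a₀ ≫ qsnd)
  -- the fibre over `q'`
  have sq0 : IsPullback (pullback.fst qsnd ((yon S).map c)) (pullback.snd qsnd ((yon S).map c)) qsnd
      ((yon S).map c) := IsPullback.of_hasPullback _ _
  have sqP := sq0.paste_horiz hQ
  rw [hc] at sqP
  have hP : IsLocNoethSp (pullback qsnd ((yon S).map c)) := hNoeth _ _ sqP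
  -- the chart `U = U₀ ×_q q'`
  have sqU : IsPullback ((yon S).map (pullback.fst β c)) ((yon S).map (pullback.snd β c)) ((yon S).map β)
      ((yon S).map c) := (IsPullback.of_hasPullback β c).map (yon S)
  let k : (yon S).obj (pullback β c) ⟶ pullback qsnd ((yon S).map c) :=
    sq0.lift ((yon S).map (pullback.fst β c) ≫ a₀) ((yon S).map (pullback.snd β c)) (by
      rw [Category.assoc, ← hβ, sqU.w])
  have hk1 : k ≫ pullback.fst qsnd ((yon S).map c) = (yon S).map (pullback.fst β c) ≫ a₀ := sq0.lift_fst _ _ _
  have hk2 : k ≫ pullback.snd qsnd ((yon S).map c) = (yon S).map (pullback.snd β c) := sq0.lift_snd _ _ _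
  have sqO : IsPullback (k ≫ pullback.snd qsnd ((yon S).map c)) ((yon S).map (pullback.fst β c)) ((yon S).map c)
      (a₀ ≫ qsnd) := by
    rw [hk2, ← hβ]
    exact sqU.flip
  have left : IsPullback k ((yon S).map (pullback.fst β c)) (pullback.fst qsnd ((yon S).map c)) a₀ :=
    IsPullback.of_right sqO hk1 sq0.flip
  have hke : RepWith @Etale k :=
    (repWith_isStableUnderBaseChange (S := S) @Etale).of_isPullback left.flip hae
  have hUN : IsLocallyNoetherian (pullback β c).left :=
    Groth.Agent.H1.LocNoeth.isLocallyNoetherian_of_chart hP k hke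
  -- descent to `U₀`
  have sqL : IsPullback (pullback.fst β c).left (pullback.snd β c).left β.left c.left :=
    (IsPullback.of_hasPullback β c).map (Over.forget S)
  have hcf : Flat c.left := by
    obtain ⟨φ, hφ⟩ := Spec.map_surjective c.left
    rw [← hφ, HasRingHomProperty.Spec_iff (P := @Flat)]
    letI : Algebra q.K q'.K := φ.hom.toAlgebra
    exact (inferInstance : Module.Flat q.K q'.K)
  have hcs : Surjective c.left := ⟨FieldQuotAux.surjective_of_fields c.left⟩
  have hca : IsAffineHom c.left := by
    have : IsAffine q'.pt.left := inferInstanceAs (IsAffine (Spec _))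
    have : IsAffine q.pt.left := inferInstanceAs (IsAffine (Spec _))
    infer_instance
  have h1 : Flat (pullback.fst β c).left := MorphismProperty.of_isPullback sqL.flip hcf
  have h2 : Surjective (pullback.fst β c).left := MorphismProperty.of_isPullback sqL.flip hcs
  have h3 : IsAffineHom (pullback.fst β c).left := MorphismProperty.of_isPullback sqL.flip hca
  have hU₀N : IsLocallyNoetherian U₀.left :=
    isLocallyNoetherian_of_flat_surjective_affineHom (pullback.fst β c).left
  exact ⟨U₀, a₀, hae, has, hU₀N⟩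

/-- If the fibre of `f` over a field point `q` is locally Noetherian and `q'` factors through `q` by a morphism locally of finite
type, then the fibre over `q'` is locally Noetherian. -/
theorem isLocNoethSp_fibre_ascent {X Y : Sp S} (f : X ⟶ Y)
    (q q' : FieldPt Y) (c : q'.pt ⟶ q.pt) (hc : (yon S).map c ≫ q.toHom = q'.toHom)
    (hlft : LocallyOfFiniteType c.left)
    (hNoeth : ∀ ⦃P : Sp S⦄ (fst : P ⟶ X) (snd : P ⟶ (yon S).obj q.pt),
      IsPullback fst snd f q.toHom → IsLocNoethSp P)
    {P' : Sp S} (fst' : P' ⟶ X) (snd' : P' ⟶ (yon S).obj q'.pt) (sq' : IsPullback fst' snd' f q'.toHom) :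
    IsLocNoethSp P' := by
  have sq0 : IsPullback (pullback.fst f q.toHom) (pullback.snd f q.toHom) f q.toHom := IsPullback.of_hasPullback _ _
  obtain ⟨W, w, hwe, hws, hWN⟩ := hNoeth _ _ sq0
  have hWN' : IsLocallyNoetherian W.left := hWN
  let m : P' ⟶ pullback f q.toHom := pullback.lift fst' (snd' ≫ (yon S).map c) (by
    rw [Category.assoc, hc, sq'.w])
  have hm1 : m ≫ pullback.fst f q.toHom = fst' := pullback.lift_fst _ _ _
  have hm2 : m ≫ pullback.snd f q.toHom = snd' ≫ (yon S).map c := pullback.lift_snd _ _ _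
  have sqm : IsPullback m snd' (pullback.snd f q.toHom) ((yon S).map c) := by
    have hO : IsPullback (m ≫ pullback.fst f q.toHom) snd' f ((yon S).map c ≫ q.toHom) := by
      rw [hm1, hc]; exact sq'
    exact (IsPullback.of_bot hO.flip hm2.symm sq0.flip).flip
  obtain ⟨γ, hγ⟩ := (yon S).map_surjective (w ≫ pullback.snd f q.toHom)
  have sqW : IsPullback ((yon S).map (pullback.fst γ c)) ((yon S).map (pullback.snd γ c)) ((yon S).map γ)
      ((yon S).map c) := (IsPullback.of_hasPullback γ c).map (yon S)
  let k : (yon S).obj (pullback γ c) ⟶ P' :=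
    sqm.lift ((yon S).map (pullback.fst γ c) ≫ w) ((yon S).map (pullback.snd γ c)) (by
      rw [Category.assoc, ← hγ, sqW.w])
  have hk1 : k ≫ m = (yon S).map (pullback.fst γ c) ≫ w := sqm.lift_fst _ _ _
  have hk2 : k ≫ snd' = (yon S).map (pullback.snd γ c) := sqm.lift_snd _ _ _
  have sqO : IsPullback (k ≫ snd') ((yon S).map (pullback.fst γ c)) ((yon S).map c)
      (w ≫ pullback.snd f q.toHom) := by
    rw [hk2, ← hγ]
    exact sqW.flip
  have left : IsPullback k ((yon S).map (pullback.fst γ c)) m w := IsPullback.of_right sqO hk1 sqm.flip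
  have hke : RepWith @Etale k :=
    (repWith_isStableUnderBaseChange (S := S) @Etale).of_isPullback left.flip hwe
  have hks : RepWith @Surjective k :=
    (repWith_isStableUnderBaseChange (S := S) @Surjective).of_isPullback left.flip hws
  have sqL : IsPullback (pullback.fst γ c).left (pullback.snd γ c).left γ.left c.left :=
    (IsPullback.of_hasPullback γ c).map (Over.forget S)
  have h1 : LocallyOfFiniteType (pullback.fst γ c).left := MorphismProperty.of_isPullback sqL.flip hlft
  have hN : IsLocallyNoetherian (pullback γ c).left :=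
    LocallyOfFiniteType.isLocallyNoetherian (pullback.fst γ c).left
  exact ⟨_, k, hke, hks, hN⟩

end Groth.Agent.Lib.helper5.FibreNoeth
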