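import Groth.Agent.Lib.Helper5.FibCrit11

/-!
# Fibrewise flatness and arbitrary base change (helper5)

* `fibFlatAt_iff_of_isPullback_base` : `FibFlatAt` is invariant under an arbitrary base change
  `S' ⟶ S`.
* `flat_stalkMap_iff_of_isPullback_base` : if `X` is flat over `S` at `x` (`X` l.f.p. over `S`, `Y`
  l.f.t. over `S`), flatness of `f : X ⟶ Y` at `x` can be tested after an arbitrary base change
  `S' ⟶ S`.
-/

set_option autoImplicit false
universe u
open CategoryTheory CategoryTheory.Limits AlgebraicGeometry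

namespace Groth.Agent.Lib.helper5.FibCrit

variable {X Y S X' Y' S' : Scheme.{u}}

theorem fibFlatAt_iff_of_isPullback_base (f : X ⟶ Y) (g : Y ⟶ S) (f' : X' ⟶ Y') (g' : Y' ⟶ S')
    (eX : X' ⟶ X) (eY : Y' ⟶ Y) (h : S' ⟶ S) (sqY : IsPullback eY g' g h)
    (sqX : IsPullback eX f' f eY) (x' : X') : FibFlatAt f' g' x' ↔ FibFlatAt f g (eX x') := by
  set s' : S' := g' (f' x') with hs'
  letI : Field (S'.residueField s') := inferInstanceAs (Field (IsLocalRing.ResidueField _))
  have sqV₀ : IsPullback (g'.fiberι s' ≫ eY) (g'.fiberToSpecResidueField s') g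
      (S'.fromSpecResidueField s' ≫ h) :=
    (IsPullback.of_hasPullback g' (S'.fromSpecResidueField s')).paste_horiz sqY
  have sqU₀ : IsPullback ((f' ≫ g').fiberι s' ≫ eX) (MoreMor.fiberMap f' g' s') f
      (g'.fiberι s' ≫ eY) := (isPullback_fiberMap f' g' s').paste_horiz sqX
  have hz : ((f' ≫ g').fiberι s' ≫ eX) ((f' ≫ g').asFiber x') = eX x' := by
    rw [Scheme.Hom.comp_apply]
    congr 1
    exact (f' ≫ g').fiberι_asFiber x'
  rw [← hz]
  exact fibFlatAt_iff_of_isPullback f g (S'.fromSpecResidueField s' ≫ h) _ _ sqV₀ _ _ sqU₀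
    ((f' ≫ g').asFiber x')

theorem flat_stalkMap_iff_of_isPullback_base (f : X ⟶ Y) (g : Y ⟶ S) [LocallyOfFiniteType g]
    [LocallyOfFinitePresentation (f ≫ g)] (f' : X' ⟶ Y') (g' : Y' ⟶ S')
    (eX : X' ⟶ X) (eY : Y' ⟶ Y) (h : S' ⟶ S) (sqY : IsPullback eY g' g h)
    (sqX : IsPullback eX f' f eY) (x' : X') (hfl : ((f ≫ g).stalkMap (eX x')).hom.Flat) :
    (f'.stalkMap x').hom.Flat ↔ (f.stalkMap (eX x')).hom.Flat := by
  constructor
  · intro hf'
    have h1 : FibFlatAt f' g' x' := fibFlatAt_of_flat f' g' x' hf'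
    rw [fibFlatAt_iff_of_isPullback_base f g f' g' eX eY h sqY sqX x'] at h1
    exact (flat_of_fibFlatAt f g (eX x') hfl h1).2
  · intro hf
    exact Groth.Agent.Lib.helper17.FlatStalkBC.flat_stalkMap_of_isPullback sqX.flip x' hf

end Groth.Agent.Lib.helper5.FibCrit
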