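import Groth.Agent.Lib.Helper5.AlgSpChartBC2
import Groth.Agent.Lib.Helper5.FibCrit12
import Groth.Agent.Lib.Helper17.LocPAtChart
import Groth.Agent.Lib.Helper17.GorAtEtale
import Groth.Agent.Lib.Helper5.AlgSpLocPFam
import Groth.Agent.Lib.Helper3.FlatDescI

/-!
# The flat locus of a morphism of algebraic spaces (helper5)

* `isFlatAtMor_iff_chart` : flatness at a point can be tested on one chart.
* `locP_flat_iff_forall` : `LocP @Flat f ↔ ∀ x, IsFlatAtMor f x`.
* `isOpen_flatLocus` : for `f` lfp, the flat locus is open in `|X|`.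
* `flatLocus_baseChange` : for `X ⟶ Y ⟶ Z`, `X` flat lfp over `Z`, `Y` lft over `Z`, the flat locus of
  `f` commutes with base change `Z' ⟶ Z`.
-/

set_option autoImplicit false
universe u
open CategoryTheory CategoryTheory.Limits AlgebraicGeometry
open AlgSp

namespace Groth.Agent.Lib.helper5.AlgSpFlatLocus

variable {S : Scheme.{u}}

theorem isFlatAtMor_of_chart {X Y : Sp S} (f : X ⟶ Y) (x : Points X) {U V : Over S}
    (a : (yon S).obj U ⟶ X) (b : (yon S).obj V ⟶ Y) (h : U ⟶ V) (u : ↥U.left)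
    (ha : RepWith @Etale a) (hb : RepWith @Etale b) (hc : a ≫ f = (yon S).map h ≫ b)
    (hu : Points.ofPt a u = x) (hQ : (h.left.stalkMap u).hom.Flat) : IsFlatAtMor f x := by
  have hS : ∀ {W U V : Scheme.{u}} (g : W ⟶ U) [Etale g] (h : U ⟶ V) (w : ↥W),
      ((g ≫ h).stalkMap w).hom.Flat ↔ (h.stalkMap (g w)).hom.Flat := fun g _ h w =>
    Groth.Agent.Lib.helper17.GorAtEtale.flat_stalkMap_comp_etale_left g h w
  have hT : ∀ {W T V : Scheme.{u}} (m : W ⟶ T) (k : T ⟶ V) [Etale k] (w : ↥W),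
      ((m ≫ k).stalkMap w).hom.Flat ↔ (m.stalkMap w).hom.Flat := fun m k _ w =>
    Groth.Agent.Lib.helper17.GorAtEtale.flat_stalkMap_comp_etale_right m k w
  exact Groth.Agent.Lib.helper17.LocPAtChart.locPAt_of_chart
    (Q := fun h u => (Scheme.Hom.stalkMap h u).hom.Flat) hS hT f x a b h u ha hb hc hu hQ

theorem isFlatAtMor_iff_chart {X Y : Sp S} (f : X ⟶ Y) (x : Points X) {U V : Over S}
    (a : (yon S).obj U ⟶ X) (b : (yon S).obj V ⟶ Y) (h : U ⟶ V) (u : ↥U.left)
    (ha : RepWith @Etale a) (hb : RepWith @Etale b) (hc : a ≫ f = (yon S).map h ≫ b)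
    (hu : Points.ofPt a u = x) : IsFlatAtMor f x ↔ (h.left.stalkMap u).hom.Flat :=
  ⟨fun hx => hx a b h u ha hb hc hu, isFlatAtMor_of_chart f x a b h u ha hb hc hu⟩

theorem locP_flat_iff_forall {X Y : Sp S} (f : X ⟶ Y) :
    LocP @Flat f ↔ ∀ x : Points X, IsFlatAtMor f x := by
  constructor
  · intro hf x U V a b h u ha hb hc _
    haveI : Flat h.left := hf a b h ha hb hc
    exact Flat.stalkMap h.left u
  · intro hf U V a b h ha hb hc
    change Flat h.left
    rw [Flat.iff_flat_stalkMap]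
    intro u
    exact hf (Points.ofPt a u) a b h u ha hb hc rfl

theorem isOpen_flatLocus {X Y : Sp S} (hX : IsAlgSpace X) (hY : IsAlgSpace Y) (f : X ⟶ Y)
    (hf : LocP @LocallyOfFinitePresentation f) :
    IsOpen {x : Points X | IsFlatAtMor f x} := by
  rw [isOpen_iff_forall_mem_open]
  intro x hx
  obtain ⟨U, V, a, b, h, u, hae, hbe, hc, hu⟩ := LocPFam.exists_chart_at_point hX hY f x
  haveI : LocallyOfFinitePresentation h.left := hf a b h hae hbe hc
  have hopen := Groth.Agent.Lib.helper3.FlatDesc.isOpen_flatLocus_of_locallyOfFinitePresentation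
    h.left
  refine ⟨Points.ofPt a '' {u1 : U.left | (h.left.stalkMap u1).hom.Flat}, ?_,
    Groth.Agent.Lib.helper11.isOpenMap_ofPt a hae _ hopen, ⟨u, ?_, hu⟩⟩
  · rintro _ ⟨u1, hu1, rfl⟩
    exact isFlatAtMor_of_chart f _ a b h u1 hae hbe hc rfl hu1
  · exact (isFlatAtMor_iff_chart f x a b h u hae hbe hc hu).mp hx

theorem flatLocus_baseChange {X Y Z X' Y' Z' : Sp S} (hX : IsAlgSpace X) (hY : IsAlgSpace Y)
    (hZ : IsAlgSpace Z) (hZ' : IsAlgSpace Z')
    {f : X ⟶ Y} {q : Y ⟶ Z} {g : Z' ⟶ Z} {gY : Y' ⟶ Y} {q' : Y' ⟶ Z'} {gX : X' ⟶ X} {f' : X' ⟶ Y'}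
    (hfp : LocP @LocallyOfFinitePresentation (f ≫ q)) (hfl : LocP @Flat (f ≫ q))
    (hft : LocP @LocallyOfFiniteType q)
    (sq1 : IsPullback gY q' q g) (sq2 : IsPullback gX f' f gY) :
    {x' : Points X' | IsFlatAtMor f' x'} = Points.map gX ⁻¹' {x : Points X | IsFlatAtMor f x} := by
  ext x'
  obtain ⟨U, V, W, U', V', W', a, b, c, a', b', c', h1, h2, h1', h2', p, k, l, u', hae, hbe, hce,
    hae', hbe', hce', hc1, hc2, hc1', hc2', hcp, hck, hcl, sqU, sqV, hu'⟩ :=
    ChartBC2.exists_bc_tower hX hY hZ hZ' sq1 sq2 x'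
  have hc12 : a ≫ (f ≫ q) = (yon S).map (h1 ≫ h2) ≫ c := by
    rw [← Category.assoc, hc1, Category.assoc, hc2, Functor.map_comp, Category.assoc]
  haveI : LocallyOfFinitePresentation (h1.left ≫ h2.left) := hfp a c (h1 ≫ h2) hae hce hc12
  have hflat : Flat (h1.left ≫ h2.left) := hfl a c (h1 ≫ h2) hae hce hc12
  haveI : LocallyOfFiniteType h2.left := hft b c h2 hbe hce hc2
  have sqUl : IsPullback p.left h1'.left h1.left k.left := sqU.map (Over.forget S)
  have sqVl : IsPullback k.left h2'.left h2.left l.left := sqV.map (Over.forget S)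
  have hx : Points.map gX x' = Points.ofPt a (p.left u') := by
    rw [← hu', Points.map_ofPt, hcp, Groth.Agent.Lib.helper11.ofPt_yon_map_comp]
  have key := Groth.Agent.Lib.helper5.FibCrit.flat_stalkMap_iff_of_isPullback_base h1.left h2.left
    h1'.left h2'.left p.left k.left l.left sqVl sqUl u' (Flat.stalkMap (h1.left ≫ h2.left) _)
  show IsFlatAtMor f' x' ↔ IsFlatAtMor f (Points.map gX x')
  rw [isFlatAtMor_iff_chart f' x' a' b' h1' u' hae' hbe' hc1' hu',
    isFlatAtMor_iff_chart f _ a b h1 (p.left u') hae hbe hc1 hx.symm]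
  exact key

end Groth.Agent.Lib.helper5.AlgSpFlatLocus
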