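/-
helper5: scheme-level lemmas on geometric reducedness of fibres at a point (`helper9.GRPt.GR`), for use with
étale charts of algebraic spaces.

* `GR_of_etale`: étale morphisms are `GR` at every point.
* `GR_comp_etale_right`: `GR` is insensitive to étale morphisms on the target.
* `isReduced_stalk_etale_iff`: reducedness of the local ring is étale local.
* `GR_of_forall_isReduced_pullback`: a criterion for `GR` by reducedness of the base changes of the fibre.
-/
import Mathlib
import Groth.Agent.Lib.Helper9.GRPt7
import Groth.Agent.Lib.Helper9.GRPt10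
import Groth.Agent.Lib.Helper9.GRPt11
import Groth.Agent.Lib.Helper14.FibreH0
import Groth.Agent.Lib.Helper3.StalkBC

set_option autoImplicit false
set_option linter.style.haveILetI false
universe u
open CategoryTheory CategoryTheory.Limits AlgebraicGeometry
open Groth.Agent.Lib.helper9.GRPt

namespace Groth.Agent.Lib.helper5.AlgSpGR

/-- smooth morphisms are geometrically reduced (after helper14) -/
theorem geometricallyReduced_of_smooth {X S : Scheme.{u}} (f : X ⟶ S) [Smooth f] :
    GeometricallyReduced f := by
  refine ⟨fun K _ y Z fst snd h => ?_⟩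
  haveI : Smooth snd := MorphismProperty.of_isPullback (P := @Smooth) h inferInstance
  exact Groth.Agent.Lib.Helper14.FibreH0.isReduced_of_smooth_field K snd

/-- étale morphisms are `GR` at every point -/
theorem GR_of_etale {X Y : Scheme.{u}} (g : X ⟶ Y) [Etale g] (x : X) : GR g x := by
  haveI : GeometricallyReduced g := geometricallyReduced_of_smooth g
  exact GR_of_geometricallyReduced g x

/-- `GR` is insensitive to étale morphisms on the target. -/
theorem GR_comp_etale_right {W T V : Scheme.{u}} (m : W ⟶ T) (k : T ⟶ V) [Etale k] (w : W) :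
    GR (m ≫ k) w ↔ GR m w := by
  have sq : IsPullback (pullback.fst (m ≫ k) k) (pullback.snd (m ≫ k) k) (m ≫ k) k :=
    IsPullback.of_hasPullback _ _
  let σ : W ⟶ pullback (m ≫ k) k := pullback.lift (𝟙 W) m (by simp)
  have hσ1 : σ ≫ pullback.fst (m ≫ k) k = 𝟙 W := pullback.lift_fst _ _ _
  have hσ2 : σ ≫ pullback.snd (m ≫ k) k = m := pullback.lift_snd _ _ _
  haveI hfst : Etale (pullback.fst (m ≫ k) k) :=
    MorphismProperty.of_isPullback (P := @Etale) sq.flip inferInstance
  haveI hσ : Etale σ := by
    have h1 : Etale (σ ≫ pullback.fst (m ≫ k) k) := by rw [hσ1]; infer_instance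
    exact MorphismProperty.of_postcomp (W := @Etale) (W' := @Etale) σ _ hfst h1
  have h1 := GR_iff_of_isPullback sq (σ w)
  have h2 := GR_comp_etale_iff σ (pullback.snd (m ≫ k) k) w
  rw [hσ2] at h2
  have h3 : (pullback.fst (m ≫ k) k) (σ w) = w := by
    rw [← Scheme.Hom.comp_apply, hσ1]; rfl
  rw [h3] at h1
  exact h1.symm.trans h2.symm

/-- Reducedness of the local ring is étale local. -/
theorem isReduced_stalk_etale_iff {V U : Scheme.{u}} (g : V ⟶ U) [Etale g] (v : V) :
    _root_.IsReduced (V.presheaf.stalk v) ↔ _root_.IsReduced (U.presheaf.stalk (g v)) := by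
  constructor
  · intro h
    exact isReduced_of_injective (g.stalkMap v).hom
      (Groth.Agent.Lib.helper3.StalkBC.stalkMap_injective_of_flat g v)
  · intro h
    exact isReduced_stalk_of_GR_of_lfp g v h (GR_of_etale g v)

/-- A criterion for `GR`: all base changes of the fibre to field extensions of the residue field are reduced. -/
theorem GR_of_forall_isReduced_pullback {U V : Scheme.{u}} (h : U ⟶ V) (u : U)
    (H : ∀ (K : Type u) [Field K] [Algebra ↑(V.residueField (h u)) K],
      IsReduced (pullback h (Spec.map (CommRingCat.ofHom (algebraMap ↑(V.residueField (h u)) K)) ≫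
        V.fromSpecResidueField (h u)))) :
    GR h u := by
  intro K _ inst x' _
  letI : Algebra ↑(V.residueField (h u)) K := inst
  haveI := H K
  let e : FBase.bc (h.fiberToSpecResidueField (h u)) K ≅
      pullback h (Spec.map (CommRingCat.ofHom (algebraMap ↑(V.residueField (h u)) K)) ≫
        V.fromSpecResidueField (h u)) :=
    pullbackLeftPullbackSndIso h (V.fromSpecResidueField (h u))
      (Spec.map (CommRingCat.ofHom (algebraMap ↑(V.residueField (h u)) K)))
  haveI : IsReduced (FBase.bc (h.fiberToSpecResidueField (h u)) K) :=
    isReduced_of_isOpenImmersion e.hom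
  infer_instance

end Groth.Agent.Lib.helper5.AlgSpGR
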