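/-
helper5: geometric reducedness of the fibres of a morphism of algebraic spaces at a point, through charts.

* `locPAt_GR_of_hasAtMor`: chart independence of `GR`.
* `isOpen_GR`: for `f` flat and locally of finite presentation the locus of `GR` points is open in `|X|`.
* `exists_etale_chart_bc`: the base change of a chart along a morphism of schemes to the target chart is an étale chart
  of the base change of the sheaf morphism.
-/
import Mathlib
import Groth.Prelude.Def_AlgSpMor5
import Groth.Prelude.Def_AlgSpDec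
import Groth.Agent.Lib.Helper5.AlgSpGR1
import Groth.Agent.Lib.Helper9.GRPt12
import Groth.Agent.Lib.Helper11.AlgSpBasic
import Groth.Agent.Lib.Helper17.LocPAtChart
import Groth.Agent.Lib.Helper5.AlgSpLocPBC

set_option autoImplicit false
set_option linter.style.haveILetI false
universe u
open CategoryTheory CategoryTheory.Limits AlgebraicGeometry
open AlgSp
open Groth.Agent.Lib.helper9.GRPt

namespace Groth.Agent.Lib.helper5.AlgSpGR

variable {S : Scheme.{u}}

/-- Chart independence of `GR`. -/
theorem locPAt_GR_of_hasAtMor {X Y : Sp S} (f : X ⟶ Y) (x : Points X)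
    (hd : HasAtMor (fun _ _ h u => GR h u) f x) :
    LocPAt (fun h u => GR h u) f x := by
  obtain ⟨U, V, a, b, h, u, hae, hbe, hc, hu, hQ⟩ := hd
  refine Groth.Agent.Lib.helper17.LocPAtChart.locPAt_of_chart
    (Q := fun h u => GR h u) ?_ ?_ f x a b h u hae hbe hc hu hQ
  · intro W U V g _ h w
    exact GR_comp_etale_iff g h w
  · intro W T V m k _ w
    exact GR_comp_etale_right m k w

/-- The locus of `GR` points of a flat morphism locally of finite presentation is open. -/
theorem isOpen_GR {X Y : Space S} (f : X ⟶ Y) (hf1 : LocP @Flat f.hom)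
    (hf2 : LocP @LocallyOfFinitePresentation f.hom) :
    IsOpen {x : Points X.obj | HasAtMor (fun _ _ h u => GR h u) f.hom x} := by
  rw [isOpen_iff_forall_mem_open]
  intro x hx
  obtain ⟨U, V, a, b, h, u, hae, hbe, hc, hu, hQ⟩ := hx
  haveI : Flat h.left := hf1 a b h hae hbe hc
  haveI : LocallyOfFinitePresentation h.left := hf2 a b h hae hbe hc
  have hopen : IsOpen {u' : ↥U.left | GR h.left u'} := isOpen_setOf_GR h.left
  refine ⟨Points.ofPt a '' {u' : ↥U.left | GR h.left u'}, ?_,
    Groth.Agent.Lib.helper11.isOpenMap_ofPt a hae _ hopen, ⟨u, hQ, hu⟩⟩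
  rintro _ ⟨u', hu', rfl⟩
  exact ⟨U, V, a, b, h, u', hae, hbe, hc, rfl, hu'⟩

/-- The base change of a chart along `w : T ⟶ W` is an étale chart of the base change of `φ` along `h_w ≫ c`. -/
theorem exists_etale_chart_bc {X Z : Sp S} (φ : X ⟶ Z) {U W T : Over S}
    (a : (yon S).obj U ⟶ X) (c : (yon S).obj W ⟶ Z) (h : U ⟶ W)
    (hc : a ≫ φ = (yon S).map h ≫ c)
    (he : RepWith @Etale (pullback.lift a ((yon S).map h) hc : (yon S).obj U ⟶ pullback φ c))
    (w : T ⟶ W) {Q : Sp S} (q1 : Q ⟶ X) (q2 : Q ⟶ (yon S).obj T)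
    (sqQ : IsPullback q1 q2 φ ((yon S).map w ≫ c)) :
    ∃ j : (yon S).obj (pullback h w) ⟶ Q, RepWith @Etale j ∧
      j ≫ q1 = (yon S).map (pullback.fst h w) ≫ a ∧ j ≫ q2 = (yon S).map (pullback.snd h w) := by
  have sqP : IsPullback (pullback.fst h w) (pullback.snd h w) h w := IsPullback.of_hasPullback _ _
  have sqPy := sqP.map (yon S)
  have sqXW : IsPullback (pullback.fst φ c) (pullback.snd φ c) φ c := IsPullback.of_hasPullback _ _
  have ht : q1 ≫ φ = (q2 ≫ (yon S).map w) ≫ c := by
    rw [sqQ.w, Category.assoc]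
  let t : Q ⟶ pullback φ c := pullback.lift _ _ ht
  have ht1 : t ≫ pullback.fst φ c = q1 := pullback.lift_fst _ _ _
  have ht2 : t ≫ pullback.snd φ c = q2 ≫ (yon S).map w := pullback.lift_snd _ _ _
  have sqT : IsPullback t q2 (pullback.snd φ c) ((yon S).map w) := by
    refine IsPullback.of_right ?_ ht2 sqXW
    rw [ht1]
    exact sqQ
  have hj : ((yon S).map (pullback.fst h w) ≫ a) ≫ φ =
      (yon S).map (pullback.snd h w) ≫ ((yon S).map w ≫ c) := by
    rw [Category.assoc, hc, ← Category.assoc, sqPy.w, Category.assoc]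
  let j : (yon S).obj (pullback h w) ⟶ Q := sqQ.lift _ _ hj
  have hj1 : j ≫ q1 = (yon S).map (pullback.fst h w) ≫ a := sqQ.lift_fst _ _ _
  have hj2 : j ≫ q2 = (yon S).map (pullback.snd h w) := sqQ.lift_snd _ _ _
  have hcomm : (yon S).map (pullback.fst h w) ≫ pullback.lift a ((yon S).map h) hc = j ≫ t := by
    apply pullback.hom_ext
    · rw [Category.assoc, pullback.lift_fst, Category.assoc, ht1, hj1]
    · rw [Category.assoc, pullback.lift_snd, Category.assoc, ht2, ← Category.assoc, hj2]
      exact sqPy.w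
  have sqJ : IsPullback ((yon S).map (pullback.fst h w)) j
      (pullback.lift a ((yon S).map h) hc) t := by
    refine IsPullback.of_bot ?_ hcomm sqT
    rw [hj2, pullback.lift_snd]
    exact sqPy
  exact ⟨j, (repWith_isStableUnderBaseChange (S := S) @Etale).of_isPullback sqJ he, hj1, hj2⟩

/-- The comparison `h_U ⟶ X ×_Y h_V` of a chart diagram is representable étale. -/
theorem repWith_etale_lift {X Y : Sp S} (f : X ⟶ Y) {U V : Over S}
    (a : (yon S).obj U ⟶ X) (b : (yon S).obj V ⟶ Y) (h : U ⟶ V)
    (hae : RepWith @Etale a) (hbe : RepWith @Etale b) (hc : a ≫ f = (yon S).map h ≫ b) :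
    RepWith @Etale (pullback.lift a ((yon S).map h) hc : (yon S).obj U ⟶ pullback f b) := by
  have sqF : IsPullback (pullback.fst f b) (pullback.snd f b) f b := IsPullback.of_hasPullback _ _
  have hfe : RepWith @Etale (pullback.fst f b) :=
    (RepWith (S := S) @Etale).of_isPullback sqF.flip hbe
  refine Groth.Agent.Lib.helper5.LocPBC.repWith_etale_of_comp _ (pullback.fst f b) hfe ?_
  rw [pullback.lift_fst]
  exact hae

end Groth.Agent.Lib.helper5.AlgSpGR
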