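/-
helper5: geometric reducedness of the fibres of a morphism of algebraic spaces: fibres (pullbacks in fppf sheaves)
versus `GR` points.

* `hasAtMor_GR_of_fibres_reduced`: if all base changes of the fibre through `f x` are reduced then `x` is a `GR` point.
* `etaleLocally_reduced_of_forall_GR`: if all points over `y` are `GR` points then every base change of the fibre over
  `y` is reduced.
-/
import Mathlib
import Groth.Agent.Lib.Helper5.AlgSpGR2
import Groth.Agent.Lib.Helper5.AlgSpLocPFam
import Groth.Agent.Lib.Helper5.AlgSpChartInd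
import Groth.Agent.Lib.Helper5.AlgSpFibreProduct
import Groth.Agent.Lib.Helper1.EtaleReducedScheme
import Groth.Agent.Lib.Helper17.ChartBC
import Groth.Agent.Lib.Helper10.AlgSpPoints

set_option autoImplicit false
set_option linter.style.haveILetI false
universe u
open CategoryTheory CategoryTheory.Limits AlgebraicGeometry
open AlgSp
open Groth.Agent.Lib.helper9.GRPt

namespace Groth.Agent.Lib.helper5.AlgSpGR

variable {S : Scheme.{u}}

/-- If all base changes of the fibre through `f x` are reduced then `x` is a `GR` point. -/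
theorem hasAtMor_GR_of_fibres_reduced {X Y : Space S} (f : X ⟶ Y) (x : Points X.obj)
    (H : ∀ (k : FieldPt Y.obj), Points.mk k = Points.map f.hom x →
        ∀ (k' : Type u) [Field k'] (φ : k.K →+* k') (Xk' : Sp S) (a : Xk' ⟶ X.obj)
          (b : Xk' ⟶ (yon S).obj (Over.mk (Spec.map (CommRingCat.ofHom φ) ≫ k.str))),
          IsPullback a b f.hom ((yon S).map (Over.homMk (Spec.map (CommRingCat.ofHom φ)) rfl :
            Over.mk (Spec.map (CommRingCat.ofHom φ) ≫ k.str) ⟶ k.pt) ≫ k.toHom) →
          EtaleLocally (fun U => IsReduced U) Xk') :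
    HasAtMor (fun _ _ h u => GR h u) f.hom x := by
  obtain ⟨U, V, a, b, h, u, hae, hbe, hc, hu⟩ :=
    Groth.Agent.Lib.helper5.LocPFam.exists_chart_at_point X.property Y.property f.hom x
  refine ⟨U, V, a, b, h, u, hae, hbe, hc, hu, ?_⟩
  show GR h.left u
  apply GR_of_forall_isReduced_pullback
  intro K _ _
  have hkx : Points.mk (FieldPt.ofPt b (h.left u)) = Points.map f.hom x := by
    show Points.ofPt b (h.left u) = _
    rw [← hu, Points.map_ofPt, hc, Groth.Agent.Lib.helper11.ofPt_yon_map_comp]
  let φK : (FieldPt.ofPt b (h.left u)).K →+* K := algebraMap ↑(V.left.residueField (h.left u)) K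
  let T : Over S := Over.mk (Spec.map (CommRingCat.ofHom φK) ≫ (FieldPt.ofPt b (h.left u)).str)
  let m : T ⟶ (FieldPt.ofPt b (h.left u)).pt := Over.homMk (Spec.map (CommRingCat.ofHom φK)) rfl
  let ι : (FieldPt.ofPt b (h.left u)).pt ⟶ V :=
    Over.homMk (V.left.fromSpecResidueField (h.left u)) rfl
  let w : T ⟶ V := m ≫ ι
  have h1 : (FieldPt.ofPt b (h.left u)).toHom = (yon S).map ι ≫ b := FieldPt.toHom_ofPt b (h.left u)
  have hg : (yon S).map m ≫ (FieldPt.ofPt b (h.left u)).toHom = (yon S).map w ≫ b := by
    rw [h1, ← Category.assoc, ← Functor.map_comp]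
  have sqQ : IsPullback (pullback.fst f.hom ((yon S).map m ≫ (FieldPt.ofPt b (h.left u)).toHom))
      (pullback.snd f.hom ((yon S).map m ≫ (FieldPt.ofPt b (h.left u)).toHom)) f.hom
      ((yon S).map m ≫ (FieldPt.ofPt b (h.left u)).toHom) :=
    IsPullback.of_hasPullback _ _
  have hQred := H (FieldPt.ofPt b (h.left u)) hkx K φK _ _ _ sqQ
  have sqQ' : IsPullback (pullback.fst f.hom ((yon S).map m ≫ (FieldPt.ofPt b (h.left u)).toHom))
      (pullback.snd f.hom ((yon S).map m ≫ (FieldPt.ofPt b (h.left u)).toHom)) f.hom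
      ((yon S).map w ≫ b) := by
    rw [← hg]; exact sqQ
  obtain ⟨j, hje, -, -⟩ := exists_etale_chart_bc f.hom a b h hc
    (repWith_etale_lift f.hom a b h hae hbe hc) w _ _ sqQ'
  haveI hred : IsReduced (pullback h w).left :=
    Groth.Agent.H1.EtaleReduced.isReduced_of_chart hQred j hje
  have sqP : IsPullback (pullback.fst h w).left (pullback.snd h w).left h.left w.left :=
    (IsPullback.of_hasPullback h w).map (Over.forget S)
  have hred' : IsReduced (pullback h.left w.left) := isReduced_of_isOpenImmersion sqP.isoPullback.inv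
  exact hred'

/-- If all points over `y` are `GR` points then every base change of the fibre over `y` is reduced. -/
theorem etaleLocally_reduced_of_forall_GR {X Y : Space S} (f : X ⟶ Y) (hf1 : LocP @Flat f.hom)
    (hf2 : LocP @LocallyOfFinitePresentation f.hom) (y : Points Y.obj)
    (hG : ∀ x, Points.map f.hom x = y → HasAtMor (fun _ _ h u => GR h u) f.hom x)
    (k : FieldPt Y.obj) (hk : Points.mk k = y) (k' : Type u) [Field k'] (φ : k.K →+* k') (Xk' : Sp S)
    (a : Xk' ⟶ X.obj) (b : Xk' ⟶ (yon S).obj (Over.mk (Spec.map (CommRingCat.ofHom φ) ≫ k.str)))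
    (sq : IsPullback a b f.hom ((yon S).map (Over.homMk (Spec.map (CommRingCat.ofHom φ)) rfl :
            Over.mk (Spec.map (CommRingCat.ofHom φ) ≫ k.str) ⟶ k.pt) ≫ k.toHom)) :
    EtaleLocally (fun U => IsReduced U) Xk' := by
  have hXk : IsAlgSpace Xk' :=
    Groth.Agent.Lib.helper5.isAlgSpace_of_isPullback Y.property.diag X.property
      (IsAlgSpace.yon_obj _) sq
  obtain ⟨U', a', ha'e, ha's⟩ := hXk.atlas
  refine ⟨U', a', ha'e, ha's, ?_⟩
  show IsReduced U'.left
  haveI : ∀ u' : ↥U'.left, _root_.IsReduced (U'.left.presheaf.stalk u') := by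
    intro u'
    set z := Points.ofPt a' u' with hz
    obtain ⟨U, V, U'', V'', aU, bV, a'', b'', h₁, h'', p, kk, u'', hae, hbe, hae'', hbe'', hc, hc'',
        hcg', hcg, sqS, hu'', -⟩ :=
      Groth.Agent.Lib.helper17.ChartBC.exists_bc_charts X.property Y.property
        (IsAlgSpace.yon_obj _) sq z
    haveI : Flat h₁.left := hf1 aU bV h₁ hae hbe hc
    haveI : LocallyOfFinitePresentation h₁.left := hf2 aU bV h₁ hae hbe hc
    have sqL : IsPullback p.left h''.left h₁.left kk.left := sqS.map (Over.forget S)
    haveI : Flat h''.left := MorphismProperty.of_isPullback (P := @Flat) sqL inferInstance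
    haveI : LocallyOfFinitePresentation h''.left :=
      MorphismProperty.of_isPullback (P := @LocallyOfFinitePresentation) sqL inferInstance
    -- the image point lies over `y`
    have hx : Points.map f.hom (Points.map a z) = y := by
      rw [← Points.map_comp, sq.w, Points.map_comp, Points.map_comp,
        ← Points.ofScheme_toScheme _ (Points.map b z), ← Points.ofPt_eq_map_ofScheme,
        Groth.Agent.Lib.helper11.ofPt_yon_map, Groth.Agent.Lib.helper10.map_toHom_ofScheme, hk]
    have hpt : Points.ofPt aU (p.left u'') = Points.map a z := by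
      rw [← hu'', Points.map_ofPt, hcg', Groth.Agent.Lib.helper11.ofPt_yon_map_comp]
    have hGx : GR h₁.left (p.left u'') :=
      locPAt_GR_of_hasAtMor f.hom (Points.map a z) (hG _ hx) aU bV h₁ (p.left u'') hae hbe hc hpt
    have hGR' : GR h''.left u'' := (GR_iff_of_isPullback sqL u'').mpr hGx
    -- `V''` is étale over a field, hence reduced
    obtain ⟨β, hβ⟩ := (yon S).map_surjective b''
    haveI hβe : Etale β.left := by
      rw [← hβ] at hbe''
      exact (repWith_yon_map_iff @Etale β).1 hbe''
    haveI : IsReduced (Over.mk (Spec.map (CommRingCat.ofHom φ) ≫ k.str)).left :=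
      (inferInstance : IsReduced (Spec (CommRingCat.of k')))
    haveI : IsReduced V''.left := Groth.Agent.H1.EtaleReduced.isReduced_of_etale β.left
    have hst : _root_.IsReduced (U''.left.presheaf.stalk u'') :=
      isReduced_stalk_of_GR_of_lfp h''.left u'' inferInstance hGR'
    have hat : HasAt (fun U u => _root_.IsReduced (U.presheaf.stalk u)) Xk' z :=
      ⟨U'', a'', u'', hae'', hu'', hst⟩
    exact (Groth.Agent.Lib.helper5.ChartInd.hasAt_iff_forall
      (Q := fun U u => _root_.IsReduced (U.presheaf.stalk u))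
      (fun {V U} g _ v => Groth.Agent.Lib.helper5.ChartInd.isReduced_stalk_iff_of_etale g v)
      (⟨Xk', hXk⟩ : Space S) z).1 hat U' a' u' ha'e rfl
  exact isReduced_of_isReduced_stalk _

end Groth.Agent.Lib.helper5.AlgSpGR
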