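/-
helper5: geometric reducedness of the fibres of a morphism of algebraic spaces, without flatness.

* `flat_of_etale_field`: any morphism to a scheme étale over a field is flat.
* `etaleLocally_reduced_of_forall_GR'`: if all points over `y` are `GR` points then every base change of the fibre over
  `y` is reduced (`f` locally of finite presentation; no flatness).
-/
import Mathlib
import Groth.Agent.Lib.Helper5.AlgSpGR3
import Groth.Agent.Lib.Helper17.EtaleStalk

set_option autoImplicit false
set_option linter.style.haveILetI false
universe u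
open CategoryTheory CategoryTheory.Limits AlgebraicGeometry
open AlgSp
open Groth.Agent.Lib.helper9.GRPt

namespace Groth.Agent.Lib.helper5.AlgSpGR

/-- any morphism to a scheme étale over a field is flat -/
theorem flat_of_etale_field (k : Type u) [Field k] {U V : Scheme.{u}} (β : V ⟶ Spec (CommRingCat.of k))
    [Etale β] (h : U ⟶ V) : Flat h := by
  rw [Flat.iff_flat_stalkMap]
  intro x
  exact Groth.Agent.Lib.helper17.EtaleStalk.flat_stalkMap_of_isField h x
    (Groth.Agent.Lib.helper17.EtaleStalk.isField_stalk_of_etale_field k β (h x))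

variable {S : Scheme.{u}}

/-- If all points over `y` are `GR` points then every base change of the fibre over `y` is reduced (no flatness). -/
theorem etaleLocally_reduced_of_forall_GR' {X Y : Space S} (f : X ⟶ Y)
    (hf2 : LocP @LocallyOfFinitePresentation f.hom) (y : Points Y.obj)
    (hG : ∀ x, Points.map f.hom x = y → HasAtMor (fun _ _ h u => GR h u) f.hom x)
    (k : FieldPt Y.obj) (hk : Points.mk k = y) (k' : Type u) [Field k'] (φ : k.K →+* k') (Xk' : Sp S)
    (a : Xk' ⟶ X.obj) (b : Xk' ⟶ (yon S).obj (Over.mk (Spec.map (CommRingCat.ofHom φ) ≫ k.str)))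
    (sq : IsPullback a b f.hom ((yon S).map (Over.homMk (Spec.map (CommRingCat.ofHom φ)) rfl :
            Over.mk (Spec.map (CommRingCat.ofHom φ) ≫ k.str) ⟶ k.pt) ≫ k.toHom)) :
    EtaleLocally (fun U => IsReduced U) Xk' := by
  have hXk : IsAlgSpace Xk' :=
    Groth.Agent.Lib.helper5.isAlgSpace_of_isPullback Y.property.diag X.property
      (IsAlgSpace.yon_obj _) sq
  obtain ⟨U', a', ha'e, ha's⟩ := hXk.atlas
  refine ⟨U', a', ha'e, ha's, ?_⟩
  show IsReduced U'.left
  haveI : ∀ u' : ↥U'.left, _root_.IsReduced (U'.left.presheaf.stalk u') := by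
    intro u'
    obtain ⟨U, V, U'', V'', aU, bV, a'', b'', h₁, h'', p, kk, u'', hae, hbe, hae'', hbe'', hc, hc'',
        hcg', hcg, sqS, hu'', -⟩ :=
      Groth.Agent.Lib.helper17.ChartBC.exists_bc_charts X.property Y.property
        (IsAlgSpace.yon_obj _) sq (Points.ofPt a' u')
    haveI : LocallyOfFinitePresentation h₁.left := hf2 aU bV h₁ hae hbe hc
    have sqL : IsPullback p.left h''.left h₁.left kk.left := sqS.map (Over.forget S)
    haveI : LocallyOfFinitePresentation h''.left :=
      MorphismProperty.of_isPullback (P := @LocallyOfFinitePresentation) sqL inferInstance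
    -- the image point lies over `y`
    have hx : Points.map f.hom (Points.map a (Points.ofPt a' u')) = y := by
      rw [← Points.map_comp, sq.w, Points.map_comp, Points.map_comp,
        ← Points.ofScheme_toScheme _ (Points.map b (Points.ofPt a' u')), ← Points.ofPt_eq_map_ofScheme,
        Groth.Agent.Lib.helper11.ofPt_yon_map, Groth.Agent.Lib.helper10.map_toHom_ofScheme, hk]
    have hpt : Points.ofPt aU (p.left u'') = Points.map a (Points.ofPt a' u') := by
      rw [← hu'', Points.map_ofPt, hcg', Groth.Agent.Lib.helper11.ofPt_yon_map_comp]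
    have hGx : GR h₁.left (p.left u'') :=
      locPAt_GR_of_hasAtMor f.hom (Points.map a (Points.ofPt a' u')) (hG _ hx) aU bV h₁ (p.left u'')
        hae hbe hc hpt
    have hGR' : GR h''.left u'' := (GR_iff_of_isPullback sqL u'').mpr hGx
    -- `V''` is étale over a field, hence reduced and every morphism to it is flat
    obtain ⟨β, hβ⟩ := (yon S).map_surjective b''
    haveI hβe : Etale β.left := by
      rw [← hβ] at hbe''
      exact (repWith_yon_map_iff @Etale β).1 hbe''
    haveI : IsReduced (Over.mk (Spec.map (CommRingCat.ofHom φ) ≫ k.str)).left :=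
      (inferInstance : IsReduced (Spec (CommRingCat.of k')))
    haveI : IsReduced V''.left := Groth.Agent.H1.EtaleReduced.isReduced_of_etale β.left
    haveI : Flat h''.left := flat_of_etale_field k' (V := V''.left) β.left h''.left
    have hst : _root_.IsReduced (U''.left.presheaf.stalk u'') :=
      isReduced_stalk_of_GR_of_lfp h''.left u'' inferInstance hGR'
    have hat : HasAt (fun U u => _root_.IsReduced (U.presheaf.stalk u)) Xk' (Points.ofPt a' u') :=
      ⟨U'', a'', u'', hae'', hu'', hst⟩
    exact (Groth.Agent.Lib.helper5.ChartInd.hasAt_iff_forall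
      (Q := fun U u => _root_.IsReduced (U.presheaf.stalk u))
      (fun {V U} g _ v => Groth.Agent.Lib.helper5.ChartInd.isReduced_stalk_iff_of_etale g v)
      (⟨Xk', hXk⟩ : Space S) (Points.ofPt a' u')).1 hat U' a' u' ha'e rfl
  exact isReduced_of_isReduced_stalk _

end Groth.Agent.Lib.helper5.AlgSpGR
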