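/-
helper5: reducedness of fibres of a morphism of algebraic spaces and change of the field point (no hypotheses on `f`).

* `Red f t`: every pullback of `f` along `t : h_T ⟶ Y` is reduced.
* `red_of_flat_surjective`: `Red` descends along flat surjective `T' ⟶ T`.
* `exists_common`: two field points in the same class agree over a common field (morphism form).
* `exists_compositum`: a common extension of two field extensions.
* `red_of_red_of_mk_eq`: geometric reducedness for one field point of a class gives it for every other.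
-/
import Mathlib
import Groth.Agent.Lib.Helper5.AlgSpGR2
import Groth.Agent.Lib.Helper5.AlgSpFibreProduct
import Groth.Agent.Lib.Helper1.EtaleReducedScheme
import Groth.Agent.Lib.Helper10.AlgSpPoints

set_option autoImplicit false
set_option linter.style.haveILetI false
universe u
open CategoryTheory CategoryTheory.Limits AlgebraicGeometry
open AlgSp

namespace Groth.Agent.Lib.helper5.AlgSpGR

variable {S : Scheme.{u}}

/-- every pullback of `f` along `t` is reduced -/
def Red {X Y : Sp S} (f : X ⟶ Y) {T : Over S} (t : (yon S).obj T ⟶ Y) : Prop :=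
  ∀ (Q : Sp S) (a : Q ⟶ X) (b : Q ⟶ (yon S).obj T), IsPullback a b f t →
    EtaleLocally (fun U => IsReduced U) Q

/-- `Red` descends along flat surjective morphisms of test schemes. -/
theorem red_of_flat_surjective {X Y : Space S} (f : X ⟶ Y) {T T' : Over S} (t : (yon S).obj T ⟶ Y.obj)
    (m : T' ⟶ T) [Flat m.left] [Surjective m.left] (h : Red f.hom ((yon S).map m ≫ t)) :
    Red f.hom t := by
  intro Q a b sq
  have hQ : IsAlgSpace Q :=
    Groth.Agent.Lib.helper5.isAlgSpace_of_isPullback Y.property.diag X.property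
      (IsAlgSpace.yon_obj _) sq
  have sq' : IsPullback (pullback.fst b ((yon S).map m)) (pullback.snd b ((yon S).map m)) b
      ((yon S).map m) := IsPullback.of_hasPullback _ _
  have hQ' : EtaleLocally (fun U => IsReduced U) (pullback b ((yon S).map m)) :=
    h _ _ _ (sq'.paste_horiz sq)
  obtain ⟨U, p, hpe, hps⟩ := hQ.atlas
  refine ⟨U, p, hpe, hps, ?_⟩
  show IsReduced U.left
  obtain ⟨h₀, hh₀⟩ := (yon S).map_surjective (p ≫ b)
  have hc : p ≫ b = (yon S).map h₀ ≫ 𝟙 _ := by rw [Category.comp_id, hh₀]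
  have hide : RepWith @Etale (𝟙 ((yon S).obj T)) := repWith_id @Etale _
  have sq'' : IsPullback (pullback.fst b ((yon S).map m)) (pullback.snd b ((yon S).map m)) b
      ((yon S).map m ≫ 𝟙 _) := by rw [Category.comp_id]; exact sq'
  obtain ⟨j, hje, -, -⟩ := exists_etale_chart_bc b p (𝟙 _) h₀ hc
    (repWith_etale_lift b p (𝟙 _) h₀ hpe hide hc) m _ _ sq''
  haveI hred : IsReduced (pullback h₀ m).left :=
    Groth.Agent.H1.EtaleReduced.isReduced_of_chart hQ' j hje
  have sqP : IsPullback (pullback.fst h₀ m).left (pullback.snd h₀ m).left h₀.left m.left :=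
    (IsPullback.of_hasPullback h₀ m).map (Over.forget S)
  haveI : Flat (pullback.fst h₀ m).left :=
    MorphismProperty.of_isPullback (P := @Flat) sqP.flip inferInstance
  haveI : Surjective (pullback.fst h₀ m).left :=
    MorphismProperty.of_isPullback (P := @Surjective) sqP.flip inferInstance
  exact Groth.Agent.S10366.isReduced_of_flat_surjective (pullback.fst h₀ m).left

/-- Two field points in the same class agree over a common field (morphism form). -/
theorem exists_common {F : Sp S} (p q : FieldPt F) (h : Points.mk p = Points.mk q) :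
    ∃ (Ω : Type u) (_ : Field Ω) (w : Spec (CommRingCat.of Ω) ⟶ S)
      (a : Over.mk w ⟶ p.pt) (b : Over.mk w ⟶ q.pt),
      (yon S).map a ≫ p.toHom = (yon S).map b ≫ q.toHom := by
  obtain ⟨Ω, hΩ, w, a, b, hab⟩ := Points.mk_eq_mk_iff.mp h
  refine ⟨Ω, hΩ, w, a, b, ?_⟩
  apply (AlgSp.J S).uliftYonedaEquiv.injective
  rw [← GrothendieckTopology.uliftYonedaEquiv_naturality,
    ← GrothendieckTopology.uliftYonedaEquiv_naturality, FieldPt.uliftYonedaEquiv_toHom,
    FieldPt.uliftYonedaEquiv_toHom]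
  exact hab

/-- a common extension of two field extensions of a field -/
theorem exists_compositum (K A B : Type u) [Field K] [Field A] [Field B] (α : K →+* A) (β : K →+* B) :
    ∃ (Ω : Type u) (_ : Field Ω) (a : A →+* Ω) (b : B →+* Ω), a.comp α = b.comp β := by
  letI := α.toAlgebra
  letI := β.toAlgebra
  obtain ⟨M, hM⟩ := Ideal.exists_maximal (TensorProduct K A B)
  letI : Field (TensorProduct K A B ⧸ M) := Ideal.Quotient.field M
  refine ⟨TensorProduct K A B ⧸ M, inferInstance,
    (Ideal.Quotient.mk M).comp (Algebra.TensorProduct.includeLeft (R := K) (S := K) (A := A) (B := B)).toRingHom,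
    (Ideal.Quotient.mk M).comp (Algebra.TensorProduct.includeRight (R := K) (A := A) (B := B)).toRingHom, ?_⟩
  ext x
  simp only [RingHom.coe_comp, Function.comp_apply, AlgHom.toRingHom_eq_coe, RingHom.coe_coe,
    Algebra.TensorProduct.includeLeft_apply, Algebra.TensorProduct.includeRight_apply]
  congr 1
  show (α x) ⊗ₜ[K] (1 : B) = (1 : A) ⊗ₜ[K] (β x)
  rw [show α x = x • (1 : A) from (Algebra.algebraMap_eq_smul_one x),
    show β x = x • (1 : B) from (Algebra.algebraMap_eq_smul_one x), TensorProduct.smul_tmul]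


theorem flat_of_fields {k' Ω : Type u} [Field k'] [Field Ω]
    (f : Spec (CommRingCat.of Ω) ⟶ Spec (CommRingCat.of k')) : Flat f := by
  obtain ⟨φ, rfl⟩ := Spec.map_surjective f
  rw [HasRingHomProperty.Spec_iff (P := @Flat)]
  let _ : Algebra k' Ω := φ.hom.toAlgebra
  exact (inferInstance : Module.Flat k' Ω)

theorem surjective_of_fields {k' Ω : Type u} [Field k'] [Field Ω]
    (f : Spec (CommRingCat.of Ω) ⟶ Spec (CommRingCat.of k')) : Surjective f := by
  have : Subsingleton ↥(Spec (CommRingCat.of k')) :=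
    inferInstanceAs (Subsingleton (PrimeSpectrum k'))
  exact ⟨fun y => ⟨(IsLocalRing.closedPoint Ω : ↥(Spec (CommRingCat.of Ω))),
    @Subsingleton.elim ↥(Spec (CommRingCat.of k')) this _ _⟩⟩

/-- geometric reducedness for one field point of a class gives it for every other -/
theorem red_of_mk_eq {X Y : Space S} (f : X ⟶ Y) (k₀ k₁ : FieldPt Y.obj)
    (h : Points.mk k₀ = Points.mk k₁)
    (H : ∀ (k' : Type u) [Field k'] (φ : k₀.K →+* k'),
      Red f.hom ((yon S).map (Over.homMk (Spec.map (CommRingCat.ofHom φ)) rfl :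
        Over.mk (Spec.map (CommRingCat.ofHom φ) ≫ k₀.str) ⟶ k₀.pt) ≫ k₀.toHom))
    (k' : Type u) [Field k'] (φ₁ : k₁.K →+* k') :
    Red f.hom ((yon S).map (Over.homMk (Spec.map (CommRingCat.ofHom φ₁)) rfl :
        Over.mk (Spec.map (CommRingCat.ofHom φ₁) ≫ k₁.str) ⟶ k₁.pt) ≫ k₁.toHom) := by
  obtain ⟨Ω, _, w, α, β, hαβ⟩ := exists_common k₀ k₁ h
  obtain ⟨αr, hαr⟩ : ∃ r : k₀.K →+* Ω, Spec.map (CommRingCat.ofHom r) = α.left :=
    ⟨(Spec.preimage α.left).hom, by simp⟩
  obtain ⟨βr, hβr⟩ : ∃ r : k₁.K →+* Ω, Spec.map (CommRingCat.ofHom r) = β.left :=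
    ⟨(Spec.preimage β.left).hom, by simp⟩
  obtain ⟨Ω', _, ψΩ, ψ', hψ⟩ := exists_compositum k₁.K Ω k' βr φ₁
  have H0 := H Ω' (ψΩ.comp αr)
  have hwα : α.left ≫ k₀.str = w := Over.w α
  have hwβ : β.left ≫ k₁.str = w := Over.w β
  have h0 : Spec.map (CommRingCat.ofHom (ψΩ.comp αr)) =
      Spec.map (CommRingCat.ofHom ψΩ) ≫ α.left := by
    rw [← hαr, ← Spec.map_comp]; rfl
  have h1 : Spec.map (CommRingCat.ofHom ψ') ≫ Spec.map (CommRingCat.ofHom φ₁) =
      Spec.map (CommRingCat.ofHom ψΩ) ≫ β.left := by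
    rw [← hβr, ← Spec.map_comp, ← Spec.map_comp, ← CommRingCat.ofHom_comp, ← CommRingCat.ofHom_comp, hψ]
  have hm : Spec.map (CommRingCat.ofHom ψ') ≫ (Spec.map (CommRingCat.ofHom φ₁) ≫ k₁.str) =
      Spec.map (CommRingCat.ofHom (ψΩ.comp αr)) ≫ k₀.str := by
    rw [← Category.assoc, h1, h0, Category.assoc, Category.assoc, hwα, hwβ]
  have hn : Spec.map (CommRingCat.ofHom ψΩ) ≫ w =
      Spec.map (CommRingCat.ofHom (ψΩ.comp αr)) ≫ k₀.str := by
    rw [h0, Category.assoc, hwα]
  let m : Over.mk (Spec.map (CommRingCat.ofHom (ψΩ.comp αr)) ≫ k₀.str) ⟶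
      Over.mk (Spec.map (CommRingCat.ofHom φ₁) ≫ k₁.str) :=
    Over.homMk (Spec.map (CommRingCat.ofHom ψ')) hm
  let n : Over.mk (Spec.map (CommRingCat.ofHom (ψΩ.comp αr)) ≫ k₀.str) ⟶ Over.mk w :=
    Over.homMk (Spec.map (CommRingCat.ofHom ψΩ)) hn
  haveI : Flat m.left := flat_of_fields (Spec.map (CommRingCat.ofHom ψ'))
  haveI : Surjective m.left := surjective_of_fields (Spec.map (CommRingCat.ofHom ψ'))
  refine red_of_flat_surjective f _ m ?_
  have e1 : (Over.homMk (Spec.map (CommRingCat.ofHom (ψΩ.comp αr))) rfl :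
      Over.mk (Spec.map (CommRingCat.ofHom (ψΩ.comp αr)) ≫ k₀.str) ⟶ k₀.pt) = n ≫ α := by
    apply Over.OverMorphism.ext
    exact h0
  have e2 : m ≫ (Over.homMk (Spec.map (CommRingCat.ofHom φ₁)) rfl :
      Over.mk (Spec.map (CommRingCat.ofHom φ₁) ≫ k₁.str) ⟶ k₁.pt) = n ≫ β := by
    apply Over.OverMorphism.ext
    exact h1
  have heq : (yon S).map m ≫ ((yon S).map (Over.homMk (Spec.map (CommRingCat.ofHom φ₁)) rfl :
        Over.mk (Spec.map (CommRingCat.ofHom φ₁) ≫ k₁.str) ⟶ k₁.pt) ≫ k₁.toHom) =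
      (yon S).map (Over.homMk (Spec.map (CommRingCat.ofHom (ψΩ.comp αr))) rfl :
        Over.mk (Spec.map (CommRingCat.ofHom (ψΩ.comp αr)) ≫ k₀.str) ⟶ k₀.pt) ≫ k₀.toHom := by
    rw [← Category.assoc, ← Functor.map_comp, e2, e1, Functor.map_comp, Functor.map_comp,
      Category.assoc, Category.assoc, hαβ]
  rw [heq]
  exact H0

end Groth.Agent.Lib.helper5.AlgSpGR
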