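import Groth.Prelude.Def_AlgSpGpd

/-!
# The shear isomorphism of a groupoid in sheaves (helper5; port of helper7's `GrpdShear`)

`R ×_{s,U,t} R ≅ R ×_{t,U,t} R`, `(α, β) ↦ (α, α ∘ β)`, over the first projection.
-/

set_option autoImplicit false
universe u
open CategoryTheory CategoryTheory.Limits AlgebraicGeometry

namespace Groth.Agent.Lib.helper5.AlgSpGrpdShear

variable {S : Scheme.{u}} {B : AlgSp.Sp S} (G : AlgSp.GroupoidSp B)

/-- composition of `T`-valued points -/
noncomputable def m {T : AlgSp.Sp S} (α β : T ⟶ G.R) (h : α ≫ G.s = β ≫ G.t) : T ⟶ G.R :=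
  pullback.lift α β h ≫ G.c

theorem m_congr {T : AlgSp.Sp S} {α α' β β' : T ⟶ G.R} (hα : α = α') (hβ : β = β')
    (h : α ≫ G.s = β ≫ G.t) (h' : α' ≫ G.s = β' ≫ G.t) : m G α β h = m G α' β' h' := by
  subst hα hβ
  rfl

theorem comp_m {T T' : AlgSp.Sp S} (u : T' ⟶ T) (α β : T ⟶ G.R) (h : α ≫ G.s = β ≫ G.t) :
    u ≫ m G α β h = m G (u ≫ α) (u ≫ β) (by rw [Category.assoc, Category.assoc, h]) := by
  unfold m
  rw [← Category.assoc]
  congr 1
  apply pullback.hom_ext
  · rw [Category.assoc, pullback.lift_fst, pullback.lift_fst]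
  · rw [Category.assoc, pullback.lift_snd, pullback.lift_snd]

theorem m_s {T : AlgSp.Sp S} (α β : T ⟶ G.R) (h : α ≫ G.s = β ≫ G.t) :
    m G α β h ≫ G.s = β ≫ G.s := G.comp_s α β h

theorem m_t {T : AlgSp.Sp S} (α β : T ⟶ G.R) (h : α ≫ G.s = β ≫ G.t) :
    m G α β h ≫ G.t = α ≫ G.t := G.comp_t α β h

theorem m_assoc {T : AlgSp.Sp S} (α β γ : T ⟶ G.R) (h₁ : α ≫ G.s = β ≫ G.t)
    (h₂ : β ≫ G.s = γ ≫ G.t) :
    m G (m G α β h₁) γ ((m_s G α β h₁).trans h₂) =
      m G α (m G β γ h₂) (h₁.trans (m_t G β γ h₂).symm) := G.assoc α β γ h₁ h₂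

theorem m_e {T : AlgSp.Sp S} (α : T ⟶ G.R) :
    m G α (α ≫ G.s ≫ G.e)
      (by rw [Category.assoc, Category.assoc, G.e_t, Category.comp_id]) = α := G.comp_e α

theorem e_m {T : AlgSp.Sp S} (α : T ⟶ G.R) :
    m G (α ≫ G.t ≫ G.e) α
      (by rw [Category.assoc, Category.assoc, G.e_s, Category.comp_id]) = α := G.e_comp α

theorem m_i {T : AlgSp.Sp S} (α : T ⟶ G.R) :
    m G α (α ≫ G.i) (by rw [Category.assoc, G.i_t]) = α ≫ G.t ≫ G.e := G.comp_i α

theorem i_m {T : AlgSp.Sp S} (α : T ⟶ G.R) :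
    m G (α ≫ G.i) α (by rw [Category.assoc, G.i_s]) = α ≫ G.s ≫ G.e := G.i_comp α

/-- `α⁻¹ ∘ (α ∘ β) = β` -/
theorem i_m_m {T : AlgSp.Sp S} (α β : T ⟶ G.R) (h : α ≫ G.s = β ≫ G.t) :
    m G (α ≫ G.i) (m G α β h) (by rw [Category.assoc, G.i_s, m_t]) = β := by
  have h1 : (α ≫ G.i) ≫ G.s = α ≫ G.t := by rw [Category.assoc, G.i_s]
  rw [← m_assoc G (α ≫ G.i) α β h1 h]
  have h2 : m G (α ≫ G.i) α h1 = β ≫ G.t ≫ G.e := by
    rw [i_m, ← Category.assoc, h, Category.assoc]
  rw [m_congr G h2 rfl _ (by rw [Category.assoc, Category.assoc, G.e_s, Category.comp_id])]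
  exact e_m G β

/-- `α ∘ (α⁻¹ ∘ γ) = γ` when `t α = t γ` -/
theorem m_i_m {T : AlgSp.Sp S} (α γ : T ⟶ G.R) (h : α ≫ G.t = γ ≫ G.t) :
    m G α (m G (α ≫ G.i) γ (by rw [Category.assoc, G.i_s, h]))
      (by rw [m_t, Category.assoc, G.i_t]) = γ := by
  have h1 : α ≫ G.s = (α ≫ G.i) ≫ G.t := by rw [Category.assoc, G.i_t]
  have h2 : (α ≫ G.i) ≫ G.s = γ ≫ G.t := by rw [Category.assoc, G.i_s, h]
  rw [← m_assoc G α (α ≫ G.i) γ h1 h2]
  have h3 : m G α (α ≫ G.i) h1 = γ ≫ G.t ≫ G.e := by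
    rw [m_i, ← Category.assoc, h, Category.assoc]
  rw [m_congr G h3 rfl _ (by rw [Category.assoc, Category.assoc, G.e_s, Category.comp_id])]
  exact e_m G γ

theorem fst_snd_cond : pullback.fst G.s G.t ≫ G.s = pullback.snd G.s G.t ≫ G.t :=
  pullback.condition

/-- the shear `(α, β) ↦ (α, α ∘ β)` -/
noncomputable def shearHom : pullback G.s G.t ⟶ pullback G.t G.t :=
  pullback.lift (pullback.fst G.s G.t)
    (m G (pullback.fst G.s G.t) (pullback.snd G.s G.t) pullback.condition)
    (m_t G _ _ _).symm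

theorem inv_cond : (pullback.fst G.t G.t ≫ G.i) ≫ G.s = pullback.snd G.t G.t ≫ G.t := by
  rw [Category.assoc, G.i_s, pullback.condition]

/-- the inverse shear `(α, γ) ↦ (α, α⁻¹ ∘ γ)` -/
noncomputable def shearInv : pullback G.t G.t ⟶ pullback G.s G.t :=
  pullback.lift (pullback.fst G.t G.t)
    (m G (pullback.fst G.t G.t ≫ G.i) (pullback.snd G.t G.t) (inv_cond G))
    (by rw [m_t, Category.assoc, G.i_t])

/-- the shear isomorphism -/
noncomputable def shear : pullback G.s G.t ≅ pullback G.t G.t where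
  hom := shearHom G
  inv := shearInv G
  hom_inv_id := by
    apply pullback.hom_ext
    · rw [Category.assoc, Category.id_comp]
      unfold shearInv shearHom
      rw [pullback.lift_fst, pullback.lift_fst]
    · rw [Category.assoc, Category.id_comp]
      unfold shearInv
      rw [pullback.lift_snd, comp_m]
      refine (m_congr G ?_ ?_ _ ?_).trans (i_m_m G (pullback.fst G.s G.t) (pullback.snd G.s G.t)
        pullback.condition)
      · rw [← Category.assoc]
        congr 1
        exact pullback.lift_fst _ _ _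
      · exact pullback.lift_snd _ _ _
      · rw [Category.assoc, G.i_s, m_t]
  inv_hom_id := by
    apply pullback.hom_ext
    · rw [Category.assoc, Category.id_comp]
      unfold shearInv shearHom
      rw [pullback.lift_fst, pullback.lift_fst]
    · rw [Category.assoc, Category.id_comp]
      unfold shearHom
      rw [pullback.lift_snd, comp_m]
      refine (m_congr G ?_ ?_ _ ?_).trans (m_i_m G (pullback.fst G.t G.t) (pullback.snd G.t G.t)
        pullback.condition)
      · exact pullback.lift_fst _ _ _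
      · exact pullback.lift_snd _ _ _
      · rw [m_t, Category.assoc, G.i_t]

theorem shear_fst : (shear G).hom ≫ pullback.fst G.t G.t = pullback.fst G.s G.t :=
  pullback.lift_fst _ _ _

/-- `α ↦ (α, e (s α))` -/
noncomputable def sec : G.R ⟶ pullback G.s G.t :=
  pullback.lift (𝟙 G.R) (G.s ≫ G.e) (by rw [Category.id_comp, Category.assoc, G.e_t,
    Category.comp_id])

theorem sec_snd : sec G ≫ pullback.snd G.s G.t = G.s ≫ G.e := pullback.lift_snd _ _ _

theorem sec_shear : sec G ≫ (shear G).hom = pullback.diagonal G.t := by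
  apply pullback.hom_ext
  · rw [Category.assoc, shear_fst, pullback.diagonal_fst]
    exact pullback.lift_fst _ _ _
  · rw [Category.assoc, pullback.diagonal_snd]
    change sec G ≫ shearHom G ≫ _ = _
    unfold shearHom
    rw [pullback.lift_snd, comp_m]
    refine (m_congr G ?_ ?_ _ ?_).trans (m_e G (𝟙 G.R))
    · exact pullback.lift_fst _ _ _
    · rw [Category.id_comp]
      exact pullback.lift_snd _ _ _
    · rw [Category.id_comp, Category.id_comp, Category.assoc, G.e_t, Category.comp_id]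

end Groth.Agent.Lib.helper5.AlgSpGrpdShear
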