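import Groth.Prelude.Def_Flat
import Groth.Agent.S10347
import Groth.Agent.S10265

/-!
# Etale invariance of the local dimension of a scheme at a point (helper5)
-/

set_option autoImplicit false
universe u
open CategoryTheory CategoryTheory.Limits AlgebraicGeometry Opposite

namespace Groth.Agent.Lib.helper5.EtLocalDim

/-- for an etale morphism, an open of the source and its (open) image have the same dimension -/
theorem dim_eq_of_etale_image {V U : Scheme.{u}} (g : V ⟶ U) [Etale g] (V' : V.Opens) (U' : U.Opens)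
    (hle : V' ≤ g ⁻¹ᵁ U') (hsurj : ∀ x ∈ U', ∃ y ∈ V', g y = x) :
    topologicalKrullDim ((V' : Set V)) = topologicalKrullDim ((U' : Set U)) := by
  have het : Etale (g.resLE U' V' hle) := inferInstance
  have hlqf : LocallyQuasiFinite (g.resLE U' V' hle) := Groth.Agent.S10265.lqf_of_etale _
  have hs : Surjective (g.resLE U' V' hle) := by
    constructor
    rintro ⟨x, hx⟩
    obtain ⟨y, hy, rfl⟩ := hsurj x hx
    refine ⟨⟨y, hy⟩, ?_⟩
    apply Subtype.ext
    have := congrArg (fun φ : V'.toScheme ⟶ U => φ (⟨y, hy⟩ : V'.toScheme)) (g.resLE_comp_ι hle)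
    exact this
  apply le_antisymm
  · exact Groth.Agent.S10347.dim_le_of_lqf (g.resLE U' V' hle)
  · exact Groth.Agent.S10347.dim_le_of_flat_surj (g.resLE U' V' hle)

/-- The local dimension at a point is invariant under etale morphisms. -/
theorem localDim_eq_of_etale {V U : Scheme.{u}} (g : V ⟶ U) [Etale g] (v : ↥V) :
    FlatMor.localDim ↥V v = FlatMor.localDim ↥U (g v) := by
  unfold FlatMor.localDim
  apply le_antisymm
  · refine le_iInf ?_
    rintro ⟨U', hU'⟩
    let V' : V.Opens := g ⁻¹ᵁ U'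
    -- the image of V' is an open contained in U'
    let U'' : U.Opens := ⟨g '' (V' : Set V), g.isOpenMap _ V'.2⟩
    have hU'' : g v ∈ U'' := ⟨v, hU', rfl⟩
    have hle'' : U'' ≤ U' := by
      rintro _ ⟨y, hy, rfl⟩
      exact hy
    have h1 : topologicalKrullDim ((V' : Set V)) = topologicalKrullDim ((U'' : Set U)) :=
      dim_eq_of_etale_image g V' U'' (fun y hy => ⟨y, hy, rfl⟩) (fun x ⟨y, hy, hxy⟩ => ⟨y, hy, hxy⟩)
    refine (iInf_le _ (⟨V', hU'⟩ : {W : TopologicalSpace.Opens ↥V // v ∈ W})).trans ?_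
    change topologicalKrullDim ((V' : Set V)) ≤ topologicalKrullDim ((U' : Set U))
    rw [h1]
    exact (Topology.IsEmbedding.inclusion hle'').isInducing.topologicalKrullDim_le
  · refine le_iInf ?_
    rintro ⟨V', hV'⟩
    let U' : U.Opens := ⟨g '' (V' : Set V), g.isOpenMap _ V'.2⟩
    have hU' : g v ∈ U' := ⟨v, hV', rfl⟩
    have h1 : topologicalKrullDim ((V' : Set V)) = topologicalKrullDim ((U' : Set U)) :=
      dim_eq_of_etale_image g V' U' (fun y hy => ⟨y, hy, rfl⟩) (fun x ⟨y, hy, hxy⟩ => ⟨y, hy, hxy⟩)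
    refine (iInf_le _ (⟨U', hU'⟩ : {W : TopologicalSpace.Opens ↥U // g v ∈ W})).trans ?_
    change topologicalKrullDim ((U' : Set U)) ≤ topologicalKrullDim ((V' : Set V))
    rw [h1]

end Groth.Agent.Lib.helper5.EtLocalDim
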