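import Groth.Prelude.Def_AlgSpDec
import Groth.Agent.Lib.Helper5.AlgSpChartInd
import Groth.Agent.Lib.Helper5.EtLocalDim
import Groth.Agent.Lib.Helper5.GrpdHomog
import Groth.Agent.Lib.Helper5.DimSupLocalDim
import Groth.Agent.Lib.Helper11.AlgSpBasic

/-!
# Local dimension of algebraic spaces at points (helper5)

`LD X x d` : the local dimension of an etale chart of `X` at a point over `x` is `d` (for some, equivalently
every chart).

* `LD_iff_forall`, `exists_LD`, `LD_unique`, `LD_map_iso`, `dim_eq_of_forall_LD`.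
* `LD_prod` : local dimensions add up in fibre products over a field.
-/

set_option autoImplicit false
universe u
open CategoryTheory CategoryTheory.Limits AlgebraicGeometry Opposite
open AlgSp

namespace Groth.Agent.Lib.helper5.AlgSpLD

variable {S : Scheme.{u}}

/-- the local dimension of `X` at `x` is `d`. -/
abbrev LD (X : Sp S) (x : Points X) (d : WithBot ℕ∞) : Prop :=
  HasAt (fun V v => FlatMor.localDim ↥V v = d) X x

theorem LD_iff_forall (X : Space S) (x : Points X.obj) (d : WithBot ℕ∞) :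
    LD X.obj x d ↔ ∀ (U : Over S) (a : (yon S).obj U ⟶ X.obj) (u : ↥U.left),
      RepWith @Etale a → Points.ofPt a u = x → FlatMor.localDim ↥U.left u = d :=
  Groth.Agent.Lib.helper5.ChartInd.hasAt_iff_forall
    (Q := fun U u => FlatMor.localDim ↥U u = d)
    (fun {V U} g _ v => by
      rw [Groth.Agent.Lib.helper5.EtLocalDim.localDim_eq_of_etale g v]) X x

theorem exists_LD (X : Space S) (x : Points X.obj) : ∃ d, LD X.obj x d := by
  obtain ⟨U, a, u, hae, -, hu⟩ := Groth.Agent.Lib.helper11.exists_chart_ofPt X x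
  exact ⟨_, U, a, u, hae, hu, rfl⟩

theorem LD_unique (X : Space S) (x : Points X.obj) (d d' : WithBot ℕ∞) (h : LD X.obj x d)
    (h' : LD X.obj x d') : d = d' := by
  obtain ⟨U, a, u, hae, hu, hd⟩ := h
  rw [← hd]
  exact (LD_iff_forall X x d').1 h' U a u hae hu

theorem LD_map_iso {X X' : Sp S} (σ : X ≅ X') (x : Points X) (d : WithBot ℕ∞) (h : LD X x d) :
    LD X' (Points.map σ.hom x) d := by
  obtain ⟨U, a, u, hae, hu, hd⟩ := h
  refine ⟨U, a ≫ σ.hom, u, ?_, ?_, hd⟩
  · exact (RepWith (S := S) @Etale).comp_mem _ _ hae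
      (MorphismProperty.of_isIso (RepWith (S := S) @Etale) σ.hom)
  · rw [← Points.map_ofPt, hu]

theorem dim_eq_of_forall_LD (X : Space S) (d : WithBot ℕ∞) (h : ∀ x, LD X.obj x d)
    [Nonempty (Points X.obj)] : AlgSp.dim X.obj = d := by
  unfold AlgSp.dim
  apply le_antisymm
  · refine iSup_le fun U => iSup_le fun a => iSup_le fun ha => ?_
    rw [Groth.Agent.Lib.helper5.FieldBC.dim_eq_iSup_localDim]
    refine iSup_le fun u => ?_
    rw [(LD_iff_forall X _ d).1 (h _) U a u ha rfl]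
  · obtain ⟨x⟩ := ‹Nonempty (Points X.obj)›
    obtain ⟨U, a, u, hae, hu, hd⟩ := h x
    rw [← hd]
    exact le_trans (Groth.Agent.Lib.helper3.TopDim.localDim_le_dim u)
      (le_iSup_of_le U (le_iSup_of_le a (le_iSup_of_le hae le_rfl)))

theorem LD_prod (k : Type u) [Field k] (σ₀ : Spec (CommRingCat.of k) ⟶ S) {X Y P : Sp S}
    (hX : IsAlgSpace X) (hY : IsAlgSpace Y)
    (fX : X ⟶ (yon S).obj (Over.mk σ₀)) (fY : Y ⟶ (yon S).obj (Over.mk σ₀))
    (hfX : LocP @LocallyOfFiniteType fX) (hfY : LocP @LocallyOfFiniteType fY)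
    {p₁ : P ⟶ X} {p₂ : P ⟶ Y} (sq : IsPullback p₁ p₂ fX fY) (p : Points P) (d₁ d₂ : WithBot ℕ∞)
    (h₁ : LD X (Points.map p₁ p) d₁) (h₂ : LD Y (Points.map p₂ p) d₂) : LD P p (d₁ + d₂) := by
  obtain ⟨V, a, hae, has⟩ := hX.atlas
  obtain ⟨W, b, hbe, hbs⟩ := hY.atlas
  obtain ⟨hV, hhV⟩ := (yon S).map_surjective (a ≫ fX)
  obtain ⟨hW, hhW⟩ := (yon S).map_surjective (b ≫ fY)
  have sqZ0 := IsPullback.of_hasPullback hV hW
  have sqZ := sqZ0.map (yon S)
  have sqM := IsPullback.of_hasPullback fX (b ≫ fY)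
  -- `β' : M ⟶ P`
  have hβw : pullback.fst fX (b ≫ fY) ≫ fX = (pullback.snd fX (b ≫ fY) ≫ b) ≫ fY := by
    rw [sqM.w, Category.assoc]
  have sqβ : IsPullback (sq.lift _ _ hβw) (pullback.snd fX (b ≫ fY)) p₂ b := by
    refine IsPullback.of_right ?_ (sq.lift_snd _ _ _) sq
    rw [sq.lift_fst]
    exact sqM
  have hβe : RepWith @Etale (sq.lift _ _ hβw) :=
    (RepWith (S := S) @Etale).of_isPullback sqβ.flip hbe
  have hβs : RepWith @Surjective (sq.lift _ _ hβw) :=
    (RepWith (S := S) @Surjective).of_isPullback sqβ.flip hbs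
  -- `α' : h_Z ⟶ M`
  have hαw : ((yon S).map (pullback.fst hV hW) ≫ a) ≫ fX =
      (yon S).map (pullback.snd hV hW) ≫ (b ≫ fY) := by
    rw [Category.assoc, ← hhV, ← hhW]
    exact sqZ.w
  have sqα : IsPullback ((yon S).map (pullback.fst hV hW)) (sqM.lift _ _ hαw) a
      (pullback.fst fX (b ≫ fY)) := by
    refine IsPullback.of_bot ?_ (sqM.lift_fst _ _ _).symm sqM
    rw [sqM.lift_snd, ← hhV, ← hhW]
    exact sqZ
  have hαe : RepWith @Etale (sqM.lift _ _ hαw) :=
    (RepWith (S := S) @Etale).of_isPullback sqα hae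
  have hαs : RepWith @Surjective (sqM.lift _ _ hαw) :=
    (RepWith (S := S) @Surjective).of_isPullback sqα has
  have hce : RepWith @Etale (sqM.lift _ _ hαw ≫ sq.lift _ _ hβw) :=
    (RepWith (S := S) @Etale).comp_mem _ _ hαe hβe
  have hcs : RepWith @Surjective (sqM.lift _ _ hαw ≫ sq.lift _ _ hβw) :=
    (RepWith (S := S) @Surjective).comp_mem _ _ hαs hβs
  obtain ⟨q, hq⟩ := Groth.Agent.Lib.helper11.surjective_ofPt _ hcs p
  -- the two projections
  have hc1 : (sqM.lift _ _ hαw ≫ sq.lift _ _ hβw) ≫ p₁ = (yon S).map (pullback.fst hV hW) ≫ a := by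
    rw [Category.assoc, sq.lift_fst, sqM.lift_fst]
  have hc2 : (sqM.lift _ _ hαw ≫ sq.lift _ _ hβw) ≫ p₂ = (yon S).map (pullback.snd hV hW) ≫ b := by
    rw [Category.assoc, sq.lift_snd, ← Category.assoc, sqM.lift_snd]
  have hx₁ : Points.ofPt a ((pullback.fst hV hW).left q) = Points.map p₁ p := by
    rw [← hq, Points.map_ofPt, hc1, Groth.Agent.Lib.helper11.ofPt_yon_map_comp]
  have hx₂ : Points.ofPt b ((pullback.snd hV hW).left q) = Points.map p₂ p := by
    rw [← hq, Points.map_ofPt, hc2, Groth.Agent.Lib.helper11.ofPt_yon_map_comp]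
  have e₁ := (LD_iff_forall ⟨X, hX⟩ _ d₁).1 h₁ V a _ hae hx₁
  have e₂ := (LD_iff_forall ⟨Y, hY⟩ _ d₂).1 h₂ W b _ hbe hx₂
  haveI : LocallyOfFiniteType hV.left :=
    hfX a (𝟙 _) hV hae (repWith_id _ _) (by rw [hhV, Category.comp_id])
  haveI : LocallyOfFiniteType hW.left :=
    hfY b (𝟙 _) hW hbe (repWith_id _ _) (by rw [hhW, Category.comp_id])
  have sqL : IsPullback (pullback.fst hV hW).left (pullback.snd hV hW).left hV.left hW.left :=
    sqZ0.map (Over.forget S)
  refine ⟨pullback hV hW, _, q, hce, hq, ?_⟩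
  change FlatMor.localDim ↥(pullback hV hW).left q = d₁ + d₂
  rw [Groth.Agent.Lib.helper5.GrpdHomog.localDim_eq_add_of_isPullback k sqL q, e₁, e₂]

end Groth.Agent.Lib.helper5.AlgSpLD

namespace Groth.Agent.Lib.helper5.AlgSpLD

variable {S : Scheme.{u}}

theorem LD_nat (k : Type u) [Field k] (σ₀ : Spec (CommRingCat.of k) ⟶ S) {X : Sp S}
    (fX : X ⟶ (yon S).obj (Over.mk σ₀)) (hfX : LocP @LocallyOfFiniteType fX) (x : Points X)
    (d : WithBot ℕ∞) (h : LD X x d) : ∃ n : ℕ, d = (n : WithBot ℕ∞) := by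
  obtain ⟨U, a, u, hae, -, hd⟩ := h
  obtain ⟨hU, hhU⟩ := (yon S).map_surjective (a ≫ fX)
  haveI : LocallyOfFiniteType hU.left :=
    hfX a (𝟙 _) hU hae (repWith_id _ _) (by rw [hhU, Category.comp_id])
  letI : U.left.Over (Spec (CommRingCat.of k)) := ⟨hU.left⟩
  haveI : LocallyOfFiniteType (U.left ↘ Spec (CommRingCat.of k)) :=
    inferInstanceAs (LocallyOfFiniteType hU.left)
  obtain ⟨a', b', -, -, hab⟩ :=
    Groth.Agent.Lib.helper3.IrredDim.localDim_eq_trdeg_add_stalk k U.left u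
  exact ⟨a' + b', by rw [← hd]; exact hab⟩

theorem subsingleton_points_yon_field (k : Type u) [Field k] (σ₀ : Spec (CommRingCat.of k) ⟶ S) :
    Subsingleton (Points ((yon S).obj (Over.mk σ₀))) := by
  refine ⟨fun x y => ?_⟩
  apply (Points.schemeEquiv (Over.mk σ₀)).symm.injective
  exact Subsingleton.elim (α := PrimeSpectrum k) _ _

end Groth.Agent.Lib.helper5.AlgSpLD
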