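import Mathlib
import Groth.Agent.Lib.Helper1.Diagonal
import Groth.Agent.Lib.Helper5.AlgSpLocalDim
import Groth.Agent.Lib.Helper5.AlgSpGrpdShear
import Groth.Agent.Lib.Helper5.AlgSpFibreProduct
import Groth.Agent.Lib.Helper5.GrpdStabDim

/-!
# The stabilizer of a groupoid in algebraic spaces on a field (helper5)

* `repWith_isClosedImmersion_diagonal` : for `U ≅ h_{U₀}` with `U₀ ⟶ S` separated, the relative
  diagonal of any `U ⟶ B` is a representable closed immersion.
* `repWith_isClosedImmersion_stabilizerι`, `isAlgSpace_stabilizer`.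
-/

set_option autoImplicit false
universe u
open CategoryTheory CategoryTheory.Limits AlgebraicGeometry
open AlgSp

namespace Groth.Agent.Lib.helper5.AlgSpGrpdStab

variable {S : Scheme.{u}}

theorem repWith_isClosedImmersion_diag_of_iso {U : Sp S} (U₀ : Over S) [IsSeparated U₀.hom]
    (eU : U ≅ (yon S).obj U₀) : RepWith @IsClosedImmersion (Limits.diag U) := by
  have h0 : RepWith @IsClosedImmersion (Limits.diag ((yon S).obj U₀)) :=
    (repWith_diag_yon_iff @IsClosedImmersion U₀).2 inferInstance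
  have hcomm : Limits.diag U ≫ prod.map eU.hom eU.hom = eU.hom ≫ Limits.diag ((yon S).obj U₀) := by
    apply Limits.prod.hom_ext <;> simp
  rw [← MorphismProperty.cancel_right_of_respectsIso (RepWith (S := S) @IsClosedImmersion)
    (Limits.diag U) (prod.map eU.hom eU.hom), hcomm,
    MorphismProperty.cancel_left_of_respectsIso (RepWith (S := S) @IsClosedImmersion)]
  exact h0

theorem repWith_isClosedImmersion_diagonal {U B : Sp S} (pU : U ⟶ B) (U₀ : Over S)
    [IsSeparated U₀.hom] (eU : U ≅ (yon S).obj U₀) :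
    RepWith @IsClosedImmersion (pullback.diagonal pU) := by
  have h1 := repWith_isClosedImmersion_diag_of_iso U₀ eU
  refine MorphismProperty.relative.of_exists ?_
  intro T g
  have hxy : (g ≫ pullback.fst pU pU) ≫ pU = (g ≫ pullback.snd pU pU) ≫ pU := by
    rw [Category.assoc, Category.assoc, pullback.condition]
  obtain ⟨W, w, fstW, sq⟩ := h1.1 (prod.lift (g ≫ pullback.fst pU pU) (g ≫ pullback.snd pU pU))
  have hg : g = pullback.lift (g ≫ pullback.fst pU pU) (g ≫ pullback.snd pU pU) hxy := by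
    apply pullback.hom_ext
    · rw [pullback.lift_fst]
    · rw [pullback.lift_snd]
  refine ⟨W, fstW, w, ?_, h1.2 _ _ _ sq⟩
  rw [hg]
  exact Groth.Agent.H1.Diagonal.isPullback_diagonal_of_diag pU _ _ hxy sq

section Equalizing

open Polynomial in
/-- With a common composite into a field, the two structures agree. -/
theorem eq_algebraMap_of_common_hom (k : Type u) [Field k] (B : Type u) [CommRing B] [IsDomain B]
    [Algebra k B] [Algebra.FiniteType k B] (σ : k →+* B) (L : Type u) [Field L] (ρ : B →+* L)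
    (h : ∀ a, ρ (algebraMap k B a) = ρ (σ a)) (a : k) : σ a = algebraMap k B a := by
  have halg := Groth.Agent.Lib.helper5.FieldHomAlg.isAlgebraic_of_ringHom k B σ a
  have hint : IsIntegral k (σ a) := halg.isIntegral
  set b := σ a - algebraMap k B a with hb
  have hbint : IsIntegral k b := hint.sub isIntegral_algebraMap
  have hρb : ρ b = 0 := by rw [hb, map_sub, h, sub_self]
  by_contra hne
  have hb0 : b ≠ 0 := sub_ne_zero.mpr hne
  have hmin := minpoly.aeval k b
  have hc0 : (minpoly k b).coeff 0 ≠ 0 := minpoly.coeff_zero_ne_zero hbint hb0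
  have h3 : ρ (aeval b (minpoly k b)) = eval₂ (ρ.comp (algebraMap k B)) (ρ b) (minpoly k b) := by
    rw [aeval_def, hom_eval₂]
  rw [hmin, map_zero, hρb, eval₂_at_zero] at h3
  exact hc0 ((ρ.comp (algebraMap k B)).injective (by rw [← h3, map_zero]))

open Groth.Agent.Lib.helper3.DimIneq in
/-- For `τ σ : R ⟶ Spec k` with `τ` locally of finite type and a field-valued point `ε` equalizing
them, every generization `ξ` of the image of `ε` lies in the image of some `ι : Z ⟶ R` equalizing
`σ` and `τ`. -/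
theorem exists_equalizing_of_specializes (k L : Type u) [Field k] [Field L] {R : Scheme.{u}}
    (τ σ : R ⟶ Spec (CommRingCat.of k)) [LocallyOfFiniteType τ]
    (ε : Spec (CommRingCat.of L) ⟶ R) (hε : ε ≫ τ = ε ≫ σ)
    (pt : Spec (CommRingCat.of L)) (ξ : R) (hξ : ξ ⤳ ε pt) :
    ∃ (Z : Scheme.{u}) (ι : Z ⟶ R), ξ ∈ Set.range ι ∧ ι ≫ σ = ι ≫ τ := by
  classical
  obtain ⟨V, hV, he₀V, -⟩ := exists_isAffineOpen_mem_and_subset (x := ε pt) (U := ⊤) trivial
  have hξV : ξ ∈ V := hξ.mem_open V.isOpen he₀V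
  set q : Ideal Γ(R, V) := (hV.primeIdealOf ⟨ξ, hξV⟩).asIdeal with hq
  haveI : q.IsPrime := (hV.primeIdealOf ⟨ξ, hξV⟩).isPrime
  let B : CommRingCat.{u} := CommRingCat.of (Γ(R, V) ⧸ q)
  let mkq : Γ(R, V) ⟶ B := CommRingCat.ofHom (Ideal.Quotient.mk q)
  let ι : Spec B ⟶ R := Spec.map mkq ≫ hV.fromSpec
  have hrange : ξ ∈ Set.range ι := by
    refine ⟨(⟨⊥, Ideal.isPrime_bot⟩ : PrimeSpectrum (Γ(R, V) ⧸ q)), ?_⟩
    have h1 : (Spec.map mkq) (⟨⊥, Ideal.isPrime_bot⟩ : PrimeSpectrum (Γ(R, V) ⧸ q)) =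
        hV.primeIdealOf ⟨ξ, hξV⟩ := by
      apply PrimeSpectrum.ext
      change Ideal.comap (Ideal.Quotient.mk q) ⊥ = q
      rw [← RingHom.ker_eq_comap_bot, Ideal.mk_ker]
    change hV.fromSpec ((Spec.map mkq) _) = ξ
    rw [h1, hV.fromSpec_primeIdealOf]
  refine ⟨Spec B, ι, hrange, ?_⟩
  let φτ : CommRingCat.of k ⟶ B := Spec.preimage (ι ≫ τ)
  let φσ : CommRingCat.of k ⟶ B := Spec.preimage (ι ≫ σ)
  have hφτ : Spec.map φτ = ι ≫ τ := Spec.map_preimage _
  have hφσ : Spec.map φσ = ι ≫ σ := Spec.map_preimage _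
  have hεrange : Set.range ε ⊆ Set.range hV.fromSpec := by
    rw [hV.range_fromSpec]
    rintro _ ⟨y, rfl⟩
    have : y = pt := Subsingleton.elim (α := PrimeSpectrum L) _ _
    rw [this]
    exact he₀V
  let εV : Spec (CommRingCat.of L) ⟶ Spec Γ(R, V) := IsOpenImmersion.lift hV.fromSpec ε hεrange
  have hεV : εV ≫ hV.fromSpec = ε := IsOpenImmersion.lift_fac _ _ _
  let ρA : Γ(R, V) ⟶ CommRingCat.of L := Spec.preimage εV
  have hρA : Spec.map ρA = εV := Spec.map_preimage _
  have hle : q ≤ RingHom.ker ρA.hom := by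
    have h1 : hV.primeIdealOf ⟨ε pt, he₀V⟩ = εV pt := by
      apply hV.fromSpec.isOpenEmbedding.injective
      rw [hV.fromSpec_primeIdealOf]
      change ε pt = (εV ≫ hV.fromSpec) pt
      rw [hεV]
    have h2 := (specializes_iff_primeIdealOf_le hV ξ (ε pt) hξV he₀V).1 hξ
    rw [h1] at h2
    intro a ha
    have h3 : a ∈ (εV pt).asIdeal := h2 ha
    rw [← hρA] at h3
    have h4 : ρA.hom a ∈ pt.asIdeal := h3
    have hbot : pt.asIdeal = ⊥ := Ideal.eq_bot_of_prime pt.asIdeal
    rw [hbot, Ideal.mem_bot] at h4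
    exact h4
  let ρ : Γ(R, V) ⧸ q →+* L := Ideal.Quotient.lift q ρA.hom (fun a ha => hle ha)
  have hρ : mkq ≫ CommRingCat.ofHom ρ = ρA := by
    ext a
    rfl
  have hεB : Spec.map (CommRingCat.ofHom ρ) ≫ ι = ε := by
    change Spec.map (CommRingCat.ofHom ρ) ≫ Spec.map mkq ≫ hV.fromSpec = ε
    rw [← Category.assoc, ← Spec.map_comp, hρ, hρA, hεV]
  have hρτσ : φτ ≫ CommRingCat.ofHom ρ = φσ ≫ CommRingCat.ofHom ρ := by
    apply Spec.map_injective
    have e1 : Spec.map (CommRingCat.ofHom ρ) ≫ (ι ≫ τ) = ε ≫ τ :=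
      (Category.assoc _ _ _).symm.trans (congrArg (· ≫ τ) hεB)
    have e2 : Spec.map (CommRingCat.ofHom ρ) ≫ (ι ≫ σ) = ε ≫ σ :=
      (Category.assoc _ _ _).symm.trans (congrArg (· ≫ σ) hεB)
    rw [Spec.map_comp, Spec.map_comp, hφτ, hφσ, e1, e2, hε]
  letI : Algebra k (Γ(R, V) ⧸ q) := φτ.hom.toAlgebra
  haveI : IsDomain (Γ(R, V) ⧸ q) := Ideal.Quotient.isDomain q
  haveI : Algebra.FiniteType k (Γ(R, V) ⧸ q) := by
    have h1 : LocallyOfFiniteType (Spec.map φτ) := by
      rw [hφτ]
      haveI : IsClosedImmersion (Spec.map mkq) :=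
        IsClosedImmersion.spec_of_surjective mkq Ideal.Quotient.mk_surjective
      infer_instance
    have h2 := (HasRingHomProperty.Spec_iff (P := @LocallyOfFiniteType)).mp h1
    exact h2
  have hfinal : φσ = φτ := by
    ext a
    exact eq_algebraMap_of_common_hom k (Γ(R, V) ⧸ q) φσ.hom L ρ
      (fun a => congrArg (fun f => f.hom a) hρτσ) a
  rw [← hφσ, ← hφτ, hfinal]

end Equalizing

variable {B : Sp S} (G : GroupoidSp B)

theorem repWith_isClosedImmersion_stabilizerι (U₀ : Over S) [IsSeparated U₀.hom]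
    (eU : G.U ≅ (yon S).obj U₀) : RepWith @IsClosedImmersion G.stabilizerι := by
  have h1 : RepWith @IsClosedImmersion G.diag := repWith_isClosedImmersion_diagonal G.pU U₀ eU
  exact (RepWith (S := S) @IsClosedImmersion).of_isPullback
    (IsPullback.of_hasPullback G.j G.diag).flip h1

theorem isAlgSpace_stabilizer (hB : IsAlgSpace B) (hU : IsAlgSpace G.U) (hR : IsAlgSpace G.R) :
    IsAlgSpace G.stabilizer := by
  have hUU : IsAlgSpace (pullback G.pU G.pU) :=
    Groth.Agent.Lib.helper5.isAlgSpace_of_isPullback hB.diag hU hU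
      (IsPullback.of_hasPullback G.pU G.pU)
  exact Groth.Agent.Lib.helper5.isAlgSpace_of_isPullback hUU.diag hR hU
    (IsPullback.of_hasPullback G.j G.diag)

/-- a point of a fibre product of a chart with a sheaf, as a point of the representing scheme -/
theorem exists_scheme_point_of_isPullback {F G' : Sp S} {W E : Over S} {a : (yon S).obj W ⟶ F}
    {g : G' ⟶ F} {fst : (yon S).obj E ⟶ G'} {φ : E ⟶ W}
    (sq : IsPullback fst ((yon S).map φ) g a) (w : ↥W.left) (z : Points G')
    (hz : Points.map g z = Points.ofPt a w) :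
    ∃ y : ↥E.left, φ.left y = w ∧ Points.ofPt fst y = z := by
  obtain ⟨y, hy1, hy2⟩ := Groth.Agent.Lib.helper10.exists_point_of_isPullback sq z
    (Points.ofScheme W w) (by rw [hz, Points.ofPt_eq_map_ofScheme])
  refine ⟨Points.toScheme E y, ?_, ?_⟩
  · have h1 : Points.toScheme W (Points.map ((yon S).map φ) y) = w := by
      rw [hy2, Points.toScheme_ofScheme]
    rw [← Points.ofScheme_toScheme E y, ← Points.ofPt_eq_map_ofScheme, Points.toScheme_ofPt] at h1
    exact h1
  · rw [Points.ofPt_eq_map_ofScheme, Points.ofScheme_toScheme, hy1]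

section Main

variable (hB : IsAlgSpace B) (hR : IsAlgSpace G.R) (k : Type u) [Field k]
  (σ : Spec (CommRingCat.of k) ⟶ S) (eU : G.U ≅ (yon S).obj (Over.mk σ))

include hB hR eU in
theorem dim_stabilizer_le_dim : AlgSp.dim G.stabilizer ≤ AlgSp.dim G.R := by
  classical
  haveI : IsSeparated (σ ≫ terminal.from S) := by
    rw [Subsingleton.elim (σ ≫ terminal.from S) (terminal.from (Spec (CommRingCat.of k)))]
    infer_instance
  haveI : IsSeparated (Over.mk σ).hom := IsSeparated.of_comp σ (terminal.from S)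
  have hU : IsAlgSpace G.U := (IsAlgSpace.yon_obj (Over.mk σ)).of_iso eU.symm
  have hGst : IsAlgSpace G.stabilizer := isAlgSpace_stabilizer G hB hU hR
  have hcl := repWith_isClosedImmersion_stabilizerι G (Over.mk σ) eU
  obtain ⟨W, a, hae, has⟩ := hR.atlas
  obtain ⟨W', w', fst', sq⟩ := hcl.1 a
  have hw' : IsClosedImmersion w'.left := hcl.2 _ _ _ sq
  have hfst' : RepWith @Etale fst' := (RepWith (S := S) @Etale).of_isPullback sq.flip hae
  have hdimW' : topologicalKrullDim ↥W'.left ≤ AlgSp.dim G.R := by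
    refine le_trans (w'.left.isClosedEmbedding.isEmbedding.isInducing.topologicalKrullDim_le) ?_
    unfold AlgSp.dim
    exact le_iSup_of_le W (le_iSup_of_le a (le_iSup_of_le hae le_rfl))
  unfold AlgSp.dim
  refine iSup_le fun V => iSup_le fun b => iSup_le fun hb => ?_
  rw [Groth.Agent.Lib.helper5.FieldBC.dim_eq_iSup_localDim]
  refine iSup_le fun v => ?_
  obtain ⟨w, hw⟩ := Groth.Agent.Lib.helper11.surjective_ofPt a has
    (Points.map G.stabilizerι (Points.ofPt b v))
  obtain ⟨y, -, hy⟩ := exists_scheme_point_of_isPullback sq w (Points.ofPt b v) hw.symm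
  have hLD : Groth.Agent.Lib.helper5.AlgSpLD.LD G.stabilizer (Points.ofPt b v)
      (FlatMor.localDim ↥W'.left y) := ⟨W', fst', y, hfst', hy, rfl⟩
  rw [(Groth.Agent.Lib.helper5.AlgSpLD.LD_iff_forall ⟨G.stabilizer, hGst⟩ _ _).1 hLD V b v hb rfl]
  exact le_trans (Groth.Agent.Lib.helper3.TopDim.localDim_le_dim _) hdimW'

include hR eU in
theorem dim_le_dim_stabilizer (ht : LocP @LocallyOfFiniteType G.t)
    (hhom : ∀ r : Points G.R, Groth.Agent.Lib.helper5.AlgSpLD.LD G.R r (AlgSp.dim G.R)) :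
    AlgSp.dim G.R ≤ AlgSp.dim G.stabilizer := by
  classical
  haveI : IsSeparated (σ ≫ terminal.from S) := by
    rw [Subsingleton.elim (σ ≫ terminal.from S) (terminal.from (Spec (CommRingCat.of k)))]
    infer_instance
  haveI : IsSeparated (Over.mk σ).hom := IsSeparated.of_comp σ (terminal.from S)
  have hcl := repWith_isClosedImmersion_stabilizerι G (Over.mk σ) eU
  -- the identity point
  let t₀ : ↥(Over.mk σ).left := IsLocalRing.closedPoint k
  set e₀ : Points G.R := Points.ofPt (eU.inv ≫ G.e) t₀ with he₀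
  obtain ⟨W, a, w, hae, -, hw⟩ := Groth.Agent.Lib.helper11.exists_chart_ofPt ⟨G.R, hR⟩ e₀
  -- the two structure morphisms of the chart
  obtain ⟨τW, hτW⟩ := (yon S).map_surjective (a ≫ G.t ≫ eU.hom)
  obtain ⟨σW, hσW⟩ := (yon S).map_surjective (a ≫ G.s ≫ eU.hom)
  have ht' : LocP @LocallyOfFiniteType (G.t ≫ eU.hom) := by
    intro U V a' b h ha' hb hcomm
    refine ht a' (b ≫ eU.inv) h ha' ?_ ?_
    · exact (RepWith (S := S) @Etale).comp_mem _ _ hb
        (MorphismProperty.of_isIso (RepWith (S := S) @Etale) eU.inv)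
    · rw [← Category.assoc, ← hcomm, Category.assoc, Category.assoc, eU.hom_inv_id,
        Category.comp_id]
  haveI hlft : LocallyOfFiniteType τW.left :=
    ht' a (𝟙 _) τW hae (repWith_id _ _) (by rw [hτW, Category.comp_id])
  -- a field-valued point of the chart over the identity
  obtain ⟨E, snd, fst, sqE⟩ := hR.representable_from_yon a (eU.inv ≫ G.e)
  obtain ⟨φ, rfl⟩ := (yon S).map_surjective fst
  have sqE' : IsPullback ((yon S).map snd) ((yon S).map φ) (eU.inv ≫ G.e) a := sqE.flip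
  obtain ⟨y, hy, -⟩ := exists_scheme_point_of_isPullback sqE' w
    (Points.ofScheme (Over.mk σ) t₀) (by rw [← Points.ofPt_eq_map_ofScheme, hw])
  have hφτ : φ ≫ τW = snd := by
    apply (yon S).map_injective
    rw [Functor.map_comp, hτW, ← Category.assoc, sqE.w, Category.assoc, Category.assoc,
      ← Category.assoc G.e, G.e_t, Category.id_comp, eU.inv_hom_id, Category.comp_id]
  have hφσ : φ ≫ σW = snd := by
    apply (yon S).map_injective
    rw [Functor.map_comp, hσW, ← Category.assoc, sqE.w, Category.assoc, Category.assoc,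
      ← Category.assoc G.e, G.e_s, Category.id_comp, eU.inv_hom_id, Category.comp_id]
  let ε : Spec (CommRingCat.of ↥(E.left.residueField y)) ⟶ W.left :=
    E.left.fromSpecResidueField y ≫ φ.left
  have hε : ε ≫ τW.left = ε ≫ σW.left := by
    change (E.left.fromSpecResidueField y ≫ φ.left) ≫ τW.left =
      (E.left.fromSpecResidueField y ≫ φ.left) ≫ σW.left
    rw [Category.assoc, Category.assoc, ← Over.comp_left, ← Over.comp_left, hφτ, hφσ]
  let pt : Spec (CommRingCat.of ↥(E.left.residueField y)) :=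
    IsLocalRing.closedPoint ↥(E.left.residueField y)
  have hεpt : ε pt = w := by
    change (E.left.fromSpecResidueField y ≫ φ.left) pt = w
    rw [Scheme.Hom.comp_apply]
    have : (E.left.fromSpecResidueField y) pt = y := Scheme.fromSpecResidueField_apply _ _
    rw [this, hy]
  -- a generization of maximal transcendence degree
  letI : W.left.Over (Spec (CommRingCat.of k)) := ⟨τW.left⟩
  haveI : LocallyOfFiniteType (W.left ↘ Spec (CommRingCat.of k)) := hlft
  obtain ⟨ξ, m, hξ, hm, hloc⟩ :=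
    Groth.Agent.Lib.helper5.GrpdStabDim.exists_trdeg_eq_localDim_specializes k W.left w
  obtain ⟨Z, ι, hξι, hι⟩ := exists_equalizing_of_specializes k ↥(E.left.residueField y)
    τW.left σW.left ε hε pt ξ (by rw [hεpt]; exact hξ)
  -- lift to the stabilizer
  let ZS : Over S := Over.mk (ι ≫ W.hom)
  let ιS : ZS ⟶ W := Over.homMk ι rfl
  have hιS : ιS ≫ σW = ιS ≫ τW := by
    apply Over.OverMorphism.ext
    exact hι
  have heq : ((yon S).map ιS ≫ a) ≫ G.s = ((yon S).map ιS ≫ a) ≫ G.t := by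
    have h1 : (yon S).map ιS ≫ a ≫ G.s ≫ eU.hom = (yon S).map ιS ≫ a ≫ G.t ≫ eU.hom := by
      rw [← hσW, ← hτW, ← Functor.map_comp, ← Functor.map_comp, hιS]
    have h2 := congrArg (fun f => f ≫ eU.inv) h1
    simpa [Category.assoc] using h2
  have hlift : ((yon S).map ιS ≫ a) ≫ G.j = (((yon S).map ιS ≫ a) ≫ G.t) ≫ G.diag := by
    apply pullback.hom_ext
    · simp only [Category.assoc, GroupoidSp.j_fst, GroupoidSp.diag, pullback.lift_fst,
        Category.comp_id]
    · simp only [Category.assoc, GroupoidSp.j_snd, GroupoidSp.diag, pullback.lift_snd,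
        Category.comp_id]
      simpa [Category.assoc] using heq
  let ζ : (yon S).obj ZS ⟶ G.stabilizer :=
    pullback.lift ((yon S).map ιS ≫ a) (((yon S).map ιS ≫ a) ≫ G.t) hlift
  have hζ : ζ ≫ G.stabilizerι = (yon S).map ιS ≫ a := pullback.lift_fst _ _ _
  -- the closed subscheme of the chart lying over the stabilizer
  obtain ⟨W', w', fst', sq⟩ := hcl.1 a
  have hw' : IsClosedImmersion w'.left := hcl.2 _ _ _ sq
  have hfst' : RepWith @Etale fst' := (RepWith (S := S) @Etale).of_isPullback sq.flip hae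
  obtain ⟨κ, hκ⟩ := (yon S).map_surjective (sq.lift ζ ((yon S).map ιS) hζ)
  have hκw : κ ≫ w' = ιS := by
    apply (yon S).map_injective
    rw [Functor.map_comp, hκ, sq.lift_snd]
  have hξW' : ξ ∈ Set.range w'.left := by
    obtain ⟨z, hz⟩ := hξι
    refine ⟨κ.left z, ?_⟩
    change (κ.left ≫ w'.left) z = ξ
    rw [← Over.comp_left, hκw]
    exact hz
  -- dimension count
  have h1 : AlgSp.dim G.R = (m : WithBot ℕ∞) := by
    rw [← hloc]
    exact ((Groth.Agent.Lib.helper5.AlgSpLD.LD_iff_forall ⟨G.R, hR⟩ e₀ _).1 (hhom e₀)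
      W a w hae hw).symm
  have h2 := Groth.Agent.Lib.helper3.FTField.dim_closure_eq_trdeg k W.left ξ m hm
  have hemb := w'.left.isClosedEmbedding
  have h3 : closure ({ξ} : Set ↥W.left) ⊆ Set.range w'.left :=
    hemb.isClosed_range.closure_subset_iff.mpr (Set.singleton_subset_iff.mpr hξW')
  have h4 := Groth.Agent.Lib.helper3.TopDim.dim_mono h3
  have h5 : topologicalKrullDim ↥(Set.range w'.left) = topologicalKrullDim ↥W'.left :=
    ((hemb.isEmbedding.toHomeomorph).isHomeomorph.topologicalKrullDim_eq).symm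
  rw [h1, ← h2]
  refine le_trans h4 (le_trans h5.le ?_)
  unfold AlgSp.dim
  exact le_iSup_of_le W' (le_iSup_of_le fst' (le_iSup_of_le hfst' le_rfl))

end Main

end Groth.Agent.Lib.helper5.AlgSpGrpdStab
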