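import Groth.Agent.Lib.Helper5.AlgSpLargestOpen
import Groth.Agent.Lib.Helper5.AlgSpOpenSub
import Mathlib.Topology.LocallyClosed
import Mathlib.AlgebraicGeometry.Morphisms.Immersion

/-!
Ranges of immersions of algebraic spaces are locally closed; topological lemmas for descending immersions (helper5).
-/

set_option autoImplicit false
universe u
open CategoryTheory CategoryTheory.Limits AlgebraicGeometry Opposite Topology
open AlgSp

namespace Groth.Agent.Lib.helper5.ImmDesc

theorem isLocallyClosed_of_forall_preimage {ι : Type*} {Z : Type*} [TopologicalSpace Z]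
    {Zi : ι → Type*} [∀ i, TopologicalSpace (Zi i)] (φ : ∀ i, Zi i → Z)
    (hopen : ∀ i, IsOpenMap (φ i)) (hcont : ∀ i, Continuous (φ i))
    (hsurj : ∀ z, ∃ i, z ∈ Set.range (φ i)) (A : Set Z)
    (h : ∀ i, IsLocallyClosed (φ i ⁻¹' A)) : IsLocallyClosed A := by
  rw [isLocallyClosed_iff_isOpen_coborder]
  have : coborder A = ⋃ i, φ i '' (φ i ⁻¹' coborder A) := by
    ext z
    constructor
    · intro hz
      obtain ⟨i, y, rfl⟩ := hsurj z
      exact Set.mem_iUnion.2 ⟨i, y, hz, rfl⟩
    · intro hz
      obtain ⟨i, y, hy, rfl⟩ := Set.mem_iUnion.1 hz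
      exact hy
  rw [this]
  refine isOpen_iUnion fun i => hopen i _ ?_
  rw [← coborder_preimage (hopen i) (hcont i)]
  exact (isLocallyClosed_iff_isOpen_coborder.1 (h i))

variable {S : Scheme.{u}}

theorem range_map_snd {F G G' P : Sp S} {fst : P ⟶ F} {snd : P ⟶ G'} {f : F ⟶ G} {g : G' ⟶ G}
    (sq : IsPullback fst snd f g) :
    Set.range (Points.map snd) = Points.map g ⁻¹' Set.range (Points.map f) := by
  ext z
  constructor
  · rintro ⟨w, rfl⟩
    exact ⟨Points.map fst w, by rw [← Points.map_comp, ← Points.map_comp, sq.w]⟩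
  · rintro ⟨x, hx⟩
    obtain ⟨w, -, hw⟩ := Groth.Agent.Lib.helper10.exists_point_of_isPullback sq x z hx
    exact ⟨w, hw⟩

theorem range_map_yon_map {T T' : Over S} (φ : T ⟶ T') :
    Set.range (Points.map ((yon S).map φ)) = Points.ofScheme T' '' Set.range φ.left := by
  ext z
  constructor
  · rintro ⟨w, rfl⟩
    refine ⟨φ.left (Points.toScheme T w), ⟨_, rfl⟩, ?_⟩
    rw [← Groth.Agent.Lib.helper11.ofPt_yon_map, Points.ofPt_eq_map_ofScheme, Points.ofScheme_toScheme]
  · rintro ⟨_, ⟨t, rfl⟩, rfl⟩
    refine ⟨Points.ofScheme T t, ?_⟩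
    rw [← Points.ofPt_eq_map_ofScheme, Groth.Agent.Lib.helper11.ofPt_yon_map]

theorem ofScheme_injective (T : Over S) : Function.Injective (Points.ofScheme T) := by
  intro a b hab
  rw [← Points.toScheme_ofScheme T a, ← Points.toScheme_ofScheme T b, hab]

/-- for a pullback square with representable corners over a sheaf map, the range of the scheme map is the preimage of the range -/
theorem range_left_eq_preimage {F G : Sp S} {h : F ⟶ G} {V V' : Over S} {b : (yon S).obj V ⟶ G}
    {fst : (yon S).obj V' ⟶ F} {snd : V' ⟶ V} (sq : IsPullback fst ((yon S).map snd) h b) :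
    Set.range snd.left = Points.ofPt b ⁻¹' Set.range (Points.map h) := by
  have h1 := range_map_snd sq
  rw [range_map_yon_map] at h1
  ext v
  constructor
  · rintro ⟨v', rfl⟩
    have : Points.ofScheme V (snd.left v') ∈ Points.map b ⁻¹' Set.range (Points.map h) := by
      rw [← h1]; exact ⟨_, ⟨v', rfl⟩, rfl⟩
    show Points.ofPt b (snd.left v') ∈ Set.range (Points.map h)
    rw [Points.ofPt_eq_map_ofScheme]
    exact this
  · intro hv
    have hv' : Points.ofScheme V v ∈ Points.map b ⁻¹' Set.range (Points.map h) := by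
      show Points.map b (Points.ofScheme V v) ∈ Set.range (Points.map h)
      rw [← Points.ofPt_eq_map_ofScheme]
      exact hv
    rw [← h1] at hv'
    obtain ⟨_, ⟨v', rfl⟩, hv''⟩ := hv'
    exact ⟨v', ofScheme_injective V hv''⟩

/-- The range of an immersion into an algebraic space is locally closed. -/
theorem isLocallyClosed_range_of_repWith_immersion {F G : Sp S} (hG : IsAlgSpace G) (h : F ⟶ G)
    (hh : RepWith @IsImmersion h) : IsLocallyClosed (Set.range (Points.map h)) := by
  obtain ⟨V, b, hbe, hbs⟩ := hG.atlas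
  obtain ⟨V', snd, fst, sq⟩ := hh.1 b
  have himm : IsImmersion snd.left := hh.2 _ _ _ sq
  refine isLocallyClosed_of_forall_preimage (ι := PUnit.{1}) (fun _ => Points.ofPt b)
    (fun _ => Groth.Agent.Lib.helper11.isOpenMap_ofPt b hbe) (fun _ => Points.continuous_ofPt b)
    (fun z => ⟨PUnit.unit, Groth.Agent.Lib.helper11.surjective_ofPt b hbs z⟩) _ (fun _ => ?_)
  rw [← range_left_eq_preimage sq]
  exact snd.left.isLocallyClosed_range

end Groth.Agent.Lib.helper5.ImmDesc
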