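import Groth.Prelude.Def_AlgSpInf

/-!
# Formal lifting properties of morphisms of fppf sheaves (helper5)

Abstract lifting properties `LiftExists j f`, `LiftUniq j f` in any category, their permanence (composition,
base change, cancellation), and the bridge to `AlgSp.IsFormallySmoothMor`, `AlgSp.IsFormallyUnramifiedMor`,
`AlgSp.IsFormallyEtaleMor` via the thickening data `Thk S`.
-/

set_option autoImplicit false
universe u

open CategoryTheory CategoryTheory.Limits AlgebraicGeometry Opposite

namespace Groth.Agent.Lib.helper5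

section Abstract

variable {C : Type*} [Category C] {T T' : C} (j : T ⟶ T')

/-- Every commutative square from `j` to `f` has a diagonal filler. -/
def LiftExists {F G : C} (f : F ⟶ G) : Prop :=
  ∀ (top : T ⟶ F) (bot : T' ⟶ G), top ≫ f = j ≫ bot → ∃ l : T' ⟶ F, j ≫ l = top ∧ l ≫ f = bot

/-- Diagonal fillers of squares from `j` to `f` are unique. -/
def LiftUniq {F G : C} (f : F ⟶ G) : Prop :=
  ∀ (l l' : T' ⟶ F), j ≫ l = j ≫ l' → l ≫ f = l' ≫ f → l = l'

variable {j} {F G H : C} {a : F ⟶ G} {b : G ⟶ H}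

theorem LiftExists.comp (ha : LiftExists j a) (hb : LiftExists j b) : LiftExists j (a ≫ b) := by
  intro top bot comm
  obtain ⟨lb, hlb1, hlb2⟩ := hb (top ≫ a) bot (by rw [Category.assoc, comm])
  obtain ⟨la, hla1, hla2⟩ := ha top lb hlb1.symm
  exact ⟨la, hla1, by rw [← Category.assoc, hla2, hlb2]⟩

theorem LiftUniq.comp (ha : LiftUniq j a) (hb : LiftUniq j b) : LiftUniq j (a ≫ b) := by
  intro l l' h1 h2
  refine ha l l' h1 (hb _ _ ?_ ?_)
  · rw [← Category.assoc, h1, Category.assoc]
  · simpa only [Category.assoc] using h2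

theorem LiftUniq.of_comp (hab : LiftUniq j (a ≫ b)) : LiftUniq j a := by
  intro l l' h1 h2
  refine hab l l' h1 ?_
  rw [← Category.assoc, h2, Category.assoc]

theorem LiftExists.of_comp (hab : LiftExists j (a ≫ b)) (hb : LiftUniq j b) : LiftExists j a := by
  intro top bot comm
  obtain ⟨l, hl1, hl2⟩ := hab top (bot ≫ b) (by rw [← Category.assoc, comm, Category.assoc])
  refine ⟨l, hl1, hb _ _ ?_ ?_⟩
  · rw [← Category.assoc, hl1, comm]
  · rw [Category.assoc, hl2]

variable {P : C} {b' : P ⟶ F} {a' : P ⟶ H} {c : H ⟶ G}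

theorem LiftExists.of_isPullback (hP : IsPullback b' a' a c) (ha : LiftExists j a) :
    LiftExists j a' := by
  intro top bot comm
  obtain ⟨l, hl1, hl2⟩ := ha (top ≫ b') (bot ≫ c) (by
    rw [Category.assoc, hP.w, ← Category.assoc, comm, Category.assoc])
  refine ⟨hP.lift l bot hl2, ?_, hP.lift_snd _ _ _⟩
  apply hP.hom_ext
  · rw [Category.assoc, hP.lift_fst, hl1]
  · rw [Category.assoc, hP.lift_snd, comm]

theorem LiftUniq.of_isPullback (hP : IsPullback b' a' a c) (ha : LiftUniq j a) :
    LiftUniq j a' := by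
  intro l l' h1 h2
  apply hP.hom_ext
  · refine ha _ _ ?_ ?_
    · rw [← Category.assoc, h1, Category.assoc]
    · rw [Category.assoc, Category.assoc, hP.w, ← Category.assoc, h2, Category.assoc]
  · exact h2

end Abstract

open AlgSp

variable {S : Scheme.{u}}

/-- Thickening data: a ring, a square-zero ideal and a structure morphism to the base. -/
structure Thk (S : Scheme.{u}) : Type (u + 1) where
  A : Type u
  [commRing : CommRing A]
  I : Ideal A
  sq_zero : I ^ 2 = ⊥
  str : Spec (.of A) ⟶ S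

namespace Thk

instance (D : Thk S) : CommRing D.A := D.commRing

/-- `T' = Spec A` over `S`. -/
noncomputable abbrev ptT' (D : Thk S) : Over S := Over.mk D.str

/-- `T = Spec (A ⧸ I)` over `S`. -/
noncomputable abbrev ptT (D : Thk S) : Over S :=
  Over.mk (Spec.map (CommRingCat.ofHom (Ideal.Quotient.mk D.I)) ≫ D.str)

/-- The closed immersion `T ⟶ T'` over `S`. -/
noncomputable abbrev j (D : Thk S) : D.ptT ⟶ D.ptT' :=
  Over.homMk (Spec.map (CommRingCat.ofHom (Ideal.Quotient.mk D.I))) rfl

/-- The thickening data underlying a lifting square. -/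
def ofSq {F G : Sp S} {f : F ⟶ G} (sq : InfSq f) : Thk S := ⟨sq.A, sq.I, sq.sq_zero, sq.str⟩

/-- A lifting square with prescribed thickening data. -/
def toSq (D : Thk S) {F G : Sp S} (f : F ⟶ G) (top : (yon S).obj D.ptT ⟶ F)
    (bot : (yon S).obj D.ptT' ⟶ G) (comm : top ≫ f = (yon S).map D.j ≫ bot) : InfSq f :=
  { A := D.A, I := D.I, sq_zero := D.sq_zero, str := D.str, top := top, bot := bot, comm := comm }

end Thk

theorem isFormallySmoothMor_iff {F G : Sp S} (f : F ⟶ G) :
    IsFormallySmoothMor f ↔ ∀ D : Thk S, LiftExists ((yon S).map D.j) f := by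
  constructor
  · intro h D top bot comm
    exact h (D.toSq f top bot comm)
  · intro h sq
    exact h (Thk.ofSq sq) sq.top sq.bot sq.comm

theorem isFormallyUnramifiedMor_iff {F G : Sp S} (f : F ⟶ G) :
    IsFormallyUnramifiedMor f ↔ ∀ D : Thk S, LiftUniq ((yon S).map D.j) f := by
  constructor
  · intro h D l l' h1 h2
    exact h (D.toSq f ((yon S).map D.j ≫ l) (l ≫ f) (Category.assoc _ _ _)) l l' rfl rfl h1.symm
      h2.symm
  · intro h sq l l' h1 h2 h3 h4
    exact h (Thk.ofSq sq) l l' (h1.trans h3.symm) (h2.trans h4.symm)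

theorem isFormallyEtaleMor_iff {F G : Sp S} (f : F ⟶ G) :
    IsFormallyEtaleMor f ↔ IsFormallySmoothMor f ∧ IsFormallyUnramifiedMor f := by
  constructor
  · intro h
    refine ⟨fun sq => (h sq).exists, fun sq l l' h1 h2 h3 h4 => (h sq).unique ⟨h1, h2⟩ ⟨h3, h4⟩⟩
  · rintro ⟨h1, h2⟩ sq
    obtain ⟨l, hl⟩ := h1 sq
    exact ⟨l, hl, fun l' hl' => h2 sq l' l hl'.1 hl'.2 hl.1 hl.2⟩

end Groth.Agent.Lib.helper5
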