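import Groth.Agent.Lib.Helper5.AlgSpThk

/-!
# Lifting along first order thickenings of algebraic spaces, local hypotheses (helper5)

Generalisation of `existsUnique_lift_of_isFOThickMor` where the formal étaleness of `f` is replaced by
the two local hypotheses actually used: existence of lifts on affine étale charts of `T'` and uniqueness of
lifts along affine thickening data mapping to `T ⟶ T'`.
-/

set_option autoImplicit false
universe u

open CategoryTheory CategoryTheory.Limits AlgebraicGeometry Opposite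

namespace Groth.Agent.Lib.helper5

open AlgSp

variable {S : Scheme.{u}}

section Lift

variable {X Y T T' : Sp S} (f : X ⟶ Y) (j : T ⟶ T') (a : T ⟶ X) (b : T' ⟶ Y)

/-- local existence of lifts on affine étale charts of `T'` -/
def LocalExists : Prop :=
  ∀ ⦃Z W : Over S⦄ (β : (yon S).obj Z ⟶ T') (fst : (yon S).obj W ⟶ T) (t : W ⟶ Z),
    IsAffine Z.left → RepWith @Etale β → IsPullback fst ((yon S).map t) j β →
      ∃ m : (yon S).obj Z ⟶ X, (yon S).map t ≫ m = fst ≫ a ∧ m ≫ f = β ≫ b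

/-- local uniqueness of lifts along thickening data over `T` -/
def LocalUniq : Prop :=
  ∀ (D' : Thk S) (fst : (yon S).obj D'.ptT ⟶ T) (m m' : (yon S).obj D'.ptT' ⟶ X),
    (yon S).map D'.j ≫ m = fst ≫ a → (yon S).map D'.j ≫ m' = fst ≫ a → m ≫ f = m' ≫ f → m = m'

variable {f j a b}

theorem IsLiftOver.unique_of_affine' (hU : LocalUniq f a) (hj : IsFOThickMor j)
    {Z₀ : Over S} (hZ₀ : IsAffine Z₀.left) (β₀ : (yon S).obj Z₀ ⟶ T') (hβ₀ : RepWith @Etale β₀)
    {Z : Over S} (hZ : IsAffine Z.left) (c : Z ⟶ Z₀) {m m' : (yon S).obj Z ⟶ X}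
    (hm : IsLiftOver f j a b ((yon S).map c ≫ β₀) m)
    (hm' : IsLiftOver f j a b ((yon S).map c ≫ β₀) m') : m = m' := by
  obtain ⟨W₀, t₀, fst₀, sq₀⟩ := hj.1.rep β₀
  have ht₀ : MoreMor.IsFirstOrderThickening t₀.left :=
    ⟨hj.1.2 β₀ fst₀ t₀ sq₀, hj.2 β₀ fst₀ t₀ hZ₀ hβ₀ sq₀⟩
  obtain ⟨D', e, c₀, hc⟩ := exists_thk_over' t₀ hZ₀ ht₀ hZ c
  have comm : ((yon S).map c₀ ≫ fst₀) ≫ j =
      (yon S).map (D'.j ≫ e.hom) ≫ (yon S).map c ≫ β₀ := by
    rw [Category.assoc, sq₀.w, ← Category.assoc, ← Functor.map_comp, hc, ← Category.assoc D'.j,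
      Functor.map_comp, Category.assoc]
  have k1 := hm.1 _ _ comm
  have k2 := hm'.1 _ _ comm
  have key := hU D' ((yon S).map c₀ ≫ fst₀) ((yon S).map e.hom ≫ m)
    ((yon S).map e.hom ≫ m') (by rw [← Category.assoc, ← Functor.map_comp, k1])
    (by rw [← Category.assoc, ← Functor.map_comp, k2])
    (by rw [Category.assoc, Category.assoc, hm.2, hm'.2])
  have : IsIso ((yon S).map e.hom) := inferInstance
  exact (cancel_epi ((yon S).map e.hom)).1 key

theorem IsLiftOver.unique' (hU : LocalUniq f a) (hj : IsFOThickMor j)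
    (hT' : IsAlgSpace T') {Z : Over S} {β : (yon S).obj Z ⟶ T'} {m m' : (yon S).obj Z ⟶ X}
    (hm : IsLiftOver f j a b β m) (hm' : IsLiftOver f j a b β m') : m = m' := by
  obtain ⟨κ, Zk, c, Vk, βk, w, hZk, hVk, hβk, hc1, hc2, hc3, hcw⟩ :=
    exists_affine_refinement hT' β
  refine yon_hom_ext_of_family m m' Zk c hc1 hc2 hc3 fun k => ?_
  have h1 := hm.precomp (c k)
  have h2 := hm'.precomp (c k)
  rw [hcw k] at h1 h2
  exact IsLiftOver.unique_of_affine' hU hj (hVk k) (βk k) (hβk k) (hZk k) (w k) h1 h2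

theorem exists_isLiftOver_of_affine' (hE : LocalExists f j a b) (hj : IsFOThickMor j)
    {Z : Over S} (hZ : IsAffine Z.left) (β : (yon S).obj Z ⟶ T')
    (hβ : RepWith @Etale β) : ∃ m, IsLiftOver f j a b β m := by
  obtain ⟨W, t, fst, sq⟩ := hj.1.rep β
  obtain ⟨m, hm1, hm2⟩ := hE β fst t hZ hβ sq
  refine ⟨m, fun P fst' snd' comm => ?_, hm2⟩
  obtain ⟨σ, hσ1, hσ2⟩ := sq.exists_lift fst' snd' comm
  rw [← hσ2, Category.assoc, hm1, ← Category.assoc, hσ1]

theorem exists_isLiftOver' (hE : LocalExists f j a b) (hU : LocalUniq f a)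
    (hj : IsFOThickMor j) (hT' : IsAlgSpace T') {Z : Over S} (β : (yon S).obj Z ⟶ T') :
    ∃ m, IsLiftOver f j a b β m := by
  obtain ⟨κ, Zk, c, Vk, βk, wk, hZk, hVk, hβk, hc1, hc2, hc3, hcw⟩ :=
    exists_affine_refinement hT' β
  choose l hl using fun k => exists_isLiftOver_of_affine' hE hj (hVk k) (βk k) (hβk k)
  have hlk : ∀ k, IsLiftOver f j a b ((yon S).map (c k) ≫ β) ((yon S).map (wk k) ≫ l k) :=
    fun k => by
      rw [hcw k]
      exact (hl k).precomp (wk k)
  obtain ⟨m, hm⟩ := exists_glue Zk c hc1 hc2 hc3 (fun k => (yon S).map (wk k) ≫ l k) (by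
    intro i i' Z' gi gi' comm
    refine IsLiftOver.unique' (a := a) (b := b) hU hj hT'
      (β := (yon S).map (gi ≫ c i) ≫ β) ?_ ?_
    · have := (hlk i).precomp gi
      rwa [← Category.assoc, ← Functor.map_comp] at this
    · have := (hlk i').precomp gi'
      rwa [← Category.assoc, ← Functor.map_comp, ← comm] at this)
  refine ⟨m, IsLiftOver.of_cover (Sieve.ofArrows Zk c)
    (Groth.Agent.S10510.cover_mem_family Zk c hc1 hc2 hc3) ?_⟩
  rintro Z' g ⟨_, g', _, ⟨k⟩, rfl⟩
  rw [Functor.map_comp, Category.assoc, Category.assoc, hm k]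
  exact (hlk k).precomp g'

theorem lift_unique' (hU : LocalUniq f a) (hj : IsFOThickMor j)
    (hT' : IsAlgSpace T') {l l' : T' ⟶ X} (h0 : j ≫ l = a) (h1 : j ≫ l' = a)
    (h2 : l ≫ f = l' ≫ f) : l = l' := by
  apply hom_ext_yon
  intro Z β
  have k1 : IsLiftOver f j (j ≫ l) (l ≫ f) β (β ≫ l) := isLiftOver_of_lift l β
  have k2 : IsLiftOver f j (j ≫ l') (l' ≫ f) β (β ≫ l') := isLiftOver_of_lift l' β
  rw [h0] at k1
  rw [h1, ← h2] at k2
  exact IsLiftOver.unique' hU hj hT' k1 k2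

theorem exists_lift' (hE : LocalExists f j a b) (hU : LocalUniq f a) (hj : IsFOThickMor j)
    (hT' : IsAlgSpace T') : ∃ l : T' ⟶ X, j ≫ l = a ∧ l ≫ f = b := by
  choose m hm using fun (Z : Over S) (β : (yon S).obj Z ⟶ T') =>
    exists_isLiftOver' hE hU hj hT' β
  have hnat : ∀ {Z Z' : Over S} (g : Z' ⟶ Z) (β : (yon S).obj Z ⟶ T'),
      m Z' ((yon S).map g ≫ β) = (yon S).map g ≫ m Z β :=
    fun g β => IsLiftOver.unique' hU hj hT' (hm _ _) ((hm _ β).precomp g)
  let η : T'.obj ⟶ X.obj :=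
    { app := fun U => TypeCat.ofHom fun s =>
        (AlgSp.J S).uliftYonedaEquiv (m U.unop ((AlgSp.J S).uliftYonedaEquiv.symm s))
      naturality := by
        intro U U' g
        ext s
        show (AlgSp.J S).uliftYonedaEquiv (m U'.unop ((AlgSp.J S).uliftYonedaEquiv.symm
            (T'.obj.map g s))) =
          X.obj.map g ((AlgSp.J S).uliftYonedaEquiv (m U.unop
            ((AlgSp.J S).uliftYonedaEquiv.symm s)))
        have e : (AlgSp.J S).uliftYonedaEquiv.symm (T'.obj.map g s) =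
            (yon S).map g.unop ≫ (AlgSp.J S).uliftYonedaEquiv.symm s :=
          (GrothendieckTopology.uliftYonedaEquiv_symm_naturality_left (J := AlgSp.J S) g.unop T'
            s).symm
        rw [GrothendieckTopology.uliftYonedaEquiv_naturality', e, hnat] }
  let l : T' ⟶ X := (fullyFaithfulSheafToPresheaf _ _).preimage η
  have hl : ∀ {Z : Over S} (β : (yon S).obj Z ⟶ T'), β ≫ l = m Z β := by
    intro Z β
    apply (AlgSp.J S).uliftYonedaEquiv.injective
    rw [GrothendieckTopology.uliftYonedaEquiv_comp]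
    have : l.hom = η := (fullyFaithfulSheafToPresheaf _ _).map_preimage η
    rw [this]
    show (AlgSp.J S).uliftYonedaEquiv (m Z ((AlgSp.J S).uliftYonedaEquiv.symm
      ((AlgSp.J S).uliftYonedaEquiv β))) = _
    rw [Equiv.symm_apply_apply]
  refine ⟨l, ?_, ?_⟩
  · apply hom_ext_yon
    intro Z s
    rw [← Category.assoc, hl]
    have := (hm Z (s ≫ j)).1 s (𝟙 _) (by rw [Category.id_comp])
    rwa [Category.id_comp] at this
  · apply hom_ext_yon
    intro Z s
    rw [← Category.assoc, hl, (hm Z s).2]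

theorem existsUnique_lift' (hE : LocalExists f j a b) (hU : LocalUniq f a)
    (hj : IsFOThickMor j) (hT' : IsAlgSpace T') :
    ∃! l : T' ⟶ X, j ≫ l = a ∧ l ≫ f = b := by
  obtain ⟨l, hl1, hl2⟩ := exists_lift' hE hU hj hT'
  refine ⟨l, ⟨hl1, hl2⟩, fun l' hl' => ?_⟩
  exact lift_unique' hU hj hT' hl'.1 hl1 (hl'.2.trans hl2.symm)

end Lift

end Groth.Agent.Lib.helper5
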