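import Groth.Agent.Lib.Helper5.AlgSpEtaleLift
import Groth.Agent.Lib.Helper5.AlgSpInf4

/-!
# Descent of formal étaleness along a surjective étale map on the source (helper5)

`isFormallyEtaleMor_of_comp_etale_surjective`: if `a : F ⟶ G` is representable, étale and surjective and
`a ≫ f` is formally étale, then `f` is formally étale.  Uses the lifting of étale neighbourhoods along
square-zero thickenings (`exists_etale_lift_nhd`).
-/

set_option autoImplicit false
universe u

open CategoryTheory CategoryTheory.Limits AlgebraicGeometry Opposite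

namespace Groth.Agent.Lib.helper5

open AlgSp

variable {S : Scheme.{u}}

/-- Gluing lifts over a covering family, given uniqueness of lifts. -/
theorem exists_isLiftOver_of_family {X Y T T' : Sp S} {f : X ⟶ Y} {j : T ⟶ T'} {a : T ⟶ X}
    {b : T' ⟶ Y}
    (huniq : ∀ ⦃Z : Over S⦄ (β : (yon S).obj Z ⟶ T') (m m' : (yon S).obj Z ⟶ X),
      IsLiftOver f j a b β m → IsLiftOver f j a b β m' → m = m')
    {Z : Over S} (β : (yon S).obj Z ⟶ T') {κ : Type u} (Zk : κ → Over S) (c : ∀ k, Zk k ⟶ Z)
    (h1 : ∀ k, Flat (c k).left) (h2 : ∀ k, LocallyOfFinitePresentation (c k).left)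
    (h3 : ∀ x : ↥Z.left, ∃ k, x ∈ Set.range (c k).left)
    (m : ∀ k, (yon S).obj (Zk k) ⟶ X)
    (hm : ∀ k, IsLiftOver f j a b ((yon S).map (c k) ≫ β) (m k)) :
    ∃ m₀, IsLiftOver f j a b β m₀ := by
  obtain ⟨m₀, hm₀⟩ := exists_glue Zk c h1 h2 h3 m (by
    intro i i' Z' gi gi' comm
    refine huniq ((yon S).map (gi ≫ c i) ≫ β) _ _ ?_ ?_
    · have := (hm i).precomp gi
      rwa [← Category.assoc, ← Functor.map_comp] at this
    · have := (hm i').precomp gi'
      rwa [← Category.assoc, ← Functor.map_comp, ← comm] at this)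
  refine ⟨m₀, IsLiftOver.of_cover (Sieve.ofArrows Zk c)
    (Groth.Agent.S10510.cover_mem_family Zk c h1 h2 h3) ?_⟩
  rintro Z' g ⟨_, g', _, ⟨k⟩, rfl⟩
  rw [Functor.map_comp, Category.assoc, Category.assoc, hm₀ k]
  exact (hm k).precomp g'

theorem isFormallyEtaleMor_of_comp_etale_surjective {F G H : Sp S} (a : F ⟶ G) (f : G ⟶ H)
    (hae : RepWith @Etale a) (has : RepWith @Surjective a)
    (hcomp : IsFormallyEtaleMor (a ≫ f)) : IsFormallyEtaleMor f := by
  have hcs := (isFormallyEtaleMor_iff _).1 hcomp
  have hfu : IsFormallyUnramifiedMor f :=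
    isFormallyUnramifiedMor_of_comp_etale_surjective a f hae has hcs.2
  rw [isFormallyEtaleMor_iff]
  refine ⟨?_, hfu⟩
  rw [isFormallySmoothMor_iff]
  intro D top bot comm
  obtain ⟨W, p, fst, sq⟩ := hae.rep top
  have hpe : Etale p.left := hae.2 top fst p sq
  have hps : Surjective p.left := has.2 top fst p sq
  choose T'w Tw c t ι hAff hce hw hFO hpb using
    fun w : ↥W.left => exists_etale_lift_nhd D p hpe w
  have key : ∀ w, ∃ m : (yon S).obj (T'w w) ⟶ G,
      IsLiftOver f ((yon S).map D.j) top bot ((yon S).map (c w) ≫ 𝟙 _) m := by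
    intro w
    have hsq : ι w ≫ p ≫ D.j = t w ≫ c w := by
      ext
      simpa using (hpb w).w
    obtain ⟨l, hl1, hl2⟩ := liftExists_of_affine hcs.1 (t w) (hAff w) (hFO w)
      ((yon S).map (ι w) ≫ fst) ((yon S).map (c w) ≫ bot) (by
        rw [Category.assoc, ← Category.assoc fst, sq.w, Category.assoc, comm,
          ← Category.assoc, ← Category.assoc, ← Category.assoc, ← Functor.map_comp,
          ← Functor.map_comp, Category.assoc, hsq, Functor.map_comp, Category.assoc])
    refine ⟨l ≫ a, ?_, ?_⟩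
    · intro P fst' snd' cm
      apply hom_ext_yon
      intro Z s
      obtain ⟨u, hu⟩ := (yon S).map_surjective (s ≫ fst')
      obtain ⟨v, hv⟩ := (yon S).map_surjective (s ≫ snd')
      have huv : u ≫ D.j = v ≫ c w := by
        apply (yon S).map_injective
        rw [Functor.map_comp, Functor.map_comp, hu, hv, Category.assoc, Category.assoc, cm,
          Category.comp_id]
      obtain ⟨σ, hσ1, hσ2⟩ := (hpb w).exists_lift u.left v.left (by
        rw [← Over.comp_left, huv, Over.comp_left])
      let σ' : Z ⟶ Tw w := Over.homMk σ (by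
        rw [← Over.w (t w), ← Category.assoc, hσ2, Over.w])
      have e1 : σ' ≫ t w = v := by
        ext
        exact hσ2
      have e2 : σ' ≫ ι w ≫ p = u := by
        ext
        simpa [σ'] using hσ1
      calc s ≫ snd' ≫ l ≫ a = (yon S).map v ≫ l ≫ a := by rw [← Category.assoc, ← hv]
        _ = (yon S).map σ' ≫ ((yon S).map (t w) ≫ l) ≫ a := by
          rw [← e1, Functor.map_comp, Category.assoc, Category.assoc]
        _ = (yon S).map σ' ≫ (yon S).map (ι w) ≫ fst ≫ a := by
          rw [hl1, Category.assoc]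
        _ = (yon S).map σ' ≫ (yon S).map (ι w) ≫ (yon S).map p ≫ top := by rw [sq.w]
        _ = (yon S).map u ≫ top := by
          rw [← e2, Functor.map_comp, Functor.map_comp, Category.assoc, Category.assoc]
        _ = s ≫ fst' ≫ top := by rw [← Category.assoc, hu]
    · rw [Category.assoc, hl2, Category.comp_id]
  choose m hm using key
  have huniq : ∀ ⦃Z : Over S⦄ (β : (yon S).obj Z ⟶ (yon S).obj D.ptT')
      (m m' : (yon S).obj Z ⟶ G), IsLiftOver f ((yon S).map D.j) top bot β m →
      IsLiftOver f ((yon S).map D.j) top bot β m' → m = m' :=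
    fun Z β m m' h h' => IsLiftOver.unique hfu D.isFOThickMor (IsAlgSpace.yon_obj _) h h'
  obtain ⟨m₀, hm₀⟩ := exists_isLiftOver_of_family huniq (𝟙 _) T'w c
    (fun w => by have := hce w; infer_instance) (fun w => by have := hce w; infer_instance)
    (fun x => by
      obtain ⟨y, rfl⟩ := D.isFirstOrderThickening.1.2.surj x
      obtain ⟨w₀, rfl⟩ := hps.surj y
      obtain ⟨z, hz⟩ := hw w₀
      refine ⟨w₀, (t w₀).left z, ?_⟩
      have := congrArg (fun k => k z) (hpb w₀).w
      simp only [Scheme.Hom.comp_apply] at this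
      rw [← this, hz]) m hm
  refine ⟨m₀, ?_, ?_⟩
  · have := hm₀.1 (𝟙 _) ((yon S).map D.j) (by rw [Category.id_comp, Category.comp_id])
    rwa [Category.id_comp] at this
  · have := hm₀.2
    rwa [Category.id_comp] at this

end Groth.Agent.Lib.helper5
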