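import Groth.Agent.Lib.Helper5.AlgSpThk3

/-!
# First order infinitesimal neighbourhoods: scheme-level lemmas (helper5)

* `ker_eq_sq_of_affine`: translate `sn.ker = s.ker ^ 2` to the rings of global sections;
* `isFirstOrderThickening_of_ker_eq_sq`: if `s = t ≫ sn` are closed immersions into an affine scheme and
  `sn.ker = s.ker ^ 2` then `t` is a first order thickening;
* `ker_mul_le_of_comp`: if `r.ker ^ 2 = 0` then `(r ≫ w).ker ^ 2 ≤ w.ker` (affine);
* `isPullback_of_comp_mono`.
-/

set_option autoImplicit false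
universe u

open CategoryTheory CategoryTheory.Limits AlgebraicGeometry Opposite

namespace Groth.Agent.Lib.helper5

open AlgSp

theorem isPullback_of_comp_mono {C : Type*} [Category C] {P X Y Z W : C} {fst : P ⟶ X}
    {snd : P ⟶ Y} {f : X ⟶ Z} {g : Y ⟶ Z} (k : Z ⟶ W) [Mono k]
    (sq : IsPullback fst snd (f ≫ k) (g ≫ k)) : IsPullback fst snd f g := by
  have hr : IsPullback (𝟙 Y) g (g ≫ k) k := IsPullback.of_horiz_isIso_mono ⟨by simp⟩
  have big : IsPullback (snd ≫ 𝟙 Y) fst (g ≫ k) (f ≫ k) := by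
    rw [Category.comp_id]; exact sq.flip
  have hw : fst ≫ f = snd ≫ g := by
    rw [← cancel_mono k, Category.assoc, Category.assoc, sq.w]
  exact (IsPullback.of_right big hw.symm hr).flip

theorem isPullback_comp_mono {C : Type*} [Category C] {P X Y Z W : C} {fst : P ⟶ X}
    {snd : P ⟶ Y} {f : X ⟶ Z} {g : Y ⟶ Z} (k : Z ⟶ W) [Mono k]
    (sq : IsPullback fst snd f g) : IsPullback fst snd (f ≫ k) (g ≫ k) := by
  have hr : IsPullback (𝟙 Y) g (g ≫ k) k := IsPullback.of_horiz_isIso_mono ⟨by simp⟩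
  have := sq.flip.paste_horiz hr
  rw [Category.comp_id] at this
  exact this.flip

theorem ideal_ker_eq_of_affine {W U : Scheme.{u}} [IsAffine U] (s : W ⟶ U) :
    Scheme.IdealSheafData.equivOfIsAffine s.ker = RingHom.ker s.appTop.hom := by
  rw [Scheme.ker_of_isAffine s, ← Scheme.IdealSheafData.equivOfIsAffine_symm_apply,
    OrderRingIso.apply_symm_apply]

theorem ker_le_iff_of_affine {W W' U : Scheme.{u}} [IsAffine U] (s : W ⟶ U) (s' : W' ⟶ U) :
    s.ker ≤ s'.ker ↔ RingHom.ker s.appTop.hom ≤ RingHom.ker s'.appTop.hom := by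
  rw [← ideal_ker_eq_of_affine s, ← ideal_ker_eq_of_affine s']
  exact (map_le_map_iff (Scheme.IdealSheafData.equivOfIsAffine (X := U))).symm

/-- `r.ker ^ 2 = 0` implies `(r ≫ w).ker ^ 2 ≤ w.ker` for affine schemes. -/
theorem ker_mul_le_of_comp {E V U : Scheme.{u}} [IsAffine V] [IsAffine U] (r : E ⟶ V) (w : V ⟶ U)
    (hr : r.ker * r.ker = ⊥) : (r ≫ w).ker * (r ≫ w).ker ≤ w.ker := by
  have h1 := ker_sq_of_sqZero r hr
  rw [← map_le_map_iff (Scheme.IdealSheafData.equivOfIsAffine (X := U)), map_mul,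
    ideal_ker_eq_of_affine, ideal_ker_eq_of_affine, Ideal.mul_le]
  intro x hx y hy
  rw [RingHom.mem_ker] at hx hy ⊢
  rw [Scheme.Hom.comp_appTop] at hx hy
  have hx' : w.appTop.hom x ∈ RingHom.ker r.appTop.hom := hx
  have hy' : w.appTop.hom y ∈ RingHom.ker r.appTop.hom := hy
  have := Ideal.mul_mem_mul hx' hy'
  rw [h1, Ideal.mem_bot] at this
  rw [map_mul]
  exact this

/-- If `s = t ≫ sn` are closed immersions into an affine scheme with `sn.ker = s.ker ^ 2`, then `t` is a
first order thickening. -/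
theorem isFirstOrderThickening_of_ker_eq_sq {W Wn U : Scheme.{u}} [IsAffine U] (s : W ⟶ U)
    (sn : Wn ⟶ U) (t : W ⟶ Wn) [IsClosedImmersion s] [IsClosedImmersion sn] (hts : t ≫ sn = s)
    (hker : sn.ker = s.ker ^ 2) : MoreMor.IsFirstOrderThickening t := by
  have hcl : IsClosedImmersion t := by
    have : IsClosedImmersion (t ≫ sn) := by rw [hts]; infer_instance
    exact IsClosedImmersion.of_comp_isClosedImmersion t sn
  obtain ⟨hWn, hsurj⟩ := IsClosedImmersion.isAffine_surjective_of_isAffine sn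
  refine ⟨⟨hcl, ?_⟩, ?_⟩
  · -- surjectivity via supports
    have h1 : (s.ker.support : Set ↥U) = Set.range s := by
      rw [Scheme.Hom.support_ker, s.isClosedEmbedding.isClosed_range.closure_eq]
    have h2 : (sn.ker.support : Set ↥U) = Set.range sn := by
      rw [Scheme.Hom.support_ker, sn.isClosedEmbedding.isClosed_range.closure_eq]
    have h3 : sn.ker.support = s.ker.support := by
      rw [hker, Scheme.IdealSheafData.support_pow _ 2 (by norm_num)]
    refine ⟨fun y => ?_⟩
    have hy : sn y ∈ Set.range s := by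
      rw [← h1, ← h3, h2]; exact ⟨y, rfl⟩
    obtain ⟨x, hx⟩ := hy
    refine ⟨x, sn.isClosedEmbedding.injective ?_⟩
    rw [← hx, ← hts]
    rfl
  · apply sqZero_of_ker_sq
    have hI : RingHom.ker sn.appTop.hom = RingHom.ker s.appTop.hom ^ 2 := by
      rw [← ideal_ker_eq_of_affine sn, ← ideal_ker_eq_of_affine s, hker, map_pow]
    rw [pow_two, eq_bot_iff, Ideal.mul_le]
    intro x hx y hy
    rw [Ideal.mem_bot]
    obtain ⟨a, rfl⟩ := hsurj x
    obtain ⟨b, rfl⟩ := hsurj y
    have key : ∀ c, sn.appTop.hom c ∈ RingHom.ker t.appTop.hom → c ∈ RingHom.ker s.appTop.hom := by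
      intro c hc
      rw [RingHom.mem_ker] at hc ⊢
      have : s.appTop.hom c = t.appTop.hom (sn.appTop.hom c) := by
        rw [← hts, Scheme.Hom.comp_appTop]; rfl
      rw [this, hc]
    have hab : a * b ∈ RingHom.ker sn.appTop.hom := by
      rw [hI, pow_two]
      exact Ideal.mul_mem_mul (key a hx) (key b hy)
    rw [← map_mul]
    exact hab

end Groth.Agent.Lib.helper5
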