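import Groth.Agent.Lib.Helper5.AlgSpLocPBC
import Groth.Agent.Lib.Helper5.AlgSpFpqcRep

/-!
# `AlgSp.LocP P` is fpqc local on the base (helper5)

For a property `P` of morphisms of schemes satisfying `LocPData P` (stable under base change, pre- and postcomposition
with étale maps, right cancellation of étale maps, étale descent on the source) which moreover is Zariski local at the
target and descends along fpqc covers, `AlgSp.LocP P` is fpqc local on the base.
-/

set_option autoImplicit false
universe u
open CategoryTheory CategoryTheory.Limits AlgebraicGeometry
open AlgSp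

namespace Groth.Agent.Lib.helper5.LocPBC

open Groth.Agent.Lib.helper5.FpqcRep

variable {S : Scheme.{u}}

theorem isLocalOnBase_fpqc_locP (P : MorphismProperty Scheme.{u}) (hP : LocPData P)
    [P.DescendsAlong (@Surjective ⊓ @Flat ⊓ @QuasiCompact)] [IsZariskiLocalAtTarget P] :
    IsLocalOnBase (IsFpqcCover (S := S)) (LocP P) := by
  have := hP.baseChange
  intro ι Y Yi g hY hYi hcov X f hX Xi p q hXi sq
  constructor
  · intro hf i
    exact locP_of_isPullback hP hX hY (hYi i) (sq i) hf
  · intro H U V a b h ha hb hsq
    have hm := repWith_etale_lift a b h ha hb hsq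
    -- the family over `h_V`
    have hg : FpqcRefinable (fun i => pullback b (g i)) (fun i => pullback.fst b (g i)) :=
      FpqcRefinable.of_isPullback (IsFpqcCover.refinable hcov) b _ _ (fun i => pullback.snd b (g i))
        (fun i => IsPullback.of_hasPullback b (g i))
    have sqA : ∀ i, IsPullback (pullback.fst ((yon S).map h) (pullback.fst b (g i)))
        (pullback.snd ((yon S).map h) (pullback.fst b (g i))) ((yon S).map h)
        (pullback.fst b (g i)) := fun i => IsPullback.of_hasPullback _ _
    have hP' : ∀ i, RepWith P (pullback.snd ((yon S).map h) (pullback.fst b (g i))) := by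
      intro i
      refine ⟨representable_of_isPullback (representable_yon_map h) (sqA i), ?_⟩
      intro T E t fstE sndE sqE
      have sqUV := sqE.paste_horiz (sqA i)
      obtain ⟨aE, w, hmE⟩ := exists_chart_baseChange (sq i) a b h hsq hm sndE _ _ sqUV
        (t ≫ pullback.snd b (g i)) (by
          rw [Category.assoc, ← pullback.condition, Category.assoc])
      exact locP_of_chart hP (hXi i) (hYi i) (H i) aE _ sndE w hmE
    exact (repWith_yon_map_iff P h).1
      (repWith_of_fpqcRefinable P ((yon S).map h) (representable_yon_map h) _ _ hg _ _ _ sqA hP')

end Groth.Agent.Lib.helper5.LocPBC
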