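import Groth.Agent.Lib.Helper5.AlgSpProperImage
import Groth.Agent.Lib.Helper1.Diagonal

/-!
# Properness and finite jointly surjective families of closed subspaces (helper5)

* `isUnivClosedMor_of_family`: `b : G ⟶ H` is universally closed as soon as `a k ≫ b` is, for a finite family `a k`
  jointly surjective on points.
* `isProperMor_of_closed_family`: an algebraic space locally of finite type over `Y` covered by finitely many closed
  subspaces proper over `Y` is proper over `Y`.
-/

set_option autoImplicit false
universe u
open CategoryTheory CategoryTheory.Limits AlgebraicGeometry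
open AlgSp

namespace Groth.Agent.Lib.helper5.ProperSurj

variable {S : Scheme.{u}}

/-- If `a k ≫ b` is universally closed for a finite family `a k` jointly surjective on points, then `b` is universally
closed. -/
theorem isUnivClosedMor_of_family {κ : Type*} [Finite κ] {F : κ → Sp S} {G H : Sp S} (a : ∀ k, F k ⟶ G)
    (b : G ⟶ H) (hab : ∀ k, IsUnivClosedMor (a k ≫ b))
    (ha : ∀ z : Points G, ∃ k, z ∈ Set.range (Points.map (a k))) : IsUnivClosedMor b := by
  intro Z Z' hZ g fst snd sq
  have sqW : ∀ k, IsPullback (pullback.fst (a k) fst) (pullback.snd (a k) fst) (a k) fst :=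
    fun k => IsPullback.of_hasPullback _ _
  have hcl : ∀ k, IsClosedMap (Points.map (pullback.snd (a k) fst ≫ snd)) := fun k =>
    hab k hZ g _ _ ((sqW k).paste_vert sq)
  intro C hC
  have : Points.map snd '' C =
      ⋃ k, Points.map (pullback.snd (a k) fst ≫ snd) '' (Points.map (pullback.snd (a k) fst) ⁻¹' C) := by
    ext z
    constructor
    · rintro ⟨c, hc, rfl⟩
      obtain ⟨k, x, hx⟩ := ha (Points.map fst c)
      obtain ⟨w, -, hw⟩ := Groth.Agent.Lib.helper10.exists_point_of_isPullback (sqW k) x c hx
      refine Set.mem_iUnion.2 ⟨k, w, ?_, ?_⟩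
      · show Points.map (pullback.snd (a k) fst) w ∈ C
        rw [hw]; exact hc
      · rw [Points.map_comp, hw]
    · intro hz
      obtain ⟨k, w, hw, rfl⟩ := Set.mem_iUnion.1 hz
      exact ⟨_, hw, (Points.map_comp _ _ _).symm⟩
  rw [this]
  exact isClosed_iUnion_of_finite (fun k => hcl k _ (hC.preimage (Points.continuous_map _)))

/-- An algebraic space locally of finite type over `Y` which is covered by finitely many closed subspaces proper over
`Y` is proper over `Y`. -/
theorem isProperMor_of_closed_family {κ : Type*} [Finite κ] {A : κ → Space S} {B Y : Space S} (h : ∀ k, A k ⟶ B)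
    (b : B ⟶ Y) (hjs : ∀ z : Points B.obj, ∃ k, z ∈ Set.range (Points.map (h k).hom))
    (hc : ∀ k, RepWith @IsClosedImmersion (h k).hom) (ha : ∀ k, IsProperMor (h k ≫ b).hom)
    (hb : LocP @LocallyOfFiniteType b.hom) : IsProperMor b.hom := by
  have hbc : IsUnivClosedMor b.hom :=
    isUnivClosedMor_of_family (fun k => (h k).hom) b.hom (fun k => (ha k).2.2) hjs
  refine ⟨?_, ⟨hb, Groth.Agent.S9925.result b hbc⟩, hbc⟩
  -- separatedness: the diagonal is universally closed
  apply Groth.Agent.H1.Diagonal.repWith_isClosedImmersion_diagonal_of_univClosed B.property Y.property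
  refine isUnivClosedMor_of_family (fun k => (h k).hom) (pullback.diagonal b.hom) (fun k => ?_) hjs
  -- `h k ≫ Δ_b = Δ_{a k} ≫ (h k × h k)`
  have i1 : (RepWith (S := S) @IsClosedImmersion).IsStableUnderBaseChange := repWith_isStableUnderBaseChange _
  have i2 : (RepWith (S := S) @IsClosedImmersion).IsMultiplicative := repWith_isMultiplicative _
  have hm : RepWith @IsClosedImmersion
      (pullback.map ((h k).hom ≫ b.hom) ((h k).hom ≫ b.hom) b.hom b.hom (h k).hom (h k).hom (𝟙 _)
        ((Category.comp_id _).trans rfl) ((Category.comp_id _).trans rfl)) :=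
    MorphismProperty.pullbackMap (P := RepWith (S := S) @IsClosedImmersion) (hc k) (hc k) rfl rfl
  have hd : RepWith @IsClosedImmersion (pullback.diagonal ((h k).hom ≫ b.hom)) := (ha k).1
  have heq : (h k).hom ≫ pullback.diagonal b.hom =
      pullback.diagonal ((h k).hom ≫ b.hom) ≫
        pullback.map ((h k).hom ≫ b.hom) ((h k).hom ≫ b.hom) b.hom b.hom (h k).hom (h k).hom (𝟙 _)
          ((Category.comp_id _).trans rfl) ((Category.comp_id _).trans rfl) := by
    apply pullback.hom_ext
    · rw [Category.assoc, pullback.diagonal_fst, Category.comp_id, Category.assoc, pullback.map,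
        pullback.lift_fst, ← Category.assoc, pullback.diagonal_fst, Category.id_comp]
    · rw [Category.assoc, pullback.diagonal_snd, Category.comp_id, Category.assoc, pullback.map,
        pullback.lift_snd, ← Category.assoc, pullback.diagonal_snd, Category.id_comp]
  rw [heq]
  exact Groth.Agent.Lib.helper18.isUnivClosedMor_of_repWith_isClosedImmersion _
    ((RepWith (S := S) @IsClosedImmersion).comp_mem _ _ hd hm)

end Groth.Agent.Lib.helper5.ProperSurj
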