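import Groth.Agent.Lib.Helper5.AlgSpProperSurj
import Groth.Agent.S10192
import Groth.Agent.S10193
import Groth.Agent.S10278

/-!
# Images of proper closed subspaces (helper5)

* `exists_proper_image`: for `φ : Z ⟶ Y` over `B` universally closed with closed image, `Z ⟶ B` proper and
  `Y ⟶ B` locally of finite type, the reduced induced closed subspace on the image of `φ` is proper over `B`.
-/

set_option autoImplicit false
universe u
open CategoryTheory CategoryTheory.Limits AlgebraicGeometry
open AlgSp

namespace Groth.Agent.Lib.helper5.ProperSurj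

variable {S : Scheme.{u}}

theorem isSeparatedMor_of_closedImmersion {X Y : Space S} (i : X ⟶ Y) (hi : RepWith @IsClosedImmersion i.hom) :
    IsSeparatedMor i.hom := (Groth.Agent.S10277.result i hi).1

theorem isClosedMor_of_isUnivClosedMor {F G : Sp S} (hG : IsAlgSpace G) {f : F ⟶ G} (hf : IsUnivClosedMor f) :
    IsClosedMor f :=
  hf hG (𝟙 G) (𝟙 F) f (IsPullback.of_horiz_isIso ⟨by simp⟩)

/-- The reduced closed subspace on the image of a universally closed morphism with closed image from a space proper
over `B` is proper over `B`. -/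
theorem exists_proper_image {Z Y B : Space S} (p : Z ⟶ B) (φ : Z ⟶ Y) (b : Y ⟶ B) (comm : φ ≫ b = p)
    (hp : IsProperMor p.hom) (hb : LocP @LocallyOfFiniteType b.hom) (hφ : IsUnivClosedMor φ.hom)
    (hcl : IsClosed (Set.range (Points.map φ.hom))) :
    ∃ (Z' : Space S) (i' : Z' ⟶ Y), RepWith @IsClosedImmersion i'.hom ∧
      Set.range (Points.map i'.hom) = Set.range (Points.map φ.hom) ∧ IsProperMor (i' ≫ b).hom := by
  obtain ⟨Z', i', hi'1, hi'2, -⟩ := Groth.Agent.S10192.result Y _ hcl
  obtain ⟨W, w, hw1, hw2, hw3⟩ := Groth.Agent.S10192.result Z Set.univ isClosed_univ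
  have hwsurj : Function.Surjective (Points.map w.hom) := by
    intro z
    have : z ∈ Set.range (Points.map w.hom) := by rw [hw2]; trivial
    exact this
  -- the factorisation `W ⟶ Z'`
  obtain ⟨h, hh⟩ := (Groth.Agent.S10193.result i' hi'1 hw3 (w ≫ φ)).2 (by
    rintro _ ⟨y, rfl⟩
    rw [hi'2]
    exact ⟨Points.map w.hom y, (Points.map_comp _ _ _).symm⟩)
  have hsurj : IsSurjectiveMor h.hom := by
    intro z'
    have hmem : Points.map i'.hom z' ∈ Set.range (Points.map φ.hom) := by
      rw [← hi'2]
      exact ⟨z', rfl⟩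
    obtain ⟨z, hz⟩ := hmem
    obtain ⟨y, rfl⟩ := hwsurj z
    refine ⟨y, injective_map_of_closedImmersion hi'1 ?_⟩
    rw [← Points.map_comp, ← hz, ← Points.map_comp]
    have : h.hom ≫ i'.hom = w.hom ≫ φ.hom := by
      have := congrArg (fun m => m.hom) hh
      exact this
    rw [this]
  -- `W ⟶ B` is proper
  have hWB : IsProperMor (w ≫ p).hom :=
    Groth.Agent.S10276.main w p (Groth.Agent.S10277.result w hw1) hp
  -- `h` is universally closed
  have hwφ : IsUnivClosedMor (w ≫ φ).hom :=
    Groth.Agent.S10276.isUnivClosedMor_comp Z.property Y.property.diag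
      (Groth.Agent.Lib.helper18.isUnivClosedMor_of_repWith_isClosedImmersion _ hw1) hφ
  have hhc : IsUnivClosedMor h.hom :=
    ((Groth.Agent.S10278.result h (w ≫ φ) i' hh (isSeparatedMor_of_closedImmersion i' hi'1)).1 hwφ).1
  refine ⟨Z', i', hi'1, hi'2, ?_⟩
  refine isProperMor_of_surjective_univClosed h (w ≫ p) (i' ≫ b) ?_ hsurj hhc hWB ?_
  · rw [← Category.assoc, hh, Category.assoc, comm]
  · exact Groth.Agent.S10276.locP_lft_comp Y.property i'.hom b.hom
      (locP_lft_of_closedImmersion Z'.property Y.property hi'1) hb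

end Groth.Agent.Lib.helper5.ProperSurj
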