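import Groth.Agent.S9926
import Groth.Agent.S10279
import Groth.Agent.S9925
import Groth.Agent.S10276
import Groth.Agent.S10277
import Groth.Agent.S9888
import Groth.Agent.Lib.Helper7.AlgSpMono
import Groth.Agent.Lib.Helper5.AlgSpFpqcIso
import Groth.Agent.Lib.Helper5.AlgSpLocPInst

/-!
# Properness of the target of a surjective universally closed morphism (helper5)

* `isProperMor_of_surjective_univClosed`: `h : A ⟶ B` surjective and universally closed over `Y`, `A ⟶ Y` proper,
  `B ⟶ Y` locally of finite type ⟹ `B ⟶ Y` proper.
* `locP_lft_of_closedImmersion`, `closedImmersion_cancel`, `injective_map_of_closedImmersion`,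
  `isClosed_range_of_closedImmersion`.
-/

set_option autoImplicit false
universe u
open CategoryTheory CategoryTheory.Limits AlgebraicGeometry
open AlgSp

namespace Groth.Agent.Lib.helper5.ProperSurj

variable {S : Scheme.{u}}

/-- The target of a surjective universally closed morphism from a space proper over `Y` is proper over `Y` as soon as
it is locally of finite type over `Y`. -/
theorem isProperMor_of_surjective_univClosed {A B Y : Space S} (h : A ⟶ B) (a : A ⟶ Y) (b : B ⟶ Y)
    (comm : h ≫ b = a) (hs : IsSurjectiveMor h.hom) (hc : IsUnivClosedMor h.hom) (ha : IsProperMor a.hom)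
    (hb : LocP @LocallyOfFiniteType b.hom) : IsProperMor b.hom := by
  obtain ⟨a1, ⟨a2, a3⟩, a4⟩ := ha
  have hbc : IsUnivClosedMor b.hom := Groth.Agent.S10279.result h a b comm a4 hs
  exact ⟨(Groth.Agent.S9926.result h a b comm hs hc).2 a1, ⟨hb, Groth.Agent.S9925.result b hbc⟩, hbc⟩

theorem le_mono_closedImmersion :
    (@IsClosedImmersion : MorphismProperty Scheme.{u}) ≤ MorphismProperty.monomorphisms Scheme.{u} := by
  intro _ _ f hf
  have : IsClosedImmersion f := hf
  exact MorphismProperty.monomorphisms.infer_property f

theorem mono_of_closedImmersion {F G : Sp S} {j : F ⟶ G} (hj : RepWith @IsClosedImmersion j) : Mono j :=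
  Groth.Agent.Lib.helper7.mono_of_repWith le_mono_closedImmersion hj

theorem injective_map_of_closedImmersion {F G : Sp S} {j : F ⟶ G} (hj : RepWith @IsClosedImmersion j) :
    Function.Injective (Points.map j) := by
  have := mono_of_closedImmersion hj
  exact Groth.Agent.Lib.helper5.FpqcIso.injective_map_of_mono j

theorem isClosed_range_of_closedImmersion {F G : Sp S} {j : F ⟶ G} (hj : RepWith @IsClosedImmersion j) :
    IsClosed (Set.range (Points.map j)) :=
  (Groth.Agent.Lib.helper18.isClosedMap_of_repWith_isClosedImmersion j hj).isClosed_range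

/-- A closed subspace contained in a closed subspace is a closed subspace of it. -/
theorem closedImmersion_cancel {F F₁ F₂ : Sp S} (hF : IsAlgSpace F) {f₁ : F₁ ⟶ F} {f₂ : F₂ ⟶ F}
    (h₁ : RepWith @IsClosedImmersion f₁) (h₂ : RepWith @IsClosedImmersion f₂) (g : F₁ ⟶ F₂)
    (w : g ≫ f₂ = f₁) : RepWith @IsClosedImmersion g := by
  refine Groth.Agent.S9888.result S F F₁ F₂ hF f₁ f₂ @IsClosedImmersion h₁ ?_ g w
  exact Groth.Agent.Lib.helper18.repWith_mono (fun _ _ f hf => by
    have : IsClosedImmersion f := hf
    exact (inferInstance : IsImmersion f)) h₂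

/-- A closed immersion of algebraic spaces is locally of finite type. -/
theorem locP_lft_of_closedImmersion {F G : Sp S} (hF : IsAlgSpace F) (hG : IsAlgSpace G) {j : F ⟶ G}
    (hj : RepWith @IsClosedImmersion j) : LocP @LocallyOfFiniteType j := by
  refine (Groth.Agent.H1.Seven.locP_iff_repWith Groth.Agent.Lib.helper5.LocPBC.locPData_lft hF hG j hj.1).2 ?_
  exact Groth.Agent.Lib.helper18.repWith_mono (fun _ _ f hf => by
    have : IsClosedImmersion f := hf
    exact (inferInstance : LocallyOfFiniteType f)) hj

end Groth.Agent.Lib.helper5.ProperSurj
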