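import Groth.Agent.Lib.Helper5.AlgSpAffDesc3
import Groth.Agent.Lib.Helper5.AffDescRing2
import Groth.Agent.S10531

/-!
Quasi-affine descent for algebraic spaces (helper5).
-/

set_option autoImplicit false
universe u
open CategoryTheory CategoryTheory.Limits AlgebraicGeometry Opposite
open AlgSp

namespace Groth.Agent.Lib.helper5.QAffDesc

open Groth.Agent.Lib.helper5.AffDesc

variable {S : Scheme.{u}}

section BaseChange

variable {T U R Y W XW YW : Over S} {F : Sp S}

/-- The key step: the comparison morphism `ζ : X_W ⟶ Y_W` induces a bijection on global sections, for any scheme `X_W`. -/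
theorem bijective_appTop_zeta [IsAffine T.left] [IsAffine U.left] [IsAffine R.left] [IsAffine Y.left]
    [IsAffine W.left]
    (s : F ⟶ (yon S).obj T) (p : (yon S).obj U ⟶ F) (t : U ⟶ T) (ht : (yon S).map t = p ≫ s)
    (r₁ r₂ : R ⟶ U) (hKP : IsPullback ((yon S).map r₁) ((yon S).map r₂) p p)
    (hpe : RepWith @Etale p) (hps : RepWith @Surjective p)
    (tY : Y ⟶ T) (u : U ⟶ Y) (hu : u ≫ tY = t) (hinj : Function.Injective u.left.appTop.hom)
    (hrange : ∀ x : Γ(U.left, ⊤), r₁.left.appTop.hom x = r₂.left.appTop.hom x →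
      x ∈ Set.range u.left.appTop.hom)
    (c : F ⟶ (yon S).obj Y) (hc : p ≫ c = (yon S).map u)
    (w : W ⟶ T) [Flat w.left] (aW : (yon S).obj XW ⟶ F) (πW : XW ⟶ W)
    (sqW : IsPullback aW ((yon S).map πW) s ((yon S).map w))
    (yW : YW ⟶ Y) (qW : YW ⟶ W) (sqY : IsPullback yW qW tY w)
    (ζ : XW ⟶ YW) (hζ1 : (yon S).map ζ ≫ (yon S).map yW = aW ≫ c) (hζ2 : ζ ≫ qW = πW) :
    Function.Bijective ζ.left.appTop.hom := by
  -- step 1: the chart `U_W` of `X_W`
  obtain ⟨UW, pW, bU', sqU⟩ := hpe.1 aW
  obtain ⟨bU, rfl⟩ := (yon S).map_surjective bU'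
  have hpWe : Etale pW.left := hpe.2 _ _ _ sqU
  have hpWs : Surjective pW.left := hps.2 _ _ _ sqU
  -- step 2: `R_W`
  have sqR0 : IsPullback (pullback.fst r₁ bU) (pullback.snd r₁ bU) r₁ bU :=
    IsPullback.of_hasPullback _ _
  have sqR1 : IsPullback ((yon S).map (pullback.fst r₁ bU))
      ((yon S).map (pullback.snd r₁ bU) ≫ (yon S).map pW) ((yon S).map r₁ ≫ p) aW :=
    (sqR0.map (yon S)).paste_vert sqU
  have hk2 : ((yon S).map (pullback.fst r₁ bU) ≫ (yon S).map r₂) ≫ p =
      ((yon S).map (pullback.snd r₁ bU) ≫ (yon S).map pW) ≫ aW := by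
    rw [Category.assoc, ← hKP.w, ← sqR1.w]
  obtain ⟨k₂', hk2a, hk2b⟩ := sqU.exists_lift _ _ hk2
  obtain ⟨k₂, rfl⟩ := (yon S).map_surjective k₂'
  have sqKP : IsPullback ((yon S).map (pullback.snd r₁ bU)) ((yon S).map k₂) ((yon S).map pW)
      ((yon S).map pW) :=
    isPullback_kernelPair_baseChange hKP sqU sqR1 ((sqR0.map (yon S)).w.symm) rfl hk2a hk2b
  have sqKPl := isPullback_left_of_yon sqKP
  -- step 3: pullback squares of schemes over `T`
  have sqUT : IsPullback ((yon S).map bU) ((yon S).map (pW ≫ πW)) ((yon S).map t)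
      ((yon S).map w) := by
    have := sqU.paste_vert sqW
    rw [← ht, ← Functor.map_comp] at this
    exact this
  have sqUTo := isPullback_of_yon sqUT
  have sqUTl : IsPullback bU.left (pW ≫ πW).left t.left w.left := sqUTo.map (Over.forget S)
  have sqRTo : IsPullback (pullback.fst r₁ bU) (pullback.snd r₁ bU ≫ pW ≫ πW) (r₁ ≫ t) w :=
    sqR0.paste_vert sqUTo
  have sqRTl : IsPullback (pullback.fst r₁ bU).left (pullback.snd r₁ bU ≫ pW ≫ πW).left
      (r₁ ≫ t).left w.left := sqRTo.map (Over.forget S)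
  have sqYl : IsPullback yW.left qW.left tY.left w.left := sqY.map (Over.forget S)
  -- affineness
  have hUW : IsAffine UW.left := IsAffine.of_isPullback sqUTl
  have hRW : IsAffine (pullback r₁ bU).left := IsAffine.of_isPullback sqRTl
  have hYW : IsAffine YW.left := IsAffine.of_isPullback sqYl
  -- the morphism `u_W`
  have hr : r₁ ≫ t = r₂ ≫ t := (yon S).map_injective (by
    rw [Functor.map_comp, Functor.map_comp, ht, ← Category.assoc, hKP.w, Category.assoc])
  have huW0 : (bU ≫ u) ≫ tY = (pW ≫ πW) ≫ w := by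
    rw [Category.assoc, hu, sqUTo.w]
  have huW1 : sqY.lift (bU ≫ u) (pW ≫ πW) huW0 ≫ yW = bU ≫ u := sqY.lift_fst _ _ _
  have huW2 : sqY.lift (bU ≫ u) (pW ≫ πW) huW0 ≫ qW = pW ≫ πW := sqY.lift_snd _ _ _
  have hpζ : pW ≫ ζ = sqY.lift (bU ≫ u) (pW ≫ πW) huW0 := by
    apply sqY.hom_ext
    · rw [huW1]
      apply (yon S).map_injective
      rw [Functor.map_comp, Functor.map_comp, Functor.map_comp, Category.assoc, hζ1,
        ← Category.assoc, ← sqU.w, Category.assoc, hc]
    · rw [huW2, Category.assoc, hζ2]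
  have hk2a' : k₂ ≫ bU = pullback.fst r₁ bU ≫ r₂ := (yon S).map_injective (by
    rw [Functor.map_comp, Functor.map_comp]; exact hk2a)
  have hk2b' : k₂ ≫ pW = pullback.snd r₁ bU ≫ pW := (yon S).map_injective (by
    rw [Functor.map_comp, Functor.map_comp]; exact hk2b)
  -- injectivity of `Γ(X_W) ⟶ Γ(U_W)`
  have hflatpW : Flat pW.left := inferInstance
  have hepi : Epi pW.left := Flat.epi_of_flat_of_surjective pW.left
  have hinjpW : Function.Injective pW.left.appTop.hom := by
    have h1 : Epi (Scheme.Γ.rightOp.map pW.left) := inferInstance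
    have h2 : Mono (Scheme.Γ.rightOp.map pW.left).unop := unop_mono_of_epi _
    exact (ConcreteCategory.mono_iff_injective_of_preservesPullback _).1 h2
  -- the ring-level statement
  refine Groth.Agent.Lib.helper5.AffDescRing2.bijective_theta' w.left.appTop t.left.appTop r₁.left.appTop r₂.left.appTop
    bU.left.appTop (pW ≫ πW).left.appTop (pullback.fst r₁ bU).left.appTop
    (pullback.snd r₁ bU ≫ pW ≫ πW).left.appTop (pullback.snd r₁ bU).left.appTop k₂.left.appTop
    tY.left.appTop u.left.appTop yW.left.appTop qW.left.appTop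
    (sqY.lift (bU ≫ u) (pW ≫ πW) huW0).left.appTop pW.left.appTop ζ.left.appTop
    ?_ ?_ ?_ ?_ ?_ ?_ ?_ ?_ ?_ ?_ ?_ ?_ hinj hrange ?_ hinjpW ?_
  · rw [appTop_comp_left, appTop_comp_left, hr]
  · exact isPushout_appTop_of_isPullback sqUTl
  · rw [appTop_comp_left]
    exact isPushout_appTop_of_isPullback sqRTl
  · exact isPushout_appTop_of_isPullback sqYl
  · rw [appTop_comp_left, hu]
  · rw [appTop_comp_left, appTop_comp_left, sqR0.w]
  · rw [appTop_comp_left, appTop_comp_left, hk2a']
  · rw [appTop_comp_left]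
  · rw [appTop_comp_left, ← Category.assoc, hk2b', Category.assoc]
  · rw [appTop_comp_left, appTop_comp_left, huW1]
  · rw [appTop_comp_left, huW2]
  · exact Scheme.Hom.flat_appTop w.left
  · rw [appTop_comp_left, appTop_comp_left, hk2b']
  · rw [appTop_comp_left, hpζ]

end BaseChange


/-- A morphism from a quasi-affine scheme to an affine scheme inducing a bijection on global sections is an open immersion. -/
theorem isOpenImmersion_of_bijective_appTop {X Y : Scheme.{u}} [X.IsQuasiAffine] [IsAffine Y] (ζ : X ⟶ Y)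
    (h : Function.Bijective ζ.appTop.hom) : IsOpenImmersion ζ := by
  have hiso : IsIso ζ.appTop := (ConcreteCategory.isIso_iff_bijective _).2 h
  have e : ζ = X.toSpecΓ ≫ Spec.map ζ.appTop ≫ inv Y.toSpecΓ := by
    rw [← Category.assoc, ← Scheme.toSpecΓ_naturality, Category.assoc, IsIso.hom_inv_id, Category.comp_id]
  rw [e]
  infer_instance

/-- **Quasi-affine descent for algebraic spaces.** An algebraic space over an affine scheme `T` which becomes a quasi-affine scheme
after base change along a finite flat jointly surjective family of affine schemes is a quasi-affine scheme. -/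
theorem exists_quasiAffine_rep {T : Over S} [IsAffine T.left] {F : Sp S} (hF : IsAlgSpace F)
    (s : F ⟶ (yon S).obj T) {m : ℕ} (W : Fin m → Over S) (w : ∀ j, W j ⟶ T)
    (hWa : ∀ j, IsAffine (W j).left) (hflat : ∀ j, Flat (w j).left)
    (hsurj : ∀ y : ↥T.left, ∃ j, y ∈ Set.range (w j).left)
    (X : Fin m → Over S) (hXa : ∀ j, (X j).left.IsQuasiAffine) (a : ∀ j, (yon S).obj (X j) ⟶ F)
    (π : ∀ j, X j ⟶ W j)
    (sq : ∀ j, IsPullback (a j) ((yon S).map (π j)) s ((yon S).map (w j))) :
    ∃ (Y : Over S) (tY : Y ⟶ T) (c : F ⟶ (yon S).obj Y), Y.left.IsQuasiAffine ∧ IsIso c ∧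
      c ≫ (yon S).map tY = s := by
  have hcovT := isFpqcCover_of_affine_family (Y := T) W w hWa hflat hsurj
  have hTalg : IsAlgSpace ((yon S).obj T) := IsAlgSpace.yon_obj T
  -- `s` is quasi-compact and separated
  have hqcm : IsQuasiCompactMor s := by
    refine (Groth.Agent.S10519.result S (fun i : ULift.{u} (Fin m) => (yon S).obj (W i.down))
      (fun i => (yon S).map (w i.down)) hTalg (fun i => IsAlgSpace.yon_obj _) hcovT s hF
      (fun i => (yon S).obj (X i.down)) (fun i => (yon S).map (π i.down)) (fun i => a i.down)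
      (fun i => IsAlgSpace.yon_obj _) (fun i => sq i.down)).2 ?_
    intro i
    apply Groth.Agent.Lib.helper7.AlgSpQC.isQuasiCompactMor_of_repWith
    refine (repWith_yon_map_iff _ _).2 ?_
    have := hXa i.down
    have := hWa i.down
    show QuasiCompact (π i.down).left
    infer_instance
  have hsep : IsSeparatedMor s := by
    refine (Groth.Agent.S10535.result S (fun i : ULift.{u} (Fin m) => (yon S).obj (W i.down))
      (fun i => (yon S).map (w i.down)) hTalg (fun i => IsAlgSpace.yon_obj _) hcovT s hF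
      (fun i => (yon S).obj (X i.down)) (fun i => (yon S).map (π i.down)) (fun i => a i.down)
      (fun i => IsAlgSpace.yon_obj _) (fun i => sq i.down)).2 ?_
    intro i
    refine (isSeparatedMor_yon_map_iff _).2 ?_
    have := hXa i.down
    have := hWa i.down
    show IsSeparated (π i.down).left
    infer_instance
  have hqcF : IsQuasiCompactSp F :=
    hqcm hTalg (Groth.Agent.Lib.helper7.AlgSpQC.isQuasiCompactSp_yon T) (𝟙 _) (𝟙 F) s
      (IsPullback.id_horiz s)
  have hcomp : CompactSpace (Points F) :=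
    Groth.Agent.Lib.helper7.AlgSpFibre.compactSpace_of_isQuasiCompactSp hqcF
  -- an affine chart
  obtain ⟨U₀, p₀, hp₀e, hp₀s⟩ := hF.atlas
  obtain ⟨U, p, hUa, hpe, hps⟩ :=
    Groth.Agent.Lib.helper11.exists_affine_chart_of_compactSpace p₀ hp₀e hp₀s
  obtain ⟨t, ht⟩ := (yon S).map_surjective (p ≫ s)
  -- the kernel pair
  obtain ⟨R, r₂, r₁', hKP'⟩ := hF.representable_from_yon p p
  obtain ⟨r₁, rfl⟩ := (yon S).map_surjective r₁'
  have hRa : IsAffine R.left := isAffine_kernelPair s hsep p t ht r₁ r₂ hKP'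
  have hr : r₁ ≫ t = r₂ ≫ t := (yon S).map_injective (by
    rw [Functor.map_comp, Functor.map_comp, ht, ← Category.assoc, hKP'.w, Category.assoc])
  -- the quotient
  obtain ⟨Y, tY, u, hYa, hu, hru, hinj, hrange⟩ := exists_quot t r₁ r₂ hr
  -- `p` is an epimorphism
  have hpepi : Epi p := EtMono.epi_of_etale_surjective (IsAlgSpace.yon_obj U) p
    (fun _ φ hφ => (RepWith (S := S) @Etale).comp_mem φ p hφ hpe)
    (surjective_map_of_repWith_surjective p hps)
  obtain ⟨c, hc⟩ := exists_desc_of_epi p hKP' ((yon S).map u) (by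
    rw [← Functor.map_comp, ← Functor.map_comp, hru])
  have hcs : c ≫ (yon S).map tY = s := by
    rw [← cancel_epi p, ← Category.assoc, hc, ← Functor.map_comp, hu, ht]
  -- base change of `Y`
  have sqY : ∀ j, IsPullback (pullback.fst tY (w j)) (pullback.snd tY (w j)) tY (w j) :=
    fun j => IsPullback.of_hasPullback _ _
  have sqYl : ∀ j, IsPullback (pullback.fst tY (w j)).left (pullback.snd tY (w j)).left tY.left
      (w j).left := fun j => (sqY j).map (Over.forget S)
  have hcovY : IsFpqcCover (S := S) (ι := ULift.{u} (Fin m)) (X := (yon S).obj Y)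
      (fun i => (yon S).obj (pullback tY (w i.down)))
      (fun i => (yon S).map (pullback.fst tY (w i.down))) := by
    refine isFpqcCover_of_affine_family (Y := Y) (fun j => pullback tY (w j))
      (fun j => pullback.fst tY (w j)) (fun j => ?_) (fun j => ?_) (fun y => ?_)
    · have := hWa j
      exact IsAffine.of_isPullback (sqYl j)
    · have := hflat j
      exact MorphismProperty.of_isPullback (P := @Flat) (sqYl j).flip inferInstance
    · obtain ⟨j, t', ht'⟩ := hsurj (tY.left y)
      obtain ⟨v, hv1, -⟩ := exists_preimage_of_isPullback (sqYl j) y t' ht'.symm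
      exact ⟨j, v, hv1⟩
  -- the comparison morphisms
  have hx : ∀ j, ∃ x : X j ⟶ Y, (yon S).map x = a j ≫ c := fun j => (yon S).map_surjective _
  choose x hx using hx
  have hxw : ∀ j, x j ≫ tY = π j ≫ w j := fun j => (yon S).map_injective (by
    rw [Functor.map_comp, Functor.map_comp, hx, Category.assoc, hcs, (sq j).w])
  have hζ1 : ∀ j, (sqY j).lift (x j) (π j) (hxw j) ≫ pullback.fst tY (w j) = x j :=
    fun j => (sqY j).lift_fst _ _ _
  have hζ2 : ∀ j, (sqY j).lift (x j) (π j) (hxw j) ≫ pullback.snd tY (w j) = π j :=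
    fun j => (sqY j).lift_snd _ _ _
  have sqζ : ∀ j, IsPullback (a j) ((yon S).map ((sqY j).lift (x j) (π j) (hxw j))) c
      ((yon S).map (pullback.fst tY (w j))) := by
    intro j
    refine IsPullback.of_bot (h₃₁ := (yon S).map (w j)) (v₂₁ := (yon S).map (pullback.snd tY (w j)))
      (v₂₂ := (yon S).map tY) ?_ ?_ ((sqY j).map (yon S))
    · rw [← Functor.map_comp, hζ2, hcs]
      exact sq j
    · rw [← Functor.map_comp, hζ1, hx]
  have hoi : RepWith @IsOpenImmersion c := by
    refine (Groth.Agent.S10531.result S (fun i : ULift.{u} (Fin m) => (yon S).obj (pullback tY (w i.down)))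
      (fun i => (yon S).map (pullback.fst tY (w i.down))) (IsAlgSpace.yon_obj Y)
      (fun i => IsAlgSpace.yon_obj _) hcovY c hF
      (fun i => (yon S).obj (X i.down))
      (fun i => (yon S).map ((sqY i.down).lift (x i.down) (π i.down) (hxw i.down)))
      (fun i => a i.down)
      (fun i => IsAlgSpace.yon_obj _) (fun i => sqζ i.down)).2 ?_
    intro i
    have := hWa i.down
    have := hXa i.down
    have := hflat i.down
    have hbij : Function.Bijective ((sqY i.down).lift (x i.down) (π i.down) (hxw i.down)).left.appTop.hom :=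
      bijective_appTop_zeta s p t ht r₁ r₂ hKP' hpe hps tY u hu hinj hrange c hc (w i.down) (a i.down)
        (π i.down) (sq i.down) (pullback.fst tY (w i.down)) (pullback.snd tY (w i.down))
        (sqY i.down) _ (by rw [← Functor.map_comp, hζ1, hx]) (hζ2 i.down)
    have hYWa : IsAffine (pullback tY (w i.down)).left := IsAffine.of_isPullback (sqYl i.down)
    refine (repWith_yon_map_iff _ _).2 ?_
    exact isOpenImmersion_of_bijective_appTop _ hbij
  obtain ⟨Y', i, fst, sqc⟩ := hoi.1 (𝟙 ((yon S).obj Y))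
  have hfst : IsIso fst := sqc.isIso_fst_of_isIso
  have hi : IsOpenImmersion i.left := hoi.2 _ _ _ sqc
  have hcc : inv fst ≫ (yon S).map i = c := by
    rw [IsIso.inv_comp_eq, sqc.w, Category.comp_id]
  have hqcY' : IsQuasiCompactSp ((yon S).obj Y') := by
    obtain ⟨U₁, p₁, hp₁e, hp₁s, hU₁⟩ := hqcF
    exact ⟨U₁, p₁ ≫ inv fst, MorphismProperty.RespectsIso.postcomp _ _ _ hp₁e,
      MorphismProperty.RespectsIso.postcomp _ _ _ hp₁s, hU₁⟩
  have hcY' : CompactSpace ↥Y'.left :=
    Groth.Agent.Lib.helper7.AlgSpQC.compactSpace_of_isQuasiCompactSp_yon Y' hqcY'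
  refine ⟨Y', i ≫ tY, inv fst, ?_, inferInstance, ?_⟩
  · have : Y.left.IsQuasiAffine := inferInstance
    exact Scheme.IsQuasiAffine.of_isImmersion i.left
  · rw [Functor.map_comp, ← Category.assoc, hcc, hcs]

end Groth.Agent.Lib.helper5.QAffDesc
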