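import Groth.Agent.S10184
import Groth.Agent.S10351
import Groth.Agent.Lib.Helper5.AlgSpFibreProduct

/-!
# Quasi-separated morphisms to affine schemes (helper5)

* `isQuasiSeparatedSp_of_isQuasiSeparatedMor_affine`: an algebraic space with a quasi-separated morphism to an affine
  scheme over `S` is quasi-separated over `S`.
* `isDecent_yon`: schemes are decent.
-/

set_option autoImplicit false
universe u
open CategoryTheory CategoryTheory.Limits AlgebraicGeometry AlgSp Opposite

namespace Groth.Agent.Lib.helper5.QSep

variable {S : Scheme.{u}}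

/-- An algebraic space with a quasi-separated morphism to an affine scheme over `S` is quasi-separated over `S`. -/
theorem isQuasiSeparatedSp_of_isQuasiSeparatedMor_affine {P : Sp S} (hP : IsAlgSpace P) {Z : Over S}
    [IsAffine Z.left] (i : P ⟶ (yon S).obj Z) (hi : IsQuasiSeparatedMor i) : IsQuasiSeparatedSp P := by
  refine Groth.Agent.S10184.result ⟨P, hP⟩ ?_
  intro U V W a b fst snd hU hV sq
  change (yon S).obj U ⟶ P at a
  change (yon S).obj V ⟶ P at b
  obtain ⟨α, hα⟩ := (yon S).map_surjective (a ≫ i)
  obtain ⟨β, hβ⟩ := (yon S).map_surjective (b ≫ i)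
  -- the map `pullback a b ⟶ pullback (a ≫ i) (b ≫ i)` is quasi-compact
  have hm : RepWith @QuasiCompact (pullback.map a b (a ≫ i) (b ≫ i) (𝟙 _) (𝟙 _) i
      (Category.id_comp _).symm (Category.id_comp _).symm) :=
    (repWith_isStableUnderBaseChange (S := S) @QuasiCompact).of_isPullback
      (pullback_map_diagonal_isPullback a b i) hi
  -- `E₀ = U ×_Z V`
  have sqE : IsPullback ((yon S).map (pullback.fst α β)) ((yon S).map (pullback.snd α β)) (a ≫ i) (b ≫ i) := by
    have := (IsPullback.of_hasPullback α β).map (yon S)
    rwa [hα, hβ] at this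
  -- `e : W ⟶ E₀`
  have hw : (fst ≫ α) = (snd ≫ β) := by
    apply (yon S).map_injective
    rw [Functor.map_comp, Functor.map_comp, hα, hβ, ← Category.assoc, ← Category.assoc, sq.w]
  let e : W ⟶ pullback α β := pullback.lift fst snd hw
  have he1 : e ≫ pullback.fst α β = fst := pullback.lift_fst _ _ _
  have he2 : e ≫ pullback.snd α β = snd := pullback.lift_snd _ _ _
  have sqM : IsPullback sq.isoPullback.hom ((yon S).map e)
      (pullback.map a b (a ≫ i) (b ≫ i) (𝟙 _) (𝟙 _) i (Category.id_comp _).symm (Category.id_comp _).symm)
      sqE.isoPullback.hom := by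
    refine IsPullback.of_horiz_isIso ⟨?_⟩
    apply pullback.hom_ext
    · rw [Category.assoc, Category.assoc, pullback.lift_fst, IsPullback.isoPullback_hom_fst,
        ← Category.assoc, IsPullback.isoPullback_hom_fst, ← Functor.map_comp, he1, Category.comp_id]
    · rw [Category.assoc, Category.assoc, pullback.lift_snd, IsPullback.isoPullback_hom_snd,
        ← Category.assoc, IsPullback.isoPullback_hom_snd, ← Functor.map_comp, he2, Category.comp_id]
  have hqc : QuasiCompact e.left := hm.2 _ _ _ sqM
  have haff : IsAffine (pullback α β).left := by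
    have sqL : IsPullback (pullback.fst α β).left (pullback.snd α β).left α.left β.left :=
      (IsPullback.of_hasPullback α β).map (Over.forget S)
    have : IsAffine (pullback α.left β.left) := inferInstance
    exact IsAffine.of_isIso sqL.isoPullback.hom
  exact QuasiCompact.compactSpace_of_compactSpace e.left

/-- Schemes are decent. -/
theorem isDecent_yon (T : Over S) : IsDecent ((yon S).obj T) := by
  intro x
  obtain ⟨t, rfl⟩ := (Points.schemeEquiv T).surjective x
  refine ⟨FieldPt.ofPt (𝟙 _) t, rfl, ?_, ?_⟩
  · rw [FieldPt.toHom_ofPt, Category.comp_id]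
    have hm : ∀ {A : Over S} (m : A ⟶ T), Mono m.left → Mono ((yon S).map m) := by
      intro A m h
      have : Mono m := (Over.forget S).mono_of_mono_map h
      infer_instance
    exact hm _ (inferInstanceAs (Mono (T.left.fromSpecResidueField t)))
  · rw [FieldPt.toHom_ofPt, Category.comp_id]
    exact (repWith_yon_map_iff @QuasiCompact _).2 (Groth.Agent.S10351.qc_fromSpecResidueField t)

end Groth.Agent.Lib.helper5.QSep
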