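import Mathlib

/-!
# Lifting along nil ideals (helper5)

* `exists_algHom_lift_of_nil`: for a smooth `B`-algebra `C` (formally smooth and of finite presentation)
  and a surjection `π : A →ₐ[B] Ā` of `B`-algebras whose kernel consists of nilpotent elements, every
  `B`-algebra map `C → Ā` lifts to `C → A`.
* `exists_standardEtalePair_lift_of_nil`, `exists_etale_lift_ring_of_nil`: étale algebras over `A ⧸ I`,
  `I` a nil ideal, lift locally to étale algebras over `A`.
-/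

set_option autoImplicit false
universe u

open Polynomial TensorProduct

namespace Groth.Agent.Lib.helper5.NilLift

/-- Lifting algebra maps out of a smooth algebra along a surjection with nil kernel. -/
theorem exists_algHom_lift_of_nil {B C A Ab : Type*} [CommRing B] [CommRing C] [CommRing A]
    [CommRing Ab] [Algebra B C] [Algebra B A] [Algebra B Ab] [Algebra.FormallySmooth B C]
    [Algebra.FinitePresentation B C] (π : A →ₐ[B] Ab) (hπ : Function.Surjective π)
    (hnil : RingHom.ker π.toRingHom ≤ nilradical A) (φb : C →ₐ[B] Ab) :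
    ∃ φ : C →ₐ[B] A, π.comp φ = φb := by
  classical
  obtain ⟨n, f, hf, hK⟩ := Algebra.FinitePresentation.out (R := B) (A := C)
  choose a ha using fun i : Fin n => hπ (φb (f (MvPolynomial.X i)))
  let ev : MvPolynomial (Fin n) B →ₐ[B] A := MvPolynomial.aeval a
  have hev : π.comp ev = φb.comp f := by
    apply MvPolynomial.algHom_ext
    intro i
    simp [ev, ha]
  let K : Ideal (MvPolynomial (Fin n) B) := RingHom.ker f.toRingHom
  let I₀ : Ideal A := Ideal.map ev.toRingHom K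
  have hI₀fg : I₀.FG := hK.map _
  have hI₀le : I₀ ≤ RingHom.ker π.toRingHom := by
    rw [Ideal.map_le_iff_le_comap]
    intro k hk
    rw [Ideal.mem_comap, RingHom.mem_ker]
    have h1 : π (ev k) = φb (f k) := AlgHom.congr_fun hev k
    have h2 : f k = 0 := hk
    show π (ev k) = 0
    rw [h1, h2, map_zero]
  have hI₀nil : IsNilpotent I₀ := hI₀fg.isNilpotent_iff_le_nilradical.2 (hI₀le.trans hnil)
  -- the map `C → A ⧸ I₀`
  have hKle : ∀ k ∈ K, ((Ideal.Quotient.mkₐ B I₀).comp ev) k = 0 := by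
    intro k hk
    show Ideal.Quotient.mk I₀ (ev k) = 0
    rw [Ideal.Quotient.eq_zero_iff_mem]
    exact Ideal.mem_map_of_mem _ hk
  let ψ₁ : (MvPolynomial (Fin n) B ⧸ K) →ₐ[B] A ⧸ I₀ :=
    Ideal.Quotient.liftₐ K ((Ideal.Quotient.mkₐ B I₀).comp ev) hKle
  let e : (MvPolynomial (Fin n) B ⧸ K) ≃ₐ[B] C := Ideal.quotientKerAlgEquivOfSurjective hf
  let ψ₀ : C →ₐ[B] A ⧸ I₀ := ψ₁.comp e.symm.toAlgHom
  have hψ₀ : ∀ p, ψ₀ (f p) = Ideal.Quotient.mk I₀ (ev p) := by
    intro p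
    have h1 : e.symm (f p) = Ideal.Quotient.mk K p := by
      apply e.injective
      rw [AlgEquiv.apply_symm_apply]
      rfl
    show ψ₁ (e.symm (f p)) = _
    rw [h1]
    rfl
  have hker : RingHom.ker ((Ideal.Quotient.mkₐ B I₀ : A →ₐ[B] A ⧸ I₀) : A →+* A ⧸ I₀) = I₀ :=
    Ideal.mk_ker
  let φ : C →ₐ[B] A := Algebra.FormallySmooth.liftOfSurjective ψ₀ (Ideal.Quotient.mkₐ B I₀)
    Ideal.Quotient.mk_surjective (by rw [hker]; exact hI₀nil)
  have hφ : ∀ c, Ideal.Quotient.mk I₀ (φ c) = ψ₀ c := fun c =>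
    Algebra.FormallySmooth.liftOfSurjective_apply ψ₀ (Ideal.Quotient.mkₐ B I₀) _ _ c
  refine ⟨φ, ?_⟩
  ext c
  obtain ⟨p, rfl⟩ := hf c
  have h1 : Ideal.Quotient.mk I₀ (φ (f p)) = Ideal.Quotient.mk I₀ (ev p) := by
    rw [hφ, hψ₀]
  rw [Ideal.Quotient.eq] at h1
  have h2 : π (φ (f p) - ev p) = 0 := hI₀le h1
  rw [map_sub, sub_eq_zero] at h2
  show π (φ (f p)) = φb (f p)
  rw [h2]
  exact AlgHom.congr_fun hev p


/-- A polynomial all of whose coefficients lie in a nil ideal is nilpotent. -/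
theorem isNilpotent_of_mem_map_C {A : Type u} [CommRing A] (I : Ideal A) (hI : I ≤ nilradical A)
    (ε : A[X]) (hε : ε ∈ Ideal.map (C : A →+* A[X]) I) : IsNilpotent ε := by
  rw [Polynomial.isNilpotent_iff]
  intro i
  exact hI (Ideal.mem_map_C_iff.1 hε i)

theorem exists_standardEtalePair_lift_of_nil {A : Type u} [CommRing A] (I : Ideal A)
    (hI : I ≤ nilradical A) (Q : StandardEtalePair (A ⧸ I)) :
    ∃ P : StandardEtalePair A, P.map (algebraMap A (A ⧸ I)) = Q := by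
  have hsurj : Function.Surjective (algebraMap A (A ⧸ I)) := Ideal.Quotient.mk_surjective
  obtain ⟨f, hf, -, hfm⟩ := Polynomial.lifts_and_natDegree_eq_and_monic
    (Polynomial.mem_lifts_of_surjective hsurj Q.f) Q.monic_f
  obtain ⟨g, hg⟩ := Polynomial.map_surjective _ hsurj Q.g
  obtain ⟨p₁', p₂', n, e⟩ := Q.cond
  obtain ⟨p₁, hp₁⟩ := Polynomial.map_surjective _ hsurj p₁'
  obtain ⟨p₂, hp₂⟩ := Polynomial.map_surjective _ hsurj p₂'
  set ε : A[X] := derivative f * p₁ + f * p₂ - g ^ n with hε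
  have hε0 : ε.map (algebraMap A (A ⧸ I)) = 0 := by
    rw [hε, Polynomial.map_sub, Polynomial.map_add, Polynomial.map_mul, Polynomial.map_mul,
      Polynomial.map_pow, ← Polynomial.derivative_map, hf, hg, hp₁, hp₂, e, sub_self]
  have hεI : ε ∈ Ideal.map (C : A →+* A[X]) I := by
    have h1 : ε ∈ RingHom.ker (Polynomial.mapRingHom (algebraMap A (A ⧸ I))) := by
      rw [RingHom.mem_ker]
      exact hε0
    rw [Polynomial.ker_mapRingHom] at h1
    have h2 : RingHom.ker (algebraMap A (A ⧸ I)) = I := Ideal.mk_ker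
    rwa [h2] at h1
  obtain ⟨N, hN⟩ := isNilpotent_of_mem_map_C I hI ε hεI
  -- `(gⁿ + ε) * s = (gⁿ)^N` with `s = Σ (gⁿ)^k (-ε)^(N-1-k)`
  let s : A[X] := ∑ k ∈ Finset.range N, (g ^ n) ^ k * (-ε) ^ (N - 1 - k)
  have hs : (g ^ n + ε) * s = (g ^ n) ^ N := by
    have h1 := Commute.mul_geom_sum₂ (Commute.all (g ^ n) (-ε)) N
    have h2 : (-ε) ^ N = 0 := by rw [neg_pow, hN, mul_zero]
    rw [h2, sub_zero, sub_neg_eq_add] at h1
    exact h1
  refine ⟨⟨f, hfm, g, ⟨p₁ * s, p₂ * s, n * N, ?_⟩⟩, ?_⟩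
  · have h3 : derivative f * p₁ + f * p₂ = g ^ n + ε := by rw [hε]; ring
    rw [pow_mul, ← hs, ← h3]
    ring
  · cases Q
    simp only [StandardEtalePair.map, StandardEtalePair.mk.injEq]
    exact ⟨hf, hg⟩

theorem exists_etale_lift_ring_of_nil {A : Type u} [CommRing A] (I : Ideal A)
    (hI : I ≤ nilradical A)
    {Bb : Type u} [CommRing Bb] [Algebra (A ⧸ I) Bb] [Algebra.Etale (A ⧸ I) Bb]
    (q : Ideal Bb) [q.IsPrime] :
    ∃ g ∉ q, ∃ (B : Type u) (_ : CommRing B) (_ : Algebra A B), Algebra.Etale A B ∧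
      Nonempty ((A ⧸ I) ⊗[A] B ≃ₐ[A ⧸ I] Localization.Away g) := by
  obtain ⟨g, hg, hstd⟩ := Algebra.IsEtaleAt.exists_isStandardEtale (R := A ⧸ I) q
  obtain ⟨⟨Q, x, hx, hbij⟩⟩ := hstd.nonempty_standardEtalePresentation
  obtain ⟨P, rfl⟩ := exists_standardEtalePair_lift_of_nil I hI Q
  refine ⟨g, hg, P.Ring, inferInstance, inferInstance, inferInstance, ⟨?_⟩⟩
  let PP : StandardEtalePresentation A P.Ring :=
    ⟨P, P.X, P.hasMap_X, by simpa [StandardEtalePair.lift_X_left] using Function.bijective_id⟩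
  let e1 := (PP.baseChange (T := A ⧸ I)).equivRing
  let e2 := (⟨P.map (algebraMap A (A ⧸ I)), x, hx, hbij⟩ :
    StandardEtalePresentation (A ⧸ I) (Localization.Away g)).equivRing
  exact e1.trans e2.symm

end Groth.Agent.Lib.helper5.NilLift
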