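import Mathlib
import Groth.Agent.Lib.Helper5.NilLift

/-!
# Lifting étale neighbourhoods along thickenings of affine schemes (helper5)

* `exists_etale_lift_std`: `I` a nil ideal of `A`, `p : W₁ ⟶ Spec (A ⧸ I)` étale, `w₁ ∈ W₁`: there are an
  étale `A`-algebra `B` and an open immersion `Spec ((A ⧸ I) ⊗ B) ⟶ W₁` over `Spec (A ⧸ I)` through `w₁`.
* `exists_etale_lift_nhd_of_thick`: the same for a surjective closed immersion `τ : W ⟶ W'` into an affine
  scheme: an affine étale `c : W'₁ ⟶ W'` and a pullback square `P = W ×_{W'} W'₁` with an open immersion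
  `ι : P ⟶ W₁` over `W` through `w₁`.
-/

set_option autoImplicit false
universe u

open CategoryTheory CategoryTheory.Limits AlgebraicGeometry TensorProduct

namespace Groth.Agent.Lib.helper5.NilLift

theorem exists_etale_lift_std {A : Type u} [CommRing A] (I : Ideal A) (hI : I ≤ nilradical A)
    {W₁ : Scheme.{u}} (p : W₁ ⟶ Spec (.of (A ⧸ I))) [Etale p] (w₁ : W₁) :
    ∃ (B : Type u) (_ : CommRing B) (_ : Algebra A B) (_ : Algebra.Etale A B)
      (ι : Spec (.of ((A ⧸ I) ⊗[A] B)) ⟶ W₁), IsOpenImmersion ι ∧ w₁ ∈ Set.range ι ∧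
      ι ≫ p = Spec.map (CommRingCat.ofHom
        (Algebra.TensorProduct.includeLeft (R := A) (S := A) (A := A ⧸ I) (B := B)).toRingHom) := by
  obtain ⟨_, ⟨(W₀ : W₁.Opens), hW₀ : IsAffineOpen W₀, rfl⟩, hw, -⟩ :=
    W₁.isBasis_affineOpens.exists_subset_of_mem_open (Set.mem_univ w₁) isOpen_univ
  let fs : Spec Γ(W₁, W₀) ⟶ W₁ := hW₀.fromSpec
  let ρ : CommRingCat.of (A ⧸ I) ⟶ Γ(W₁, W₀) := Spec.preimage (fs ≫ p)
  have hρ : Spec.map ρ = fs ≫ p := Spec.map_preimage _
  have hρe : ρ.hom.Etale := by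
    have h1 : Etale (Spec.map ρ) := by
      rw [hρ]
      infer_instance
    exact (HasRingHomProperty.Spec_iff (P := @Etale)).1 h1
  let _ : Algebra (A ⧸ I) Γ(W₁, W₀) := ρ.hom.toAlgebra
  have hρalg : algebraMap (A ⧸ I) Γ(W₁, W₀) = ρ.hom := RingHom.algebraMap_toAlgebra _
  have : Algebra.Etale (A ⧸ I) Γ(W₁, W₀) := hρe
  obtain ⟨y, hy⟩ : ∃ y : ↥(Spec Γ(W₁, W₀)), fs y = w₁ := by
    have : w₁ ∈ Set.range fs := by
      rw [hW₀.range_fromSpec]
      exact hw
    exact this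
  have : y.asIdeal.IsPrime := y.isPrime
  obtain ⟨g, hg, B, _, _, hB, ⟨e⟩⟩ := exists_etale_lift_ring_of_nil I hI y.asIdeal
  let ιL : Spec (.of ((A ⧸ I) ⊗[A] B)) ⟶ W₁ :=
    Spec.map (CommRingCat.ofHom e.symm.toRingEquiv.toRingHom) ≫
      Spec.map (CommRingCat.ofHom (algebraMap Γ(W₁, W₀) (Localization.Away g))) ≫ fs
  have hiso : IsIso (Spec.map (CommRingCat.ofHom e.symm.toRingEquiv.toRingHom)) := by
    have : IsIso (CommRingCat.ofHom e.symm.toRingEquiv.toRingHom) :=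
      (e.symm.toRingEquiv.toCommRingCatIso).isIso_hom
    infer_instance
  refine ⟨B, inferInstance, inferInstance, hB, ιL, ?_, ?_, ?_⟩
  · have hloc : IsOpenImmersion (Spec.map (CommRingCat.ofHom
        (algebraMap Γ(W₁, W₀) (Localization.Away g)))) :=
      IsOpenImmersion.of_isLocalization g
    have hfs : IsOpenImmersion fs := inferInstanceAs (IsOpenImmersion hW₀.fromSpec)
    infer_instance
  · have hyg : y ∈ Set.range (Spec.map (CommRingCat.ofHom
        (algebraMap Γ(W₁, W₀) (Localization.Away g)))) := by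
      have h1 := PrimeSpectrum.localization_away_comap_range (Localization.Away g) g
      have h2 : y ∈ (PrimeSpectrum.basicOpen g : Set (PrimeSpectrum Γ(W₁, W₀))) := hg
      rw [← h1] at h2
      exact h2
    obtain ⟨y', hy'⟩ := hyg
    obtain ⟨y'', hy''⟩ : ∃ y'', (Spec.map (CommRingCat.ofHom e.symm.toRingEquiv.toRingHom)) y'' =
        y' := by
      exact ⟨(inv (Spec.map (CommRingCat.ofHom e.symm.toRingEquiv.toRingHom))) y', by
        rw [← Scheme.Hom.comp_apply, IsIso.inv_hom_id]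
        rfl⟩
    refine ⟨y'', ?_⟩
    show (Spec.map _ ≫ Spec.map _ ≫ fs) y'' = w₁
    rw [Scheme.Hom.comp_apply, Scheme.Hom.comp_apply, hy'', hy', hy]
  · show (Spec.map _ ≫ Spec.map _ ≫ fs) ≫ p = _
    rw [Category.assoc, Category.assoc, ← hρ, ← Spec.map_comp, ← Spec.map_comp]
    congr 1
    ext a
    show e.symm (algebraMap Γ(W₁, W₀) (Localization.Away g) (ρ.hom a)) = _
    rw [← hρalg, ← IsScalarTower.algebraMap_apply, e.symm.commutes]
    rfl

/-- Lifting étale neighbourhoods along a surjective closed immersion into an affine scheme. -/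
theorem exists_etale_lift_nhd_of_thick {W W' W₁ : Scheme.{u}} [IsAffine W'] (τ : W ⟶ W')
    [IsClosedImmersion τ] [Surjective τ] (p : W₁ ⟶ W) [Etale p] (w₁ : W₁) :
    ∃ (W'₁ P : Scheme.{u}) (c : W'₁ ⟶ W') (t : P ⟶ W'₁) (ι : P ⟶ W₁),
      IsAffine W'₁ ∧ Etale c ∧ IsPullback (ι ≫ p) t τ c ∧ IsOpenImmersion ι ∧ w₁ ∈ Set.range ι := by
  -- reduce to the standard form
  let A := Γ(W', ⊤)
  let τ' : W ⟶ Spec A := τ ≫ W'.isoSpec.hom
  have hτ' : IsClosedImmersion τ' := inferInstance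
  obtain ⟨I, e, he⟩ := IsClosedImmersion.Spec_iff.1 hτ'
  have hI : I ≤ nilradical A := by
    -- `Spec (A ⧸ I) ⟶ Spec A` is surjective
    have hsurj : Function.Surjective (Spec.map (CommRingCat.ofHom (Ideal.Quotient.mk I))) := by
      intro x
      obtain ⟨y, hy⟩ := (τ ≫ W'.isoSpec.hom).surjective x
      refine ⟨e.hom y, ?_⟩
      rw [← Scheme.Hom.comp_apply, ← he]
      exact hy
    intro a ha
    rw [mem_nilradical, nilpotent_iff_mem_prime]
    intro q hq
    obtain ⟨y, hy⟩ := hsurj ⟨q, hq⟩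
    have h1 : a ∈ (Spec.map (CommRingCat.ofHom (Ideal.Quotient.mk I)) y).asIdeal := by
      show Ideal.Quotient.mk I a ∈ y.asIdeal
      rw [Ideal.Quotient.eq_zero_iff_mem.2 ha]
      exact zero_mem _
    rw [hy] at h1
    exact h1
  have : Etale (p ≫ e.hom) := inferInstance
  obtain ⟨B, _, _, hB, ι, hι1, hι2, hι3⟩ := exists_etale_lift_std I hI (p ≫ e.hom) w₁
  let cL : Spec (.of B) ⟶ Spec A := Spec.map (CommRingCat.ofHom (algebraMap A B))
  let tL : Spec (.of ((A ⧸ I) ⊗[A] B)) ⟶ Spec (.of B) :=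
    Spec.map (CommRingCat.ofHom
      (Algebra.TensorProduct.includeRight (R := A) (A := A ⧸ I) (B := B)).toRingHom)
  let pL : Spec (.of ((A ⧸ I) ⊗[A] B)) ⟶ Spec (.of (A ⧸ I)) :=
    Spec.map (CommRingCat.ofHom
      (Algebra.TensorProduct.includeLeft (R := A) (S := A) (A := A ⧸ I) (B := B)).toRingHom)
  have sqL : IsPullback pL tL (Spec.map (CommRingCat.ofHom (algebraMap A (A ⧸ I)))) cL :=
    isPullback_SpecMap_of_isPushout _ _ _ _
      (CommRingCat.isPushout_tensorProduct A (A ⧸ I) B)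
  have hcet : Etale cL :=
    (HasRingHomProperty.Spec_iff (P := @Etale)).2 (RingHom.etale_algebraMap.2 hB)
  refine ⟨Spec (.of B), Spec (.of ((A ⧸ I) ⊗[A] B)), cL ≫ W'.isoSpec.inv, tL, ι,
    inferInstance, inferInstance, ?_, hι1, hι2⟩
  -- the pullback square
  have h1 : ι ≫ p = pL ≫ e.inv := by
    rw [Iso.eq_comp_inv, Category.assoc]
    exact hι3
  have h2 : e.inv ≫ τ = Spec.map (CommRingCat.ofHom (algebraMap A (A ⧸ I))) ≫ W'.isoSpec.inv := by
    rw [Iso.inv_comp_eq, ← Category.assoc, Iso.eq_comp_inv]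
    exact he
  rw [h1]
  refine IsPullback.of_iso sqL (Iso.refl _) e.symm (Iso.refl _) W'.isoSpec.symm ?_ ?_ ?_ ?_
  · simp
  · simp
  · exact h2.symm
  · simp

end Groth.Agent.Lib.helper5.NilLift
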