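import Mathlib
import Groth.Agent.Lib.Helper5.NilLift

/-!
# Extending sections of smooth morphisms along thickenings of affine schemes (helper5)

`exists_section_extension`: `g : E ⟶ W'` smooth with `W'` affine, `τ : W ⟶ W'` a surjective closed
immersion and `σ : W ⟶ E` with `σ ≫ g = τ`.  Around every point of `W'` there is an open `D` and a section
`σ' : D ⟶ E` of `g` over `D` which restricts to `σ` on `τ⁻¹ D`.
-/

set_option autoImplicit false
universe u

open CategoryTheory CategoryTheory.Limits AlgebraicGeometry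

namespace Groth.Agent.Lib.helper5.NilLift

set_option backward.isDefEq.respectTransparency.types false in
theorem exists_section_extension {E W W' : Scheme.{u}} [IsAffine W'] (g : E ⟶ W') [Smooth g]
    (τ : W ⟶ W') [IsClosedImmersion τ] [Surjective τ] (σ : W ⟶ E) (hσ : σ ≫ g = τ) (w' : W') :
    ∃ (D : W'.Opens) (σ' : (D : Scheme.{u}) ⟶ E), w' ∈ D ∧ σ' ≫ g = D.ι ∧
      (τ ∣_ D) ≫ σ' = (τ ⁻¹ᵁ D).ι ≫ σ := by
  obtain ⟨w, rfl⟩ := τ.surjective w'
  -- an affine open of `E` around `σ w`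
  obtain ⟨_, ⟨(V₀ : E.Opens), hV₀ : IsAffineOpen V₀, rfl⟩, hwV₀, -⟩ :=
    E.isBasis_affineOpens.exists_subset_of_mem_open (Set.mem_univ (σ w)) isOpen_univ
  -- `τ` is a homeomorphism
  have hτhomeo : IsHomeomorph τ := isHomeomorph_iff_isEmbedding_surjective.2
    ⟨τ.isClosedEmbedding.isEmbedding, τ.surjective⟩
  have hOopen : IsOpen (τ '' (σ ⁻¹ᵁ V₀ : Set W)) := hτhomeo.isOpenMap _ (σ ⁻¹ᵁ V₀).isOpen
  obtain ⟨_, ⟨_, ⟨a, rfl⟩, rfl⟩, hwa, haO⟩ := (isBasis_basicOpen W').exists_subset_of_mem_open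
    (show τ w ∈ τ '' (σ ⁻¹ᵁ V₀ : Set W) from ⟨w, hwV₀, rfl⟩) hOopen
  set D : W'.Opens := W'.basicOpen a with hDdef
  have hD : IsAffineOpen D := (isAffineOpen_top W').basicOpen a
  have hD' : IsAffineOpen (τ ⁻¹ᵁ D) := hD.preimage τ
  -- the affine open of `E`
  set V : E.Opens := E.basicOpen (g.appLE ⊤ V₀ le_top a) with hVdef
  have hV : IsAffineOpen V := hV₀.basicOpen _
  have hVeq : V = V₀ ⊓ g ⁻¹ᵁ D := Scheme.basicOpen_appLE g V₀ ⊤ le_top a
  have hVD : V ≤ g ⁻¹ᵁ D := by rw [hVeq]; exact inf_le_right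
  have hσV : τ ⁻¹ᵁ D ≤ σ ⁻¹ᵁ V := by
    intro x hx
    have hx' : τ x ∈ D := hx
    show σ x ∈ V
    rw [hVeq]
    refine ⟨?_, ?_⟩
    · obtain ⟨x', hx'V, hxx'⟩ := haO hx'
      have : x' = x := hτhomeo.injective hxx'
      rw [← this]
      exact hx'V
    · show g (σ x) ∈ D
      rw [← Scheme.Hom.comp_apply, hσ]
      exact hx'
  -- rings
  let A' := Γ(W', D)
  let C' := Γ(E, V)
  let Ab := Γ(W, τ ⁻¹ᵁ D)
  letI algC : Algebra A' C' := (g.appLE D V hVD).hom.toAlgebra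
  letI algAb : Algebra A' Ab := (τ.app D).hom.toAlgebra
  have hsmooth : (g.appLE D V hVD).hom.Smooth := Smooth.smooth_appLE g hD hV hVD
  have : Algebra.Smooth A' C' := hsmooth
  have : Algebra.FormallySmooth A' C' := Algebra.Smooth.formallySmooth
  have : Algebra.FinitePresentation A' C' := Algebra.Smooth.finitePresentation
  let π : A' →ₐ[A'] Ab := Algebra.ofId A' Ab
  have hπapp : ∀ x, π x = (τ.app D).hom x := fun x => rfl
  have hπsurj : Function.Surjective π := τ.app_surjective D hD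
  have hπnil : RingHom.ker π.toRingHom ≤ nilradical A' := by
    intro x hx
    rw [mem_nilradical]
    have hx0 : (τ.app D).hom x = 0 := hx
    rw [Scheme.isNilpotent_iff_basicOpen_eq_bot_of_isCompact hD.isCompact]
    have h1 : τ ⁻¹ᵁ W'.basicOpen x = ⊥ := by
      rw [Scheme.preimage_basicOpen]
      have : (τ.app D) x = 0 := hx0
      rw [this, Scheme.basicOpen_zero]
    rw [eq_bot_iff]
    intro y hy
    obtain ⟨y', rfl⟩ := τ.surjective y
    have : y' ∈ τ ⁻¹ᵁ W'.basicOpen x := hy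
    rw [h1] at this
    exact this
  have hcomp : g.appLE D V hVD ≫ σ.appLE V (τ ⁻¹ᵁ D) hσV = τ.app D := by
    rw [Scheme.Hom.appLE_comp_appLE, Scheme.Hom.app_eq_appLE]
    congr 1
  let φb : C' →ₐ[A'] Ab :=
    { (σ.appLE V (τ ⁻¹ᵁ D) hσV).hom with
      commutes' := fun r => by
        show (σ.appLE V (τ ⁻¹ᵁ D) hσV).hom ((g.appLE D V hVD).hom r) = (τ.app D).hom r
        rw [← hcomp]
        rfl }
  obtain ⟨φ, hφ⟩ := exists_algHom_lift_of_nil π hπsurj hπnil φb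
  have hφ1 : g.appLE D V hVD ≫ CommRingCat.ofHom φ.toRingHom = 𝟙 _ := by
    ext r
    show φ ((g.appLE D V hVD).hom r) = r
    exact φ.commutes r
  have hφ2 : CommRingCat.ofHom φ.toRingHom ≫ τ.app D = σ.appLE V (τ ⁻¹ᵁ D) hσV := by
    ext c
    show (τ.app D).hom (φ c) = (σ.appLE V (τ ⁻¹ᵁ D) hσV).hom c
    exact AlgHom.congr_fun hφ c
  refine ⟨D, D.toSpecΓ ≫ Spec.map (CommRingCat.ofHom φ.toRingHom) ≫ hV.fromSpec, hwa, ?_, ?_⟩
  · rw [Category.assoc, Category.assoc, ← hD.SpecMap_appLE_fromSpec g hV hVD,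
      ← Spec.map_comp_assoc, hφ1, Spec.map_id, Category.id_comp, hD.toSpecΓ_fromSpec]
  · rw [← Category.assoc, ← Scheme.Opens.toSpecΓ_naturality, Category.assoc,
      ← Spec.map_comp_assoc, hφ2, hV.SpecMap_appLE_fromSpec σ hD' hσV, ← Category.assoc,
      hD'.toSpecΓ_fromSpec]

end Groth.Agent.Lib.helper5.NilLift
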