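import Groth.Prelude.Def_AlgSpInf
import Groth.Agent.Lib.Helper5.NilLiftScheme
import Groth.Agent.Lib.Helper5.NilLiftEtale
import Groth.Agent.Lib.Helper5.AlgSpOpenSub
import Groth.Agent.Lib.Helper5.AlgSpLargestOpen
import Groth.Agent.Lib.Helper5.AlgSpInf2
import Groth.Agent.Lib.Helper5.AlgSpLocPInst2
import Groth.Agent.Lib.Helper11.AlgSpBasic

/-!
# Étale-local lifting along thickenings for smooth morphisms of algebraic spaces (helper5)

`exists_etale_local_lift`: for a smooth `f : X ⟶ Y`, a thickening `i : T ⟶ T'` of algebraic spaces and a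
commutative square `a ≫ f = i ≫ b`, étale locally on `T'` there is a lift `ℓ` with `ℓ ≫ f = e ≫ b`
restricting to `a` on `T ×_{T'} V`.
-/

set_option autoImplicit false
universe u

open CategoryTheory CategoryTheory.Limits AlgebraicGeometry

namespace Groth.Agent.Lib.helper5.SmoothLift

open AlgSp Groth.Agent.Lib.helper5.OpenSub Groth.Agent.Lib.helper5.LargestOpen
  Groth.Agent.Lib.helper5.LocPBC

variable {S : Scheme.{u}}

set_option backward.isDefEq.respectTransparency.types false in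
theorem exists_etale_local_lift {X Y T T' : AlgSp.Space S} (f : X ⟶ Y)
    (hf : AlgSp.LocP @Smooth f.hom) (i : T ⟶ T') (hi : AlgSp.IsThickMor i.hom)
    (a : T ⟶ X) (b : T' ⟶ Y) (w : a ≫ f = i ≫ b) (t' : AlgSp.Points T'.obj) :
    ∃ (V : Over S) (e : (AlgSp.yon S).obj V ⟶ T'.obj) (ℓ : (AlgSp.yon S).obj V ⟶ X.obj),
      AlgSp.RepWith @Etale e ∧ t' ∈ Set.range (AlgSp.Points.ofPt e) ∧ ℓ ≫ f.hom = e ≫ b.hom ∧
      ∀ (P : AlgSp.Sp S) (p₁ : P ⟶ T.obj) (p₂ : P ⟶ (AlgSp.yon S).obj V),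
        IsPullback p₁ p₂ i.hom e → p₂ ≫ ℓ = p₁ ≫ a.hom := by
  classical
  have whom : a.hom ≫ f.hom = i.hom ≫ b.hom := congrArg (fun φ => φ.hom) w
  -- an affine étale chart of `T'` through `t'`
  obtain ⟨U', p', hp'e, hp's⟩ := T'.property.atlas
  obtain ⟨u', rfl⟩ := Groth.Agent.Lib.helper11.surjective_ofPt p' hp's t'
  obtain ⟨_, ⟨(W'₀ : U'.left.Opens), hW'₀ : IsAffineOpen W'₀, rfl⟩, hu', -⟩ :=
    U'.left.isBasis_affineOpens.exists_subset_of_mem_open (Set.mem_univ u') isOpen_univ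
  let W' : Over S := subOver U' W'₀
  have hW'aff : IsAffine W'.left := hW'₀
  let β : (yon S).obj W' ⟶ T'.obj := (yon S).map (subOverι U' W'₀) ≫ p'
  have hβ : RepWith @Etale β :=
    (RepWith (S := S) @Etale).comp_mem _ _
      ((repWith_yon_map_iff @Etale _).2 (inferInstanceAs (Etale W'₀.ι))) hp'e
  -- the thickening over the chart
  obtain ⟨W, τ, fst, sqW⟩ := hi.rep β
  have hτ : thick τ.left := hi.2 β fst τ sqW
  have hτci : IsClosedImmersion τ.left := hτ.1
  have hτs : Surjective τ.left := hτ.2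
  obtain ⟨w₀, hw₀⟩ := hτs.surj (⟨u', hu'⟩ : ↥W'.left)
  -- chart diagram of `f`
  obtain ⟨U₀, V₀, p₀, q₀, h, hp₀e, hp₀s, hq₀e, hq₀s, hsq₀⟩ :=
    exists_chart_diagram X.property Y.property f.hom
  -- lift `W ⟶ X` to `U₀` étale locally
  let a' : (yon S).obj W ⟶ X.obj := fst ≫ a.hom
  obtain ⟨W₁, p, fst₁, sq₁⟩ := hp₀e.rep a'
  obtain ⟨m, rfl⟩ := (yon S).map_surjective fst₁
  have hpe : Etale p.left := hp₀e.2 a' _ p sq₁
  have hps : Surjective p.left := hp₀s.2 a' _ p sq₁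
  obtain ⟨w₁, hw₁⟩ := hps.surj w₀
  -- lift the étale neighbourhood along the thickening
  obtain ⟨W'₁, P, c, t, ι, hW'₁aff, hce, sqP, hιoi, x, hx⟩ :=
    NilLift.exists_etale_lift_nhd_of_thick τ.left p.left w₁
  let W'₁o : Over S := Over.mk (c ≫ W'.hom)
  let c' : W'₁o ⟶ W' := Over.homMk c rfl
  let Po : Over S := Over.mk (t ≫ c ≫ W'.hom)
  let tt : Po ⟶ W'₁o := Over.homMk t rfl
  have hιw : ι ≫ W₁.hom = t ≫ c ≫ W'.hom := by
    rw [← Over.w p, ← Over.w τ, ← Category.assoc, ← Category.assoc, ← Category.assoc, sqP.w,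
      Category.assoc]
  let ι' : Po ⟶ W₁ := Over.homMk ι hιw
  have hsqPo : ι' ≫ p ≫ τ = tt ≫ c' := by
    ext1
    simpa [ι', tt, c'] using sqP.w
  -- the smooth scheme over `W'₁`
  let γ : (yon S).obj W'₁o ⟶ Y.obj := (yon S).map c' ≫ β ≫ b.hom
  let δ : (yon S).obj U₀ ⟶ Y.obj := p₀ ≫ f.hom
  obtain ⟨E, g, k', sqE⟩ := Y.property.representable_from_yon δ γ
  obtain ⟨k, rfl⟩ := (yon S).map_surjective k'
  have hδ : LocP @Smooth δ :=
    locP_comp_isEtaleMor p₀ f.hom
      (fun _ _ hφ => (repWith_isMultiplicative (S := S) @Etale).comp_mem _ _ hφ hp₀e) hf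
  have hgsm : Smooth g.left :=
    AlgSp.locP_yon_map (locP_of_isPullback locPData_smooth (IsAlgSpace.yon_obj U₀) Y.property
      (IsAlgSpace.yon_obj W'₁o) sqE hδ)
  -- the section over the thickening
  have hcomm : (yon S).map (ι' ≫ m) ≫ δ = (yon S).map tt ≫ γ := by
    have e1 : (yon S).map m ≫ p₀ = (yon S).map p ≫ a' := sq₁.w
    have e2 : fst ≫ i.hom = (yon S).map τ ≫ β := sqW.w
    calc (yon S).map (ι' ≫ m) ≫ δ
        = (yon S).map ι' ≫ ((yon S).map m ≫ p₀) ≫ f.hom := by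
          simp only [δ, Functor.map_comp, Category.assoc]
      _ = (yon S).map ι' ≫ (yon S).map p ≫ fst ≫ (a.hom ≫ f.hom) := by
          rw [e1]; simp only [a', Category.assoc]
      _ = (yon S).map ι' ≫ (yon S).map p ≫ (fst ≫ i.hom) ≫ b.hom := by
          rw [whom]; simp only [Category.assoc]
      _ = (yon S).map (ι' ≫ p ≫ τ) ≫ β ≫ b.hom := by
          rw [e2]; simp only [Functor.map_comp, Category.assoc]
      _ = (yon S).map tt ≫ γ := by
          rw [hsqPo]; simp only [γ, Functor.map_comp, Category.assoc]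
  obtain ⟨σ', hσ'1, hσ'2⟩ : ∃ σ' : (yon S).obj Po ⟶ (yon S).obj E,
      σ' ≫ (yon S).map k = (yon S).map (ι' ≫ m) ∧ σ' ≫ (yon S).map g = (yon S).map tt :=
    ⟨sqE.lift _ _ hcomm, sqE.lift_fst _ _ _, sqE.lift_snd _ _ _⟩
  obtain ⟨σ, rfl⟩ := (yon S).map_surjective σ'
  have hσg : σ ≫ g = tt := (yon S).map_injective (by rw [Functor.map_comp]; exact hσ'2)
  have hσk : σ ≫ k = ι' ≫ m := (yon S).map_injective (by rw [Functor.map_comp]; exact hσ'1)
  have htci : IsClosedImmersion t := MorphismProperty.of_isPullback (P := @IsClosedImmersion) sqP hτci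
  have hts : Surjective t := MorphismProperty.of_isPullback (P := @Surjective) sqP hτs
  have hσ : σ.left ≫ g.left = t := by
    have := congrArg (fun φ => φ.left) hσg
    simpa [tt] using this
  have : IsAffine W'₁o.left := hW'₁aff
  obtain ⟨D, σD, hxD, hσD1, hσD2⟩ := NilLift.exists_section_extension g.left t σ.left hσ (t x)
  -- the output
  let V : Over S := subOver W'₁o D
  let jD : V ⟶ W'₁o := subOverι W'₁o D
  have hσDw : σD ≫ E.hom = V.hom := by
    rw [← Over.w g, ← Category.assoc, hσD1]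
    rfl
  let σDo : V ⟶ E := Over.homMk σD hσDw
  have hσDog : σDo ≫ g = jD := by
    ext1
    simpa [σDo, jD] using hσD1
  refine ⟨V, (yon S).map (jD ≫ c') ≫ β, (yon S).map (σDo ≫ k) ≫ p₀, ?_, ?_, ?_, ?_⟩
  · refine (RepWith (S := S) @Etale).comp_mem _ _ ((repWith_yon_map_iff @Etale _).2 ?_) hβ
    show Etale (D.ι ≫ c)
    infer_instance
  · refine ⟨(⟨t x, hxD⟩ : ↥V.left), ?_⟩
    rw [Groth.Agent.Lib.helper11.ofPt_yon_map_comp, Groth.Agent.Lib.helper11.ofPt_yon_map_comp]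
    congr 1
    show W'₀.ι (c (D.ι ⟨t x, hxD⟩)) = u'
    have h1 : c (t x) = τ.left (p.left (ι x)) := by
      have := congrArg (fun φ : P ⟶ W'.left => φ x) sqP.w
      simpa [Scheme.Hom.comp_apply] using this.symm
    have h2 : D.ι ⟨t x, hxD⟩ = t x := rfl
    rw [h2, h1, hx, hw₁, hw₀]
    rfl
  · have e1 : (yon S).map k ≫ δ = (yon S).map g ≫ γ := sqE.w
    calc ((yon S).map (σDo ≫ k) ≫ p₀) ≫ f.hom
        = (yon S).map σDo ≫ (yon S).map k ≫ δ := by
          simp only [δ, Functor.map_comp, Category.assoc]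
      _ = (yon S).map (σDo ≫ g) ≫ γ := by
          rw [e1]; simp only [Functor.map_comp, Category.assoc]
      _ = ((yon S).map (jD ≫ c') ≫ β) ≫ b.hom := by
          rw [hσDog]; simp only [γ, Functor.map_comp, Category.assoc]
  · -- the restriction to the thickening
    let Z : Over S := subOver Po (t ⁻¹ᵁ D)
    let z : Z ⟶ Po := subOverι Po (t ⁻¹ᵁ D)
    have hdw : (t ∣_ D) ≫ V.hom = Z.hom := by
      show (t ∣_ D) ≫ D.ι ≫ c ≫ W'.hom = (t ⁻¹ᵁ D).ι ≫ t ≫ c ≫ W'.hom
      rw [← Category.assoc, morphismRestrict_ι, Category.assoc]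
    let d : Z ⟶ V := Over.homMk (t ∣_ D) hdw
    have sqZ : IsPullback d z jD tt := by
      refine IsPullback.of_map (Over.forget S) ?_ ?_
      · ext1
        simpa [d, z, jD, tt] using (morphismRestrict_ι t D)
      · exact isPullback_morphismRestrict t D
    have sqPo : IsPullback tt (ι' ≫ p) c' τ := by
      refine IsPullback.of_map (Over.forget S) ?_ ?_
      · exact hsqPo.symm
      · exact sqP.flip
    have sq1 : IsPullback d (z ≫ ι' ≫ p) (jD ≫ c') τ := sqZ.paste_vert sqPo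
    have sq2 := (sq1.flip.map (yon S)).paste_horiz sqW
    have hdσ : d ≫ σDo = z ≫ σ := by
      ext1
      simpa [d, σDo, z] using hσD2
    have key : (yon S).map d ≫ ((yon S).map (σDo ≫ k) ≫ p₀) =
        ((yon S).map (z ≫ ι' ≫ p) ≫ fst) ≫ a.hom := by
      have e1 : (yon S).map m ≫ p₀ = (yon S).map p ≫ a' := sq₁.w
      calc (yon S).map d ≫ ((yon S).map (σDo ≫ k) ≫ p₀)
          = (yon S).map ((d ≫ σDo) ≫ k) ≫ p₀ := by
            simp only [Functor.map_comp, Category.assoc]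
        _ = (yon S).map (z ≫ ι') ≫ ((yon S).map m ≫ p₀) := by
            rw [hdσ, Category.assoc, hσk]; simp only [Functor.map_comp, Category.assoc]
        _ = ((yon S).map (z ≫ ι' ≫ p) ≫ fst) ≫ a.hom := by
            rw [e1]; simp only [a', Functor.map_comp, Category.assoc]
    intro P' p₁ p₂ hP'
    let θ := hP'.isoIsPullback _ _ sq2
    have hθ1 : θ.hom ≫ ((yon S).map (z ≫ ι' ≫ p) ≫ fst) = p₁ := hP'.isoIsPullback_hom_fst _ _ sq2
    have hθ2 : θ.hom ≫ (yon S).map d = p₂ := hP'.isoIsPullback_hom_snd _ _ sq2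
    rw [← hθ1, ← hθ2, Category.assoc, key]
    simp only [Category.assoc]

end Groth.Agent.Lib.helper5.SmoothLift
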