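import Groth.Prelude.Def_AlgSpInf
import Groth.Agent.Lib.Helper5.AlgSpUniv
import Groth.Agent.Lib.Helper5.AlgSpFibreProduct
import Groth.Agent.Lib.Helper7.AlgSpFibre
import Groth.Agent.Lib.Helper7.AlgSpMono

/-!
Topological properties of a morphism of thickenings of algebraic spaces (helper5).
-/

set_option autoImplicit false
universe u
open CategoryTheory CategoryTheory.Limits AlgebraicGeometry Opposite Topology
open AlgSp

namespace Groth.Agent.Lib.helper5.ThkTop

variable {S : Scheme.{u}}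

theorem isHomeomorph_of_thick {A B : Scheme.{u}} (s : A ⟶ B) (hs : thick s) : IsHomeomorph s := by
  have h1 : IsClosedImmersion s := hs.1
  have h2 : Surjective s := hs.2
  exact isHomeomorph_iff_isEmbedding_surjective.2 ⟨s.isClosedEmbedding.isEmbedding, h2.surj⟩

/-- The base change of a thickening to an algebraic space is a homeomorphism on points. -/
theorem isHomeomorph_map_of_isPullback {F G Z Z' : Sp S} {i : F ⟶ G} (hi : IsThickMor i)
    (hZ : IsAlgSpace Z) {g : Z ⟶ G} {fst : Z' ⟶ F} {snd : Z' ⟶ Z} (sq : IsPullback fst snd i g) :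
    IsHomeomorph (Points.map snd) := by
  obtain ⟨U, V, q, fst', s, hs, csq⟩ := exists_chartSq hi hZ sq
  exact csq.isHomeomorph (isHomeomorph_of_thick s.left hs)

theorem isHomeomorph_map {F G : Sp S} {i : F ⟶ G} (hi : IsThickMor i) (hG : IsAlgSpace G) :
    IsHomeomorph (Points.map i) :=
  isHomeomorph_map_of_isPullback hi hG (IsPullback.of_horiz_isIso ⟨by simp⟩ :
    IsPullback (𝟙 F) i i (𝟙 G))

theorem mono_of_isThickMor {F G : Sp S} {i : F ⟶ G} (hi : IsThickMor i) : Mono i :=
  Groth.Agent.Lib.helper7.mono_of_repWith (fun _ _ f hf => by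
    have : IsClosedImmersion f := hf.1
    exact MorphismProperty.monomorphisms.infer_property f) hi

/-- The comparison square of two fibre products over a morphism of cospans with cartesian right part. -/
theorem isPullback_left {X X' Y Y' Z Z' W W' : Sp S} {i : X ⟶ X'} {j : Y ⟶ Y'} {p : Z ⟶ Z'}
    {f : X ⟶ Y} {f' : X' ⟶ Y'} {g : Z ⟶ Y} {g' : Z' ⟶ Y'} {fst : W ⟶ X} {snd : W ⟶ Z}
    {fst' : W' ⟶ X'} {snd' : W' ⟶ Z'} (sq : IsPullback fst snd f g)
    (sq' : IsPullback fst' snd' f' g') (sqZ : IsPullback g p j g') (w : i ≫ f' = f ≫ j)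
    (k : W ⟶ W') (hk1 : k ≫ fst' = fst ≫ i) (hk2 : k ≫ snd' = snd ≫ p) :
    IsPullback fst k i fst' := by
  have big : IsPullback (snd ≫ p) fst g' (f ≫ j) := sq.flip.paste_horiz sqZ.flip
  rw [← w, ← hk2] at big
  exact (IsPullback.of_right big hk1 sq'.flip).flip

section Transfer

variable (Q₁ : ∀ {α β : Type (u + 1)} [TopologicalSpace α] [TopologicalSpace β] (_ : α → β), Prop)

/-- Invariance of a topological property of maps under conjugation by homeomorphisms. -/
def Conj : Prop :=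
  ∀ {A B C D : Type (u + 1)} [TopologicalSpace A] [TopologicalSpace B] [TopologicalSpace C]
    [TopologicalSpace D] (e : A ≃ₜ B) (e' : C ≃ₜ D) (ψ : A → C), Q₁ ψ → Q₁ (e' ∘ ψ ∘ e.symm)

variable {Q₁}

theorem transfer (hQ : Conj Q₁) {A B C D : Type (u + 1)} [TopologicalSpace A] [TopologicalSpace B]
    [TopologicalSpace C] [TopologicalSpace D] {E : A → B} {E' : C → D} {ψ : A → C} {φ : B → D}
    (hE : IsHomeomorph E) (hE' : IsHomeomorph E') (comm : ∀ x, φ (E x) = E' (ψ x)) :
    Q₁ ψ ↔ Q₁ φ := by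
  constructor
  · intro h
    have h1 := hQ (hE.homeomorph E) (hE'.homeomorph E') ψ h
    have : (⇑(hE'.homeomorph E') ∘ ψ ∘ ⇑(hE.homeomorph E).symm) = φ := by
      funext b
      obtain ⟨a, rfl⟩ := hE.surjective b
      have : (hE.homeomorph E).symm (E a) = a := (hE.homeomorph E).symm_apply_apply a
      simp only [Function.comp_apply, this]
      exact (comm a).symm
    rwa [this] at h1
  · intro h
    have h1 := hQ (hE.homeomorph E).symm (hE'.homeomorph E').symm φ h
    have : (⇑(hE'.homeomorph E').symm ∘ φ ∘ ⇑(hE.homeomorph E).symm.symm) = ψ := by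
      funext a
      simp only [Function.comp_apply, Homeomorph.symm_symm]
      have : (hE.homeomorph E) a = E a := rfl
      rw [this, comm a]
      exact (hE'.homeomorph E').symm_apply_apply (ψ a)
    rwa [this] at h1

theorem conj_isOpenMap : Conj (fun {α β} [TopologicalSpace α] [TopologicalSpace β] (φ : α → β) =>
    IsOpenMap φ) := fun e e' _ h => e'.isOpenMap.comp (h.comp e.symm.isOpenMap)

theorem conj_isClosedMap : Conj (fun {α β} [TopologicalSpace α] [TopologicalSpace β] (φ : α → β) =>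
    IsClosedMap φ) := fun e e' _ h => e'.isClosedMap.comp (h.comp e.symm.isClosedMap)

theorem conj_injective : Conj (fun {α β} [TopologicalSpace α] [TopologicalSpace β] (φ : α → β) =>
    Function.Injective φ) := fun e e' _ h => e'.injective.comp (h.comp e.symm.injective)

end Transfer

section Main

variable {X X' Y Y' : Sp S} {i : X ⟶ X'} {j : Y ⟶ Y'} {f : X ⟶ Y} {f' : X' ⟶ Y'}

/-- Data attached to a base change `Z ⟶ Y` for the direction from `f'` to `f`. -/
theorem exists_down (hX : IsAlgSpace X) (hX' : IsAlgSpace X') (hY' : IsAlgSpace Y')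
    (hi : IsThickMor i) (hj : IsThickMor j) (w : i ≫ f' = f ≫ j)
    {Z W : Sp S} (hZ : IsAlgSpace Z) (g : Z ⟶ Y) (fst : W ⟶ X) (snd : W ⟶ Z)
    (sq : IsPullback fst snd f g) :
    ∃ (W' : Sp S) (fst' : W' ⟶ X') (snd' : W' ⟶ Z) (k : W ⟶ W'), IsAlgSpace W' ∧
      IsPullback fst' snd' f' (g ≫ j) ∧ k ≫ snd' = snd ∧ IsHomeomorph (Points.map k) := by
  have sq' := IsPullback.of_hasPullback f' (g ≫ j)
  have hjm : Mono j := mono_of_isThickMor hj
  have sqZ : IsPullback g (𝟙 Z) j (g ≫ j) :=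
    (IsPullback.of_horiz_isIso_mono ⟨by rw [Category.id_comp]⟩ : IsPullback (𝟙 Z) g (g ≫ j) j).flip
  have hw : (fst ≫ i) ≫ f' = snd ≫ (g ≫ j) := by
    rw [Category.assoc, w, ← Category.assoc, sq.w, Category.assoc]
  have hk1 : pullback.lift (fst ≫ i) snd hw ≫ pullback.fst f' (g ≫ j) = fst ≫ i :=
    pullback.lift_fst _ _ _
  have hk2 : pullback.lift (fst ≫ i) snd hw ≫ pullback.snd f' (g ≫ j) = snd ≫ 𝟙 Z := by
    rw [pullback.lift_snd, Category.comp_id]
  have sqK := isPullback_left sq sq' sqZ w _ hk1 hk2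
  have hW' : IsAlgSpace (pullback f' (g ≫ j)) :=
    Groth.Agent.Lib.helper5.isAlgSpace_of_isPullback hY'.diag hX' hZ sq'
  exact ⟨_, _, _, _, hW', sq', pullback.lift_snd _ _ _, isHomeomorph_map_of_isPullback hi hW' sqK⟩

/-- Data attached to a base change `Z' ⟶ Y'` for the direction from `f` to `f'`. -/
theorem exists_up (hX : IsAlgSpace X) (hX' : IsAlgSpace X') (hY : IsAlgSpace Y)
    (hY' : IsAlgSpace Y') (hi : IsThickMor i) (hj : IsThickMor j) (w : i ≫ f' = f ≫ j)
    {Z' W' : Sp S} (hZ' : IsAlgSpace Z') (g' : Z' ⟶ Y') (fst' : W' ⟶ X') (snd' : W' ⟶ Z')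
    (sq' : IsPullback fst' snd' f' g') :
    ∃ (Z W : Sp S) (g : Z ⟶ Y) (p : Z ⟶ Z') (fst : W ⟶ X) (snd : W ⟶ Z) (k : W ⟶ W'),
      IsAlgSpace Z ∧ IsAlgSpace W ∧ IsAlgSpace W' ∧ IsPullback fst snd f g ∧ k ≫ snd' = snd ≫ p ∧
        IsHomeomorph (Points.map k) ∧ IsHomeomorph (Points.map p) := by
  have sqZ0 := IsPullback.of_hasPullback j g'
  have hZ : IsAlgSpace (pullback j g') :=
    Groth.Agent.Lib.helper5.isAlgSpace_of_isPullback hY'.diag hY hZ' sqZ0
  have sqW := IsPullback.of_hasPullback f (pullback.fst j g')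
  have hW : IsAlgSpace (pullback f (pullback.fst j g')) :=
    Groth.Agent.Lib.helper5.isAlgSpace_of_isPullback hY.diag hX hZ sqW
  have hW' : IsAlgSpace W' := Groth.Agent.Lib.helper5.isAlgSpace_of_isPullback hY'.diag hX' hZ' sq'
  have hw : (pullback.fst f (pullback.fst j g') ≫ i) ≫ f' =
      (pullback.snd f (pullback.fst j g') ≫ pullback.snd j g') ≫ g' := by
    rw [Category.assoc, w, ← Category.assoc, sqW.w, Category.assoc, sqZ0.w, Category.assoc]
  have sqK := isPullback_left sqW sq' sqZ0 w (sq'.lift _ _ hw) (sq'.lift_fst _ _ hw)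
    (sq'.lift_snd _ _ hw)
  exact ⟨_, _, _, _, _, _, sq'.lift _ _ hw, hZ, hW, hW', sqW, sq'.lift_snd _ _ hw,
    isHomeomorph_map_of_isPullback hi hW' sqK, isHomeomorph_map_of_isPullback hj hZ' sqZ0⟩

variable {Q₁ : ∀ {α β : Type (u + 1)} [TopologicalSpace α] [TopologicalSpace β] (_ : α → β), Prop}

theorem univSp_iff (hQ : Conj Q₁) (hX : IsAlgSpace X) (hX' : IsAlgSpace X') (hY : IsAlgSpace Y)
    (hY' : IsAlgSpace Y') (hi : IsThickMor i) (hj : IsThickMor j) (w : i ≫ f' = f ≫ j) :
    UnivSp (fun _ _ k => Q₁ (Points.map k)) f ↔ UnivSp (fun _ _ k => Q₁ (Points.map k)) f' := by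
  constructor
  · intro hf Z' W' hZ' g' fst' snd' sq'
    obtain ⟨Z, W, g, p, fst, snd, k, hZ, hW, hW', sqW, hk, hkh, hph⟩ :=
      exists_up hX hX' hY hY' hi hj w hZ' g' fst' snd' sq'
    have h0 : Q₁ (Points.map snd) := hf hZ g fst snd sqW
    refine (transfer hQ hkh hph (fun x => ?_)).1 h0
    rw [← Points.map_comp, ← Points.map_comp, hk]
  · intro hf' Z W hZ g fst snd sq
    obtain ⟨W', fst', snd', k, hW', sq', hk, hkh⟩ := exists_down hX hX' hY' hi hj w hZ g fst snd sq
    have h0 : Q₁ (Points.map snd') := hf' hZ (g ≫ j) fst' snd' sq'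
    have hid : IsHomeomorph (id : Points Z → Points Z) := (Homeomorph.refl _).isHomeomorph
    refine (transfer hQ hkh hid (fun x => ?_)).2 h0
    rw [← Points.map_comp, hk]
    rfl

theorem isQuasiCompactMor_iff (hX : IsAlgSpace X) (hX' : IsAlgSpace X') (hY : IsAlgSpace Y)
    (hY' : IsAlgSpace Y') (hi : IsThickMor i) (hj : IsThickMor j) (w : i ≫ f' = f ≫ j) :
    IsQuasiCompactMor f ↔ IsQuasiCompactMor f' := by
  constructor
  · intro hf Z' W' hZ' hZ'c g' fst' snd' sq'
    obtain ⟨Z, W, g, p, fst, snd, k, hZ, hW, hW', sqW, hk, hkh, hph⟩ :=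
      exists_up hX hX' hY hY' hi hj w hZ' g' fst' snd' sq'
    have c1 : CompactSpace (Points Z') :=
      Groth.Agent.Lib.helper7.AlgSpFibre.compactSpace_of_isQuasiCompactSp hZ'c
    have c2 : CompactSpace (Points Z) := (hph.homeomorph _).symm.compactSpace
    have hZc : IsQuasiCompactSp Z :=
      Groth.Agent.Lib.helper7.AlgSpFibre.isQuasiCompactSp_of_compactSpace hZ.atlas
    have hWc : IsQuasiCompactSp W := hf hZ hZc g fst snd sqW
    have c3 : CompactSpace (Points W) :=
      Groth.Agent.Lib.helper7.AlgSpFibre.compactSpace_of_isQuasiCompactSp hWc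
    have c4 : CompactSpace (Points W') := (hkh.homeomorph _).compactSpace
    exact Groth.Agent.Lib.helper7.AlgSpFibre.isQuasiCompactSp_of_compactSpace hW'.atlas
  · intro hf' Z W hZ hZc g fst snd sq
    obtain ⟨W', fst', snd', k, hW', sq', hk, hkh⟩ := exists_down hX hX' hY' hi hj w hZ g fst snd sq
    have hW'c : IsQuasiCompactSp W' := hf' hZ hZc (g ≫ j) fst' snd' sq'
    have c1 : CompactSpace (Points W') :=
      Groth.Agent.Lib.helper7.AlgSpFibre.compactSpace_of_isQuasiCompactSp hW'c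
    have c2 : CompactSpace (Points W) := (hkh.homeomorph _).symm.compactSpace
    have hW : IsAlgSpace W := Groth.Agent.Lib.helper5.isAlgSpace_of_isPullback hY.diag hX hZ sq
    exact Groth.Agent.Lib.helper7.AlgSpFibre.isQuasiCompactSp_of_compactSpace hW.atlas

theorem isSurjectiveMor_iff (hX' : IsAlgSpace X') (hY' : IsAlgSpace Y') (hi : IsThickMor i)
    (hj : IsThickMor j) (w : i ≫ f' = f ≫ j) : IsSurjectiveMor f ↔ IsSurjectiveMor f' := by
  have hih := isHomeomorph_map hi hX'
  have hjh := isHomeomorph_map hj hY'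
  have comm : ∀ x, Points.map f' (Points.map i x) = Points.map j (Points.map f x) := fun x => by
    rw [← Points.map_comp, ← Points.map_comp, w]
  constructor
  · intro hf y'
    obtain ⟨y, rfl⟩ := hjh.surjective y'
    obtain ⟨x, rfl⟩ := hf y
    exact ⟨Points.map i x, comm x⟩
  · intro hf' y
    obtain ⟨x', hx'⟩ := hf' (Points.map j y)
    obtain ⟨x, rfl⟩ := hih.surjective x'
    exact ⟨x, hjh.injective ((comm x).symm.trans hx')⟩

end Main

end Groth.Agent.Lib.helper5.ThkTop
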