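import Mathlib
import Groth.Prelude.Def_AlgSpInf
import Groth.Prelude.Def_AlgSp3
import Groth.Agent.Lib.Helper5.AlgSpThkTop
import Groth.Agent.Lib.Helper15.AlgSpDiag

/-!
# Diagonals of morphisms of thickenings of algebraic spaces (helper5)

For a morphism `(f, f')` of thickenings `(X ⊂ X') ⟶ (Y ⊂ Y')` the diagonal of `f` is the base change of the diagonal of
`f'` along `X ×_Y X ⟶ X' ×_{Y'} X'`; a property of the diagonal that descends along thickenings passes from `f` to `f'`.
-/

set_option autoImplicit false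
universe u
open CategoryTheory CategoryTheory.Limits AlgebraicGeometry
open AlgSp

namespace Groth.Agent.Lib.helper5.ThickDiag

section cat
variable {C : Type*} [Category C] [HasPullbacks C]

/-- The diagonal of `f` is the base change of the diagonal of `f'` when `i` is a monomorphism. -/
theorem isPullback_diagonal_of_mono {X X' Y Y' : C} (i : X ⟶ X') (j : Y ⟶ Y') (f : X ⟶ Y) (f' : X' ⟶ Y')
    (w : i ≫ f' = f ≫ j) [Mono i] :
    IsPullback i (pullback.diagonal f) (pullback.diagonal f') (pullback.map f f f' f' i i j w.symm w.symm) := by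
  have hk1 : pullback.map f f f' f' i i j w.symm w.symm ≫ pullback.fst f' f' = pullback.fst f f ≫ i :=
    pullback.lift_fst _ _ _
  have hk2 : pullback.map f f f' f' i i j w.symm w.symm ≫ pullback.snd f' f' = pullback.snd f f ≫ i :=
    pullback.lift_snd _ _ _
  have hcomm : i ≫ pullback.diagonal f' =
      pullback.diagonal f ≫ pullback.map f f f' f' i i j w.symm w.symm := by
    apply pullback.hom_ext
    · rw [Category.assoc, Category.assoc, hk1, pullback.diagonal_fst, pullback.diagonal_fst_assoc,
        Category.comp_id]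
    · rw [Category.assoc, Category.assoc, hk2, pullback.diagonal_snd, pullback.diagonal_snd_assoc,
        Category.comp_id]
  refine ⟨⟨hcomm⟩, ⟨PullbackCone.IsLimit.mk _
    (fun s => s.snd ≫ pullback.fst f f) (fun s => ?_) (fun s => ?_) (fun s m h1 h2 => ?_)⟩⟩
  · have := s.condition
    calc (s.snd ≫ pullback.fst f f) ≫ i = s.snd ≫ pullback.map f f f' f' i i j w.symm w.symm ≫ pullback.fst f' f' := by
          rw [hk1, Category.assoc]
      _ = s.fst ≫ pullback.diagonal f' ≫ pullback.fst f' f' := by
          rw [← Category.assoc, ← this, Category.assoc]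
      _ = s.fst := by simp
  · have e1 : s.snd ≫ pullback.fst f f ≫ i = s.fst := by
      calc s.snd ≫ pullback.fst f f ≫ i = s.snd ≫ pullback.map f f f' f' i i j w.symm w.symm ≫ pullback.fst f' f' := by
            rw [hk1]
        _ = s.fst ≫ pullback.diagonal f' ≫ pullback.fst f' f' := by
            rw [← Category.assoc, ← s.condition, Category.assoc]
        _ = s.fst := by simp
    have e2 : s.snd ≫ pullback.snd f f ≫ i = s.fst := by
      calc s.snd ≫ pullback.snd f f ≫ i = s.snd ≫ pullback.map f f f' f' i i j w.symm w.symm ≫ pullback.snd f' f' := by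
            rw [hk2]
        _ = s.fst ≫ pullback.diagonal f' ≫ pullback.snd f' f' := by
            rw [← Category.assoc, ← s.condition, Category.assoc]
        _ = s.fst := by simp
    have e3 : s.snd ≫ pullback.fst f f = s.snd ≫ pullback.snd f f := by
      rw [← cancel_mono i, Category.assoc, Category.assoc, e1, e2]
    apply pullback.hom_ext
    · simp
    · simp [e3]
  · have := congrArg (fun k => k ≫ pullback.fst f f) h2
    simpa using this

end cat

variable {S : Scheme.{u}}

/-- A test map to `X' ×_{Y'} X'` lifts to `X ×_Y X` after a thickening of the test scheme. -/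
theorem exists_thick_lift {X X' Y Y' : Sp S} {i : X ⟶ X'} {j : Y ⟶ Y'} {f : X ⟶ Y} {f' : X' ⟶ Y'}
    (hi : IsThickMor i) (hj : IsThickMor j) (w : i ≫ f' = f ≫ j) {T' : Over S}
    (ζ : (yon S).obj T' ⟶ pullback f' f') :
    ∃ (T : Over S) (τ : T ⟶ T') (t : (yon S).obj T ⟶ pullback f f), thick τ.left ∧
      t ≫ pullback.map f f f' f' i i j w.symm w.symm = (yon S).map τ ≫ ζ := by
  haveI : Mono j := ThkTop.mono_of_isThickMor hj
  obtain ⟨Ta, τa, pa, sqa⟩ := hi.1 (ζ ≫ pullback.fst f' f')
  obtain ⟨Tb, τb, pb, sqb⟩ := hi.1 ((yon S).map τa ≫ ζ ≫ pullback.snd f' f')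
  have hτa : thick τa.left := hi.2 _ _ _ sqa
  have hτb : thick τb.left := hi.2 _ _ _ sqb
  have hcond : ((yon S).map τb ≫ pa) ≫ f = pb ≫ f := by
    rw [← cancel_mono j, Category.assoc, Category.assoc, Category.assoc, ← w, ← Category.assoc pa,
      sqa.w, ← Category.assoc pb, sqb.w]
    simp only [Category.assoc, pullback.condition]
  refine ⟨Tb, τb ≫ τa, pullback.lift ((yon S).map τb ≫ pa) pb hcond, ?_, ?_⟩
  · rw [Over.comp_left]
    exact ⟨@IsClosedImmersion.comp _ _ _ _ _ hτb.1 hτa.1,
      @MorphismProperty.comp_mem _ _ @Surjective _ _ _ _ _ _ hτb.2 hτa.2⟩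
  · apply pullback.hom_ext
    · simp only [Category.assoc, pullback.lift_fst, pullback.lift_fst_assoc, Functor.map_comp]
      rw [sqa.w]
    · simp only [Category.assoc, pullback.lift_snd, pullback.lift_snd_assoc, Functor.map_comp]
      rw [sqb.w]

/-- A property of the diagonal that descends along thickenings passes from `f` to `f'`. -/
theorem repWith_diagonal_of_thick (P : MorphismProperty Scheme.{u})
    (hdesc : ∀ {Z' T' T E : Scheme.{u}} (g' : Z' ⟶ T') (τ : T ⟶ T') (e1 : E ⟶ Z') (e2 : E ⟶ T),
      IsPullback e1 e2 g' τ → thick τ → Mono g' → LocallyOfFiniteType g' → P e2 → P g')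
    {X X' Y Y' : Sp S} (hX' : IsAlgSpace X') {i : X ⟶ X'} {j : Y ⟶ Y'} {f : X ⟶ Y} {f' : X' ⟶ Y'}
    (hi : IsThickMor i) (hj : IsThickMor j) (w : i ≫ f' = f ≫ j)
    (h : RepWith P (pullback.diagonal f)) : RepWith P (pullback.diagonal f') := by
  haveI : Mono i := ThkTop.mono_of_isThickMor hi
  obtain ⟨hrep, hlft, hmono, -, -⟩ :=
    Groth.Agent.Lib.helper15.AlgSpDiag.repWith_diagonal_properties hX' f'
  have sqΔ := isPullback_diagonal_of_mono i j f f' w
  refine ⟨hrep, ?_⟩
  intro T' Z' ζ fst' snd' sq'
  obtain ⟨T, τ, t, hτ, ht⟩ := exists_thick_lift hi hj w ζ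
  have sqE0 := IsPullback.of_hasPullback snd' τ
  have sqE := sqE0.map (yon S)
  have big := sqE.paste_horiz sq'
  rw [← ht] at big
  have hcomm : ((yon S).map (pullback.fst snd' τ) ≫ fst') ≫ pullback.diagonal f' =
      ((yon S).map (pullback.snd snd' τ) ≫ t) ≫ pullback.map f f f' f' i i j w.symm w.symm := by
    rw [Category.assoc, Category.assoc, ht, sq'.w, ← Category.assoc, ← Category.assoc,
      ← Functor.map_comp, ← Functor.map_comp, pullback.condition]
  have sqL : IsPullback (sqΔ.lift _ _ hcomm) ((yon S).map (pullback.snd snd' τ)) (pullback.diagonal f) t :=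
    IsPullback.of_right (by rw [sqΔ.lift_fst]; exact big) (sqΔ.lift_snd _ _ hcomm) sqΔ
  have hP : P (pullback.snd snd' τ).left := h.2 t _ _ sqL
  have hm : Mono snd'.left := hmono.2 ζ fst' snd' sq'
  have hl : LocallyOfFiniteType snd'.left := hlft.2 ζ fst' snd' sq'
  exact hdesc snd'.left τ.left _ _ (sqE0.map (Over.forget S)) hτ hm hl hP

/-- Closed immersions descend along thickenings (for monomorphisms locally of finite type). -/
theorem isClosedImmersion_of_thick {Z' T' T E : Scheme.{u}} (g' : Z' ⟶ T') (τ : T ⟶ T') (e1 : E ⟶ Z')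
    (e2 : E ⟶ T) (sq : IsPullback e1 e2 g' τ) (hτ : thick τ) (hm : Mono g') (hl : LocallyOfFiniteType g')
    (h : IsClosedImmersion e2) : IsClosedImmersion g' := by
  haveI : IsClosedImmersion τ := hτ.1
  haveI : Surjective τ := hτ.2
  haveI : Surjective e1 := MorphismProperty.of_isPullback (P := @Surjective) sq.flip inferInstance
  haveI : UniversallyClosed (e1 ≫ g') := by
    rw [sq.w]; infer_instance
  haveI : UniversallyClosed g' := UniversallyClosed.of_comp_surjective e1 g'
  haveI : IsProper g' := {}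
  exact (IsClosedImmersion.iff_isProper_and_mono g').2 ⟨inferInstance, hm⟩

/-- Quasi-compactness descends along surjections. -/
theorem quasiCompact_of_thick {Z' T' T E : Scheme.{u}} (g' : Z' ⟶ T') (τ : T ⟶ T') (e1 : E ⟶ Z')
    (e2 : E ⟶ T) (sq : IsPullback e1 e2 g' τ) (hτ : thick τ) (_ : Mono g') (_ : LocallyOfFiniteType g')
    (h : QuasiCompact e2) : QuasiCompact g' := by
  haveI : IsClosedImmersion τ := hτ.1
  haveI : Surjective τ := hτ.2
  haveI : Surjective e1 := MorphismProperty.of_isPullback (P := @Surjective) sq.flip inferInstance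
  haveI : QuasiCompact (e1 ≫ g') := by
    rw [sq.w]; infer_instance
  constructor
  intro U hU hUc
  have h1 : IsCompact ((e1 ≫ g') ⁻¹' U) := QuasiCompact.isCompact_preimage U hU hUc
  have h2 : g' ⁻¹' U = e1 '' ((e1 ≫ g') ⁻¹' U) := by
    ext z
    constructor
    · intro hz
      obtain ⟨e, rfl⟩ := e1.surjective z
      exact ⟨e, hz, rfl⟩
    · rintro ⟨e, he, rfl⟩
      exact he
  rw [h2]
  exact h1.image e1.continuous

end Groth.Agent.Lib.helper5.ThickDiag
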