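import Mathlib
import Groth.Prelude.Def_AlgSpInf
import Groth.Prelude.Def_AlgSpDec
import Groth.Agent.Lib.Helper5.AlgSpAffTower
import Groth.Agent.Lib.Helper5.AlgSpLocPFam
import Groth.Agent.Lib.Helper5.AlgSpThkTop
import Groth.Agent.Lib.Helper5.FibreDimLocal
import Groth.Agent.Lib.Helper17.LocPAtChart

/-!
# Relative dimension at a point: chart independence and invariance under thickenings (helper5)

* `locPAt_fibreDim_of_hasAtMor`: if SOME chart diagram through `x` has local fibre dimension `d` at the point, then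
  ALL chart diagrams through `x` do (the local fibre dimension is étale local on source and target).
* `hasAtMor_fibreDim_iff_of_thick`: for a cartesian square of thickenings `X = X' ×_{Y'} Y`, `f` has relative dimension
  `d` at every point iff `f'` does.
-/

set_option autoImplicit false
universe u
open CategoryTheory CategoryTheory.Limits AlgebraicGeometry
open AlgSp

namespace Groth.Agent.Lib.helper5.ThickRelDim

variable {S : Scheme.{u}}

/-- Chart independence of "the local fibre dimension satisfies `p`". -/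
theorem locPAt_fibreDim_of_hasAtMor {X Y : Sp S} (f : X ⟶ Y) (x : Points X) (p : WithBot ℕ∞ → Prop)
    (hd : HasAtMor (fun _ _ h u => p (FlatMor.fibreDimAt h u)) f x) :
    LocPAt (fun h u => p (FlatMor.fibreDimAt h u)) f x := by
  obtain ⟨U, V, a, b, h, u, hae, hbe, hc, hu, hQ⟩ := hd
  refine Groth.Agent.Lib.helper17.LocPAtChart.locPAt_of_chart
    (Q := fun h u => p (FlatMor.fibreDimAt h u)) ?_ ?_ f x a b h u hae hbe hc hu hQ
  · intro W U V g _ h w
    rw [FibreDimLocal.fibreDimAt_comp_etale_left]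
  · intro W T V m k _ w
    rw [FibreDimLocal.fibreDimAt_comp_etale_right]

/-- Pull a chart diagram of `f'` down along a cartesian square of thickenings, with all the squares. -/
theorem exists_chart_down' {X X' Y Y' : Sp S} {i : X ⟶ X'} {j : Y ⟶ Y'} {f : X ⟶ Y} {f' : X' ⟶ Y'}
    (hi : IsThickMor i) (hj : IsThickMor j) (hcart : IsPullback i f f' j)
    {U' V' : Over S} (a' : (yon S).obj U' ⟶ X') (b' : (yon S).obj V' ⟶ Y') (h' : U' ⟶ V')
    (ha' : RepWith @Etale a') (hb' : RepWith @Etale b') (hsq : a' ≫ f' = (yon S).map h' ≫ b') :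
    ∃ (U V : Over S) (ι : U ⟶ U') (κ : V ⟶ V') (h : U ⟶ V) (a0 : (yon S).obj U ⟶ X)
      (b0 : (yon S).obj V ⟶ Y), RepWith @Etale a0 ∧ RepWith @Etale b0 ∧
      a0 ≫ f = (yon S).map h ≫ b0 ∧ thick ι.left ∧ thick κ.left ∧
      IsPullback a0 ((yon S).map ι) i a' ∧ ι.left ≫ h'.left = h.left ≫ κ.left := by
  obtain ⟨V, κ, b0, sqV⟩ := hj.1 b'
  obtain ⟨U, ι, h, a0, sqU, ha0, pb⟩ := AffTower.chart_down_step hi hcart a' b' h' hsq sqV
  refine ⟨U, V, ι, κ, h, a0, b0, (RepWith (S := S) @Etale).of_isPullback sqU.flip ha',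
    (RepWith (S := S) @Etale).of_isPullback sqV.flip hb', ha0, hi.2 _ _ _ sqU, hj.2 _ _ _ sqV, sqU, ?_⟩
  rw [← Over.comp_left, ← Over.comp_left, pb.w]

theorem fibreDimAt_eq_of_thick {U₀ U' V₀ V' : Scheme.{u}} (ι : U₀ ⟶ U') (κ : V₀ ⟶ V') (h₀ : U₀ ⟶ V₀)
    (h' : U' ⟶ V') (w : ι ≫ h' = h₀ ≫ κ) (hι : thick ι) (hκ : thick κ) (u₀ : U₀) :
    FlatMor.fibreDimAt h₀ u₀ = FlatMor.fibreDimAt h' (ι u₀) := by
  have h1 : IsClosedImmersion κ := hκ.1
  exact FibreDimLocal.fibreDimAt_eq_of_comm ι κ h₀ h' w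
    (ThkTop.isHomeomorph_of_thick ι hι).isOpenEmbedding κ.isClosedEmbedding.injective u₀

theorem hasAtMor_fibreDim_iff_of_thick {X X' Y Y' : Sp S} (hX' : IsAlgSpace X')
    (hY' : IsAlgSpace Y') {i : X ⟶ X'} {j : Y ⟶ Y'} {f : X ⟶ Y} {f' : X' ⟶ Y'}
    (hi : IsThickMor i) (hj : IsThickMor j) (hcart : IsPullback i f f' j) (d : WithBot ℕ∞) :
    (∀ x, HasAtMor (fun _ _ h u => FlatMor.fibreDimAt h u = d) f x) ↔
      (∀ x', HasAtMor (fun _ _ h u => FlatMor.fibreDimAt h u = d) f' x') := by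
  constructor
  · intro H x'
    obtain ⟨U', V', a', b', h', u', ha', hb', hsq, hu'⟩ :=
      LocPFam.exists_chart_at_point hX' hY' f' x'
    obtain ⟨U, V, ι, κ, h, a0, b0, ha0, hb0, hsq0, hι, hκ, sqU, hw⟩ :=
      exists_chart_down' hi hj hcart a' b' h' ha' hb' hsq
    have hsurj : Surjective ι.left := hι.2
    obtain ⟨u₀, hu₀⟩ := hsurj.surj u'
    have h1 := locPAt_fibreDim_of_hasAtMor f (Points.ofPt a0 u₀) (fun e => e = d)
      (H (Points.ofPt a0 u₀)) a0 b0 h u₀ ha0 hb0 hsq0 rfl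
    refine ⟨U', V', a', b', h', u', ha', hb', hsq, hu', ?_⟩
    change FlatMor.fibreDimAt h'.left u' = d
    rw [← hu₀, ← fibreDimAt_eq_of_thick ι.left κ.left h.left h'.left hw hι hκ u₀]
    exact h1
  · intro H x
    obtain ⟨U', V', a', b', h', u', ha', hb', hsq, hu', hQ⟩ := H (Points.map i x)
    obtain ⟨U, V, ι, κ, h, a0, b0, ha0, hb0, hsq0, hι, hκ, sqU, hw⟩ :=
      exists_chart_down' hi hj hcart a' b' h' ha' hb' hsq
    have hsurj : Surjective ι.left := hι.2
    obtain ⟨u₀, hu₀⟩ := hsurj.surj u'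
    have hx : Points.ofPt a0 u₀ = x := by
      apply (ThkTop.isHomeomorph_map hi hX').injective
      rw [Points.map_ofPt, sqU.w, Groth.Agent.Lib.helper11.ofPt_yon_map_comp, hu₀, hu']
    refine ⟨U, V, a0, b0, h, u₀, ha0, hb0, hsq0, hx, ?_⟩
    change FlatMor.fibreDimAt h.left u₀ = d
    rw [fibreDimAt_eq_of_thick ι.left κ.left h.left h'.left hw hι hκ u₀, hu₀]
    exact hQ

end Groth.Agent.Lib.helper5.ThickRelDim
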