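import Mathlib
import Groth.Prelude.Def_AlgSpInf
import Groth.Agent.Lib.Helper5.AlgSpAffTower
import Groth.Agent.Lib.Helper5.AlgSpLocPFam

/-!
# Towers of affine charts over a thickening of the base (helper5)

Setting: `iB : B ⟶ B'` a thickening of algebraic spaces, `X' ⟶ Y' ⟶ B'` and its base change `X ⟶ Y ⟶ B`.

* `ThickTower`: an affine tower of étale charts `U ⟶ V ⟶ W` of `X' ⟶ Y' ⟶ B'` together with its base change
  `U₀ ⟶ V₀ ⟶ W₀`, a tower of étale charts of `X ⟶ Y ⟶ B`, all squares cartesian.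
* `exists_thickTower`: such towers exist through every point of `X'`.
* `locP_of_thickTower`: to lift `LocP P` from `f` to `f'` it suffices to lift `P` along every tower.
-/

set_option autoImplicit false
universe u
open CategoryTheory CategoryTheory.Limits AlgebraicGeometry
open AlgSp

namespace Groth.Agent.Lib.helper5.ThickTower

variable {S : Scheme.{u}}

/-- An affine tower of charts of `X' ⟶ Y' ⟶ B'` with its base change along the thickening. -/
structure Tower {X X' Y Y' B B' : Sp S} (iX : X ⟶ X') (iY : Y ⟶ Y') (iB : B ⟶ B')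
    (f : X ⟶ Y) (f' : X' ⟶ Y') (g : Y ⟶ B) (g' : Y' ⟶ B') where
  (U V W U₀ V₀ W₀ : Over S)
  a : (yon S).obj U ⟶ X'
  b : (yon S).obj V ⟶ Y'
  c : (yon S).obj W ⟶ B'
  a0 : (yon S).obj U₀ ⟶ X
  b0 : (yon S).obj V₀ ⟶ Y
  c0 : (yon S).obj W₀ ⟶ B
  h1 : U ⟶ V
  h2 : V ⟶ W
  h₀ : U₀ ⟶ V₀
  k₀ : V₀ ⟶ W₀
  ι : U₀ ⟶ U
  κ : V₀ ⟶ V
  lam : W₀ ⟶ W
  affU : IsAffine U.left
  affV : IsAffine V.left
  affW : IsAffine W.left
  hae : RepWith @Etale a
  hbe : RepWith @Etale b
  hce : RepWith @Etale c
  ha0e : RepWith @Etale a0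
  hb0e : RepWith @Etale b0
  hc1 : a ≫ f' = (yon S).map h1 ≫ b
  hc2 : b ≫ g' = (yon S).map h2 ≫ c
  hc0 : a0 ≫ f = (yon S).map h₀ ≫ b0
  hd0 : b0 ≫ g = (yon S).map k₀ ≫ c0
  sqW : IsPullback c0 ((yon S).map lam) iB c
  sqV : IsPullback b0 ((yon S).map κ) iY b
  sqU : IsPullback a0 ((yon S).map ι) iX a
  pbV : IsPullback κ k₀ h2 lam
  pbU : IsPullback ι h₀ h1 κ
  thickW : thick lam.left
  thickV : thick κ.left
  thickU : thick ι.left

variable {X X' Y Y' B B' : Sp S} {iX : X ⟶ X'} {iY : Y ⟶ Y'} {iB : B ⟶ B'}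
  {f : X ⟶ Y} {f' : X' ⟶ Y'} {g : Y ⟶ B} {g' : Y' ⟶ B'}

namespace Tower

variable (T : Tower iX iY iB f f' g g')

theorem pbV_left : IsPullback T.κ.left T.k₀.left T.h2.left T.lam.left := T.pbV.map (Over.forget S)

theorem pbU_left : IsPullback T.ι.left T.h₀.left T.h1.left T.κ.left := T.pbU.map (Over.forget S)

theorem pbUW_left : IsPullback T.ι.left (T.h₀.left ≫ T.k₀.left) (T.h1.left ≫ T.h2.left) T.lam.left :=
  T.pbU_left.paste_vert T.pbV_left

theorem isClosedImmersion_lam : IsClosedImmersion T.lam.left := T.thickW.1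
theorem surjective_lam : Surjective T.lam.left := T.thickW.2
theorem isClosedImmersion_κ : IsClosedImmersion T.κ.left := T.thickV.1
theorem surjective_κ : Surjective T.κ.left := T.thickV.2
theorem isClosedImmersion_ι : IsClosedImmersion T.ι.left := T.thickU.1
theorem surjective_ι : Surjective T.ι.left := T.thickU.2

theorem hc12 : T.a ≫ (f' ≫ g') = (yon S).map (T.h1 ≫ T.h2) ≫ T.c := by
  rw [← Category.assoc, T.hc1, Category.assoc, T.hc2, Functor.map_comp, Category.assoc]

/-- the point of `X` under a point of `U₀` maps to the point of `X'` of its image in `U`. -/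
theorem map_ofPt (u₀ : ↥T.U₀.left) :
    Points.map iX (Points.ofPt T.a0 u₀) = Points.ofPt T.a (T.ι.left u₀) := by
  rw [Points.map_ofPt, T.sqU.w, Groth.Agent.Lib.helper11.ofPt_yon_map_comp]

end Tower

/-- Towers exist through every point of `X'`. -/
theorem exists_thickTower (hX' : IsAlgSpace X') (hY' : IsAlgSpace Y') (hB' : IsAlgSpace B')
    (hB : IsThickMor iB) (hcXY : IsPullback iX f f' iY) (hcY : IsPullback iY g g' iB)
    (x' : Points X') :
    ∃ (T : Tower iX iY iB f f' g g') (u : ↥T.U.left), Points.ofPt T.a u = x' := by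
  have hYthick : IsThickMor iY := (RepWith (S := S) thick).of_isPullback hcY.flip hB
  have hXthick : IsThickMor iX := (RepWith (S := S) thick).of_isPullback hcXY.flip hYthick
  obtain ⟨U, V, W, a, b, c, h1, h2, u, hU, hV, hW, hae, hbe, hce, hc1, hc2, hu⟩ :=
    AffTower.exists_affine_tower hX' hY' hB' f' g' x'
  obtain ⟨W₀, lam, c0, sqW⟩ := hB.1 c
  obtain ⟨V₀, κ, k₀, b0, sqV, hb0, pbV⟩ := AffTower.chart_down_step hYthick hcY b c h2 hc2 sqW
  obtain ⟨U₀, ι, h₀, a0, sqU, ha0, pbU⟩ := AffTower.chart_down_step hXthick hcXY a b h1 hc1 sqV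
  let T : Tower iX iY iB f f' g g' :=
    { U := U
      V := V
      W := W
      U₀ := U₀
      V₀ := V₀
      W₀ := W₀
      a := a
      b := b
      c := c
      a0 := a0
      b0 := b0
      c0 := c0
      h1 := h1
      h2 := h2
      h₀ := h₀
      k₀ := k₀
      ι := ι
      κ := κ
      lam := lam
      affU := hU
      affV := hV
      affW := hW
      hae := hae
      hbe := hbe
      hce := hce
      ha0e := (RepWith (S := S) @Etale).of_isPullback sqU.flip hae
      hb0e := (RepWith (S := S) @Etale).of_isPullback sqV.flip hbe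
      hc1 := hc1
      hc2 := hc2
      hc0 := ha0
      hd0 := hb0
      sqW := sqW
      sqV := sqV
      sqU := sqU
      pbV := pbV
      pbU := pbU
      thickW := hB.2 _ _ _ sqW
      thickV := hYthick.2 _ _ _ sqV
      thickU := hXthick.2 _ _ _ sqU }
  exact ⟨T, u, hu⟩

/-- To lift `LocP P` from `f` to `f'` it suffices to lift `P` along every tower. -/
theorem locP_of_thickTower {P : MorphismProperty Scheme.{u}} (hP : LocPBC.LocPData P)
    [IsZariskiLocalAtSource P] (hX' : IsAlgSpace X') (hY' : IsAlgSpace Y') (hB' : IsAlgSpace B')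
    (hB : IsThickMor iB) (hcXY : IsPullback iX f f' iY) (hcY : IsPullback iY g g' iB)
    (hstep : ∀ T : Tower iX iY iB f f' g g', P T.h₀.left → P T.h1.left) (hf : LocP P f) :
    LocP P f' := by
  have key := fun x' : Points X' => exists_thickTower hX' hY' hB' hB hcXY hcY x'
  choose T u hu using key
  refine LocPFam.locP_of_chart_family hP f' (fun x' => (T x').U) (fun x' => (T x').V)
    (fun x' => (T x').a) (fun x' => (T x').b) (fun x' => (T x').h1) (fun x' => (T x').hae)
    (fun x' => (T x').hbe) (fun x' => (T x').hc1) (fun x' => ?_) (fun x' => ⟨x', u x', hu x'⟩)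
  exact hstep (T x') (hf (T x').a0 (T x').b0 (T x').h₀ (T x').ha0e (T x').hb0e (T x').hc0)

end Groth.Agent.Lib.helper5.ThickTower
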