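import Groth.Agent.Lib.Helper5.AlgSpInf3
import Groth.Agent.Lib.Helper7.AlgSpChartSq

/-!
# First order thickenings of affine schemes as thickenings of sheaves (helper5)

* `sqZero_of_isPullback_thk`: an affine base change of `Spec (A ⧸ I) ⟶ Spec A`, `I ^ 2 = 0`, has
  square-zero kernel ideal sheaf;
* `Thk.isFOThickMor`: `h_{D.j}` is a first order thickening of sheaves;
* `isFOThickMor_of_isPullback_etale_affine`: base change of a first order thickening along an affine
  étale chart.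
-/

set_option autoImplicit false
universe u

open CategoryTheory CategoryTheory.Limits AlgebraicGeometry Opposite

namespace Groth.Agent.Lib.helper5

open AlgSp

variable {S : Scheme.{u}}

theorem sqZero_of_ker_sq {W V : Scheme.{u}} [IsAffine V] (t : W ⟶ V)
    (h : RingHom.ker t.appTop.hom ^ 2 = ⊥) : t.ker * t.ker = ⊥ := by
  have h1 : t.ker = Scheme.IdealSheafData.equivOfIsAffine.symm (RingHom.ker t.appTop.hom) := by
    rw [Scheme.IdealSheafData.equivOfIsAffine_symm_apply]
    exact Scheme.ker_of_isAffine t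
  rw [h1, ← map_mul, ← pow_two, h]
  exact map_zero Scheme.IdealSheafData.equivOfIsAffine.symm

theorem sqZero_of_isPullback_thk {A : Type u} [CommRing A] (I : Ideal A) (hI : I ^ 2 = ⊥)
    {V W : Scheme.{u}} [IsAffine V] (β : V ⟶ Spec (.of A)) (p : W ⟶ Spec (.of (A ⧸ I)))
    (snd : W ⟶ V)
    (sq : IsPullback p snd (Spec.map (CommRingCat.ofHom (Ideal.Quotient.mk I))) β) :
    snd.ker * snd.ker = ⊥ := by
  let ε : V ≅ Spec (CommRingCat.of Γ(V, ⊤)) := V.isoSpec
  let φ : CommRingCat.of A ⟶ CommRingCat.of Γ(V, ⊤) := Spec.preimage (ε.inv ≫ β)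
  have hφ : Spec.map φ = ε.inv ≫ β := Spec.map_preimage _
  let J : Ideal Γ(V, ⊤) := I.map φ.hom
  have hJ : J ^ 2 = ⊥ := by
    rw [← Ideal.map_pow, hI, Ideal.map_bot]
  have hq : CommRingCat.ofHom (Ideal.Quotient.mk I) ≫
      CommRingCat.ofHom (Ideal.quotientMap J φ.hom Ideal.le_comap_map) =
      φ ≫ CommRingCat.ofHom (Ideal.Quotient.mk J) := by
    ext x
    rfl
  have hq' : Spec.map (CommRingCat.ofHom (Ideal.quotientMap J φ.hom Ideal.le_comap_map)) ≫
      Spec.map (CommRingCat.ofHom (Ideal.Quotient.mk I)) =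
      Spec.map (CommRingCat.ofHom (Ideal.Quotient.mk J)) ≫ Spec.map φ := by
    rw [← Spec.map_comp, ← Spec.map_comp, hq]
  obtain ⟨q, -, hq2⟩ := sq.exists_lift
    (Spec.map (CommRingCat.ofHom (Ideal.quotientMap J φ.hom Ideal.le_comap_map)))
    (Spec.map (CommRingCat.ofHom (Ideal.Quotient.mk J)) ≫ ε.inv) (by
      rw [hq', hφ, Category.assoc])
  apply sqZero_of_ker_sq
  have hle : RingHom.ker snd.appTop.hom ≤ J := by
    intro x hx
    rw [RingHom.mem_ker] at hx
    have h1 : (q ≫ snd).appTop.hom x = 0 := by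
      rw [Scheme.Hom.comp_appTop]
      show q.appTop.hom (snd.appTop.hom x) = 0
      rw [hx, map_zero]
    rw [hq2, Scheme.Hom.comp_appTop] at h1
    have h2 : (Scheme.ΓSpecIso (CommRingCat.of (Γ(V, ⊤) ⧸ J))).hom.hom
        ((Spec.map (CommRingCat.ofHom (Ideal.Quotient.mk J))).appTop.hom
          (ε.inv.appTop.hom x)) = 0 := by
      have : (Spec.map (CommRingCat.ofHom (Ideal.Quotient.mk J))).appTop.hom
          (ε.inv.appTop.hom x) = 0 := h1
      rw [this, map_zero]
    have h3 := congrArg (fun k => k.hom (ε.inv.appTop.hom x))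
      (Scheme.ΓSpecIso_naturality (CommRingCat.ofHom (Ideal.Quotient.mk J)))
    have h4 : (Scheme.ΓSpecIso (CommRingCat.of Γ(V, ⊤))).hom.hom (ε.inv.appTop.hom x) = x := by
      have e1 : V.isoSpec.inv.appTop ≫ (Scheme.ΓSpecIso Γ(V, ⊤)).hom = 𝟙 _ := by
        rw [← Scheme.toSpecΓ_appTop, ← Scheme.Hom.comp_appTop, Scheme.toSpecΓ_isoSpec_inv]
        rfl
      exact congrArg (fun k => k.hom x) e1
    have h5 : Ideal.Quotient.mk J x = 0 := by
      have : (Scheme.ΓSpecIso (CommRingCat.of (Γ(V, ⊤) ⧸ J))).hom.hom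
          ((Spec.map (CommRingCat.ofHom (Ideal.Quotient.mk J))).appTop.hom
            (ε.inv.appTop.hom x)) =
          Ideal.Quotient.mk J ((Scheme.ΓSpecIso (CommRingCat.of Γ(V, ⊤))).hom.hom
            (ε.inv.appTop.hom x)) := h3
      rw [h2, h4] at this
      exact this.symm
    exact Ideal.Quotient.eq_zero_iff_mem.mp h5
  exact le_bot_iff.mp ((Ideal.pow_right_mono hle 2).trans hJ.le)

/-- `h_{D.j}` is a first order thickening of sheaves. -/
theorem Thk.isFOThickMor (D : Thk S) : IsFOThickMor ((yon S).map D.j) := by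
  refine ⟨(isThickMor_yon_map_iff D.j).2 D.isFirstOrderThickening.1, ?_⟩
  intro V W b fst snd hV hb sq
  obtain ⟨β, rfl⟩ := (yon S).map_surjective b
  obtain ⟨fst', rfl⟩ := (yon S).map_surjective fst
  have sq' : IsPullback fst'.left snd.left D.j.left β.left :=
    Groth.Agent.Lib.helper7.AlgSpChartSq.isPullback_left_of_yon sq
  have : IsAffine V.left := hV
  exact sqZero_of_isPullback_thk D.I D.sq_zero β.left fst'.left snd.left sq'

/-- Base change of a first order thickening of sheaves along any étale map from a sheaf. -/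
theorem isFOThickMor_of_isPullback {T T' Z W : Sp S} {j : T ⟶ T'} (hj : IsFOThickMor j)
    {β : Z ⟶ T'} (hβ : RepWith @Etale β) {fst : W ⟶ T} {t : W ⟶ Z}
    (sq : IsPullback fst t j β) : IsFOThickMor t := by
  refine ⟨(repWith_isStableUnderBaseChange (S := S) thick).of_isPullback sq hj.1, ?_⟩
  intro V₂ W₂ b₂ fst₂ snd₂ hV₂ hb₂ sq₂
  have sq₃ : IsPullback (fst₂ ≫ fst) ((yon S).map snd₂) j (b₂ ≫ β) :=
    (sq₂.flip.paste_vert sq.flip).flip
  exact hj.2 (b₂ ≫ β) (fst₂ ≫ fst) snd₂ hV₂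
    ((repWith_isMultiplicative (S := S) @Etale).comp_mem _ _ hb₂ hβ) sq₃

end Groth.Agent.Lib.helper5
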