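import Groth.Agent.Lib.Helper5.AlgSpThk

/-!
# Base change of first order thickenings of algebraic spaces along arbitrary maps (helper5)

* `eq_zero_of_flat_cover`: a global function vanishing on a jointly surjective flat family is zero;
* `sqZero_of_flat_cover`: square-zero kernel ideal descends along jointly surjective flat families;
* `sqZero_of_isPullback_of_isFOThickMor`: the pullback of a first order thickening of algebraic
  spaces along ANY map from an affine scheme has square-zero kernel ideal;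
* `isFOThickMor_of_isPullback_any`: base change of a first order thickening along any morphism of
  algebraic spaces.
-/

set_option autoImplicit false
universe u

open CategoryTheory CategoryTheory.Limits AlgebraicGeometry Opposite

namespace Groth.Agent.Lib.helper5

open AlgSp

variable {S : Scheme.{u}}

theorem eq_zero_of_flat_cover {X : Scheme.{u}} {κ : Type*} (Y : κ → Scheme.{u})
    (f : ∀ k, Y k ⟶ X) (hf : ∀ k, Flat (f k)) (hsurj : ∀ x : ↥X, ∃ k, x ∈ Set.range (f k))
    (z : Γ(X, ⊤)) (hz : ∀ k, (f k).appTop.hom z = 0) : z = 0 := by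
  apply TopCat.Presheaf.section_ext X.sheaf ⊤ z 0
  intro x hx
  obtain ⟨k, y, rfl⟩ := hsurj x
  have hinj : Function.Injective ((f k).stalkMap y).hom := by
    algebraize [((f k).stalkMap y).hom]
    have : Module.FaithfullyFlat (X.presheaf.stalk ((f k) y)) ((Y k).presheaf.stalk y) :=
      @Module.FaithfullyFlat.of_flat_of_isLocalHom _ _ _ _ _ _ _
        (Flat.stalkMap (f k) y) ((f k).toLRSHom.prop y)
    exact ‹RingHom.FaithfullyFlat _›.injective
  apply hinj
  have h1 := Scheme.Hom.germ_stalkMap_apply (f k) ⊤ y hx z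
  have h2 : ((f k).app ⊤).hom z = 0 := hz k
  have h3 : ((f k).stalkMap y).hom (X.presheaf.germ ⊤ ((f k) y) hx z) = 0 := by
    refine h1.trans ?_
    have : (ConcreteCategory.hom (Scheme.Hom.app (f k) ⊤)) z = 0 := h2
    rw [this, map_zero]
  have h4 : ((f k).stalkMap y).hom (X.presheaf.germ ⊤ ((f k) y) hx (0 : Γ(X, ⊤))) = 0 := by
    rw [map_zero, map_zero]
  exact h3.trans h4.symm

theorem ker_sq_of_sqZero {W V : Scheme.{u}} [IsAffine V] (t : W ⟶ V)
    (h : t.ker * t.ker = ⊥) : RingHom.ker t.appTop.hom * RingHom.ker t.appTop.hom = ⊥ := by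
  have h1 : t.ker = Scheme.IdealSheafData.equivOfIsAffine.symm (RingHom.ker t.appTop.hom) := by
    rw [Scheme.IdealSheafData.equivOfIsAffine_symm_apply]
    exact Scheme.ker_of_isAffine t
  rw [h1, ← map_mul] at h
  have h2 : Scheme.IdealSheafData.equivOfIsAffine.symm
      (RingHom.ker t.appTop.hom * RingHom.ker t.appTop.hom) =
      Scheme.IdealSheafData.equivOfIsAffine.symm (⊥ : Ideal Γ(V, ⊤)) := by
    rw [h]
    exact (map_zero (Scheme.IdealSheafData.equivOfIsAffine (X := V)).symm).symm
  exact Scheme.IdealSheafData.equivOfIsAffine.symm.injective h2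

/-- Square-zero kernel ideals descend along jointly surjective flat families of affine schemes. -/
theorem sqZero_of_flat_cover {W V : Scheme.{u}} [IsAffine V] (s : W ⟶ V) {κ : Type*}
    (Vk Pk : κ → Scheme.{u}) (hVk : ∀ k, IsAffine (Vk k)) (c : ∀ k, Vk k ⟶ V)
    (hc : ∀ k, Flat (c k)) (hsurj : ∀ x : ↥V, ∃ k, x ∈ Set.range (c k))
    (p : ∀ k, Pk k ⟶ W) (sk : ∀ k, Pk k ⟶ Vk k) (w : ∀ k, p k ≫ s = sk k ≫ c k)
    (h : ∀ k, (sk k).ker * (sk k).ker = ⊥) : s.ker * s.ker = ⊥ := by
  apply sqZero_of_ker_sq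
  rw [pow_two, eq_bot_iff, Ideal.mul_le]
  intro x hx y hy
  rw [Ideal.mem_bot]
  apply eq_zero_of_flat_cover Vk c hc hsurj
  intro k
  have := hVk k
  have hk := ker_sq_of_sqZero (sk k) (h k)
  have hmem : ∀ z ∈ RingHom.ker s.appTop.hom,
      (c k).appTop.hom z ∈ RingHom.ker (sk k).appTop.hom := by
    intro z hz
    rw [RingHom.mem_ker] at hz ⊢
    have e1 : (sk k ≫ c k).appTop.hom z = (p k ≫ s).appTop.hom z := by rw [w k]
    rw [Scheme.Hom.comp_appTop, Scheme.Hom.comp_appTop] at e1
    have e2 : (sk k).appTop.hom ((c k).appTop.hom z) = (p k).appTop.hom (s.appTop.hom z) := e1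
    rw [e2, hz, map_zero]
  have h1 : (c k).appTop.hom x * (c k).appTop.hom y ∈
      RingHom.ker (sk k).appTop.hom * RingHom.ker (sk k).appTop.hom :=
    Ideal.mul_mem_mul (hmem x hx) (hmem y hy)
  rw [hk, Ideal.mem_bot] at h1
  rw [map_mul]
  exact h1

/-- The pullback of a first order thickening of algebraic spaces along ANY map from an affine
scheme has square-zero kernel ideal sheaf. -/
theorem sqZero_of_isPullback_of_isFOThickMor {Z Z' : Sp S} {i : Z ⟶ Z'} (hi : IsFOThickMor i)
    (hZ' : IsAlgSpace Z') {V W : Over S} (b : (yon S).obj V ⟶ Z') (fst : (yon S).obj W ⟶ Z)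
    (snd : W ⟶ V) (hV : IsAffine V.left) (sq : IsPullback fst ((yon S).map snd) i b) :
    sqZero snd.left := by
  obtain ⟨κ, Vk, c, Uk, βk, wk, hVk, hUk, hβk, hcf, -, hcs, hcw⟩ := exists_affine_refinement hZ' b
  -- pullbacks of `i` along the affine étale charts `βk`
  have hWk : ∀ k, ∃ (Wk : Over S) (sndk : Wk ⟶ Uk k) (fstk : (yon S).obj Wk ⟶ Z),
      IsPullback fstk ((yon S).map sndk) i (βk k) := fun k => hi.1.rep (βk k)
  choose Wk sndk fstk sqk using hWk
  -- pullbacks of `i` along `h_{c k} ≫ b`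
  have hPk : ∀ k, ∃ (Pk : Over S) (sk : Pk ⟶ Vk k) (gk : (yon S).obj Pk ⟶ Z),
      IsPullback gk ((yon S).map sk) i ((yon S).map (c k) ≫ b) :=
    fun k => hi.1.rep ((yon S).map (c k) ≫ b)
  choose Pk sk gk sqP using hPk
  -- the maps `Pk ⟶ W`
  have hp : ∀ k, ∃ p : Pk k ⟶ W, p ≫ snd = sk k ≫ c k := by
    intro k
    obtain ⟨p', -, hp2⟩ := sq.exists_lift (gk k) ((yon S).map (sk k) ≫ (yon S).map (c k))
      (by rw [(sqP k).w, Category.assoc])
    obtain ⟨p, rfl⟩ := (yon S).map_surjective p'
    refine ⟨p, (yon S).map_injective ?_⟩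
    rw [Functor.map_comp, Functor.map_comp, hp2]
  choose p hp using hp
  -- the maps `Pk ⟶ Wk` and the scheme level pullback squares
  have hq : ∀ k, ∃ q : Pk k ⟶ Wk k, IsPullback q.left (sk k).left (sndk k).left (wk k).left := by
    intro k
    have sqP' : IsPullback (gk k) ((yon S).map (sk k)) i ((yon S).map (wk k) ≫ βk k) := by
      rw [← hcw k]; exact sqP k
    obtain ⟨q', hq1, hq2⟩ := (sqk k).exists_lift (gk k) ((yon S).map (sk k) ≫ (yon S).map (wk k))
      (by rw [sqP'.w, Category.assoc])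
    obtain ⟨q, rfl⟩ := (yon S).map_surjective q'
    refine ⟨q, Groth.Agent.Lib.helper7.AlgSpChartSq.isPullback_left_of_yon ?_⟩
    have big : IsPullback ((yon S).map q ≫ fstk k) ((yon S).map (sk k)) i
        ((yon S).map (wk k) ≫ βk k) := by
      rw [hq1]; exact sqP'
    exact IsPullback.of_right big hq2 (sqk k)
  choose q hq using hq
  have : IsAffine V.left := hV
  refine sqZero_of_flat_cover snd.left (fun k => (Vk k).left) (fun k => (Pk k).left) hVk
    (fun k => (c k).left) hcf hcs (fun k => (p k).left) (fun k => (sk k).left) ?_ ?_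
  · intro k
    have := congrArg (fun m => m.left) (hp k)
    simpa using this
  · intro k
    have hthick : MoreMor.IsFirstOrderThickening (sndk k).left :=
      ⟨hi.1.2 (βk k) (fstk k) (sndk k) (sqk k), hi.2 (βk k) (fstk k) (sndk k) (hUk k) (hβk k) (sqk k)⟩
    obtain ⟨D, e1, e2, he⟩ := exists_thk_of_affine (sndk k) (hUk k) hthick
    have he' : e1.hom.left ≫ D.j.left = (sndk k).left ≫ e2.hom.left := by
      have := congrArg (fun m => m.left) he
      simpa using this
    have : IsAffine (Vk k).left := hVk k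
    have sq2 : IsPullback ((q k).left ≫ e1.hom.left) (sk k).left D.j.left
        ((wk k).left ≫ e2.hom.left) := by
      have hiso1 : IsIso e1.hom.left := inferInstanceAs (IsIso ((Over.forget S).map e1.hom))
      have hiso2 : IsIso e2.hom.left := inferInstanceAs (IsIso ((Over.forget S).map e2.hom))
      have sqiso : IsPullback e1.hom.left (sndk k).left D.j.left e2.hom.left :=
        IsPullback.of_horiz_isIso ⟨he'⟩
      exact (hq k).paste_horiz sqiso
    exact sqZero_of_isPullback_thk D.I D.sq_zero ((wk k).left ≫ e2.hom.left)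
      ((q k).left ≫ e1.hom.left) (sk k).left sq2

/-- Base change of a first order thickening of algebraic spaces along any morphism from an
algebraic space. -/
theorem isFOThickMor_of_isPullback_any {Z Z' P Q : Sp S} {i : Z ⟶ Z'} (hi : IsFOThickMor i)
    (hZ' : IsAlgSpace Z') {β : P ⟶ Z'} {fst : Q ⟶ Z} {t : Q ⟶ P}
    (sq : IsPullback fst t i β) : IsFOThickMor t := by
  refine ⟨(repWith_isStableUnderBaseChange (S := S) thick).of_isPullback sq hi.1, ?_⟩
  intro V₂ W₂ b₂ fst₂ snd₂ hV₂ _ sq₂
  have sq₃ : IsPullback (fst₂ ≫ fst) ((yon S).map snd₂) i (b₂ ≫ β) :=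
    (sq₂.flip.paste_vert sq.flip).flip
  exact sqZero_of_isPullback_of_isFOThickMor hi hZ' (b₂ ≫ β) (fst₂ ≫ fst) snd₂ hV₂ sq₃

end Groth.Agent.Lib.helper5
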