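import Groth.Agent.Lib.Helper5.AlgSpThk2
import Groth.Agent.Lib.Helper5.AlgSpInf5
import Groth.Agent.Lib.Helper5.AlgSpUniv3
import Groth.Agent.Lib.Helper5.AlgSpFpqcIso

/-!
# Étale covers of thickening data (helper5)

* `isFOThickMor_yon_map_of_affine`: an affine first order thickening of schemes over `S` is a first
  order thickening of sheaves;
* `exists_etale_cover_through`: for an étale surjective morphism `e : Z ⟶ Y` from an algebraic space
  and a map `a : h_T ⟶ Y`, an étale surjective `p : W ⟶ T` with `h_W ⟶ Z` over `a`;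
* `exists_etale_lift_cover`: for thickening data `D` and an étale surjective `p : W ⟶ D.ptT`, a
  jointly surjective family of affine étale `T'w ⟶ D.ptT'` whose restrictions to `D.ptT` factor through
  `W`.
-/

set_option autoImplicit false
universe u

open CategoryTheory CategoryTheory.Limits AlgebraicGeometry Opposite

namespace Groth.Agent.Lib.helper5

open AlgSp

variable {S : Scheme.{u}}

theorem isFOThickMor_yon_map_of_affine {W W' : Over S} (t : W ⟶ W') (hW' : IsAffine W'.left)
    (ht : MoreMor.IsFirstOrderThickening t.left) : IsFOThickMor ((yon S).map t) := by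
  obtain ⟨D, e1, e2, sq⟩ := exists_thk_of_affine t hW' ht
  have hβ : RepWith @Etale ((yon S).map e2.hom) := by
    refine (repWith_yon_map_iff _ _).2 ?_
    have : IsIso e2.hom.left := inferInstanceAs (IsIso ((Over.forget S).map e2.hom))
    show Etale e2.hom.left
    infer_instance
  have sq' : IsPullback ((yon S).map e1.hom) ((yon S).map t) ((yon S).map D.j)
      ((yon S).map e2.hom) :=
    IsPullback.of_horiz_isIso ⟨by rw [← Functor.map_comp, ← Functor.map_comp, sq]⟩
  exact isFOThickMor_of_isPullback (Thk.isFOThickMor D) hβ sq'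

theorem exists_etale_cover_through {Z Y : Sp S} (hZ : IsAlgSpace Z) (e : Z ⟶ Y)
    (he : IsEtaleMor e) (hes : IsSurjectiveMor e) {T : Over S} (a : (yon S).obj T ⟶ Y) :
    ∃ (W : Over S) (p : W ⟶ T) (z : (yon S).obj W ⟶ Z), Etale p.left ∧ Surjective p.left ∧
      z ≫ e = (yon S).map p ≫ a := by
  obtain ⟨U, q, hqe, hqs⟩ := hZ.atlas
  have hqe' : RepWith @Etale (q ≫ e) := he q hqe
  obtain ⟨W, p, fst, sq⟩ := hqe'.rep a
  refine ⟨W, p, fst ≫ q, hqe'.2 a fst p sq, ?_, by rw [Category.assoc, sq.w]⟩
  have h1 : IsSurjectiveMor (q ≫ e) := by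
    intro y
    obtain ⟨x, hx⟩ := hes y
    obtain ⟨u, hu⟩ := surjective_map_of_repWith_surjective q hqs x
    exact ⟨u, by rw [Points.map_comp, hu, hx]⟩
  have h2 : IsSurjectiveMor ((yon S).map p) := isSurjectiveMor_of_isPullback sq.flip h1
  exact FpqcIso.surjective_of_points p h2

/-- Lifting an étale cover of `D.ptT` to a jointly surjective family of affine étale schemes over
`D.ptT'`. -/
theorem exists_etale_lift_cover (D : Thk S) {W : Over S} (p : W ⟶ D.ptT) (hpe : Etale p.left)
    (hps : Surjective p.left) :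
    ∃ (κ : Type u) (T'w Tw : κ → Over S) (c : ∀ w, T'w w ⟶ D.ptT') (t : ∀ w, Tw w ⟶ T'w w)
      (ι : ∀ w, Tw w ⟶ W),
      (∀ w, IsAffine (T'w w).left) ∧ (∀ w, Flat (c w).left) ∧
      (∀ w, LocallyOfFinitePresentation (c w).left) ∧
      (∀ x : ↥D.ptT'.left, ∃ w, x ∈ Set.range (c w).left) ∧
      (∀ w, MoreMor.IsFirstOrderThickening (t w).left) ∧
      (∀ w, IsPullback (ι w ≫ p).left (t w).left D.j.left (c w).left) ∧
      (∀ w, ι w ≫ p ≫ D.j = t w ≫ c w) := by
  choose T'w Tw c t ι hAff hce hw hFO hpb using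
    fun w : ↥W.left => exists_etale_lift_nhd D p hpe w
  refine ⟨↥W.left, T'w, Tw, c, t, ι, hAff, fun w => by have := hce w; infer_instance,
    fun w => by have := hce w; infer_instance, ?_, hFO, ?_, ?_⟩
  · intro x
    obtain ⟨y, rfl⟩ := D.isFirstOrderThickening.1.2.surj x
    obtain ⟨w₀, rfl⟩ := hps.surj y
    obtain ⟨z, hz⟩ := hw w₀
    refine ⟨w₀, (t w₀).left z, ?_⟩
    have := congrArg (fun k => k z) (hpb w₀).w
    simp only [Scheme.Hom.comp_apply] at this
    rw [← this, hz]
  · intro w
    exact hpb w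
  · intro w
    ext
    simpa using (hpb w).w

end Groth.Agent.Lib.helper5
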