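import Groth.Agent.Lib.Helper5.AlgSpEtaleLift2
import Groth.Agent.Lib.Helper5.AlgSpThk3

/-!
# Universal first order thickenings: uniqueness and cancellation lemmas (helper5)

* `etale_of_comp_repWith`: cancellation for étale maps into a sheaf;
* `IsUnivFOThick.exists_iso`: two universal first order thickenings of the same `T ⟶ X` are isomorphic.
-/

set_option autoImplicit false
universe u

open CategoryTheory CategoryTheory.Limits AlgebraicGeometry Opposite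

namespace Groth.Agent.Lib.helper5

open AlgSp

variable {S : Scheme.{u}}

/-- If `z : h_B ⟶ F` and `h_g ≫ z` are representable étale, then `g` is étale. -/
theorem etale_of_comp_repWith {F : Sp S} {A B : Over S} (z : (yon S).obj B ⟶ F)
    (hz : RepWith @Etale z) (g : A ⟶ B) (h : RepWith @Etale ((yon S).map g ≫ z)) :
    Etale g.left := by
  obtain ⟨E, pr, q', sq⟩ := hz.rep ((yon S).map g ≫ z)
  obtain ⟨q, rfl⟩ := (yon S).map_surjective q'
  have hpr : Etale pr.left := hz.2 _ _ pr sq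
  have hq : Etale q.left := h.2 z ((yon S).map pr) q sq.flip
  obtain ⟨s', hs1, hs2⟩ := sq.exists_lift ((yon S).map g) (𝟙 _) (by rw [Category.id_comp])
  obtain ⟨s, rfl⟩ := (yon S).map_surjective s'
  have hs1' : s ≫ q = g := (yon S).map_injective (by rw [Functor.map_comp, hs1])
  have hs2' : s ≫ pr = 𝟙 A := (yon S).map_injective (by
    rw [Functor.map_comp, hs2, CategoryTheory.Functor.map_id])
  have hs : Etale s.left := by
    have h1 : Etale (s.left ≫ pr.left) := by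
      rw [← Over.comp_left, hs2']
      show Etale (𝟙 A.left)
      infer_instance
    exact MorphismProperty.of_postcomp (W := @Etale) (W' := @Etale) s.left pr.left hpr h1
  rw [← hs1', Over.comp_left]
  infer_instance

/-- Two universal first order thickenings of the same `T ⟶ X` are isomorphic, compatibly. -/
theorem IsUnivFOThick.exists_iso {T T₁ T₂ X : Sp S} {hT : T ⟶ X} {i₁ : T ⟶ T₁} {h₁ : T₁ ⟶ X}
    {i₂ : T ⟶ T₂} {h₂ : T₂ ⟶ X} (hTa : IsAlgSpace T) (hT₁ : IsAlgSpace T₁) (hT₂ : IsAlgSpace T₂)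
    (H₁ : IsUnivFOThick hT i₁ h₁) (H₂ : IsUnivFOThick hT i₂ h₂) :
    ∃ θ : T₁ ≅ T₂, i₁ ≫ θ.hom = i₂ ∧ θ.hom ≫ h₂ = h₁ := by
  obtain ⟨θ, ⟨hθ1, hθ2⟩, -⟩ := H₂.2.2 hTa hT₁ i₁ (𝟙 T) h₁ H₁.1 (by rw [H₁.2.1, Category.id_comp])
  obtain ⟨θ', ⟨hθ'1, hθ'2⟩, -⟩ := H₁.2.2 hTa hT₂ i₂ (𝟙 T) h₂ H₂.1 (by rw [H₂.2.1, Category.id_comp])
  rw [Category.id_comp] at hθ1 hθ'1
  obtain ⟨u₁, -, hu₁⟩ := H₁.2.2 hTa hT₁ i₁ (𝟙 T) h₁ H₁.1 (by rw [H₁.2.1, Category.id_comp])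
  obtain ⟨u₂, -, hu₂⟩ := H₂.2.2 hTa hT₂ i₂ (𝟙 T) h₂ H₂.1 (by rw [H₂.2.1, Category.id_comp])
  have e1 : θ ≫ θ' = 𝟙 T₁ := by
    rw [hu₁ (θ ≫ θ') ⟨by rw [← Category.assoc, hθ1, hθ'1, Category.id_comp],
      by rw [Category.assoc, hθ'2, hθ2]⟩,
      hu₁ (𝟙 T₁) ⟨by rw [Category.comp_id, Category.id_comp], by rw [Category.id_comp]⟩]
  have e2 : θ' ≫ θ = 𝟙 T₂ := by
    rw [hu₂ (θ' ≫ θ) ⟨by rw [← Category.assoc, hθ'1, hθ1, Category.id_comp],
      by rw [Category.assoc, hθ2, hθ'2]⟩,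
      hu₂ (𝟙 T₂) ⟨by rw [Category.comp_id, Category.id_comp], by rw [Category.id_comp]⟩]
  exact ⟨⟨θ, θ', e1, e2⟩, hθ1, hθ2⟩

end Groth.Agent.Lib.helper5
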