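import Groth.Agent.Lib.Helper5.AlgSpFlatLocus
import Groth.Agent.Lib.Helper5.AlgSpOpenSub
import Groth.Agent.Lib.Helper10.AlgSpPoints

/-!
# Where a morphism of algebraic spaces is flat (helper5)

* `locP_flat_baseChange_iff`: for `f : X ⟶ Y` over `Z` with `X ⟶ Z` flat lfp and `Y ⟶ Z` lft, the base
  change of `f` along `g : Z' ⟶ Z` is flat iff `g` misses the image in `|Z|` of the non-flat locus.
-/

set_option autoImplicit false
universe u
open CategoryTheory CategoryTheory.Limits AlgebraicGeometry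
open AlgSp

namespace Groth.Agent.Lib.helper5.AlgSpFlatLocus

variable {S : Scheme.{u}}

/-- The base change of `f` along `g : Z' ⟶ Z` is flat iff `g` misses the image of the non-flat
locus. -/
theorem locP_flat_baseChange_iff {X Y Z Z' Y' X' : Sp S} (hX : IsAlgSpace X) (hY : IsAlgSpace Y)
    (hZ : IsAlgSpace Z) (hZ' : IsAlgSpace Z') {f : X ⟶ Y} {q : Y ⟶ Z}
    (hfp : LocP @LocallyOfFinitePresentation (f ≫ q)) (hfl : LocP @Flat (f ≫ q))
    (hft : LocP @LocallyOfFiniteType q)
    {g : Z' ⟶ Z} {gY : Y' ⟶ Y} {q' : Y' ⟶ Z'} (sq1 : IsPullback gY q' q g)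
    {gX : X' ⟶ X} {f' : X' ⟶ Y'} (sq2 : IsPullback gX f' f gY) :
    LocP @Flat f' ↔
      ∀ z' : Points Z', Points.map g z' ∉
        Points.map (f ≫ q) '' {x : Points X | ¬ IsFlatAtMor f x} := by
  have hbc := flatLocus_baseChange hX hY hZ hZ' hfp hfl hft sq1 sq2
  rw [locP_flat_iff_forall]
  constructor
  · intro h z' hz'
    obtain ⟨x, hxT, hxz⟩ := hz'
    have hxz' : Points.map q (Points.map f x) = Points.map g z' := by
      rw [← Points.map_comp]; exact hxz
    obtain ⟨y', hy'1, hy'2⟩ := Groth.Agent.Lib.helper10.exists_point_of_isPullback sq1.flip z'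
      (Points.map f x) hxz'.symm
    obtain ⟨x', hx'1, hx'2⟩ := Groth.Agent.Lib.helper10.exists_point_of_isPullback sq2 x y' hy'2.symm
    have h1 : x' ∈ {x' : Points X' | IsFlatAtMor f' x'} := h x'
    rw [hbc] at h1
    have h2 : IsFlatAtMor f (Points.map gX x') := h1
    rw [hx'1] at h2
    exact hxT h2
  · intro h x'
    have h1 : x' ∈ Points.map gX ⁻¹' {x : Points X | IsFlatAtMor f x} := by
      show IsFlatAtMor f (Points.map gX x')
      by_contra hcon
      refine h (Points.map q' (Points.map f' x')) ⟨Points.map gX x', hcon, ?_⟩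
      rw [← Points.map_comp, ← Points.map_comp, ← Points.map_comp]
      congr 1
      rw [← Category.assoc, sq2.w, Category.assoc, sq1.w]
    rw [← hbc] at h1
    exact h1

end Groth.Agent.Lib.helper5.AlgSpFlatLocus
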