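import Groth.Agent.Lib.Helper5.AlgSpWhereFlat
import Groth.Agent.Lib.Helper5.AlgSpLargestOpen
import Groth.Agent.S9962

/-!
# Images of flat loci are open (helper5)

* `isOpenMor_of_isUnivOpenMor`
* `isOpen_image_of_flat` : for `f` lfp and `A ⊆ |X|` open with `f` flat at every point of `A`, the
  image `f(A)` is open in `|Y|`.
-/

set_option autoImplicit false
universe u
open CategoryTheory CategoryTheory.Limits AlgebraicGeometry
open AlgSp

namespace Groth.Agent.Lib.helper5.AlgSpFlatLocus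

variable {S : Scheme.{u}}

theorem isOpenMor_of_isUnivOpenMor {X Y : Sp S} (hY : IsAlgSpace Y) (f : X ⟶ Y)
    (hf : IsUnivOpenMor f) : IsOpenMor f :=
  hf hY (𝟙 Y) (𝟙 X) f (IsPullback.of_horiz_isIso ⟨by simp⟩)

theorem isClosedMor_of_isUnivClosedMor {X Y : Sp S} (hY : IsAlgSpace Y) (f : X ⟶ Y)
    (hf : IsUnivClosedMor f) : IsClosedMor f :=
  hf hY (𝟙 Y) (𝟙 X) f (IsPullback.of_horiz_isIso ⟨by simp⟩)

theorem isOpen_image_of_flat {X Y : Space S} (f : X ⟶ Y)
    (hf : LocP @LocallyOfFinitePresentation f.hom) (A : Set (Points X.obj)) (hA : IsOpen A)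
    (hAfl : ∀ x ∈ A, IsFlatAtMor f.hom x) : IsOpen (Points.map f.hom '' A) := by
  obtain ⟨XA, a, ha, hrange, -⟩ := OpenSub.exists_openSub X A hA
  have hae : ∀ {U : Over S} (α : (yon S).obj U ⟶ XA.obj), RepWith @Etale α →
      RepWith @Etale (α ≫ a.hom) := fun α hα =>
    Groth.Agent.Lib.helper5.LargestOpen.isEtaleMor_of_oi a.hom ha α hα
  have hfl : LocP @Flat (a ≫ f).hom := by
    intro U V α b h hα hb hc
    change Flat h.left
    rw [Flat.iff_flat_stalkMap]
    intro u
    have hmem : Points.ofPt (α ≫ a.hom) u ∈ A := by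
      rw [← hrange, ← Points.map_ofPt]
      exact ⟨_, rfl⟩
    have hc' : (α ≫ a.hom) ≫ f.hom = (yon S).map h ≫ b := by
      rw [Category.assoc]; exact hc
    exact hAfl _ hmem (α ≫ a.hom) b h u (hae α hα) hb hc' rfl
  have hfp : LocP @LocallyOfFinitePresentation (a ≫ f).hom := by
    intro U V α b h hα hb hc
    have hc' : (α ≫ a.hom) ≫ f.hom = (yon S).map h ≫ b := by
      rw [Category.assoc]; exact hc
    exact hf (α ≫ a.hom) b h (hae α hα) hb hc'
  have hopen : IsOpenMap (Points.map (a ≫ f).hom) :=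
    isOpenMor_of_isUnivOpenMor Y.2 _ (Groth.Agent.S9962.result (a ≫ f) hfl hfp)
  have himg : Points.map f.hom '' A = Set.range (Points.map (a ≫ f).hom) := by
    rw [← hrange, ← Set.range_comp]
    congr 1
    funext x
    exact (Points.map_comp a.hom f.hom x).symm
  rw [himg]
  exact hopen.isOpen_range

end Groth.Agent.Lib.helper5.AlgSpFlatLocus
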