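import Mathlib
import Groth.Agent.Lib.Helper5.AlgSpUnramLocus
import Groth.Agent.Lib.Helper5.AlgSpOpenSub
import Groth.Agent.Lib.Helper5.AlgSpLocPFam
import Groth.Agent.Lib.Helper5.AlgSpFibreProduct
import Groth.Agent.Lib.Helper10.AlgSpPoints

/-!
# Where a morphism of algebraic spaces is unramified (helper5)

* `locP_unram_iff_forall_hasAtMor`: for `f` locally of finite type, `f` is unramified iff it is unramified at every point.
* `locP_unram_baseChange_iff`: for `f : X ⟶ Y` over `Z` with `X ⟶ Z` locally of finite type, the base change of `f` along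
  `g : Z' ⟶ Z` is unramified iff `g` misses the image in `|Z|` of the ramification locus.
-/

set_option autoImplicit false
universe u
open CategoryTheory CategoryTheory.Limits AlgebraicGeometry
open AlgSp

namespace Groth.Agent.Lib.helper5.UnramLocus

variable {S : Scheme.{u}}

theorem hasAtMor_of_locP {X Y : Sp S} (hX : IsAlgSpace X) (hY : IsAlgSpace Y) (f : X ⟶ Y)
    (hf : LocP (@LocallyOfFiniteType ⊓ @FormallyUnramified) f) (x : Points X) : HasAtMor UnrAt f x := by
  obtain ⟨U, V, a, b, h, u, hae, hbe, hc, hu⟩ := LocPFam.exists_chart_at_point hX hY f x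
  obtain ⟨h1, h2⟩ := hf a b h hae hbe hc
  have h1' : LocallyOfFiniteType h.left := h1
  have h2' : FormallyUnramified h.left := h2
  refine ⟨U, V, a, b, h, u, hae, hbe, hc, hu, ⊤, trivial, ?_, ?_⟩
  · infer_instance
  · exact MorphismProperty.comp_mem _ _ _ inferInstance h2'

theorem locP_of_forall_hasAtMor {X Y : Sp S} (f : X ⟶ Y)
    (hf : ∀ x : Points X, HasAtMor UnrAt f x) : LocP (@LocallyOfFiniteType ⊓ @FormallyUnramified) f := by
  intro U V a b h hae hbe hc
  have hpt : ∀ u : U.left, ∃ W : U.left.Opens, u ∈ W ∧ LocallyOfFiniteType (W.ι ≫ h.left) ∧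
      FormallyUnramified (W.ι ≫ h.left) := fun u =>
    locPAt_unrAt_of_hasAtMor f _ (hf (Points.ofPt a u)) a b h u hae hbe hc rfl
  choose W hW1 hW2 hW3 using hpt
  have hcov : ⨆ u, W u = ⊤ := by
    rw [eq_top_iff]
    intro u _
    exact TopologicalSpace.Opens.mem_iSup.mpr ⟨u, hW1 u⟩
  refine ⟨?_, ?_⟩
  · exact (IsZariskiLocalAtSource.iff_of_iSup_eq_top (P := @LocallyOfFiniteType) W hcov).2 hW2
  · exact (IsZariskiLocalAtSource.iff_of_iSup_eq_top (P := @FormallyUnramified) W hcov).2 hW3

/-- The base change of `f` along `g : Z' ⟶ Z` is unramified iff `g` misses the image of the ramification locus. -/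
theorem locP_unram_baseChange_iff {X Y Z Z' Y' X' : Sp S} (hX : IsAlgSpace X) (hY : IsAlgSpace Y)
    (hY' : IsAlgSpace Y') (hX' : IsAlgSpace X') {f : X ⟶ Y} {q : Y ⟶ Z} (hf : LocP @LocallyOfFiniteType f)
    {g : Z' ⟶ Z} {gY : Y' ⟶ Y} {q' : Y' ⟶ Z'} (sq1 : IsPullback gY q' q g)
    {gX : X' ⟶ X} {f' : X' ⟶ Y'} (sq2 : IsPullback gX f' f gY) :
    LocP (@LocallyOfFiniteType ⊓ @FormallyUnramified) f' ↔
      ∀ z' : Points Z', Points.map g z' ∉
        Points.map (f ≫ q) '' {x : Points X | ¬ HasAtMor UnrAt f x} := by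
  have hbc := unrLocus_baseChange hX hY hY' sq2 hf
  constructor
  · intro h z' hz'
    obtain ⟨x, hxT, hxz⟩ := hz'
    have hxz' : Points.map q (Points.map f x) = Points.map g z' := by
      rw [← Points.map_comp]; exact hxz
    obtain ⟨y', hy'1, hy'2⟩ := Groth.Agent.Lib.helper10.exists_point_of_isPullback sq1.flip z'
      (Points.map f x) hxz'.symm
    obtain ⟨x', hx'1, hx'2⟩ := Groth.Agent.Lib.helper10.exists_point_of_isPullback sq2 x y' hy'2.symm
    have h1 : x' ∈ {x' : Points X' | HasAtMor UnrAt f' x'} := hasAtMor_of_locP hX' hY' f' h x'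
    rw [hbc] at h1
    have h2 : HasAtMor UnrAt f (Points.map gX x') := h1
    rw [hx'1] at h2
    exact hxT h2
  · intro h
    refine locP_of_forall_hasAtMor f' (fun x' => ?_)
    have h1 : x' ∈ Points.map gX ⁻¹' {x : Points X | HasAtMor UnrAt f x} := by
      show HasAtMor UnrAt f (Points.map gX x')
      by_contra hcon
      refine h (Points.map q' (Points.map f' x')) ⟨Points.map gX x', hcon, ?_⟩
      rw [← Points.map_comp, ← Points.map_comp, ← Points.map_comp]
      congr 1
      rw [← Category.assoc, sq2.w, Category.assoc, sq1.w]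
    rw [← hbc] at h1
    exact h1

end Groth.Agent.Lib.helper5.UnramLocus
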