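import Mathlib
import Groth.Agent.Lib.Helper5.AlgSpWhereUnram
import Groth.Agent.Lib.Helper5.AlgSpDiagUnram
import Groth.Agent.Lib.Helper5.AlgSpUnivInj
import Groth.Agent.Lib.Helper5.AlgSpUniv2
import Groth.Agent.Lib.Helper15.AlgSpDiag

/-!
# Where a morphism of algebraic spaces is unramified and universally injective (helper5)

* `hasAtMor_comp_openImm`, `locP_unram_comp_openImm`: restriction to an open subspace of the unramified locus.
* `isOpen_image_diagonal_unrLocus`: the image under the diagonal of the unramified locus is open in `|X ×_Y X|`.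
* `isPullback_map_of_isPullback`: `X' ×_{Y'} X' = (X ×_Y X) ×_Y Y'` for a base change `X' = X ×_Y Y'`.
* `unram_univInj_baseChange_iff`: the base change of `f` along `g : Z' ⟶ Z` is unramified and universally injective iff
  `g` misses the image of the ramification locus and the image of the complement of the diagonal.
-/

set_option autoImplicit false
universe u
open CategoryTheory CategoryTheory.Limits AlgebraicGeometry
open AlgSp

namespace Groth.Agent.Lib.helper5.UnramLocus

section cat
variable {C : Type*} [Category C] [HasPullbacks C]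

theorem isPullback_map_of_isPullback {X Y X' Y' : C} {f : X ⟶ Y} {f' : X' ⟶ Y'} {gX : X' ⟶ X} {gY : Y' ⟶ Y}
    (sq2 : IsPullback gX f' f gY) :
    IsPullback (pullback.map f' f' f f gX gX gY sq2.w.symm sq2.w.symm) (pullback.fst f' f' ≫ f')
      (pullback.fst f f ≫ f) gY := by
  have hk1 : pullback.map f' f' f f gX gX gY sq2.w.symm sq2.w.symm ≫ pullback.fst f f =
      pullback.fst f' f' ≫ gX := pullback.lift_fst _ _ _
  have hk2 : pullback.map f' f' f f gX gX gY sq2.w.symm sq2.w.symm ≫ pullback.snd f f =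
      pullback.snd f' f' ≫ gX := pullback.lift_snd _ _ _
  refine IsPullback.mk' ?_ ?_ ?_
  · rw [← Category.assoc, hk1, Category.assoc, Category.assoc, sq2.w]
  · intro A φ φ' e1 e2
    have a1 := congrArg (fun k => k ≫ pullback.fst f f) e1
    have a2 := congrArg (fun k => k ≫ pullback.snd f f) e1
    simp only [Category.assoc, hk1, hk2] at a1 a2
    apply pullback.hom_ext
    · apply sq2.hom_ext
      · simpa using a1
      · simpa using e2
    · apply sq2.hom_ext
      · simpa using a2
      · have := e2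
        rw [pullback.condition (f := f') (g := f')] at this
        simpa using this
  · intro A u v e
    have c1 : (u ≫ pullback.fst f f) ≫ f = v ≫ gY := by rw [Category.assoc]; exact e
    have c2 : (u ≫ pullback.snd f f) ≫ f = v ≫ gY := by
      rw [Category.assoc, ← pullback.condition]; exact e
    refine ⟨pullback.lift (sq2.lift _ _ c1) (sq2.lift _ _ c2) (by rw [sq2.lift_snd, sq2.lift_snd]), ?_, ?_⟩
    · apply pullback.hom_ext
      · rw [Category.assoc, hk1, pullback.lift_fst_assoc, sq2.lift_fst]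
      · rw [Category.assoc, hk2, pullback.lift_snd_assoc, sq2.lift_fst]
    · rw [pullback.lift_fst_assoc, sq2.lift_snd]

end cat

variable {S : Scheme.{u}}

theorem hasAtMor_comp_openImm {X₀ X Y : Sp S} (j : X₀ ⟶ X) (hj : RepWith @IsOpenImmersion j) (f : X ⟶ Y)
    (x₀ : Points X₀) (hx : HasAtMor UnrAt f (Points.map j x₀)) : HasAtMor UnrAt (j ≫ f) x₀ := by
  obtain ⟨U, V, a, b, h, u, hae, hbe, hc, hu, hQ⟩ := hx
  obtain ⟨U₀, ι₀, a₀, sq⟩ := hj.1 a
  haveI hι : IsOpenImmersion ι₀.left := hj.2 a a₀ ι₀ sq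
  have ha₀e : RepWith @Etale a₀ := (RepWith (S := S) @Etale).of_isPullback sq.flip hae
  obtain ⟨u₀, hu₀1, hu₀2⟩ := Groth.Agent.Lib.helper11.exists_of_isPullback_scheme sq x₀ u hu.symm
  refine ⟨U₀, V, a₀, b, ι₀ ≫ h, u₀, ha₀e, hbe, ?_, hu₀1, ?_⟩
  · rw [← Category.assoc, sq.w, Category.assoc, hc, Functor.map_comp, Category.assoc]
  · rw [Over.comp_left, unrAt_comp_etale_left ι₀.left h.left u₀, hu₀2]
    exact hQ

theorem locP_unram_comp_openImm {X₀ X Y : Sp S} (j : X₀ ⟶ X) (hj : RepWith @IsOpenImmersion j) (f : X ⟶ Y)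
    (hx : ∀ x₀ : Points X₀, HasAtMor UnrAt f (Points.map j x₀)) :
    LocP (@LocallyOfFiniteType ⊓ @FormallyUnramified) (j ≫ f) :=
  locP_of_forall_hasAtMor _ (fun x₀ => hasAtMor_comp_openImm j hj f x₀ (hx x₀))

theorem isOpen_image_diagonal_unrLocus {X Y : Sp S} (hX : IsAlgSpace X) (hY : IsAlgSpace Y) (f : X ⟶ Y) :
    IsOpen (Points.map (pullback.diagonal f) '' {x : Points X | HasAtMor UnrAt f x}) := by
  obtain ⟨X₀, j, hj, hrange, -⟩ :=
    Groth.Agent.Lib.helper5.OpenSub.exists_openSub ⟨X, hX⟩ _ (isOpen_unrLocus f)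
  have hf₀ : LocP (@LocallyOfFiniteType ⊓ @FormallyUnramified) (j.hom ≫ f) :=
    locP_unram_comp_openImm j.hom hj f (fun x₀ => by
      have : Points.map j.hom x₀ ∈ Set.range (Points.map j.hom) := ⟨x₀, rfl⟩
      rw [hrange] at this
      exact this)
  have hΔ₀ : RepWith @IsOpenImmersion (pullback.diagonal (j.hom ≫ f)) :=
    Groth.Agent.Lib.helper5.DiagUnram.repWith_oi_diagonal_of_unramified X₀.2 hY _ hf₀
  have hρ : RepWith @IsOpenImmersion (pullback.map (j.hom ≫ f) (j.hom ≫ f) f f j.hom j.hom (𝟙 Y)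
      ((Category.comp_id _).trans rfl) ((Category.comp_id _).trans rfl)) :=
    MorphismProperty.pullbackMap (P := RepWith (S := S) @IsOpenImmersion) hj hj rfl rfl
  have hle : (@IsOpenImmersion : MorphismProperty Scheme.{u}) ≤ @Etale := fun _ _ g hg => by
    haveI : IsOpenImmersion g := hg
    infer_instance
  have o1 := Groth.Agent.Lib.helper5.isOpenMap_map_of_repWith_etale _
    (Groth.Agent.Lib.helper15.AlgSpDiag.repWith_mono_iff_le hle hΔ₀)
  have o2 := Groth.Agent.Lib.helper5.isOpenMap_map_of_repWith_etale _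
    (Groth.Agent.Lib.helper15.AlgSpDiag.repWith_mono_iff_le hle hρ)
  have hcomm : pullback.diagonal (j.hom ≫ f) ≫ pullback.map (j.hom ≫ f) (j.hom ≫ f) f f j.hom j.hom (𝟙 Y)
      ((Category.comp_id _).trans rfl) ((Category.comp_id _).trans rfl) = j.hom ≫ pullback.diagonal f := by
    apply pullback.hom_ext
    · simp only [Category.assoc, pullback.diagonal_fst, Category.comp_id]
      rw [pullback.lift_fst, pullback.diagonal_fst_assoc]
    · simp only [Category.assoc, pullback.diagonal_snd, Category.comp_id]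
      rw [pullback.lift_snd, pullback.diagonal_snd_assoc]
  have himg : Points.map (pullback.diagonal f) '' {x : Points X | HasAtMor UnrAt f x} =
      Set.range (Points.map (pullback.map (j.hom ≫ f) (j.hom ≫ f) f f j.hom j.hom (𝟙 Y)
      ((Category.comp_id _).trans rfl) ((Category.comp_id _).trans rfl)) ∘
        Points.map (pullback.diagonal (j.hom ≫ f))) := by
    rw [← hrange]
    ext ξ
    constructor
    · rintro ⟨_, ⟨x₀, rfl⟩, rfl⟩
      refine ⟨x₀, ?_⟩
      rw [Function.comp_apply, ← Points.map_comp, hcomm, Points.map_comp]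
    · rintro ⟨x₀, rfl⟩
      refine ⟨Points.map j.hom x₀, ⟨x₀, rfl⟩, ?_⟩
      rw [Function.comp_apply, ← Points.map_comp, ← Points.map_comp, hcomm]
  rw [himg]
  exact (o2.comp o1).isOpen_range

/-- The base change of `f` along `g : Z' ⟶ Z` is unramified and universally injective iff `g` misses the image of the
ramification locus and the image of the complement of the diagonal of the unramified locus. -/
theorem unram_univInj_baseChange_iff {X Y Z Z' Y' X' : Sp S} (hX : IsAlgSpace X) (hY : IsAlgSpace Y)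
    (hY' : IsAlgSpace Y') (hX' : IsAlgSpace X') {f : X ⟶ Y} {q : Y ⟶ Z} (hf : LocP @LocallyOfFiniteType f)
    {g : Z' ⟶ Z} {gY : Y' ⟶ Y} {q' : Y' ⟶ Z'} (sq1 : IsPullback gY q' q g)
    {gX : X' ⟶ X} {f' : X' ⟶ Y'} (sq2 : IsPullback gX f' f gY) :
    (LocP (@LocallyOfFiniteType ⊓ @FormallyUnramified) f' ∧ IsUnivInjectiveMor f') ↔
      ∀ z' : Points Z', Points.map g z' ∉
          Points.map (f ≫ q) '' {x : Points X | ¬ HasAtMor UnrAt f x} ∧
        Points.map g z' ∉ Points.map (pullback.snd f f ≫ f ≫ q) ''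
          (Points.map (pullback.diagonal f) '' {x : Points X | HasAtMor UnrAt f x})ᶜ := by
  have sqσ := isPullback_map_of_isPullback sq2
  have sqΔ := Groth.Agent.Lib.helper15.AlgSpDiag.isPullback_diagonal_of_isPullback sq2
  have hbc := unrLocus_baseChange hX hY hY' sq2 hf
  have hun_iff := locP_unram_baseChange_iff hX hY hY' hX' hf sq1 sq2
  constructor
  · rintro ⟨hun, hinj⟩ z'
    refine ⟨hun_iff.1 hun z', ?_⟩
    rintro ⟨ξ, hξ, hξz⟩
    have hyz : Points.map q (Points.map (pullback.fst f f ≫ f) ξ) = Points.map g z' := by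
      rw [← Points.map_comp, ← hξz, pullback.condition, Category.assoc]
    obtain ⟨y', hy'1, hy'2⟩ := Groth.Agent.Lib.helper10.exists_point_of_isPullback sq1 _ z' hyz
    obtain ⟨ξ', hξ'1, -⟩ := Groth.Agent.Lib.helper10.exists_point_of_isPullback sqσ ξ y' hy'1.symm
    obtain ⟨x', hx'⟩ := UnivInj.surjective_diagonal_of_univInjective hX' f' hinj ξ'
    apply hξ
    refine ⟨Points.map gX x', ?_, ?_⟩
    · have h1 : x' ∈ {x' : Points X' | HasAtMor UnrAt f' x'} := hasAtMor_of_locP hX' hY' f' hun x'
      rw [hbc] at h1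
      exact h1
    · rw [← Points.map_comp, sqΔ.w, Points.map_comp, hx', hξ'1]
  · intro h
    have hun : LocP (@LocallyOfFiniteType ⊓ @FormallyUnramified) f' := hun_iff.2 (fun z' => (h z').1)
    refine ⟨hun, ?_⟩
    have hs : IsSurjectiveMor (pullback.diagonal f') := by
      intro ξ'
      have hmem : Points.map (pullback.map f' f' f f gX gX gY sq2.w.symm sq2.w.symm) ξ' ∈
          Points.map (pullback.diagonal f) '' {x : Points X | HasAtMor UnrAt f x} := by
        by_contra hcon
        refine (h (Points.map (pullback.snd f' f' ≫ f' ≫ q') ξ')).2 ⟨_, hcon, ?_⟩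
        rw [← Points.map_comp, ← Points.map_comp]
        congr 1
        rw [← Category.assoc, pullback.lift_snd, Category.assoc, Category.assoc, Category.assoc,
          ← Category.assoc gX, sq2.w, Category.assoc, sq1.w]
      obtain ⟨x, -, hx⟩ := hmem
      obtain ⟨x', -, hx'2⟩ := Groth.Agent.Lib.helper10.exists_point_of_isPullback sqΔ x ξ' hx
      exact ⟨x', hx'2⟩
    exact UnivInj.univInjective_of_fieldInjective f'
      (fun K _ str => UnivInj.fieldInjective_of_surjective_diagonal hX' f' hs K str)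

end Groth.Agent.Lib.helper5.UnramLocus
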