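import Mathlib

/-!
# Bounding the dimension of a module over an Artinian algebra by its fibres (helper5)

`finrank_le_of_fibres`: let `A` be a finite dimensional commutative algebra over a field `K` and `M` an `A`-module such
that for every maximal ideal `𝔪` of `A` the module `M / 𝔪 M` is generated by `m` elements. Then `M` is finite dimensional
over `K` of dimension at most `m * dim_K A`.
-/

set_option autoImplicit false
universe u

namespace Groth.Agent.Lib.helper5.ArtinFibreRank

variable {K A M : Type u} [Field K] [CommRing A] [Algebra K A] [Module.Finite K A]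
  [AddCommGroup M] [Module A M] [Module K M] [IsScalarTower K A M]

/-- For a proper ideal `I` of an Artinian ring there is `x ∉ I` whose conductor `(I : x)` is a maximal ideal. -/
theorem exists_colon_isMaximal [IsArtinianRing A] (I : Ideal A) (hI : I ≠ ⊤) :
    ∃ (x : A) (𝔪 : Ideal A), x ∉ I ∧ 𝔪.IsMaximal ∧ ∀ a, a ∈ 𝔪 ↔ a * x ∈ I := by
  have : IsStronglyAtomic (Ideal A) :=
    IsStronglyAtomic.of_wellFounded_lt (wellFounded_lt (α := Ideal A))
  obtain ⟨I', hcov, -⟩ := exists_covBy_le_of_lt (lt_top_iff_ne_top.2 hI)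
  obtain ⟨x, hxI', hxI⟩ := SetLike.exists_of_lt hcov.lt
  let 𝔪 : Ideal A := Submodule.comap (LinearMap.mulRight A x) I
  have hmem : ∀ a, a ∈ 𝔪 ↔ a * x ∈ I := fun a => by
    simp only [𝔪, Submodule.mem_comap, LinearMap.mulRight_apply]
  refine ⟨x, 𝔪, hxI, ?_, hmem⟩
  rw [Ideal.isMaximal_iff]
  refine ⟨fun h => hxI (by simpa using (hmem 1).1 h), ?_⟩
  intro J a hJ ha haJ
  have hax : a * x ∉ I := fun h => ha ((hmem a).2 h)
  have h1 : I ≤ I ⊔ Ideal.span {a * x} := le_sup_left
  have h2 : I ⊔ Ideal.span {a * x} ≤ I' :=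
    sup_le hcov.le ((Ideal.span_singleton_le_iff_mem _).2 (I'.mul_mem_left a hxI'))
  rcases hcov.eq_or_eq h1 h2 with h | h
  · exact absurd (h ▸ (le_sup_right : Ideal.span {a * x} ≤ I ⊔ Ideal.span {a * x})
      (Ideal.mem_span_singleton_self _)) hax
  · have hx : x ∈ I ⊔ Ideal.span {a * x} := h ▸ hxI'
    obtain ⟨i, hi, z, hz, hxz⟩ := Submodule.mem_sup.1 hx
    obtain ⟨b, rfl⟩ := Ideal.mem_span_singleton'.1 hz
    have h3 : (1 - b * a) ∈ 𝔪 := by
      rw [hmem]
      have : (1 - b * a) * x = i := by
        have : x = i + b * (a * x) := hxz.symm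
        calc (1 - b * a) * x = x - b * (a * x) := by ring
          _ = i := by rw [sub_eq_iff_eq_add]; exact this
      rw [this]; exact hi
    have h4 : b * a ∈ J := J.mul_mem_left b haJ
    have := J.add_mem (hJ h3) h4
    simpa using this

theorem finrank_le_of_fibres (m : ℕ)
    (H : ∀ 𝔪 : Ideal A, 𝔪.IsMaximal →
      ∃ s : Fin m → M, Submodule.span A (Set.range s) ⊔ (𝔪 • ⊤ : Submodule A M) = ⊤) :
    Module.Finite K M ∧ Module.finrank K M ≤ m * Module.finrank K A := by
  have hart : IsArtinianRing A := IsArtinianRing.of_finite K A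
  have hnoeth : IsNoetherianRing A := inferInstance
  -- the inductive statement
  have key : ∀ I : Ideal A, ∃ W : Submodule K M, Module.Finite K W ∧
      W ⊔ (I • ⊤ : Submodule A M).restrictScalars K = ⊤ ∧
      Module.finrank K W + m * Module.finrank K (I.restrictScalars K) ≤ m * Module.finrank K A := by
    intro I
    induction I using WellFoundedGT.induction with
    | ind I ih =>
    by_cases hI : I = ⊤
    · subst hI
      refine ⟨⊥, inferInstance, ?_, ?_⟩
      · rw [Submodule.top_smul]; simp
      · rw [finrank_bot, zero_add, Submodule.restrictScalars_top, finrank_top]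
    obtain ⟨x, 𝔪, hxI, hmax, hmem⟩ := exists_colon_isMaximal I hI
    have hlt : I < I ⊔ Ideal.span {x} := by
      refine lt_of_le_of_ne le_sup_left fun h => hxI ?_
      rw [h]; exact (le_sup_right : Ideal.span {x} ≤ _) (Ideal.mem_span_singleton_self x)
    obtain ⟨W', hfin', hsup', hdim'⟩ := ih _ hlt
    obtain ⟨s, hs⟩ := H 𝔪 hmax
    obtain ⟨E, hE⟩ := Submodule.exists_isCompl (𝔪.restrictScalars K)
    -- the map `e ↦ Σ (e j * x) • s j`
    let μ : (Fin m → E) →ₗ[K] M :=
      { toFun := fun e => ∑ j, ((e j : A) * x) • s j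
        map_add' := fun e e' => by
          simp only [Pi.add_apply, Submodule.coe_add, add_mul, add_smul, Finset.sum_add_distrib]
        map_smul' := fun r e => by
          simp only [Pi.smul_apply, Submodule.coe_smul, RingHom.id_apply, Finset.smul_sum]
          refine Finset.sum_congr rfl fun j _ => ?_
          rw [smul_mul_assoc, smul_assoc] }
    refine ⟨W' ⊔ LinearMap.range μ, inferInstance, ?_, ?_⟩
    · -- spanning
      rw [eq_top_iff]
      intro y _
      have hy : y ∈ W' ⊔ ((I ⊔ Ideal.span {x}) • ⊤ : Submodule A M).restrictScalars K := by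
        rw [hsup']; trivial
      obtain ⟨w', hw', z, hz, rfl⟩ := Submodule.mem_sup.1 hy
      rw [Submodule.restrictScalars_mem, Submodule.sup_smul, Submodule.ideal_span_singleton_smul] at hz
      obtain ⟨z₁, hz₁, z₂, hz₂, rfl⟩ := Submodule.mem_sup.1 hz
      obtain ⟨y', -, rfl⟩ := (Submodule.mem_smul_pointwise_iff_exists _ _ _).1 hz₂
      have hy' : y' ∈ Submodule.span A (Set.range s) ⊔ (𝔪 • ⊤ : Submodule A M) := by rw [hs]; trivial
      obtain ⟨y₁, hy₁, y₂, hy₂, rfl⟩ := Submodule.mem_sup.1 hy'
      obtain ⟨a, rfl⟩ := (Submodule.mem_span_range_iff_exists_fun A).1 hy₁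
      -- decompose the coefficients
      have hdec : ∀ j, ∃ (e : E) (n : A), n ∈ 𝔪 ∧ a j = e + n := by
        intro j
        have : a j ∈ E ⊔ 𝔪.restrictScalars K := by rw [hE.symm.sup_eq_top]; trivial
        obtain ⟨e, he, n, hn, h⟩ := Submodule.mem_sup.1 this
        exact ⟨⟨e, he⟩, n, hn, h.symm⟩
      choose e n hn hen using hdec
      have hx𝔪 : ∀ z ∈ (𝔪 • ⊤ : Submodule A M), x • z ∈ (I • ⊤ : Submodule A M) := by
        intro z hz
        refine Submodule.smul_induction_on hz ?_ ?_
        · intro r hr t _
          rw [← mul_smul, mul_comm]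
          exact Submodule.smul_mem_smul ((hmem r).1 hr) trivial
        · intro z z' h1 h2
          rw [smul_add]; exact Submodule.add_mem _ h1 h2
      have hsplit : x • (∑ j, a j • s j) = μ e + ∑ j, (n j * x) • s j := by
        change _ = ∑ j, ((e j : A) * x) • s j + _
        rw [Finset.smul_sum, ← Finset.sum_add_distrib]
        refine Finset.sum_congr rfl fun j _ => ?_
        rw [← add_smul, ← add_mul, ← hen j, ← mul_smul, mul_comm]
      have hrest : (∑ j, (n j * x) • s j) + x • y₂ + z₁ ∈ (I • ⊤ : Submodule A M) := by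
        refine Submodule.add_mem _ (Submodule.add_mem _ (Submodule.sum_mem _ fun j _ => ?_) (hx𝔪 _ hy₂)) hz₁
        exact Submodule.smul_mem_smul ((hmem (n j)).1 (hn j)) trivial
      have hfinal : w' + (z₁ + x • (∑ j, a j • s j + y₂)) =
          (w' + μ e) + ((∑ j, (n j * x) • s j) + x • y₂ + z₁) := by
        rw [smul_add, hsplit]; abel
      rw [hfinal]
      refine Submodule.add_mem_sup (Submodule.add_mem_sup hw' (LinearMap.mem_range_self μ e)) ?_
      exact hrest
    · -- dimension count
      let ν : E →ₗ[K] A := (LinearMap.mulRight K x).comp E.subtype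
      have hνI : (I.restrictScalars K) ⊓ LinearMap.range ν = ⊥ := by
        rw [eq_bot_iff]
        rintro _ ⟨hI', ⟨e, rfl⟩⟩
        have h1 : (e : A) ∈ 𝔪 := (hmem _).2 (by simpa [ν] using hI')
        have h2 : (e : A) ∈ (𝔪.restrictScalars K) ⊓ E := ⟨h1, e.2⟩
        rw [hE.inf_eq_bot] at h2
        have h3 : (e : A) = 0 := h2
        simp [ν, h3]
      have hνinj : Function.Injective ν := by
        rw [← LinearMap.ker_eq_bot, eq_bot_iff]
        intro e he
        have he' : (e : A) * x = 0 := by simpa [ν] using he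
        have h1 : (e : A) ∈ 𝔪 := (hmem _).2 (by rw [he']; exact I.zero_mem)
        have h2 : (e : A) ∈ (𝔪.restrictScalars K) ⊓ E := ⟨h1, e.2⟩
        rw [hE.inf_eq_bot] at h2
        exact Subtype.ext h2
      have hle : (I.restrictScalars K) ⊔ LinearMap.range ν ≤ (I ⊔ Ideal.span {x}).restrictScalars K := by
        refine sup_le (fun a ha => (le_sup_left : I ≤ I ⊔ Ideal.span {x}) ha) ?_
        rintro _ ⟨e, rfl⟩
        refine (le_sup_right : Ideal.span {x} ≤ I ⊔ Ideal.span {x}) ?_
        exact Ideal.mem_span_singleton'.2 ⟨e, rfl⟩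
      have h1 : Module.finrank K (I.restrictScalars K) + Module.finrank K E ≤
          Module.finrank K ((I ⊔ Ideal.span {x}).restrictScalars K) := by
        have h2 := Submodule.finrank_sup_add_finrank_inf_eq (I.restrictScalars K) (LinearMap.range ν)
        rw [hνI, finrank_bot, add_zero, LinearMap.finrank_range_of_inj hνinj] at h2
        rw [← h2]
        exact Submodule.finrank_mono hle
      have h3 : Module.finrank K (W' ⊔ LinearMap.range μ : Submodule K M) ≤
          Module.finrank K W' + m * Module.finrank K E := by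
        refine (Submodule.finrank_add_le_finrank_add_finrank _ _).trans (Nat.add_le_add_left ?_ _)
        refine (LinearMap.finrank_range_le μ).trans ?_
        rw [Module.finrank_pi_fintype]
        simp
      calc Module.finrank K (W' ⊔ LinearMap.range μ : Submodule K M) + m * Module.finrank K (I.restrictScalars K)
          ≤ Module.finrank K W' + m * Module.finrank K E + m * Module.finrank K (I.restrictScalars K) :=
            Nat.add_le_add_right h3 _
        _ = Module.finrank K W' + m * (Module.finrank K (I.restrictScalars K) + Module.finrank K E) := by ring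
        _ ≤ Module.finrank K W' + m * Module.finrank K ((I ⊔ Ideal.span {x}).restrictScalars K) :=
            Nat.add_le_add_left (Nat.mul_le_mul_left m h1) _
        _ ≤ m * Module.finrank K A := hdim'
  obtain ⟨W, hW, hsup, hdim⟩ := key ⊥
  rw [Submodule.bot_smul, Submodule.restrictScalars_bot, sup_bot_eq] at hsup
  subst hsup
  have hfin : Module.Finite K M := Module.Finite.of_surjective (⊤ : Submodule K M).subtype
    (fun y => ⟨⟨y, trivial⟩, rfl⟩)
  refine ⟨hfin, ?_⟩
  rw [finrank_top] at hdim
  exact (Nat.le_add_right _ _).trans hdim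

end Groth.Agent.Lib.helper5.ArtinFibreRank
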