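import Mathlib

/-!
# Homogeneous polynomials: scaling, and common zeros of binary forms
-/

set_option autoImplicit false
universe u

namespace Groth.Agent.Lib.Helper5.BinaryForms

open MvPolynomial

/-- scaling lemma for homogeneous polynomials evaluated in a commutative algebra -/
lemma aeval_mul_right {k : Type*} [CommRing k] {σ : Type*} {R : Type*} [CommRing R] [Algebra k R]
    {F : MvPolynomial σ k} {d : ℕ} (hF : F.IsHomogeneous d) (c : σ → R) (y : R) :
    aeval (fun i => c i * y) F = aeval c F * y ^ d := by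
  classical
  rw [F.as_sum, map_sum, map_sum, Finset.sum_mul]
  refine Finset.sum_congr rfl (fun m hm => ?_)
  rw [aeval_monomial, aeval_monomial, mul_assoc]
  congr 1
  have hdeg : m.degree = d := by
    have := hF (mem_support_iff.mp hm)
    rw [Finsupp.degree_eq_weight_one]
    exact this
  rw [Finsupp.prod, Finsupp.prod, ← hdeg, Finsupp.degree_apply, ← Finset.prod_pow_eq_pow_sum,
    ← Finset.prod_mul_distrib]
  exact Finset.prod_congr rfl (fun i _ => mul_pow _ _ _)

/-- the linear form vanishing at `a` -/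
noncomputable def lin {k : Type*} [CommRing k] (a : Fin 2 → k) : MvPolynomial (Fin 2) k :=
  C (a 1) * X 0 - C (a 0) * X 1

lemma eval_lin {k : Type*} [CommRing k] (a : Fin 2 → k) : eval a (lin a) = 0 := by
  simp [lin, mul_comm]

lemma lin_not_isUnit {k : Type*} [CommRing k] [Nontrivial k] (a : Fin 2 → k) :
    ¬ IsUnit (lin a) := by
  intro h
  have := h.map (eval a)
  rw [eval_lin] at this
  exact not_isUnit_zero this

lemma lin_dvd_of_eval_eq_zero {k : Type*} [Field k] {F : MvPolynomial (Fin 2) k} {d : ℕ}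
    (hF : F.IsHomogeneous d) (a : Fin 2 → k) (ha : a ≠ 0) (h0 : eval a F = 0) :
    lin a ∣ F := by
  obtain ⟨j, hj⟩ : ∃ j, a j ≠ 0 := by
    by_contra hcon
    push Not at hcon
    exact ha (funext hcon)
  let π := Ideal.Quotient.mk (Ideal.span {lin a})
  -- two evaluations agreeing modulo `lin a`
  have h1 : aeval (fun i => (X i : MvPolynomial (Fin 2) k) * C (a j)) F = F * C (a j) ^ d := by
    rw [aeval_mul_right hF]
    simp
  have h2 : aeval (fun i => (C (a i) : MvPolynomial (Fin 2) k) * X j) F = 0 := by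
    rw [aeval_mul_right hF]
    have : aeval (fun i => (C (a i) : MvPolynomial (Fin 2) k)) F = C (eval a F) := by
      rw [show (fun i => (C (a i) : MvPolynomial (Fin 2) k)) = C ∘ a from rfl,
        aeval_C_comp_left]
      rfl
    rw [this, h0, C_0, zero_mul]
  have h3 : π (aeval (fun i => (X i : MvPolynomial (Fin 2) k) * C (a j)) F) =
      π (aeval (fun i => (C (a i) : MvPolynomial (Fin 2) k) * X j) F) := by
    have e1 : ∀ g : Fin 2 → MvPolynomial (Fin 2) k, π (aeval g F) = aeval (fun i => π (g i)) F := by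
      intro g
      exact (MvPolynomial.comp_aeval_apply g (Ideal.Quotient.mkₐ k (Ideal.span {lin a})) F)
    rw [e1, e1]
    congr 2
    funext i
    rw [Ideal.Quotient.eq, Ideal.mem_span_singleton]
    have hi : i = 0 ∨ i = 1 := by fin_cases i <;> simp
    have hj' : j = 0 ∨ j = 1 := by fin_cases j <;> simp
    rcases hi with rfl | rfl <;> rcases hj' with rfl | rfl
    · simp [mul_comm]
    · refine ⟨1, ?_⟩
      simp only [lin]
      ring
    · refine ⟨-1, ?_⟩
      simp only [lin]
      ring
    · simp [mul_comm]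
  rw [h1, h2, map_zero, Ideal.Quotient.eq_zero_iff_mem, Ideal.mem_span_singleton] at h3
  have hunit : IsUnit (C (a j) ^ d : MvPolynomial (Fin 2) k) :=
    ((isUnit_iff_ne_zero.mpr hj).map C).pow d
  exact (hunit.dvd_mul_right).mp h3

/-- Nullstellensatz consequence: an ideal whose only possible zero is the origin contains
a power of each variable. -/
lemma exists_X_pow_mem {k : Type*} [Field k] [IsAlgClosed k] {σ : Type*} [Finite σ]
    (I : Ideal (MvPolynomial σ k))
    (h : ∀ a : σ → k, (∀ p ∈ I, eval a p = 0) → a = 0) (j : σ) :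
    ∃ N : ℕ, (X j : MvPolynomial σ k) ^ N ∈ I := by
  have hmem : (X j : MvPolynomial σ k) ∈ vanishingIdeal k (zeroLocus k I) := by
    rw [mem_vanishingIdeal_iff]
    intro x hx
    have hx0 : x = 0 := h x (fun p hp => by
      exact hx p hp)
    simp [hx0]
  rw [vanishingIdeal_zeroLocus_eq_radical] at hmem
  exact hmem

/-- A common divisor of powers of the two variables is a unit. -/
lemma isUnit_of_dvd_X_pow {k : Type*} [Field k] {H : MvPolynomial (Fin 2) k} {N M : ℕ}
    (h0 : H ∣ (X 0 : MvPolynomial (Fin 2) k) ^ N) (h1 : H ∣ (X 1 : MvPolynomial (Fin 2) k) ^ M) :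
    IsUnit H := by
  obtain ⟨j, -, hj⟩ := (dvd_prime_pow (X_prime (R := k) (i := (0 : Fin 2))) N).mp h0
  rcases Nat.eq_zero_or_pos j with rfl | hjpos
  · rw [pow_zero] at hj
    exact (associated_one_iff_isUnit).mp hj
  · exfalso
    have h2 : (X 0 : MvPolynomial (Fin 2) k) ∣ X 1 ^ M :=
      (dvd_pow_self _ hjpos.ne').trans (hj.symm.dvd.trans h1)
    have h3 : (X 0 : MvPolynomial (Fin 2) k) ∣ X 1 := (X_prime).dvd_of_dvd_pow h2
    obtain ⟨q, hq⟩ := h3
    have := congrArg (eval (![0, 1] : Fin 2 → k)) hq
    simp at this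

end Groth.Agent.Lib.Helper5.BinaryForms
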