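import Mathlib

/-!
# Induction on finite wide pullbacks (helper5)

`widePullback_induction`: a property of objects over `U` which is invariant under isomorphism, holds for the members `g i` of a
family and is stable under fibre product with the members holds for all finite iterated fibre products
`WidePullback.base (fun k : Fin (n + 1) => g (c k))`.
-/

set_option autoImplicit false
universe v u w
open CategoryTheory CategoryTheory.Limits

namespace Groth.Agent.Lib.helper5.WPInd

variable {C : Type u} [Category.{v} C] [HasPullbacks C] {U : C} {ι : Type w} {F : ι → C}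
  (g : ∀ i, F i ⟶ U)

section iso

variable {n : ℕ} (c : Fin (n + 2) → ι)
  [HasWidePullback U (fun k : Fin (n + 2) => F (c k)) (fun k => g (c k))]
  [HasWidePullback U (fun k : Fin (n + 1) => F (c k.castSucc)) (fun k => g (c k.castSucc))]

/-- the comparison map from the `(n+2)`-fold fibre product to the fibre product of the `(n+1)`-fold one with the last
member -/
noncomputable def toPb :
    widePullback U (fun k : Fin (n + 2) => F (c k)) (fun k => g (c k)) ⟶
      pullback (WidePullback.base (fun k : Fin (n + 1) => g (c k.castSucc))) (g (c (Fin.last (n + 1)))) :=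
  pullback.lift
    (WidePullback.lift (WidePullback.base (fun k : Fin (n + 2) => g (c k)))
      (fun k => WidePullback.π (fun k : Fin (n + 2) => g (c k)) k.castSucc)
      (fun k => WidePullback.π_arrow (fun k : Fin (n + 2) => g (c k)) k.castSucc))
    (WidePullback.π (fun k : Fin (n + 2) => g (c k)) (Fin.last (n + 1)))
    (by rw [WidePullback.lift_base, WidePullback.π_arrow])

/-- the inverse comparison map -/
noncomputable def ofPb :
    pullback (WidePullback.base (fun k : Fin (n + 1) => g (c k.castSucc))) (g (c (Fin.last (n + 1)))) ⟶
      widePullback U (fun k : Fin (n + 2) => F (c k)) (fun k => g (c k)) :=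
  WidePullback.lift
    (pullback.fst _ _ ≫ WidePullback.base (fun k : Fin (n + 1) => g (c k.castSucc)))
    (fun k => Fin.lastCases
      (motive := fun k => pullback (WidePullback.base (fun k : Fin (n + 1) => g (c k.castSucc)))
        (g (c (Fin.last (n + 1)))) ⟶ F (c k))
      (pullback.snd _ _)
      (fun k' => pullback.fst _ _ ≫ WidePullback.π (fun k : Fin (n + 1) => g (c k.castSucc)) k') k)
    (by
      intro k
      refine Fin.lastCases ?_ (fun k' => ?_) k
      · rw [Fin.lastCases_last]
        exact pullback.condition.symm
      · rw [Fin.lastCases_castSucc, Category.assoc]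
        congr 1
        exact WidePullback.π_arrow (fun k : Fin (n + 1) => g (c k.castSucc)) k')

lemma toPb_fst_base :
    toPb g c ≫ pullback.fst _ _ ≫ WidePullback.base (fun k : Fin (n + 1) => g (c k.castSucc)) =
      WidePullback.base (fun k : Fin (n + 2) => g (c k)) := by
  unfold toPb
  rw [pullback.lift_fst_assoc, WidePullback.lift_base]

lemma toPb_ofPb : toPb g c ≫ ofPb g c = 𝟙 _ := by
  apply WidePullback.hom_ext
  · intro k
    refine Fin.lastCases ?_ (fun k' => ?_) k
    · unfold ofPb toPb
      rw [Category.assoc, WidePullback.lift_π, Fin.lastCases_last, pullback.lift_snd, Category.id_comp]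
    · unfold ofPb toPb
      rw [Category.assoc, WidePullback.lift_π, Fin.lastCases_castSucc, pullback.lift_fst_assoc,
        WidePullback.lift_π, Category.id_comp]
  · unfold ofPb
    rw [Category.assoc, WidePullback.lift_base, toPb_fst_base, Category.id_comp]

lemma ofPb_toPb : ofPb g c ≫ toPb g c = 𝟙 _ := by
  apply pullback.hom_ext
  · apply WidePullback.hom_ext
    · intro k
      unfold ofPb toPb
      rw [Category.assoc, Category.assoc, pullback.lift_fst_assoc, WidePullback.lift_π,
        WidePullback.lift_π, Fin.lastCases_castSucc, Category.id_comp]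
    · unfold ofPb toPb
      rw [Category.assoc, Category.assoc, pullback.lift_fst_assoc, WidePullback.lift_base,
        WidePullback.lift_base, Category.id_comp]
  · unfold ofPb toPb
    rw [Category.assoc, pullback.lift_snd, WidePullback.lift_π, Fin.lastCases_last, Category.id_comp]

/-- the comparison isomorphism -/
noncomputable def pbIso :
    widePullback U (fun k : Fin (n + 2) => F (c k)) (fun k => g (c k)) ≅
      pullback (WidePullback.base (fun k : Fin (n + 1) => g (c k.castSucc))) (g (c (Fin.last (n + 1)))) :=
  ⟨toPb g c, ofPb g c, toPb_ofPb g c, ofPb_toPb g c⟩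

end iso

section one

variable (c : Fin 1 → ι) [HasWidePullback U (fun k : Fin 1 => F (c k)) (fun k => g (c k))]

/-- the one-fold fibre product is the member itself -/
noncomputable def oneIso :
    widePullback U (fun k : Fin 1 => F (c k)) (fun k => g (c k)) ≅ F (c 0) where
  hom := WidePullback.π (fun k : Fin 1 => g (c k)) 0
  inv := WidePullback.lift (g (c 0))
    (fun k => eqToHom (by rw [Subsingleton.elim k 0]))
    (by
      intro k
      obtain rfl : k = 0 := Subsingleton.elim k 0
      rw [eqToHom_refl, Category.id_comp])
  hom_inv_id := by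
    apply WidePullback.hom_ext
    · intro k
      obtain rfl : k = 0 := Subsingleton.elim k 0
      rw [Category.assoc, WidePullback.lift_π, eqToHom_refl, Category.comp_id, Category.id_comp]
    · rw [Category.assoc, WidePullback.lift_base, WidePullback.π_arrow, Category.id_comp]
  inv_hom_id := by
    rw [WidePullback.lift_π, eqToHom_refl]

omit [HasPullbacks C] in
lemma oneIso_hom_comp : (oneIso g c).hom ≫ g (c 0) = WidePullback.base (fun k : Fin 1 => g (c k)) :=
  WidePullback.π_arrow (fun k : Fin 1 => g (c k)) 0

end one

theorem widePullback_induction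
    [∀ (n : ℕ) (c : Fin (n + 1) → ι), HasWidePullback U (fun k => F (c k)) (fun k => g (c k))]
    (Q : ∀ ⦃W : C⦄, (W ⟶ U) → Prop)
    (hiso : ∀ ⦃W W' : C⦄ (e : W' ≅ W) (w : W ⟶ U), Q w → Q (e.hom ≫ w))
    (h0 : ∀ i, Q (g i))
    (hstep : ∀ ⦃W : C⦄ (w : W ⟶ U) (i : ι), Q w → Q (pullback.fst w (g i) ≫ w))
    (n : ℕ) (c : Fin (n + 1) → ι) : Q (WidePullback.base (fun k => g (c k))) := by
  induction n with
  | zero =>
    rw [← oneIso_hom_comp g c]
    exact hiso (oneIso g c) _ (h0 (c 0))
  | succ n ih =>
    have h1 := hstep _ (c (Fin.last (n + 1))) (ih (fun k => c k.castSucc))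
    have h2 := hiso (pbIso g c) _ h1
    have h3 : (pbIso g c).hom ≫ pullback.fst _ _ ≫
        WidePullback.base (fun k : Fin (n + 1) => g (c k.castSucc)) =
        WidePullback.base (fun k : Fin (n + 2) => g (c k)) := toPb_fst_base g c
    rw [h3] at h2
    exact h2

end Groth.Agent.Lib.helper5.WPInd
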