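import Groth.Prelude
import Groth.Agent.Lib.Helper5.WPInd
import Groth.Agent.Lib.Helper5.FppfBoot2
import Groth.Agent.Lib.Helper5.AlgSpLocPInst
import Groth.Agent.Lib.Helper1.SevenProps
import Groth.Agent.S10194

/-!
# One step of the bootstrap for Cech-descending properties (helper5)

`step`: let `P` be a Cech-descending property of sheaves over an algebraic space `X` which holds for all sheaves isomorphic to a
scheme in a class `𝒞` which are flat and locally of finite presentation over `X`.  Let `R` be a class of flat, locally finitely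
presented morphisms of schemes, stable under base change and composition, such that the source of an `R`-morphism to a scheme of
`𝒞` is in `𝒞`.  Then `P` holds for every algebraic space `U` flat and locally of finite presentation over `X` which admits a
jointly surjective family of representable `R`-morphisms from schemes in `𝒞`.
-/

set_option autoImplicit false
universe u
open CategoryTheory CategoryTheory.Limits AlgebraicGeometry Opposite

namespace Groth.Agent.Lib.helper5.CechDesc

open AlgSp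

variable {S : Scheme.{u}}

/-- `RepWith R` implies `LocP P` for `P ⊇ R` with `LocPData`. -/
theorem locP_of_repWith_le {R P : MorphismProperty Scheme.{u}} (hP : LocPBC.LocPData P)
    (hRP : ∀ {A B : Scheme.{u}} (f : A ⟶ B), R f → P f) {F G : Sp S} (hF : IsAlgSpace F)
    (hG : IsAlgSpace G) (f : F ⟶ G) (hf : RepWith R f) : LocP P f :=
  (Groth.Agent.H1.Seven.locP_iff_repWith hP hF hG f hf.rep).2
    (Groth.Agent.S10194.repWith_mono (fun _ _ f hf => hRP f hf) hf)

theorem step (X : Space S) (P : ∀ ⦃U : Sp S⦄, (U ⟶ X.obj) → Prop)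
    (hP : ∀ ⦃U : Sp S⦄ (a : U ⟶ X.obj), IsAlgSpace U →
      ∀ ⦃ι : Type u⦄ (Ui : ι → Sp S) (g : ∀ i, Ui i ⟶ U), (∀ i, IsAlgSpace (Ui i)) →
      IsFppfCover Ui g →
      (∀ (n : ℕ) (c : Fin (n + 1) → ι),
        P (WidePullback.base (fun k : Fin (n + 1) => g (c k)) ≫ a)) → P a)
    (𝒞 : Scheme.{u} → Prop) (R : MorphismProperty Scheme.{u}) [R.IsStableUnderBaseChange]
    [R.IsMultiplicative]
    (hRF : ∀ {A B : Scheme.{u}} (f : A ⟶ B), R f → Flat f)
    (hRL : ∀ {A B : Scheme.{u}} (f : A ⟶ B), R f → LocallyOfFinitePresentation f)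
    (hR𝒞 : ∀ {A B : Scheme.{u}} (f : A ⟶ B), R f → 𝒞 B → 𝒞 A)
    (prev : ∀ ⦃W : Sp S⦄ (b : W ⟶ X.obj) (V : Over S) (_ : W ≅ (yon S).obj V), 𝒞 V.left →
      LocP @Flat b → LocP @LocallyOfFinitePresentation b → P b)
    {U : Sp S} (hU : IsAlgSpace U) (a : U ⟶ X.obj) (hfl : LocP @Flat a)
    (hlfp : LocP @LocallyOfFinitePresentation a)
    {ι : Type u} (T : ι → Over S) (h𝒞 : ∀ i, 𝒞 (T i).left) (g : ∀ i, (yon S).obj (T i) ⟶ U)
    (hg : ∀ i, RepWith R (g i))
    (hsurj : ∀ x : Points U, ∃ i, x ∈ Set.range (Points.map (g i))) : P a := by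
  have hTsp : ∀ i, IsAlgSpace ((yon S).obj (T i)) := fun i => IsAlgSpace.yon_obj _
  refine hP a hU (fun i => (yon S).obj (T i)) g hTsp ⟨fun i => ?_, hsurj⟩ ?_
  · exact ⟨locP_of_repWith_le Groth.Agent.H1.Seven.locPData_flat hRF (hTsp i) hU (g i) (hg i),
      locP_of_repWith_le LocPBC.locPData_lfp hRL (hTsp i) hU (g i) (hg i)⟩
  intro n c
  -- the induction on the iterated fibre products
  have key := WPInd.widePullback_induction (C := Sp S) (U := U) (F := fun i => (yon S).obj (T i)) g
    (fun W w => (∃ (V : Over S) (_ : W ≅ (yon S).obj V), 𝒞 V.left) ∧ RepWith R w)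
    (by
      rintro W W' e w ⟨⟨V, eV, hV⟩, hw⟩
      exact ⟨⟨V, e ≪≫ eV, hV⟩, MorphismProperty.RespectsIso.precomp _ e.hom w hw⟩)
    (fun i => ⟨⟨T i, Iso.refl _, h𝒞 i⟩, hg i⟩)
    (by
      rintro W w i ⟨⟨V, eV, hV⟩, hw⟩
      obtain ⟨V', snd, fst, sq⟩ := (hg i).rep (eV.inv ≫ w)
      have hsnd : R snd.left := (hg i).property _ _ _ sq
      have sq' : IsPullback ((yon S).map snd ≫ eV.inv) fst w (g i) :=
        IsPullback.of_iso sq.flip (Iso.refl _) eV.symm (Iso.refl _) (Iso.refl _)
          (by simp) (by simp) (by simp) (by simp)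
      refine ⟨⟨V', sq'.isoPullback.symm, hR𝒞 snd.left hsnd hV⟩, ?_⟩
      exact (RepWith (S := S) R).comp_mem _ _
        ((RepWith (S := S) R).of_isPullback (IsPullback.of_hasPullback w (g i)).flip (hg i)) hw)
    n c
  obtain ⟨⟨V, eV, hV⟩, hw⟩ := key
  have hWsp : IsAlgSpace (widePullback U (fun k : Fin (n + 1) => (yon S).obj (T (c k)))
      (fun k => g (c k))) := (IsAlgSpace.yon_obj V).of_iso eV.symm
  refine prev _ V eV hV ?_ ?_
  · exact FppfBoot.locP_flat_comp hU _ a
      (locP_of_repWith_le Groth.Agent.H1.Seven.locPData_flat hRF hWsp hU _ hw) hfl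
  · exact FppfBoot.locP_lfp_comp hU _ a
      (locP_of_repWith_le LocPBC.locPData_lfp hRL hWsp hU _ hw) hlfp

end Groth.Agent.Lib.helper5.CechDesc
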