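import Groth.Prelude
import Groth.Agent.Lib.Helper5.CechDescA
import Groth.Agent.Lib.Helper5.AlgSpUniv2
import Groth.Agent.Lib.Helper11.AlgSpBasic

/-!
# Cech-descending properties of algebraic spaces (helper5)

`main`: a Cech-descending property `P` of sheaves over an algebraic space `X` which holds for affine schemes flat and locally of
finite presentation over `X` holds for `X`.  The bootstrap goes through separated schemes (`level1`), all schemes (`level2`) and
algebraic spaces (`level3`).
-/

set_option autoImplicit false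
universe u
open CategoryTheory CategoryTheory.Limits AlgebraicGeometry Opposite

namespace Groth.Agent.Lib.helper5.CechDesc

open AlgSp

variable {S : Scheme.{u}}

/-- the inclusion of an affine open of `V`, over `S` -/
noncomputable abbrev affIncl (V : Over S) (i : V.left.affineOpens) : Over.mk (i.1.ι ≫ V.hom) ⟶ V :=
  Over.homMk i.1.ι rfl

theorem exists_affine_open_surj {W : Sp S} (V : Over S) (e : W ≅ (yon S).obj V) (x : Points W) :
    ∃ i : V.left.affineOpens, x ∈ Set.range (Points.map ((yon S).map (affIncl V i) ≫ e.inv)) := by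
  obtain ⟨U₀, hU₀, ht, -⟩ := exists_isAffineOpen_mem_and_subset
    (x := Points.toScheme V (Points.map e.hom x)) (U := ⊤) trivial
  refine ⟨⟨U₀, hU₀⟩, Points.ofScheme _ ⟨_, ht⟩, ?_⟩
  rw [Points.map_comp, ← Points.ofPt_eq_map_ofScheme, Groth.Agent.Lib.helper11.ofPt_yon_map]
  have h1 : (affIncl V ⟨U₀, hU₀⟩).left ⟨Points.toScheme V (Points.map e.hom x), ht⟩ =
      Points.toScheme V (Points.map e.hom x) := rfl
  rw [h1, Points.ofScheme_toScheme, ← Points.map_comp, e.hom_inv_id, Points.map_id]

variable (X : Space S) (P : ∀ ⦃U : Sp S⦄, (U ⟶ X.obj) → Prop)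
  (hP : ∀ ⦃U : Sp S⦄ (a : U ⟶ X.obj), IsAlgSpace U →
    ∀ ⦃ι : Type u⦄ (Ui : ι → Sp S) (g : ∀ i, Ui i ⟶ U), (∀ i, IsAlgSpace (Ui i)) →
    IsFppfCover Ui g →
    (∀ (n : ℕ) (c : Fin (n + 1) → ι),
      P (WidePullback.base (fun k : Fin (n + 1) => g (c k)) ≫ a)) → P a)
  (haff : ∀ ⦃U : Sp S⦄ (a : U ⟶ X.obj) (T : Over S) (_ : U ≅ (yon S).obj T), IsAffine T.left →
    LocP @Flat a → LocP @LocallyOfFinitePresentation a → P a)

include hP haff in
theorem level1 ⦃W : Sp S⦄ (b : W ⟶ X.obj) (V : Over S) (e : W ≅ (yon S).obj V)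
    (hV : V.left.IsSeparated) (hfl : LocP @Flat b) (hlfp : LocP @LocallyOfFinitePresentation b) :
    P b := by
  refine step X P hP (fun A => IsAffine A) (@IsOpenImmersion ⊓ @IsAffineHom)
    (fun f hf => by haveI := hf.1; infer_instance) (fun f hf => by haveI := hf.1; infer_instance)
    (fun f hf hB => by haveI := hf.2; haveI := hB; exact isAffine_of_isAffineHom f)
    haff ((IsAlgSpace.yon_obj V).of_iso e.symm) b hfl hlfp
    (ι := V.left.affineOpens) (fun i => Over.mk (i.1.ι ≫ V.hom)) (fun i => i.2)
    (fun i => (yon S).map (affIncl V i) ≫ e.inv) (fun i => ?_)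
    (exists_affine_open_surj V e)
  refine MorphismProperty.RespectsIso.postcomp _ e.inv _
    ((repWith_yon_map_iff (@IsOpenImmersion ⊓ @IsAffineHom) (affIncl V i)).2 ⟨?_, ?_⟩)
  · exact inferInstanceAs (IsOpenImmersion i.1.ι)
  · haveI : IsAffine i.1 := i.2
    haveI : IsSeparated (terminal.from V.left) := hV.isSeparated_terminal_from
    haveI : IsAffineHom (i.1.ι ≫ terminal.from V.left) := inferInstance
    exact IsAffineHom.of_comp i.1.ι (terminal.from V.left)

include hP haff in
theorem level2 ⦃W : Sp S⦄ (b : W ⟶ X.obj) (V : Over S) (e : W ≅ (yon S).obj V)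
    (hfl : LocP @Flat b) (hlfp : LocP @LocallyOfFinitePresentation b) : P b := by
  refine step X P hP (fun A => A.IsSeparated) @IsOpenImmersion
    (fun f hf => by haveI := hf; infer_instance) (fun f hf => by haveI := hf; infer_instance)
    (fun {A B} f hf hB => by
      haveI : IsOpenImmersion f := hf
      haveI : IsSeparated (terminal.from B) := hB.isSeparated_terminal_from
      have h : terminal.from A = f ≫ terminal.from B := Subsingleton.elim _ _
      refine ⟨?_⟩
      rw [h]
      infer_instance)
    (level1 X P hP haff) ((IsAlgSpace.yon_obj V).of_iso e.symm) b hfl hlfp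
    (ι := V.left.affineOpens) (fun i => Over.mk (i.1.ι ≫ V.hom))
    (fun i => by haveI : IsAffine i.1 := i.2; exact inferInstanceAs (Scheme.IsSeparated i.1))
    (fun i => (yon S).map (affIncl V i) ≫ e.inv) (fun i => ?_)
    (exists_affine_open_surj V e)
  exact MorphismProperty.RespectsIso.postcomp _ e.inv _
    ((repWith_yon_map_iff @IsOpenImmersion (affIncl V i)).2 (inferInstanceAs (IsOpenImmersion i.1.ι)))

include hP haff in
theorem level3 ⦃U : Sp S⦄ (hU : IsAlgSpace U) (a : U ⟶ X.obj)
    (hfl : LocP @Flat a) (hlfp : LocP @LocallyOfFinitePresentation a) : P a := by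
  obtain ⟨U', p, hpe, hps⟩ := hU.atlas
  refine step X P hP (fun _ => True) @Etale
    (fun f hf => by haveI := hf; infer_instance) (fun f hf => by haveI := hf; infer_instance)
    (fun _ _ _ => trivial)
    (fun W b V e _ hfl hlfp => level2 X P hP haff b V e hfl hlfp) hU a hfl hlfp
    (ι := PUnit.{u + 1}) (fun _ => U') (fun _ => trivial) (fun _ => p) (fun _ => hpe)
    (fun x => ⟨PUnit.unit, surjective_map_of_repWith_surjective p hps x⟩)

include hP haff in
theorem main : P (𝟙 X.obj) := by
  refine level3 X P hP haff X.property (𝟙 X.obj) ?_ ?_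
  · exact locP_of_repWith_le (R := @Etale) Groth.Agent.H1.Seven.locPData_flat
      (fun f hf => by haveI : Etale f := hf; infer_instance) X.property
      X.property _ ((RepWith (S := S) @Etale).id_mem X.obj)
  · exact locP_of_repWith_le (R := @Etale) LocPBC.locPData_lfp
      (fun f hf => by haveI : Etale f := hf; infer_instance) X.property
      X.property _ ((RepWith (S := S) @Etale).id_mem X.obj)

end Groth.Agent.Lib.helper5.CechDesc
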