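import Groth.Agent.Lib.Helper5.MonoDiscrete

/-!
# Closed immersions from discrete reduced schemes (helper5)

* `surjective_of_epi_fields`: an epimorphism of commutative rings between fields is surjective.
* `isClosedImmersion_of_mono_discrete`: a quasi-compact monomorphism `g : V ⟶ U` from a discrete reduced scheme with closed
  range and no specializations among the points of the range is a closed immersion.
-/

set_option autoImplicit false
universe u
open CategoryTheory CategoryTheory.Limits AlgebraicGeometry Opposite Topology TensorProduct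

namespace Groth.Agent.Lib.helper5.ClosedPtImm

open Groth.Agent.Lib.helper5.MonoDiscrete

theorem surjective_of_isEpi_fields (K L : Type*) [Field K] [Field L] [Algebra K L] [Algebra.IsEpi K L] :
    Function.Surjective (algebraMap K L) := by
  intro b
  obtain ⟨r, hr⟩ := LinearMap.exists_leftInverse_of_injective (Algebra.linearMap K L)
    (LinearMap.ker_eq_bot.2 (algebraMap K L).injective)
  have h := (Algebra.isEpi_iff_forall_one_tmul_eq K L).mp inferInstance b
  let Φ : L ⊗[K] L →ₗ[K] L := TensorProduct.lift ((LinearMap.lsmul K L).comp r)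
  have h1 : r 1 = 1 := by
    have := LinearMap.congr_fun hr 1
    simpa using this
  have h2 := congrArg Φ h
  simp only [Φ, TensorProduct.lift.tmul, LinearMap.comp_apply, LinearMap.lsmul_apply, h1, one_smul] at h2
  exact ⟨r b, by rw [Algebra.algebraMap_eq_smul_one, ← h2]⟩

theorem surjective_of_epi_fields {R T : Type u} [Field R] [Field T] (φ : CommRingCat.of R ⟶ CommRingCat.of T)
    [Epi φ] : Function.Surjective φ.hom := by
  algebraize [φ.hom]
  have : Algebra.IsEpi R T := CommRingCat.epi_iff_epi.mp (inferInstanceAs (Epi φ))
  exact surjective_of_isEpi_fields R T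

theorem isClosedImmersion_of_mono_discrete {V U : Scheme.{u}} (g : V ⟶ U) [Mono g] [QuasiCompact g]
    [DiscreteTopology V] [IsReduced V] (hcl : IsClosed (Set.range g))
    (hsp : ∀ v v' : V, g v' ⤳ g v → v = v') : IsClosedImmersion g := by
  have hinj : Function.Injective g := g.injective
  have hemb : IsEmbedding g := by
    refine ⟨?_, hinj⟩
    rw [isInducing_iff_nhds]
    intro v
    refine le_antisymm (g.continuous.tendsto v).le_comap ?_
    rw [nhds_discrete (α := ↥V), Filter.le_pure_iff, Filter.mem_comap]
    obtain ⟨_, ⟨W₀, hW₀, rfl⟩, hz, -⟩ :=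
      (U.isBasis_affineOpens).exists_subset_of_mem_open (Set.mem_univ (g v)) isOpen_univ
    have hcomp : IsCompact (g ⁻¹' W₀) := QuasiCompact.isCompact_preimage (f := g) _ W₀.isOpen hW₀.isCompact
    have hfin : (g ⁻¹' (W₀ : Set U)).Finite := hcomp.finite_of_discrete
    have hfin' : ((g ⁻¹' (W₀ : Set U)) \ {v}).Finite := hfin.subset Set.sdiff_subset
    refine ⟨(W₀ : Set U) ∩ ⋂ v' ∈ (g ⁻¹' (W₀ : Set U)) \ {v}, (closure {g v'})ᶜ, ?_, ?_⟩
    · refine IsOpen.mem_nhds (W₀.isOpen.inter (hfin'.isOpen_biInter fun v' _ => isClosed_closure.isOpen_compl)) ?_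
      refine ⟨hz, ?_⟩
      simp only [Set.mem_iInter]
      intro v' hv' hmem
      exact hv'.2 (hsp v v' (specializes_iff_mem_closure.2 hmem)).symm
    · intro v'' hv''
      by_contra hne
      have h1 : v'' ∈ (g ⁻¹' (W₀ : Set U)) \ {v} := ⟨hv''.1, hne⟩
      have h2 := hv''.2
      simp only [Set.mem_iInter] at h2
      exact h2 v'' h1 (subset_closure rfl)
  have hst : SurjectiveOnStalks g := by
    refine ⟨fun v => ?_⟩
    have hoi : IsOpenImmersion (V.fromSpecResidueField v) :=
      isOpenImmersion_fromSpecResidueField_of_discrete V v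
    have hfac := Scheme.Hom.SpecMap_residueFieldMap_fromSpecResidueField g v
    have hmono : Mono (Spec.map (g.residueFieldMap v)) := by
      have : Mono (Spec.map (g.residueFieldMap v) ≫ U.fromSpecResidueField (g v)) := by
        rw [hfac]; infer_instance
      exact mono_of_mono _ (U.fromSpecResidueField (g v))
    have hepi : Epi (g.residueFieldMap v) :=
      ⟨fun a b h => Spec.map_injective (by
        rw [← cancel_mono (Spec.map (g.residueFieldMap v)), ← Spec.map_comp, ← Spec.map_comp, h])⟩
    have hsurj : Function.Surjective (g.residueFieldMap v).hom := @surjective_of_epi_fields _ _ _ _ (g.residueFieldMap v) hepi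
    have hiso : IsIso (g.residueFieldMap v) := by
      rw [ConcreteCategory.isIso_iff_bijective]
      exact ⟨(g.residueFieldMap v).hom.injective, hsurj⟩
    have hpre : IsPreimmersion (V.fromSpecResidueField v ≫ g) := by rw [← hfac]; infer_instance
    have h := hpre.stalkMap_surjective (IsLocalRing.closedPoint _)
    rw [Scheme.Hom.stalkMap_comp] at h
    have h3 : Function.Surjective (g.stalkMap ((V.fromSpecResidueField v) (IsLocalRing.closedPoint _))) := by
      intro y
      obtain ⟨w, hw⟩ := h ((V.fromSpecResidueField v).stalkMap (IsLocalRing.closedPoint _) y)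
      refine ⟨w, ?_⟩
      exact (ConcreteCategory.bijective_of_isIso
        ((V.fromSpecResidueField v).stalkMap (IsLocalRing.closedPoint _))).1 hw
    rwa [Scheme.fromSpecResidueField_apply] at h3
  have : IsPreimmersion g := { hst with isEmbedding := hemb }
  exact IsClosedImmersion.of_isPreimmersion g hcl

end Groth.Agent.Lib.helper5.ClosedPtImm
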