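/-
helper5: `T`-valued points calculus for actions `a : AlgGrp.Action G X` in `Over S` (SGA3 VI_A 2.6 toolbox).

* `regAct`: the left regular action. `trX a t : X ⊗ T ≅ X ⊗ T`: translation by a `T`-point `t : T ⟶ G`.
* `orbT a y : G ⊗ T ⟶ X ⊗ T`: the orbit map of a `T`-point `y : T ⟶ X`; `trX_orbT` (equivariance), `lift_trX`,
  `lift_unit_trX`, `lift_unit_orbT`, `orbT_whiskerLeft`, `trX_whiskerLeft` (change of level `T' ⟶ T`).
-/
import Mathlib
import Groth.Prelude.Def_AlgGrp
import Groth.Agent.Lib.Helper22.ActPts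

set_option autoImplicit false
set_option linter.style.haveILetI false
universe u
open CategoryTheory CategoryTheory.Limits MonoidalCategory CartesianMonoidalCategory MonObj GrpObj
  AlgebraicGeometry
open Groth.Agent.Lib.helper22

namespace Groth.Agent.Lib.helper5.HomogT

variable {S : Scheme.{u}} {G X : Over S} [GrpObj G] (a : AlgGrp.Action G X)

/-- the left regular action of `G` on itself -/
noncomputable def regAct (G : Over S) [GrpObj G] : AlgGrp.Action G G where
  act := μ[G]
  one_act := MonObj.one_mul G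
  mul_act := MonObj.mul_assoc G

theorem smul_regAct {T : Over S} (g h : T ⟶ G) : smul (regAct G) g h = g * h := by
  rw [smul, regAct, Hom.mul_def]

section tr

variable {T : Over S}

/-- translation of `X ⊗ T` by a `T`-point of `G` -/
noncomputable def trX (t : T ⟶ G) : X ⊗ T ≅ X ⊗ T where
  hom := lift (smul a (snd X T ≫ t) (fst X T)) (snd X T)
  inv := lift (smul a (snd X T ≫ t)⁻¹ (fst X T)) (snd X T)
  hom_inv_id := by
    rw [comp_lift, comp_smul, GrpObj.comp_inv]
    simp only [lift_fst, lift_snd, lift_snd_assoc, lift_fst_assoc]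
    rw [Groth.Agent.Lib.helper22.inv_smul_smul]
    simp
  inv_hom_id := by
    rw [comp_lift, comp_smul]
    simp only [lift_fst, lift_snd, lift_snd_assoc, lift_fst_assoc]
    rw [Groth.Agent.Lib.helper22.smul_inv_smul]
    simp

@[reassoc (attr := simp)] theorem trX_hom_snd (t : T ⟶ G) : (trX a t).hom ≫ snd X T = snd X T := by simp [trX]

@[reassoc (attr := simp)] theorem trX_hom_fst (t : T ⟶ G) :
    (trX a t).hom ≫ fst X T = smul a (snd X T ≫ t) (fst X T) := by simp [trX]

/-- the translate of a `T`-point -/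
theorem lift_trX (t : T ⟶ G) (y : T ⟶ X) :
    lift y (𝟙 T) ≫ (trX a t).hom = lift (smul a t y) (𝟙 T) := by
  rw [trX, comp_lift, comp_smul]
  simp

/-- the orbit map of a `T`-point of `X`, as a morphism `G_T ⟶ X_T` -/
noncomputable def orbT (y : T ⟶ X) : G ⊗ T ⟶ X ⊗ T :=
  lift (smul a (fst G T) (snd G T ≫ y)) (snd G T)

@[reassoc (attr := simp)] theorem orbT_snd (y : T ⟶ X) : orbT a y ≫ snd X T = snd G T := by simp [orbT]

@[reassoc (attr := simp)] theorem orbT_fst (y : T ⟶ X) :
    orbT a y ≫ fst X T = smul a (fst G T) (snd G T ≫ y) := by simp [orbT]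

/-- equivariance of the orbit map -/
theorem trX_orbT (t : T ⟶ G) (y : T ⟶ X) :
    (trX (regAct G) t).hom ≫ orbT a y = orbT a y ≫ (trX a t).hom := by
  apply CartesianMonoidalCategory.hom_ext
  · simp only [Category.assoc, orbT_fst, trX_hom_fst]
    rw [comp_smul, comp_smul]
    simp only [← Category.assoc, trX_hom_fst, trX_hom_snd, orbT_snd, orbT_fst]
    rw [smul_regAct, Groth.Agent.Lib.helper22.mul_smul]
  · simp

/-- the unit point of `G_T` goes to the point `t` -/
theorem lift_unit_trX (t : T ⟶ G) :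
    lift (toUnit T ≫ η[G]) (𝟙 T) ≫ (trX (regAct G) t).hom = lift t (𝟙 T) := by
  rw [lift_trX, smul_regAct]
  congr 1
  have : (toUnit T ≫ η[G] : T ⟶ G) = 1 := rfl
  rw [this, _root_.mul_one]

/-- the orbit map sends the unit point to the given point -/
theorem lift_unit_orbT (y : T ⟶ X) :
    lift (toUnit T ≫ η[G]) (𝟙 T) ≫ orbT a y = lift y (𝟙 T) := by
  rw [orbT, comp_lift, comp_smul]
  simp only [lift_fst, lift_snd, ← Category.assoc, Category.id_comp]
  congr 1
  have : (toUnit T ≫ η[G] : T ⟶ G) = 1 := rfl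
  rw [this, Groth.Agent.Lib.helper22.one_smul]

end tr

section bc

variable {T T' : Over S} (s : T' ⟶ T)

theorem orbT_whiskerLeft (y : T ⟶ X) :
    orbT a (s ≫ y) ≫ (X ◁ s) = (G ◁ s) ≫ orbT a y := by
  apply CartesianMonoidalCategory.hom_ext
  · simp only [Category.assoc, whiskerLeft_fst, orbT_fst]
    rw [comp_smul]
    simp
  · simp

theorem trX_whiskerLeft (t : T ⟶ G) :
    (trX a (s ≫ t)).hom ≫ (X ◁ s) = (X ◁ s) ≫ (trX a t).hom := by
  apply CartesianMonoidalCategory.hom_ext
  · simp only [Category.assoc, whiskerLeft_fst, trX_hom_fst]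
    rw [comp_smul]
    simp
  · simp

end bc

end Groth.Agent.Lib.helper5.HomogT
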