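/-
helper5: translations by rational points for an action `a : AlgGrp.Action G X` in `Over S`.

* `tr a h : X ⟶ X` for `h : 𝟙_ ⟶ G`; `tr_comp`, `tr_one`, `trIso`.
* `comp_tr`: the translate of a `T`-point.
* `tr_orbitMap`: the orbit map is equivariant for left translation on `G`.
* `pt_tr_reg`: left translation on rational points.
-/
import Mathlib
import Groth.Prelude.Def_AlgGrp
import Groth.Agent.Lib.Helper22.ActPts
import Groth.Agent.Lib.Helper5.HomogT1

set_option autoImplicit false
set_option linter.style.haveILetI false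
universe u
open CategoryTheory CategoryTheory.Limits MonoidalCategory CartesianMonoidalCategory MonObj GrpObj
  AlgebraicGeometry
open Groth.Agent.Lib.helper22

namespace Groth.Agent.Lib.helper5.ConnStab

variable {S : Scheme.{u}} {G X : Over S} [GrpObj G] (a : AlgGrp.Action G X)

/-- translation of `X` by a rational point of `G` -/
noncomputable def tr (h : 𝟙_ (Over S) ⟶ G) : X ⟶ X := smul a (toUnit X ≫ h) (𝟙 X)

/-- the translate of a `T`-point -/
theorem comp_tr {T : Over S} (x : T ⟶ X) (h : 𝟙_ (Over S) ⟶ G) :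
    x ≫ tr a h = smul a (toUnit T ≫ h) x := by
  rw [tr, comp_smul, Category.comp_id, ← Category.assoc]
  congr 2
  exact toUnit_unique _ _

theorem tr_comp (h h' : 𝟙_ (Over S) ⟶ G) : tr a h ≫ tr a h' = tr a (h' * h) := by
  rw [comp_tr, tr, ← Groth.Agent.Lib.helper22.mul_smul, tr, MonObj.comp_mul]

theorem tr_one : tr a (1 : 𝟙_ (Over S) ⟶ G) = 𝟙 X := by
  rw [tr, MonObj.comp_one, Groth.Agent.Lib.helper22.one_smul]

/-- translation as an automorphism -/
noncomputable def trIso (h : 𝟙_ (Over S) ⟶ G) : X ≅ X where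
  hom := tr a h
  inv := tr a h⁻¹
  hom_inv_id := by rw [tr_comp, inv_mul_cancel, tr_one]
  inv_hom_id := by rw [tr_comp, mul_inv_cancel, tr_one]

/-- the orbit map is equivariant -/
theorem tr_orbitMap (h : 𝟙_ (Over S) ⟶ G) (o : 𝟙_ (Over S) ⟶ X) :
    tr (Groth.Agent.Lib.helper5.HomogT.regAct G) h ≫ a.orbitMap o = a.orbitMap o ≫ tr a h := by
  rw [comp_tr, comp_orbitMap, tr, Groth.Agent.Lib.helper5.HomogT.smul_regAct,
    Groth.Agent.Lib.helper22.mul_smul, ← comp_orbitMap (g := 𝟙 G), Category.id_comp]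

/-- left translation on rational points -/
theorem pt_tr_reg (h h' : 𝟙_ (Over S) ⟶ G) :
    h' ≫ tr (Groth.Agent.Lib.helper5.HomogT.regAct G) h = h * h' := by
  rw [comp_tr, Groth.Agent.Lib.helper5.HomogT.smul_regAct,
    show toUnit (𝟙_ (Over S)) = 𝟙 _ from toUnit_unique _ _, Category.id_comp]

/-- the orbit map sends the unit to the base point -/
theorem unit_orbitMap (o : 𝟙_ (Over S) ⟶ X) : η[G] ≫ a.orbitMap o = o := by
  rw [comp_orbitMap]
  have h1 : (η[G] : 𝟙_ (Over S) ⟶ G) = 1 := by
    rw [Hom.one_def, show toUnit (𝟙_ (Over S)) = 𝟙 _ from toUnit_unique _ _, Category.id_comp]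
  rw [h1, Groth.Agent.Lib.helper22.one_smul, show toUnit (𝟙_ (Over S)) = 𝟙 _ from toUnit_unique _ _, Category.id_comp]

end Groth.Agent.Lib.helper5.ConnStab
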