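import Mathlib
import Groth.Agent.Lib.Helper14.BCAct
import Groth.Agent.Lib.Helper5.GrpMonoClosed2
import Groth.Agent.Lib.Helper5.GrpHomog
import Groth.Agent.Lib.Helper12.Thickening
import Groth.Agent.Lib.Helper22.ActPts
import Groth.Agent.S2277

/-!
# Local dimensions of schemes locally of finite type over a local artinian ring; homogeneous spaces (helper5)

* `prT_fst`, `prT_snd`, `isHomeomorph_prL`, `isHomeomorph_prT`: the base change maps `W_k ⟶ W`, `G_k × X_k ⟶ G × X` along a
  surjective closed immersion are homeomorphisms compatible with the projections.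
* `localDim_tensor`: `dim_z (G ×_A X) = dim_{p z} G + dim_{q z} X` (A local artinian, `G`, `X` locally of finite type).
* `exists_nat_localDim`, `locallyConnectedSpace`.
* `localDim_eq_of_homogeneous`: a homogeneous space under a group scheme locally of finite type has constant local dimension.
* `dim_connectedComponent_eq_localDim` (S3033, SGA3 VI_A 2.5.x).
-/

set_option autoImplicit false
universe u
open CategoryTheory MonoidalCategory CartesianMonoidalCategory MonObj GrpObj AlgebraicGeometry
  CategoryTheory.Limits

namespace Groth.Agent.Lib.helper5.DimArt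

open Groth.Agent.Lib.Helper14.BCAct Groth.Agent.Lib.helper5.GrpMonoClosed FlatMor

section
variable {S S' : Scheme.{u}} (g : S' ⟶ S) (G X : Over S)

theorem prT_fst : prT g G X ≫ (fst G X).left = (fst (Red.bc g G) (Red.bc g X)).left ≫ prL g G := by
  have h := congrArg (fun t => t.left) (Functor.Monoidal.μ_fst (Over.pullback g) G X)
  simp only [Over.comp_left] at h
  rw [prT, Category.assoc, ← map_left_prL, ← Category.assoc, h]

theorem prT_snd : prT g G X ≫ (snd G X).left = (snd (Red.bc g G) (Red.bc g X)).left ≫ prL g X := by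
  have h := congrArg (fun t => t.left) (Functor.Monoidal.μ_snd (Over.pullback g) G X)
  simp only [Over.comp_left] at h
  rw [prT, Category.assoc, ← map_left_prL, ← Category.assoc, h]

theorem isHomeomorph_prL [IsClosedImmersion g] [Surjective g] (W : Over S) :
    IsHomeomorph (prL g W) := by
  haveI : IsClosedImmersion (prL g W) :=
    inferInstanceAs (IsClosedImmersion (pullback.fst W.hom g))
  haveI := surjective_prL g W
  exact Groth.Agent.Lib.helper12.isHomeomorph_of_isClosedImmersion_of_surjective (prL g W)

theorem isHomeomorph_prT [IsClosedImmersion g] [Surjective g] :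
    IsHomeomorph (prT g G X) := by
  haveI : IsIso (Functor.LaxMonoidal.μ (Over.pullback g) G X).left :=
    inferInstanceAs (IsIso ((Over.forget _).map (Functor.LaxMonoidal.μ (Over.pullback g) G X)))
  have h1 : IsHomeomorph (Functor.LaxMonoidal.μ (Over.pullback g) G X).left :=
    (Functor.LaxMonoidal.μ (Over.pullback g) G X).left.homeomorph.isHomeomorph
  have h2 := isHomeomorph_prL g (G ⊗ X)
  have : (prT g G X : _ → _) = prL g (G ⊗ X) ∘ (Functor.LaxMonoidal.μ (Over.pullback g) G X).left := by
    ext x; simp [prT]
  rw [this]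
  exact h2.comp h1

end

variable (A : Type u) [CommRing A] [IsLocalRing A] [IsArtinianRing A]
  (G X : Over (Spec (CommRingCat.of A))) [LocallyOfFiniteType G.hom] [LocallyOfFiniteType X.hom]

/-- over a local artinian ring, `dim_z (G ×_A X) = dim_{p z} G + dim_{q z} X` for schemes locally
of finite type -/
theorem localDim_tensor (z : (G ⊗ X).left) :
    localDim ↥(G ⊗ X).left z =
      localDim ↥G.left ((fst G X).left z) + localDim ↥X.left ((snd G X).left z) := by
  have hT := isHomeomorph_prT (resMap A) G X
  have hG := isHomeomorph_prL (resMap A) G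
  have hX := isHomeomorph_prL (resMap A) X
  obtain ⟨z', rfl⟩ := hT.surjective z
  haveI : LocallyOfFiniteType (Red.bc (resMap A) G).hom :=
    inferInstanceAs (LocallyOfFiniteType (pullback.snd G.hom (resMap A)))
  haveI : LocallyOfFiniteType (Red.bc (resMap A) X).hom :=
    inferInstanceAs (LocallyOfFiniteType (pullback.snd X.hom (resMap A)))
  rw [← Groth.Agent.Lib.helper5.FibreDimLocal.localDim_eq_of_isOpenEmbedding _
    hT.isOpenEmbedding z']
  have h1 := Groth.Agent.Lib.helper5.FieldBC.localDim_pullback_eq_add
    (IsLocalRing.ResidueField A) (Red.bc (resMap A) G).hom (Red.bc (resMap A) X).hom z'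
  have e1 : (fst G X).left (prT (resMap A) G X z') =
      prL (resMap A) G ((fst (Red.bc (resMap A) G) (Red.bc (resMap A) X)).left z') := by
    rw [← Scheme.Hom.comp_apply, prT_fst, Scheme.Hom.comp_apply]
  have e2 : (snd G X).left (prT (resMap A) G X z') =
      prL (resMap A) X ((snd (Red.bc (resMap A) G) (Red.bc (resMap A) X)).left z') := by
    rw [← Scheme.Hom.comp_apply, prT_snd, Scheme.Hom.comp_apply]
  rw [e1, e2, ← Groth.Agent.Lib.helper5.FibreDimLocal.localDim_eq_of_isOpenEmbedding _
    hG.isOpenEmbedding, ← Groth.Agent.Lib.helper5.FibreDimLocal.localDim_eq_of_isOpenEmbedding _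
    hX.isOpenEmbedding]
  exact h1

end Groth.Agent.Lib.helper5.DimArt

namespace Groth.Agent.Lib.helper5.DimArt

open Groth.Agent.Lib.Helper14.BCAct Groth.Agent.Lib.helper5.GrpMonoClosed FlatMor

variable (A : Type u) [CommRing A] [IsLocalRing A] [IsArtinianRing A]

/-- local dimensions of schemes locally of finite type over a local artinian ring are finite -/
theorem exists_nat_localDim (W : Over (Spec (CommRingCat.of A))) [LocallyOfFiniteType W.hom]
    (w : W.left) : ∃ n : ℕ, localDim ↥W.left w = (n : WithBot ℕ∞) := by
  have hW := isHomeomorph_prL (resMap A) W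
  obtain ⟨w', rfl⟩ := hW.surjective w
  rw [← Groth.Agent.Lib.helper5.FibreDimLocal.localDim_eq_of_isOpenEmbedding _
    hW.isOpenEmbedding]
  letI : (Red.bc (resMap A) W).left.Over (Spec (CommRingCat.of (IsLocalRing.ResidueField A))) :=
    ⟨(Red.bc (resMap A) W).hom⟩
  haveI : LocallyOfFiniteType ((Red.bc (resMap A) W).left ↘
      Spec (CommRingCat.of (IsLocalRing.ResidueField A))) :=
    inferInstanceAs (LocallyOfFiniteType (pullback.snd W.hom (resMap A)))
  obtain ⟨a, b, -, -, hab⟩ := Groth.Agent.Lib.helper3.IrredDim.localDim_eq_trdeg_add_stalk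
    (IsLocalRing.ResidueField A) (Red.bc (resMap A) W).left w'
  exact ⟨a + b, hab⟩

variable (G X : Over (Spec (CommRingCat.of A))) [GrpObj G] [LocallyOfFiniteType G.hom]
  [LocallyOfFiniteType X.hom]

/-- a homogeneous space has the same local dimension at all points -/
theorem localDim_eq_of_homogeneous (a : AlgGrp.Action G X)
    (hΦ : Surjective (lift a.act (snd G X)).left) (x y : X.left) :
    localDim ↥X.left x = localDim ↥X.left y := by
  have hxy : X.hom x = X.hom y := Subsingleton.elim _ _
  obtain ⟨w, hw1, hw2⟩ := Scheme.Pullback.exists_preimage_pullback x y hxy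
  obtain ⟨z, hz⟩ := hΦ.surj (w : (X ⊗ X).left)
  have hact : a.act.left z = x := by
    have h1 : (lift a.act (snd G X)).left ≫ (fst X X).left = a.act.left := by
      rw [← Over.comp_left, lift_fst]
    rw [← h1, Scheme.Hom.comp_apply, hz]
    exact hw1
  have hsnd : (snd G X).left z = y := by
    have h1 : (lift a.act (snd G X)).left ≫ (snd X X).left = (snd G X).left := by
      rw [← Over.comp_left, lift_snd]
    rw [← h1, Scheme.Hom.comp_apply, hz]
    exact hw2
  let τ : (G ⊗ X).left ≅ (G ⊗ X).left := (Over.forget _).mapIso (Groth.Agent.Lib.helper22.shear a)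
  have hτ1 : τ.hom ≫ (fst G X).left = (fst G X).left := by
    change (Groth.Agent.Lib.helper22.shear a).hom.left ≫ (fst G X).left = _
    rw [← Over.comp_left]
    simp [Groth.Agent.Lib.helper22.shear]
  have hτ2 : τ.hom ≫ (snd G X).left = a.act.left := by
    change (Groth.Agent.Lib.helper22.shear a).hom.left ≫ (snd G X).left = _
    rw [← Over.comp_left, Groth.Agent.Lib.helper22.shear_hom_snd]
  have e1 : localDim ↥(G ⊗ X).left z = localDim ↥(G ⊗ X).left (τ.hom z) :=
    Groth.Agent.Lib.helper5.FibreDimLocal.localDim_eq_of_isOpenEmbedding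
      (fun t : ↥(G ⊗ X).left => τ.hom t) τ.hom.homeomorph.isOpenEmbedding z
  rw [localDim_tensor A G X z, localDim_tensor A G X (τ.hom z), ← Scheme.Hom.comp_apply,
    ← Scheme.Hom.comp_apply, hτ1, hτ2, hact, hsnd] at e1
  obtain ⟨n, hn⟩ := exists_nat_localDim A G ((fst G X).left z)
  obtain ⟨p, hp⟩ := exists_nat_localDim A X x
  obtain ⟨q, hq⟩ := exists_nat_localDim A X y
  rw [hn, hp, hq] at e1
  rw [hp, hq]
  have : n + q = n + p := by exact_mod_cast e1
  have : p = q := by omega
  rw [this]

end Groth.Agent.Lib.helper5.DimArt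

namespace Groth.Agent.Lib.helper5.DimArt

open Groth.Agent.Lib.Helper14.BCAct Groth.Agent.Lib.helper5.GrpMonoClosed FlatMor

variable (A : Type u) [CommRing A] [IsLocalRing A] [IsArtinianRing A]

omit [IsLocalRing A] in
theorem locallyConnectedSpace (W : Over (Spec (CommRingCat.of A))) [LocallyOfFiniteType W.hom] :
    LocallyConnectedSpace W.left := by
  have : IsLocallyNoetherian W.left := LocallyOfFiniteType.isLocallyNoetherian W.hom
  apply Groth.Agent.S2277.result
  intro x
  obtain ⟨_, ⟨U, hU, rfl⟩, hxU, -⟩ :=
    (W.left.isBasis_affineOpens).exists_subset_of_mem_open (Set.mem_univ x) isOpen_univ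
  have : IsNoetherianRing Γ(W.left, U) := IsLocallyNoetherian.component_noetherian ⟨U, hU⟩
  exact ⟨U, U.isOpen.mem_nhds hxU, noetherianSpace_of_isAffineOpen U hU⟩

variable (G X : Over (Spec (CommRingCat.of A))) [GrpObj G] [LocallyOfFiniteType G.hom]
  [LocallyOfFiniteType X.hom]

/-- S3033: the connected components of a homogeneous space have the same dimension -/
theorem dim_connectedComponent_eq_localDim (a : AlgGrp.Action G X)
    (hΦ : Surjective (lift a.act (snd G X)).left) (x : X.left) :
    topologicalKrullDim ↥(connectedComponent x) = localDim ↥X.left x := by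
  haveI := locallyConnectedSpace A X
  have hopen : IsOpen (connectedComponent x) := isOpen_connectedComponent
  rw [Groth.Agent.Lib.helper5.FieldBC.dim_eq_iSup_localDim]
  haveI : Nonempty ↥(connectedComponent x) := ⟨⟨x, mem_connectedComponent⟩⟩
  have : (fun c : ↥(connectedComponent x) => localDim ↥(connectedComponent x) c) =
      fun _ => localDim ↥X.left x := by
    funext c
    rw [Groth.Agent.Lib.helper5.FibreDimLocal.localDim_eq_of_isOpenEmbedding
      (Subtype.val : ↥(connectedComponent x) → X.left) hopen.isOpenEmbedding_subtypeVal c]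
    exact localDim_eq_of_homogeneous A G X a hΦ _ _
  rw [this, iSup_const]

end Groth.Agent.Lib.helper5.DimArt
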