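import Mathlib
import Groth.Agent.Lib.Helper5.GrpQC2
import Groth.Agent.Lib.Helper5.GrpMonoClosed3
import Groth.Agent.Lib.Helper5.FibCrit11
import Groth.Agent.Lib.Helper1.SmoothReduced
import Groth.Agent.Lib.Helper5.ThickFlatScheme2

/-!
# The isogeny criterion for smooth group schemes (helper5; S7815)

* `flat_stalkMap_iff_of_isPullback`: flatness at a point and flat base change.
* `flat_stalkMap_iff_of_fibre`: a homomorphism from a flat lfp group scheme is flat along a fibre iff flat at one of its points.
* `flat_of_fibres_surjective`: a homomorphism from a smooth group scheme to a group scheme with integral fibres which is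
  surjective on fibres is flat (fibre criterion + homogeneity + generic flatness over the generic point of the fibre).
* `locallyQuasiFinite_of_fibres`, `surjective_of_flat_hom`, `isFinite_bc_of_lqf`, `isFinite_fibre_of_lqf`.
* `isogeny_iff` (S7815).
-/

set_option autoImplicit false
set_option linter.style.haveILetI false
universe u
open CategoryTheory CategoryTheory.Limits MonoidalCategory CartesianMonoidalCategory MonObj GrpObj
  AlgebraicGeometry

namespace Groth.Agent.Lib.helper5.Isogeny1

open Groth.Agent.Lib.helper5.HomogSep1 Groth.Agent.Lib.helper5.GrpQC1 Groth.Agent.Lib.helper5.GrpQC2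
open Groth.Agent.Lib.helper5.FibCrit

/-- flatness at a point and flat base change -/
theorem flat_stalkMap_iff_of_isPullback {P P' X Y : Scheme.{u}} {a : P ⟶ X} {b : P ⟶ P'}
    {u : X ⟶ Y} {c : P' ⟶ Y} (sq : IsPullback a b u c) (hc : Flat c) (x' : P) :
    (b.stalkMap x').hom.Flat ↔ (u.stalkMap (a x')).hom.Flat := by
  haveI : Flat a := MorphismProperty.of_isPullback (P := @Flat) sq.flip hc
  constructor
  · intro h
    exact flat_stalkMap_descent_of_comm sq.w x' (Flat.stalkMap c _) (Flat.stalkMap a _) h
  · intro h
    exact Groth.Agent.Lib.helper17.FlatStalkBC.flat_stalkMap_of_isPullback sq.flip x' h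

section homog

variable {S : Scheme.{u}} {G H : Over S} [GrpObj G] [GrpObj H] (f : G ⟶ H) [IsMonHom f]

/-- a homomorphism from a flat lfp group scheme is flat along a fibre of `G` as soon as it is flat at one of its points -/
theorem flat_stalkMap_iff_of_fibre [Flat G.hom] [LocallyOfFinitePresentation G.hom]
    (w g : G.left) (h : G.hom w = G.hom g) :
    (f.left.stalkMap w).hom.Flat ↔ (f.left.stalkMap g).hom.Flat :=
  Groth.Agent.Lib.helper5.GrpHomog3.homog_hom f
    (fun {X Y} (b : X ⟶ Y) (p : X) => (b.stalkMap p).hom.Flat)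
    (fun sq hc _ x' => flat_stalkMap_iff_of_isPullback sq hc x') w g h

end homog

section aux

theorem flat_of_isField_source {R T : Type*} [CommRing R] [CommRing T] (φ : R →+* T)
    (h : IsField R) : φ.Flat := by
  letI := h.toField
  algebraize [φ]
  show Module.Flat R T
  infer_instance

theorem isField_stalk_of_eq_genericPoint {X : Scheme.{u}} [IsIntegral X] (y : X)
    (hy : y = genericPoint X) : IsField (X.presheaf.stalk y) := by
  subst hy
  exact Field.toIsField (X.functionField)

end aux

section flat

variable {S : Scheme.{u}} {G H : Over S} [GrpObj G] [GrpObj H] (f : G ⟶ H) [IsMonHom f]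

/-- **fibrewise criterion for flatness of homomorphisms**: a homomorphism from a smooth group scheme to a group scheme with
integral fibres which is surjective on fibres is flat. -/
theorem flat_of_fibres_surjective [Smooth G.hom] [LocallyOfFiniteType H.hom]
    (hint : ∀ s : S, IsIntegral (H.hom.fiber s))
    (hsurj : ∀ s : S, Surjective (pullback.snd f.left (H.hom.fiberι s))) : Flat f.left := by
  rw [Flat.iff_flat_stalkMap]
  intro x
  set s : S := G.hom x with hs
  haveI := hint s
  obtain ⟨p, hp⟩ := (hsurj s).surj (genericPoint ↥(H.hom.fiber s))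
  set w : G.left := pullback.fst f.left (H.hom.fiberι s) p with hw
  have hfw : f.left w = H.hom.fiberι s (genericPoint ↥(H.hom.fiber s)) := by
    rw [hw, ← Scheme.Hom.comp_apply, pullback.condition, Scheme.Hom.comp_apply, hp]
  have hfg : f.left ≫ H.hom = G.hom := Over.w f
  have hGw : G.hom w = s := by
    have h1 : H.hom (f.left w) = s := by
      rw [hfw]
      have : H.hom.fiberι s (genericPoint ↥(H.hom.fiber s)) ∈ H.hom ⁻¹' {s} := by
        rw [← H.hom.range_fiberι s]; exact ⟨_, rfl⟩
      exact this
    rw [← hfg, Scheme.Hom.comp_apply]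
    exact h1
  rw [← flat_stalkMap_iff_of_fibre f w x hGw]
  haveI : LocallyOfFinitePresentation (f.left ≫ H.hom) := by rw [hfg]; infer_instance
  haveI : Flat (f.left ≫ H.hom) := by rw [hfg]; infer_instance
  have hfl : ((f.left ≫ H.hom).stalkMap w).hom.Flat := Flat.stalkMap _ w
  have hws : (f.left ≫ H.hom) w = s := by rw [hfg]; exact hGw
  have hz : w ∈ Set.range ((f.left ≫ H.hom).fiberι s) := by
    rw [(f.left ≫ H.hom).range_fiberι s]; exact hws
  obtain ⟨z₀, hz₀⟩ := hz
  have hfib : FibFlatAt f.left H.hom w := by
    rw [← fibFlatAt_iff_of_fiberι_eq f.left H.hom w s z₀ hz₀]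
    apply flat_of_isField_source
    apply isField_stalk_of_eq_genericPoint
    apply (H.hom.fiberι s).isEmbedding.injective
    have hcomm : MoreMor.fiberMap f.left H.hom s ≫ H.hom.fiberι s =
        (f.left ≫ H.hom).fiberι s ≫ f.left := pullback.lift_fst _ _ _
    rw [← hfw, ← hz₀, ← Scheme.Hom.comp_apply, ← Scheme.Hom.comp_apply, hcomm]
  exact (flat_of_fibFlatAt f.left H.hom w hfl hfib).2

end flat

section lqf

/-- local quasi-finiteness from finiteness of the fibres of the fibre morphisms -/
theorem locallyQuasiFinite_of_fibres {X Y S : Scheme.{u}} (f : X ⟶ Y) (g : Y ⟶ S)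
    [LocallyOfFiniteType f]
    (h : ∀ (s : S) (y' : ↥(g.fiber s)), (pullback.snd f (g.fiberι s) ⁻¹' {y'}).Finite) :
    LocallyQuasiFinite f := by
  apply LocallyQuasiFinite.of_finite_preimage_singleton
  intro y
  have hy : y ∈ Set.range (g.fiberι (g y)) := by rw [g.range_fiberι (g y)]; rfl
  obtain ⟨y', hy'⟩ := hy
  refine ((h (g y) y').image (pullback.fst f (g.fiberι (g y)))).subset ?_
  intro x hx
  obtain ⟨p, hp1, hp2⟩ := Scheme.Pullback.exists_preimage_pullback (f := f)
    (g := g.fiberι (g y)) x y' (hx.trans hy'.symm)
  exact ⟨p, hp2, hp1⟩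

end lqf

section surj

variable {S : Scheme.{u}} {G H : Over S} [GrpObj G] [GrpObj H] (f : G ⟶ H) [IsMonHom f]

/-- a flat lfp homomorphism to a group scheme with connected fibres is surjective -/
theorem surjective_of_flat_hom (hflat : Flat f.left) (hlfp : LocallyOfFinitePresentation f.left)
    (hconn : ∀ s : S, _root_.IsConnected (H.hom.base ⁻¹' {s})) : Surjective f.left := by
  haveI : UniversallyOpen f.left := inferInstance
  let U : H.left.Opens := ⟨Set.range f.left, f.left.isOpenMap.isOpen_range⟩
  refine ⟨fun h => ?_⟩
  have hone : (η[G] : 𝟙_ (Over S) ⟶ G) ≫ f = η[H] := IsMonHom.one_hom f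
  have hU : ∃ u ∈ U, H.hom u = H.hom h := by
    refine ⟨f.left ((η[G] : 𝟙_ (Over S) ⟶ G).left (H.hom h)), ⟨_, rfl⟩, ?_⟩
    have h1 : (η[G] : 𝟙_ (Over S) ⟶ G).left ≫ f.left ≫ H.hom = 𝟙 S := by
      rw [← Category.assoc, ← Over.comp_left, hone]
      exact Over.w η[H]
    rw [← Scheme.Hom.comp_apply, ← Scheme.Hom.comp_apply, h1]
    rfl
  obtain ⟨z, ⟨v₁, hv₁⟩, ⟨v₂, hv₂⟩, hz⟩ := exists_mul_eq hconn U h hU
  have sq2 : IsPullback (snd H G).left (H ◁ f).left f.left (snd H H).left :=
    (isPullback_whisker H f).map (Over.forget S)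
  have sq1 : IsPullback (fst G G).left (f ▷ G).left f.left (fst H G).left :=
    (isPullback_whiskerRight G f).map (Over.forget S)
  obtain ⟨z₁, hz₁1, hz₁2⟩ := Scheme.exists_preimage_of_isPullback sq2 v₂ z hv₂
  have hfst : f.left v₁ = (fst H G).left z₁ := by
    have h1 := congrArg (fun k => k.left) (whiskerLeft_fst H f)
    simp only [Over.comp_left] at h1
    rw [hv₁, ← hz₁2, ← Scheme.Hom.comp_apply, h1]
  obtain ⟨p, -, hp2⟩ := Scheme.exists_preimage_of_isPullback sq1 v₁ z₁ hfst
  refine ⟨μ[G].left p, ?_⟩
  have hmul : μ[G].left ≫ f.left = (f ▷ G).left ≫ (H ◁ f).left ≫ μ[H].left := by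
    have := congrArg (fun k => k.left) (IsMonHom.mul_hom f)
    simp only [Over.comp_left, MonoidalCategory.tensorHom_def, Category.assoc] at this
    exact this
  rw [← Scheme.Hom.comp_apply, hmul, Scheme.Hom.comp_apply, Scheme.Hom.comp_apply, hp2, hz₁2, hz]

end surj

section finite

open Groth.Agent.Lib.Helper14.BCAct Groth.Agent.Lib.helper5.GrpMonoClosed

variable {S : Scheme.{u}} {G H : Over S} [GrpObj G] [GrpObj H] (f : G ⟶ H) [IsMonHom f]

/-- the base change to a field of a quasi-compact locally quasi-finite homomorphism is finite -/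
theorem isFinite_bc_of_lqf (K : Type u) [Field K] (g : Spec (CommRingCat.of K) ⟶ S)
    [LocallyOfFiniteType G.hom] [LocallyOfFiniteType H.hom]
    [QuasiCompact f.left] [LocallyQuasiFinite f.left] :
    IsFinite ((Over.pullback g).map f).left := by
  let uk : Red.bc g G ⟶ Red.bc g H := (Over.pullback g).map f
  haveI : IsMonHom uk := inferInstance
  have sq : IsPullback (prL g G) uk.left f.left (prL g H) := isPullback_map_left g f
  haveI : QuasiCompact uk.left := MorphismProperty.of_isPullback (P := @QuasiCompact) sq inferInstance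
  haveI : LocallyQuasiFinite uk.left :=
    MorphismProperty.of_isPullback (P := @LocallyQuasiFinite) sq inferInstance
  haveI : LocallyOfFiniteType (Red.bc g G).hom :=
    inferInstanceAs (LocallyOfFiniteType (pullback.snd G.hom g))
  haveI : LocallyOfFiniteType (Red.bc g H).hom :=
    inferInstanceAs (LocallyOfFiniteType (pullback.snd H.hom g))
  haveI : IsLocallyArtinian (Spec (CommRingCat.of K)) :=
    Scheme.isLocallyArtinianScheme_Spec.mpr inferInstance
  have hK : IsFinite (pullback.snd uk.left
      (η[Red.bc g H] : 𝟙_ (Over (Spec (CommRingCat.of K))) ⟶ Red.bc g H).left) :=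
    IsFinite.of_locallyQuasiFinite (Y := Spec (CommRingCat.of K)) _
  exact isFinite_hom_of_isFinite_ker_artinian K (Red.bc g G) (Red.bc g H) uk hK

/-- the fibres of a quasi-compact locally quasi-finite homomorphism are finite morphisms -/
theorem isFinite_fibre_of_lqf [LocallyOfFiniteType G.hom] [LocallyOfFiniteType H.hom]
    [QuasiCompact f.left] [LocallyQuasiFinite f.left] (s : S) :
    IsFinite (pullback.snd f.left (H.hom.fiberι s)) := by
  have hk := isFinite_bc_of_lqf f (S.residueField s) (S.fromSpecResidueField s)
  have sq : IsPullback (prL (S.fromSpecResidueField s) G)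
      ((Over.pullback (S.fromSpecResidueField s)).map f).left f.left
      (prL (S.fromSpecResidueField s) H) := isPullback_map_left (S.fromSpecResidueField s) f
  have e : pullback.snd f.left (H.hom.fiberι s) =
      sq.isoPullback.inv ≫ ((Over.pullback (S.fromSpecResidueField s)).map f).left :=
    (sq.isoPullback_inv_snd).symm
  rw [e]
  exact (MorphismProperty.cancel_left_of_respectsIso @IsFinite _ _).2 hk

end finite

section main

variable {S : Scheme.{u}}

/-- **S7815** (isogeny criterion): a homomorphism of smooth separated finitely presented group schemes with geometrically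
connected fibres is flat and quasi-finite iff its fibres are finite and surjective. -/
theorem isogeny_iff (G H : Over S) [GrpObj G] [GrpObj H]
    [Smooth G.hom] [IsSeparated G.hom] [QuasiCompact G.hom] [GeometricallyConnected G.hom]
    [Smooth H.hom] [IsSeparated H.hom] [QuasiCompact H.hom] [GeometricallyConnected H.hom]
    (f : G ⟶ H) [IsMonHom f] :
    (Flat f.left ∧ LocallyQuasiFinite f.left ∧ LocallyOfFinitePresentation f.left) ↔
      ∀ s : S, IsFinite (pullback.snd f.left (H.hom.fiberι s)) ∧
        Surjective (pullback.snd f.left (H.hom.fiberι s)) := by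
  have hfg : f.left ≫ H.hom = G.hom := Over.w f
  have hconn : ∀ s : S, _root_.IsConnected (H.hom.base ⁻¹' {s}) :=
    fun s => H.hom.isConnected_preimage_singleton s
  constructor
  · rintro ⟨hflat, hlqf, hlfp⟩ s
    haveI : QuasiCompact f.left :=
      MorphismProperty.of_postcomp (W := @QuasiCompact) (W' := @QuasiSeparated) f.left H.hom
        inferInstance (by rw [hfg]; infer_instance)
    haveI : Surjective f.left := surjective_of_flat_hom f hflat hlfp hconn
    exact ⟨isFinite_fibre_of_lqf f s, inferInstance⟩
  · intro hs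
    haveI : LocallyOfFinitePresentation (f.left ≫ H.hom) := by rw [hfg]; infer_instance
    have hlfp : LocallyOfFinitePresentation f.left :=
      Groth.Agent.Lib.helper5.ThickFlat.lfp_of_comp f.left H.hom
    have hint : ∀ s : S, IsIntegral (H.hom.fiber s) := by
      intro s
      haveI : IrreducibleSpace ↥(H.hom.fiber s) :=
        irreducibleSpace_bc (S.residueField s) (S.fromSpecResidueField s) H hconn
      haveI : Smooth (H.hom.fiberToSpecResidueField s) :=
        inferInstanceAs (Smooth (pullback.snd H.hom (S.fromSpecResidueField s)))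
      haveI : IsReduced (H.hom.fiber s) :=
        Groth.Agent.H1.SmoothReduced.isReduced_of_smooth (H.hom.fiberToSpecResidueField s)
      exact isIntegral_of_irreducibleSpace_of_isReduced _
    refine ⟨flat_of_fibres_surjective f hint (fun s => (hs s).2), ?_, hlfp⟩
    apply locallyQuasiFinite_of_fibres f.left H.hom
    intro s y'
    haveI := (hs s).1
    exact (pullback.snd f.left (H.hom.fiberι s)).finite_preimage_singleton y'

end main

end Groth.Agent.Lib.helper5.Isogeny1
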