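/-
# Lib.Helper5.GrpDominant — quasi-compact dominant homomorphisms of group schemes over a field (SGA3 VI_B 1.2/1.3)

* `flat_stalkMap_iff_of_fibre'`: homogeneity of flatness for a homomorphism `u : G ⟶ H` with `G` flat over `S` (no finiteness).
* `eq_of_specializes_maximal`, `mem_range_of_maximal`: a quasi-compact dominant morphism hits every maximal point.
* `surjective_of_dominant`, `flat_of_dominant` (S5355).
-/
import Mathlib
import Groth.Agent.Lib.Helper5.GrpMaxPt
import Groth.Agent.Lib.Helper5.Isogeny1
import Groth.Agent.Lib.Helper1.GenFinA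
import Groth.Agent.Lib.Helper14.HomFlat2

set_option autoImplicit false
set_option linter.style.haveILetI false
universe u
open CategoryTheory CategoryTheory.Limits MonoidalCategory CartesianMonoidalCategory MonObj GrpObj
  AlgebraicGeometry

namespace Groth.Agent.Lib.helper5.GrpDominant

open Groth.Agent.Lib.helper5.GrpHomog3 Groth.Agent.Lib.helper5.Isogeny1

section homog

variable {S : Scheme.{u}} {G H : Over S} [GrpObj G] [GrpObj H] (u : G ⟶ H) [IsMonHom u]

/-- homogeneity of flatness for a homomorphism from a flat group scheme (no finiteness hypothesis) -/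
theorem flat_stalkMap_iff_of_fibre' [Flat G.hom] (w g : G.left) (h : G.hom w = G.hom g) :
    (u.left.stalkMap w).hom.Flat ↔ (u.left.stalkMap g).hom.Flat := by
  have sq1 : IsPullback (snd G G).left (G ◁ u).left u.left (snd G H).left :=
    (isPullback_snd u).map (Over.forget S)
  have sq2 : IsPullback μ[G].left (G ◁ u).left u.left (actH u).left :=
    (isPullback_mul u).map (Over.forget S)
  have f1 : Flat (snd G H).left := inferInstanceAs (Flat (pullback.snd G.hom H.hom))
  haveI : IsIso (shearH u).hom.left :=
    inferInstanceAs (IsIso ((Over.forget S).map (shearH u).hom))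
  have e : (actH u).left = (shearH u).hom.left ≫ (snd G H).left := by
    rw [← Over.comp_left, shearH_hom_snd]
  have f2 : Flat (actH u).left := by rw [e]; infer_instance
  obtain ⟨z, hz1, hz2⟩ := exists_point w g h
  have h1 := flat_stalkMap_iff_of_isPullback sq1 f1 z
  have h2 := flat_stalkMap_iff_of_isPullback sq2 f2 z
  rw [hz1] at h1
  rw [hz2] at h2
  exact h1.symm.trans h2

end homog

section top

/-- a maximal point has no proper generization -/
theorem eq_of_specializes_maximal {Y : Type*} [TopologicalSpace Y] [T0Space Y] {ξ y : Y}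
    (hξ : closure {ξ} ∈ irreducibleComponents Y) (h : y ⤳ ξ) : y = ξ := by
  have h1 : closure {ξ} ⊆ closure {y} := specializes_iff_closure_subset.mp h
  have h2 : closure {y} ⊆ closure {ξ} := hξ.2 isIrreducible_singleton.closure h1
  have h3 : ξ ⤳ y := specializes_iff_closure_subset.mpr h2
  exact (h.antisymm h3).eq

/-- a quasi-compact dominant morphism hits every maximal point -/
theorem mem_range_of_maximal {X Y : Scheme.{u}} (f : X ⟶ Y) [QuasiCompact f]
    (hf : DenseRange f.base) (ξ : Y) (hξ : closure {ξ} ∈ irreducibleComponents Y) :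
    ξ ∈ Set.range f.base := by
  obtain ⟨x, hx⟩ := Groth.Agent.H1.GenFin.exists_specializes_of_mem_closure_range f ξ (hf ξ)
  exact ⟨x, eq_of_specializes_maximal hξ hx⟩

end top

section field

variable (k : Type u) [Field k] (G H : Over (Spec (CommRingCat.of k))) [GrpObj G] [GrpObj H]
  (f : G ⟶ H) [IsMonHom f]

/-- **S5355 (i)**: a quasi-compact dominant homomorphism of group schemes over a field is surjective. -/
theorem surjective_of_dominant [QuasiCompact f.left] (hf : DenseRange f.left.base) :
    Surjective f.left := by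
  refine ⟨fun h => ?_⟩
  obtain ⟨z, hz, hz1, hz2⟩ := Groth.Agent.Lib.helper5.GrpMaxPt.exists_mul_eq_of_maximal_points k H h
  have h1 := mem_range_of_maximal f.left hf _ hz1
  have h2 := mem_range_of_maximal f.left hf _ hz2
  have hm : Set.range (f ⊗ₘ f).left = pullback.fst H.hom H.hom ⁻¹' (Set.range f.left) ∩
      pullback.snd H.hom H.hom ⁻¹' (Set.range f.left) := by
    rw [Over.tensorHom_left, Scheme.Pullback.range_map]
  have hzr : z ∈ Set.range (f ⊗ₘ f).left := by
    rw [hm]; exact ⟨h1, h2⟩
  obtain ⟨z', rfl⟩ := hzr
  have e1 := congrArg (fun k => k.left) (IsMonHom.mul_hom (f := f))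
  simp only [Over.comp_left] at e1
  refine ⟨μ[G].left z', ?_⟩
  rw [← hz, ← Scheme.Hom.comp_apply, e1, Scheme.Hom.comp_apply]

/-- **S5355 (ii)**: a quasi-compact dominant homomorphism to a reduced group scheme over a field is flat. -/
theorem flat_of_dominant [QuasiCompact f.left] (hf : DenseRange f.left.base) [IsReduced H.left] :
    Flat f.left := by
  rw [Flat.iff_flat_stalkMap]
  intro x
  haveI : Nonempty ↥H.left := ⟨η[H].left (IsLocalRing.closedPoint k)⟩
  obtain ⟨ξ, hξ⟩ := Groth.Agent.Lib.helper5.GrpMaxPt.exists_maximal_point (X := ↥H.left)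
  obtain ⟨g₀, hg₀⟩ := mem_range_of_maximal f.left hf ξ hξ
  have h0 : (f.left.stalkMap g₀).hom.Flat := by
    apply Groth.Agent.Lib.Helper14.HomFlat.flat_stalkMap_of_maximal
    intro y' hy'
    have hg₀' : f.left g₀ = ξ := hg₀
    rw [hg₀'] at hy' ⊢
    exact eq_of_specializes_maximal hξ hy'
  haveI : Subsingleton ↥(Spec (CommRingCat.of k)) :=
    inferInstanceAs (Subsingleton (PrimeSpectrum k))
  exact (flat_stalkMap_iff_of_fibre' f g₀ x (Subsingleton.elim _ _)).mp h0

end field

end Groth.Agent.Lib.helper5.GrpDominant
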