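/-
# Lib.Helper5.GrpNeutral5 — homomorphisms and neutral components (SGA3 VI_B 3.11)

* `exists_preimage_tensorHom`: points of `H ×_S H` whose projections lift along `u : G ⟶ H` lift to `G ×_S G` with prescribed
  projections.
* `locallyConnectedSpace_of_lft`, `exists_open_inter_fibre`: the neutral component of a fibre locally of finite type is open
  in the fibre.
* `image_neutralSet_eq_of_isOpenMap`: an open homomorphism maps `G⁰` onto `H⁰`.
* `flat_of_image_neutralSet_eq`: `G` flat lfp, `H` lft with reduced fibres, `u(G⁰) = H⁰` ⇒ `u` flat (S5328).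
-/
import Mathlib
import Groth.Agent.Lib.Helper5.GrpNeutral3
import Groth.Agent.Lib.Helper5.GrpDominant
import Groth.Agent.Lib.Helper5.DimArt

set_option autoImplicit false
set_option linter.style.haveILetI false
universe u
open CategoryTheory CategoryTheory.Limits MonoidalCategory CartesianMonoidalCategory MonObj GrpObj
  AlgebraicGeometry

namespace Groth.Agent.Lib.helper5.GrpNeutral5

open Groth.Agent.Lib.helper5.GrpNeutral1 Groth.Agent.Lib.helper5.GrpNeutral2 Groth.Agent.Lib.helper5.GrpNeutral3
  Groth.Agent.Lib.helper5.HomogSep1 Groth.Agent.Lib.helper5.GrpQC1 Groth.Agent.Lib.helper5.GrpQC2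
  Groth.Agent.Lib.helper5.FibCrit Groth.Agent.Lib.helper5.Isogeny1

variable {S : Scheme.{u}}

section lifting

variable {G H : Over S} (u : G ⟶ H)

/-- points of `H ×_S H` whose projections lift to `G` lift to `G ×_S G` with prescribed projections -/
theorem exists_preimage_tensorHom (z : (H ⊗ H).left) (a b : G.left)
    (ha : u.left a = (fst H H).left z) (hb : u.left b = (snd H H).left z) :
    ∃ z' : (G ⊗ G).left, (fst G G).left z' = a ∧ (snd G G).left z' = b ∧ (u ⊗ₘ u).left z' = z := by
  have sq1 : IsPullback (fst G H).left (u ▷ H).left u.left (fst H H).left :=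
    (isPullback_whiskerRight H u).map (Over.forget S)
  have sq2 : IsPullback (snd G G).left (G ◁ u).left u.left (snd G H).left :=
    (isPullback_whisker G u).map (Over.forget S)
  obtain ⟨w, hw1, hw2⟩ := Scheme.exists_preimage_of_isPullback sq1 a z ha
  have e1 := congrArg (fun k => k.left) (whiskerRight_snd u H)
  simp only [Over.comp_left] at e1
  have hbw : u.left b = (snd G H).left w := by
    rw [hb, ← hw2, ← Scheme.Hom.comp_apply, e1]
  obtain ⟨z', hz'1, hz'2⟩ := Scheme.exists_preimage_of_isPullback sq2 b w hbw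
  have e2 := congrArg (fun k => k.left) (whiskerLeft_fst G u)
  simp only [Over.comp_left] at e2
  have e3 := congrArg (fun k => k.left) (tensorHom_def' u u)
  simp only [Over.comp_left] at e3
  refine ⟨z', ?_, hz'1, ?_⟩
  · rw [← hw1, ← hz'2, ← Scheme.Hom.comp_apply, e2]
  · rw [e3, Scheme.Hom.comp_apply, hz'2, hw2]

end lifting

section openfibre

theorem locallyConnectedSpace_of_lft {X Y : Scheme.{u}} (f : X ⟶ Y) [LocallyOfFiniteType f]
    [IsLocallyNoetherian Y] : LocallyConnectedSpace ↥X := by
  have : IsLocallyNoetherian X := LocallyOfFiniteType.isLocallyNoetherian f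
  apply Groth.Agent.S2277.result
  intro x
  obtain ⟨_, ⟨U, hU, rfl⟩, hxU, -⟩ :=
    (X.isBasis_affineOpens).exists_subset_of_mem_open (Set.mem_univ x) isOpen_univ
  have : IsNoetherianRing Γ(X, U) := IsLocallyNoetherian.component_noetherian ⟨U, hU⟩
  exact ⟨U, U.isOpen.mem_nhds hxU, noetherianSpace_of_isAffineOpen U hU⟩

variable (G : Over S) [GrpObj G]

/-- the neutral component of a fibre locally of finite type is open in the fibre -/
theorem exists_open_inter_fibre (s : S) (hG : LocallyOfFiniteType (G.hom.fiberToSpecResidueField s)) :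
    ∃ O : G.left.Opens, (O : Set G.left) ∩ G.hom.base ⁻¹' {s} =
      connectedComponentIn (G.hom.base ⁻¹' {s}) (unitSec G s) := by
  haveI := hG
  haveI : LocallyConnectedSpace ↥(G.hom.fiber s) :=
    locallyConnectedSpace_of_lft (G.hom.fiberToSpecResidueField s)
  haveI : LocallyConnectedSpace ↥(G.hom.base ⁻¹' {s}) :=
    (G.hom.fiberHomeo s).symm.isOpenEmbedding.locallyConnectedSpace
  have hes : unitSec G s ∈ G.hom.base ⁻¹' {s} := by
    show G.hom (unitSec G s) = s
    rw [← Scheme.Hom.comp_apply, unitSec_hom]; rfl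
  have hop : IsOpen (connectedComponent (⟨unitSec G s, hes⟩ : ↥(G.hom.base ⁻¹' {s}))) :=
    isOpen_connectedComponent
  obtain ⟨O, hO, hOe⟩ := isOpen_induced_iff.mp hop
  refine ⟨⟨O, hO⟩, ?_⟩
  rw [connectedComponentIn_eq_image hes, ← hOe, Subtype.image_preimage_coe, Set.inter_comm]
  rfl

end openfibre

section flatimage

variable {G H : Over S} [GrpObj G] [GrpObj H] (u : G ⟶ H) [IsMonHom u]

/-- **S5328, first half**: an open homomorphism maps `G⁰` onto `H⁰` (fibres of `G` locally of finite type). -/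
theorem image_neutralSet_eq_of_isOpenMap (hopen : IsOpenMap u.left.base)
    (hG : ∀ s : S, LocallyOfFiniteType (G.hom.fiberToSpecResidueField s)) :
    u.left.base '' SGA3x.neutralSet G = SGA3x.neutralSet H := by
  apply subset_antisymm (image_neutralSet_subset u)
  intro h hh
  set s : S := H.hom h with hs
  have hu : ∀ x : G.left, H.hom (u.left x) = G.hom x := by
    intro x
    rw [← Scheme.Hom.comp_apply, Over.w u]
  obtain ⟨O, hO⟩ := exists_open_inter_fibre G s (hG s)
  let U : H.left.Opens := ⟨u.left.base '' (O : Set G.left), hopen _ O.2⟩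
  have hesG : G.hom (unitSec G s) = s := by
    rw [← Scheme.Hom.comp_apply, unitSec_hom]; rfl
  have hesH : H.hom (unitSec H s) = s := by
    rw [← Scheme.Hom.comp_apply, unitSec_hom]; rfl
  have heO : unitSec G s ∈ O := by
    have : unitSec G s ∈ (O : Set G.left) ∩ G.hom.base ⁻¹' {s} := by
      rw [hO]; exact mem_connectedComponentIn hesG
    exact this.1
  have heU : unitSec H s ∈ U := ⟨unitSec G s, heO, by rw [← Scheme.Hom.comp_apply, unitSec_comp]⟩
  have hUfib : ∀ y : H.left, y ∈ U → H.hom y = s → ∃ a : G.left, a ∈ SGA3x.neutralSet G ∧ u.left a = y := by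
    rintro _ ⟨a, haO, rfl⟩ hy
    rw [hu] at hy
    refine ⟨a, ?_, rfl⟩
    rw [mem_neutralSet_iff, hy, ← hO]
    exact ⟨haO, hy⟩
  obtain ⟨z, hz1, -, hz3, -, hz5⟩ := exists_mul_eq_of_neutral U h hh (unitSec H s) heU
    (unitSec_mem_neutralSet H s) hesH
  have hzs : (H ⊗ H).hom z = s := by
    rw [hs, ← hz5, ← Scheme.Hom.comp_apply, Over.w μ[H]]
  have hz1s : H.hom ((fst H H).left z) = s := by
    rw [← Scheme.Hom.comp_apply, Over.w (fst H H)]; exact hzs
  have hz3s : H.hom ((snd H H).left z) = s := by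
    rw [← Scheme.Hom.comp_apply, Over.w (snd H H)]; exact hzs
  obtain ⟨a, ha0, ha⟩ := hUfib _ hz1 hz1s
  obtain ⟨b, hb0, hb⟩ := hUfib _ hz3 hz3s
  obtain ⟨z', hz'1, hz'2, hz'3⟩ := exists_preimage_tensorHom u z a b ha hb
  have e1 := congrArg (fun k => k.left) (IsMonHom.mul_hom (f := u))
  simp only [Over.comp_left] at e1
  refine ⟨μ[G].left z', mul_mem_neutralSet z' (by rw [hz'1]; exact ha0) (by rw [hz'2]; exact hb0), ?_⟩
  rw [← hz5, ← hz'3, ← Scheme.Hom.comp_apply, e1, Scheme.Hom.comp_apply]

/-- **S5328, second half**: a homomorphism from a flat group to a group with reduced fibres, mapping `G⁰` onto `H⁰`,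
is flat. -/
theorem flat_of_image_neutralSet_eq [Flat G.hom] [LocallyOfFinitePresentation G.hom]
    [LocallyOfFiniteType H.hom] (hred : ∀ s : S, IsReduced (H.hom.fiber s))
    (himg : u.left.base '' SGA3x.neutralSet G = SGA3x.neutralSet H) : Flat u.left := by
  rw [Flat.iff_flat_stalkMap]
  intro x
  set s : S := G.hom x with hs
  haveI := hred s
  -- the generic point of the neutral component of the fibre of `H`
  obtain ⟨hCirr0, hCcc0⟩ := isIrreducible_preimage_neutralSet (S.residueField s) (S.fromSpecResidueField s) H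
  set C : Set ↥(H.hom.fiber s) := (H.hom.fiberι s).base ⁻¹' SGA3x.neutralSet H with hC
  obtain ⟨e₀, hCcc⟩ : ∃ e₀ : ↥(H.hom.fiber s), C = connectedComponent e₀ := ⟨_, hCcc0⟩
  have hCirr : IsIrreducible C := hCirr0
  have hCcl : IsClosed C := by
    rw [hCcc]; exact isClosed_connectedComponent
  haveI : QuasiSober ↥(H.hom.fiber s) :=
    inferInstanceAs (QuasiSober ↥(pullback H.hom (S.fromSpecResidueField s)))
  obtain ⟨ξ, hξ⟩ := QuasiSober.sober hCirr hCcl
  have hξC : ξ ∈ C := by rw [← hξ.def]; exact subset_closure rfl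
  have hξmax : ∀ y' : ↥(H.hom.fiber s), y' ⤳ ξ → y' = ξ := by
    intro y' hy'
    have h1 : ξ ∈ closure ({y'} : Set ↥(H.hom.fiber s)) := specializes_iff_mem_closure.mp hy'
    have h2 : closure ({y'} : Set ↥(H.hom.fiber s)) ⊆ C := by
      have hpre : _root_.IsPreconnected (closure ({y'} : Set ↥(H.hom.fiber s))) :=
        isPreconnected_singleton.closure
      have h5 := hpre.subset_connectedComponent h1
      have h6 : connectedComponent e₀ = connectedComponent ξ :=
        connectedComponent_eq (by rw [← hCcc]; exact hξC)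
      rw [hCcc, h6]
      exact h5
    have h3 : y' ∈ closure ({ξ} : Set ↥(H.hom.fiber s)) := by
      rw [hξ.def]; exact h2 (subset_closure rfl)
    have h4 : ξ ⤳ y' := specializes_iff_mem_closure.mpr h3
    exact (hy'.antisymm h4).eq
  -- it is hit by a point `w` of `G⁰`
  have hξ0 : H.hom.fiberι s ξ ∈ SGA3x.neutralSet H := hξC
  rw [← himg] at hξ0
  obtain ⟨w, hw0, hfw⟩ := hξ0
  have hfg : u.left ≫ H.hom = G.hom := Over.w u
  have hGw : G.hom w = s := by
    have h1 : H.hom (u.left w) = s := by
      rw [hfw]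
      have : H.hom.fiberι s ξ ∈ H.hom ⁻¹' {s} := by
        rw [← H.hom.range_fiberι s]; exact ⟨_, rfl⟩
      exact this
    rw [← hfg, Scheme.Hom.comp_apply]
    exact h1
  rw [← flat_stalkMap_iff_of_fibre u w x hGw]
  haveI : LocallyOfFinitePresentation (u.left ≫ H.hom) := by rw [hfg]; infer_instance
  haveI : Flat (u.left ≫ H.hom) := by rw [hfg]; infer_instance
  have hfl : ((u.left ≫ H.hom).stalkMap w).hom.Flat := Flat.stalkMap _ w
  have hws : (u.left ≫ H.hom) w = s := by rw [hfg]; exact hGw
  have hz : w ∈ Set.range ((u.left ≫ H.hom).fiberι s) := by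
    rw [(u.left ≫ H.hom).range_fiberι s]; exact hws
  obtain ⟨z₀, hz₀⟩ := hz
  have hfib : FibFlatAt u.left H.hom w := by
    rw [← fibFlatAt_iff_of_fiberι_eq u.left H.hom w s z₀ hz₀]
    apply Groth.Agent.Lib.Helper14.HomFlat.flat_stalkMap_of_maximal
    have hcomm : MoreMor.fiberMap u.left H.hom s ≫ H.hom.fiberι s =
        (u.left ≫ H.hom).fiberι s ≫ u.left := pullback.lift_fst _ _ _
    have hz₀ξ : MoreMor.fiberMap u.left H.hom s z₀ = ξ := by
      apply (H.hom.fiberι s).isEmbedding.injective
      rw [← hfw, ← hz₀, ← Scheme.Hom.comp_apply, ← Scheme.Hom.comp_apply, hcomm]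
    rw [hz₀ξ]
    exact hξmax
  exact (flat_of_fibFlatAt u.left H.hom w hfl hfib).2

end flatimage

end Groth.Agent.Lib.helper5.GrpNeutral5
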