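/-
helper5: over an algebraically closed field, a group scheme of finite type acting transitively on a smooth connected
scheme with connected stabilizer is connected (no flatness of the orbit map needed: generic point + translations by
rational points).

* `exists_ratPt_mem`: rational points in nonempty locally closed subsets.
* `connectedSpace_of_connected_stabilizer`.
-/
import Mathlib
import Groth.Prelude.Def_AlgGrp
import Groth.Agent.Lib.Helper5.ConnStab1
import Groth.Agent.Lib.Helper5.GrpNeutral5
import Groth.Agent.Lib.Helper14.AbVarComm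
import Groth.Agent.Lib.Helper3.ConsNhds

set_option autoImplicit false
set_option linter.style.haveILetI false
universe u
open CategoryTheory CategoryTheory.Limits MonoidalCategory CartesianMonoidalCategory MonObj GrpObj
  AlgebraicGeometry
open Groth.Agent.Lib.helper22 Topology

namespace Groth.Agent.Lib.helper5.ConnStab

variable (k : Type u) [Field k] [IsAlgClosed k]

/-- rational points in nonempty locally closed subsets -/
theorem exists_ratPt_mem (Y : Over (Spec (CommRingCat.of k))) [LocallyOfFiniteType Y.hom]
    (W : Set ↥Y.left) (hW : W.Nonempty) (hW' : IsLocallyClosed W) :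
    ∃ y : 𝟙_ (Over (Spec (CommRingCat.of k))) ⟶ Y,
      ∀ p : ↥(𝟙_ (Over (Spec (CommRingCat.of k)))).left, y.left p ∈ W := by
  haveI : JacobsonSpace ↥Y.left := LocallyOfFiniteType.jacobsonSpace Y.hom
  obtain ⟨w, hwW, hwcl'⟩ := nonempty_inter_closedPoints hW hW'
  have hwcl : IsClosed ({w} : Set ↥Y.left) := hwcl'
  refine ⟨Over.homMk (pointOfClosedPoint Y.hom w hwcl) (pointOfClosedPoint_comp Y.hom w hwcl),
    fun p => ?_⟩
  have h1 : (Over.homMk (U := 𝟙_ (Over (Spec (CommRingCat.of k)))) (pointOfClosedPoint Y.hom w hwcl)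
      (pointOfClosedPoint_comp Y.hom w hwcl)).left p = w := pointOfClosedPoint_apply Y.hom w hwcl p
  rw [h1]
  exact hwW

/-- an automorphism of an integral scheme fixes the generic point -/
theorem iso_genericPoint {Z : Scheme.{u}} [IsIntegral Z] (e : Z ≅ Z) :
    e.hom (genericPoint ↥Z) = genericPoint ↥Z := by
  have h1 : IsGenericPoint (e.hom (genericPoint ↥Z)) (closure (e.hom '' (⊤ : Set ↥Z))) :=
    (genericPoint_spec ↥Z).image e.hom.continuous
  have h2 : closure (e.hom '' (⊤ : Set ↥Z)) = ⊤ := by
    have h3 : Set.range e.hom = Set.univ := (Scheme.homeoOfIso e).surjective.range_eq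
    rw [Set.top_eq_univ, Set.image_univ, h3, closure_univ]
  rw [h2] at h1
  exact h1.eq (genericPoint_spec ↥Z)


/-- Over an algebraically closed field, `G` of finite type acting on a smooth connected `X` with surjective orbit map
of `x₀` and connected stabilizer `H` of `x₀`: then `G` is connected. -/
theorem connectedSpace_of_connected_stabilizer
    (G X : Over (Spec (CommRingCat.of k))) [GrpObj G] [LocallyOfFiniteType G.hom] [QuasiCompact G.hom]
    [Smooth X.hom] [ConnectedSpace ↥X.left] (a : AlgGrp.Action G X)
    (x₀ : 𝟙_ (Over (Spec (CommRingCat.of k))) ⟶ X)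
    (hsurj : Surjective (a.orbitMap x₀).left)
    (H : Over (Spec (CommRingCat.of k))) (i : H ⟶ G)
    (sqH : IsPullback i (toUnit H) (a.orbitMap x₀) x₀) [ConnectedSpace ↥H.left] :
    ConnectedSpace ↥G.left := by
  classical
  obtain ⟨π, hπ⟩ : ∃ π : G ⟶ X, π = a.orbitMap x₀ := ⟨_, rfl⟩
  rw [← hπ] at hsurj sqH
  have heq : ∀ h : 𝟙_ (Over (Spec (CommRingCat.of k))) ⟶ G,
      tr (Groth.Agent.Lib.helper5.HomogT.regAct G) h ≫ π = π ≫ tr a h := by
    intro h; rw [hπ]; exact tr_orbitMap a h x₀
  have hunit : η[G] ≫ π = x₀ := by rw [hπ]; exact unit_orbitMap a x₀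
  obtain ⟨pt⟩ : Nonempty ↥(𝟙_ (Over (Spec (CommRingCat.of k)))).left :=
    ⟨(IsLocalRing.closedPoint k : PrimeSpectrum k)⟩
  have hpt : ∀ p : ↥(𝟙_ (Over (Spec (CommRingCat.of k)))).left, p = pt := fun p =>
    Subsingleton.elim (α := PrimeSpectrum k) p pt
  -- finiteness properties
  haveI : IsLocallyNoetherian ↑(Spec (CommRingCat.of k)) := inferInstance
  haveI : LocallyConnectedSpace ↥G.left :=
    Groth.Agent.Lib.helper5.GrpNeutral5.locallyConnectedSpace_of_lft G.hom
  haveI : CompactSpace ↥G.left := (quasiCompact_iff_compactSpace G.hom).mp inferInstance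
  haveI : CompactSpace ↥X.left := by
    have h1 := isCompact_range π.left.continuous
    rw [hsurj.surj.range_eq] at h1
    exact ⟨h1⟩
  haveI : QuasiCompact X.hom := (quasiCompact_iff_compactSpace X.hom).mpr inferInstance
  haveI : IsIntegral X.left := Groth.Agent.Lib.Helper14.AbVarComm.isIntegral_of_smooth_connected X.hom
  haveI : IsLocallyNoetherian X.left := LocallyOfFiniteType.isLocallyNoetherian X.hom
  haveI : IsLocallyNoetherian G.left := LocallyOfFiniteType.isLocallyNoetherian G.hom
  haveI : LocallyOfFiniteType (π.left ≫ X.hom) := by rw [Over.w π]; infer_instance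
  haveI : LocallyOfFiniteType π.left := locallyOfFiniteType_of_comp π.left X.hom
  haveI : QuasiCompact π.left := inferInstance
  haveI : LocallyOfFinitePresentation π.left := inferInstance
  -- the fibre over the base point
  have sqL : IsPullback i.left (toUnit H).left π.left x₀.left := sqH.map (Over.forget _)
  have hrange : Set.range i.left = π.left ⁻¹' {x₀.left pt} := by
    have h1 := Scheme.image_preimage_eq_of_isPullback sqL.flip (Set.univ : Set ↥(𝟙_ (Over (Spec (CommRingCat.of k)))).left)
    rw [Set.preimage_univ, Set.image_univ] at h1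
    rw [h1]
    congr 1
    ext z
    constructor
    · rintro ⟨p, -, rfl⟩
      rw [hpt p]; rfl
    · rintro rfl
      exact ⟨pt, trivial, rfl⟩
  -- rational points and translations
  have hL : ∀ (h g' : 𝟙_ (Over (Spec (CommRingCat.of k))) ⟶ G),
      (tr (Groth.Agent.Lib.helper5.HomogT.regAct G) h).left (g'.left pt) = (h * g').left pt := by
    intro h g'
    have h1 := congrArg (fun m => m.left pt) (pt_tr_reg h g')
    simpa using h1
  have hπL : ∀ (h : 𝟙_ (Over (Spec (CommRingCat.of k))) ⟶ G) (c : ↥G.left),
      π.left ((tr (Groth.Agent.Lib.helper5.HomogT.regAct G) h).left c) = (tr a h).left (π.left c) := by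
    intro h c
    have h1 := congrArg (fun m => m.left c) (heq h)
    simpa using h1
  have hone : (η[G] : 𝟙_ (Over (Spec (CommRingCat.of k))) ⟶ G) = 1 := by
    rw [Hom.one_def, show toUnit (𝟙_ (Over (Spec (CommRingCat.of k)))) = 𝟙 _ from toUnit_unique _ _,
      Category.id_comp]
  -- every component meets the generic fibre
  obtain ⟨c₁, hc₁⟩ := hsurj.surj (genericPoint ↥X.left)
  obtain ⟨g₁, hg₁⟩ := exists_ratPt_mem k G (connectedComponent c₁) ⟨c₁, mem_connectedComponent⟩
    isOpen_connectedComponent.isLocallyClosed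
  have hb : ∀ g' : 𝟙_ (Over (Spec (CommRingCat.of k))) ⟶ G,
      ∃ c' ∈ connectedComponent (g'.left pt), π.left c' = genericPoint ↥X.left := by
    intro g'
    refine ⟨(tr (Groth.Agent.Lib.helper5.HomogT.regAct G) (g' * g₁⁻¹)).left c₁, ?_, ?_⟩
    · have h1 : c₁ ∈ connectedComponent (g₁.left pt) := by
        rw [← connectedComponent_eq (hg₁ pt)]; exact mem_connectedComponent
      have h2 := (tr (Groth.Agent.Lib.helper5.HomogT.regAct G) (g' * g₁⁻¹)).left.continuous.image_connectedComponent_subset
        (g₁.left pt) ⟨c₁, h1, rfl⟩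
      rw [hL, inv_mul_cancel_right] at h2
      exact h2
    · rw [hπL, hc₁]
      exact iso_genericPoint (Z := X.left) ((Over.forget _).mapIso (trIso a (g' * g₁⁻¹)))
  -- images of components are neighbourhoods of the generic point
  have hnh : ∀ z : ↥G.left, genericPoint ↥X.left ∈ π.left '' connectedComponent z →
      π.left '' connectedComponent z ∈ nhds (genericPoint ↥X.left) := by
    intro z hz
    have hcons : IsLocallyConstructible (π.left '' connectedComponent z) :=
      π.left.isLocallyConstructible_image
        (Groth.Agent.Lib.helper3.ConsNhds.isLocallyConstructible_of_isClosed isClosed_connectedComponent)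
    refine Groth.Agent.Lib.helper3.ConsNhds.mem_nhds_of_isLocallyConstructible hcons _ ?_
    intro y' hy'
    have h1 : y' = genericPoint ↥X.left := (hy'.antisymm (genericPoint_specializes y')).eq
    rw [h1]; exact hz
  have hstar : ∀ g : 𝟙_ (Over (Spec (CommRingCat.of k))) ⟶ G,
      g.left pt ∈ connectedComponent (η[G].left pt) := by
    intro g
    obtain ⟨c', hc'C, hc'ξ⟩ := hb g
    obtain ⟨c0, hc0C, hc0ξ⟩ := hb η[G]
    have hU := Filter.inter_mem (hnh _ ⟨c', hc'C, hc'ξ⟩) (hnh _ ⟨c0, hc0C, hc0ξ⟩)
    obtain ⟨U, hUsub, hUo, hξU⟩ := mem_nhds_iff.1 hU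
    obtain ⟨gm, hgm⟩ := exists_ratPt_mem k G (connectedComponent (η[G].left pt) ∩ π.left ⁻¹' U)
      ⟨c0, hc0C, by rw [Set.mem_preimage, hc0ξ]; exact hξU⟩
      ((isOpen_connectedComponent.inter (hUo.preimage π.left.continuous)).isLocallyClosed)
    obtain ⟨hgm0, hgmU⟩ := hgm pt
    obtain ⟨c'', hc''C, hc''⟩ := (hUsub hgmU).1
    -- the fibre through `gm`
    have hFpre : _root_.IsPreconnected ((tr (Groth.Agent.Lib.helper5.HomogT.regAct G) gm).left '' Set.range i.left) :=
      (isPreconnected_range i.left.continuous).image _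
        (tr (Groth.Agent.Lib.helper5.HomogT.regAct G) gm).left.continuous.continuousOn
    have hgmF : gm.left pt ∈ (tr (Groth.Agent.Lib.helper5.HomogT.regAct G) gm).left '' Set.range i.left := by
      refine ⟨η[G].left pt, ?_, ?_⟩
      · rw [hrange, Set.mem_preimage, Set.mem_singleton_iff, ← hunit]
        rfl
      · rw [hL, hone, _root_.mul_one]
    have hc''F : c'' ∈ (tr (Groth.Agent.Lib.helper5.HomogT.regAct G) gm).left '' Set.range i.left := by
      refine ⟨(tr (Groth.Agent.Lib.helper5.HomogT.regAct G) gm⁻¹).left c'', ?_, ?_⟩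
      · rw [hrange, Set.mem_preimage, Set.mem_singleton_iff, hπL, hc'', ← hπL, hL, inv_mul_cancel,
          ← hone, ← hunit]
        rfl
      · have h1 := congrArg (fun m => m.left c'')
          (tr_comp (Groth.Agent.Lib.helper5.HomogT.regAct G) gm⁻¹ gm)
        rw [mul_inv_cancel, tr_one] at h1
        simpa using h1
    have hsub := hFpre.subset_connectedComponent hgmF
    have h5 : c'' ∈ connectedComponent (η[G].left pt) := by
      rw [connectedComponent_eq hgm0]; exact hsub hc''F
    rw [connectedComponent_eq h5, ← connectedComponent_eq hc''C]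
    exact mem_connectedComponent
  rw [connectedSpace_iff_connectedComponent]
  refine ⟨η[G].left pt, Set.eq_univ_of_forall fun c => ?_⟩
  obtain ⟨g, hg⟩ := exists_ratPt_mem k G (connectedComponent c) ⟨c, mem_connectedComponent⟩
    isOpen_connectedComponent.isLocallyClosed
  rw [connectedComponent_eq (hstar g), ← connectedComponent_eq (hg pt)]
  exact mem_connectedComponent

end Groth.Agent.Lib.helper5.ConnStab
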