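import Groth.Agent.Lib.Helper5.FGDescent

/-!
# Descent of a morphism over a field-valued point to a finitely generated integral model (helper5)
-/

set_option autoImplicit false
set_option backward.isDefEq.respectTransparency false
open CategoryTheory CategoryTheory.Limits AlgebraicGeometry

namespace Groth.Agent.Lib.helper5.FGLimit
universe u

/-- EGA IV 8.8.2-type descent: a `T'`-morphism `g : X ×_S T' ⟶ Y ×_S T'`, `T'` the spectrum of a
field over `S`, comes from an `S₁`-morphism `X ×_S S₁ ⟶ Y ×_S S₁` for an integral affine scheme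
`S₁` of finite type over `S` through whose generic point `T' ⟶ S` factors. -/
theorem exists_descent_geom {S X Y T' X' Y' : Scheme.{u}}
    (u : X ⟶ S) (v : Y ⟶ S) [QuasiCompact u] [QuasiSeparated u] [LocallyOfFinitePresentation v]
    [IsIntegral T'] [Subsingleton ↥T'] (t : T' ⟶ S)
    {gX' : X' ⟶ T'} {gY' : Y' ⟶ T'} {eX : X' ⟶ X} {eY : Y' ⟶ Y}
    (sqX : IsPullback eX gX' u t) (sqY : IsPullback eY gY' v t) (g : X' ⟶ Y')
    (hg : g ≫ gY' = gX') :
    ∃ (S₁ : Scheme.{u}) (p : S₁ ⟶ S) (j : T' ⟶ S₁) (g₁ : pullback u p ⟶ pullback v p)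
      (eX₁ : X' ⟶ pullback u p) (eY₁ : Y' ⟶ pullback v p),
      IsIntegral S₁ ∧ IsAffine S₁ ∧ LocallyOfFiniteType p ∧ j ≫ p = t ∧
      (∀ x, IsGenericPoint (j x) (⊤ : Set ↥S₁)) ∧
      g₁ ≫ pullback.snd v p = pullback.snd u p ∧ IsPullback eX₁ gX' (pullback.snd u p) j ∧
      IsPullback eY₁ gY' (pullback.snd v p) j ∧ g ≫ eY₁ = eX₁ ≫ g₁ := by
  obtain ⟨pt⟩ : Nonempty ↥T' := inferInstance
  obtain ⟨U₀, hU₀, hpt, -⟩ := exists_isAffineOpen_mem_and_subset (x := t pt) (U := ⊤) trivial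
  have e : (⊤ : T'.Opens) ≤ t ⁻¹ᵁ U₀ := by
    intro x _
    change t x ∈ U₀
    rw [Subsingleton.elim x pt]
    exact hpt
  let φ : Γ(S, U₀) ⟶ Γ(T', ⊤) := t.appLE U₀ ⊤ e
  letI : Algebra ↑Γ(S, U₀) ↑Γ(T', ⊤) := φ.hom.toAlgebra
  let q : Spec (CommRingCat.of ↑Γ(S, U₀)) ⟶ S := hU₀.fromSpec
  let ι : T' ≅ Spec Γ(T', ⊤) := T'.isoSpec
  have htK : tK ↑Γ(S, U₀) ↑Γ(T', ⊤) q = ι.inv ≫ t := by
    have h1 := IsAffineOpen.SpecMap_appLE_fromSpec t hU₀ (isAffineOpen_top T') e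
    rw [IsAffineOpen.fromSpec_top] at h1
    exact h1
  -- the inverse comparison map
  let θinv : pullback u (tK ↑Γ(S, U₀) ↑Γ(T', ⊤) q) ⟶ X' :=
    sqX.lift (pullback.fst u _) (pullback.snd u _ ≫ ι.inv)
      (by rw [pullback.condition, Category.assoc, htK])
  have hθinv1 : θinv ≫ eX = pullback.fst u _ := sqX.lift_fst _ _ _
  have hθinv2 : θinv ≫ gX' = pullback.snd u _ ≫ ι.inv := sqX.lift_snd _ _ _
  let g' : pullback u (tK ↑Γ(S, U₀) ↑Γ(T', ⊤) q) ⟶ Y := θinv ≫ g ≫ eY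
  have hg' : g' ≫ v = pullback.snd u _ ≫ tK ↑Γ(S, U₀) ↑Γ(T', ⊤) q := by
    change (θinv ≫ g ≫ eY) ≫ v = _
    rw [Category.assoc, Category.assoc, sqY.w, ← Category.assoc g, hg, ← Category.assoc, hθinv2,
      Category.assoc, htK]
  obtain ⟨s, gs, hgs, hπ⟩ := exists_descent ↑Γ(S, U₀) ↑Γ(T', ⊤) q u v g' hg'
  let p := pS ↑Γ(S, U₀) ↑Γ(T', ⊤) q s
  let j : T' ⟶ Spec (CommRingCat.of (adj ↑Γ(S, U₀) ↑Γ(T', ⊤) s)) :=
    ι.hom ≫ jK ↑Γ(S, U₀) ↑Γ(T', ⊤) s
  have hjp : j ≫ p = t := by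
    change (ι.hom ≫ jK _ _ s) ≫ pS _ _ q s = t
    rw [Category.assoc, jK_pS, htK, Iso.hom_inv_id_assoc]
  let θ : X' ⟶ pullback u (tK ↑Γ(S, U₀) ↑Γ(T', ⊤) q) :=
    pullback.lift eX (gX' ≫ ι.hom) (by rw [sqX.w, htK, Category.assoc, Iso.hom_inv_id_assoc])
  have hθθ : θ ≫ θinv = 𝟙 X' := by
    apply sqX.hom_ext
    · rw [Category.assoc, hθinv1, Category.id_comp]
      exact pullback.lift_fst _ _ _
    · rw [Category.assoc, hθinv2, Category.id_comp, ← Category.assoc]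
      change (pullback.lift eX (gX' ≫ ι.hom) _ ≫ pullback.snd u _) ≫ ι.inv = gX'
      rw [pullback.lift_snd, Category.assoc, Iso.hom_inv_id, Category.comp_id]
  let eX₁ : X' ⟶ pullback u p := θ ≫ πX ↑Γ(S, U₀) ↑Γ(T', ⊤) q u s
  have heX₁fst : eX₁ ≫ pullback.fst u p = eX := by
    change (θ ≫ πX _ _ q u s) ≫ pullback.fst u _ = eX
    unfold πX
    rw [Category.assoc, pullback.map, pullback.lift_fst, Category.comp_id]
    exact pullback.lift_fst _ _ _
  have heX₁snd : eX₁ ≫ pullback.snd u p = gX' ≫ j := by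
    change (θ ≫ πX _ _ q u s) ≫ pullback.snd u _ = gX' ≫ ι.hom ≫ jK _ _ s
    unfold πX
    rw [Category.assoc, pullback.map, pullback.lift_snd, ← Category.assoc, ← Category.assoc]
    congr 1
    exact pullback.lift_snd _ _ _
  let g₁ : pullback u p ⟶ pullback v p := pullback.lift gs (pullback.snd u p) hgs
  let eY₁ : Y' ⟶ pullback v p :=
    pullback.lift eY (gY' ≫ j) (by rw [sqY.w, Category.assoc, hjp])
  have heY₁fst : eY₁ ≫ pullback.fst v p = eY := pullback.lift_fst _ _ _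
  have heY₁snd : eY₁ ≫ pullback.snd v p = gY' ≫ j := pullback.lift_snd _ _ _
  have hK : IsField ↑Γ(T', ⊤) := isField_of_isIntegral_of_subsingleton T'
  haveI : IsDomain ↑Γ(T', ⊤) := hK.isDomain
  refine ⟨Spec (CommRingCat.of (adj ↑Γ(S, U₀) ↑Γ(T', ⊤) s)), p, j, g₁, eX₁, eY₁, ?_, ?_, ?_, hjp,
    ?_, pullback.lift_snd _ _ _, ?_, ?_, ?_⟩
  · infer_instance
  · infer_instance
  · -- finite type
    change LocallyOfFiniteType (Spec.map (CommRingCat.ofHom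
      (algebraMap ↑Γ(S, U₀) (adj ↑Γ(S, U₀) ↑Γ(T', ⊤) s))) ≫ hU₀.fromSpec)
    haveI : LocallyOfFiniteType (Spec.map (CommRingCat.ofHom
        (algebraMap ↑Γ(S, U₀) (adj ↑Γ(S, U₀) ↑Γ(T', ⊤) s)))) := by
      rw [HasRingHomProperty.Spec_iff (P := @LocallyOfFiniteType)]
      have hfg : (adj ↑Γ(S, U₀) ↑Γ(T', ⊤) s).FG := Subalgebra.fg_adjoin_finset s
      have hft : Algebra.FiniteType ↑Γ(S, U₀) (adj ↑Γ(S, U₀) ↑Γ(T', ⊤) s) :=
        (adj ↑Γ(S, U₀) ↑Γ(T', ⊤) s).fg_iff_finiteType.mp hfg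
      exact hft
    infer_instance
  · -- generic point
    intro x
    suffices h : j x = genericPoint ↥(Spec (CommRingCat.of (adj ↑Γ(S, U₀) ↑Γ(T', ⊤) s))) by
      rw [h]; exact genericPoint_spec _
    rw [genericPoint_eq_bot_of_affine]
    apply PrimeSpectrum.ext
    ext a
    change a ∈ ((jK ↑Γ(S, U₀) ↑Γ(T', ⊤) s) (ι.hom x)).asIdeal ↔ a ∈ (⊥ : Ideal _)
    rw [Ideal.mem_bot]
    constructor
    · intro ha
      have ha' : (a : ↑Γ(T', ⊤)) ∈ (ι.hom x).asIdeal := ha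
      by_contra hne
      have hne' : (a : ↑Γ(T', ⊤)) ≠ 0 := fun h => hne (Subtype.ext h)
      obtain ⟨b, hb⟩ := hK.mul_inv_cancel hne'
      have h1 : (1 : ↑Γ(T', ⊤)) ∈ (ι.hom x).asIdeal := by
        rw [← hb]
        exact Ideal.mul_mem_right _ _ ha'
      exact (ι.hom x).isPrime.ne_top ((Ideal.eq_top_iff_one _).mpr h1)
    · rintro rfl
      exact Ideal.zero_mem _
  · exact IsPullback.of_right (by rw [heX₁fst, hjp]; exact sqX) heX₁snd
      (IsPullback.of_hasPullback u p)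
  · exact IsPullback.of_right (by rw [heY₁fst, hjp]; exact sqY) heY₁snd
      (IsPullback.of_hasPullback v p)
  · apply pullback.hom_ext
    · rw [Category.assoc, heY₁fst, Category.assoc]
      change g ≫ eY = eX₁ ≫ pullback.lift gs (pullback.snd u p) hgs ≫ pullback.fst v p
      rw [pullback.lift_fst]
      change g ≫ eY = (θ ≫ πX _ _ q u s) ≫ gs
      rw [Category.assoc, hπ]
      change g ≫ eY = θ ≫ θinv ≫ g ≫ eY
      rw [← Category.assoc θ, hθθ, Category.id_comp]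
    · rw [Category.assoc, heY₁snd, ← Category.assoc, hg, Category.assoc]
      change gX' ≫ j = eX₁ ≫ pullback.lift gs (pullback.snd u p) hgs ≫ pullback.snd v p
      rw [pullback.lift_snd, heX₁snd]

end Groth.Agent.Lib.helper5.FGLimit
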