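import Groth.Agent.Lib.Helper5.ConsFibre3
import Groth.Agent.Lib.Helper5.FGDescent2
import Groth.Prelude.Def_W4ega4s0809p4Pair

/-!
# Ind-constructible properties of pairs of algebraic schemes (helper5)

* `locusMor_eq_preimage` : base change of the locus of a field-stable relation on morphisms.
* `isIndConsPair_pairRel` : if `Q` is (as a relation on morphisms of algebraic schemes)
  ind-constructible, then "after an extension of the base field there is a morphism `X' ⟶ Y'`
  with `Q`" is an ind-constructible property of pairs (EGA IV 9.3.x).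
-/

set_option autoImplicit false
set_option backward.isDefEq.respectTransparency false
universe u
open CategoryTheory CategoryTheory.Limits AlgebraicGeometry Topology TopologicalSpace

namespace Groth.Agent.Lib.helper5.ConsFibre

variable {P : ∀ ⦃X Y T : Scheme.{u}⦄, (X ⟶ Y) → (Y ⟶ T) → Prop}

/-- the locus of a field-stable relation on morphisms is compatible with base change. -/
theorem locusMor_eq_preimage (hP : ConsProp.IsFieldStableMor P) {X' Y' T' X Y T : Scheme.{u}}
    {f' : X' ⟶ Y'} {g' : Y' ⟶ T'} {f : X ⟶ Y} {g : Y ⟶ T} {eX : X' ⟶ X} {eY : Y' ⟶ Y}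
    {h : T' ⟶ T} (sqY : IsPullback eY g' g h) (sqX : IsPullback eX f' f eY)
    [LocallyOfFiniteType g] [QuasiCompact g] [LocallyOfFiniteType (f ≫ g)]
    [QuasiCompact (f ≫ g)] :
    ConsProp.locusMor P f' g' = h ⁻¹' ConsProp.locusMor P f g := by
  ext t'
  have sqXY : IsPullback eX (f' ≫ g') (f ≫ g) h := sqX.paste_vert sqY
  have bigY := isPullback_fiberToSpecResidueField_of_isPullback sqY t'
  have bigX := isPullback_fiberToSpecResidueField_of_isPullback sqXY t'
  set mY := pullback.map g' (T'.fromSpecResidueField t') g (T.fromSpecResidueField (h t')) eY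
    (Spec.map (h.residueFieldMap t')) h sqY.w.symm (by simp) with hmY
  set mX := pullback.map (f' ≫ g') (T'.fromSpecResidueField t') (f ≫ g)
    (T.fromSpecResidueField (h t')) eX (Spec.map (h.residueFieldMap t')) h sqXY.w.symm (by simp)
    with hmX
  have hcomm : mX ≫ MoreMor.fiberMap f g (h t') = MoreMor.fiberMap f' g' t' ≫ mY := by
    apply pullback.hom_ext
    · have h1 : MoreMor.fiberMap f g (h t') ≫ pullback.fst g _ = (f ≫ g).fiberι (h t') ≫ f :=
        pullback.lift_fst _ _ _
      have h2 : MoreMor.fiberMap f' g' t' ≫ pullback.fst g' _ = (f' ≫ g').fiberι t' ≫ f' :=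
        pullback.lift_fst _ _ _
      have h3 : mX ≫ (f ≫ g).fiberι (h t') = (f' ≫ g').fiberι t' ≫ eX :=
        pullback.lift_fst _ _ _
      have h4 : mY ≫ pullback.fst g _ = pullback.fst g' _ ≫ eY := pullback.lift_fst _ _ _
      rw [Category.assoc, h1, ← Category.assoc, h3, Category.assoc, Category.assoc, h4,
        ← Category.assoc (MoreMor.fiberMap f' g' t'), h2, Category.assoc, sqX.w]
    · have h1 : MoreMor.fiberMap f g (h t') ≫ pullback.snd g _ =
          (f ≫ g).fiberToSpecResidueField (h t') := pullback.lift_snd _ _ _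
      have h2 : MoreMor.fiberMap f' g' t' ≫ pullback.snd g' _ =
          (f' ≫ g').fiberToSpecResidueField t' := pullback.lift_snd _ _ _
      have h3 : mX ≫ (f ≫ g).fiberToSpecResidueField (h t') =
          (f' ≫ g').fiberToSpecResidueField t' ≫ Spec.map (h.residueFieldMap t') :=
        pullback.lift_snd _ _ _
      have h4 : mY ≫ pullback.snd g _ = pullback.snd g' _ ≫ Spec.map (h.residueFieldMap t') :=
        pullback.lift_snd _ _ _
      rw [Category.assoc, h1, h3, Category.assoc, h4, ← Category.assoc, h2]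
  have top : IsPullback mX (MoreMor.fiberMap f' g' t') (MoreMor.fiberMap f g (h t')) mY := by
    refine IsPullback.of_bot ?_ hcomm bigY
    rw [fiberMap_comp, fiberMap_comp]
    exact bigX
  haveI : LocallyOfFiniteType (g.fiberToSpecResidueField (h t')) :=
    MorphismProperty.pullback_snd (P := @LocallyOfFiniteType) g _ inferInstance
  haveI : QuasiCompact (g.fiberToSpecResidueField (h t')) :=
    MorphismProperty.pullback_snd (P := @QuasiCompact) g _ inferInstance
  haveI : LocallyOfFiniteType (MoreMor.fiberMap f g (h t') ≫ g.fiberToSpecResidueField (h t')) := by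
    rw [fiberMap_comp]
    exact MorphismProperty.pullback_snd (P := @LocallyOfFiniteType) (f ≫ g) _ inferInstance
  haveI : QuasiCompact (MoreMor.fiberMap f g (h t') ≫ g.fiberToSpecResidueField (h t')) := by
    rw [fiberMap_comp]
    exact MorphismProperty.pullback_snd (P := @QuasiCompact) (f ≫ g) _ inferInstance
  exact (hP (MoreMor.fiberMap f g (h t')) (g.fiberToSpecResidueField (h t'))
    (MoreMor.fiberMap f' g' t') (g'.fiberToSpecResidueField t') mX mY
    (Spec.map (h.residueFieldMap t')) bigY top).symm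

/-- over a one-point base the relation holds iff the unique point lies in the locus. -/
theorem mem_locusMor_iff_of_subsingleton (hP : ConsProp.IsFieldStableMor P) {X Y T : Scheme.{u}}
    (f : X ⟶ Y) (g : Y ⟶ T) [IsIntegral T] [Subsingleton ↥T]
    [LocallyOfFiniteType g] [QuasiCompact g] [LocallyOfFiniteType (f ≫ g)]
    [QuasiCompact (f ≫ g)] (pt : T) :
    pt ∈ ConsProp.locusMor P f g ↔ P f g :=
  (hP f g (MoreMor.fiberMap f g pt) (g.fiberToSpecResidueField pt) ((f ≫ g).fiberι pt)
    (g.fiberι pt) (T.fromSpecResidueField pt) (IsPullback.of_hasPullback _ _)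
    (isPullback_fiberMap f g pt)).symm

/-- the relation on pairs of algebraic schemes: after an extension of the base field there is a
morphism between the base changes with property `Q`. -/
def PairRel (Q : MorphismProperty Scheme.{u}) :
    ∀ ⦃X Y T : Scheme.{u}⦄, (X ⟶ T) → (Y ⟶ T) → Prop :=
  fun X Y T gX gY => ∃ (T' X' Y' : Scheme.{u}) (h : T' ⟶ T) (gX' : X' ⟶ T') (gY' : Y' ⟶ T')
    (eX : X' ⟶ X) (eY : Y' ⟶ Y), IsIntegral T' ∧ Subsingleton ↥T' ∧
      IsPullback eX gX' gX h ∧ IsPullback eY gY' gY h ∧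
        ∃ g : X' ⟶ Y', g ≫ gY' = gX' ∧ Q g

variable {Q : MorphismProperty Scheme.{u}}

theorem isFieldStablePair_pairRel
    (hQ : ConsProp.IsFieldStableMor (fun X Y T f g => Q f)) :
    ConsPropPair.IsFieldStablePair (PairRel Q) := by
  intro X X' Y Y' T T' gX gY gX' gY' eX eY h _ _ _ _ _ _ _ _ sqX sqY
  constructor
  · rintro ⟨T₁, X₁, Y₁, h₁, gX₁, gY₁, eX₁, eY₁, hT₁i, hT₁s, sqX₁, sqY₁, g, hg, hQg⟩
    haveI := hT₁i
    haveI := hT₁s
    -- a common extension
    obtain ⟨w⟩ : Nonempty ↥(pullback h₁ h) := inferInstance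
    let a : Spec ((pullback h₁ h).residueField w) ⟶ T₁ :=
      (pullback h₁ h).fromSpecResidueField w ≫ pullback.fst h₁ h
    let b : Spec ((pullback h₁ h).residueField w) ⟶ T' :=
      (pullback h₁ h).fromSpecResidueField w ≫ pullback.snd h₁ h
    have hab : a ≫ h₁ = b ≫ h := by
      change ((pullback h₁ h).fromSpecResidueField w ≫ pullback.fst h₁ h) ≫ h₁ =
        ((pullback h₁ h).fromSpecResidueField w ≫ pullback.snd h₁ h) ≫ h
      rw [Category.assoc, Category.assoc, pullback.condition]
    haveI : LocallyOfFiniteType gY₁ :=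
      MorphismProperty.of_isPullback (P := @LocallyOfFiniteType) sqY₁ inferInstance
    haveI : QuasiCompact gY₁ :=
      MorphismProperty.of_isPullback (P := @QuasiCompact) sqY₁ inferInstance
    haveI : LocallyOfFiniteType gX₁ :=
      MorphismProperty.of_isPullback (P := @LocallyOfFiniteType) sqX₁ inferInstance
    haveI : QuasiCompact gX₁ :=
      MorphismProperty.of_isPullback (P := @QuasiCompact) sqX₁ inferInstance
    haveI : LocallyOfFiniteType (g ≫ gY₁) := by rw [hg]; infer_instance
    haveI : QuasiCompact (g ≫ gY₁) := by rw [hg]; infer_instance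
    let g'' : pullback gX₁ a ⟶ pullback gY₁ a :=
      pullback.map gX₁ a gY₁ a g (𝟙 _) (𝟙 _) (by rw [Category.comp_id, hg])
        (by rw [Category.comp_id, Category.id_comp])
    have hg''snd : g'' ≫ pullback.snd gY₁ a = pullback.snd gX₁ a := by
      change pullback.map _ _ _ _ _ _ _ _ _ ≫ _ = _
      rw [pullback.map, pullback.lift_snd, Category.comp_id]
    have hg''fst : g'' ≫ pullback.fst gY₁ a = pullback.fst gX₁ a ≫ g := by
      change pullback.map _ _ _ _ _ _ _ _ _ ≫ _ = _
      rw [pullback.map, pullback.lift_fst]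
    have sqtop : IsPullback (pullback.fst gX₁ a) g'' g (pullback.fst gY₁ a) := by
      refine IsPullback.of_bot ?_ hg''fst.symm (IsPullback.of_hasPullback gY₁ a)
      rw [hg''snd, hg]
      exact IsPullback.of_hasPullback gX₁ a
    have hQg'' : Q g'' :=
      (hQ g gY₁ g'' (pullback.snd gY₁ a) (pullback.fst gX₁ a) (pullback.fst gY₁ a) a
        (IsPullback.of_hasPullback gY₁ a) sqtop).mp hQg
    -- the squares over `T'`
    have outerX : IsPullback (pullback.fst gX₁ a ≫ eX₁) (pullback.snd gX₁ a) gX (b ≫ h) := by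
      rw [← hab]
      exact (IsPullback.of_hasPullback gX₁ a).paste_horiz sqX₁
    have outerY : IsPullback (pullback.fst gY₁ a ≫ eY₁) (pullback.snd gY₁ a) gY (b ≫ h) := by
      rw [← hab]
      exact (IsPullback.of_hasPullback gY₁ a).paste_horiz sqY₁
    let eX'' : pullback gX₁ a ⟶ X' := sqX.lift (pullback.fst gX₁ a ≫ eX₁) (pullback.snd gX₁ a ≫ b)
      (outerX.w.trans (Category.assoc _ _ _).symm)
    let eY'' : pullback gY₁ a ⟶ Y' := sqY.lift (pullback.fst gY₁ a ≫ eY₁) (pullback.snd gY₁ a ≫ b)
      (outerY.w.trans (Category.assoc _ _ _).symm)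
    have sqX'' : IsPullback eX'' (pullback.snd gX₁ a) gX' b :=
      IsPullback.of_right (by rw [sqX.lift_fst]; exact outerX) (sqX.lift_snd _ _ _) sqX
    have sqY'' : IsPullback eY'' (pullback.snd gY₁ a) gY' b :=
      IsPullback.of_right (by rw [sqY.lift_fst]; exact outerY) (sqY.lift_snd _ _ _) sqY
    exact ⟨Spec ((pullback h₁ h).residueField w), pullback gX₁ a, pullback gY₁ a, b,
      pullback.snd gX₁ a, pullback.snd gY₁ a, eX'', eY'', inferInstance, inferInstance,
      sqX'', sqY'', g'', hg''snd, hQg''⟩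
  · rintro ⟨T₁, X₁, Y₁, h₁, gX₁, gY₁, eX₁, eY₁, hT₁i, hT₁s, sqX₁, sqY₁, g, hg, hQg⟩
    exact ⟨T₁, X₁, Y₁, h₁ ≫ h, gX₁, gY₁, eX₁ ≫ eX, eY₁ ≫ eY, hT₁i, hT₁s,
      sqX₁.paste_horiz sqX, sqY₁.paste_horiz sqY, g, hg, hQg⟩

/-- EGA IV 9.3.x: if `Q` is an ind-constructible property of morphisms of algebraic schemes, then
"geometrically there is a morphism with `Q`" is an ind-constructible property of pairs. -/
theorem isIndConsPair_pairRel
    (hQ : ConsProp.IsIndConsMor (fun X Y T f g => Q f)) :
    ConsPropPair.IsIndConsPair (PairRel Q) := by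
  refine ⟨isFieldStablePair_pairRel hQ.1, ?_⟩
  intro X Y S u v _ _ _ _ _ _ hη
  obtain ⟨T', X', Y', h, gX', gY', eX, eY, hT'i, hT's, sqX, sqY, g, hg, hQg⟩ := hη
  haveI := hT'i
  haveI := hT's
  haveI : IsNoetherian X := isNoetherian_of_lft u
  haveI : IsNoetherian Y := isNoetherian_of_lft v
  haveI : LocallyOfFinitePresentation v :=
    (LocallyOfFinitePresentation.iff_locallyOfFiniteType).mpr inferInstance
  let t : T' ⟶ S := h ≫ S.fromSpecResidueField (genericPoint ↥S)
  have sqX' : IsPullback (eX ≫ u.fiberι (genericPoint ↥S)) gX' u t :=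
    sqX.paste_horiz (IsPullback.of_hasPullback u (S.fromSpecResidueField (genericPoint ↥S)))
  have sqY' : IsPullback (eY ≫ v.fiberι (genericPoint ↥S)) gY' v t :=
    sqY.paste_horiz (IsPullback.of_hasPullback v (S.fromSpecResidueField (genericPoint ↥S)))
  obtain ⟨S₁, p, j, g₁, eX₁, eY₁, hS₁i, hS₁a, hp, hjp, hgen, hg₁, sqX₁, sqY₁, hcomm⟩ :=
    Groth.Agent.Lib.helper5.FGLimit.exists_descent_geom u v t sqX' sqY' g hg
  haveI := hS₁i
  haveI := hS₁a
  haveI := hp
  haveI : QuasiCompact p := inferInstance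
  haveI : IsNoetherian S₁ := isNoetherian_of_lft p
  haveI : LocallyOfFiniteType (pullback.snd v p) :=
    MorphismProperty.pullback_snd (P := @LocallyOfFiniteType) v p inferInstance
  haveI : QuasiCompact (pullback.snd v p) :=
    MorphismProperty.pullback_snd (P := @QuasiCompact) v p inferInstance
  haveI : LocallyOfFiniteType (g₁ ≫ pullback.snd v p) := by
    rw [hg₁]
    exact MorphismProperty.pullback_snd (P := @LocallyOfFiniteType) u p inferInstance
  haveI : QuasiCompact (g₁ ≫ pullback.snd v p) := by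
    rw [hg₁]
    exact MorphismProperty.pullback_snd (P := @QuasiCompact) u p inferInstance
  haveI : LocallyOfFiniteType gY' :=
    MorphismProperty.of_isPullback (P := @LocallyOfFiniteType) sqY' inferInstance
  haveI : QuasiCompact gY' :=
    MorphismProperty.of_isPullback (P := @QuasiCompact) sqY' inferInstance
  haveI : LocallyOfFiniteType (g ≫ gY') := by
    rw [hg]
    exact MorphismProperty.of_isPullback (P := @LocallyOfFiniteType) sqX' inferInstance
  haveI : QuasiCompact (g ≫ gY') := by
    rw [hg]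
    exact MorphismProperty.of_isPullback (P := @QuasiCompact) sqX' inferInstance
  obtain ⟨pt⟩ : Nonempty ↥T' := inferInstance
  have hjpt : j pt = genericPoint ↥S₁ := (hgen pt).eq (genericPoint_spec ↥S₁)
  -- the generic point of `S₁` lies in the locus
  have sqtop : IsPullback eX₁ g g₁ eY₁ := by
    refine IsPullback.of_bot ?_ hcomm.symm sqY₁
    rw [hg, hg₁]
    exact sqX₁
  have hloc := locusMor_eq_preimage hQ.1 sqY₁ sqtop
  have hpt : pt ∈ ConsProp.locusMor (fun X Y T f g => Q f) g gY' :=
    (mem_locusMor_iff_of_subsingleton hQ.1 g gY' pt).mpr hQg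
  rw [hloc, Set.mem_preimage, hjpt] at hpt
  obtain ⟨s₀, hs₀⟩ := hQ.2 g₁ (pullback.snd v p) hpt
  -- the image of the interior contains a neighbourhood of `η`
  have hη₁int : genericPoint ↥S₁ ∈
      interior (ConsProp.locusMor (fun X Y T f g => Q f) g₁ (pullback.snd v p)) :=
    ((genericPoint_spec ↥S₁).mem_open_set_iff isOpen_interior).mpr ⟨s₀, trivial, hs₀⟩
  haveI : LocallyOfFinitePresentation p :=
    (LocallyOfFinitePresentation.iff_locallyOfFiniteType).mpr inferInstance
  have hcons : IsConstructible (p ''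
      interior (ConsProp.locusMor (fun X Y T f g => Q f) g₁ (pullback.snd v p))) :=
    p.isConstructible_image (Groth.Agent.Lib.helper9.isConstructible_of_isLocallyClosed
      isOpen_interior.isLocallyClosed)
  have hpη : p (genericPoint ↥S₁) = genericPoint ↥S := by
    rw [← hjpt, ← Scheme.Hom.comp_apply, hjp]
    change S.fromSpecResidueField (genericPoint ↥S) (h pt) = genericPoint ↥S
    exact Scheme.fromSpecResidueField_apply (genericPoint ↥S) _
  obtain ⟨W, hW, hηW, hsub⟩ :=
    (Groth.Agent.Lib.helper3.ChainDim.exists_open_of_isConstructible (genericPoint ↥S) hcons).1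
      ⟨genericPoint ↥S₁, hη₁int, hpη⟩
  have hcl : closure {genericPoint ↥S} = Set.univ := (genericPoint_spec ↥S).def
  refine ⟨genericPoint ↥S, ?_⟩
  rw [mem_interior]
  refine ⟨W, ?_, hW, hηW⟩
  intro s hsW
  obtain ⟨s₁, hs₁, rfl⟩ := hsub ⟨hsW, by rw [hcl]; trivial⟩
  have hQs₁' : s₁ ∈ ConsProp.locusMor (fun X Y T f g => Q f) g₁ (pullback.snd v p) :=
    interior_subset hs₁
  have hQs₁ : Q (MoreMor.fiberMap g₁ (pullback.snd v p) s₁) := hQs₁'
  have sqXs : IsPullback (pullback.fst u p) (g₁ ≫ pullback.snd v p) u p := by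
    rw [hg₁]; exact IsPullback.of_hasPullback u p
  exact ⟨Spec (S₁.residueField s₁), (g₁ ≫ pullback.snd v p).fiber s₁, (pullback.snd v p).fiber s₁,
    Spec.map (p.residueFieldMap s₁), (g₁ ≫ pullback.snd v p).fiberToSpecResidueField s₁,
    (pullback.snd v p).fiberToSpecResidueField s₁, _, _, inferInstance, inferInstance,
    isPullback_fiberToSpecResidueField_of_isPullback sqXs s₁,
    isPullback_fiberToSpecResidueField_of_isPullback (IsPullback.of_hasPullback v p) s₁,
    MoreMor.fiberMap g₁ (pullback.snd v p) s₁, fiberMap_comp g₁ (pullback.snd v p) s₁, hQs₁⟩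

end Groth.Agent.Lib.helper5.ConsFibre
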