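import Groth.Agent.Lib.Helper5.ConsApprox1
import Groth.Agent.Lib.Helper5.ConsPair

/-!
# Loci of constructible relations over a Noetherian base (helper5)

* `locusPair_eq_preimage` : base change of the locus of a field-stable relation on pairs.
* `isConstructible_locusPair`, `isIndConstructible_locusPair`,
  `isConstructible_locusMor`, `isIndConstructible_locusMor` : over a Noetherian base the locus
  of a constructible (resp. ind-constructible) relation is constructible (resp. ind-constructible)
  (EGA IV 9.2.3, Noetherian step).
-/

set_option autoImplicit false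
set_option backward.isDefEq.respectTransparency false
universe u
open CategoryTheory CategoryTheory.Limits AlgebraicGeometry Topology TopologicalSpace

namespace Groth.Agent.Lib.helper5.ConsApprox

open Groth.Agent.Lib.helper5.ConsFibre

section Pair

variable {P : ∀ ⦃X Y T : Scheme.{u}⦄, (X ⟶ T) → (Y ⟶ T) → Prop}

/-- the locus of a field-stable relation on pairs is compatible with base change. -/
theorem locusPair_eq_preimage (hP : ConsPropPair.IsFieldStablePair P)
    {X' Y' T' X Y T : Scheme.{u}}
    {u' : X' ⟶ T'} {v' : Y' ⟶ T'} {u : X ⟶ T} {v : Y ⟶ T} {eX : X' ⟶ X} {eY : Y' ⟶ Y}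
    {h : T' ⟶ T} (sqX : IsPullback eX u' u h) (sqY : IsPullback eY v' v h)
    [LocallyOfFiniteType u] [QuasiCompact u] [LocallyOfFiniteType v] [QuasiCompact v] :
    ConsPropPair.locusPair P u' v' = h ⁻¹' ConsPropPair.locusPair P u v := by
  ext t'
  have bigX := isPullback_fiberToSpecResidueField_of_isPullback sqX t'
  have bigY := isPullback_fiberToSpecResidueField_of_isPullback sqY t'
  haveI : LocallyOfFiniteType (u.fiberToSpecResidueField (h t')) :=
    MorphismProperty.pullback_snd (P := @LocallyOfFiniteType) u _ inferInstance
  haveI : QuasiCompact (u.fiberToSpecResidueField (h t')) :=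
    MorphismProperty.pullback_snd (P := @QuasiCompact) u _ inferInstance
  haveI : LocallyOfFiniteType (v.fiberToSpecResidueField (h t')) :=
    MorphismProperty.pullback_snd (P := @LocallyOfFiniteType) v _ inferInstance
  haveI : QuasiCompact (v.fiberToSpecResidueField (h t')) :=
    MorphismProperty.pullback_snd (P := @QuasiCompact) v _ inferInstance
  exact (hP (u.fiberToSpecResidueField (h t')) (v.fiberToSpecResidueField (h t'))
    (u'.fiberToSpecResidueField t') (v'.fiberToSpecResidueField t') _ _
    (Spec.map (h.residueFieldMap t')) bigX bigY).symm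

/-- restriction of a finite type family to a closed subscheme of a Noetherian scheme. -/
theorem isConstructible_locusPair (hP : ConsPropPair.IsConsPair P) {X Y S : Scheme.{u}}
    [IsNoetherian S] (u : X ⟶ S) (v : Y ⟶ S)
    [LocallyOfFiniteType u] [QuasiCompact u] [LocallyOfFiniteType v] [QuasiCompact v] :
    IsConstructible (ConsPropPair.locusPair P u v) := by
  refine isConstructible_of_forall_integral _ fun Z ι hι hZ => ?_
  haveI := hι
  haveI := hZ
  haveI : IsNoetherian Z := isNoetherian_of_lft ι
  have sqX := IsPullback.of_hasPullback u ι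
  have sqY := IsPullback.of_hasPullback v ι
  haveI : LocallyOfFiniteType (pullback.snd u ι) :=
    MorphismProperty.pullback_snd (P := @LocallyOfFiniteType) u _ inferInstance
  haveI : QuasiCompact (pullback.snd u ι) :=
    MorphismProperty.pullback_snd (P := @QuasiCompact) u _ inferInstance
  haveI : LocallyOfFiniteType (pullback.snd v ι) :=
    MorphismProperty.pullback_snd (P := @LocallyOfFiniteType) v _ inferInstance
  haveI : QuasiCompact (pullback.snd v ι) :=
    MorphismProperty.pullback_snd (P := @QuasiCompact) v _ inferInstance
  have := hP.2 (pullback.snd u ι) (pullback.snd v ι)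
  rwa [locusPair_eq_preimage hP.1 sqX sqY] at this

theorem isIndConstructible_locusPair (hP : ConsPropPair.IsIndConsPair P) {X Y S : Scheme.{u}}
    [IsNoetherian S] (u : X ⟶ S) (v : Y ⟶ S)
    [LocallyOfFiniteType u] [QuasiCompact u] [LocallyOfFiniteType v] [QuasiCompact v] :
    ProCons.IsIndConstructible (ConsPropPair.locusPair P u v) := by
  refine isIndConstructible_of_forall_integral _ fun Z ι _ _ hgen => ?_
  haveI : IsNoetherian Z := isNoetherian_of_lft ι
  have sqX := IsPullback.of_hasPullback u ι
  have sqY := IsPullback.of_hasPullback v ι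
  haveI : LocallyOfFiniteType (pullback.snd u ι) :=
    MorphismProperty.pullback_snd (P := @LocallyOfFiniteType) u _ inferInstance
  haveI : QuasiCompact (pullback.snd u ι) :=
    MorphismProperty.pullback_snd (P := @QuasiCompact) u _ inferInstance
  haveI : LocallyOfFiniteType (pullback.snd v ι) :=
    MorphismProperty.pullback_snd (P := @LocallyOfFiniteType) v _ inferInstance
  haveI : QuasiCompact (pullback.snd v ι) :=
    MorphismProperty.pullback_snd (P := @QuasiCompact) v _ inferInstance
  have := hP.2 (pullback.snd u ι) (pullback.snd v ι)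
  rw [locusPair_eq_preimage hP.1 sqX sqY] at this
  exact this hgen

end Pair

section Mor

variable {P : ∀ ⦃X Y T : Scheme.{u}⦄, (X ⟶ Y) → (Y ⟶ T) → Prop}

theorem isConstructible_locusMor (hP : ConsProp.IsConsMor P) {X Y S : Scheme.{u}}
    [IsNoetherian S] (f : X ⟶ Y) (g : Y ⟶ S)
    [LocallyOfFiniteType g] [QuasiCompact g] [LocallyOfFiniteType (f ≫ g)]
    [QuasiCompact (f ≫ g)] :
    IsConstructible (ConsProp.locusMor P f g) := by
  refine isConstructible_of_forall_integral _ fun Z ι hι hZ => ?_
  haveI := hι
  haveI := hZ
  haveI : IsNoetherian Z := isNoetherian_of_lft ι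
  have sqY := IsPullback.of_hasPullback g ι
  have sqX := IsPullback.of_hasPullback f (pullback.fst g ι)
  haveI : LocallyOfFiniteType (pullback.snd g ι) :=
    MorphismProperty.pullback_snd (P := @LocallyOfFiniteType) g _ inferInstance
  haveI : QuasiCompact (pullback.snd g ι) :=
    MorphismProperty.pullback_snd (P := @QuasiCompact) g _ inferInstance
  have sqXY : IsPullback (pullback.fst f (pullback.fst g ι))
      (pullback.snd f (pullback.fst g ι) ≫ pullback.snd g ι) (f ≫ g) ι := sqX.paste_vert sqY
  haveI : LocallyOfFiniteType (pullback.snd f (pullback.fst g ι) ≫ pullback.snd g ι) :=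
    MorphismProperty.of_isPullback (P := @LocallyOfFiniteType) sqXY inferInstance
  haveI : QuasiCompact (pullback.snd f (pullback.fst g ι) ≫ pullback.snd g ι) :=
    MorphismProperty.of_isPullback (P := @QuasiCompact) sqXY inferInstance
  have := hP.2 (pullback.snd f (pullback.fst g ι)) (pullback.snd g ι)
  rwa [locusMor_eq_preimage hP.1 sqY sqX] at this

theorem isIndConstructible_locusMor (hP : ConsProp.IsIndConsMor P) {X Y S : Scheme.{u}}
    [IsNoetherian S] (f : X ⟶ Y) (g : Y ⟶ S)
    [LocallyOfFiniteType g] [QuasiCompact g] [LocallyOfFiniteType (f ≫ g)]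
    [QuasiCompact (f ≫ g)] :
    ProCons.IsIndConstructible (ConsProp.locusMor P f g) := by
  refine isIndConstructible_of_forall_integral _ fun Z ι _ _ hgen => ?_
  haveI : IsNoetherian Z := isNoetherian_of_lft ι
  have sqY := IsPullback.of_hasPullback g ι
  have sqX := IsPullback.of_hasPullback f (pullback.fst g ι)
  haveI : LocallyOfFiniteType (pullback.snd g ι) :=
    MorphismProperty.pullback_snd (P := @LocallyOfFiniteType) g _ inferInstance
  haveI : QuasiCompact (pullback.snd g ι) :=
    MorphismProperty.pullback_snd (P := @QuasiCompact) g _ inferInstance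
  have sqXY : IsPullback (pullback.fst f (pullback.fst g ι))
      (pullback.snd f (pullback.fst g ι) ≫ pullback.snd g ι) (f ≫ g) ι := sqX.paste_vert sqY
  haveI : LocallyOfFiniteType (pullback.snd f (pullback.fst g ι) ≫ pullback.snd g ι) :=
    MorphismProperty.of_isPullback (P := @LocallyOfFiniteType) sqXY inferInstance
  haveI : QuasiCompact (pullback.snd f (pullback.fst g ι) ≫ pullback.snd g ι) :=
    MorphismProperty.of_isPullback (P := @QuasiCompact) sqXY inferInstance
  have := hP.2 (pullback.snd f (pullback.fst g ι)) (pullback.snd g ι)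
  rw [locusMor_eq_preimage hP.1 sqY sqX] at this
  exact this hgen

end Mor

end Groth.Agent.Lib.helper5.ConsApprox
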