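import Groth.Agent.Lib.Helper5.ConsFibre

/-!
# Constructible properties: congruence, finiteness, quasi-finiteness (helper5)
-/

set_option autoImplicit false
universe u
open CategoryTheory CategoryTheory.Limits AlgebraicGeometry Topology TopologicalSpace

namespace Groth.Agent.Lib.helper5.ConsFibre

/-- `IsCons` only depends on the values of the relation on algebraic schemes over fields. -/
theorem isCons_congr {P Q : ∀ ⦃Y T : Scheme.{u}⦄, (Y ⟶ T) → Prop}
    (hPQ : ∀ ⦃Y T : Scheme.{u}⦄ (g : Y ⟶ T) [IsIntegral T] [Subsingleton ↥T]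
      [LocallyOfFiniteType g] [QuasiCompact g], P g ↔ Q g)
    (hP : ConsProp.IsCons P) : ConsProp.IsCons Q := by
  have hloc : ∀ ⦃X S : Scheme.{u}⦄ (u : X ⟶ S) [LocallyOfFiniteType u] [QuasiCompact u],
      ConsProp.locus Q u = ConsProp.locus P u := by
    intro X S u _ _
    ext s
    haveI : LocallyOfFiniteType (u.fiberToSpecResidueField s) :=
      MorphismProperty.pullback_snd (P := @LocallyOfFiniteType) u _ inferInstance
    haveI : QuasiCompact (u.fiberToSpecResidueField s) :=
      MorphismProperty.pullback_snd (P := @QuasiCompact) u _ inferInstance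
    exact (hPQ (u.fiberToSpecResidueField s)).symm
  refine ⟨?_, ?_⟩
  · intro Y Y' T T' g g' e h _ _ _ _ _ _ sq
    haveI : LocallyOfFiniteType g' :=
      MorphismProperty.of_isPullback (P := @LocallyOfFiniteType) sq inferInstance
    haveI : QuasiCompact g' :=
      MorphismProperty.of_isPullback (P := @QuasiCompact) sq inferInstance
    rw [← hPQ g, ← hPQ g']
    exact hP.1 g g' e h sq
  · intro X S u _ _ _ _
    rw [hloc u]
    exact hP.2 u

/-- `IsConsMor` only depends on the values of the relation on morphisms of algebraic schemes over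
fields. -/
theorem isConsMor_congr {P Q : ∀ ⦃X Y T : Scheme.{u}⦄, (X ⟶ Y) → (Y ⟶ T) → Prop}
    (hPQ : ∀ ⦃X Y T : Scheme.{u}⦄ (f : X ⟶ Y) (g : Y ⟶ T) [IsIntegral T] [Subsingleton ↥T]
      [LocallyOfFiniteType g] [QuasiCompact g] [LocallyOfFiniteType (f ≫ g)]
      [QuasiCompact (f ≫ g)], P f g ↔ Q f g)
    (hP : ConsProp.IsConsMor P) : ConsProp.IsConsMor Q := by
  have hloc : ∀ ⦃X Y S : Scheme.{u}⦄ (f : X ⟶ Y) (g : Y ⟶ S) [LocallyOfFiniteType g]
      [QuasiCompact g] [LocallyOfFiniteType (f ≫ g)] [QuasiCompact (f ≫ g)],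
      ConsProp.locusMor Q f g = ConsProp.locusMor P f g := by
    intro X Y S f g _ _ _ _
    ext s
    haveI : LocallyOfFiniteType (g.fiberToSpecResidueField s) :=
      MorphismProperty.pullback_snd (P := @LocallyOfFiniteType) g _ inferInstance
    haveI : QuasiCompact (g.fiberToSpecResidueField s) :=
      MorphismProperty.pullback_snd (P := @QuasiCompact) g _ inferInstance
    haveI : LocallyOfFiniteType (MoreMor.fiberMap f g s ≫ g.fiberToSpecResidueField s) := by
      rw [fiberMap_comp]
      exact MorphismProperty.pullback_snd (P := @LocallyOfFiniteType) (f ≫ g) _ inferInstance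
    haveI : QuasiCompact (MoreMor.fiberMap f g s ≫ g.fiberToSpecResidueField s) := by
      rw [fiberMap_comp]
      exact MorphismProperty.pullback_snd (P := @QuasiCompact) (f ≫ g) _ inferInstance
    exact (hPQ (MoreMor.fiberMap f g s) (g.fiberToSpecResidueField s)).symm
  refine ⟨?_, ?_⟩
  · intro X X' Y Y' T T' f g f' g' eX eY h _ _ _ _ _ _ _ _ sqY sqX
    haveI : LocallyOfFiniteType g' :=
      MorphismProperty.of_isPullback (P := @LocallyOfFiniteType) sqY inferInstance
    haveI : QuasiCompact g' :=
      MorphismProperty.of_isPullback (P := @QuasiCompact) sqY inferInstance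
    have sqXY : IsPullback eX (f' ≫ g') (f ≫ g) h := sqX.paste_vert sqY
    haveI : LocallyOfFiniteType (f' ≫ g') :=
      MorphismProperty.of_isPullback (P := @LocallyOfFiniteType) sqXY inferInstance
    haveI : QuasiCompact (f' ≫ g') :=
      MorphismProperty.of_isPullback (P := @QuasiCompact) sqXY inferInstance
    rw [← hPQ f g, ← hPQ f' g']
    exact hP.1 f g f' g' eX eY h sqY sqX
  · intro X Y S f g _ _ _ _ _ _
    rw [hloc f g]
    exact hP.2 f g

/-- a scheme of finite type over a field is finite over it iff it has dimension `≤ 0`. -/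
theorem isFinite_iff_dim_le_zero {Y T : Scheme.{u}} (g : Y ⟶ T) [IsIntegral T] [Subsingleton ↥T]
    [LocallyOfFiniteType g] [QuasiCompact g] :
    IsFinite g ↔ topologicalKrullDim ↥Y ∈ Set.Iic (0 : WithBot ℕ∞) := by
  haveI : IsArtinianScheme T := inferInstance
  rw [Set.mem_Iic]
  constructor
  · intro hg
    haveI : LocallyQuasiFinite g := inferInstance
    haveI : IsLocallyArtinian Y := IsLocallyArtinian.of_locallyQuasiFinite g
    exact topologicalKrullDim_zero_of_discreteTopology ↥Y
  · intro hd
    haveI : IsLocallyNoetherian Y := LocallyOfFiniteType.isLocallyNoetherian g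
    haveI : IsLocallyArtinian Y := IsLocallyArtinian.of_topologicalKrullDim_le_zero hd
    haveI : CompactSpace ↥Y := QuasiCompact.compactSpace_of_compactSpace g
    haveI : Finite ↥Y := finite_of_compact_of_discrete
    haveI : LocallyQuasiFinite g :=
      LocallyQuasiFinite.of_finite_preimage_singleton g fun _ => Set.toFinite _
    exact IsFinite.of_locallyQuasiFinite g

end Groth.Agent.Lib.helper5.ConsFibre
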