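import Groth.Agent.Lib.Helper5.ConsSep4
import Groth.Agent.Lib.Helper5.ConsMor1
import Groth.Agent.S9190
import Groth.Agent.S0081

/-!
# "Separated" and "dominant" are constructible properties of morphisms of algebraic schemes
(EGA IV 9.6.1 (xi), (i bis)) (helper5)
-/

set_option autoImplicit false
set_option backward.isDefEq.respectTransparency false
universe u
open CategoryTheory CategoryTheory.Limits AlgebraicGeometry Topology TopologicalSpace

namespace Groth.Agent.Lib.helper5.ConsSep

open Groth.Agent.Lib.helper5.ConsFibre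

theorem isIndConsMor_isSeparated :
    ConsProp.IsIndConsMor.{u} (fun X Y T (f : X ⟶ Y) (_ : Y ⟶ T) => IsSeparated f) := by
  haveI := Groth.Agent.S0081.result.{u}
  refine isIndConsMor_of_limDescends (Q := @AlgebraicGeometry.IsSeparated)
    (isFieldStableMor_of_descendsAlong @AlgebraicGeometry.IsSeparated) ?_
  intro I _ _ D c hc _ i₀ _ _ X₀ Y₀ f₀ g₀ _ _ _ _ _ X Y f g qY qX hY hX hQ
  haveI : AlgebraicGeometry.IsSeparated f := hQ
  exact Groth.Agent.S9190.result D c hc i₀ f₀ g₀ f g qY qX hY hX

theorem isConsMor_isSeparated :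
    ConsProp.IsConsMor.{u} (fun X Y T (f : X ⟶ Y) (_ : Y ⟶ T) => IsSeparated f) := by
  have hind := isIndConsMor_isSeparated.{u}
  refine ⟨hind.1, ?_⟩
  intro X Y S f g _ _ _ _ _ _
  by_cases hη : genericPoint S ∈
      ConsProp.locusMor (fun X Y T (f : X ⟶ Y) (_ : Y ⟶ T) => IsSeparated f) f g
  · exact Or.inl (hind.2 f g hη)
  · right
    have hns : ¬ IsSeparated (MoreMor.fiberMap f g (genericPoint S)) := hη
    rw [isSeparated_fiberMap_iff, not_not] at hns
    obtain ⟨w, hw1, hw2, hw3⟩ := hns
    haveI : IsNoetherian Y := isNoetherian_of_lft g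
    haveI : IsNoetherian X := isNoetherian_of_lft (f ≫ g)
    haveI : LocallyOfFiniteType f := locallyOfFiniteType_of_comp f g
    haveI : QuasiCompact f := quasiCompact_of_isNoetherian f
    haveI : LocallyOfFiniteType (pullback.fst f f) :=
      MorphismProperty.pullback_fst (P := @LocallyOfFiniteType) f f inferInstance
    haveI : QuasiCompact (pullback.fst f f) :=
      MorphismProperty.pullback_fst (P := @QuasiCompact) f f inferInstance
    haveI : LocallyOfFiniteType ((pullback.fst f f ≫ f) ≫ g) := by
      rw [Category.assoc]; infer_instance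
    haveI : QuasiCompact ((pullback.fst f f ≫ f) ≫ g) := by
      rw [Category.assoc]; infer_instance
    obtain ⟨V, hV, H⟩ := exists_open_not_closed_fibre ((pullback.fst f f ≫ f) ≫ g)
      (Set.range (pullback.diagonal f)) (pullback.diagonal f).isLocallyClosed_range
      ⟨w, closure_mono Set.inter_subset_left hw1, hw2, hw3⟩
    refine ⟨genericPoint S, mem_interior.mpr ⟨V, ?_, V.2, genericPoint_mem_of_nonempty V hV⟩⟩
    intro s hs hsE
    have hsep : IsSeparated (MoreMor.fiberMap f g s) := hsE
    rw [isSeparated_fiberMap_iff] at hsep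
    exact hsep (H s hs)

theorem isFieldStableMor_isDominant :
    ConsProp.IsFieldStableMor.{u} (fun X Y T (f : X ⟶ Y) (_ : Y ⟶ T) => IsDominant f) := by
  intro X X' Y Y' T T' f g f' g' eX eY h _ _ _ _ _ _ _ _ sqY sqX
  have hh := fpqc_of_subsingleton h
  have heY : (@Surjective ⊓ @Flat ⊓ @QuasiCompact : MorphismProperty Scheme.{u}) eY :=
    MorphismProperty.of_isPullback sqY.flip hh
  haveI : Surjective eY := heY.1.1
  haveI : UniversallyOpen eY :=
    MorphismProperty.of_isPullback (P := @UniversallyOpen) sqY.flip inferInstance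
  have hr : Set.range f' = eY ⁻¹' Set.range f := range_snd_of_isPullback sqX
  change IsDominant f ↔ IsDominant f'
  rw [isDominant_iff, isDominant_iff, DenseRange, DenseRange, hr]
  constructor
  · intro hd
    exact hd.preimage eY.isOpenMap
  · intro hd
    have := eY.surjective.denseRange.dense_image eY.continuous hd
    rwa [Set.image_preimage_eq _ eY.surjective] at this

theorem isConsMor_isDominant :
    ConsProp.IsConsMor.{u} (fun X Y T (f : X ⟶ Y) (_ : Y ⟶ T) => IsDominant f) := by
  refine ⟨isFieldStableMor_isDominant, ?_⟩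
  intro X Y S f g _ _ _ _ _ _
  haveI : IsNoetherian Y := isNoetherian_of_lft g
  haveI : IsNoetherian X := isNoetherian_of_lft (f ≫ g)
  haveI : LocallyOfFiniteType f := locallyOfFiniteType_of_comp f g
  haveI : QuasiCompact f := quasiCompact_of_isNoetherian f
  haveI : LocallyOfFinitePresentation f :=
    (LocallyOfFinitePresentation.iff_locallyOfFiniteType).mpr inferInstance
  have hA : IsConstructible (Set.range f) := by
    rw [← Set.image_univ]
    exact f.isConstructible_image (Groth.Agent.Lib.helper9.isConstructible_of_isLocallyClosed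
      isOpen_univ.isLocallyClosed)
  obtain ⟨V, hV, H⟩ := exists_open_dense_fibre_or g (Set.range f) hA
  have hηV := genericPoint_mem_of_nonempty V hV
  rcases H with H | H
  · left
    refine ⟨genericPoint S, mem_interior.mpr ⟨V, fun s hs => ?_, V.2, hηV⟩⟩
    exact (isDominant_fiberMap_iff f g s).mpr (H s hs)
  · right
    refine ⟨genericPoint S, mem_interior.mpr ⟨V, fun s hs hsE => ?_, V.2, hηV⟩⟩
    exact H s hs ((isDominant_fiberMap_iff f g s).mp hsE)

end Groth.Agent.Lib.helper5.ConsSep
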