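import Groth.Agent.Lib.Helper5.FibFlatPt
import Groth.Agent.Lib.Helper5.GenFlatMor
import Groth.Agent.Lib.Helper17.FlatStalkBC
import Groth.Agent.Lib.Helper4.FppfFamDescent
import Groth.Agent.Lib.Helper5.ConsSep5

/-!
# Flatness of the morphisms induced on the fibres is a constructible property (EGA IV 11.2.8),
given the openness of the flat locus in the Noetherian case (helper5)

* `FlatLocusOpen` : the hypothesis (EGA IV 11.1.1 for the structure sheaf): for `Y` Noetherian and
  `f : X ⟶ Y` quasi-compact locally of finite type the flat locus of `f` is open.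
* `isFieldStableMor_flat`
* `flat_fiberMap_iff` : over the open of generic flatness, `f_s` is flat iff `f` is flat at all
  points above `s`.
* `isConsMor_flat`
-/

set_option autoImplicit false
set_option backward.isDefEq.respectTransparency false
universe u
open CategoryTheory CategoryTheory.Limits AlgebraicGeometry Topology TopologicalSpace

namespace Groth.Agent.Lib.helper5.ConsFlat

open Groth.Agent.Lib.helper5.ConsSep Groth.Agent.Lib.helper5.ConsFibre

/-- openness of the flat locus over Noetherian schemes. -/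
def FlatLocusOpen : Prop :=
  ∀ ⦃X Y : Scheme.{u}⦄ (f : X ⟶ Y) [IsNoetherian Y] [LocallyOfFiniteType f] [QuasiCompact f],
    IsOpen {x : X | (f.stalkMap x).hom.Flat}

theorem isFieldStableMor_flat :
    ConsProp.IsFieldStableMor.{u} (fun X Y T (f : X ⟶ Y) (_ : Y ⟶ T) => Flat f) := by
  haveI := Groth.Agent.Lib.helper4.FppfFamDescent.flat_descendsAlong_fpqc.{u}
  exact isFieldStableMor_of_descendsAlong @Flat

/-- if `f` is flat at all points above `s` then `f_s` is flat. -/
theorem flat_fiberMap_of_forall {X Y S : Scheme.{u}} (f : X ⟶ Y) (g : Y ⟶ S) (s : S)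
    (h : ∀ x : X, (f ≫ g) x = s → (f.stalkMap x).hom.Flat) :
    Flat (MoreMor.fiberMap f g s) := by
  refine Flat.of_stalkMap _ fun z => ?_
  have sq := isPullback_fiberMap f g s
  refine Groth.Agent.Lib.helper17.FlatStalkBC.flat_stalkMap_of_isPullback sq.flip z ?_
  apply h
  have : ((f ≫ g).fiberι s) z ∈ (f ≫ g) ⁻¹' {s} := by
    rw [← (f ≫ g).range_fiberι s]; exact ⟨z, rfl⟩
  exact this

/-- fibre criterion: if `X` is flat over `S` at the points above `s` and `f_s` is flat then `f` is
flat at all points above `s`. -/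
theorem flat_stalkMap_of_flat_fiberMap {X Y S : Scheme.{u}} [IsLocallyNoetherian X]
    [IsLocallyNoetherian Y] [IsLocallyNoetherian S] (f : X ⟶ Y) (g : Y ⟶ S) (s : S)
    (hX : ∀ x : X, (f ≫ g) x = s → ((f ≫ g).stalkMap x).hom.Flat)
    (hs : Flat (MoreMor.fiberMap f g s)) (x : X) (hx : (f ≫ g) x = s) :
    (f.stalkMap x).hom.Flat := by
  have hxr : x ∈ Set.range ((f ≫ g).fiberι s) := by
    rw [(f ≫ g).range_fiberι s]; exact hx
  obtain ⟨z, rfl⟩ := hxr
  have sqV : IsPullback (g.fiberι s) (g.fiberToSpecResidueField s) g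
      (S.fromSpecResidueField s) := IsPullback.of_hasPullback _ _
  exact (Groth.Agent.Lib.helper5.FibFlatPt.flat_stalkMap_of_flat_fibre_at f g s (g.fiberι s)
    (g.fiberToSpecResidueField s) sqV ((f ≫ g).fiberι s) (MoreMor.fiberMap f g s)
    (isPullback_fiberMap f g s) z (hX _ hx) (Flat.stalkMap _ z)).1

theorem isConsMor_flat (H : FlatLocusOpen.{u}) :
    ConsProp.IsConsMor.{u} (fun X Y T (f : X ⟶ Y) (_ : Y ⟶ T) => Flat f) := by
  refine ⟨isFieldStableMor_flat, ?_⟩
  intro X Y S f g _ _ _ _ _ _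
  haveI : IsNoetherian Y := isNoetherian_of_lft g
  haveI : IsNoetherian X := isNoetherian_of_lft (f ≫ g)
  haveI : QuasiCompact f := quasiCompact_of_isNoetherian f
  haveI : LocallyOfFiniteType f := locallyOfFiniteType_of_comp f g
  -- the non-flat locus
  set E : Set X := {x : X | (f.stalkMap x).hom.Flat}ᶜ with hE
  have hEc : IsClosed E := (H f).isClosed_compl
  have hEcons : IsConstructible E :=
    Groth.Agent.Lib.helper9.isConstructible_of_isLocallyClosed hEc.isLocallyClosed
  -- generic flatness of `X` over `S`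
  obtain ⟨V, hVne, hV⟩ := Groth.Agent.Lib.helper5.GenFlatMor.exists_open_flat_stalkMap (f ≫ g)
  have hηV := genericPoint_mem_of_nonempty V hVne
  have key : ∀ s ∈ V, (s ∈ ConsProp.locusMor.{u}
      (fun X Y T (f : X ⟶ Y) (_ : Y ⟶ T) => Flat f) f g ↔ s ∉ (f ≫ g) '' E) := by
    intro s hs
    constructor
    · rintro hfl ⟨x, hxE, hxs⟩
      exact hxE (flat_stalkMap_of_flat_fiberMap f g s
        (fun x' hx' => hV x' (by rw [hx']; exact hs)) hfl x hxs)
    · intro hn
      refine flat_fiberMap_of_forall f g s fun x hx => ?_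
      by_contra hxn
      exact hn ⟨x, hxn, hx⟩
  by_cases hη : genericPoint S ∈ (f ≫ g) '' E
  · right
    obtain ⟨V₁, hηV₁, hV₁⟩ := exists_open_subset_image (f ≫ g) E hEcons hη
    refine ⟨genericPoint S, interior_maximal (fun s hs => ?_) (V ⊓ V₁).2 ⟨hηV, hηV₁⟩⟩
    intro hsl
    exact ((key s hs.1).mp hsl) (hV₁ hs.2)
  · left
    obtain ⟨V₁, hηV₁, hV₁⟩ := exists_open_disjoint_image (f ≫ g) E hEcons hη
    refine ⟨genericPoint S, interior_maximal (fun s hs => ?_) (V ⊓ V₁).2 ⟨hηV, hηV₁⟩⟩
    exact (key s hs.1).mpr (fun hsE => Set.disjoint_left.mp hV₁ hs.2 hsE)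

end Groth.Agent.Lib.helper5.ConsFlat
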