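import Groth.Agent.Lib.Helper5.ConsSep5
import Groth.Agent.Lib.Helper19.ProjSpaceProper
import Groth.Agent.S7409
import Groth.Agent.S2074
import Groth.Agent.S0086

/-!
# "Proper" is a constructible property of morphisms of algebraic schemes
(EGA IV 9.6.1 (vi)) (helper5)

* `iff_of_isPullback_of_isPullback`: two base changes of a morphism along the same morphism share
  every iso-invariant property.
* `isProper_snd_iff_isClosed`: in the situation of Chow's lemma (`π : X' ⟶ X` proper surjective,
  `j : X' ⟶ P` an immersion into a proper `Y`-scheme `P`), a base change of `f : X ⟶ Y` is proper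
  iff the preimage of `range j` in the base change of `P` is closed.
* `isProper_fiberMap_iff`: the same for the fibre maps `f_s`, read off on the topology of `P`.
-/

set_option autoImplicit false
set_option backward.isDefEq.respectTransparency false
universe u
open CategoryTheory CategoryTheory.Limits AlgebraicGeometry Topology TopologicalSpace

namespace Groth.Agent.Lib.helper5.ConsProper

open Groth.Agent.Lib.helper5.ConsFibre Groth.Agent.Lib.helper5.ConsSep

theorem iff_of_isPullback_of_isPullback (Q : MorphismProperty Scheme.{u}) [Q.RespectsIso]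
    {A A' B X Y : Scheme.{u}} {f : X ⟶ Y} {b : B ⟶ Y} {a : A ⟶ X} {φ : A ⟶ B} {a' : A' ⟶ X}
    {φ' : A' ⟶ B} (sq : IsPullback a φ f b) (sq' : IsPullback a' φ' f b) : Q φ ↔ Q φ' := by
  have e : (sq.isoIsPullback _ _ sq').hom ≫ φ' = φ := IsPullback.isoIsPullback_hom_snd _ _ sq sq'
  rw [← e, Q.cancel_left_of_respectsIso]

section Chow

variable {X X' Y P B : Scheme.{u}} (f : X ⟶ Y) (π : X' ⟶ X) (q : P ⟶ Y) (j : X' ⟶ P)

theorem isProper_snd_iff_isClosed [IsSeparated f] [LocallyOfFiniteType f] [QuasiCompact f]
    [IsProper π] [Surjective π] [IsProper q] [IsImmersion j] (hj : j ≫ q = π ≫ f) (b : B ⟶ Y) :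
    IsProper (pullback.snd f b) ↔ IsClosed ((pullback.fst q b) ⁻¹' Set.range j) := by
  -- notation
  let pX := pullback.fst f b
  let fb := pullback.snd f b
  let e' := pullback.fst π pX
  let πb := pullback.snd π pX
  let pP := pullback.fst q b
  let qb := pullback.snd q b
  have hcomm : (e' ≫ j) ≫ q = (πb ≫ fb) ≫ b := by
    rw [Category.assoc, hj, ← Category.assoc, pullback.condition, Category.assoc,
      pullback.condition, Category.assoc]
  let jb : pullback π pX ⟶ pullback q b := pullback.lift (e' ≫ j) (πb ≫ fb) hcomm
  have hjb1 : jb ≫ pP = e' ≫ j := pullback.lift_fst _ _ _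
  have hjb2 : jb ≫ qb = πb ≫ fb := pullback.lift_snd _ _ _
  have sqouter : IsPullback e' (πb ≫ fb) (π ≫ f) b :=
    (IsPullback.of_hasPullback π pX).paste_vert (IsPullback.of_hasPullback f b)
  have sqleft : IsPullback e' jb j pP := by
    refine IsPullback.of_bot ?_ hjb1.symm (IsPullback.of_hasPullback q b)
    rw [hjb2, hj]
    exact sqouter
  haveI : IsImmersion jb := MorphismProperty.of_isPullback (P := @IsImmersion) sqleft inferInstance
  haveI : IsProper πb := MorphismProperty.pullback_snd (P := @IsProper) _ _ inferInstance
  haveI : Surjective πb := MorphismProperty.pullback_snd (P := @Surjective) _ _ inferInstance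
  haveI : IsProper qb := MorphismProperty.pullback_snd (P := @IsProper) _ _ inferInstance
  haveI : IsSeparated fb := MorphismProperty.pullback_snd (P := @IsSeparated) _ _ inferInstance
  haveI : LocallyOfFiniteType fb :=
    MorphismProperty.pullback_snd (P := @LocallyOfFiniteType) _ _ inferInstance
  haveI : QuasiCompact fb := MorphismProperty.pullback_snd (P := @QuasiCompact) _ _ inferInstance
  have hr : Set.range jb = pP ⁻¹' Set.range j := range_snd_of_isPullback sqleft
  rw [← hr]
  have h1 : IsProper fb ↔ IsProper (πb ≫ fb) := by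
    constructor
    · intro h; infer_instance
    · intro h
      haveI : UniversallyClosed fb := UniversallyClosed.of_comp_surjective πb fb
      exact {}
  have h2 : IsProper (πb ≫ fb) ↔ IsProper jb := by
    rw [← hjb2]
    exact IsProper.comp_iff
  have h3 : IsProper jb ↔ IsClosed (Set.range jb) := by
    constructor
    · intro h
      exact jb.isClosedMap.isClosed_range
    · intro h
      haveI : IsClosedImmersion jb := IsClosedImmersion.of_isPreimmersion jb h
      infer_instance
  exact h1.trans (h2.trans h3)

variable {S : Scheme.{u}} (g : Y ⟶ S)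

theorem isProper_fiberMap_iff [IsSeparated f] [LocallyOfFiniteType f] [QuasiCompact f]
    [IsProper π] [Surjective π] [IsProper q] [IsImmersion j] (hj : j ≫ q = π ≫ f) (s : S) :
    IsProper (MoreMor.fiberMap f g s) ↔
      ¬ ∃ w, w ∈ closure (Set.range j ∩ (q ≫ g) ⁻¹' {s}) ∧ w ∉ Set.range j ∧ (q ≫ g) w = s := by
  rw [iff_of_isPullback_of_isPullback @IsProper (isPullback_fiberMap f g s)
    (IsPullback.of_hasPullback f (g.fiberι s)), isProper_snd_iff_isClosed f π q j hj (g.fiberι s)]
  have sq : IsPullback (pullback.fst q (g.fiberι s))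
      (pullback.snd q (g.fiberι s) ≫ g.fiberToSpecResidueField s) (q ≫ g)
      (S.fromSpecResidueField s) :=
    (IsPullback.of_hasPullback q (g.fiberι s)).paste_vert
      (IsPullback.of_hasPullback g (S.fromSpecResidueField s))
  obtain ⟨hemb, hrange⟩ := isEmbedding_and_range_of_isPullback s sq
  rw [isClosed_preimage_iff hemb, hrange]
  rfl

end Chow

end Groth.Agent.Lib.helper5.ConsProper
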