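import Groth.Agent.Lib.Helper5.ConsFlat1
import Groth.Agent.Lib.Helper5.ConsMono1
import Groth.Agent.Lib.Helper5.ConsProper1
import Groth.Agent.Lib.Helper5.ConsApprox4
import Groth.Agent.S3443
import Groth.Agent.S3426

/-!
# Fibre loci of flat / open immersion / isomorphism / étale, given openness of the flat locus in the
Noetherian case (EGA IV 9.6.1, 11.2.8, 17.7.11) (helper5)
-/

set_option autoImplicit false
set_option backward.isDefEq.respectTransparency false
universe u
open CategoryTheory CategoryTheory.Limits AlgebraicGeometry Topology TopologicalSpace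

namespace Groth.Agent.Lib.helper5.ConsFlat

open Groth.Agent.Lib.helper5.ConsSep Groth.Agent.Lib.helper5.ConsFibre
  Groth.Agent.Lib.helper5.ConsApprox

variable {X Y S : Scheme.{u}} (f : X ⟶ Y) (g : Y ⟶ S)

/-- the morphisms induced on the fibres are locally of finite presentation. -/
theorem locallyOfFinitePresentation_fiberMap [LocallyOfFiniteType g]
    [LocallyOfFiniteType (f ≫ g)] (s : S) :
    LocallyOfFinitePresentation (MoreMor.fiberMap f g s) := by
  haveI : LocallyOfFiniteType f := locallyOfFiniteType_of_comp f g
  haveI : LocallyOfFiniteType (MoreMor.fiberMap f g s) :=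
    MorphismProperty.of_isPullback (P := @LocallyOfFiniteType) (isPullback_fiberMap f g s)
      inferInstance
  haveI : LocallyOfFiniteType (g.fiberToSpecResidueField s) :=
    MorphismProperty.pullback_snd (P := @LocallyOfFiniteType) _ _ inferInstance
  haveI : IsLocallyNoetherian (g.fiber s) :=
    LocallyOfFiniteType.isLocallyNoetherian (g.fiberToSpecResidueField s)
  exact (LocallyOfFinitePresentation.iff_locallyOfFiniteType).mpr inferInstance

variable [LocallyOfFinitePresentation g] [QuasiCompact g] [QuasiSeparated g]
  [LocallyOfFinitePresentation (f ≫ g)] [QuasiCompact (f ≫ g)] [QuasiSeparated (f ≫ g)]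

theorem isLocallyConstructible_locusMor_flat (H : FlatLocusOpen.{u}) :
    IsLocallyConstructible {s : S | Flat (MoreMor.fiberMap f g s)} :=
  isLocallyConstructible_locusMor (isConsMor_flat H) f g

theorem isLocallyConstructible_locusMor_isOpenImmersion (H : FlatLocusOpen.{u}) :
    IsLocallyConstructible {s : S | IsOpenImmersion (MoreMor.fiberMap f g s)} := by
  have h1 := isLocallyConstructible_locusMor_flat f g H
  have h2 : IsLocallyConstructible {s : S | Mono (MoreMor.fiberMap f g s)} :=
    Groth.Agent.S3426.result f g
  convert h1.inter h2 using 1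
  ext s
  haveI := locallyOfFinitePresentation_fiberMap f g s
  constructor
  · intro h
    haveI : IsOpenImmersion (MoreMor.fiberMap f g s) := h
    exact ⟨(inferInstance : Flat (MoreMor.fiberMap f g s)),
      (inferInstance : Mono (MoreMor.fiberMap f g s))⟩
  · rintro ⟨h1, h2⟩
    haveI : Flat (MoreMor.fiberMap f g s) := h1
    haveI : Mono (MoreMor.fiberMap f g s) := h2
    exact IsOpenImmersion.of_flat_of_mono _

theorem isLocallyConstructible_locusMor_isIso (H : FlatLocusOpen.{u}) :
    IsLocallyConstructible {s : S | IsIso (MoreMor.fiberMap f g s)} := by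
  have h1 := isLocallyConstructible_locusMor_isOpenImmersion f g H
  have h2 : IsLocallyConstructible
      {s : S | Function.Surjective (MoreMor.fiberMap f g s).base} :=
    Groth.Agent.S3443.result f g
  convert h1.inter h2 using 1
  ext s
  constructor
  · intro h
    haveI : IsIso (MoreMor.fiberMap f g s) := h
    exact ⟨(inferInstance : IsOpenImmersion (MoreMor.fiberMap f g s)),
      (MoreMor.fiberMap f g s).homeomorph.surjective⟩
  · rintro ⟨h1, h2⟩
    haveI : IsOpenImmersion (MoreMor.fiberMap f g s) := h1
    haveI : Surjective (MoreMor.fiberMap f g s) := ⟨h2⟩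
    exact (isIso_iff_isOpenImmersion_and_surjective _).mpr ⟨inferInstance, inferInstance⟩

theorem isLocallyConstructible_locusMor_formallyUnramified' :
    IsLocallyConstructible {s : S | FormallyUnramified (MoreMor.fiberMap f g s)} :=
  isLocallyConstructible_locusMor
    Groth.Agent.Lib.helper5.ConsMono.isConsMor_formallyUnramified f g

theorem isLocallyConstructible_locusMor_etale (H : FlatLocusOpen.{u}) :
    IsLocallyConstructible {s : S | Etale (MoreMor.fiberMap f g s)} := by
  have h1 := isLocallyConstructible_locusMor_flat f g H
  have h2 := isLocallyConstructible_locusMor_formallyUnramified' f g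
  convert h1.inter h2 using 1
  ext s
  haveI := locallyOfFinitePresentation_fiberMap f g s
  constructor
  · intro h
    exact ⟨(Etale.iff_flat_and_formallyUnramified.mp h).1,
      (Etale.iff_flat_and_formallyUnramified.mp h).2.1⟩
  · rintro ⟨h1, h2⟩
    exact Etale.iff_flat_and_formallyUnramified.mpr ⟨h1, h2, inferInstance⟩

/-- the form with `pullback.snd f (g.fiberι s)`. -/
theorem isLocallyConstructible_setOf_etale_snd (H : FlatLocusOpen.{u}) :
    IsLocallyConstructible {s : S | Etale (pullback.snd f (g.fiberι s))} ∧
      IsLocallyConstructible {s : S | FormallyUnramified (pullback.snd f (g.fiberι s))} := by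
  have key : ∀ (Q : MorphismProperty Scheme.{u}) [Q.RespectsIso] (s : S),
      Q (pullback.snd f (g.fiberι s)) ↔ Q (MoreMor.fiberMap f g s) := fun Q _ s =>
    Groth.Agent.Lib.helper5.ConsProper.iff_of_isPullback_of_isPullback Q
      (IsPullback.of_hasPullback f (g.fiberι s)) (isPullback_fiberMap f g s)
  constructor
  · convert isLocallyConstructible_locusMor_etale f g H using 1
    ext s
    exact key @Etale s
  · convert isLocallyConstructible_locusMor_formallyUnramified' f g using 1
    ext s
    exact key @FormallyUnramified s

end Groth.Agent.Lib.helper5.ConsFlat
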