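import Groth.Agent.Lib.Helper5.ConsFlat2
import Groth.Agent.Lib.Helper3.FlatLocus5

/-!
# Constructibility of fibrewise flat / étale / open immersion / iso loci, unconditional (helper5)

Plugs helper3's openness of the flat locus (`FlatLocus5.isOpen_flatLocus`) into the conditional
results of `ConsFlat1`, `ConsFlat2`.
-/

set_option autoImplicit false
universe u
open CategoryTheory CategoryTheory.Limits AlgebraicGeometry

namespace Groth.Agent.Lib.helper5.ConsFlat

theorem flatLocusOpen : FlatLocusOpen.{u} := fun _ _ f _ _ _ =>
  Groth.Agent.Lib.helper3.FlatLocus.isOpen_flatLocus f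

end Groth.Agent.Lib.helper5.ConsFlat
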