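import Groth.Agent.Lib.Helper5.ConsProper2
import Groth.Agent.Lib.Helper5.ConsMono1
import Groth.Agent.S9193
import Groth.Agent.S1124

/-!
# "Immersion" is a constructible property of morphisms of algebraic schemes
(EGA IV 9.6.1 (viii)) (helper5)
-/

set_option autoImplicit false
set_option backward.isDefEq.respectTransparency false
universe u
open CategoryTheory CategoryTheory.Limits AlgebraicGeometry Topology TopologicalSpace

namespace Groth.Agent.Lib.helper5.ConsImm

open Groth.Agent.Lib.helper5.ConsFibre Groth.Agent.Lib.helper5.ConsSep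
open Groth.Agent.Lib.helper5.ConsProper Groth.Agent.Lib.helper5.ConsMono
open Groth.Agent.Lib.helper5.FGLimit

section Top

variable {F Y : Type*} [TopologicalSpace F] [TopologicalSpace Y] {ι : F → Y}

/-- if the trace of `A` on a subspace is locally closed there, the relative boundary
`(closure (A ∩ F) ∩ F) \ A` is relatively closed. -/
theorem mem_of_isLocallyClosed_preimage (hι : IsEmbedding ι) (A : Set Y)
    (h : IsLocallyClosed (ι ⁻¹' A)) (w : Y) (hw : w ∈ Set.range ι)
    (hw2 : w ∈ closure ((closure (A ∩ Set.range ι) ∩ Set.range ι) \ A)) :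
    w ∈ closure (A ∩ Set.range ι) \ A := by
  set B' := (closure (A ∩ Set.range ι) ∩ Set.range ι) \ A with hB'
  have himg : ι '' (ι ⁻¹' A) = A ∩ Set.range ι := Set.image_preimage_eq_inter_range
  have hpre : ι ⁻¹' B' = closure (ι ⁻¹' A) \ ι ⁻¹' A := by
    rw [hι.isInducing.closure_eq_preimage_closure_image, himg]
    ext z
    simp only [hB', Set.mem_preimage, Set.mem_sdiff, Set.mem_inter_iff, Set.mem_range,
      exists_apply_eq_apply, and_true]
  have hcl : IsClosed (ι ⁻¹' B') := by
    rw [hpre]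
    have : closure (ι ⁻¹' A) \ ι ⁻¹' A = (coborder (ι ⁻¹' A))ᶜ := by rw [coborder, compl_compl]
    rw [this]
    exact h.isOpen_coborder.isClosed_compl
  obtain ⟨z, rfl⟩ := hw
  have hB'r : B' ⊆ Set.range ι := fun y hy => hy.1.2
  have himg' : ι '' (ι ⁻¹' B') = B' := by
    rw [Set.image_preimage_eq_inter_range, Set.inter_eq_left.mpr hB'r]
  have hz : z ∈ closure (ι ⁻¹' B') := by
    rw [hι.isInducing.closure_eq_preimage_closure_image, himg']
    exact hw2
  rw [hcl.closure_eq] at hz
  exact ⟨hz.1.1, hz.2⟩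

end Top

section Generic

variable {W S : Scheme.{u}} [IsIntegral S] [IsNoetherian S]
  (π : W ⟶ S) [LocallyOfFiniteType π] [QuasiCompact π]

/-- if the boundary `B = closure A \ A` of a constructible set is not closed over the generic
point, then over a nonempty open the traces of `A` on the fibres have non-closed relative
boundaries. -/
theorem exists_open_not_locallyClosed_fibre (A : Set W) (hA : IsConstructible A)
    (h : genericPoint S ∈ π '' (closure (closure A \ A) \ (closure A \ A))) :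
    ∃ V : S.Opens, (V : Set S).Nonempty ∧ ∀ s ∈ V, ∃ w, π w = s ∧ w ∉ closure A \ A ∧
      w ∈ closure ((closure (A ∩ π ⁻¹' {s}) ∩ π ⁻¹' {s}) \ A) := by
  haveI : IsNoetherian W := isNoetherian_of_lft π
  have hclA : IsConstructible (closure A) :=
    Groth.Agent.Lib.helper9.isConstructible_of_isLocallyClosed isClosed_closure.isLocallyClosed
  have hB : IsConstructible (closure A \ A) := hclA.sdiff hA
  have hclB : IsConstructible (closure (closure A \ A)) :=
    Groth.Agent.Lib.helper9.isConstructible_of_isLocallyClosed isClosed_closure.isLocallyClosed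
  have hC : IsConstructible (closure (closure A \ A) \ (closure A \ A)) := hclB.sdiff hB
  obtain ⟨V₁, hηV₁, hV₁⟩ := exists_open_subset_image π _ hC h
  obtain ⟨V₂, hV₂ne, hV₂⟩ := exists_open_closure_inter_fibre π (closure A \ A) hB
  obtain ⟨V₃, hV₃ne, hV₃⟩ := exists_open_closure_inter_fibre π A hA
  have hηV₂ := genericPoint_mem_of_nonempty V₂ hV₂ne
  have hηV₃ := genericPoint_mem_of_nonempty V₃ hV₃ne
  refine ⟨V₁ ⊓ V₂ ⊓ V₃, ⟨genericPoint S, ⟨hηV₁, hηV₂⟩, hηV₃⟩, fun s hs => ?_⟩
  obtain ⟨w, ⟨hw1, hw2⟩, hw3⟩ := hV₁ hs.1.1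
  refine ⟨w, hw3, hw2, ?_⟩
  have h1 : w ∈ closure ((closure A \ A) ∩ π ⁻¹' {s}) := hV₂ s hs.1.2 ⟨hw1, hw3⟩
  refine closure_mono ?_ h1
  rintro y ⟨⟨hy1, hy2⟩, hy3⟩
  exact ⟨⟨hV₃ s hs.2 ⟨hy1, hy3⟩, hy3⟩, hy2⟩

end Generic

section Restrict

variable {X Y S : Scheme.{u}} (f : X ⟶ Y) (g : Y ⟶ S) (U : Y.Opens) (s : S)

/-- the fibre map of the restriction of `f` over an open `U` of `Y` is the base change of the fibre
map of `f` along the open immersion of the fibres `U_s ⟶ Y_s`. -/
theorem exists_isPullback_fiberMap_restrict :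
    ∃ a' : ((f ∣_ U) ≫ U.ι ≫ g).fiber s ⟶ (f ≫ g).fiber s,
      IsPullback a' (MoreMor.fiberMap (f ∣_ U) (U.ι ≫ g) s) (MoreMor.fiberMap f g s)
        (MoreMor.fiberMap U.ι g s) := by
  have sq1 := isPullback_fiberMap (f ∣_ U) (U.ι ≫ g) s
  have sq2 := (isPullback_morphismRestrict f U).flip
  have sq3 := isPullback_fiberMap U.ι g s
  have sq4 := isPullback_fiberMap f g s
  have souter := sq1.paste_horiz sq2
  rw [sq3.w] at souter
  have hcomm : (((f ∣_ U) ≫ U.ι ≫ g).fiberι s ≫ (f ⁻¹ᵁ U).ι) ≫ f =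
      (MoreMor.fiberMap (f ∣_ U) (U.ι ≫ g) s ≫ MoreMor.fiberMap U.ι g s) ≫ g.fiberι s := by
    rw [Category.assoc]; exact souter.w
  refine ⟨sq4.lift _ _ hcomm, ?_⟩
  refine IsPullback.of_right ?_ (sq4.lift_snd _ _ hcomm) sq4
  rw [sq4.lift_fst]
  exact souter

theorem range_fiberMap_ι : Set.range (MoreMor.fiberMap U.ι g s) = (g.fiberι s) ⁻¹' (U : Set Y) := by
  rw [range_snd_of_isPullback (isPullback_fiberMap U.ι g s), Scheme.Opens.range_ι]

instance : IsOpenImmersion (MoreMor.fiberMap U.ι g s) :=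
  MorphismProperty.of_isPullback (P := @IsOpenImmersion) (isPullback_fiberMap U.ι g s)
    inferInstance

/-- if `range f ∩ U` is closed in `U`, the fibre maps of the restriction of an immersion over `U`
are closed immersions. -/
theorem isProper_fiberMap_restrict_of_isImmersion
    (hU : ∀ w ∈ U, w ∈ closure (Set.range f) → w ∈ Set.range f)
    (h : IsImmersion (MoreMor.fiberMap f g s)) :
    IsProper (MoreMor.fiberMap (f ∣_ U) (U.ι ≫ g) s) := by
  obtain ⟨a', sq⟩ := exists_isPullback_fiberMap_restrict f g U s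
  haveI : IsImmersion (MoreMor.fiberMap (f ∣_ U) (U.ι ≫ g) s) :=
    MorphismProperty.of_isPullback (P := @IsImmersion) sq h
  have hr : Set.range (MoreMor.fiberMap (f ∣_ U) (U.ι ≫ g) s) =
      (MoreMor.fiberMap U.ι g s ≫ g.fiberι s) ⁻¹' Set.range f := by
    rw [range_snd_of_isPullback sq, range_snd_of_isPullback (isPullback_fiberMap f g s)]
    rfl
  have hemb : IsEmbedding (MoreMor.fiberMap U.ι g s ≫ g.fiberι s) :=
    ((g.fiberι s).isEmbedding.comp (MoreMor.fiberMap U.ι g s).isOpenEmbedding.isEmbedding :)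
  have hrange : Set.range (MoreMor.fiberMap U.ι g s ≫ g.fiberι s) ⊆ (U : Set Y) := by
    rintro _ ⟨z, rfl⟩
    have : MoreMor.fiberMap U.ι g s z ∈ (g.fiberι s) ⁻¹' (U : Set Y) := by
      rw [← range_fiberMap_ι]; exact ⟨z, rfl⟩
    exact this
  have hcl : IsClosed (Set.range (MoreMor.fiberMap (f ∣_ U) (U.ι ≫ g) s)) := by
    rw [hr, isClosed_preimage_iff hemb]
    rintro ⟨w, hw1, hw2, hw3⟩
    exact hw2 (hU w (hrange hw3) (closure_mono Set.inter_subset_left hw1))
  haveI : IsClosedImmersion (MoreMor.fiberMap (f ∣_ U) (U.ι ≫ g) s) :=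
    IsClosedImmersion.of_isPreimmersion _ hcl
  infer_instance

/-- if the fibre `X_s` maps into `U` and the fibre map of the restriction over `U` is a closed
immersion, the fibre map of `f` is an immersion. -/
theorem isImmersion_fiberMap_of_isClosedImmersion_restrict
    (hs : ∀ x, (f ≫ g) x = s → f x ∈ U)
    (h : IsClosedImmersion (MoreMor.fiberMap (f ∣_ U) (U.ι ≫ g) s)) :
    IsImmersion (MoreMor.fiberMap f g s) := by
  obtain ⟨a', sq⟩ := exists_isPullback_fiberMap_restrict f g U s
  haveI : IsOpenImmersion a' :=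
    MorphismProperty.of_isPullback (P := @IsOpenImmersion) sq.flip inferInstance
  haveI : Surjective a' := by
    rw [surjective_iff, ← Set.range_eq_univ, range_fst_of_isPullback sq, range_fiberMap_ι,
      Set.eq_univ_iff_forall]
    intro z
    have hz : (f ≫ g) ((f ≫ g).fiberι s z) = s := by
      have : (f ≫ g).fiberι s z ∈ Set.range ((f ≫ g).fiberι s) := ⟨z, rfl⟩
      rw [(f ≫ g).range_fiberι s] at this
      exact this
    have h2 := hs _ hz
    have h3 : g.fiberι s (MoreMor.fiberMap f g s z) = f ((f ≫ g).fiberι s z) := by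
      rw [← Scheme.Hom.comp_apply, ← Scheme.Hom.comp_apply, (isPullback_fiberMap f g s).w]
    change g.fiberι s (MoreMor.fiberMap f g s z) ∈ (U : Set Y)
    rw [h3]
    exact h2
  haveI : IsIso a' := (isIso_iff_isOpenImmersion_and_surjective a').mpr ⟨inferInstance, inferInstance⟩
  have heq : MoreMor.fiberMap f g s =
      inv a' ≫ MoreMor.fiberMap (f ∣_ U) (U.ι ≫ g) s ≫ MoreMor.fiberMap U.ι g s := by
    rw [IsIso.eq_inv_comp]; exact sq.w
  rw [heq]
  infer_instance

end Restrict

end Groth.Agent.Lib.helper5.ConsImm
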