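import Groth.Agent.Lib.Helper5.ConsImm1

/-!
# "Immersion" is a constructible property of morphisms of algebraic schemes, II (helper5)

* `isFieldStableMor_isImmersion`, `isIndConsMor_isImmersion`, `isConsMor_isImmersion`.
-/

set_option autoImplicit false
set_option backward.isDefEq.respectTransparency false
universe u
open CategoryTheory CategoryTheory.Limits AlgebraicGeometry Topology TopologicalSpace

namespace Groth.Agent.Lib.helper5.ConsImm

open Groth.Agent.Lib.helper5.ConsFibre Groth.Agent.Lib.helper5.ConsSep
open Groth.Agent.Lib.helper5.ConsProper Groth.Agent.Lib.helper5.ConsMono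
open Groth.Agent.Lib.helper5.FGLimit

theorem isFieldStableMor_isImmersion :
    ConsProp.IsFieldStableMor.{u} (fun X Y T (f : X ⟶ Y) (_ : Y ⟶ T) => IsImmersion f) := by
  intro X X' Y Y' T T' f g f' g' eX eY h _ _ _ _ _ _ _ _ sqY sqX
  haveI := Groth.Agent.S1124.result.{u}
  have hh := fpqc_of_subsingleton h
  have heY : (@Surjective ⊓ @Flat ⊓ @QuasiCompact : MorphismProperty Scheme.{u}) eY :=
    MorphismProperty.of_isPullback sqY.flip hh
  haveI : IsNoetherian T := isNoetherian_of_subsingleton T
  haveI : IsNoetherian X := isNoetherian_of_lft (f ≫ g)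
  haveI : QuasiCompact f := quasiCompact_of_isNoetherian f
  change IsImmersion f ↔ IsImmersion f'
  constructor
  · intro hf
    exact MorphismProperty.of_isPullback (P := @IsImmersion) sqX hf
  · intro hf'
    have hqc' : QuasiCompact f' :=
      MorphismProperty.of_isPullback (P := @QuasiCompact) sqX inferInstance
    have key : (@IsImmersion ⊓ @QuasiCompact : MorphismProperty Scheme.{u}) f :=
      MorphismProperty.of_isPullback_of_descendsAlong
        (P := (@IsImmersion ⊓ @QuasiCompact : MorphismProperty Scheme.{u}))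
        (Q := (@Surjective ⊓ @Flat ⊓ @QuasiCompact : MorphismProperty Scheme.{u}))
        sqX.flip heY ⟨hf', hqc'⟩
    exact key.1

theorem isIndConsMor_isImmersion :
    ConsProp.IsIndConsMor.{u} (fun X Y T (f : X ⟶ Y) (_ : Y ⟶ T) => IsImmersion f) := by
  refine isIndConsMor_of_limDescends (Q := @AlgebraicGeometry.IsImmersion)
    isFieldStableMor_isImmersion ?_
  intro I _ _ D c hc _ i₀ _ _ X₀ Y₀ f₀ g₀ _ _ _ _ _ X Y f g qY qX hY hX hQ
  haveI : AlgebraicGeometry.IsImmersion f := hQ
  exact Groth.Agent.S9193.result D c hc i₀ f₀ g₀ f g qY qX hY hX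

theorem isNoetherian_opens {Y : Scheme.{u}} [IsNoetherian Y] (U : Y.Opens) :
    IsNoetherian (U : Scheme.{u}) := by
  haveI : IsLocallyNoetherian (U : Scheme.{u}) := isLocallyNoetherian_of_isOpenImmersion U.ι
  haveI : CompactSpace ↥(U : Scheme.{u}) :=
    isCompact_iff_compactSpace.mp (TopologicalSpace.NoetherianSpace.isCompact (U : Set Y))
  exact {}

theorem isConsMor_isImmersion :
    ConsProp.IsConsMor.{u} (fun X Y T (f : X ⟶ Y) (_ : Y ⟶ T) => IsImmersion f) := by
  have hind := isIndConsMor_isImmersion.{u}
  refine ⟨hind.1, ?_⟩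
  intro X Y S f g _ _ _ _ _ _
  by_cases hη : genericPoint S ∈
      ConsProp.locusMor (fun X Y T (f : X ⟶ Y) (_ : Y ⟶ T) => IsImmersion f) f g
  · exact Or.inl (hind.2 f g hη)
  right
  have hη' : ¬ IsImmersion (MoreMor.fiberMap f g (genericPoint S)) := hη
  haveI : IsNoetherian Y := isNoetherian_of_lft g
  haveI : IsNoetherian X := isNoetherian_of_lft (f ≫ g)
  haveI : LocallyOfFiniteType f := locallyOfFiniteType_of_comp f g
  haveI : QuasiCompact f := quasiCompact_of_isNoetherian f
  haveI : LocallyOfFinitePresentation f :=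
    (LocallyOfFinitePresentation.iff_locallyOfFiniteType).mpr inferInstance
  by_cases hmono : Mono (MoreMor.fiberMap f g (genericPoint S))
  swap
  · -- the generic fibre map is not a monomorphism
    rcases isConsMor_mono.2 f g with h | h
    · exfalso
      apply hmono
      obtain ⟨x, hx⟩ := h
      have : genericPoint S ∈ interior (ConsProp.locusMor
          (fun X Y T (f : X ⟶ Y) (_ : Y ⟶ T) => Mono f) f g) :=
        ((genericPoint_spec S).mem_open_set_iff isOpen_interior).mpr ⟨x, trivial, hx⟩
      have h3 : genericPoint S ∈ ConsProp.locusMor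
          (fun X Y T (f : X ⟶ Y) (_ : Y ⟶ T) => Mono f) f g := interior_subset this
      exact h3
    · obtain ⟨x, hx⟩ := h
      refine ⟨x, interior_mono ?_ hx⟩
      apply Set.compl_subset_compl.mpr
      intro s hs
      have : IsImmersion (MoreMor.fiberMap f g s) := hs
      change Mono (MoreMor.fiberMap f g s)
      infer_instance
  -- the generic fibre map is a monomorphism
  have hA : IsConstructible (Set.range f) := by
    rw [← Set.image_univ]
    exact f.isConstructible_image (Groth.Agent.Lib.helper9.isConstructible_of_isLocallyClosed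
      isOpen_univ.isLocallyClosed)
  set A := Set.range f with hAdef
  by_cases hC : genericPoint S ∈ g '' (closure (closure A \ A) \ (closure A \ A))
  · -- the image is not locally closed in the fibres near the generic point
    obtain ⟨V, hV, H⟩ := exists_open_not_locallyClosed_fibre g A hA hC
    refine ⟨genericPoint S, mem_interior.mpr ⟨V, ?_, V.2, genericPoint_mem_of_nonempty V hV⟩⟩
    intro s hs hsE
    have himm : IsImmersion (MoreMor.fiberMap f g s) := hsE
    obtain ⟨w, hw1, hw2, hw3⟩ := H s hs
    have hr : Set.range (MoreMor.fiberMap f g s) = (g.fiberι s) ⁻¹' A :=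
      range_snd_of_isPullback (isPullback_fiberMap f g s)
    have hlc : IsLocallyClosed ((g.fiberι s) ⁻¹' A) := by
      rw [← hr]; exact (MoreMor.fiberMap f g s).isLocallyClosed_range
    have hwr : w ∈ Set.range (g.fiberι s) := by rw [g.range_fiberι s]; exact hw1
    have := mem_of_isLocallyClosed_preimage (g.fiberι s).isEmbedding A hlc w hwr
      (by rw [g.range_fiberι s]; exact hw3)
    exact hw2 ⟨closure_mono Set.inter_subset_left this.1, this.2⟩
  · -- the boundary of the image is closed near the generic fibre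
    have hclA : IsConstructible (closure A) :=
      Groth.Agent.Lib.helper9.isConstructible_of_isLocallyClosed isClosed_closure.isLocallyClosed
    have hB : IsConstructible (closure A \ A) := hclA.sdiff hA
    have hclB : IsConstructible (closure (closure A \ A)) :=
      Groth.Agent.Lib.helper9.isConstructible_of_isLocallyClosed isClosed_closure.isLocallyClosed
    have hCc : IsConstructible (closure (closure A \ A) \ (closure A \ A)) := hclB.sdiff hB
    obtain ⟨V₁, hηV₁, hV₁⟩ := exists_open_disjoint_image g _ hCc hC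
    let U : Y.Opens := ⟨g ⁻¹' (V₁ : Set S) ∩ (closure (closure A \ A))ᶜ,
      (V₁.2.preimage g.continuous).inter isClosed_closure.isOpen_compl⟩
    have hU : ∀ w ∈ U, w ∈ closure A → w ∈ A := by
      intro w hwU hwA
      by_contra hwnA
      exact hwU.2 (subset_closure ⟨hwA, hwnA⟩)
    have hAU : ∀ x, (f ≫ g) x ∈ V₁ → f x ∈ U := by
      intro x hx
      refine ⟨by rw [Scheme.Hom.comp_apply] at hx; exact hx, fun hcl => ?_⟩
      by_cases hxB : f x ∈ closure A \ A
      · exact hxB.2 ⟨x, rfl⟩
      · exact (Set.disjoint_left.mp hV₁) (by rw [Scheme.Hom.comp_apply] at hx; exact hx)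
          ⟨f x, ⟨hcl, hxB⟩, rfl⟩
    haveI : IsNoetherian (U : Scheme.{u}) := isNoetherian_opens U
    haveI : IsNoetherian ((f ⁻¹ᵁ U : X.Opens) : Scheme.{u}) := isNoetherian_opens _
    haveI : QuasiCompact U.ι := quasiCompact_of_isNoetherian _
    haveI : QuasiCompact (f ⁻¹ᵁ U).ι := quasiCompact_of_isNoetherian _
    haveI : LocallyOfFiniteType (U.ι ≫ g) := inferInstance
    haveI : QuasiCompact (U.ι ≫ g) := inferInstance
    have hcomp : (f ∣_ U) ≫ U.ι ≫ g = (f ⁻¹ᵁ U).ι ≫ f ≫ g := by
      rw [← Category.assoc, morphismRestrict_ι, Category.assoc]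
    haveI : LocallyOfFiniteType ((f ∣_ U) ≫ U.ι ≫ g) := by rw [hcomp]; infer_instance
    haveI : QuasiCompact ((f ∣_ U) ≫ U.ι ≫ g) := by rw [hcomp]; infer_instance
    have hnp : ¬ IsProper (MoreMor.fiberMap (f ∣_ U) (U.ι ≫ g) (genericPoint S)) := by
      intro hp
      apply hη'
      obtain ⟨a', sq⟩ := exists_isPullback_fiberMap_restrict f g U (genericPoint S)
      haveI : Mono (MoreMor.fiberMap (f ∣_ U) (U.ι ≫ g) (genericPoint S)) :=
        MorphismProperty.of_isPullback (P := MorphismProperty.monomorphisms Scheme.{u}) sq hmono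
      have hci : IsClosedImmersion (MoreMor.fiberMap (f ∣_ U) (U.ι ≫ g) (genericPoint S)) :=
        (IsClosedImmersion.iff_isProper_and_mono _).mpr ⟨hp, inferInstance⟩
      exact isImmersion_fiberMap_of_isClosedImmersion_restrict f g U (genericPoint S)
        (fun x hx => hAU x (by rw [hx]; exact hηV₁)) hci
    rcases isConsMor_isProper.2 (f ∣_ U) (U.ι ≫ g) with h | h
    · exfalso
      apply hnp
      obtain ⟨x, hx⟩ := h
      have : genericPoint S ∈ interior (ConsProp.locusMor
          (fun X Y T (f : X ⟶ Y) (_ : Y ⟶ T) => IsProper f) (f ∣_ U) (U.ι ≫ g)) :=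
        ((genericPoint_spec S).mem_open_set_iff isOpen_interior).mpr ⟨x, trivial, hx⟩
      have h3 : genericPoint S ∈ ConsProp.locusMor
          (fun X Y T (f : X ⟶ Y) (_ : Y ⟶ T) => IsProper f) (f ∣_ U) (U.ι ≫ g) :=
        interior_subset this
      exact h3
    · obtain ⟨x, hx⟩ := h
      refine ⟨x, interior_mono ?_ hx⟩
      apply Set.compl_subset_compl.mpr
      intro s hs
      have himm : IsImmersion (MoreMor.fiberMap f g s) := hs
      exact isProper_fiberMap_restrict_of_isImmersion f g U s hU himm

end Groth.Agent.Lib.helper5.ConsImm
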