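import Groth.Agent.Lib.Helper5.FGDescent4
import Groth.Agent.Lib.Helper5.FGDescent2

/-!
# Descent of an isomorphism over a field-valued point to a finitely generated integral model
(helper5)
-/

set_option autoImplicit false
set_option backward.isDefEq.respectTransparency false
open CategoryTheory CategoryTheory.Limits AlgebraicGeometry

namespace Groth.Agent.Lib.helper5.FGLimit
universe u

/-- the integral affine model `Spec R[s]` and its properties. -/
theorem model_props {S : Scheme.{u}} (R K : Type u) [CommRing R] [Field K] [Algebra R K]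
    (q : Spec (CommRingCat.of R) ⟶ S) [LocallyOfFiniteType q] (s : Finset K) :
    IsIntegral (Spec (CommRingCat.of (adj R K s))) ∧ LocallyOfFiniteType (pS R K q s) ∧
      ∀ x, IsGenericPoint (jK R K s x) (⊤ : Set ↥(Spec (CommRingCat.of (adj R K s)))) := by
  refine ⟨inferInstance, ?_, ?_⟩
  · unfold pS
    haveI : LocallyOfFiniteType (Spec.map (CommRingCat.ofHom (algebraMap R (adj R K s)))) := by
      rw [HasRingHomProperty.Spec_iff (P := @LocallyOfFiniteType)]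
      have hfg : (adj R K s).FG := Subalgebra.fg_adjoin_finset s
      have hft : Algebra.FiniteType R (adj R K s) := (adj R K s).fg_iff_finiteType.mp hfg
      exact RingHom.finiteType_algebraMap.mpr hft
    infer_instance
  · intro x
    suffices h : jK R K s x = genericPoint ↥(Spec (CommRingCat.of (adj R K s))) by
      rw [h]; exact genericPoint_spec _
    rw [genericPoint_eq_bot_of_affine]
    apply PrimeSpectrum.ext
    ext a
    change a ∈ ((jK R K s) x).asIdeal ↔ a ∈ (⊥ : Ideal _)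
    rw [Ideal.mem_bot]
    constructor
    · intro ha
      have ha' : (a : K) ∈ x.asIdeal := ha
      by_contra hne
      have hne' : (a : K) ≠ 0 := fun h => hne (Subtype.ext h)
      have h1 : (1 : K) ∈ x.asIdeal := by
        rw [← mul_inv_cancel₀ hne']
        exact Ideal.mul_mem_right _ _ ha'
      exact x.isPrime.ne_top ((Ideal.eq_top_iff_one _).mpr h1)
    · rintro rfl
      exact Ideal.zero_mem _

/-- EGA IV 8.8.2.4-type descent: a `T'`-isomorphism `g : X ×_S T' ≅ Y ×_S T'`, `T'` the spectrum of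
a field over `S`, comes from an `S₁`-isomorphism `X ×_S S₁ ≅ Y ×_S S₁` for an integral affine scheme
`S₁` of finite type over `S` through whose generic point `T' ⟶ S` factors. -/
theorem exists_descent_geom_iso {S X Y T' X' Y' : Scheme.{u}}
    (u : X ⟶ S) (v : Y ⟶ S) [QuasiCompact u] [QuasiSeparated u] [LocallyOfFinitePresentation u]
    [QuasiCompact v] [QuasiSeparated v] [LocallyOfFinitePresentation v]
    [IsIntegral T'] [Subsingleton ↥T'] (t : T' ⟶ S)
    {gX' : X' ⟶ T'} {gY' : Y' ⟶ T'} {eX : X' ⟶ X} {eY : Y' ⟶ Y}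
    (sqX : IsPullback eX gX' u t) (sqY : IsPullback eY gY' v t) (g : X' ⟶ Y') [IsIso g]
    (hg : g ≫ gY' = gX') :
    ∃ (S₁ : Scheme.{u}) (p : S₁ ⟶ S) (j : T' ⟶ S₁) (g₁ : pullback u p ⟶ pullback v p)
      (eX₁ : X' ⟶ pullback u p) (eY₁ : Y' ⟶ pullback v p),
      IsIntegral S₁ ∧ IsAffine S₁ ∧ LocallyOfFiniteType p ∧ j ≫ p = t ∧
      (∀ x, IsGenericPoint (j x) (⊤ : Set ↥S₁)) ∧
      g₁ ≫ pullback.snd v p = pullback.snd u p ∧ IsPullback eX₁ gX' (pullback.snd u p) j ∧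
      IsPullback eY₁ gY' (pullback.snd v p) j ∧ g ≫ eY₁ = eX₁ ≫ g₁ ∧ IsIso g₁ := by
  obtain ⟨pt⟩ : Nonempty ↥T' := inferInstance
  obtain ⟨U₀, hU₀, hpt, -⟩ := exists_isAffineOpen_mem_and_subset (x := t pt) (U := ⊤) trivial
  have e : (⊤ : T'.Opens) ≤ t ⁻¹ᵁ U₀ := by
    intro x _
    change t x ∈ U₀
    rw [Subsingleton.elim x pt]
    exact hpt
  let φ : Γ(S, U₀) ⟶ Γ(T', ⊤) := t.appLE U₀ ⊤ e
  letI : Algebra ↑Γ(S, U₀) ↑Γ(T', ⊤) := φ.hom.toAlgebra
  have hK : IsField ↑Γ(T', ⊤) := isField_of_isIntegral_of_subsingleton T'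
  letI : Field ↑Γ(T', ⊤) := hK.toField
  let q : Spec (CommRingCat.of ↑Γ(S, U₀)) ⟶ S := hU₀.fromSpec
  let ι : T' ≅ Spec Γ(T', ⊤) := T'.isoSpec
  have htK : tK ↑Γ(S, U₀) ↑Γ(T', ⊤) q = ι.inv ≫ t := by
    have h1 := IsAffineOpen.SpecMap_appLE_fromSpec t hU₀ (isAffineOpen_top T') e
    rw [IsAffineOpen.fromSpec_top] at h1
    exact h1
  -- the squares over `Spec K`
  have sqXK : IsPullback eX (gX' ≫ ι.hom) u (tK ↑Γ(S, U₀) ↑Γ(T', ⊤) q) := by
    have h0 : IsPullback (𝟙 X') (gX' ≫ ι.hom) gX' ι.inv :=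
      IsPullback.of_horiz_isIso ⟨by rw [Category.assoc, Iso.hom_inv_id, Category.comp_id,
        Category.id_comp]⟩
    have := h0.paste_horiz sqX
    rw [Category.id_comp, ← htK] at this
    exact this
  have sqYK : IsPullback eY (gY' ≫ ι.hom) v (tK ↑Γ(S, U₀) ↑Γ(T', ⊤) q) := by
    have h0 : IsPullback (𝟙 Y') (gY' ≫ ι.hom) gY' ι.inv :=
      IsPullback.of_horiz_isIso ⟨by rw [Category.assoc, Iso.hom_inv_id, Category.comp_id,
        Category.id_comp]⟩
    have := h0.paste_horiz sqY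
    rw [Category.id_comp, ← htK] at this
    exact this
  let g' : pullback u (tK ↑Γ(S, U₀) ↑Γ(T', ⊤) q) ⟶ pullback v (tK ↑Γ(S, U₀) ↑Γ(T', ⊤) q) :=
    sqXK.isoPullback.inv ≫ g ≫ sqYK.isoPullback.hom
  haveI : IsIso g' := by
    change IsIso (sqXK.isoPullback.inv ≫ g ≫ sqYK.isoPullback.hom)
    infer_instance
  have hg' : g' ≫ pullback.snd v _ = pullback.snd u _ := by
    change (sqXK.isoPullback.inv ≫ g ≫ sqYK.isoPullback.hom) ≫ pullback.snd v _ = _
    rw [Category.assoc, Category.assoc, IsPullback.isoPullback_hom_snd, ← Category.assoc g, hg,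
      IsPullback.isoPullback_inv_snd]
  obtain ⟨s, G, hGiso, hG, hπ⟩ := exists_descent_iso g' hg'
  obtain ⟨hint, hlft, hgen⟩ := model_props ↑Γ(S, U₀) ↑Γ(T', ⊤) q s
  let p := pS ↑Γ(S, U₀) ↑Γ(T', ⊤) q s
  let j : T' ⟶ Spec (CommRingCat.of (adj ↑Γ(S, U₀) ↑Γ(T', ⊤) s)) :=
    ι.hom ≫ jK ↑Γ(S, U₀) ↑Γ(T', ⊤) s
  have hjp : j ≫ p = t := by
    change (ι.hom ≫ jK _ _ s) ≫ pS _ _ q s = t
    rw [Category.assoc, jK_pS, htK, Iso.hom_inv_id_assoc]
  let eX₁ : X' ⟶ pullback u p := sqXK.isoPullback.hom ≫ πX ↑Γ(S, U₀) ↑Γ(T', ⊤) q u s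
  let eY₁ : Y' ⟶ pullback v p := sqYK.isoPullback.hom ≫ πX ↑Γ(S, U₀) ↑Γ(T', ⊤) q v s
  have heX₁fst : eX₁ ≫ pullback.fst u p = eX := by
    change (sqXK.isoPullback.hom ≫ πX _ _ q u s) ≫ pullback.fst u _ = eX
    rw [Category.assoc, πX_fst, IsPullback.isoPullback_hom_fst]
  have heX₁snd : eX₁ ≫ pullback.snd u p = gX' ≫ j := by
    change (sqXK.isoPullback.hom ≫ πX _ _ q u s) ≫ pullback.snd u _ = gX' ≫ ι.hom ≫ jK _ _ s
    rw [Category.assoc, πX_snd, ← Category.assoc, IsPullback.isoPullback_hom_snd, Category.assoc]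
  have heY₁fst : eY₁ ≫ pullback.fst v p = eY := by
    change (sqYK.isoPullback.hom ≫ πX _ _ q v s) ≫ pullback.fst v _ = eY
    rw [Category.assoc, πX_fst, IsPullback.isoPullback_hom_fst]
  have heY₁snd : eY₁ ≫ pullback.snd v p = gY' ≫ j := by
    change (sqYK.isoPullback.hom ≫ πX _ _ q v s) ≫ pullback.snd v _ = gY' ≫ ι.hom ≫ jK _ _ s
    rw [Category.assoc, πX_snd, ← Category.assoc, IsPullback.isoPullback_hom_snd, Category.assoc]
  refine ⟨Spec (CommRingCat.of (adj ↑Γ(S, U₀) ↑Γ(T', ⊤) s)), p, j, G, eX₁, eY₁, hint,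
    inferInstance, hlft, hjp, ?_, hG, ?_, ?_, ?_, hGiso⟩
  · intro x
    exact hgen (ι.hom x)
  · exact IsPullback.of_right (by rw [heX₁fst, hjp]; exact sqX) heX₁snd
      (IsPullback.of_hasPullback u p)
  · exact IsPullback.of_right (by rw [heY₁fst, hjp]; exact sqY) heY₁snd
      (IsPullback.of_hasPullback v p)
  · change g ≫ sqYK.isoPullback.hom ≫ πX _ _ q v s = (sqXK.isoPullback.hom ≫ πX _ _ q u s) ≫ G
    rw [Category.assoc, hπ]
    change _ = sqXK.isoPullback.hom ≫ (sqXK.isoPullback.inv ≫ g ≫ sqYK.isoPullback.hom) ≫ _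
    rw [Category.assoc, Category.assoc, Iso.hom_inv_id_assoc]

end Groth.Agent.Lib.helper5.FGLimit
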