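import Groth.Agent.Lib.Helper5.ConsPair
import Groth.Agent.Lib.Helper5.FGDescent5

/-!
# Ind-constructible properties of pairs of algebraic schemes, II (helper5)

* `isIndConsPair_pairRel_of_spread` : general form: if a morphism with `Q` over a field-valued
  point of `S` spreads out to a morphism over an integral `S₁` of finite type over `S` whose fibres
  have `Q` on a nonempty open, then "geometrically there is a morphism with `Q`" is an
  ind-constructible property of pairs.
* `isIndConsPair_pairRel_isIso` : the case of isomorphisms.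
-/

set_option autoImplicit false
set_option backward.isDefEq.respectTransparency false
universe u
open CategoryTheory CategoryTheory.Limits AlgebraicGeometry Topology TopologicalSpace

namespace Groth.Agent.Lib.helper5.ConsFibre

variable {Q : MorphismProperty Scheme.{u}}

theorem isIndConsPair_pairRel_of_spread
    (hfs : ConsProp.IsFieldStableMor (fun X Y T f g => Q f))
    (hsp : ∀ ⦃S X Y T' X' Y' : Scheme.{u}⦄ (u : X ⟶ S) (v : Y ⟶ S) [IsIntegral S] [IsNoetherian S]
      [LocallyOfFiniteType u] [QuasiCompact u] [LocallyOfFiniteType v] [QuasiCompact v]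
      [IsIntegral T'] [Subsingleton ↥T'] (t : T' ⟶ S) {gX' : X' ⟶ T'} {gY' : Y' ⟶ T'}
      {eX : X' ⟶ X} {eY : Y' ⟶ Y} (_ : IsPullback eX gX' u t) (_ : IsPullback eY gY' v t)
      (g : X' ⟶ Y') (_ : g ≫ gY' = gX') (_ : Q g),
      ∃ (S₁ : Scheme.{u}) (p : S₁ ⟶ S) (j : T' ⟶ S₁) (g₁ : pullback u p ⟶ pullback v p),
        IsIntegral S₁ ∧ LocallyOfFiniteType p ∧ QuasiCompact p ∧ j ≫ p = t ∧
        (∀ x, IsGenericPoint (j x) (⊤ : Set ↥S₁)) ∧
        g₁ ≫ pullback.snd v p = pullback.snd u p ∧
        (interior (ConsProp.locusMor (fun X Y T f g => Q f) g₁ (pullback.snd v p))).Nonempty) :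
    ConsPropPair.IsIndConsPair (PairRel Q) := by
  refine ⟨isFieldStablePair_pairRel hfs, ?_⟩
  intro X Y S u v _ _ _ _ _ _ hη
  obtain ⟨T', X', Y', h, gX', gY', eX, eY, hT'i, hT's, sqX, sqY, g, hg, hQg⟩ := hη
  haveI := hT'i
  haveI := hT's
  let t : T' ⟶ S := h ≫ S.fromSpecResidueField (genericPoint ↥S)
  have sqX' : IsPullback (eX ≫ u.fiberι (genericPoint ↥S)) gX' u t :=
    sqX.paste_horiz (IsPullback.of_hasPullback u (S.fromSpecResidueField (genericPoint ↥S)))
  have sqY' : IsPullback (eY ≫ v.fiberι (genericPoint ↥S)) gY' v t :=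
    sqY.paste_horiz (IsPullback.of_hasPullback v (S.fromSpecResidueField (genericPoint ↥S)))
  obtain ⟨S₁, p, j, g₁, hS₁i, hp, hpqc, hjp, hgen, hg₁, s₀, hs₀⟩ :=
    hsp u v t sqX' sqY' g hg hQg
  haveI := hS₁i
  haveI := hp
  haveI := hpqc
  haveI : IsNoetherian S₁ := isNoetherian_of_lft p
  haveI : LocallyOfFiniteType (pullback.snd v p) :=
    MorphismProperty.pullback_snd (P := @LocallyOfFiniteType) v p inferInstance
  haveI : QuasiCompact (pullback.snd v p) :=
    MorphismProperty.pullback_snd (P := @QuasiCompact) v p inferInstance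
  haveI : LocallyOfFiniteType (g₁ ≫ pullback.snd v p) := by
    rw [hg₁]
    exact MorphismProperty.pullback_snd (P := @LocallyOfFiniteType) u p inferInstance
  haveI : QuasiCompact (g₁ ≫ pullback.snd v p) := by
    rw [hg₁]
    exact MorphismProperty.pullback_snd (P := @QuasiCompact) u p inferInstance
  obtain ⟨pt⟩ : Nonempty ↥T' := inferInstance
  have hjpt : j pt = genericPoint ↥S₁ := (hgen pt).eq (genericPoint_spec ↥S₁)
  -- the image of the interior contains a neighbourhood of `η`
  have hη₁int : genericPoint ↥S₁ ∈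
      interior (ConsProp.locusMor (fun X Y T f g => Q f) g₁ (pullback.snd v p)) :=
    ((genericPoint_spec ↥S₁).mem_open_set_iff isOpen_interior).mpr ⟨s₀, trivial, hs₀⟩
  haveI : LocallyOfFinitePresentation p :=
    (LocallyOfFinitePresentation.iff_locallyOfFiniteType).mpr inferInstance
  have hcons : IsConstructible (p ''
      interior (ConsProp.locusMor (fun X Y T f g => Q f) g₁ (pullback.snd v p))) :=
    p.isConstructible_image (Groth.Agent.Lib.helper9.isConstructible_of_isLocallyClosed
      isOpen_interior.isLocallyClosed)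
  have hpη : p (genericPoint ↥S₁) = genericPoint ↥S := by
    rw [← hjpt, ← Scheme.Hom.comp_apply, hjp]
    change S.fromSpecResidueField (genericPoint ↥S) (h pt) = genericPoint ↥S
    exact Scheme.fromSpecResidueField_apply (genericPoint ↥S) _
  obtain ⟨W, hW, hηW, hsub⟩ :=
    (Groth.Agent.Lib.helper3.ChainDim.exists_open_of_isConstructible (genericPoint ↥S) hcons).1
      ⟨genericPoint ↥S₁, hη₁int, hpη⟩
  have hcl : closure {genericPoint ↥S} = Set.univ := (genericPoint_spec ↥S).def
  refine ⟨genericPoint ↥S, ?_⟩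
  rw [mem_interior]
  refine ⟨W, ?_, hW, hηW⟩
  intro s hsW
  obtain ⟨s₁, hs₁, rfl⟩ := hsub ⟨hsW, by rw [hcl]; trivial⟩
  have hQs₁' : s₁ ∈ ConsProp.locusMor (fun X Y T f g => Q f) g₁ (pullback.snd v p) :=
    interior_subset hs₁
  have hQs₁ : Q (MoreMor.fiberMap g₁ (pullback.snd v p) s₁) := hQs₁'
  have sqXs : IsPullback (pullback.fst u p) (g₁ ≫ pullback.snd v p) u p := by
    rw [hg₁]; exact IsPullback.of_hasPullback u p
  exact ⟨Spec (S₁.residueField s₁), (g₁ ≫ pullback.snd v p).fiber s₁, (pullback.snd v p).fiber s₁,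
    Spec.map (p.residueFieldMap s₁), (g₁ ≫ pullback.snd v p).fiberToSpecResidueField s₁,
    (pullback.snd v p).fiberToSpecResidueField s₁, _, _, inferInstance, inferInstance,
    isPullback_fiberToSpecResidueField_of_isPullback sqXs s₁,
    isPullback_fiberToSpecResidueField_of_isPullback (IsPullback.of_hasPullback v p) s₁,
    MoreMor.fiberMap g₁ (pullback.snd v p) s₁, fiberMap_comp g₁ (pullback.snd v p) s₁, hQs₁⟩

/-- EGA IV 9.3.x for isomorphisms: "geometrically isomorphic" is an ind-constructible property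
of pairs of algebraic schemes. -/
theorem isIndConsPair_pairRel_isIso :
    ConsPropPair.IsIndConsPair (PairRel (MorphismProperty.isomorphisms Scheme.{u})) := by
  refine isIndConsPair_pairRel_of_spread
    (isFieldStableMor_of_descendsAlong (MorphismProperty.isomorphisms Scheme.{u})) ?_
  intro S X Y T' X' Y' u v _ _ _ _ _ _ _ _ t gX' gY' eX eY sqX sqY g hg hQ
  haveI : IsIso g := hQ
  haveI : IsNoetherian X := isNoetherian_of_lft u
  haveI : IsNoetherian Y := isNoetherian_of_lft v
  haveI : LocallyOfFinitePresentation u :=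
    (LocallyOfFinitePresentation.iff_locallyOfFiniteType).mpr inferInstance
  haveI : LocallyOfFinitePresentation v :=
    (LocallyOfFinitePresentation.iff_locallyOfFiniteType).mpr inferInstance
  obtain ⟨S₁, p, j, g₁, eX₁, eY₁, hS₁i, hS₁a, hp, hjp, hgen, hg₁, sqX₁, sqY₁, hcomm, hiso⟩ :=
    Groth.Agent.Lib.helper5.FGLimit.exists_descent_geom_iso u v t sqX sqY g hg
  haveI := hS₁i
  haveI := hS₁a
  refine ⟨S₁, p, j, g₁, hS₁i, hp, inferInstance, hjp, hgen, hg₁, ?_⟩
  have hall : ConsProp.locusMor (fun X Y T f g => MorphismProperty.isomorphisms Scheme.{u} f) g₁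
      (pullback.snd v p) = Set.univ := by
    ext s₁
    simp only [Set.mem_univ, iff_true]
    change IsIso (MoreMor.fiberMap g₁ (pullback.snd v p) s₁)
    exact MorphismProperty.of_isPullback (P := MorphismProperty.isomorphisms Scheme.{u})
      (isPullback_fiberMap g₁ (pullback.snd v p) s₁) hiso
  rw [hall, interior_univ]
  exact ⟨genericPoint ↥S₁, trivial⟩

end Groth.Agent.Lib.helper5.ConsFibre
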