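import Groth.Agent.Lib.Helper5.FGDescent6
import Groth.Agent.Lib.Helper5.FGDescent5

/-!
# Spreading out the property of being an isomorphism (geometric level) (helper5)
-/

set_option autoImplicit false
set_option backward.isDefEq.respectTransparency false
open CategoryTheory CategoryTheory.Limits AlgebraicGeometry

namespace Groth.Agent.Lib.helper5.FGLimit
universe u

/-- EGA IV 8.10.5 (i) at a field-valued point: if the base change of an `S`-morphism `φ : A ⟶ B`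
of schemes of finite presentation to a field-valued point `T' ⟶ S` is an isomorphism, then the base
change of `φ` to `S₁` is an isomorphism, for an integral affine scheme `S₁` of finite type over `S`
through whose generic point `T' ⟶ S` factors. -/
theorem exists_isIso_baseChange {S A B T' A' B' : Scheme.{u}}
    (a : A ⟶ S) (b : B ⟶ S) [QuasiCompact a] [QuasiSeparated a] [LocallyOfFinitePresentation a]
    [QuasiCompact b] [QuasiSeparated b] [LocallyOfFinitePresentation b]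
    [IsIntegral T'] [Subsingleton ↥T'] (t : T' ⟶ S)
    {a' : A' ⟶ T'} {b' : B' ⟶ T'} {eA : A' ⟶ A} {eB : B' ⟶ B}
    (sqA : IsPullback eA a' a t) (sqB : IsPullback eB b' b t) (φ : A ⟶ B) (hφ : φ ≫ b = a)
    (φ' : A' ⟶ B') [IsIso φ'] (hφ'b : φ' ≫ b' = a') (hφ'e : φ' ≫ eB = eA ≫ φ) :
    ∃ (S₁ : Scheme.{u}) (p : S₁ ⟶ S) (j : T' ⟶ S₁),
      IsIntegral S₁ ∧ IsAffine S₁ ∧ LocallyOfFiniteType p ∧ j ≫ p = t ∧
      (∀ x, IsGenericPoint (j x) (⊤ : Set ↥S₁)) ∧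
      ∀ ⦃A₁ B₁ : Scheme.{u}⦄ (eA₁ : A₁ ⟶ A) (a₁ : A₁ ⟶ S₁) (eB₁ : B₁ ⟶ B) (b₁ : B₁ ⟶ S₁)
        (φ₁ : A₁ ⟶ B₁), IsPullback eA₁ a₁ a p → IsPullback eB₁ b₁ b p → φ₁ ≫ b₁ = a₁ →
          φ₁ ≫ eB₁ = eA₁ ≫ φ → IsIso φ₁ := by
  obtain ⟨pt⟩ : Nonempty ↥T' := inferInstance
  obtain ⟨U₀, hU₀, hpt, -⟩ := exists_isAffineOpen_mem_and_subset (x := t pt) (U := ⊤) trivial
  have e : (⊤ : T'.Opens) ≤ t ⁻¹ᵁ U₀ := by
    intro x _
    change t x ∈ U₀
    rw [Subsingleton.elim x pt]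
    exact hpt
  let ψ : Γ(S, U₀) ⟶ Γ(T', ⊤) := t.appLE U₀ ⊤ e
  letI : Algebra ↑Γ(S, U₀) ↑Γ(T', ⊤) := ψ.hom.toAlgebra
  have hK : IsField ↑Γ(T', ⊤) := isField_of_isIntegral_of_subsingleton T'
  letI : Field ↑Γ(T', ⊤) := hK.toField
  let q : Spec (CommRingCat.of ↑Γ(S, U₀)) ⟶ S := hU₀.fromSpec
  let ι : T' ≅ Spec Γ(T', ⊤) := T'.isoSpec
  have htK : tK ↑Γ(S, U₀) ↑Γ(T', ⊤) q = ι.inv ≫ t := by
    have h1 := IsAffineOpen.SpecMap_appLE_fromSpec t hU₀ (isAffineOpen_top T') e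
    rw [IsAffineOpen.fromSpec_top] at h1
    exact h1
  -- the squares over `Spec K`
  have sqAK : IsPullback eA (a' ≫ ι.hom) a (tK ↑Γ(S, U₀) ↑Γ(T', ⊤) q) := by
    have h0 : IsPullback (𝟙 A') (a' ≫ ι.hom) a' ι.inv :=
      IsPullback.of_horiz_isIso ⟨by rw [Category.assoc, Iso.hom_inv_id, Category.comp_id,
        Category.id_comp]⟩
    have := h0.paste_horiz sqA
    rw [Category.id_comp, ← htK] at this
    exact this
  have sqBK : IsPullback eB (b' ≫ ι.hom) b (tK ↑Γ(S, U₀) ↑Γ(T', ⊤) q) := by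
    have h0 : IsPullback (𝟙 B') (b' ≫ ι.hom) b' ι.inv :=
      IsPullback.of_horiz_isIso ⟨by rw [Category.assoc, Iso.hom_inv_id, Category.comp_id,
        Category.id_comp]⟩
    have := h0.paste_horiz sqB
    rw [Category.id_comp, ← htK] at this
    exact this
  let g' : pullback a (tK ↑Γ(S, U₀) ↑Γ(T', ⊤) q) ⟶ pullback b (tK ↑Γ(S, U₀) ↑Γ(T', ⊤) q) :=
    sqAK.isoPullback.inv ≫ φ' ≫ sqBK.isoPullback.hom
  haveI : IsIso g' := by
    change IsIso (sqAK.isoPullback.inv ≫ φ' ≫ sqBK.isoPullback.hom)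
    infer_instance
  have hg' : g' ≫ pullback.snd b _ = pullback.snd a _ := by
    change (sqAK.isoPullback.inv ≫ φ' ≫ sqBK.isoPullback.hom) ≫ pullback.snd b _ = _
    rw [Category.assoc, Category.assoc, IsPullback.isoPullback_hom_snd, ← Category.assoc φ', hφ'b,
      IsPullback.isoPullback_inv_snd]
  have hg'φ : g' ≫ pullback.fst b _ = pullback.fst a _ ≫ φ := by
    change (sqAK.isoPullback.inv ≫ φ' ≫ sqBK.isoPullback.hom) ≫ pullback.fst b _ = _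
    rw [Category.assoc, Category.assoc, IsPullback.isoPullback_hom_fst, hφ'e, ← Category.assoc,
      IsPullback.isoPullback_inv_fst]
  obtain ⟨s, hiso⟩ := exists_isIso_bcφ φ hφ g' hg' hg'φ
  obtain ⟨hint, hlft, hgen⟩ := model_props ↑Γ(S, U₀) ↑Γ(T', ⊤) q s
  let p := pS ↑Γ(S, U₀) ↑Γ(T', ⊤) q s
  let j : T' ⟶ Spec (CommRingCat.of (adj ↑Γ(S, U₀) ↑Γ(T', ⊤) s)) :=
    ι.hom ≫ jK ↑Γ(S, U₀) ↑Γ(T', ⊤) s
  have hjp : j ≫ p = t := by
    change (ι.hom ≫ jK _ _ s) ≫ pS _ _ q s = t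
    rw [Category.assoc, jK_pS, htK, Iso.hom_inv_id_assoc]
  refine ⟨Spec (CommRingCat.of (adj ↑Γ(S, U₀) ↑Γ(T', ⊤) s)), p, j, hint, inferInstance, hlft, hjp,
    fun x => hgen (ι.hom x), ?_⟩
  intro A₁ B₁ eA₁ a₁ eB₁ b₁ φ₁ sqA₁ sqB₁ hφ₁b hφ₁e
  have key : φ₁ = sqA₁.isoPullback.hom ≫ bcφ ↑Γ(S, U₀) ↑Γ(T', ⊤) q a b φ hφ s ≫
      sqB₁.isoPullback.inv := by
    apply sqB₁.hom_ext
    · rw [Category.assoc, Category.assoc, IsPullback.isoPullback_inv_fst, bcφ_fst, hφ₁e,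
        ← Category.assoc, IsPullback.isoPullback_hom_fst]
    · rw [Category.assoc, Category.assoc, IsPullback.isoPullback_inv_snd, bcφ_snd, hφ₁b,
        IsPullback.isoPullback_hom_snd]
  rw [key]
  infer_instance

end Groth.Agent.Lib.helper5.FGLimit
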