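import Groth.Agent.Lib.Helper5.ConsPair2
import Groth.Agent.Lib.Helper5.FGDescent7

/-!
# Ind-constructible properties of pairs of algebraic schemes, III (helper5)

* `isIndConsPair_pairRel_of_spread'` : `isIndConsPair_pairRel_of_spread` with arbitrary cartesian
  squares over `S₁`.
* `isIndConsPair_pairRel_of_spread_base` : it suffices to spread out morphisms which are already
  defined over the base.
* `isIndConsPair_pairRel_mono` : the case of monomorphisms.
-/

set_option autoImplicit false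
set_option backward.isDefEq.respectTransparency false
universe u
open CategoryTheory CategoryTheory.Limits AlgebraicGeometry Topology TopologicalSpace

namespace Groth.Agent.Lib.helper5.ConsFibre

variable {Q : MorphismProperty Scheme.{u}}

theorem isIndConsPair_pairRel_of_spread'
    (hfs : ConsProp.IsFieldStableMor (fun X Y T f g => Q f))
    (hsp : ∀ ⦃S X Y T' X' Y' : Scheme.{u}⦄ (u : X ⟶ S) (v : Y ⟶ S) [IsIntegral S] [IsNoetherian S]
      [LocallyOfFiniteType u] [QuasiCompact u] [LocallyOfFiniteType v] [QuasiCompact v]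
      [IsIntegral T'] [Subsingleton ↥T'] (t : T' ⟶ S) {gX' : X' ⟶ T'} {gY' : Y' ⟶ T'}
      {eX : X' ⟶ X} {eY : Y' ⟶ Y} (_ : IsPullback eX gX' u t) (_ : IsPullback eY gY' v t)
      (g : X' ⟶ Y') (_ : g ≫ gY' = gX') (_ : Q g),
      ∃ (S₁ : Scheme.{u}) (p : S₁ ⟶ S) (j : T' ⟶ S₁) (X₁ Y₁ : Scheme.{u}) (eX₁ : X₁ ⟶ X)
        (u₁ : X₁ ⟶ S₁) (eY₁ : Y₁ ⟶ Y) (v₁ : Y₁ ⟶ S₁) (g₁ : X₁ ⟶ Y₁),
        IsIntegral S₁ ∧ LocallyOfFiniteType p ∧ QuasiCompact p ∧ j ≫ p = t ∧
        (∀ x, IsGenericPoint (j x) (⊤ : Set ↥S₁)) ∧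
        IsPullback eX₁ u₁ u p ∧ IsPullback eY₁ v₁ v p ∧ g₁ ≫ v₁ = u₁ ∧
        (interior (ConsProp.locusMor (fun X Y T f g => Q f) g₁ v₁)).Nonempty) :
    ConsPropPair.IsIndConsPair (PairRel Q) := by
  refine ⟨isFieldStablePair_pairRel hfs, ?_⟩
  intro X Y S u v _ _ _ _ _ _ hη
  obtain ⟨T', X', Y', h, gX', gY', eX, eY, hT'i, hT's, sqX, sqY, g, hg, hQg⟩ := hη
  haveI := hT'i
  haveI := hT's
  let t : T' ⟶ S := h ≫ S.fromSpecResidueField (genericPoint ↥S)
  have sqX' : IsPullback (eX ≫ u.fiberι (genericPoint ↥S)) gX' u t :=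
    sqX.paste_horiz (IsPullback.of_hasPullback u (S.fromSpecResidueField (genericPoint ↥S)))
  have sqY' : IsPullback (eY ≫ v.fiberι (genericPoint ↥S)) gY' v t :=
    sqY.paste_horiz (IsPullback.of_hasPullback v (S.fromSpecResidueField (genericPoint ↥S)))
  obtain ⟨S₁, p, j, X₁, Y₁, eX₁, u₁, eY₁, v₁, g₁, hS₁i, hp, hpqc, hjp, hgen, sqX₁, sqY₁, hg₁,
    s₀, hs₀⟩ := hsp u v t sqX' sqY' g hg hQg
  haveI := hS₁i
  haveI := hp
  haveI := hpqc
  haveI : IsNoetherian S₁ := isNoetherian_of_lft p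
  haveI : LocallyOfFiniteType v₁ :=
    MorphismProperty.of_isPullback (P := @LocallyOfFiniteType) sqY₁ inferInstance
  haveI : QuasiCompact v₁ :=
    MorphismProperty.of_isPullback (P := @QuasiCompact) sqY₁ inferInstance
  haveI : LocallyOfFiniteType (g₁ ≫ v₁) := by
    rw [hg₁]
    exact MorphismProperty.of_isPullback (P := @LocallyOfFiniteType) sqX₁ inferInstance
  haveI : QuasiCompact (g₁ ≫ v₁) := by
    rw [hg₁]
    exact MorphismProperty.of_isPullback (P := @QuasiCompact) sqX₁ inferInstance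
  obtain ⟨pt⟩ : Nonempty ↥T' := inferInstance
  have hjpt : j pt = genericPoint ↥S₁ := (hgen pt).eq (genericPoint_spec ↥S₁)
  have hη₁int : genericPoint ↥S₁ ∈
      interior (ConsProp.locusMor (fun X Y T f g => Q f) g₁ v₁) :=
    ((genericPoint_spec ↥S₁).mem_open_set_iff isOpen_interior).mpr ⟨s₀, trivial, hs₀⟩
  haveI : LocallyOfFinitePresentation p :=
    (LocallyOfFinitePresentation.iff_locallyOfFiniteType).mpr inferInstance
  have hcons : IsConstructible (p ''
      interior (ConsProp.locusMor (fun X Y T f g => Q f) g₁ v₁)) :=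
    p.isConstructible_image (Groth.Agent.Lib.helper9.isConstructible_of_isLocallyClosed
      isOpen_interior.isLocallyClosed)
  have hpη : p (genericPoint ↥S₁) = genericPoint ↥S := by
    rw [← hjpt, ← Scheme.Hom.comp_apply, hjp]
    change S.fromSpecResidueField (genericPoint ↥S) (h pt) = genericPoint ↥S
    exact Scheme.fromSpecResidueField_apply (genericPoint ↥S) _
  obtain ⟨W, hW, hηW, hsub⟩ :=
    (Groth.Agent.Lib.helper3.ChainDim.exists_open_of_isConstructible (genericPoint ↥S) hcons).1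
      ⟨genericPoint ↥S₁, hη₁int, hpη⟩
  have hcl : closure {genericPoint ↥S} = Set.univ := (genericPoint_spec ↥S).def
  refine ⟨genericPoint ↥S, ?_⟩
  rw [mem_interior]
  refine ⟨W, ?_, hW, hηW⟩
  intro s hsW
  obtain ⟨s₁, hs₁, rfl⟩ := hsub ⟨hsW, by rw [hcl]; trivial⟩
  have hQs₁' : s₁ ∈ ConsProp.locusMor (fun X Y T f g => Q f) g₁ v₁ :=
    interior_subset hs₁
  have hQs₁ : Q (MoreMor.fiberMap g₁ v₁ s₁) := hQs₁'
  have sqXs : IsPullback eX₁ (g₁ ≫ v₁) u p := by
    rw [hg₁]; exact sqX₁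
  exact ⟨Spec (S₁.residueField s₁), (g₁ ≫ v₁).fiber s₁, v₁.fiber s₁,
    Spec.map (p.residueFieldMap s₁), (g₁ ≫ v₁).fiberToSpecResidueField s₁,
    v₁.fiberToSpecResidueField s₁, _, _, inferInstance, inferInstance,
    isPullback_fiberToSpecResidueField_of_isPullback sqXs s₁,
    isPullback_fiberToSpecResidueField_of_isPullback sqY₁ s₁,
    MoreMor.fiberMap g₁ v₁ s₁, fiberMap_comp g₁ v₁ s₁, hQs₁⟩

/-- it suffices to spread out morphisms which are already defined over the base. -/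
theorem isIndConsPair_pairRel_of_spread_base
    (hfs : ConsProp.IsFieldStableMor (fun X Y T f g => Q f))
    (hsp : ∀ ⦃S X Y T' X' Y' : Scheme.{u}⦄ (u : X ⟶ S) (v : Y ⟶ S) [IsIntegral S] [IsNoetherian S]
      [IsAffine S]
      [LocallyOfFiniteType u] [QuasiCompact u] [LocallyOfFiniteType v] [QuasiCompact v]
      [IsIntegral T'] [Subsingleton ↥T'] (t : T' ⟶ S) {gX' : X' ⟶ T'} {gY' : Y' ⟶ T'}
      {eX : X' ⟶ X} {eY : Y' ⟶ Y} (_ : IsPullback eX gX' u t) (_ : IsPullback eY gY' v t)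
      (g₀ : X ⟶ Y) (_ : g₀ ≫ v = u)
      (g : X' ⟶ Y') (_ : g ≫ gY' = gX') (_ : g ≫ eY = eX ≫ g₀) (_ : Q g),
      ∃ (S₁ : Scheme.{u}) (p : S₁ ⟶ S) (j : T' ⟶ S₁) (X₁ Y₁ : Scheme.{u}) (eX₁ : X₁ ⟶ X)
        (u₁ : X₁ ⟶ S₁) (eY₁ : Y₁ ⟶ Y) (v₁ : Y₁ ⟶ S₁) (g₁ : X₁ ⟶ Y₁),
        IsIntegral S₁ ∧ LocallyOfFiniteType p ∧ QuasiCompact p ∧ j ≫ p = t ∧
        (∀ x, IsGenericPoint (j x) (⊤ : Set ↥S₁)) ∧
        IsPullback eX₁ u₁ u p ∧ IsPullback eY₁ v₁ v p ∧ g₁ ≫ v₁ = u₁ ∧
        (interior (ConsProp.locusMor (fun X Y T f g => Q f) g₁ v₁)).Nonempty) :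
    ConsPropPair.IsIndConsPair (PairRel Q) := by
  refine isIndConsPair_pairRel_of_spread' hfs ?_
  intro S X Y T' X' Y' u v _ _ _ _ _ _ _ _ t gX' gY' eX eY sqX sqY g hg hQ
  haveI : IsNoetherian X := isNoetherian_of_lft u
  haveI : IsNoetherian Y := isNoetherian_of_lft v
  haveI : LocallyOfFinitePresentation v :=
    (LocallyOfFinitePresentation.iff_locallyOfFiniteType).mpr inferInstance
  obtain ⟨S₁, p₁, j₁, g₁, eX₁, eY₁, hS₁i, hS₁a, hp₁, hjp₁, hgen₁, hg₁, sqX₁, sqY₁, hcomm⟩ :=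
    Groth.Agent.Lib.helper5.FGLimit.exists_descent_geom u v t sqX sqY g hg
  haveI := hS₁i
  haveI := hS₁a
  haveI := hp₁
  haveI : QuasiCompact p₁ := inferInstance
  haveI : IsNoetherian S₁ := isNoetherian_of_lft p₁
  haveI : LocallyOfFiniteType (pullback.snd v p₁) :=
    MorphismProperty.pullback_snd (P := @LocallyOfFiniteType) v p₁ inferInstance
  haveI : QuasiCompact (pullback.snd v p₁) :=
    MorphismProperty.pullback_snd (P := @QuasiCompact) v p₁ inferInstance
  haveI : LocallyOfFiniteType (pullback.snd u p₁) :=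
    MorphismProperty.pullback_snd (P := @LocallyOfFiniteType) u p₁ inferInstance
  haveI : QuasiCompact (pullback.snd u p₁) :=
    MorphismProperty.pullback_snd (P := @QuasiCompact) u p₁ inferInstance
  obtain ⟨S₂, p₂, j₂, X₂, Y₂, eX₂, u₂, eY₂, v₂, g₂, hS₂i, hp₂, hp₂qc, hjp₂, hgen₂, sqX₂, sqY₂, hg₂,
    hint⟩ := hsp (pullback.snd u p₁) (pullback.snd v p₁) j₁ sqX₁ sqY₁ g₁ hg₁ g hg hcomm hQ
  haveI := hp₂
  haveI := hp₂qc
  refine ⟨S₂, p₂ ≫ p₁, j₂, X₂, Y₂, eX₂ ≫ pullback.fst u p₁, u₂, eY₂ ≫ pullback.fst v p₁, v₂, g₂,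
    hS₂i, inferInstance, inferInstance, ?_, hgen₂, ?_, ?_, hg₂, hint⟩
  · rw [← Category.assoc, hjp₂, hjp₁]
  · exact sqX₂.paste_horiz (IsPullback.of_hasPullback u p₁)
  · exact sqY₂.paste_horiz (IsPullback.of_hasPullback v p₁)

section Diag

variable {C : Type*} [Category C] [HasPullbacks C]

/-- the kernel pair of a base change is the base change of the kernel pair. -/
theorem isPullback_map_kernelPair {X' Y' X Y T' S : C} {g : X' ⟶ Y'} {g₀ : X ⟶ Y} {eX : X' ⟶ X}
    {eY : Y' ⟶ Y} (sq : IsPullback eX g g₀ eY) {gX' : X' ⟶ T'} {u : X ⟶ S} {t : T' ⟶ S}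
    (sqX : IsPullback eX gX' u t) :
    IsPullback (pullback.map g g g₀ g₀ eX eX eY sq.w.symm sq.w.symm) (pullback.snd g g ≫ gX')
      (pullback.snd g₀ g₀ ≫ u) t := by
  have h1 : IsPullback (pullback.fst g g) (pullback.snd g g) g g := IsPullback.of_hasPullback g g
  have h2 : IsPullback (pullback.fst g g ≫ eX) (pullback.snd g g) g₀ (g ≫ eY) :=
    h1.paste_horiz sq
  rw [← sq.w] at h2
  have hfst : pullback.map g g g₀ g₀ eX eX eY sq.w.symm sq.w.symm ≫ pullback.fst g₀ g₀ =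
      pullback.fst g g ≫ eX := by simp [pullback.map]
  have hsnd : pullback.map g g g₀ g₀ eX eX eY sq.w.symm sq.w.symm ≫ pullback.snd g₀ g₀ =
      pullback.snd g g ≫ eX := by simp [pullback.map]
  have h4 : IsPullback (pullback.map g g g₀ g₀ eX eX eY sq.w.symm sq.w.symm) (pullback.snd g g)
      (pullback.snd g₀ g₀) eX :=
    IsPullback.of_right (by rw [hfst]; exact h2) hsnd (IsPullback.of_hasPullback g₀ g₀)
  exact h4.paste_vert sqX

theorem diagonal_map_kernelPair {X' Y' X Y : C} {g : X' ⟶ Y'} {g₀ : X ⟶ Y} {eX : X' ⟶ X}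
    {eY : Y' ⟶ Y} (w : g ≫ eY = eX ≫ g₀) :
    pullback.diagonal g ≫ pullback.map g g g₀ g₀ eX eX eY w w = eX ≫ pullback.diagonal g₀ := by
  apply pullback.hom_ext <;> simp [pullback.map]

end Diag

/-- EGA IV 9.3.x for monomorphisms. -/
theorem isIndConsPair_pairRel_mono :
    ConsPropPair.IsIndConsPair (PairRel (MorphismProperty.monomorphisms Scheme.{u})) := by
  haveI : (MorphismProperty.monomorphisms Scheme.{u}).DescendsAlong
      (@Surjective ⊓ @Flat ⊓ @QuasiCompact : MorphismProperty Scheme.{u}) := by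
    rw [← MorphismProperty.diagonal_isomorphisms]
    infer_instance
  refine isIndConsPair_pairRel_of_spread_base
    (isFieldStableMor_of_descendsAlong (MorphismProperty.monomorphisms Scheme.{u})) ?_
  intro S X Y T' X' Y' u v _ _ _ _ _ _ _ _ _ t gX' gY' eX eY sqX sqY g₀ hg₀ g hg hge hQ
  haveI : Mono g := hQ
  haveI : IsNoetherian X := isNoetherian_of_lft u
  haveI : IsNoetherian Y := isNoetherian_of_lft v
  haveI : LocallyOfFinitePresentation u :=
    (LocallyOfFinitePresentation.iff_locallyOfFiniteType).mpr inferInstance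
  haveI : LocallyOfFiniteType g₀ := by
    haveI : LocallyOfFiniteType (g₀ ≫ v) := by rw [hg₀]; infer_instance
    exact locallyOfFiniteType_of_comp g₀ v
  haveI : QuasiCompact g₀ := quasiCompact_of_isNoetherian g₀
  haveI : LocallyOfFiniteType (pullback.snd g₀ g₀) :=
    MorphismProperty.pullback_snd (P := @LocallyOfFiniteType) g₀ g₀ inferInstance
  haveI : QuasiCompact (pullback.snd g₀ g₀) :=
    MorphismProperty.pullback_snd (P := @QuasiCompact) g₀ g₀ inferInstance
  haveI : IsNoetherian (pullback g₀ g₀) := isNoetherian_of_lft (pullback.snd g₀ g₀ ≫ u)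
  haveI : LocallyOfFinitePresentation (pullback.snd g₀ g₀ ≫ u) :=
    (LocallyOfFinitePresentation.iff_locallyOfFiniteType).mpr inferInstance
  have sq : IsPullback eX g g₀ eY := by
    refine IsPullback.of_bot ?_ hge.symm sqY
    rw [hg, hg₀]
    exact sqX
  have sqB := isPullback_map_kernelPair sq sqX
  haveI : IsIso (pullback.diagonal g) := (pullback.isIso_diagonal_iff g).mpr inferInstance
  obtain ⟨S₁, p, j, hS₁i, hS₁a, hp, hjp, hgen, H⟩ :=
    Groth.Agent.Lib.helper5.FGLimit.exists_isIso_baseChange u (pullback.snd g₀ g₀ ≫ u) t sqX sqB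
      (pullback.diagonal g₀) (by rw [← Category.assoc, pullback.diagonal_snd, Category.id_comp])
      (pullback.diagonal g) (by rw [← Category.assoc, pullback.diagonal_snd, Category.id_comp])
      (diagonal_map_kernelPair sq.w.symm)
  haveI := hS₁i
  haveI := hS₁a
  haveI := hp
  let g₁ : pullback u p ⟶ pullback v p :=
    pullback.map u p v p g₀ (𝟙 _) (𝟙 _) (by rw [Category.comp_id, hg₀])
      (by rw [Category.comp_id, Category.id_comp])
  have hg₁fst : g₁ ≫ pullback.fst v p = pullback.fst u p ≫ g₀ := by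
    change pullback.map _ _ _ _ _ _ _ _ _ ≫ _ = _
    rw [pullback.map, pullback.lift_fst]
  have hg₁snd : g₁ ≫ pullback.snd v p = pullback.snd u p := by
    change pullback.map _ _ _ _ _ _ _ _ _ ≫ _ = _
    rw [pullback.map, pullback.lift_snd, Category.comp_id]
  have sq₁ : IsPullback (pullback.fst u p) g₁ g₀ (pullback.fst v p) := by
    refine IsPullback.of_bot ?_ hg₁fst.symm (IsPullback.of_hasPullback v p)
    rw [hg₁snd, hg₀]
    exact IsPullback.of_hasPullback u p
  have sqB₁ := isPullback_map_kernelPair sq₁ (IsPullback.of_hasPullback u p)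
  haveI : IsIso (pullback.diagonal g₁) :=
    H (pullback.fst u p) (pullback.snd u p) _ _ (pullback.diagonal g₁)
      (IsPullback.of_hasPullback u p) sqB₁
      (by rw [← Category.assoc, pullback.diagonal_snd, Category.id_comp])
      (diagonal_map_kernelPair sq₁.w.symm)
  have hmono : Mono g₁ := (pullback.isIso_diagonal_iff g₁).mp inferInstance
  refine ⟨S₁, p, j, pullback u p, pullback v p, pullback.fst u p, pullback.snd u p,
    pullback.fst v p, pullback.snd v p, g₁, hS₁i, hp, inferInstance, hjp, hgen,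
    IsPullback.of_hasPullback u p, IsPullback.of_hasPullback v p, hg₁snd, ?_⟩
  have hall : ConsProp.locusMor (fun X Y T f g => MorphismProperty.monomorphisms Scheme.{u} f) g₁
      (pullback.snd v p) = Set.univ := by
    ext s₁
    simp only [Set.mem_univ, iff_true]
    change Mono (MoreMor.fiberMap g₁ (pullback.snd v p) s₁)
    exact MorphismProperty.of_isPullback (P := MorphismProperty.monomorphisms Scheme.{u})
      (isPullback_fiberMap g₁ (pullback.snd v p) s₁) hmono
  rw [hall, interior_univ]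
  exact ⟨genericPoint ↥S₁, trivial⟩

end Groth.Agent.Lib.helper5.ConsFibre
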