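import Groth.Agent.Lib.Helper5.FGDescent7

/-!
# Spreading out a property of morphisms which descends along cofiltered limits (helper5)

`LimDescends Q` is the conclusion of EGA IV 8.10.5 for the property `Q` (in the form of the
milestones `Lim.exists_*_descend_of_*`).  For such `Q`: if the base change of an `S`-morphism
`φ : A ⟶ B` of schemes of finite type to a field-valued point `T' ⟶ S` has `Q`, then so has the
base change of `φ` to an integral affine `S₁` of finite type over `S` through whose generic point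
`T' ⟶ S` factors.
-/

set_option autoImplicit false
set_option backward.isDefEq.respectTransparency false
open CategoryTheory CategoryTheory.Limits AlgebraicGeometry

namespace Groth.Agent.Lib.helper5.FGLimit
universe u

open Groth.Agent.Lib.helper5.PBLimit

/-- EGA IV 8.10.5 for the property `Q`. -/
def LimDescends (Q : MorphismProperty Scheme.{u}) : Prop :=
  ∀ {I : Type u} [SmallCategory I] [IsCofiltered I] (D : I ⥤ Scheme.{u}) (c : Cone D)
    (_ : IsLimit c) [∀ (i j : I) (f : i ⟶ j), IsAffineHom (D.map f)] (i₀ : I)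
    [CompactSpace (D.obj i₀)] [QuasiSeparatedSpace (D.obj i₀)] {X₀ Y₀ : Scheme.{u}}
    (f₀ : X₀ ⟶ Y₀) (g₀ : Y₀ ⟶ D.obj i₀)
    [CompactSpace X₀] [QuasiSeparatedSpace X₀] [CompactSpace Y₀] [QuasiSeparatedSpace Y₀]
    [LocallyOfFiniteType f₀]
    {X Y : Scheme.{u}} (f : X ⟶ Y) (g : Y ⟶ c.pt) (qY : Y ⟶ Y₀) (qX : X ⟶ X₀)
    (_ : IsPullback qY g g₀ (c.π.app i₀)) (_ : IsPullback qX f f₀ qY), Q f →
    ∃ (i : I) (φ : i ⟶ i₀) (Xi Yi : Scheme.{u}) (fi : Xi ⟶ Yi) (gi : Yi ⟶ D.obj i) (pY : Yi ⟶ Y₀)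
      (pX : Xi ⟶ X₀), IsPullback pY gi g₀ (D.map φ) ∧ IsPullback pX fi f₀ pY ∧ Q fi

variable {S : Scheme.{u}} {R K : Type u} [CommRing R] [CommRing K] [Algebra R K]
  {q : Spec (CommRingCat.of R) ⟶ S} {X Y : Scheme.{u}} {u : X ⟶ S} {v : Y ⟶ S}

theorem isPullback_πX (u : X ⟶ S) (s : Finset K) :
    IsPullback (πX R K q u s) (pullback.snd u (tK R K q)) (pullback.snd u (pS R K q s))
      (jK R K s) := by
  have houter : IsPullback (πX R K q u s ≫ pullback.fst u (pS R K q s))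
      (pullback.snd u (tK R K q)) u (jK R K s ≫ pS R K q s) := by
    rw [πX_fst, jK_pS]
    exact IsPullback.of_hasPullback _ _
  exact IsPullback.of_right houter (πX_snd R K q u s) (IsPullback.of_hasPullback _ _)

instance compactSpace_pullback_pS [QuasiCompact u] (s : Finset K) :
    CompactSpace ↥(pullback u (pS R K q s)) := by
  haveI : QuasiCompact (pullback.snd u (pS R K q s)) :=
    MorphismProperty.pullback_snd (P := @QuasiCompact) _ _ inferInstance
  exact QuasiCompact.compactSpace_of_compactSpace (pullback.snd u (pS R K q s))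

instance quasiSeparatedSpace_pullback_pS [QuasiSeparated u] (s : Finset K) :
    QuasiSeparatedSpace ↥(pullback u (pS R K q s)) := by
  haveI : QuasiSeparated (pullback.snd u (pS R K q s)) :=
    MorphismProperty.pullback_snd (P := @QuasiSeparated) _ _ inferInstance
  exact quasiSeparatedSpace_of_quasiSeparated (pullback.snd u (pS R K q s))

/-- transport of `Q` from arbitrary cartesian squares over `R[s]` to `bcφ`. -/
theorem Q_bcφ_of_squares {Q : MorphismProperty Scheme.{u}} [Q.RespectsIso]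
    (φ : X ⟶ Y) (hφ : φ ≫ v = u) {s : Finset K}
    (m : Spec (CommRingCat.of (adj R K s)) ⟶ Spec (CommRingCat.of (adj R K ∅)))
    (hm : m ≫ pS R K q ∅ = pS R K q s) {Xi Yi : Scheme.{u}} (fi : Xi ⟶ Yi)
    (gi : Yi ⟶ Spec (CommRingCat.of (adj R K s))) (pY : Yi ⟶ pullback v (pS R K q ∅))
    (pX : Xi ⟶ pullback u (pS R K q ∅))
    (hYi : IsPullback pY gi (pullback.snd v (pS R K q ∅)) m)
    (hXi : IsPullback pX fi (bcφ R K q u v φ hφ ∅) pY) (hQi : Q fi) :
    Q (bcφ R K q u v φ hφ s) := by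
  have sqY : IsPullback (pY ≫ pullback.fst v (pS R K q ∅)) gi v (pS R K q s) := by
    have := hYi.paste_horiz (IsPullback.of_hasPullback v (pS R K q ∅))
    rw [hm] at this
    exact this
  have sqX : IsPullback (pX ≫ pullback.fst u (pS R K q ∅)) (fi ≫ gi) u (pS R K q s) := by
    have h1 := hXi.paste_vert hYi
    rw [bcφ_snd] at h1
    have := h1.paste_horiz (IsPullback.of_hasPullback u (pS R K q ∅))
    rw [hm] at this
    exact this
  have key : fi = sqX.isoPullback.hom ≫ bcφ R K q u v φ hφ s ≫ sqY.isoPullback.inv := by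
    apply sqY.hom_ext
    · rw [Category.assoc, Category.assoc, IsPullback.isoPullback_inv_fst, bcφ_fst,
        IsPullback.isoPullback_hom_fst_assoc, ← Category.assoc fi, ← hXi.w,
        Category.assoc, Category.assoc, bcφ_fst]
    · rw [Category.assoc, Category.assoc, IsPullback.isoPullback_inv_snd, bcφ_snd,
        IsPullback.isoPullback_hom_snd]
  rw [key, Q.cancel_left_of_respectsIso, Q.cancel_right_of_respectsIso] at hQi
  exact hQi

/-- algebraic level: if the base change of `φ : X ⟶ Y` to `K` has `Q`, then so has the base change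
to `R[s]` for some finite `s`. -/
theorem exists_Q_bcφ {Q : MorphismProperty Scheme.{u}} [Q.RespectsIso] (hQ : LimDescends Q)
    [QuasiCompact u] [QuasiSeparated u] [LocallyOfFiniteType u]
    [QuasiCompact v] [QuasiSeparated v]
    (φ : X ⟶ Y) (hφ : φ ≫ v = u)
    (g' : pullback u (tK R K q) ⟶ pullback v (tK R K q))
    (hg' : g' ≫ pullback.snd v (tK R K q) = pullback.snd u (tK R K q))
    (hg'φ : g' ≫ pullback.fst v (tK R K q) = pullback.fst u (tK R K q) ≫ φ) (hQg' : Q g') :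
    ∃ s : Finset K, Q (bcφ R K q u v φ hφ s) := by
  classical
  have hπ : πX R K q u ∅ ≫ bcφ R K q u v φ hφ ∅ = g' ≫ πX R K q v ∅ := by
    apply pullback.hom_ext
    · rw [Category.assoc, bcφ_fst, ← Category.assoc, πX_fst, Category.assoc, πX_fst, hg'φ]
    · rw [Category.assoc, bcφ_snd, πX_snd, Category.assoc, πX_snd, ← Category.assoc, hg']
  have hY : IsPullback (πX R K q v ∅) (pullback.snd v (tK R K q)) (pullback.snd v (pS R K q ∅))
      ((specCone R K).π.app (Opposite.op ∅)) := isPullback_πX v ∅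
  have hX : IsPullback (πX R K q u ∅) g' (bcφ R K q u v φ hφ ∅) (πX R K q v ∅) := by
    refine IsPullback.of_bot ?_ hπ (isPullback_πX v ∅)
    rw [hg', bcφ_snd]
    exact isPullback_πX u ∅
  haveI : LocallyOfFiniteType (bcφ R K q u v φ hφ ∅) := by
    haveI : LocallyOfFiniteType (bcφ R K q u v φ hφ ∅ ≫ pullback.snd v (pS R K q ∅)) := by
      rw [bcφ_snd]
      exact MorphismProperty.pullback_snd (P := @LocallyOfFiniteType) _ _ inferInstance
    exact locallyOfFiniteType_of_comp _ (pullback.snd v (pS R K q ∅))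
  obtain ⟨i, ψ, Xi, Yi, fi, gi, pY, pX, hYi, hXi, hQi⟩ :=
    hQ (specDiagram R K) (specCone R K) (isLimitSpecCone R K) (Opposite.op ∅)
      (X₀ := pullback u (pS R K q ∅)) (Y₀ := pullback v (pS R K q ∅))
      (bcφ R K q u v φ hφ ∅) (pullback.snd v (pS R K q ∅)) g' (pullback.snd v (tK R K q))
      (πX R K q v ∅) (πX R K q u ∅) hY hX hQg'
  have hψ : (specDiagram R K).map ψ ≫ pS R K q ∅ = pS R K q i.unop :=
    τ_w (specDiagram R K) (specτ R K q) ψ
  exact ⟨i.unop, Q_bcφ_of_squares φ hφ ((specDiagram R K).map ψ) hψ fi gi pY pX hYi hXi hQi⟩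

/-- geometric level. -/
theorem exists_baseChange_of_limDescends {Q : MorphismProperty Scheme.{u}} [Q.RespectsIso]
    (hQ : LimDescends Q) {S A B T' A' B' : Scheme.{u}}
    (a : A ⟶ S) (b : B ⟶ S) [QuasiCompact a] [QuasiSeparated a] [LocallyOfFiniteType a]
    [QuasiCompact b] [QuasiSeparated b]
    [IsIntegral T'] [Subsingleton ↥T'] (t : T' ⟶ S)
    {a' : A' ⟶ T'} {b' : B' ⟶ T'} {eA : A' ⟶ A} {eB : B' ⟶ B}
    (sqA : IsPullback eA a' a t) (sqB : IsPullback eB b' b t) (φ : A ⟶ B) (hφ : φ ≫ b = a)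
    (φ' : A' ⟶ B') (hQφ' : Q φ') (hφ'b : φ' ≫ b' = a') (hφ'e : φ' ≫ eB = eA ≫ φ) :
    ∃ (S₁ : Scheme.{u}) (p : S₁ ⟶ S) (j : T' ⟶ S₁),
      IsIntegral S₁ ∧ IsAffine S₁ ∧ LocallyOfFiniteType p ∧ j ≫ p = t ∧
      (∀ x, IsGenericPoint (j x) (⊤ : Set ↥S₁)) ∧
      ∀ ⦃A₁ B₁ : Scheme.{u}⦄ (eA₁ : A₁ ⟶ A) (a₁ : A₁ ⟶ S₁) (eB₁ : B₁ ⟶ B) (b₁ : B₁ ⟶ S₁)
        (φ₁ : A₁ ⟶ B₁), IsPullback eA₁ a₁ a p → IsPullback eB₁ b₁ b p → φ₁ ≫ b₁ = a₁ →
          φ₁ ≫ eB₁ = eA₁ ≫ φ → Q φ₁ := by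
  obtain ⟨pt⟩ : Nonempty ↥T' := inferInstance
  obtain ⟨U₀, hU₀, hpt, -⟩ := exists_isAffineOpen_mem_and_subset (x := t pt) (U := ⊤) trivial
  have e : (⊤ : T'.Opens) ≤ t ⁻¹ᵁ U₀ := by
    intro x _
    change t x ∈ U₀
    rw [Subsingleton.elim x pt]
    exact hpt
  let ψ : Γ(S, U₀) ⟶ Γ(T', ⊤) := t.appLE U₀ ⊤ e
  letI : Algebra ↑Γ(S, U₀) ↑Γ(T', ⊤) := ψ.hom.toAlgebra
  have hK : IsField ↑Γ(T', ⊤) := isField_of_isIntegral_of_subsingleton T'
  letI : Field ↑Γ(T', ⊤) := hK.toField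
  let q : Spec (CommRingCat.of ↑Γ(S, U₀)) ⟶ S := hU₀.fromSpec
  let ι : T' ≅ Spec Γ(T', ⊤) := T'.isoSpec
  have htK : tK ↑Γ(S, U₀) ↑Γ(T', ⊤) q = ι.inv ≫ t := by
    have h1 := IsAffineOpen.SpecMap_appLE_fromSpec t hU₀ (isAffineOpen_top T') e
    rw [IsAffineOpen.fromSpec_top] at h1
    exact h1
  have sqAK : IsPullback eA (a' ≫ ι.hom) a (tK ↑Γ(S, U₀) ↑Γ(T', ⊤) q) := by
    have h0 : IsPullback (𝟙 A') (a' ≫ ι.hom) a' ι.inv :=
      IsPullback.of_horiz_isIso ⟨by rw [Category.assoc, Iso.hom_inv_id, Category.comp_id,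
        Category.id_comp]⟩
    have := h0.paste_horiz sqA
    rw [Category.id_comp, ← htK] at this
    exact this
  have sqBK : IsPullback eB (b' ≫ ι.hom) b (tK ↑Γ(S, U₀) ↑Γ(T', ⊤) q) := by
    have h0 : IsPullback (𝟙 B') (b' ≫ ι.hom) b' ι.inv :=
      IsPullback.of_horiz_isIso ⟨by rw [Category.assoc, Iso.hom_inv_id, Category.comp_id,
        Category.id_comp]⟩
    have := h0.paste_horiz sqB
    rw [Category.id_comp, ← htK] at this
    exact this
  let g' : pullback a (tK ↑Γ(S, U₀) ↑Γ(T', ⊤) q) ⟶ pullback b (tK ↑Γ(S, U₀) ↑Γ(T', ⊤) q) :=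
    sqAK.isoPullback.inv ≫ φ' ≫ sqBK.isoPullback.hom
  have hQg' : Q g' := by
    change Q (sqAK.isoPullback.inv ≫ φ' ≫ sqBK.isoPullback.hom)
    rw [Q.cancel_left_of_respectsIso, Q.cancel_right_of_respectsIso]
    exact hQφ'
  have hg' : g' ≫ pullback.snd b _ = pullback.snd a _ := by
    change (sqAK.isoPullback.inv ≫ φ' ≫ sqBK.isoPullback.hom) ≫ pullback.snd b _ = _
    rw [Category.assoc, Category.assoc, IsPullback.isoPullback_hom_snd, ← Category.assoc φ', hφ'b,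
      IsPullback.isoPullback_inv_snd]
  have hg'φ : g' ≫ pullback.fst b _ = pullback.fst a _ ≫ φ := by
    change (sqAK.isoPullback.inv ≫ φ' ≫ sqBK.isoPullback.hom) ≫ pullback.fst b _ = _
    rw [Category.assoc, Category.assoc, IsPullback.isoPullback_hom_fst, hφ'e, ← Category.assoc,
      IsPullback.isoPullback_inv_fst]
  obtain ⟨s, hQs⟩ := exists_Q_bcφ hQ φ hφ g' hg' hg'φ hQg'
  obtain ⟨hint, hlft, hgen⟩ := model_props ↑Γ(S, U₀) ↑Γ(T', ⊤) q s
  let p := pS ↑Γ(S, U₀) ↑Γ(T', ⊤) q s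
  let j : T' ⟶ Spec (CommRingCat.of (adj ↑Γ(S, U₀) ↑Γ(T', ⊤) s)) :=
    ι.hom ≫ jK ↑Γ(S, U₀) ↑Γ(T', ⊤) s
  have hjp : j ≫ p = t := by
    change (ι.hom ≫ jK _ _ s) ≫ pS _ _ q s = t
    rw [Category.assoc, jK_pS, htK, Iso.hom_inv_id_assoc]
  refine ⟨Spec (CommRingCat.of (adj ↑Γ(S, U₀) ↑Γ(T', ⊤) s)), p, j, hint, inferInstance, hlft, hjp,
    fun x => hgen (ι.hom x), ?_⟩
  intro A₁ B₁ eA₁ a₁ eB₁ b₁ φ₁ sqA₁ sqB₁ hφ₁b hφ₁e
  have key : φ₁ = sqA₁.isoPullback.hom ≫ bcφ ↑Γ(S, U₀) ↑Γ(T', ⊤) q a b φ hφ s ≫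
      sqB₁.isoPullback.inv := by
    apply sqB₁.hom_ext
    · rw [Category.assoc, Category.assoc, IsPullback.isoPullback_inv_fst, bcφ_fst, hφ₁e,
        ← Category.assoc, IsPullback.isoPullback_hom_fst]
    · rw [Category.assoc, Category.assoc, IsPullback.isoPullback_inv_snd, bcφ_snd, hφ₁b,
        IsPullback.isoPullback_hom_snd]
  rw [key, Q.cancel_left_of_respectsIso, Q.cancel_right_of_respectsIso]
  exact hQs

end Groth.Agent.Lib.helper5.FGLimit
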