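import Groth.Agent.Lib.Helper5.ConsPair3
import Groth.Agent.Lib.Helper5.FGDescent8

/-!
# Ind-constructible properties of pairs of algebraic schemes, IV (helper5)

`isIndConsPair_pairRel_of_limDescends` : if `Q` is stable under base change, invariant under
extension of the base field, and satisfies EGA IV 8.10.5 (`LimDescends Q`), then "geometrically
there is a morphism with `Q`" is an ind-constructible property of pairs.
-/

set_option autoImplicit false
set_option backward.isDefEq.respectTransparency false
universe u
open CategoryTheory CategoryTheory.Limits AlgebraicGeometry Topology TopologicalSpace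

namespace Groth.Agent.Lib.helper5.ConsFibre

variable {Q : MorphismProperty Scheme.{u}}

theorem isIndConsPair_pairRel_of_limDescends [Q.IsStableUnderBaseChange]
    (hfs : ConsProp.IsFieldStableMor (fun X Y T f g => Q f))
    (hQ : Groth.Agent.Lib.helper5.FGLimit.LimDescends Q) :
    ConsPropPair.IsIndConsPair (PairRel Q) := by
  refine isIndConsPair_pairRel_of_spread_base hfs ?_
  intro S X Y T' X' Y' u v _ _ _ _ _ _ _ _ _ t gX' gY' eX eY sqX sqY g₀ hg₀ g hg hge hQg
  haveI : IsNoetherian X := isNoetherian_of_lft u
  haveI : IsNoetherian Y := isNoetherian_of_lft v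
  obtain ⟨S₁, p, j, hS₁i, hS₁a, hp, hjp, hgen, H⟩ :=
    Groth.Agent.Lib.helper5.FGLimit.exists_baseChange_of_limDescends hQ u v t sqX sqY g₀ hg₀ g hQg
      hg hge
  haveI := hS₁i
  haveI := hS₁a
  haveI := hp
  let g₁ : pullback u p ⟶ pullback v p :=
    pullback.map u p v p g₀ (𝟙 _) (𝟙 _) (by rw [Category.comp_id, hg₀])
      (by rw [Category.comp_id, Category.id_comp])
  have hg₁fst : g₁ ≫ pullback.fst v p = pullback.fst u p ≫ g₀ := by
    change pullback.map _ _ _ _ _ _ _ _ _ ≫ _ = _
    rw [pullback.map, pullback.lift_fst]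
  have hg₁snd : g₁ ≫ pullback.snd v p = pullback.snd u p := by
    change pullback.map _ _ _ _ _ _ _ _ _ ≫ _ = _
    rw [pullback.map, pullback.lift_snd, Category.comp_id]
  have hQ₁ : Q g₁ := H (pullback.fst u p) (pullback.snd u p) (pullback.fst v p) (pullback.snd v p)
    g₁ (IsPullback.of_hasPullback u p) (IsPullback.of_hasPullback v p) hg₁snd hg₁fst
  refine ⟨S₁, p, j, pullback u p, pullback v p, pullback.fst u p, pullback.snd u p,
    pullback.fst v p, pullback.snd v p, g₁, hS₁i, hp, inferInstance, hjp, hgen,
    IsPullback.of_hasPullback u p, IsPullback.of_hasPullback v p, hg₁snd, ?_⟩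
  have hall : ConsProp.locusMor (fun X Y T f g => Q f) g₁ (pullback.snd v p) = Set.univ := by
    ext s₁
    simp only [Set.mem_univ, iff_true]
    change Q (MoreMor.fiberMap g₁ (pullback.snd v p) s₁)
    exact MorphismProperty.of_isPullback (P := Q) (isPullback_fiberMap g₁ (pullback.snd v p) s₁)
      hQ₁
  rw [hall, interior_univ]
  exact ⟨genericPoint ↥S₁, trivial⟩

end Groth.Agent.Lib.helper5.ConsFibre
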