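import Groth.Agent.Lib.Helper5.ConsPair4
import Groth.Agent.S1124

/-!
# Field stability of the property of being an immersion (helper5)
-/

set_option autoImplicit false
set_option backward.isDefEq.respectTransparency false
universe u
open CategoryTheory CategoryTheory.Limits AlgebraicGeometry Topology TopologicalSpace

namespace Groth.Agent.Lib.helper5.ConsFibre

theorem isFieldStableMor_isImmersion :
    ConsProp.IsFieldStableMor.{u} (fun X Y T f g => @IsImmersion X Y f) := by
  intro X X' Y Y' T T' f g f' g' eX eY h _ _ _ _ _ _ _ _ sqY sqX
  have hh := fpqc_of_subsingleton h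
  have heY : (@Surjective ⊓ @Flat ⊓ @QuasiCompact : MorphismProperty Scheme.{u}) eY :=
    MorphismProperty.of_isPullback sqY.flip hh
  constructor
  · intro hf
    exact MorphismProperty.of_isPullback (P := @IsImmersion) sqX hf
  · intro hf'
    haveI : IsNoetherian T' := isNoetherian_of_subsingleton T'
    have sqXY : IsPullback eX (f' ≫ g') (f ≫ g) h := sqX.paste_vert sqY
    haveI : LocallyOfFiniteType (f' ≫ g') :=
      MorphismProperty.of_isPullback (P := @LocallyOfFiniteType) sqXY inferInstance
    haveI : QuasiCompact (f' ≫ g') :=
      MorphismProperty.of_isPullback (P := @QuasiCompact) sqXY inferInstance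
    haveI : IsNoetherian X' := isNoetherian_of_lft (f' ≫ g')
    have hqc : QuasiCompact f' := quasiCompact_of_isNoetherian f'
    haveI := Groth.Agent.S1124.result.{u}
    have : (@IsImmersion ⊓ @QuasiCompact : MorphismProperty Scheme.{u}) f :=
      MorphismProperty.of_isPullback_of_descendsAlong
        (P := (@IsImmersion ⊓ @QuasiCompact : MorphismProperty Scheme.{u}))
        (Q := (@Surjective ⊓ @Flat ⊓ @QuasiCompact : MorphismProperty Scheme.{u}))
        sqX.flip heY ⟨hf', hqc⟩
    exact this.1

end Groth.Agent.Lib.helper5.ConsFibre
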