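import Groth.Agent.Lib.Helper5.SchemeBridge

/-!
Quasi-affine descent for schemes, deduced from the algebraic-space version (helper5).
-/

set_option autoImplicit false
universe u
open CategoryTheory CategoryTheory.Limits AlgebraicGeometry Opposite
open AlgSp

namespace Groth.Agent.Lib.helper5.Bridge

/-- Core: a scheme over an affine scheme which is quasi-affine after base change along a finite jointly surjective family of flat
morphisms from affine schemes is quasi-affine (`Fin m`-indexed form). -/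
theorem isQuasiAffine_of_flat_family_fin {V U : Scheme.{u}} [IsAffine V] (φ : U ⟶ V) {m : ℕ}
    (W : Fin m → Scheme.{u}) (w : ∀ j, W j ⟶ V) (hW : ∀ j, IsAffine (W j)) (hflat : ∀ j, Flat (w j))
    (hsurj : ∀ v : V, ∃ j, v ∈ Set.range (w j))
    (P : Fin m → Scheme.{u}) (p1 : ∀ j, P j ⟶ U) (p2 : ∀ j, P j ⟶ W j)
    (sq : ∀ j, IsPullback (p1 j) (p2 j) φ (w j)) (hP : ∀ j, (P j).IsQuasiAffine) : U.IsQuasiAffine := by
  have hT : IsAffine (term V).left := inferInstanceAs (IsAffine V)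
  obtain ⟨Y', tY, c, hY', hc, -⟩ := QAffDesc.exists_quasiAffine_rep (S := V) (T := term V)
    (IsAlgSpace.yon_obj (Over.mk φ)) ((yon V).map (toTerm φ)) (fun j => Over.mk (w j)) (fun j => toTerm (w j))
    hW hflat hsurj (fun j => Over.mk (p1 j ≫ φ)) hP
    (fun j => (yon V).map (Over.homMk (p1 j) rfl : Over.mk (p1 j ≫ φ) ⟶ Over.mk φ))
    (fun j => (Over.homMk (p2 j) (sq j).w.symm : Over.mk (p1 j ≫ φ) ⟶ Over.mk (w j)))
    (fun j => isPullback_yon (sq j))
  let e : Over.mk φ ≅ Y' := (yon V).preimageIso (asIso c)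
  have hiso : IsIso e.hom.left := inferInstanceAs (IsIso ((Over.forget V).map e.hom))
  exact Scheme.IsQuasiAffine.of_isAffineHom e.hom.left

/-- The same for a family indexed by a finite type. -/
theorem isQuasiAffine_of_flat_family {V U : Scheme.{u}} [IsAffine V] (φ : U ⟶ V) {ι : Type*} [Finite ι]
    (W : ι → Scheme.{u}) (w : ∀ j, W j ⟶ V) (hW : ∀ j, IsAffine (W j)) (hflat : ∀ j, Flat (w j))
    (hsurj : ∀ v : V, ∃ j, v ∈ Set.range (w j))
    (P : ι → Scheme.{u}) (p1 : ∀ j, P j ⟶ U) (p2 : ∀ j, P j ⟶ W j)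
    (sq : ∀ j, IsPullback (p1 j) (p2 j) φ (w j)) (hP : ∀ j, (P j).IsQuasiAffine) : U.IsQuasiAffine := by
  obtain ⟨m, ⟨e⟩⟩ := Finite.exists_equiv_fin ι
  refine isQuasiAffine_of_flat_family_fin φ (fun k => W (e.symm k)) (fun k => w (e.symm k))
    (fun k => hW _) (fun k => hflat _) (fun v => ?_) (fun k => P (e.symm k)) (fun k => p1 _) (fun k => p2 _)
    (fun k => sq _) (fun k => hP _)
  obtain ⟨j, hj⟩ := hsurj v
  exact ⟨e j, by rw [e.symm_apply_apply]; exact hj⟩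

/-- The base change of a quasi-affine morphism along an open immersion from an affine scheme is a quasi-affine scheme. -/
theorem isQuasiAffine_of_isPullback_openImmersion {A X W P : Scheme.{u}} (fst : A ⟶ X)
    (hfst : ∀ V : X.Opens, IsAffineOpen V → Scheme.IsQuasiAffine (fst ⁻¹ᵁ V : Scheme.{u}))
    (ι : W ⟶ X) [IsOpenImmersion ι] [IsAffine W] {a : P ⟶ A} {b : P ⟶ W} (sq : IsPullback a b fst ι) :
    P.IsQuasiAffine := by
  have ha : IsOpenImmersion a := MorphismProperty.of_isPullback (P := @IsOpenImmersion) sq.flip inferInstance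
  have hrange : Set.range a = Set.range (fst ⁻¹ᵁ ι.opensRange).ι := by
    rw [Scheme.Opens.range_ι]
    ext x
    constructor
    · rintro ⟨z, rfl⟩
      show fst (a z) ∈ Set.range ι
      refine ⟨b z, ?_⟩
      rw [← Scheme.Hom.comp_apply, ← sq.w, Scheme.Hom.comp_apply]
    · rintro ⟨y, hy⟩
      obtain ⟨z, hz1, -⟩ := AffDesc.exists_preimage_of_isPullback sq x y hy.symm
      exact ⟨z, hz1⟩
  have hq : Scheme.IsQuasiAffine (fst ⁻¹ᵁ ι.opensRange : Scheme.{u}) := hfst _ (isAffineOpen_opensRange ι)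
  exact Scheme.IsQuasiAffine.of_isAffineHom (IsOpenImmersion.isoOfRangeEq a (fst ⁻¹ᵁ ι.opensRange).ι hrange).hom

/-- Quasi-affineness of preimages of affine opens descends along surjective flat quasi-compact morphisms. -/
theorem isQuasiAffine_preimage_of_isPullback {A X Y Z : Scheme.{u}} {fst : A ⟶ X} {snd : A ⟶ Y} {f : X ⟶ Z}
    {g : Y ⟶ Z} (h : IsPullback fst snd f g) [Surjective f] [Flat f] [QuasiCompact f]
    (hfst : ∀ V : X.Opens, IsAffineOpen V → Scheme.IsQuasiAffine (fst ⁻¹ᵁ V : Scheme.{u}))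
    (V : Z.Opens) (hV : IsAffineOpen V) : Scheme.IsQuasiAffine (g ⁻¹ᵁ V : Scheme.{u}) := by
  have hVa : IsAffine (V : Scheme.{u}) := hV
  have hc : CompactSpace ↥(f ⁻¹ᵁ V : Scheme.{u}) :=
    isCompact_iff_compactSpace.1 (f.isCompact_preimage hV.isCompact)
  let 𝒰 := (f ⁻¹ᵁ V : Scheme.{u}).affineCover.finiteSubcover
  have hfin : Finite 𝒰.I₀ := inferInstance
  have hWa : ∀ j, IsAffine (𝒰.X j) := fun j =>
    inferInstanceAs (IsAffine ((f ⁻¹ᵁ V : Scheme.{u}).affineCover.X _))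
  let ι' : ∀ j, 𝒰.X j ⟶ X := fun j => 𝒰.f j ≫ (f ⁻¹ᵁ V).ι
  have hι' : ∀ j, IsOpenImmersion (ι' j) := fun j => inferInstance
  have hres : (f ∣_ V) ≫ V.ι = (f ⁻¹ᵁ V).ι ≫ f := (isPullback_morphismRestrict f V).w
  refine isQuasiAffine_of_flat_family (g ∣_ V) (fun j => 𝒰.X j) (fun j => 𝒰.f j ≫ (f ∣_ V)) hWa
    (fun j => inferInstance) (fun v => ?_) (fun j => pullback (g ∣_ V) (𝒰.f j ≫ (f ∣_ V)))
    (fun j => pullback.fst _ _) (fun j => pullback.snd _ _) (fun j => IsPullback.of_hasPullback _ _)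
    (fun j => ?_)
  · obtain ⟨x, hx⟩ := f.surjective v.1
    have hxV : x ∈ f ⁻¹ᵁ V := by
      show f x ∈ V
      rw [hx]; exact v.2
    obtain ⟨j, y, hy⟩ := 𝒰.exists_eq (⟨x, hxV⟩ : ↥(f ⁻¹ᵁ V : Scheme.{u}))
    refine ⟨j, y, ?_⟩
    apply V.ι.injective
    rw [Scheme.Hom.comp_apply, hy, ← Scheme.Hom.comp_apply, hres, Scheme.Hom.comp_apply]
    exact hx
  · have big1 : IsPullback (pullback.fst (g ∣_ V) (𝒰.f j ≫ (f ∣_ V)))
        (pullback.snd (g ∣_ V) (𝒰.f j ≫ (f ∣_ V))) (g ∣_ V) (𝒰.f j ≫ (f ∣_ V)) :=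
      IsPullback.of_hasPullback _ _
    have big2 := big1.paste_horiz (isPullback_morphismRestrict g V).flip
    have hbot : (𝒰.f j ≫ (f ∣_ V)) ≫ V.ι = ι' j ≫ f := by
      rw [Category.assoc, hres, ← Category.assoc]
    rw [hbot] at big2
    let ℓ : pullback (g ∣_ V) (𝒰.f j ≫ (f ∣_ V)) ⟶ A :=
      h.lift (pullback.snd _ _ ≫ ι' j) (pullback.fst _ _ ≫ (g ⁻¹ᵁ V).ι) (by
        rw [Category.assoc, Category.assoc]
        exact big2.w.symm)
    have hℓ1 : ℓ ≫ fst = pullback.snd _ _ ≫ ι' j := h.lift_fst _ _ _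
    have hℓ2 : ℓ ≫ snd = pullback.fst _ _ ≫ (g ⁻¹ᵁ V).ι := h.lift_snd _ _ _
    rw [← hℓ2] at big2
    have sq := IsPullback.of_right big2 hℓ1 h.flip
    exact isQuasiAffine_of_isPullback_openImmersion fst hfst (ι' j) sq

end Groth.Agent.Lib.helper5.Bridge
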