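import Groth.Agent.Lib.Helper5.ConsPair6
import Groth.Agent.S2592
import Groth.Agent.S2339
import Groth.Agent.S2338
import Groth.Agent.S1127

/-!
# "Geometrically there is a quasi-affine morphism" is ind-constructible (helper5)
-/

set_option autoImplicit false
set_option backward.isDefEq.respectTransparency false
universe u
open CategoryTheory CategoryTheory.Limits AlgebraicGeometry Topology TopologicalSpace

namespace Groth.Agent.Lib.helper5.ConsFibre

open Groth.Agent.Lib.helper5.FGLimit Groth.Agent.Lib.helper5.PBLimit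

/-- the property of being a quasi-affine morphism. -/
def QA : MorphismProperty Scheme.{u} := fun _ _ f => MoreMor.IsQuasiAffineHom f

theorem qa_iff {X Y : Scheme.{u}} (f : X ⟶ Y) : QA f ↔ Mor2.IsQuasiAffine f := Iff.rfl

theorem qa_of_isIso {X Y : Scheme.{u}} (e : X ⟶ Y) [IsIso e] : Mor2.IsQuasiAffine e := by
  refine ⟨inferInstance, fun V hV => ?_⟩
  haveI : IsAffine ((e ⁻¹ᵁ V : X.Opens) : Scheme.{u}) := hV.preimage_of_isIso e
  infer_instance

instance : QA.{u}.RespectsIso :=
  MorphismProperty.RespectsIso.mk _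
    (fun e f hf => Groth.Agent.S2338.result e.hom f (qa_of_isIso e.hom) hf)
    (fun e f hf => Groth.Agent.S2338.result f e.hom hf (qa_of_isIso e.hom))

instance : QA.{u}.IsStableUnderBaseChange :=
  MorphismProperty.IsStableUnderBaseChange.of_forall_exists_isPullback
    (fun {X Y Z} f g _ hg => ⟨pullback g f, pullback.snd g f, pullback.fst g f,
      (IsPullback.of_hasPullback g f).flip, Groth.Agent.S2339.result g hg f⟩)

instance : QA.{u}.DescendsAlong
    (@Surjective ⊓ @Flat ⊓ @QuasiCompact : MorphismProperty Scheme.{u}) :=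
  Groth.Agent.S1127.result.{u}

theorem algSpreads_QA : AlgSpreads QA.{u} := by
  intro S R K _ _ _ q X Y u v _ _ _ _ _ _ φ hφ g' hg' hg'φ hQ
  classical
  haveI : LocallyOfFinitePresentation (pullback.snd v (pS R K q ∅)) :=
    MorphismProperty.pullback_snd (P := @LocallyOfFinitePresentation) _ _ inferInstance
  haveI : QuasiCompact (pullback.snd v (pS R K q ∅)) :=
    MorphismProperty.pullback_snd (P := @QuasiCompact) _ _ inferInstance
  haveI : QuasiSeparated (pullback.snd v (pS R K q ∅)) :=
    MorphismProperty.pullback_snd (P := @QuasiSeparated) _ _ inferInstance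
  haveI : LocallyOfFinitePresentation (bcφ R K q u v φ hφ ∅ ≫ pullback.snd v (pS R K q ∅)) := by
    rw [bcφ_snd]
    exact MorphismProperty.pullback_snd (P := @LocallyOfFinitePresentation) _ _ inferInstance
  haveI : QuasiCompact (bcφ R K q u v φ hφ ∅ ≫ pullback.snd v (pS R K q ∅)) := by
    rw [bcφ_snd]
    exact MorphismProperty.pullback_snd (P := @QuasiCompact) _ _ inferInstance
  haveI : QuasiSeparated (bcφ R K q u v φ hφ ∅ ≫ pullback.snd v (pS R K q ∅)) := by
    rw [bcφ_snd]
    exact MorphismProperty.pullback_snd (P := @QuasiSeparated) _ _ inferInstance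
  have hY : IsPullback (πX R K q v ∅) (pullback.snd v (tK R K q)) (pullback.snd v (pS R K q ∅))
      ((specCone R K).π.app (Opposite.op ∅)) := isPullback_πX v ∅
  obtain ⟨i, ψ, Xi, Yi, fi, gi, pY, pX, hYi, hXi, hQi⟩ :=
    Groth.Agent.S2592.result (specDiagram R K) (specCone R K) (isLimitSpecCone R K) (Opposite.op ∅)
      (X₀ := pullback u (pS R K q ∅)) (Y₀ := pullback v (pS R K q ∅))
      (bcφ R K q u v φ hφ ∅) (pullback.snd v (pS R K q ∅)) g' (pullback.snd v (tK R K q))
      (πX R K q v ∅) (πX R K q u ∅) hY (isPullback_πX_bcφ φ hφ g' hg' hg'φ ∅) hQ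
  have hψ : (specDiagram R K).map ψ ≫ pS R K q ∅ = pS R K q i.unop :=
    τ_w (specDiagram R K) (specτ R K q) ψ
  exact ⟨i.unop, Q_bcφ_of_squares' (Q := QA) φ hφ ((specDiagram R K).map ψ) hψ fi gi pY pX hYi hXi
    hQi⟩

/-- EGA IV 9.3.x for quasi-affine morphisms. -/
theorem isIndConsPair_pairRel_QA : ConsPropPair.IsIndConsPair (PairRel QA.{u}) :=
  isIndConsPair_pairRel_of_algSpreads (isFieldStableMor_of_descendsAlong QA) algSpreads_QA

end Groth.Agent.Lib.helper5.ConsFibre
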