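import Groth.Agent.Lib.Helper5.ConsSep1

/-!
# Closures and fibres near the generic point, II (helper5)

* `dense_interior_of_isConstructible` : a dense constructible subset of a locally Noetherian scheme
  has dense interior.
* `exists_open_closure_inter_fibre` (EGA IV 9.5.2).
* `exists_open_not_isClosed_fibre`, `exists_open_dense_fibre_or`.
-/

set_option autoImplicit false
universe u
open CategoryTheory CategoryTheory.Limits AlgebraicGeometry Topology TopologicalSpace

namespace Groth.Agent.Lib.helper5.ConsSep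

open Groth.Agent.Lib.helper5.ConsFibre

theorem dense_interior_of_isConstructible {T : Scheme.{u}} [IsLocallyNoetherian T] (A : Set T)
    (hA : IsConstructible A) (hd : Dense A) : Dense (interior A) := by
  rw [dense_iff_inter_open]
  intro O hO hOne
  obtain ⟨t, ht⟩ := hOne
  obtain ⟨ζ, hζsp, hζmax⟩ := exists_maximal_generization t
  have hζO : ζ ∈ O := hζsp.mem_open hO ht
  -- an open neighbourhood of `ζ` inside `closure {ζ}`
  obtain ⟨c, hc⟩ := Groth.Agent.Lib.helper3.NowhereDenseGen.interior_nonempty_of_maximal_point ζ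
    hζmax (closure {ζ}) isClosed_closure (subset_closure rfl)
  have hζN : ζ ∈ interior (closure ({ζ} : Set T)) := by
    have hsp : ζ ⤳ c := specializes_iff_mem_closure.mpr (interior_subset hc)
    exact hsp.mem_open isOpen_interior hc
  have hcons := Groth.Agent.Lib.helper3.ChainDim.exists_open_of_isConstructible ζ hA
  by_cases hζA : ζ ∈ A
  · obtain ⟨W, hW, hζW, hsub⟩ := hcons.1 hζA
    refine ⟨ζ, hζO, ?_⟩
    rw [mem_interior]
    refine ⟨W ∩ interior (closure {ζ}), ?_, hW.inter isOpen_interior, hζW, hζN⟩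
    rintro x ⟨hxW, hxN⟩
    exact hsub ⟨hxW, interior_subset hxN⟩
  · exfalso
    obtain ⟨W, hW, hζW, hsub⟩ := hcons.2 hζA
    obtain ⟨x, ⟨hxW, hxN⟩, hxA⟩ := hd.inter_open_nonempty (W ∩ interior (closure {ζ}))
      (hW.inter isOpen_interior) ⟨ζ, hζW, hζN⟩
    exact hsub ⟨hxW, interior_subset hxN⟩ hxA

/-- EGA IV 9.5.2: closures commute with passing to the fibres near the generic point. -/
theorem exists_open_closure_inter_fibre {W S : Scheme.{u}} [IsIntegral S] [IsNoetherian S]
    (π : W ⟶ S) [LocallyOfFiniteType π] [QuasiCompact π] (A : Set W) (hA : IsConstructible A) :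
    ∃ V : S.Opens, (V : Set S).Nonempty ∧
      ∀ s ∈ V, closure A ∩ π ⁻¹' {s} ⊆ closure (A ∩ π ⁻¹' {s}) := by
  haveI : IsNoetherian W := isNoetherian_of_lft π
  let C : Closeds W := ⟨closure A, isClosed_closure⟩
  set ι := (Scheme.IdealSheafData.vanishingIdeal C).subschemeι with hι
  have hrange : Set.range ι = closure A := range_subschemeι_vanishingIdeal C
  haveI : IsNoetherian (Scheme.IdealSheafData.vanishingIdeal C).subscheme := isNoetherian_of_lft ι
  -- the trace of `A`
  have hA' : IsConstructible (ι ⁻¹' A) :=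
    hA.preimage ι.continuous (fun s _ _ U _ _ => NoetherianSpace.isCompact _)
  have hd' : Dense (ι ⁻¹' A) := by
    intro t
    have ht : ι t ∈ closure A := by rw [← hrange]; exact ⟨t, rfl⟩
    rw [mem_closure_iff]
    intro O hO htO
    obtain ⟨O', hO', rfl⟩ := ι.isEmbedding.isInducing.isOpen_iff.mp hO
    obtain ⟨a, haO', haA⟩ := mem_closure_iff.mp ht O' hO' htO
    have har : a ∈ Set.range ι := by rw [hrange]; exact subset_closure haA
    obtain ⟨t', rfl⟩ := har
    exact ⟨t', haO', haA⟩
  have hdi := dense_interior_of_isConstructible (ι ⁻¹' A) hA' hd'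
  obtain ⟨V, hV, H⟩ := exists_open_fibre_subset_closure (ι ≫ π) (interior (ι ⁻¹' A))
    isOpen_interior hdi
  refine ⟨V, hV, fun s hs w hw => ?_⟩
  have hwr : w ∈ Set.range ι := by rw [hrange]; exact hw.1
  obtain ⟨t, rfl⟩ := hwr
  have ht : t ∈ (ι ≫ π) ⁻¹' {s} := by
    change (ι ≫ π) t = s
    rw [Scheme.Hom.comp_apply]
    exact hw.2
  have h1 := H s hs ht
  have h2 : ι t ∈ closure (ι '' (interior (ι ⁻¹' A) ∩ (ι ≫ π) ⁻¹' {s})) :=
    image_closure_subset_closure_image ι.continuous ⟨t, h1, rfl⟩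
  refine closure_mono ?_ h2
  rintro _ ⟨x, ⟨hx1, hx2⟩, rfl⟩
  refine ⟨(interior_subset hx1 : x ∈ ι ⁻¹' A), ?_⟩
  have : (ι ≫ π) x = s := hx2
  rwa [Scheme.Hom.comp_apply] at this

end Groth.Agent.Lib.helper5.ConsSep
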