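import Mathlib
import Groth.Agent.Lib.Helper5.QuotDiag2
import Groth.Agent.S10259
import Groth.Agent.Lib.Helper5.AlgSpLocPInst
import Groth.Agent.Lib.Helper1.SevenProps
import Groth.Agent.Lib.Helper5.AlgSpCoprod
import Groth.Agent.Lib.Helper5.FppfBoot4

/-!
# Algebraic spaces locally of finite type over a field of dimension zero (helper5)

`exists_separated_scheme_of_dim_zero` (S10451): such a space is a separated scheme all of whose quasi-compact opens are affine.
-/

set_option autoImplicit false
universe u

open AlgebraicGeometry CategoryTheory CategoryTheory.Limits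

namespace Groth.Agent.Lib.helper5.DimZeroField

open AlgSp

section Scheme

/-- A scheme locally of finite type over a field of dimension `≤ 0` is locally Artinian. -/
theorem isLocallyArtinian_of_lft_field {k : Type u} [Field k] {U : Scheme.{u}}
    (f : U ⟶ Spec (CommRingCat.of k)) [LocallyOfFiniteType f] (h : topologicalKrullDim ↥U ≤ 0) :
    IsLocallyArtinian U := by
  haveI : IsLocallyNoetherian U := LocallyOfFiniteType.isLocallyNoetherian f
  exact IsLocallyArtinian.of_topologicalKrullDim_le_zero h

/-- A morphism locally of finite type from a locally Artinian scheme is locally quasi-finite. -/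
theorem locallyQuasiFinite_of_isLocallyArtinian {U Y : Scheme.{u}} (f : U ⟶ Y) [LocallyOfFiniteType f]
    [IsLocallyArtinian U] : LocallyQuasiFinite f := by
  rw [locallyQuasiFinite_iff_isDiscrete_preimage_singleton]
  intro y
  exact ⟨inferInstance⟩

/-- A monomorphism locally of finite type into a locally Artinian scheme is a closed immersion. -/
theorem isClosedImmersion_of_mono_of_isLocallyArtinian {R Y : Scheme.{u}} (j : R ⟶ Y) [Mono j]
    [LocallyOfFiniteType j] [IsLocallyArtinian Y] : IsClosedImmersion j := by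
  haveI : LocallyQuasiFinite j := LocallyQuasiFinite.of_injective j.injective
  haveI : QuasiCompact j := by
    refine ⟨fun V hV hVc => ?_⟩
    have hfin : (V : Set ↥Y).Finite := hVc.finite_of_discrete
    exact (hfin.preimage (j.injective.injOn)).isCompact
  haveI : IsFinite j := IsFinite.of_locallyQuasiFinite j
  exact (IsClosedImmersion.iff_isFinite_and_mono j).mpr ⟨inferInstance, inferInstance⟩

/-- Quasi-compact opens of a scheme locally quasi-finite over a field are affine. -/
theorem isAffineOpen_of_isCompact {k : Type u} [Field k] {U : Scheme.{u}}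
    (f : U ⟶ Spec (CommRingCat.of k)) [LocallyQuasiFinite f] (V : U.Opens) (hV : IsCompact (V : Set ↥U)) :
    IsAffineOpen V := by
  haveI : CompactSpace ↥(V : Scheme.{u}) := isCompact_iff_compactSpace.mp hV
  haveI : QuasiCompact (V.ι ≫ f) := (HasAffineProperty.iff_of_isAffine (P := @QuasiCompact)).mpr ‹_›
  haveI : IsLocallyArtinian (Spec (CommRingCat.of k)) :=
    Scheme.isLocallyArtinianScheme_Spec.mpr (inferInstanceAs (IsArtinianRing k))
  haveI : IsFinite (V.ι ≫ f) := IsFinite.of_locallyQuasiFinite (V.ι ≫ f)
  have : IsAffine (V : Scheme.{u}) := isAffine_of_isAffineHom (V.ι ≫ f)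
  exact this

end Scheme

section Main

variable {S : Scheme.{u}}

open Groth.Agent.Lib.helper5.LocPBC

/-- A chart of a sheaf over the terminal sheaf commutes with the structure morphism. -/
theorem chart_comm {F : Sp S} (p : F ⟶ (yon S).obj (Over.mk (𝟙 S))) {U : Over S}
    (a : (yon S).obj U ⟶ F) : a ≫ p = (yon S).map (Over.mkIdTerminal.from U) ≫ 𝟙 _ :=
  Groth.Agent.Lib.helper5.Coprod.isTerminalYon.hom_ext _ _

/-- If `F ⟶ h_S` has `P` étale locally, then the structure morphism of every étale chart has `P`. -/
theorem chart_prop {P : MorphismProperty Scheme.{u}} {F : Sp S} (p : F ⟶ (yon S).obj (Over.mk (𝟙 S)))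
    (hp : LocP P p) {U : Over S} (a : (yon S).obj U ⟶ F) (hae : RepWith @Etale a) : P U.hom := by
  have := hp a (𝟙 _) (Over.mkIdTerminal.from U) hae (repWith_id _ _) (chart_comm p a)
  rwa [Over.mkIdTerminal_from_left] at this

theorem fst_comp_eq_snd_comp {F : Sp S} (p : F ⟶ (yon S).obj (Over.mk (𝟙 S))) :
    (prod.fst : F ⨯ F ⟶ F) ≫ p = prod.snd ≫ p :=
  Groth.Agent.Lib.helper5.Coprod.isTerminalYon.hom_ext _ _

/-- Over the terminal sheaf the fibre product is the product. -/
noncomputable def pullbackIsoProd {F : Sp S} (p : F ⟶ (yon S).obj (Over.mk (𝟙 S))) :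
    pullback p p ≅ F ⨯ F where
  hom := prod.lift (pullback.fst p p) (pullback.snd p p)
  inv := pullback.lift prod.fst prod.snd (fst_comp_eq_snd_comp p)
  hom_inv_id := by
    apply pullback.hom_ext
    · rw [Category.assoc, pullback.lift_fst, prod.lift_fst, Category.id_comp]
    · rw [Category.assoc, pullback.lift_snd, prod.lift_snd, Category.id_comp]
  inv_hom_id := by
    apply Limits.prod.hom_ext
    · rw [Category.assoc, prod.lift_fst, pullback.lift_fst, Category.id_comp]
    · rw [Category.assoc, prod.lift_snd, pullback.lift_snd, Category.id_comp]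

theorem diagonal_eq_diag_comp {F : Sp S} (p : F ⟶ (yon S).obj (Over.mk (𝟙 S))) :
    pullback.diagonal p = Limits.diag F ≫ (pullbackIsoProd p).inv := by
  apply pullback.hom_ext
  · rw [pullback.diagonal_fst, Category.assoc]
    show _ = Limits.diag F ≫ pullback.lift prod.fst prod.snd (fst_comp_eq_snd_comp p) ≫ pullback.fst p p
    rw [pullback.lift_fst, prod.lift_fst]
  · rw [pullback.diagonal_snd, Category.assoc]
    show _ = Limits.diag F ≫ pullback.lift prod.fst prod.snd (fst_comp_eq_snd_comp p) ≫ pullback.snd p p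
    rw [pullback.lift_snd, prod.lift_snd]

/-- A separated sheaf is separated over the terminal sheaf. -/
theorem isSeparatedMor_of_isSeparatedSp {F : Sp S} (p : F ⟶ (yon S).obj (Over.mk (𝟙 S)))
    (h : IsSeparatedSp F) : IsSeparatedMor p := by
  unfold IsSeparatedMor
  rw [diagonal_eq_diag_comp p]
  exact MorphismProperty.RespectsIso.postcomp (RepWith @IsClosedImmersion) (pullbackIsoProd p).inv
    (Limits.diag F) h

/-- The sheaf of a scheme isomorphic to a separated sheaf is separated. -/
theorem isSeparated_of_iso {F : Sp S} {U : Over S} (ε : (yon S).obj U ≅ F) (h : IsSeparatedSp F) :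
    IsSeparated U.hom := by
  have h1 : Limits.diag ((yon S).obj U) = ε.hom ≫ Limits.diag F ≫ prod.map ε.inv ε.inv := by
    ext <;> simp
  have h2 : RepWith @IsClosedImmersion (Limits.diag ((yon S).obj U)) := by
    rw [h1]
    exact MorphismProperty.RespectsIso.precomp _ _ _ (MorphismProperty.RespectsIso.postcomp _ _ _ h)
  exact ⟨(repWith_diag_yon_iff @IsClosedImmersion U).mp h2⟩

end Main

/-- **S10451**: an algebraic space locally of finite type over a field of dimension zero is a separated scheme all of
whose quasi-compact opens are affine. -/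
theorem exists_separated_scheme_of_dim_zero (k : Type u) [Field k]
    (X : AlgSp.Space (Spec (CommRingCat.of k)))
    (p : X.obj ⟶ (AlgSp.yon (Spec (CommRingCat.of k))).obj (Over.mk (𝟙 _)))
    (hp : AlgSp.LocP @LocallyOfFiniteType p) (hd : AlgSp.dim X.obj = 0) :
    ∃ (U : Over (Spec (CommRingCat.of k))) (_ : (AlgSp.yon (Spec (CommRingCat.of k))).obj U ≅ X.obj),
      U.left.IsSeparated ∧ ∀ V : U.left.Opens, IsCompact (V : Set ↥U.left) → IsAffineOpen V := by
  -- every étale chart is locally Artinian
  have key : ∀ {U : Over (Spec (CommRingCat.of k))} (a : (yon _).obj U ⟶ X.obj), RepWith @Etale a →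
      LocallyOfFiniteType U.hom ∧ IsLocallyArtinian U.left ∧ LocallyQuasiFinite U.hom := by
    intro U a hae
    have h1 : LocallyOfFiniteType U.hom := chart_prop p hp a hae
    have h2 : topologicalKrullDim ↥U.left ≤ 0 := by
      rw [← hd]
      unfold AlgSp.dim
      exact le_iSup_of_le U (le_iSup_of_le a (le_iSup_of_le hae le_rfl))
    have h3 : IsLocallyArtinian U.left := isLocallyArtinian_of_lft_field U.hom h2
    exact ⟨h1, h3, locallyQuasiFinite_of_isLocallyArtinian U.hom⟩
  obtain ⟨U, a, hae, has⟩ := X.property.atlas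
  obtain ⟨hUft, hUart, hUqf⟩ := key a hae
  -- the structure morphism is locally quasi-finite
  have hlqf : LocP (@LocallyQuasiFinite ⊓ @LocallyOfFiniteType) p :=
    Groth.Agent.H1.Seven.locP_of_one_chart Groth.Agent.Lib.helper5.LocPBC.locPData_lqf p a (𝟙 _)
      (Over.mkIdTerminal.from U) hae has (repWith_id _ _) (chart_comm p a)
      (by rw [Over.mkIdTerminal_from_left]; exact ⟨hUqf, hUft⟩)
  -- separatedness
  have hsep : IsSeparatedSp X.obj := by
    obtain ⟨R, r₂, r₁', hk⟩ := hae.1 a
    obtain ⟨r₁, rfl⟩ := (yon _).map_surjective r₁'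
    have hr₂ : Etale r₂.left := hae.2 _ _ _ hk
    refine Groth.Agent.Lib.helper5.QuotDiag.repWith_diag_of_kernelPair (P := @IsClosedImmersion) X.property a hae has
      r₁ r₂ hk ?_
    haveI : Mono (prod.lift r₁ r₂ : R ⟶ U ⨯ U) := ⟨fun f' g' h => by
      have h1 : f' ≫ r₁ = g' ≫ r₁ := by
        have := congrArg (· ≫ prod.fst) h
        simpa only [Category.assoc, prod.lift_fst] using this
      have h2 : f' ≫ r₂ = g' ≫ r₂ := by
        have := congrArg (· ≫ prod.snd) h
        simpa only [Category.assoc, prod.lift_snd] using this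
      exact (yon _).map_injective (hk.hom_ext (by rw [← Functor.map_comp, ← Functor.map_comp, h1])
        (by rw [← Functor.map_comp, ← Functor.map_comp, h2]))⟩
    haveI : Mono (prod.lift r₁ r₂ : R ⟶ U ⨯ U).left := inferInstance
    haveI : LocallyQuasiFinite (prod.snd : U ⨯ U ⟶ U).left :=
      MorphismProperty.of_isPullback (Groth.Agent.Lib.helper5.FppfBoot.isPullback_prod_left U U) hUqf
    haveI : IsLocallyArtinian (U ⨯ U).left :=
      IsLocallyArtinian.of_locallyQuasiFinite (prod.snd : U ⨯ U ⟶ U).left
    have hc : (prod.lift r₁ r₂ : R ⟶ U ⨯ U).left ≫ (prod.snd : U ⨯ U ⟶ U).left = r₂.left := by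
      rw [← Over.comp_left, prod.lift_snd]
    haveI : LocallyOfFiniteType ((prod.lift r₁ r₂ : R ⟶ U ⨯ U).left ≫ (prod.snd : U ⨯ U ⟶ U).left) := by
      rw [hc]; infer_instance
    haveI : LocallyOfFiniteType (prod.lift r₁ r₂ : R ⟶ U ⨯ U).left :=
      locallyOfFiniteType_of_comp _ (prod.snd : U ⨯ U ⟶ U).left
    exact isClosedImmersion_of_mono_of_isLocallyArtinian _
  -- representability
  have hrep : X.obj.obj.IsRepresentable :=
    Groth.Agent.S10259.result (Over.mk (𝟙 _)) X
      (ObjectProperty.homMk p : X ⟶ (AlgSp.ofScheme _).obj (Over.mk (𝟙 _))) hlqf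
      (isSeparatedMor_of_isSeparatedSp p hsep)
  obtain ⟨U', ⟨e⟩⟩ := hrep.has_representation
  let ε : (yon _).obj U' ≅ X.obj := isoOfRepresentableBy e
  have hεe : RepWith @Etale ε.hom := by
    have := MorphismProperty.RespectsIso.postcomp (RepWith @Etale) ε.hom (𝟙 _) (repWith_id @Etale U')
    rwa [Category.id_comp] at this
  obtain ⟨hU'ft, hU'art, hU'qf⟩ := key ε.hom hεe
  haveI : IsSeparated U'.hom := isSeparated_of_iso ε hsep
  refine ⟨U', ε, ?_, fun V hV => isAffineOpen_of_isCompact U'.hom V hV⟩
  exact (HasAffineProperty.iff_of_isAffine (P := @IsSeparated)).mp ‹IsSeparated U'.hom›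

end Groth.Agent.Lib.helper5.DimZeroField
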