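import Groth.Agent.Lib.Helper5.UCAffC

/-!
# Universally closed morphisms via affine spaces: the criterion (helper5)

`isUnivClosedMor_of_affineSpace`: a quasi-compact morphism `f : X ⟶ Y` of sheaves such that for some etale surjective
chart `V ⟶ Y` all the maps `|X ×_Y 𝔸ⁿ_V| ⟶ |𝔸ⁿ_V|` are closed is universally closed.
-/

set_option autoImplicit false
universe u
open CategoryTheory CategoryTheory.Limits AlgebraicGeometry Opposite Topology

namespace Groth.Agent.Lib.helper5.UCAff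

open AlgSp Groth.Agent.Lib.helper11 Groth.Agent.Lib.helper10 Groth.Agent.Lib.helper5

variable {S : Scheme.{u}}

theorem isQuasiCompactMor_of_isPullback {X Y X' Y' : Sp S} {f : X ⟶ Y} {g : Y' ⟶ Y} {f' : X' ⟶ Y'}
    {q : X' ⟶ X} (sq : IsPullback q f' f g) (hf : IsQuasiCompactMor f) : IsQuasiCompactMor f' := by
  intro Z Z' hZ hZqc k fst snd sqZ
  exact hf hZ hZqc (k ≫ g) (fst ≫ q) snd (sqZ.paste_horiz sq)

open AffineSpace in
theorem isUnivClosedMor_of_affineSpace {X Y : Sp S} (f : X ⟶ Y) (hqc : IsQuasiCompactMor f)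
    (V : Over S) (p : (yon S).obj V ⟶ Y) (hpe : RepWith @Etale p) (hps : RepWith @Surjective p)
    (hcl : ∀ (n : ℕ) (P : Sp S) (fst : P ⟶ X)
      (snd : P ⟶ (yon S).obj (Over.mk ((𝔸(ULift.{u} (Fin n); V.left) ↘ V.left) ≫ V.hom))),
      IsPullback fst snd f ((yon S).map (Over.homMk (𝔸(ULift.{u} (Fin n); V.left) ↘ V.left)) ≫ p) →
        IsClosedMap (Points.map snd)) :
    IsUnivClosedMor f := by
  refine univSp_of_affine (fun f => IsClosedMap f) (fun hc hs => hc.isClosedMap hs) f ?_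
  intro Z hZ g P fst snd sqZ
  -- the base change of `f` to `V`
  have sqX' : IsPullback (pullback.fst f p) (pullback.snd f p) f p := IsPullback.of_hasPullback _ _
  have hqc' : IsQuasiCompactMor (pullback.snd f p) := isQuasiCompactMor_of_isPullback sqX' hqc
  have hcl' : ∀ (n : ℕ) (P : Sp S) (fst : P ⟶ pullback f p)
      (snd : P ⟶ (yon S).obj (Over.mk ((𝔸(ULift.{u} (Fin n); V.left) ↘ V.left) ≫ V.hom))),
      IsPullback fst snd (pullback.snd f p)
        ((yon S).map (Over.homMk (𝔸(ULift.{u} (Fin n); V.left) ↘ V.left))) →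
        IsClosedMap (Points.map snd) := by
    intro n P fst snd sq
    exact hcl n P (fst ≫ pullback.fst f p) snd (sq.paste_horiz sqX')
  -- the chart of `Z`
  obtain ⟨W, sW, fW', sqW⟩ := hpe.rep g
  obtain ⟨φ, rfl⟩ := (yon S).map_surjective fW'
  have hsWe : Etale sW.left := hpe.2 g _ sW sqW
  have hsWs : Surjective sW.left := hps.2 g _ sW sqW
  -- the index set
  let ι : Type u := {i : W.left.affineOpens × V.left.affineOpens //
    (i.1 : W.left.Opens) ≤ φ.left ⁻¹ᵁ (i.2 : V.left.Opens)}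
  let Ti : ι → Over S := fun i => Over.mk ((i.1.1 : W.left.Opens).ι ≫ W.hom)
  let ei : ∀ i, Ti i ⟶ W := fun i => Over.homMk (i.1.1 : W.left.Opens).ι rfl
  let bi : ∀ i, (yon S).obj (Ti i) ⟶ (yon S).obj Z := fun i => (yon S).map (ei i ≫ sW)
  have hbie : ∀ i, RepWith @Etale (bi i) := fun i => by
    rw [repWith_yon_map_iff]
    change Etale ((i.1.1 : W.left.Opens).ι ≫ sW.left)
    infer_instance
  have sqT : ∀ i, IsPullback (pullback.fst snd (bi i)) (pullback.snd snd (bi i)) snd (bi i) :=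
    fun i => IsPullback.of_hasPullback _ _
  have hQ : ∀ i, IsClosedMap (Points.map (pullback.snd snd (bi i))) := by
    intro i
    haveI : IsAffine (Ti i).left := i.1.1.2
    have hbig : bi i ≫ g = (yon S).map (ei i ≫ φ) ≫ p := by
      simp only [bi, Functor.map_comp, Category.assoc]
      rw [sqW.w]
    have sq2 := (sqT i).paste_horiz sqZ
    rw [hbig] at sq2
    obtain ⟨r, -, sqr⟩ := isPullback_of_lift sqX' sq2
    refine isClosedMap_of_affine (pullback.snd f p) hqc' hcl' (i.1.2 : V.left.Opens) i.1.2.2 (Ti i)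
      (ei i ≫ φ) ?_ r _ sqr
    rintro _ ⟨x, rfl⟩
    exact i.2 x.2
  refine ChartFam.isClosedMap (ι := ι) (a := fun i => Points.map (pullback.fst snd (bi i)))
    (b := fun i => Points.map (bi i)) ?_ hQ
  refine ⟨fun i x => ?_,
    fun i y c hyc => exists_point_of_isPullback (sqT i) y c hyc,
    fun i => Points.continuous_map _, Points.continuous_map _, fun i => Points.continuous_map _,
    fun i => isOpenMap_map_of_repWith_etale _ (hbie i), fun d => ?_⟩
  · rw [← Points.map_comp, ← Points.map_comp, (sqT i).w]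
  · obtain ⟨z, rfl⟩ := (Points.schemeHomeo Z).surjective d
    obtain ⟨w, rfl⟩ := hsWs.surj z
    obtain ⟨_, ⟨V₀, hV₀, rfl⟩, hv, -⟩ :=
      (V.left.isBasis_affineOpens).exists_subset_of_mem_open (Set.mem_univ (φ.left w)) isOpen_univ
    obtain ⟨_, ⟨W₀, hW₀, rfl⟩, hw, hWV⟩ :=
      (W.left.isBasis_affineOpens).exists_subset_of_mem_open (show w ∈ (φ.left ⁻¹ᵁ V₀ : W.left.Opens) from hv)
        (φ.left ⁻¹ᵁ V₀).2
    refine ⟨⟨(⟨W₀, hW₀⟩, ⟨V₀, hV₀⟩), hWV⟩, Points.schemeHomeo _ ⟨w, hw⟩, ?_⟩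
    rw [Points.map_yon_map_apply]
    rfl

end Groth.Agent.Lib.helper5.UCAff
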