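import Groth.Agent.S10288
import Groth.Agent.Lib.Helper9.DVRTools
import Groth.Agent.Lib.Helper5.UCAffD
import Groth.Agent.Lib.Helper5.AlgSpLocPInst

/-!
# The discrete valuation ring criterion for universal closedness of morphisms of algebraic spaces (helper5)

* `exists_specialization_lift_dvr`: specializations in a locally Noetherian base lift along the base change of a morphism
  satisfying the existence part of the valuative criterion for discrete valuation rings (after helper1's
  `S10288.exists_specialization_lift`).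
* `isClosedMap_of_dvr`: closedness of the base change to a locally Noetherian affine scheme.
* `isUnivClosedMor_of_dvr`: a morphism of finite type to a locally Noetherian algebraic space satisfying the existence part
  of the valuative criterion for discrete valuation rings is universally closed.
-/

set_option autoImplicit false
universe u
open CategoryTheory CategoryTheory.Limits AlgebraicGeometry
open AlgSp

namespace Groth.Agent.Lib.helper5.DvrCrit

open Groth.Agent.Lib.helper11 Groth.Agent.Lib.helper10 IsLocalRing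

variable {S : Scheme.{u}}

set_option backward.isDefEq.respectTransparency.types false in
theorem exists_specialization_lift_dvr {X Y : Sp S} (f : X ⟶ Y)
    (he : ∀ sq : ValSq f, IsDiscreteValuationRing sq.A → sq.HasLiftExt) {Z V : Over S}
    [IsLocallyNoetherian Z.left]
    (g : (yon S).obj Z ⟶ Y) {P : Sp S} (fst : P ⟶ X) (snd : P ⟶ (yon S).obj Z)
    (sq : IsPullback fst snd f g)
    (r : (yon S).obj V ⟶ P) (h : V ⟶ Z) [LocallyOfFiniteType h.left]
    (hr : r ≫ snd = (yon S).map h) (v : ↥V.left) (z' : ↥Z.left)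
    (hz : h.left v ⤳ z') :
    ∃ x' : Points P, Points.ofPt r v ⤳ x' ∧ Points.map snd x' = Points.schemeHomeo Z z' := by
  by_cases hne : z' = h.left v
  · refine ⟨Points.ofPt r v, specializes_rfl, ?_⟩
    rw [Points.map_ofPt, hr, hne]
    show _ = Points.ofPt (𝟙 _) (h.left v)
    rw [← ofPt_yon_map_comp, Category.comp_id]
  obtain ⟨A, _, _, hdvr, u, vv, hucl, hcomm, hvv⟩ :=
    Groth.Agent.Lib.helper9.exists_dvr_of_specializes h.left v z' hz hne
  let K : Type u := FractionRing A
  let strA : Spec (.of A) ⟶ S := u ≫ Z.hom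
  let ptA : Over S := Over.mk strA
  let ptK : Over S := Over.mk (Spec.map (CommRingCat.ofHom (algebraMap A K)) ≫ strA)
  let jj : ptK ⟶ ptA := Over.homMk (Spec.map (CommRingCat.ofHom (algebraMap A K))) rfl
  let aZ : ptA ⟶ Z := Over.homMk u rfl
  let kV : ptK ⟶ V := Over.homMk vv (by
    show vv ≫ V.hom = Spec.map (CommRingCat.ofHom (algebraMap A K)) ≫ strA
    rw [← Over.w h, ← Category.assoc, hcomm]
    simp only [Category.assoc, strA])
  have hkV : kV ≫ h = jj ≫ aZ := by
    apply Over.OverMorphism.ext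
    simp only [Over.comp_left]
    exact hcomm
  have e1 : (yon S).map kV ≫ (yon S).map h = (yon S).map jj ≫ (yon S).map aZ := by
    rw [← Functor.map_comp, ← Functor.map_comp, hkV]
  let sqV : ValSq f :=
    { A := A
      K := K
      str := strA
      top := (yon S).map kV ≫ r ≫ fst
      bot := (yon S).map aZ ≫ g
      comm := by
        calc ((yon S).map kV ≫ r ≫ fst) ≫ f = (yon S).map kV ≫ r ≫ (fst ≫ f) := by
              simp only [Category.assoc]
          _ = (yon S).map kV ≫ (r ≫ snd) ≫ g := by rw [sq.w]; simp only [Category.assoc]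
          _ = ((yon S).map kV ≫ (yon S).map h) ≫ g := by rw [hr]; simp only [Category.assoc]
          _ = ((yon S).map jj ≫ (yon S).map aZ) ≫ g := by rw [e1]
          _ = _ := by simp only [Category.assoc]; rfl }
  obtain ⟨e, l, hl1, hl2⟩ := he sqV hdvr
  let φA : e.ptA' ⟶ ptA := Over.homMk (Spec.map (CommRingCat.ofHom e.φ)) rfl
  let aZ' : e.ptA' ⟶ Z := φA ≫ aZ
  have hl2' : l ≫ f = (yon S).map aZ' ≫ g := by
    rw [hl2]
    show (yon S).map φA ≫ (yon S).map aZ ≫ g = _
    rw [← Category.assoc, ← Functor.map_comp]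
  let l' : (yon S).obj e.ptA' ⟶ P := sq.lift l ((yon S).map aZ') hl2'
  have hl'1 : l' ≫ fst = l := sq.lift_fst _ _ _
  have hl'2 : l' ≫ snd = (yon S).map aZ' := sq.lift_snd _ _ _
  refine ⟨Points.ofPt l' (closedPoint e.A'), ?_, ?_⟩
  · let jK' : e.ptK' ⟶ e.ptA' := Over.homMk (Spec.map (CommRingCat.ofHom (algebraMap e.A' e.K'))) rfl
    have hψ : Spec.map (CommRingCat.ofHom e.ψ) ≫ ptK.hom = e.ptK'.hom := by
      change Spec.map _ ≫ Spec.map _ ≫ _ = Spec.map _ ≫ Spec.map _ ≫ _
      rw [← Spec.map_comp_assoc, ← Spec.map_comp_assoc, ← CommRingCat.ofHom_comp,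
        ← CommRingCat.ofHom_comp, e.comm]
    let ψ' : e.ptK' ⟶ ptK := Over.homMk (Spec.map (CommRingCat.ofHom e.ψ)) hψ
    have hl1' : (yon S).map jK' ≫ l = (yon S).map ψ' ≫ (yon S).map kV ≫ r ≫ fst := hl1
    have key : (yon S).map jK' ≫ l' = (yon S).map ψ' ≫ (yon S).map kV ≫ r := by
      apply sq.hom_ext
      · rw [Category.assoc, hl'1, hl1']
        simp only [Category.assoc]
      · rw [Category.assoc, hl'2, Category.assoc, Category.assoc, hr, ← Functor.map_comp,
          ← Functor.map_comp, ← Functor.map_comp]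
        congr 1
        apply Over.OverMorphism.ext
        show Spec.map (CommRingCat.ofHom (algebraMap e.A' e.K')) ≫ Spec.map (CommRingCat.ofHom e.φ) ≫ u =
          Spec.map (CommRingCat.ofHom e.ψ) ≫ vv ≫ h.left
        have hcomm' : Spec.map (CommRingCat.ofHom (algebraMap e.A' e.K')) ≫
            Spec.map (CommRingCat.ofHom e.φ) = Spec.map (CommRingCat.ofHom e.ψ) ≫
            Spec.map (CommRingCat.ofHom (algebraMap A K)) := by
          rw [← Spec.map_comp, ← Spec.map_comp, ← CommRingCat.ofHom_comp, ← CommRingCat.ofHom_comp]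
          exact congrArg (fun t => Spec.map (CommRingCat.ofHom t)) e.comm
        rw [hcomm, reassoc_of% hcomm']
    have hη : Points.ofPt l' (jK'.left (closedPoint e.K')) = Points.ofPt r v := by
      rw [← ofPt_yon_map_comp, key, ← Category.assoc, ← Functor.map_comp, ofPt_yon_map_comp]
      congr 1
      exact hvv _
    rw [← hη]
    exact (specializes_closedPoint _).map (Points.continuous_ofPt l')
  · rw [Points.map_ofPt, hl'2]
    have h0 : Points.ofPt ((yon S).map aZ') (closedPoint e.A') =
        Points.ofPt (𝟙 _) (aZ'.left (closedPoint e.A')) := by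
      rw [← ofPt_yon_map_comp, Category.comp_id]
    rw [h0]
    show Points.schemeHomeo Z _ = _
    congr 1
    show (Spec.map (CommRingCat.ofHom e.φ) ≫ u) (closedPoint e.A') = z'
    simp only [Scheme.Hom.comp_base, TopCat.coe_comp, Function.comp_apply]
    have : IsLocalHom e.φ := e.isLocalHom
    have h1 : Spec.map (CommRingCat.ofHom e.φ) (closedPoint e.A') = closedPoint A :=
      comap_closedPoint e.φ
    rw [h1, hucl]

open Groth.Agent.Lib.helper7.AlgSpQC Groth.Agent.Lib.helper7.AlgSpFibre Groth.Agent.Lib.helper5 in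
/-- Closedness of the base change to a locally Noetherian affine scheme. -/
theorem isClosedMap_of_dvr {X Y : Sp S} (hX : IsAlgSpace X) (hY : IsAlgSpace Y) (f : X ⟶ Y)
    (hqc : IsQuasiCompactMor f) (hlft : LocP @LocallyOfFiniteType f)
    (he : ∀ sq : ValSq f, IsDiscreteValuationRing sq.A → sq.HasLiftExt)
    (Z : Over S) [IsAffine Z.left] [IsLocallyNoetherian Z.left] (g : (yon S).obj Z ⟶ Y)
    {P : Sp S} (fst : P ⟶ X) (snd : P ⟶ (yon S).obj Z) (sq : IsPullback fst snd f g) :
    IsClosedMap (Points.map snd) := by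
  have hPqc : IsQuasiCompactSp P :=
    hqc (IsAlgSpace.yon_obj Z) (isQuasiCompactSp_yon Z) g fst snd sq
  haveI := compactSpace_of_isQuasiCompactSp hPqc
  obtain ⟨U₀, p₀, hp₀e, hp₀s, -⟩ := hPqc
  obtain ⟨V₁, r₁, hV₁aff, hr₁e, hr₁s⟩ := exists_affine_chart_of_compactSpace p₀ hp₀e hp₀s
  haveI : IsAffine V₁.left := hV₁aff
  have hsndlft : LocP @LocallyOfFiniteType snd :=
    LocPBC.locP_of_isPullback LocPBC.locPData_lft hX hY (IsAlgSpace.yon_obj Z) sq hlft
  -- replace the chart by a spectrum
  let R : CommRingCat.{u} := Γ(V₁.left, ⊤)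
  let k : Spec R ⟶ V₁.left := V₁.left.isoSpec.inv
  let V : Over S := Over.mk (k ≫ V₁.hom)
  let kV : V ⟶ V₁ := Over.homMk k rfl
  let r : (yon S).obj V ⟶ P := (yon S).map kV ≫ r₁
  have hre : RepWith @Etale r :=
    (repWith_isMultiplicative (S := S) @Etale).comp_mem _ _
      ((repWith_yon_map_iff @Etale kV).2 (inferInstanceAs (Etale k))) hr₁e
  have hrsurj : Function.Surjective (Points.ofPt r) := by
    intro x
    obtain ⟨u, rfl⟩ := surjective_ofPt r₁ hr₁s x
    refine ⟨V₁.left.isoSpec.hom u, ?_⟩
    rw [ofPt_yon_map_comp kV r₁]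
    congr 1
    change (V₁.left.isoSpec.hom ≫ V₁.left.isoSpec.inv) u = u
    rw [Iso.hom_inv_id]; rfl
  obtain ⟨h, hh⟩ := (yon S).map_surjective (r ≫ snd)
  haveI : LocallyOfFiniteType h.left := by
    refine hsndlft r (𝟙 _) h hre ?_ (by rw [hh, Category.comp_id])
    rw [← (yon S).map_id]
    exact (repWith_yon_map_iff @Etale _).2 (by dsimp; infer_instance)
  have hpt : ∀ v : ↥V.left, Points.map snd (Points.ofPt r v) = Points.schemeHomeo Z (h.left v) := by
    intro v
    rw [Points.map_ofPt, ← hh]
    show _ = Points.ofPt (𝟙 _) (h.left v)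
    rw [← ofPt_yon_map_comp, Category.comp_id]
  intro C hC
  let CV : Set ↥V.left := Points.ofPt r ⁻¹' C
  have hCV : IsClosed CV := hC.preimage (Points.continuous_ofPt r)
  have himg : Points.map snd '' C = Points.schemeHomeo Z '' (h.left '' CV) := by
    ext y
    constructor
    · rintro ⟨x, hx, rfl⟩
      obtain ⟨v, rfl⟩ := hrsurj x
      exact ⟨h.left v, ⟨v, hx, rfl⟩, (hpt v).symm⟩
    · rintro ⟨z, ⟨v, hv, rfl⟩, rfl⟩
      exact ⟨Points.ofPt r v, hv, hpt v⟩
  rw [himg]
  apply (Points.schemeHomeo Z).isClosedMap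
  apply Groth.Agent.S10288.isClosed_image_of_stableUnderSpecialization (R := R) (Z := Z.left) h.left CV hCV
  rintro z z' hzz' ⟨v, hv, rfl⟩
  obtain ⟨x', hx'1, hx'2⟩ := exists_specialization_lift_dvr f he g fst snd sq r h hh.symm v z' hzz'
  have hx'C : x' ∈ C := hC.stableUnderSpecialization hx'1 hv
  obtain ⟨v', rfl⟩ := hrsurj x'
  refine ⟨v', hx'C, ?_⟩
  apply (Points.schemeHomeo Z).injective
  rw [← hx'2, hpt]

open Groth.Agent.Lib.helper5 in
/-- Closedness of `P ⟶ h_T` on points can be checked over the affine opens of `T`. -/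
theorem isClosedMap_of_affineOpens {T : Over S} {P : Sp S} (snd : P ⟶ (yon S).obj T)
    (h : ∀ i : T.left.affineOpens,
      IsClosedMap (Points.map (pullback.snd snd
        ((yon S).map (Over.homMk (i : T.left.Opens).ι rfl :
          Over.mk ((i : T.left.Opens).ι ≫ T.hom) ⟶ T))))) :
    IsClosedMap (Points.map snd) := by
  let Ti : T.left.affineOpens → Over S := fun i => Over.mk ((i : T.left.Opens).ι ≫ T.hom)
  let ei : ∀ i, Ti i ⟶ T := fun i => Over.homMk (i : T.left.Opens).ι rfl
  let bi : ∀ i, (yon S).obj (Ti i) ⟶ (yon S).obj T := fun i => (yon S).map (ei i)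
  have hbie : ∀ i, RepWith @Etale (bi i) := fun i => by
    rw [repWith_yon_map_iff]
    change Etale (i : T.left.Opens).ι
    infer_instance
  have sqT : ∀ i, IsPullback (pullback.fst snd (bi i)) (pullback.snd snd (bi i)) snd (bi i) :=
    fun i => IsPullback.of_hasPullback _ _
  refine ChartFam.isClosedMap (ι := T.left.affineOpens)
    (a := fun i => Points.map (pullback.fst snd (bi i)))
    (b := fun i => Points.map (bi i)) ?_ h
  refine ⟨fun i x => ?_,
    fun i y c hyc => exists_point_of_isPullback (sqT i) y c hyc,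
    fun i => Points.continuous_map _, Points.continuous_map _, fun i => Points.continuous_map _,
    fun i => isOpenMap_map_of_repWith_etale _ (hbie i), fun d => ?_⟩
  · rw [← Points.map_comp, ← Points.map_comp, (sqT i).w]
  · obtain ⟨t, rfl⟩ := (Points.schemeHomeo T).surjective d
    obtain ⟨_, ⟨T₀, hT₀, rfl⟩, ht, -⟩ :=
      (T.left.isBasis_affineOpens).exists_subset_of_mem_open (Set.mem_univ t) isOpen_univ
    refine ⟨⟨T₀, hT₀⟩, Points.schemeHomeo _ ⟨t, ht⟩, ?_⟩
    rw [Points.map_yon_map_apply]
    rfl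

/-- Closedness of the base change to a locally Noetherian scheme. -/
theorem isClosedMap_of_dvr' {X Y : Sp S} (hX : IsAlgSpace X) (hY : IsAlgSpace Y) (f : X ⟶ Y)
    (hqc : IsQuasiCompactMor f) (hlft : LocP @LocallyOfFiniteType f)
    (he : ∀ sq : ValSq f, IsDiscreteValuationRing sq.A → sq.HasLiftExt)
    (T : Over S) [IsLocallyNoetherian T.left] (g : (yon S).obj T ⟶ Y)
    {P : Sp S} (fst : P ⟶ X) (snd : P ⟶ (yon S).obj T) (sq : IsPullback fst snd f g) :
    IsClosedMap (Points.map snd) := by
  refine isClosedMap_of_affineOpens snd fun i => ?_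
  haveI : IsAffine (Over.mk ((i : T.left.Opens).ι ≫ T.hom)).left := i.2
  haveI : IsLocallyNoetherian (Over.mk ((i : T.left.Opens).ι ≫ T.hom)).left :=
    isLocallyNoetherian_of_isOpenImmersion (i : T.left.Opens).ι
  exact isClosedMap_of_dvr hX hY f hqc hlft he _ _ _ _
    ((IsPullback.of_hasPullback _ _).paste_horiz sq)

open Groth.Agent.Lib.helper5 Groth.Agent.Lib.helper5.UCAff AffineSpace in
/-- A morphism of finite type to a locally Noetherian algebraic space satisfying the existence part of the valuative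
criterion for discrete valuation rings (after extensions) is universally closed. -/
theorem isUnivClosedMor_of_dvr {X Y : Sp S} (hX : IsAlgSpace X) (hY : IsAlgSpace Y) (f : X ⟶ Y)
    (hqc : IsQuasiCompactMor f) (hlft : LocP @LocallyOfFiniteType f) (hYn : IsLocNoethSp Y)
    (he : ∀ sq : ValSq f, IsDiscreteValuationRing sq.A → sq.HasLiftExt) : IsUnivClosedMor f := by
  obtain ⟨V, p, hpe, hps, hVn⟩ := hYn
  haveI : IsLocallyNoetherian V.left := hVn
  refine isUnivClosedMor_of_affineSpace f hqc V p hpe hps ?_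
  intro n P fst snd sq
  haveI : IsLocallyNoetherian
      (Over.mk ((𝔸(ULift.{u} (Fin n); V.left) ↘ V.left) ≫ V.hom) : Over S).left :=
    LocallyOfFiniteType.isLocallyNoetherian (𝔸(ULift.{u} (Fin n); V.left) ↘ V.left)
  exact isClosedMap_of_dvr' hX hY f hqc hlft he _ _ fst snd sq

end Groth.Agent.Lib.helper5.DvrCrit
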