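import Groth.Agent.Lib.Helper13.KA2
import Groth.Prelude.Def_AlgSpMor5

/-!
# Dominating extensions of discrete valuation rings (helper5)

`isDiscreteValuationRing_of_domExt`: a valuation ring dominating a discrete valuation ring `A`, with fraction field finite
over that of `A`, is a discrete valuation ring (Krull–Akizuki, helper13).
-/

set_option autoImplicit false
universe u
open CategoryTheory CategoryTheory.Limits AlgebraicGeometry
open AlgSp

namespace Groth.Agent.Lib.helper5.DvrCrit

variable {S : Scheme.{u}}

theorem isDiscreteValuationRing_of_finite {A K A' K' : Type*} [CommRing A] [IsDomain A]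
    [IsDiscreteValuationRing A] [Field K] [Algebra A K] [IsFractionRing A K]
    [CommRing A'] [IsDomain A'] [ValuationRing A'] [Field K'] [Algebra A' K'] [IsFractionRing A' K']
    (φ : A →+* A') (ψ : K →+* K') (comm : (algebraMap A' K').comp φ = ψ.comp (algebraMap A K))
    (hloc : IsLocalHom φ) (hfin : letI := ψ.toAlgebra; Module.Finite K K') :
    IsDiscreteValuationRing A' := by
  letI : Algebra K K' := ψ.toAlgebra
  letI : Algebra A K' := (ψ.comp (algebraMap A K)).toAlgebra
  letI : Algebra A A' := φ.toAlgebra
  haveI : IsScalarTower A K K' := IsScalarTower.of_algebraMap_eq fun x => rfl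
  haveI : IsScalarTower A A' K' := IsScalarTower.of_algebraMap_eq fun x =>
    (RingHom.congr_fun comm x).symm
  haveI : FiniteDimensional K K' := hfin
  have hinj : Function.Injective (algebraMap A' K') := IsFractionRing.injective A' K'
  haveI : IsNoetherianRing A' :=
    Groth.Agent.Lib.helper13.KA.isNoetherianRing_of_between A K K' A' hinj
  haveI : IsPrincipalIdealRing A' := ((IsBezout.TFAE (R := A')).out 0 1).1 ‹IsNoetherianRing A'›
  refine { not_a_field' := ?_ }
  obtain ⟨x, hxm, hx0⟩ := Submodule.exists_mem_ne_zero_of_ne_bot
    (IsDiscreteValuationRing.not_a_field A)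
  intro hbot
  have hφx : φ x ∈ IsLocalRing.maximalIdeal A' := by
    rw [IsLocalRing.mem_maximalIdeal, mem_nonunits_iff]
    intro hu
    exact (IsLocalRing.mem_maximalIdeal x).1 hxm (hloc.map_nonunit x hu)
  rw [hbot, Ideal.mem_bot] at hφx
  have hφinj : Function.Injective φ := by
    have : Function.Injective ((algebraMap A' K').comp φ) := by
      rw [comm]
      exact ψ.injective.comp (IsFractionRing.injective A K)
    exact Function.Injective.of_comp this
  exact hx0 (hφinj (by rw [hφx, map_zero]))

theorem isDiscreteValuationRing_of_domExt {F G : Sp S} {f : F ⟶ G} (sq : ValSq f)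
    (hA : IsDiscreteValuationRing sq.A) (e : sq.DomExt)
    (hfin : letI := e.ψ.toAlgebra; Module.Finite sq.K e.K') : IsDiscreteValuationRing e.A' :=
  isDiscreteValuationRing_of_finite e.φ e.ψ e.comm e.isLocalHom hfin

end Groth.Agent.Lib.helper5.DvrCrit
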