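import Groth.Agent.Lib.Helper5.DvrCritA

/-!
# Discrete valuation rings through points in the closure of the image (helper5)

* `exists_dvr_of_mem_closure_range`: for a quasi-compact morphism `h : U ⟶ V₀` locally of finite type to a locally Noetherian
  scheme and `v` in the closure of the image, there is a discrete valuation ring `R` with `Spec R ⟶ V₀` mapping the closed
  point to `v`, whose generic point lifts to `U`.
* `exists_dvr_diagram`: the same for a morphism of finite type of algebraic spaces with locally Noetherian target.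
-/

set_option autoImplicit false
universe u
open CategoryTheory CategoryTheory.Limits AlgebraicGeometry
open AlgSp

namespace Groth.Agent.Lib.helper5.DvrCrit

open Groth.Agent.Lib.helper11 Groth.Agent.Lib.helper10 IsLocalRing

theorem exists_dvr_of_residueField {U V₀ : Scheme.{u}} (h : U ⟶ V₀) (u : U) (R : Type u) [CommRing R]
    [IsDomain R] [IsDiscreteValuationRing R] (φ : U.residueField u →+* R) :
    ∃ (β : Spec (CommRingCat.of R) ⟶ V₀) (γ : Spec (CommRingCat.of (FractionRing R)) ⟶ U),
      β (closedPoint R) = h u ∧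
        γ ≫ h = Spec.map (CommRingCat.ofHom (algebraMap R (FractionRing R))) ≫ β := by
  let c : Spec (CommRingCat.of R) ⟶ U := Spec.map (CommRingCat.ofHom φ) ≫ U.fromSpecResidueField u
  refine ⟨c ≫ h, Spec.map (CommRingCat.ofHom (algebraMap R (FractionRing R))) ≫ c, ?_,
    by rw [Category.assoc]⟩
  have : c (closedPoint R) = u := by
    show (Spec.map (CommRingCat.ofHom φ) ≫ U.fromSpecResidueField u) (closedPoint R) = u
    rw [Scheme.Hom.comp_apply]
    exact Scheme.fromSpecResidueField_apply _ _
  rw [Scheme.Hom.comp_apply, this]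

theorem exists_dvr_of_mem_closure_range {U V₀ : Scheme.{u}} [IsLocallyNoetherian V₀] (h : U ⟶ V₀)
    [LocallyOfFiniteType h] [QuasiCompact h] (v : V₀) (hv : v ∈ closure (Set.range h)) :
    ∃ (R : Type u) (_ : CommRing R) (_ : IsDomain R) (_ : IsDiscreteValuationRing R)
      (β : Spec (CommRingCat.of R) ⟶ V₀) (γ : Spec (CommRingCat.of (FractionRing R)) ⟶ U),
      β (closedPoint R) = v ∧
        γ ≫ h = Spec.map (CommRingCat.ofHom (algebraMap R (FractionRing R))) ≫ β := by
  obtain ⟨u, hu⟩ := Groth.Agent.Lib.helper9.exists_specializes_of_mem_closure_range h v hv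
  by_cases hne : v = h u
  · obtain ⟨β, γ, hβ, hc⟩ := exists_dvr_of_residueField h u (PowerSeries (U.residueField u))
      (PowerSeries.C : U.residueField u →+* PowerSeries (U.residueField u))
    exact ⟨PowerSeries (U.residueField u), inferInstance, inferInstance, inferInstance, β, γ,
      hβ.trans hne.symm, hc⟩
  · obtain ⟨R, i1, i2, hdvr, β, γ, hβ, hcomm, -⟩ :=
      Groth.Agent.Lib.helper9.exists_dvr_of_specializes h u v hu hne
    exact ⟨R, i1, i2, hdvr, β, γ, hβ, hcomm⟩

variable {S : Scheme.{u}}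

open Groth.Agent.Lib.helper7.AlgSpQC Groth.Agent.Lib.helper7.AlgSpFibre Groth.Agent.Lib.helper5 in
theorem exists_dvr_diagram {X Y : Sp S} (hX : IsAlgSpace X) (hY : IsAlgSpace Y) (f : X ⟶ Y)
    (hqc : IsQuasiCompactMor f) (hlft : LocP @LocallyOfFiniteType f) (hYn : IsLocNoethSp Y)
    (y : Points Y) (hy : y ∈ closure (Set.range (Points.map f))) :
    ∃ (A : Type u) (_ : CommRing A) (_ : IsDomain A) (_ : IsDiscreteValuationRing A)
      (a : Spec (CommRingCat.of A) ⟶ S)
      (α : (yon S).obj (Over.mk a) ⟶ Y)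
      (κ : (yon S).obj (Over.mk (Spec.map (CommRingCat.ofHom (algebraMap A (FractionRing A))) ≫ a)) ⟶ X),
      κ ≫ f = (yon S).map (Over.homMk (Spec.map (CommRingCat.ofHom (algebraMap A (FractionRing A))))) ≫ α ∧
      Points.map α (Points.schemeEquiv (Over.mk a) (closedPoint A)) = y := by
  obtain ⟨V, p, hpe, hps, hVn⟩ := hYn
  haveI : IsLocallyNoetherian V.left := hVn
  obtain ⟨v, rfl⟩ := surjective_ofPt p hps y
  -- base change to `V`
  have sqV : IsPullback (pullback.fst f p) (pullback.snd f p) f p := IsPullback.of_hasPullback _ _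
  have hpopen : IsOpenMap (Points.map p) := isOpenMap_map_of_repWith_etale p hpe
  have hv1 : Points.schemeHomeo V v ∈ closure (Set.range (Points.map (pullback.snd f p))) := by
    have h1 : Points.schemeHomeo V v ∈ Points.map p ⁻¹' closure (Set.range (Points.map f)) := by
      change Points.map p (Points.schemeHomeo V v) ∈ closure (Set.range (Points.map f))
      have : Points.map p (Points.schemeHomeo V v) = Points.ofPt p v :=
        (Points.ofPt_eq_map_ofScheme p v).symm
      rw [this]; exact hy
    rw [hpopen.preimage_closure_eq_closure_preimage (Points.continuous_map p)] at h1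
    have hsub : Points.map p ⁻¹' Set.range (Points.map f) ⊆
        Set.range (Points.map (pullback.snd f p)) := by
      rintro z ⟨x, hx⟩
      obtain ⟨w, -, hw⟩ := exists_point_of_isPullback sqV x z hx
      exact ⟨w, hw⟩
    exact closure_mono hsub h1
  -- an affine open neighbourhood
  obtain ⟨_, ⟨V₀', hV₀, rfl⟩, hvV₀, -⟩ :=
    (V.left.isBasis_affineOpens).exists_subset_of_mem_open (Set.mem_univ v) isOpen_univ
  obtain ⟨V₀, rfl⟩ : ∃ V₀ : V.left.Opens, V₀ = V₀' := ⟨V₀', rfl⟩
  let Vo : Over S := Over.mk (V₀.ι ≫ V.hom)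
  let j : Vo ⟶ V := Over.homMk V₀.ι rfl
  haveI : IsAffine Vo.left := hV₀
  haveI : IsLocallyNoetherian Vo.left := isLocallyNoetherian_of_isOpenImmersion V₀.ι
  have hje : RepWith @Etale ((yon S).map j) :=
    (repWith_yon_map_iff @Etale j).2 (inferInstanceAs (Etale V₀.ι))
  have sq0 : IsPullback (pullback.fst (pullback.snd f p) ((yon S).map j))
      (pullback.snd (pullback.snd f p) ((yon S).map j)) (pullback.snd f p) ((yon S).map j) :=
    IsPullback.of_hasPullback _ _
  have sq0' := sq0.paste_horiz sqV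
  have hX0qc : IsQuasiCompactSp (pullback (pullback.snd f p) ((yon S).map j)) :=
    hqc (IsAlgSpace.yon_obj Vo) (isQuasiCompactSp_yon Vo) _ _ _ sq0'
  haveI := compactSpace_of_isQuasiCompactSp hX0qc
  obtain ⟨U₀, p₀, hp₀e, hp₀s, -⟩ := hX0qc
  obtain ⟨U, r, hUaff, hre, hrs⟩ := exists_affine_chart_of_compactSpace p₀ hp₀e hp₀s
  haveI : IsAffine U.left := hUaff
  obtain ⟨h, hh⟩ := (yon S).map_surjective (r ≫ pullback.snd (pullback.snd f p) ((yon S).map j))
  -- `h` is locally of finite type
  have hlft0 : LocP @LocallyOfFiniteType (pullback.snd (pullback.snd f p) ((yon S).map j)) :=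
    LocPBC.locP_of_isPullback LocPBC.locPData_lft hX hY (IsAlgSpace.yon_obj Vo) sq0' hlft
  haveI : LocallyOfFiniteType h.left := by
    refine hlft0 r (𝟙 _) h hre ?_ (by rw [hh, Category.comp_id])
    rw [← (yon S).map_id]
    exact (repWith_yon_map_iff @Etale _).2 (by dsimp; infer_instance)
  -- `v` is in the closure of the image of `h`
  let v₀ : ↥Vo.left := (⟨v, hvV₀⟩ : V₀)
  have hv2 : v₀ ∈ closure (Set.range h.left) := by
    rw [mem_closure_iff]
    intro O hO hvO
    -- `V₀.ι '' O` is an open neighbourhood of `v` in `V`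
    have hO' : IsOpen ((Points.schemeHomeo V) '' (V₀.ι '' O)) :=
      (Points.schemeHomeo V).isOpenMap _ (V₀.ι.isOpenEmbedding.isOpenMap _ hO)
    obtain ⟨z, hzO, x, rfl⟩ := mem_closure_iff.1 hv1 _ hO'
      ⟨v, ⟨v₀, hvO, rfl⟩, rfl⟩
    obtain ⟨v', ⟨o, ho, rfl⟩, hv'⟩ := hzO
    -- `x` lies over `V₀`
    have hxo : Points.map (pullback.snd f p) x = Points.map ((yon S).map j) (Points.schemeHomeo Vo o) := by
      rw [← hv', Points.map_yon_map_apply]; rfl
    obtain ⟨x0, -, hx0⟩ := exists_point_of_isPullback sq0 x _ hxo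
    obtain ⟨u, rfl⟩ := surjective_ofPt r hrs x0
    refine ⟨o, ho, u, ?_⟩
    apply (Points.schemeHomeo Vo).injective
    rw [← hx0, Points.map_ofPt, ← hh]
    show Points.ofPt (𝟙 _) (h.left u) = _
    rw [← ofPt_yon_map_comp, Category.comp_id]
  obtain ⟨A, i1, i2, hdvr, β, γ, hβ, hcomm⟩ := exists_dvr_of_mem_closure_range h.left v₀ hv2
  -- assemble
  let a : Spec (CommRingCat.of A) ⟶ S := β ≫ Vo.hom
  let βo : Over.mk a ⟶ Vo := Over.homMk β rfl
  let γo : Over.mk (Spec.map (CommRingCat.ofHom (algebraMap A (FractionRing A))) ≫ a) ⟶ U :=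
    Over.homMk γ (by
      show γ ≫ U.hom = Spec.map (CommRingCat.ofHom (algebraMap A (FractionRing A))) ≫ β ≫ Vo.hom
      rw [← Over.w h, ← Category.assoc, hcomm, Category.assoc])
  have hγβ : γo ≫ h = (Over.homMk (Spec.map (CommRingCat.ofHom (algebraMap A (FractionRing A)))) :
      Over.mk (Spec.map (CommRingCat.ofHom (algebraMap A (FractionRing A))) ≫ a) ⟶ Over.mk a) ≫ βo := by
    apply Over.OverMorphism.ext
    exact hcomm
  refine ⟨A, i1, i2, hdvr, a, (yon S).map βo ≫ (yon S).map j ≫ p,
    (yon S).map γo ≫ r ≫ pullback.fst (pullback.snd f p) ((yon S).map j) ≫ pullback.fst f p, ?_, ?_⟩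
  · simp only [Category.assoc]
    rw [sqV.w, ← Category.assoc (pullback.fst _ _), sq0.w]
    simp only [← Category.assoc]
    congr 2
    simp only [Category.assoc]
    rw [← hh, ← Functor.map_comp, ← Functor.map_comp, hγβ]
  · rw [Points.map_comp, Points.map_comp]
    have h1 : Points.map ((yon S).map βo) (Points.schemeEquiv (Over.mk a) (closedPoint A)) =
        Points.schemeHomeo Vo v₀ := by
      have := Points.map_yon_map_apply βo (closedPoint A)
      rw [← hβ]
      exact this
    rw [h1, Points.map_yon_map_apply]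
    exact (Points.ofPt_eq_map_ofScheme p v).symm

end Groth.Agent.Lib.helper5.DvrCrit
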