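/-
helper5: schemes flat over a discrete valuation ring with reduced special fibre: stalks at points of the special fibre
are reduced (the scheme-level core of S0436, with the special fibre given as the pullback along `Spec (R/m)`).

* `isReduced_fiber_closedPoint`: over a local ring, the pullback along `Spec (R/m) ⟶ Spec R` is the fibre at the
  closed point.
* `isReduced_stalk_of_special_fibre`: `U` locally Noetherian and flat over a DVR `R` with `U ×_R R/m` reduced: stalks
  of `U` at points over the closed point are reduced.
* `isLocalizationAway_fractionRing`: the fraction field of a DVR is the localization away from a uniformizer.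
* `isOpenImmersion_spec_fractionRing`: `Spec K ⟶ Spec R` is an open immersion for a DVR `R`.
-/
import Mathlib
import Groth.Agent.Lib.Helper17.StalkGen
import Groth.Agent.Lib.Helper17.FibreStalk
import Groth.Agent.S0436

set_option autoImplicit false
set_option linter.style.haveILetI false
universe u
open CategoryTheory CategoryTheory.Limits AlgebraicGeometry

namespace Groth.Agent.Lib.helper5.DvrReduced

/-- Over a local ring, the pullback along `Spec (R/m) ⟶ Spec R` is the fibre at the closed point. -/
theorem isReduced_fiber_closedPoint (R : Type u) [CommRing R] [IsLocalRing R] {U : Scheme.{u}}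
    (h : U ⟶ Spec (CommRingCat.of R))
    (hred : IsReduced (pullback h (Spec.map (CommRingCat.ofHom (IsLocalRing.residue R))))) :
    IsReduced (h.fiber (IsLocalRing.closedPoint R)) := by
  let x : ↥(Spec (CommRingCat.of R)) := IsLocalRing.closedPoint R
  let m : Ideal R := IsLocalRing.maximalIdeal R
  let φ : CommRingCat.of (R ⧸ m) ⟶ CommRingCat.of m.ResidueField :=
    CommRingCat.ofHom (algebraMap (R ⧸ m) m.ResidueField)
  haveI : IsIso φ := (ConcreteCategory.isIso_iff_bijective φ).2
    (Ideal.bijective_algebraMap_quotient_residueField m)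
  let ε : Spec ((Spec (CommRingCat.of R)).residueField x) ⟶
      Spec (CommRingCat.of (IsLocalRing.ResidueField R)) :=
    Spec.map (Scheme.Spec.residueFieldIso (CommRingCat.of R) x).inv ≫ Spec.map φ
  haveI h1 : IsIso (Spec.map (Scheme.Spec.residueFieldIso (CommRingCat.of R) x).inv) := inferInstance
  haveI h2 : IsIso (Spec.map φ) := inferInstance
  haveI : IsIso ε := IsIso.comp_isIso' h1 h2
  have hε : ε ≫ Spec.map (CommRingCat.ofHom (IsLocalRing.residue R)) =
      (Spec (CommRingCat.of R)).fromSpecResidueField x := by
    rw [← Scheme.Spec.map_residueFieldIso_inv_eq_fromSpecResidueField, Category.assoc, ← Spec.map_comp]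
    rfl
  let Φ : h.fiber x ⟶ pullback h (Spec.map (CommRingCat.ofHom (IsLocalRing.residue R))) :=
    pullback.map _ _ _ _ (𝟙 _) ε (𝟙 _) (by simp) (by rw [Category.comp_id]; exact hε.symm)
  haveI : IsIso Φ := pullback.map_isIso _ _ _ _ _ _ _ _ _
  exact isReduced_of_isOpenImmersion Φ

open IsLocalRing in
/-- `U` locally Noetherian and flat over a DVR `R` with `U ×_R R/m` reduced: stalks of `U` at points over the closed
point are reduced. -/
theorem isReduced_stalk_of_special_fibre (R : Type u) [CommRing R] [IsDomain R]
    [IsDiscreteValuationRing R] {X : Scheme.{u}} (f : X ⟶ Spec (CommRingCat.of R)) [Flat f]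
    [IsLocallyNoetherian X]
    (hred0 : IsReduced (pullback f (Spec.map (CommRingCat.ofHom (IsLocalRing.residue R)))))
    (x : X) (hx : f.base x = IsLocalRing.closedPoint R) :
    _root_.IsReduced (X.presheaf.stalk x) := by
  have hred := isReduced_fiber_closedPoint R f hred0
  obtain ⟨a, hma, hareg⟩ := Groth.Agent.S0436.stalk_closed R (f.base x) hx
  have hfl := Flat.stalkMap f x
  have hI : (IsLocalRing.maximalIdeal ((Spec (CommRingCat.of R)).presheaf.stalk (f.base x))).map
      (f.stalkMap x).hom = Ideal.span {(f.stalkMap x).hom a} := by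
    rw [hma, Ideal.map_span, Set.image_singleton]
  have hred' : IsReduced (f.fiber (f.base x)) := by rw [hx]; exact hred
  obtain ⟨e⟩ := Groth.Agent.Lib.helper17.FibreStalk.nonempty_asFiber_stalk_equiv f x
  haveI : _root_.IsReduced ((f.fiber (f.base x)).presheaf.stalk (f.asFiber x)) := inferInstance
  haveI : _root_.IsReduced (Groth.Agent.Lib.helper17.FibreStalk.FibRing f x) :=
    isReduced_of_injective e.toRingHom e.injective
  algebraize [(f.stalkMap x).hom]
  haveI : IsLocalHom (algebraMap ((Spec (CommRingCat.of R)).presheaf.stalk (f.base x))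
      (X.presheaf.stalk x)) := f.toLRSHom.prop x
  refine Groth.Agent.Lib.helper17.StalkGen.isReduced_of_regular_quotient (X.presheaf.stalk x)
    ((f.stalkMap x).hom a) ?_ (hareg.of_flat) ?_
  · have ha : a ∈ IsLocalRing.maximalIdeal
        ((Spec (CommRingCat.of R)).presheaf.stalk (f.base x)) := by
      rw [hma]; exact Ideal.mem_span_singleton_self a
    rw [IsLocalRing.mem_maximalIdeal, mem_nonunits_iff] at ha ⊢
    intro hu
    exact ha (isUnit_of_map_unit (algebraMap ((Spec (CommRingCat.of R)).presheaf.stalk (f.base x))
      (X.presheaf.stalk x)) a hu)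
  · exact isReduced_of_injective (Ideal.quotEquivOfEq hI.symm).toRingHom
      (Ideal.quotEquivOfEq hI.symm).injective

/-- The fraction field of a DVR is the localization away from a uniformizer. -/
theorem isLocalizationAway_fractionRing (R : Type u) [CommRing R] [IsDomain R]
    [IsDiscreteValuationRing R] (ϖ : R) (hϖ : Irreducible ϖ) (K : Type u) [CommRing K] [Algebra R K]
    [IsFractionRing R K] : IsLocalization.Away ϖ K := by
  have hle : Submonoid.powers ϖ ≤ nonZeroDivisors R := by
    rintro _ ⟨n, rfl⟩
    exact mem_nonZeroDivisors_of_ne_zero (pow_ne_zero n hϖ.ne_zero)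
  haveI hL : IsLocalization (nonZeroDivisors R) (Localization.Away ϖ) := by
    refine IsLocalization.of_le_of_exists_dvd (Submonoid.powers ϖ) (nonZeroDivisors R) hle ?_
    intro n hn
    have hn0 : n ≠ 0 := nonZeroDivisors.ne_zero hn
    obtain ⟨k, hk⟩ := IsDiscreteValuationRing.associated_pow_irreducible hn0 hϖ
    exact ⟨ϖ ^ k, ⟨k, rfl⟩, hk.dvd⟩
  exact IsLocalization.isLocalization_of_algEquiv (Submonoid.powers ϖ)
    (IsLocalization.algEquiv (nonZeroDivisors R) (Localization.Away ϖ) K)

/-- `Spec K ⟶ Spec R` is an open immersion for a DVR `R` with fraction field `K`. -/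
theorem isOpenImmersion_spec_fractionRing (R : Type u) [CommRing R] [IsDomain R]
    [IsDiscreteValuationRing R] :
    IsOpenImmersion (Spec.map (CommRingCat.ofHom (algebraMap R (FractionRing R)))) := by
  obtain ⟨ϖ, hϖ⟩ := IsDiscreteValuationRing.exists_irreducible R
  haveI := isLocalizationAway_fractionRing R ϖ hϖ (FractionRing R)
  exact IsOpenImmersion.of_isLocalization ϖ

end Groth.Agent.Lib.helper5.DvrReduced
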