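import Groth.Prelude.Def_AlgSpSub
import Mathlib.AlgebraicGeometry.Morphisms.Affine

/-!
The complement of an effective Cartier divisor is schematically dense (helper5).
-/

set_option autoImplicit false
universe u
open CategoryTheory CategoryTheory.Limits AlgebraicGeometry Opposite TopologicalSpace

namespace Groth.Agent.Lib.helper5.EffCartier

theorem basicOpen_eq_of_ideal_eq_span {V : Scheme.{u}} (I : V.IdealSheafData) (U : V.affineOpens)
    (f : Γ(V, U.1)) (hIf : I.ideal U = Ideal.span {f}) (W : V.Opens)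
    (hW : (W : Set V) = ((I.support : Set V))ᶜ) : V.basicOpen f = U.1 ⊓ W := by
  ext y
  simp only [Opens.coe_inf, Set.mem_inter_iff, SetLike.mem_coe]
  constructor
  · intro hy
    have hy2 : y ∈ U.1 := V.basicOpen_le f hy
    refine ⟨hy2, ?_⟩
    show y ∈ (W : Set V)
    rw [hW]
    show y ∉ I.support
    rw [← Scheme.IdealSheafData.mem_supportSet_iff_mem_support,
      Scheme.IdealSheafData.mem_supportSet_iff_of_mem hy2, hIf, Scheme.zeroLocus_span,
      Scheme.zeroLocus_singleton]
    simpa using hy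
  · rintro ⟨hy2, hy1⟩
    have hy1' : y ∉ I.support := by
      have : y ∈ (W : Set V) := hy1
      rw [hW] at this
      exact this
    rw [← Scheme.IdealSheafData.mem_supportSet_iff_mem_support,
      Scheme.IdealSheafData.mem_supportSet_iff_of_mem hy2, hIf, Scheme.zeroLocus_span,
      Scheme.zeroLocus_singleton] at hy1'
    simpa using hy1'

theorem isSchematicallyDense_of_isEffCartierIdeal {V : Scheme.{u}} (I : V.IdealSheafData)
    (hI : BlowUp.IsEffCartierIdeal I) (W : V.Opens)
    (hW : (W : Set V) = ((I.support : Set V))ᶜ) : CInt.IsSchematicallyDense W := by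
  intro V'
  rw [injective_iff_map_eq_zero]
  intro s hs
  have key : ∀ x : V', ∃ (A : V.Opens) (hA : A ≤ V'), x.1 ∈ A ∧
      V.presheaf.map (homOfLE hA).op s = 0 := by
    intro x
    obtain ⟨U, hxU, f, hf, hIf⟩ := hI x.1
    obtain ⟨g, hg1, hg2⟩ := U.2.exists_basicOpen_le x hxU
    refine ⟨V.basicOpen g, hg1, hg2, ?_⟩
    have hAaff : IsAffineOpen (V.basicOpen g) := U.2.basicOpen g
    have hDf : V.basicOpen f = U.1 ⊓ W := basicOpen_eq_of_ideal_eq_span I U f hIf W hW
    -- `f` restricted to `A`
    have hlocg := U.2.isLocalization_basicOpen g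
    have hfA : algebraMap Γ(V, U.1) Γ(V, V.basicOpen g) f ∈ nonZeroDivisors Γ(V, V.basicOpen g) :=
      IsLocalization.map_nonZeroDivisors_le (Submonoid.powers g) Γ(V, V.basicOpen g)
        (Submonoid.mem_map_of_mem _ hf)
    have hlocf := hAaff.isLocalization_basicOpen (algebraMap Γ(V, U.1) Γ(V, V.basicOpen g) f)
    have hle : V.basicOpen (algebraMap Γ(V, U.1) Γ(V, V.basicOpen g) f) ≤ V' ⊓ W := by
      have e1 : V.basicOpen (algebraMap Γ(V, U.1) Γ(V, V.basicOpen g) f) =
          V.basicOpen g ⊓ V.basicOpen f := Scheme.basicOpen_res _ _ _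
      rw [e1, hDf]
      exact le_inf (inf_le_left.trans hg1) (inf_le_right.trans inf_le_right)
    have hzero : algebraMap Γ(V, V.basicOpen g)
        Γ(V, V.basicOpen (algebraMap Γ(V, U.1) Γ(V, V.basicOpen g) f))
        (V.presheaf.map (homOfLE hg1).op s) = 0 := by
      show (V.presheaf.map (homOfLE (V.basicOpen_le _)).op).hom
        ((V.presheaf.map (homOfLE hg1).op).hom s) = 0
      have e2 : (V.presheaf.map (homOfLE (V.basicOpen_le
          (algebraMap Γ(V, U.1) Γ(V, V.basicOpen g) f))).op).hom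
          ((V.presheaf.map (homOfLE hg1).op).hom s) =
          (V.presheaf.map (homOfLE hle).op).hom
            ((V.presheaf.map (homOfLE (inf_le_left : V' ⊓ W ≤ V')).op).hom s) := by
        rw [← CommRingCat.comp_apply, ← CommRingCat.comp_apply, ← Functor.map_comp,
          ← Functor.map_comp]
        rfl
      rw [e2]
      have hs' : (V.presheaf.map (homOfLE (inf_le_left : V' ⊓ W ≤ V')).op).hom s = 0 := hs
      rw [hs', map_zero]
    obtain ⟨m, hm⟩ := (IsLocalization.map_eq_zero_iff (Submonoid.powers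
      (algebraMap Γ(V, U.1) Γ(V, V.basicOpen g) f))
      Γ(V, V.basicOpen (algebraMap Γ(V, U.1) Γ(V, V.basicOpen g) f)) _).1 hzero
    obtain ⟨n, hn⟩ := m.2
    have hmem : (m : Γ(V, V.basicOpen g)) ∈ nonZeroDivisors Γ(V, V.basicOpen g) := by
      rw [← hn]
      exact pow_mem hfA n
    exact (mul_left_mem_nonZeroDivisors_eq_zero_iff hmem).1 hm
  choose A hA hxA hsA using key
  refine TopCat.Sheaf.eq_of_locally_eq' V.sheaf (fun x : V' => A x) V'
    (fun x => homOfLE (hA x)) (fun y hy => ?_) s 0 (fun x => ?_)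
  · exact Opens.mem_iSup.2 ⟨⟨y, hy⟩, hxA _⟩
  · rw [map_zero]
    exact hsA x

end Groth.Agent.Lib.helper5.EffCartier
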