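import Groth.Agent.Lib.Helper5.FpqcHomB
import Groth.Agent.Lib.Helper5.AlgSpEtaleMono
import Groth.Agent.Lib.Helper5.AlgSpInf2
import Groth.Agent.S10505
import Groth.Prelude.Def_AlgSpSub

/-!
# Elementary distinguished squares of algebraic spaces are pushouts (helper lemmas for S10695)
-/

set_option autoImplicit false
universe u
open CategoryTheory CategoryTheory.Limits AlgebraicGeometry Opposite

namespace Groth.Agent.Lib.helper5.ElemDist

open AlgSp Groth.Agent.Lib.helper5.FpqcSp Groth.Agent.Lib.helper5.FpqcHom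

/-- A criterion for `IsPushout`. -/
theorem isPushout_of_existsUnique {C : Type*} [Category C] {P U V W : C} {p : P ⟶ U} {q : P ⟶ V}
    {j : U ⟶ W} {f : V ⟶ W} (w : p ≫ j = q ≫ f)
    (h : ∀ {Z : C} (a : U ⟶ Z) (b : V ⟶ Z), p ≫ a = q ≫ b →
      ∃ m : W ⟶ Z, j ≫ m = a ∧ f ≫ m = b)
    (huniq : ∀ {Z : C} (m m' : W ⟶ Z), j ≫ m = j ≫ m' → f ≫ m = f ≫ m' → m = m') :
    IsPushout p q j f :=
  ⟨⟨w⟩, ⟨PushoutCocone.IsColimit.mk w (fun s => (h s.inl s.inr s.condition).choose)
    (fun s => (h s.inl s.inr s.condition).choose_spec.1)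
    (fun s => (h s.inl s.inr s.condition).choose_spec.2)
    (fun s _ h1 h2 => huniq _ _ (h1.trans (h s.inl s.inr s.condition).choose_spec.1.symm)
      (h2.trans (h s.inl s.inr s.condition).choose_spec.2.symm))⟩⟩

variable {S : Scheme.{u}}

open Groth.Agent.Lib.helper5.SmLocal Groth.Agent.Lib.helper5.EtMono in
/-- The diagonal of an etale morphism of algebraic spaces is an open immersion. -/
theorem diag_oi {V W : Sp S} (hV : IsAlgSpace V) (hW : IsAlgSpace W) (f : V ⟶ W) (het : IsEtaleMor f) :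
    RepWith @IsOpenImmersion (pullback.lift (𝟙 V) (𝟙 V) rfl : V ⟶ pullback f f) := by
  have sq : IsPullback (pullback.fst f f) (pullback.snd f f) f f := IsPullback.of_hasPullback f f
  have hP : IsAlgSpace (pullback f f) :=
    Groth.Agent.Lib.helper5.isAlgSpace_of_isPullback hW.diag hV hV sq
  have hpr2 : IsEtaleMor (pullback.snd f f) := isEtaleMor_of_isPullback hV hW hV sq het
  have hΔ2 : (pullback.lift (𝟙 V) (𝟙 V) rfl : V ⟶ pullback f f) ≫ pullback.snd f f = 𝟙 V :=
    pullback.lift_snd _ _ _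
  have hΔe : IsEtaleMor (pullback.lift (𝟙 V) (𝟙 V) rfl : V ⟶ pullback f f) :=
    isEtaleMor_of_comp_eq_id hP _ _ hpr2 hΔ2
  haveI hΔm : Mono (pullback.lift (𝟙 V) (𝟙 V) rfl : V ⟶ pullback f f) := mono_of_mono_fac hΔ2
  exact repWith_oi_of_etale_mono hV hP _ hΔe

/-- The family `{j, f}` of an elementary distinguished square is jointly surjective on points. -/
theorem jointly_surj {U V W : Sp S} (j : U ⟶ W) (f : V ⟶ W) (hsq : IsElemDistSq j f)
    (w : Points W) : w ∈ Set.range (Points.map j) ∨ w ∈ Set.range (Points.map f) := by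
  obtain ⟨-, -, T, PT, i, p₁, p₂, ⟨-, hrange, -⟩, sqT, hiso⟩ := hsq
  by_cases hw : w ∈ Set.range (Points.map j)
  · exact Or.inl hw
  · right
    have hw' : w ∈ Set.range (Points.map i) := by
      rw [hrange]
      exact hw
    obtain ⟨t, rfl⟩ := hw'
    refine ⟨Points.map p₂ (Points.map (inv p₁) t), ?_⟩
    rw [← Points.map_comp, ← Points.map_comp, ← sqT.w, ← Category.assoc, IsIso.inv_hom_id,
      Category.id_comp]

open Groth.Agent.Lib.helper11 in
/-- The `(V, V)` coherence for an elementary distinguished square. -/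
theorem coh_VV {U V W P Z : Sp S} (hV : IsAlgSpace V) (hW : IsAlgSpace W) (j : U ⟶ W) (f : V ⟶ W)
    (hsq : IsElemDistSq j f) {p : P ⟶ U} {q : P ⟶ V} (hP : IsPullback p q j f)
    (a : U ⟶ Z) (b : V ⟶ Z) (hab : p ≫ a = q ≫ b)
    {Z' : Over S} (l l' : (yon S).obj Z' ⟶ V) (hll : l ≫ f = l' ≫ f) : l ≫ b = l' ≫ b := by
  have hsq' := hsq
  obtain ⟨hj, het, T, PT, i, p₁, p₂, ⟨hi, hrange, -⟩, sqT, hiso⟩ := hsq
  -- the open part over `U`
  obtain ⟨ZU, cU, fstU, sqU⟩ := hj.rep (l ≫ f)
  have hcU : IsOpenImmersion cU.left := hj.2 _ _ cU sqU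
  -- the closed part over `T`
  obtain ⟨ZT, cT, fstT, sqZT⟩ := hi.rep (l ≫ f)
  -- the equalizer
  have hΔ := diag_oi hV hW f het
  obtain ⟨E, e, fstE, sqE⟩ := hΔ.rep (pullback.lift l l' hll)
  have heo : IsOpenImmersion e.left := hΔ.2 _ _ e sqE
  have hE : (yon S).map e ≫ l = (yon S).map e ≫ l' := by
    have h1 : (yon S).map e ≫ l = fstE := by
      have := congrArg (fun m => m ≫ pullback.fst f f) sqE.w
      simp only [Category.assoc, pullback.lift_fst, Category.comp_id] at this
      exact this.symm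
    have h2 : (yon S).map e ≫ l' = fstE := by
      have := congrArg (fun m => m ≫ pullback.snd f f) sqE.w
      simp only [Category.assoc, pullback.lift_snd, Category.comp_id] at this
      exact this.symm
    rw [h1, h2]
  -- on `ZT` the two maps agree
  have hT : (yon S).map cT ≫ l = (yon S).map cT ≫ l' := by
    have w1 : fstT ≫ i = ((yon S).map cT ≫ l) ≫ f := by rw [sqZT.w, Category.assoc]
    have w2 : fstT ≫ i = ((yon S).map cT ≫ l') ≫ f := by rw [sqZT.w, Category.assoc, hll]
    have e1 : sqT.lift fstT ((yon S).map cT ≫ l) w1 = sqT.lift fstT ((yon S).map cT ≫ l') w2 := by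
      rw [← cancel_mono p₁, sqT.lift_fst, sqT.lift_fst]
    rw [← sqT.lift_snd fstT ((yon S).map cT ≫ l) w1, e1, sqT.lift_snd]
  -- `ZT ⟶ Z'` factors through `E`
  obtain ⟨m, hm⟩ := (yon S).map_surjective (sqE.lift ((yon S).map cT ≫ l) ((yon S).map cT) (by
    apply pullback.hom_ext
    · simp only [Category.assoc, pullback.lift_fst, Category.comp_id]
    · simp only [Category.assoc, pullback.lift_snd, Category.comp_id]
      exact hT))
  have hmc : m ≫ e = cT := by
    apply (yon S).map_injective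
    rw [Functor.map_comp, hm, sqE.lift_snd]
  -- the cover
  let Vk : ULift.{u} Bool → Over S := fun k => cond k.down ZU E
  let ck : ∀ k, Vk k ⟶ Z' := fun k => match k with
    | ⟨true⟩ => cU
    | ⟨false⟩ => e
  refine eq_of_cover Vk ck ?_ ?_ ?_ _ _ ?_
  · rintro ⟨_ | _⟩
    · exact (inferInstance : Flat e.left)
    · exact (inferInstance : Flat cU.left)
  · rintro ⟨_ | _⟩
    · exact (inferInstance : LocallyOfFinitePresentation e.left)
    · exact (inferInstance : LocallyOfFinitePresentation cU.left)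
  · intro z
    rcases jointly_surj j f hsq' (Points.ofPt (l ≫ f) z) with ⟨u, hu⟩ | hw
    · obtain ⟨v, -, hv⟩ := exists_of_isPullback_scheme sqU u z hu
      exact ⟨⟨true⟩, v, hv⟩
    · by_cases hw' : Points.ofPt (l ≫ f) z ∈ Set.range (Points.map j)
      · obtain ⟨u, hu⟩ := hw'
        obtain ⟨v, -, hv⟩ := exists_of_isPullback_scheme sqU u z hu
        exact ⟨⟨true⟩, v, hv⟩
      · have hw'' : Points.ofPt (l ≫ f) z ∈ Set.range (Points.map i) := by
          rw [hrange]
          exact hw'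
        obtain ⟨t, ht⟩ := hw''
        obtain ⟨v, -, hv⟩ := exists_of_isPullback_scheme sqZT t z ht
        refine ⟨⟨false⟩, m.left v, ?_⟩
        change e.left (m.left v) = z
        rw [← hv, ← hmc]
        rfl
  · rintro ⟨_ | _⟩
    · change (yon S).map e ≫ l ≫ b = (yon S).map e ≫ l' ≫ b
      rw [← Category.assoc, hE, Category.assoc]
    · change (yon S).map cU ≫ l ≫ b = (yon S).map cU ≫ l' ≫ b
      have w1 : fstU ≫ j = ((yon S).map cU ≫ l) ≫ f := by rw [sqU.w, Category.assoc]
      have w2 : fstU ≫ j = ((yon S).map cU ≫ l') ≫ f := by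
        rw [sqU.w, Category.assoc, hll]
      have h1 : (yon S).map cU ≫ l ≫ b = fstU ≫ a := by
        rw [← Category.assoc, ← hP.lift_snd fstU ((yon S).map cU ≫ l) w1, Category.assoc, ← hab,
          ← Category.assoc, hP.lift_fst]
      have h2 : (yon S).map cU ≫ l' ≫ b = fstU ≫ a := by
        rw [← Category.assoc, ← hP.lift_snd fstU ((yon S).map cU ≫ l') w2, Category.assoc, ← hab,
          ← Category.assoc, hP.lift_fst]
      rw [h1, h2]

end Groth.Agent.Lib.helper5.ElemDist
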