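import Groth.Agent.Lib.Helper5.ElemDistA
import Groth.Agent.Lib.Helper5.AlgSpSmLocal
import Groth.Agent.Lib.Helper5.AlgSpFibreProduct
import Groth.Agent.Lib.Helper10.AlgSpPoints

/-!
# Separatedness from an elementary distinguished square, part A (helper5)

Category-theoretic squares for `A ×_Y B ⟶ X ×_Y X` and their consequences for etale morphisms of algebraic spaces.
-/

set_option autoImplicit false
universe u
open CategoryTheory CategoryTheory.Limits AlgebraicGeometry Opposite

namespace Groth.Agent.Lib.helper5.ElemDist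

section cat

variable {C : Type*} [Category C] [HasPullbacks C] {A B X Y : C} (a : A ⟶ X) (b : B ⟶ X) (g : X ⟶ Y)

/-- `A ×_Y B ⟶ X ×_Y B`. -/
noncomputable def mapL : pullback (a ≫ g) (b ≫ g) ⟶ pullback g (b ≫ g) :=
  pullback.map (a ≫ g) (b ≫ g) g (b ≫ g) a (𝟙 B) (𝟙 Y) (by simp) (by simp)

/-- `X ×_Y B ⟶ X ×_Y X`. -/
noncomputable def mapR : pullback g (b ≫ g) ⟶ pullback g g :=
  pullback.map g (b ≫ g) g g (𝟙 X) b (𝟙 Y) (by simp) (by simp)

/-- `A ×_Y B ⟶ X ×_Y X`. -/
noncomputable def mapM : pullback (a ≫ g) (b ≫ g) ⟶ pullback g g :=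
  pullback.map (a ≫ g) (b ≫ g) g g a b (𝟙 Y) (Category.comp_id _) (Category.comp_id _)

/-- `A ×_X B ⟶ A ×_Y B`. -/
noncomputable def mapP : pullback a b ⟶ pullback (a ≫ g) (b ≫ g) :=
  pullback.map a b (a ≫ g) (b ≫ g) (𝟙 A) (𝟙 B) g (Category.id_comp _).symm (Category.id_comp _).symm

set_option backward.isDefEq.respectTransparency false in
theorem mapL_mapR : mapL a b g ≫ mapR b g = mapM a b g := by
  apply pullback.hom_ext <;> simp [mapL, mapR, mapM]

set_option backward.isDefEq.respectTransparency false in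
theorem isPullback_mapL :
    IsPullback (mapL a b g) (pullback.fst (a ≫ g) (b ≫ g)) (pullback.fst g (b ≫ g)) a := by
  refine IsPullback.of_right ?_ ?_ (IsPullback.of_hasPullback g (b ≫ g)).flip
  · have : mapL a b g ≫ pullback.snd g (b ≫ g) = pullback.snd (a ≫ g) (b ≫ g) := by simp [mapL]
    rw [this]
    exact (IsPullback.of_hasPullback (a ≫ g) (b ≫ g)).flip
  · simp [mapL]

set_option backward.isDefEq.respectTransparency false in
theorem isPullback_mapR :
    IsPullback (mapR b g) (pullback.snd g (b ≫ g)) (pullback.snd g g) b := by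
  refine IsPullback.of_right ?_ ?_ (IsPullback.of_hasPullback g g)
  · have : mapR b g ≫ pullback.fst g g = pullback.fst g (b ≫ g) := by simp [mapR]
    rw [this]
    exact IsPullback.of_hasPullback g (b ≫ g)
  · simp [mapR]

theorem isPullback_mapP :
    IsPullback (pullback.fst a b ≫ a) (mapP a b g) (pullback.diagonal g) (mapM a b g) :=
  pullback_map_diagonal_isPullback a b g

end cat

open AlgSp

variable {S : Scheme.{u}}

theorem isEtaleMor_comp {F G H : Sp S} (f : F ⟶ G) (g : G ⟶ H) (hf : IsEtaleMor f)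
    (hg : IsEtaleMor g) : IsEtaleMor (f ≫ g) := fun U φ hφ => by
  rw [← Category.assoc]
  exact hg _ (hf φ hφ)

open Groth.Agent.Lib.helper5.SmLocal in
theorem isEtaleMor_mapM {A B X Y : Sp S} (hA : IsAlgSpace A) (hB : IsAlgSpace B) (hX : IsAlgSpace X)
    (hY : IsAlgSpace Y) (a : A ⟶ X) (b : B ⟶ X) (g : X ⟶ Y) (ha : IsEtaleMor a) (hb : IsEtaleMor b) :
    IsEtaleMor (mapM a b g) := by
  rw [← mapL_mapR]
  have hP2 : IsAlgSpace (pullback g (b ≫ g)) :=
    isAlgSpace_of_isPullback hY.diag hX hB (IsPullback.of_hasPullback _ _)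
  have hP3 : IsAlgSpace (pullback g g) :=
    isAlgSpace_of_isPullback hY.diag hX hX (IsPullback.of_hasPullback _ _)
  refine isEtaleMor_comp _ _ ?_ ?_
  · exact isEtaleMor_of_isPullback hA hX hP2 (isPullback_mapL a b g).flip ha
  · exact isEtaleMor_of_isPullback hB hX hP3 (isPullback_mapR b g).flip hb

set_option backward.isDefEq.respectTransparency false in
open Groth.Agent.Lib.helper10 in
theorem mem_range_mapM {A B X Y : Sp S} (a : A ⟶ X) (b : B ⟶ X) (g : X ⟶ Y)
    (x : Points (pullback g g)) (α : Points A) (β : Points B)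
    (hα : Points.map a α = Points.map (pullback.fst g g) x)
    (hβ : Points.map b β = Points.map (pullback.snd g g) x) :
    x ∈ Set.range (Points.map (mapM a b g)) := by
  obtain ⟨x₂, hx₂1, hx₂2⟩ := exists_point_of_isPullback (isPullback_mapR b g) x β hβ.symm
  have h2 : Points.map (pullback.fst g (b ≫ g)) x₂ = Points.map a α := by
    have e : mapR b g ≫ pullback.fst g g = pullback.fst g (b ≫ g) := by simp [mapR]
    rw [hα, ← hx₂1, ← Points.map_comp, e]
  obtain ⟨x₁, hx₁1, -⟩ := exists_point_of_isPullback (isPullback_mapL a b g) x₂ α h2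
  exact ⟨x₁, by rw [← mapL_mapR, Points.map_comp, hx₁1, hx₂1]⟩

end Groth.Agent.Lib.helper5.ElemDist
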