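import Groth.Agent.Lib.Helper5.ElemDistSepA
import Groth.Agent.Lib.Helper18.AlgSp
import Groth.Agent.Lib.Helper5.AlgSpGrpLocus
import Groth.Agent.Lib.Helper5.AlgSpUniv2
import Groth.Agent.Lib.Helper5.AlgSpFpqcIso
import Groth.Agent.Lib.Helper5.AlgSpLargestOpen

/-!
# Separatedness from an elementary distinguished square, part B (helper5)

* `univSp_of_iso`: `UnivSp Q` is invariant under isomorphisms of arrows.
* `isClosedMap_comp_of_isClosed_range`: a closed map followed by an open embedding, with closed range, is a closed map.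
* `isUnivClosedMor_comp_oi`: a universally closed morphism followed by an open immersion, with closed image, is
  universally closed.
-/

set_option autoImplicit false
universe u
open CategoryTheory CategoryTheory.Limits AlgebraicGeometry Opposite Topology

namespace Groth.Agent.Lib.helper5.ElemDist

open AlgSp

variable {S : Scheme.{u}}

theorem univSp_of_iso {Q : MorphismProperty (Sp S)} {A A' B B' : Sp S} (e₁ : A ≅ A') (e₂ : B' ≅ B)
    (p' : A' ⟶ B') (h : UnivSp Q p') : UnivSp Q (e₁.hom ≫ p' ≫ e₂.hom) := by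
  intro Z Z' hZ k fst snd sq
  refine h hZ (k ≫ e₂.inv) (fst ≫ e₁.hom) snd ?_
  refine IsPullback.of_iso sq (Iso.refl _) e₁ (Iso.refl _) e₂.symm ?_ ?_ ?_ ?_
  · simp
  · simp
  · simp
  · simp

theorem isClosedMap_comp_of_isClosed_range {A B C : Type*} [TopologicalSpace A] [TopologicalSpace B]
    [TopologicalSpace C] (γ : A → B) (o : B → C) (hγ : IsClosedMap γ) (ho : IsOpenEmbedding o)
    (hr : IsClosed (Set.range (o ∘ γ))) : IsClosedMap (o ∘ γ) := by
  intro K hK
  obtain ⟨D, hD, hDK⟩ := ho.isInducing.isClosed_iff.1 (hγ K hK)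
  have : (o ∘ γ) '' K = D ∩ Set.range (o ∘ γ) := by
    ext c
    constructor
    · rintro ⟨k, hk, rfl⟩
      refine ⟨?_, ⟨k, rfl⟩⟩
      have : γ k ∈ o ⁻¹' D := by rw [hDK]; exact ⟨k, hk, rfl⟩
      exact this
    · rintro ⟨hcD, ⟨a, rfl⟩⟩
      have : γ a ∈ γ '' K := by rw [← hDK]; exact hcD
      obtain ⟨k, hk, hka⟩ := this
      exact ⟨k, hk, by simp only [Function.comp_apply, hka]⟩
  rw [this]
  exact hD.inter hr

theorem isOpenEmbedding_map_of_oi {F G : Sp S} (o : F ⟶ G) (ho : RepWith @IsOpenImmersion o) :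
    IsOpenEmbedding (Points.map o) := by
  haveI : Mono o := LargestOpen.mono_of_oi ho
  refine IsOpenEmbedding.of_continuous_injective_isOpenMap (Points.continuous_map o)
    (FpqcIso.injective_map_of_mono o) ?_
  exact isOpenMap_map_of_repWith_etale o (Groth.Agent.Lib.helper18.repWith_mono (fun _ _ g hg => by
    have : IsOpenImmersion g := hg
    exact (inferInstance : Etale g)) ho)

open Groth.Agent.Lib.helper10 in
theorem isUnivClosedMor_comp_oi {A O B : Sp S} (γ : A ⟶ O) (o : O ⟶ B) (hγ : IsUnivClosedMor γ)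
    (ho : RepWith @IsOpenImmersion o) (hcl : IsClosed (Set.range (Points.map (γ ≫ o)))) :
    IsUnivClosedMor (γ ≫ o) := by
  intro Z Z' hZ k fst snd sq
  have sqO : IsPullback (pullback.fst o k) (pullback.snd o k) o k := IsPullback.of_hasPullback o k
  have hoZ : RepWith @IsOpenImmersion (pullback.snd o k) :=
    (RepWith (S := S) @IsOpenImmersion).of_isPullback sqO ho
  have hOZ : IsAlgSpace (pullback o k) := GrpLocus.isAlgSpace_of_representable _ hoZ.rep hZ
  have hw : (fst ≫ γ) ≫ o = snd ≫ k := by rw [Category.assoc, sq.w]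
  have sqγ : IsPullback fst (sqO.lift (fst ≫ γ) snd hw) γ (pullback.fst o k) := by
    refine IsPullback.of_bot ?_ (sqO.lift_fst _ _ _).symm sqO
    rw [sqO.lift_snd]
    exact sq
  have h1 : IsClosedMap (Points.map (sqO.lift (fst ≫ γ) snd hw)) := hγ hOZ _ _ _ sqγ
  have h2 : IsOpenEmbedding (Points.map (pullback.snd o k)) := isOpenEmbedding_map_of_oi _ hoZ
  have hsnd : Points.map snd =
      Points.map (pullback.snd o k) ∘ Points.map (sqO.lift (fst ≫ γ) snd hw) := by
    funext x
    rw [Function.comp_apply, ← Points.map_comp, sqO.lift_snd]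
  have hrange : Set.range (Points.map snd) = Points.map k ⁻¹' Set.range (Points.map (γ ≫ o)) := by
    ext z
    constructor
    · rintro ⟨x, rfl⟩
      refine ⟨Points.map fst x, ?_⟩
      rw [← Points.map_comp, sq.w, Points.map_comp]
    · rintro ⟨a, ha⟩
      obtain ⟨x, -, hx⟩ := exists_point_of_isPullback sq a z ha
      exact ⟨x, hx⟩
  change IsClosedMap (Points.map snd)
  rw [hsnd]
  refine isClosedMap_comp_of_isClosed_range _ _ h1 h2 ?_
  rw [← hsnd, hrange]
  exact hcl.preimage (Points.continuous_map k)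

end Groth.Agent.Lib.helper5.ElemDist
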