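import Groth.Agent.Lib.Helper5.ElemDistSepB
import Groth.Agent.Lib.Helper4.AlgSpSmLocalST
import Groth.Agent.Lib.Helper1.Diagonal
import Groth.Agent.S10521

/-!
# Separatedness from an elementary distinguished square, part C (helper5)

`isSeparatedMor_of_elemDist`: the criterion (the statement of S10698 at the level of sheaves).
-/

set_option autoImplicit false
universe u
open CategoryTheory CategoryTheory.Limits AlgebraicGeometry Opposite Topology

namespace Groth.Agent.Lib.helper5.ElemDist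

open AlgSp

variable {S : Scheme.{u}}

set_option backward.isDefEq.respectTransparency false in
theorem isUnivClosedMor_mapP_self {U X Y : Sp S} (j : U ⟶ X) [Mono j] (g : X ⟶ Y)
    (h : IsUnivClosedMor (pullback.diagonal (j ≫ g))) : IsUnivClosedMor (mapP j j g) := by
  haveI : IsIso (pullback.diagonal j) := (pullback.isIso_diagonal_iff j).2 inferInstance
  have e : mapP j j g = (asIso (pullback.diagonal j)).symm.hom ≫ pullback.diagonal (j ≫ g) ≫
      (Iso.refl _).hom := by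
    change mapP j j g = inv (pullback.diagonal j) ≫ pullback.diagonal (j ≫ g) ≫ 𝟙 _
    rw [IsIso.eq_inv_comp, Category.comp_id]
    apply pullback.hom_ext <;> simp [mapP]
  rw [e]
  exact univSp_of_iso _ _ _ h

set_option backward.isDefEq.respectTransparency false in
theorem isUnivClosedMor_mapP_of_iso {A B X Y QX QY : Sp S} (a : A ⟶ X) (b : B ⟶ X) (g : X ⟶ Y)
    {r₁ : QX ⟶ A} {r₂ : QX ⟶ B} (hQX : IsPullback r₁ r₂ a b)
    {s₁ : QY ⟶ A} {s₂ : QY ⟶ B} (hQY : IsPullback s₁ s₂ (a ≫ g) (b ≫ g))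
    (d : QX ⟶ QY) (hd₁ : d ≫ s₁ = r₁) (hd₂ : d ≫ s₂ = r₂) (hd : IsUnivClosedMor d) :
    IsUnivClosedMor (mapP a b g) := by
  have e : mapP a b g = hQX.isoPullback.symm.hom ≫ d ≫ hQY.isoPullback.hom := by
    change mapP a b g = hQX.isoPullback.inv ≫ d ≫ hQY.isoPullback.hom
    rw [Iso.eq_inv_comp]
    apply pullback.hom_ext
    · simp [mapP, hd₁]
    · simp [mapP, hd₂]
  rw [e]
  exact univSp_of_iso _ _ d hd

set_option backward.isDefEq.respectTransparency false in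
theorem isUnivClosedMor_mapP_symm {A B X Y : Sp S} (a : A ⟶ X) (b : B ⟶ X) (g : X ⟶ Y)
    (h : IsUnivClosedMor (mapP a b g)) : IsUnivClosedMor (mapP b a g) := by
  have e : mapP b a g = (pullbackSymmetry b a).hom ≫ mapP a b g ≫
      (pullbackSymmetry (a ≫ g) (b ≫ g)).hom := by
    apply pullback.hom_ext <;> simp [mapP]
  rw [e]
  exact univSp_of_iso _ _ _ h

theorem isUnivClosedMor_of_graph {U V X Y PX PY : Sp S} (g : X ⟶ Y) (j : U ⟶ X) (f : V ⟶ X)
    (hj : RepWith @IsOpenImmersion j) (hUsep : IsSeparatedMor (j ≫ g))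
    {pX : PX ⟶ U} {qX : PX ⟶ V} (hPX : IsPullback pX qX j f)
    {pY : PY ⟶ U} {qY : PY ⟶ V} (hPY : IsPullback pY qY (j ≫ g) (f ≫ g))
    (c : PX ⟶ PY) (hc₁ : c ≫ pY = pX) (hc₂ : c ≫ qY = qX) (hcl : IsClosedMor c) :
    IsUnivClosedMor c := by
  -- the graph of `pX`
  have sqΓ := pullback_lift_diagonal_isPullback pX (j ≫ g)
  have hΓ : RepWith @IsClosedImmersion (pullback.lift (𝟙 PX) pX (by simp) :
      PX ⟶ pullback (pX ≫ j ≫ g) (j ≫ g)) :=
    (RepWith (S := S) @IsClosedImmersion).of_isPullback sqΓ hUsep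
  have hΓuc := Groth.Agent.Lib.helper18.isUnivClosedMor_of_repWith_isClosedImmersion _ hΓ
  -- the open immersion
  have hw : pullback.snd (pX ≫ j ≫ g) (j ≫ g) ≫ (j ≫ g) =
      (pullback.fst (pX ≫ j ≫ g) (j ≫ g) ≫ qX) ≫ (f ≫ g) := by
    rw [← pullback.condition, Category.assoc, ← Category.assoc qX, ← hPX.w, Category.assoc]
  have hqfg : qX ≫ (f ≫ g) = pX ≫ j ≫ g := by
    rw [← Category.assoc, ← hPX.w, Category.assoc]
  have sqo : IsPullback (hPY.lift _ _ hw) (pullback.fst (pX ≫ j ≫ g) (j ≫ g)) qY qX := by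
    refine IsPullback.of_right ?_ (hPY.lift_snd _ _ _) hPY
    rw [hPY.lift_fst, hqfg]
    exact (IsPullback.of_hasPullback (pX ≫ j ≫ g) (j ≫ g)).flip
  have hqX : RepWith @IsOpenImmersion qX := (RepWith (S := S) @IsOpenImmersion).of_isPullback hPX hj
  have ho : RepWith @IsOpenImmersion (hPY.lift _ _ hw) :=
    (RepWith (S := S) @IsOpenImmersion).of_isPullback sqo.flip hqX
  have hc : (pullback.lift (𝟙 PX) pX (by simp) : PX ⟶ pullback (pX ≫ j ≫ g) (j ≫ g)) ≫
      hPY.lift _ _ hw = c := by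
    apply hPY.hom_ext
    · rw [Category.assoc, hPY.lift_fst, pullback.lift_snd, hc₁]
    · rw [Category.assoc, hPY.lift_snd, ← Category.assoc, pullback.lift_fst, Category.id_comp, hc₂]
  rw [← hc]
  refine isUnivClosedMor_comp_oi _ _ hΓuc ho ?_
  rw [hc]
  exact hcl.isClosed_range

open Groth.Agent.Lib.helper5.SmLocal in
theorem isSeparatedMor_of_elemDist {U V X Y PX PY QX QY : Sp S} (hU : IsAlgSpace U)
    (hV : IsAlgSpace V) (hX : IsAlgSpace X) (hY : IsAlgSpace Y) (g : X ⟶ Y)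
    (j : U ⟶ X) (f : V ⟶ X) (hsq : IsElemDistSq j f)
    (hUsep : IsSeparatedMor (j ≫ g))
    (pX : PX ⟶ U) (qX : PX ⟶ V) (hPX : IsPullback pX qX j f)
    (pY : PY ⟶ U) (qY : PY ⟶ V) (hPY : IsPullback pY qY (j ≫ g) (f ≫ g))
    (c : PX ⟶ PY) (hc₁ : c ≫ pY = pX) (hc₂ : c ≫ qY = qX) (hcl : IsClosedMor c)
    (rX₁ rX₂ : QX ⟶ V) (hQX : IsPullback rX₁ rX₂ f f)
    (rY₁ rY₂ : QY ⟶ V) (hQY : IsPullback rY₁ rY₂ (f ≫ g) (f ≫ g))
    (d : QX ⟶ QY) (hd₁ : d ≫ rY₁ = rX₁) (hd₂ : d ≫ rY₂ = rX₂)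
    (hdcl : RepWith @IsClosedImmersion d) : IsSeparatedMor g := by
  have hj : RepWith @IsOpenImmersion j := hsq.1
  have hfet : IsEtaleMor f := hsq.2.1
  haveI : Mono j := LargestOpen.mono_of_oi hj
  have hjet : IsEtaleMor j := fun T φ hφ =>
    (repWith_isMultiplicative (S := S) @Etale).comp_mem _ _ hφ
      (Groth.Agent.Lib.helper18.repWith_mono (fun _ _ k hk => by
        have : IsOpenImmersion k := hk
        exact (inferInstance : Etale k)) hj)
  refine Groth.Agent.H1.Diagonal.repWith_isClosedImmersion_diagonal_of_univClosed hX hY g ?_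
  -- the family
  let E : ULift.{u} Bool → Sp S := fun i => match i with
    | ⟨true⟩ => V
    | ⟨false⟩ => U
  let e : ∀ i, E i ⟶ X := fun i => match i with
    | ⟨true⟩ => f
    | ⟨false⟩ => j
  have hE : ∀ i, IsAlgSpace (E i) := fun i => match i with
    | ⟨true⟩ => hV
    | ⟨false⟩ => hU
  have he : ∀ i, IsEtaleMor (e i) := fun i => match i with
    | ⟨true⟩ => hfet
    | ⟨false⟩ => hjet
  have hsurj : ∀ w : Points X, ∃ (i : ULift.{u} Bool) (α : Points (E i)), Points.map (e i) α = w := by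
    intro w
    rcases jointly_surj j f hsq w with ⟨α, hα⟩ | ⟨α, hα⟩
    · exact ⟨⟨false⟩, α, hα⟩
    · exact ⟨⟨true⟩, α, hα⟩
  let Yi : ULift.{u} Bool × ULift.{u} Bool → Sp S := fun ik => pullback (e ik.1 ≫ g) (e ik.2 ≫ g)
  let m : ∀ ik, Yi ik ⟶ pullback g g := fun ik => mapM (e ik.1) (e ik.2) g
  let Xi : ULift.{u} Bool × ULift.{u} Bool → Sp S := fun ik => pullback (e ik.1) (e ik.2)
  let p : ∀ ik, Xi ik ⟶ Yi ik := fun ik => mapP (e ik.1) (e ik.2) g
  let q : ∀ ik, Xi ik ⟶ X := fun ik => pullback.fst (e ik.1) (e ik.2) ≫ e ik.1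
  have hXX : IsAlgSpace (pullback g g) :=
    isAlgSpace_of_isPullback hY.diag hX hX (IsPullback.of_hasPullback g g)
  have hYi : ∀ ik, IsAlgSpace (Yi ik) := fun ik =>
    isAlgSpace_of_isPullback hY.diag (hE _) (hE _) (IsPullback.of_hasPullback _ _)
  have hXi : ∀ ik, IsAlgSpace (Xi ik) := fun ik =>
    isAlgSpace_of_isPullback hX.diag (hE _) (hE _) (IsPullback.of_hasPullback _ _)
  have hcov : IsFpqcCover Yi m := by
    refine Groth.Agent.Lib.helper4.SmLocalST.isFpqcCover_of_isSmCover Yi m hXX hYi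
      ⟨fun ik => locP_smooth_of_isEtaleMor _
        (isEtaleMor_mapM (hE _) (hE _) hX hY _ _ g (he _) (he _)), fun x => ?_⟩
    obtain ⟨i, α, hα⟩ := hsurj (Points.map (pullback.fst g g) x)
    obtain ⟨k, β, hβ⟩ := hsurj (Points.map (pullback.snd g g) x)
    exact ⟨(i, k), mem_range_mapM (e i) (e k) g x α β hα hβ⟩
  refine ((Groth.Agent.S10521.result S) Yi m hXX hYi hcov (pullback.diagonal g) hX Xi p q hXi
    (fun ik => isPullback_mapP _ _ g)).2 ?_
  rintro ⟨⟨_ | _⟩, ⟨_ | _⟩⟩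
  · -- (U, U)
    change IsUnivClosedMor (mapP j j g)
    exact isUnivClosedMor_mapP_self j g
      (Groth.Agent.Lib.helper18.isUnivClosedMor_of_repWith_isClosedImmersion _ hUsep)
  · -- (U, V)
    change IsUnivClosedMor (mapP j f g)
    exact isUnivClosedMor_mapP_of_iso j f g hPX hPY c hc₁ hc₂
      (isUnivClosedMor_of_graph g j f hj hUsep hPX hPY c hc₁ hc₂ hcl)
  · -- (V, U)
    change IsUnivClosedMor (mapP f j g)
    exact isUnivClosedMor_mapP_symm j f g (isUnivClosedMor_mapP_of_iso j f g hPX hPY c hc₁ hc₂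
      (isUnivClosedMor_of_graph g j f hj hUsep hPX hPY c hc₁ hc₂ hcl))
  · -- (V, V)
    change IsUnivClosedMor (mapP f f g)
    exact isUnivClosedMor_mapP_of_iso f f g hQX hQY d hd₁ hd₂
      (Groth.Agent.Lib.helper18.isUnivClosedMor_of_repWith_isClosedImmersion _ hdcl)

end Groth.Agent.Lib.helper5.ElemDist
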