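import Groth.Prelude.Def_AlgSpOX3
import Groth.Agent.Lib.Helper11.AlgSpBasic
import Mathlib.AlgebraicGeometry.Sites.EtalePoint

/-!
# Lifting separably closed points along etale charts of sheaves (helper5)
-/

set_option autoImplicit false
universe u
open CategoryTheory CategoryTheory.Limits AlgebraicGeometry Opposite
open AlgSp

set_option backward.isDefEq.respectTransparency false

namespace Groth.Agent.Lib.helper5.EtPoint

open Groth.Agent.Lib.helper11

variable {S : Scheme.{u}}

/-- A point of a scheme etale over a separably closed field point lifts. -/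
theorem exists_lift_scheme {W T : Over S} (g : W ⟶ T) [Etale g.left] {K : Type u} [Field K] [IsSepClosed K]
    {str : Spec (CommRingCat.of K) ⟶ S} (t : Over.mk str ⟶ T) (w : ↥W.left)
    (hw : g.left w = t.left (default : ↥(Spec (CommRingCat.of K)))) :
    ∃ l : Over.mk str ⟶ W, l ≫ g = t ∧ l.left (default : ↥(Spec (CommRingCat.of K))) = w := by
  obtain ⟨l₀, hl₀, hl₁⟩ := Scheme.exists_fac_of_etale_of_isSepClosed g.left t.left w hw
  refine ⟨Over.homMk l₀ ?_, ?_, hl₁⟩
  · have h1 := Over.w g
    have h2 := Over.w t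
    dsimp at h1 h2 ⊢
    rw [← h1, ← Category.assoc, hl₀, h2]
  · apply Over.OverMorphism.ext
    exact hl₀

/-- Lifting a separably closed field point of a sheaf along a representable etale chart through a given point. -/
theorem exists_lift_chart {X : Sp S} {W : Over S} (b : (yon S).obj W ⟶ X) (hb : RepWith @Etale b)
    (p : FieldPt X) [IsSepClosed p.K] (w : ↥W.left) (hw : Points.ofPt b w = Points.mk p) :
    ∃ l : p.pt ⟶ W, (yon S).map l ≫ b = p.toHom ∧
      l.left (default : ↥(Spec (CommRingCat.of p.K))) = w := by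
  obtain ⟨T, snd, fst, sq⟩ := hb.1 p.toHom
  have het : Etale snd.left := hb.2 p.toHom fst snd sq
  obtain ⟨t₁, rfl⟩ := (yon S).map_surjective fst
  obtain ⟨t, ht1, ht2⟩ := exists_of_isPullback_schemes sq w (default : ↥(Spec (CommRingCat.of p.K)))
    (by rw [hw, Points.ofPt_toHom])
  obtain ⟨l₁, hl₁, hl₂⟩ := exists_lift_scheme snd (𝟙 p.pt) t (by rw [ht2]; rfl)
  refine ⟨l₁ ≫ t₁, ?_, ?_⟩
  · rw [Functor.map_comp, Category.assoc, sq.w, ← Category.assoc, ← Functor.map_comp, hl₁,
      CategoryTheory.Functor.map_id, Category.id_comp]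
  · rw [Over.comp_left, Scheme.Hom.comp_apply, hl₂, ht1]

/-- `S10216`-type statement for sheaves with an etale atlas. -/
theorem exists_lift_space {U X : AlgSp.Space S} (φ : U ⟶ X) (hφ : AlgSp.IsEtaleMor φ.hom)
    (p : FieldPt X.obj) [IsSepClosed p.K] (u : Points U.obj) (hu : Points.map φ.hom u = Points.mk p) :
    ∃ ubar : (yon S).obj p.pt ⟶ U.obj, ubar ≫ φ.hom = p.toHom ∧
      Points.ofPt ubar (default : ↥(Spec (CommRingCat.of p.K))) = u := by
  obtain ⟨W, a, hae, has⟩ := U.property.atlas
  obtain ⟨w, rfl⟩ := surjective_ofPt a has u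
  have hb : RepWith @Etale (a ≫ φ.hom) := hφ a hae
  obtain ⟨l, hl1, hl2⟩ := exists_lift_chart (a ≫ φ.hom) hb p w (by rw [← Points.map_ofPt, hu])
  refine ⟨(yon S).map l ≫ a, ?_, ?_⟩
  · rw [Category.assoc, hl1]
  · rw [ofPt_yon_map_comp, hl2]

end Groth.Agent.Lib.helper5.EtPoint
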