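import Groth.Agent.Lib.Helper5.EtPoint1

/-!
# Etale neighbourhoods of a field-valued point of a sheaf: cofilteredness (helper5)
-/

set_option autoImplicit false
universe u
open CategoryTheory CategoryTheory.Limits AlgebraicGeometry Opposite
open AlgSp

set_option backward.isDefEq.respectTransparency false

namespace Groth.Agent.Lib.helper5.EtPoint

open Groth.Agent.Lib.helper11

variable {S : Scheme.{u}} {X : Sp S} (p : FieldPt X)

theorem liftsTo_map_val {E E' : EtOver X} (g : E ⟶ E') (u : (FieldPt.liftsTo p).obj E) :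
    ((FieldPt.liftsTo p).map g u).1 = u.1 ≫ g.hom.left := rfl

theorem liftsTo_ext {E : EtOver X} (u u' : (FieldPt.liftsTo p).obj E) (h : u.1 = u'.1) : u = u' :=
  Subtype.ext h

/-- The category of etale neighbourhoods of a field-valued point is cofiltered or empty. -/
theorem isCofilteredOrEmpty_etNbhd : IsCofilteredOrEmpty (EtNbhd p) where
  cone_objs := by
    rintro ⟨E₁, u₁⟩ ⟨E₂, u₂⟩
    let l := E₂.property.1.lift' u₂.1 u₁.1 (by rw [u₁.2, u₂.2])
    have hl1 : l ≫ E₂.property.1.snd E₁.obj.hom = u₁.1 :=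
      Functor.relativelyRepresentable.lift'_snd _ _ _ _
    have hl2 : l ≫ E₂.property.1.fst' E₁.obj.hom = u₂.1 :=
      Functor.relativelyRepresentable.lift'_fst _ _ _ _
    have hl : (yon S).map l ≫ (EtOver.prodObj E₁ E₂).obj.hom = p.toHom := by
      change (yon S).map l ≫ (yon S).map _ ≫ E₁.obj.hom = _
      rw [← Category.assoc, ← Functor.map_comp, hl1]
      exact u₁.2
    exact ⟨⟨EtOver.prodObj E₁ E₂, ⟨l, hl⟩⟩, ⟨EtOver.prodFst E₁ E₂, liftsTo_ext p _ _ hl1⟩,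
      ⟨EtOver.prodSnd E₁ E₂, liftsTo_ext p _ _ hl2⟩, trivial⟩
  cone_maps := by
    rintro ⟨E₁, u₁⟩ ⟨E₂, u₂⟩ ⟨f, hf⟩ ⟨g, hg⟩
    have hf' : u₁.1 ≫ f.hom.left = u₂.1 := congrArg Subtype.val hf
    have hg' : u₁.1 ≫ g.hom.left = u₂.1 := congrArg Subtype.val hg
    let Δ : E₂ ⟶ EtOver.prodObj E₂ E₂ := (EtOver.prodIsLimit E₂ E₂).lift (BinaryFan.mk (𝟙 E₂) (𝟙 E₂))
    let fg : E₁ ⟶ EtOver.prodObj E₂ E₂ := (EtOver.prodIsLimit E₂ E₂).lift (BinaryFan.mk f g)
    have hΔ1 : Δ ≫ EtOver.prodFst E₂ E₂ = 𝟙 E₂ :=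
      (EtOver.prodIsLimit E₂ E₂).fac (BinaryFan.mk (𝟙 E₂) (𝟙 E₂)) ⟨WalkingPair.left⟩
    have hΔ2 : Δ ≫ EtOver.prodSnd E₂ E₂ = 𝟙 E₂ :=
      (EtOver.prodIsLimit E₂ E₂).fac (BinaryFan.mk (𝟙 E₂) (𝟙 E₂)) ⟨WalkingPair.right⟩
    have hfg1 : fg ≫ EtOver.prodFst E₂ E₂ = f :=
      (EtOver.prodIsLimit E₂ E₂).fac (BinaryFan.mk f g) ⟨WalkingPair.left⟩
    have hfg2 : fg ≫ EtOver.prodSnd E₂ E₂ = g :=
      (EtOver.prodIsLimit E₂ E₂).fac (BinaryFan.mk f g) ⟨WalkingPair.right⟩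
    have hcond : u₁.1 ≫ fg.hom.left = u₂.1 ≫ Δ.hom.left := by
      refine Functor.relativelyRepresentable.hom_ext' (hf' := E₂.property.1) (g := E₂.obj.hom) ?_ ?_
      · have e1 : fg.hom.left ≫ E₂.property.1.fst' E₂.obj.hom = g.hom.left :=
          congrArg (fun k => k.hom.left) hfg2
        have e2 : Δ.hom.left ≫ E₂.property.1.fst' E₂.obj.hom = 𝟙 _ :=
          congrArg (fun k => k.hom.left) hΔ2
        rw [Category.assoc, Category.assoc, e1, e2, hg', Category.comp_id]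
      · have e1 : fg.hom.left ≫ E₂.property.1.snd E₂.obj.hom = f.hom.left :=
          congrArg (fun k => k.hom.left) hfg1
        have e2 : Δ.hom.left ≫ E₂.property.1.snd E₂.obj.hom = 𝟙 _ :=
          congrArg (fun k => k.hom.left) hΔ1
        rw [Category.assoc, Category.assoc, e1, e2, hf', Category.comp_id]
    let l := pullback.lift u₁.1 u₂.1 hcond
    have hl1 : l ≫ pullback.fst fg.hom.left Δ.hom.left = u₁.1 := pullback.lift_fst _ _ _
    have hl : (yon S).map l ≫ (EtOver.pullbackObj fg Δ).obj.hom = p.toHom := by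
      change (yon S).map l ≫ (yon S).map _ ≫ E₁.obj.hom = _
      rw [← Category.assoc, ← Functor.map_comp, hl1]
      exact u₁.2
    refine ⟨⟨EtOver.pullbackObj fg Δ, ⟨l, hl⟩⟩, ⟨EtOver.pullbackFst fg Δ, liftsTo_ext p _ _ hl1⟩, ?_⟩
    apply Subtype.ext
    change EtOver.pullbackFst fg Δ ≫ f = EtOver.pullbackFst fg Δ ≫ g
    have hc := EtOver.pullback_condition fg Δ
    calc EtOver.pullbackFst fg Δ ≫ f = (EtOver.pullbackFst fg Δ ≫ fg) ≫ EtOver.prodFst E₂ E₂ := by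
          rw [Category.assoc, hfg1]
      _ = EtOver.pullbackSnd fg Δ := by rw [hc, Category.assoc, hΔ1, Category.comp_id]
      _ = (EtOver.pullbackFst fg Δ ≫ fg) ≫ EtOver.prodSnd E₂ E₂ := by
          rw [hc, Category.assoc, hΔ2, Category.comp_id]
      _ = EtOver.pullbackFst fg Δ ≫ g := by rw [Category.assoc, hfg2]

/-- A separably closed point of a sheaf with an etale atlas has an etale neighbourhood. -/
theorem nonempty_etNbhd (hX : IsAlgSpace X) [IsSepClosed p.K] : Nonempty (EtNbhd p) := by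
  obtain ⟨W, a, hae, has⟩ := hX.atlas
  obtain ⟨w, hw⟩ := surjective_ofPt a has (Points.mk p)
  obtain ⟨l, hl1, -⟩ := exists_lift_chart a hae p w hw
  exact ⟨⟨EtOver.mk a hae, ⟨l, hl1⟩⟩⟩

theorem isCofiltered_etNbhd (hX : IsAlgSpace X) [IsSepClosed p.K] : IsCofiltered (EtNbhd p) :=
  have := isCofilteredOrEmpty_etNbhd p
  have := nonempty_etNbhd p hX
  {}

/-- A separably closed lift to the target of a covering family lifts to a member of the family. -/
theorem exists_lift_of_cover [IsSepClosed p.K] {E : EtOver X} (u : (FieldPt.liftsTo p).obj E) {ι : Type*}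
    (Ui : ι → EtOver X) (g : ∀ i, Ui i ⟶ E)
    (hcov : ∀ x : ↥E.obj.left.left, ∃ i, x ∈ Set.range (g i).hom.left.left) :
    ∃ (i : ι) (ui : (FieldPt.liftsTo p).obj (Ui i)), (FieldPt.liftsTo p).map (g i) ui = u := by
  obtain ⟨i, z, hz⟩ := hcov (u.1.left (default : ↥(Spec (CommRingCat.of p.K))))
  have := EtOver.etale_left (g i)
  obtain ⟨l, hl, -⟩ := exists_lift_scheme (g i).hom.left u.1 z hz
  refine ⟨i, ⟨l, ?_⟩, liftsTo_ext p _ _ hl⟩
  rw [← EtOver.w (g i), ← Category.assoc, ← Functor.map_comp, hl]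
  exact u.2

end Groth.Agent.Lib.helper5.EtPoint
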