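import Groth.Agent.Lib.Helper5.EtPoint2

/-!
# A separably closed point of an algebraic space is a point of its small etale site (helper5)
-/

set_option autoImplicit false
universe u
open CategoryTheory CategoryTheory.Limits AlgebraicGeometry Opposite
open AlgSp

set_option backward.isDefEq.respectTransparency false

namespace Groth.Agent.Lib.helper5.EtPoint

open Groth.Agent.Lib.helper11

variable {S : Scheme.{u}} {X : Sp S} (p : FieldPt X)

/-- weak initiality of the affine neighbourhoods coming from an atlas -/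
theorem exists_affine_nbhd [IsSepClosed p.K] {X₀ : Over S} (a₀ : (yon S).obj X₀ ⟶ X)
    (hae : RepWith @Etale a₀) (has : RepWith @Surjective a₀) (N : EtNbhd p) :
    ∃ (V : X₀.left.AffineEtale)
      (v : (FieldPt.liftsTo p).obj ((EtOver.ofChart a₀ hae).obj ((Scheme.AffineEtale.Spec X₀.left).obj V)))
      (m : (EtOver.ofChart a₀ hae).obj ((Scheme.AffineEtale.Spec X₀.left).obj V) ⟶ N.1),
      (FieldPt.liftsTo p).map m v = N.2 := by
  obtain ⟨E, u⟩ := N
  let E₀ : EtOver X := EtOver.mk a₀ hae
  let E' := EtOver.prodObj E E₀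
  let π₁ : E' ⟶ E := EtOver.prodFst E E₀
  let π₂ : E' ⟶ E₀ := EtOver.prodSnd E E₀
  have het1 : Etale π₁.hom.left.left := EtOver.etale_left π₁
  have het2 : Etale π₂.hom.left.left := EtOver.etale_left π₂
  have hsurj : Surjective π₁.hom.left.left :=
    has.2 E.obj.hom _ _ (E₀.property.1.isPullback E.obj.hom)
  obtain ⟨y', hy'⟩ := hsurj.surj (u.1.left (default : ↥(Spec (CommRingCat.of p.K))))
  obtain ⟨l, hl1, hl2⟩ := exists_lift_scheme π₁.hom.left u.1 y' hy'
  obtain ⟨R, j, hj, hyj, -⟩ := Scheme.exists_affine_mem_range_and_range_subset (x := y')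
    (U := (⊤ : E'.obj.left.left.Opens)) trivial
  have hrange : Set.range l.left ⊆ Set.range j := by
    rintro _ ⟨a, rfl⟩
    rw [Subsingleton.elim (α := PrimeSpectrum p.K) a (default : ↥(Spec (CommRingCat.of p.K))), hl2]
    exact hyj
  let l' := IsOpenImmersion.lift j l.left hrange
  have hl' : l' ≫ j = l.left := IsOpenImmersion.lift_fac _ _ _
  let e := π₂.hom.left.left
  have he : e ≫ X₀.hom = E'.obj.left.hom := Over.w π₂.hom.left
  have hp1 : π₁.hom.left.left ≫ E.obj.left.hom = E'.obj.left.hom := Over.w π₁.hom.left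
  let V : X₀.left.AffineEtale := Scheme.AffineEtale.mk (j ≫ e)
  let V' := (Scheme.AffineEtale.Spec X₀.left).obj V
  -- the open immersion as a morphism over `S`
  let jj : EtOver.overOfEtale V' ⟶ E'.obj.left := Over.homMk j (by
    change j ≫ E'.obj.left.hom = (j ≫ e) ≫ X₀.hom
    rw [Category.assoc, he])
  have hjj2 : jj ≫ π₂.hom.left = EtOver.homOfEtale V' := by
    apply Over.OverMorphism.ext
    rfl
  let v₀ : p.pt ⟶ EtOver.overOfEtale V' := Over.homMk l' (by
    change l' ≫ (j ≫ e) ≫ X₀.hom = p.str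
    rw [Category.assoc, he, ← Category.assoc, hl']
    exact Over.w l)
  have hv₀ : v₀ ≫ jj = l := by
    apply Over.OverMorphism.ext
    exact hl'
  have hv : (yon S).map v₀ ≫ ((EtOver.ofChart a₀ hae).obj V').obj.hom = p.toHom := by
    change (yon S).map v₀ ≫ (yon S).map (EtOver.homOfEtale V') ≫ a₀ = _
    rw [← hjj2, Functor.map_comp, Category.assoc]
    have h1 : (yon S).map π₂.hom.left ≫ a₀ = E'.obj.hom := EtOver.w π₂
    rw [h1, ← EtOver.w π₁, ← Category.assoc, ← Category.assoc, ← Functor.map_comp,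
      ← Functor.map_comp, hv₀, hl1]
    exact u.2
  let m₀ : EtOver.overOfEtale V' ⟶ E.obj.left := jj ≫ π₁.hom.left
  have hm₀ : (yon S).map m₀ ≫ E.obj.hom = ((EtOver.ofChart a₀ hae).obj V').obj.hom := by
    change _ = (yon S).map (EtOver.homOfEtale V') ≫ a₀
    rw [← hjj2, Functor.map_comp, Functor.map_comp, Category.assoc, Category.assoc, EtOver.w π₁]
    have h1 : (yon S).map π₂.hom.left ≫ a₀ = E'.obj.hom := EtOver.w π₂
    rw [h1]
  refine ⟨V, ⟨v₀, hv⟩, EtOver.homMk m₀ hm₀, liftsTo_ext p _ _ ?_⟩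
  change v₀ ≫ m₀ = u.1
  rw [← Category.assoc, hv₀, hl1]

/-- The category of etale neighbourhoods of a separably closed point of an algebraic space is initially small. -/
theorem initiallySmall_etNbhd (hX : IsAlgSpace X) [IsSepClosed p.K] : InitiallySmall.{u} (EtNbhd p) := by
  have := isCofilteredOrEmpty_etNbhd p
  obtain ⟨X₀, a₀, hae, has⟩ := hX.atlas
  refine initiallySmall_of_essentiallySmall_weakly_initial_objectProperty
    (Functor.Elements.precomp (Scheme.AffineEtale.Spec X₀.left ⋙ EtOver.ofChart a₀ hae)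
      (FieldPt.liftsTo p)).essImage ?_
  intro N
  obtain ⟨V, v, m, hm⟩ := exists_affine_nbhd p a₀ hae has N
  exact ⟨_, ⟨Functor.elementsMk _ V v, ⟨Iso.refl _⟩⟩, ⟨⟨m, hm⟩⟩⟩

/-- A separably closed field-valued point of an algebraic space defines a point of its small etale site. -/
noncomputable def point (hX : IsAlgSpace X) [IsSepClosed p.K] : GrothendieckTopology.Point.{u} (etTop X) where
  fiber := FieldPt.liftsTo p
  isCofiltered := isCofiltered_etNbhd p hX
  initiallySmall := initiallySmall_etNbhd p hX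
  jointly_surjective {E} R hR x := by
    obtain ⟨R₀, hR₀, hle⟩ := (Precoverage.mem_toGrothendieck_iff_of_isStableUnderComposition
      (J := etPre X)).1 hR
    obtain ⟨ι, Y, f, rfl⟩ := R₀.exists_eq_ofArrows
    obtain ⟨i, ui, hi⟩ := exists_lift_of_cover p x Y f ((ofArrows_mem_etPre_iff Y f).1 hR₀)
    exact ⟨Y i, f i, hle _ _ (Presieve.ofArrows.mk i), ui, hi⟩

theorem point_fiber (hX : IsAlgSpace X) [IsSepClosed p.K] : (point p hX).fiber = FieldPt.liftsTo p := rfl

end Groth.Agent.Lib.helper5.EtPoint
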