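import Groth.Agent.Lib.Helper5.EtPoint3
import Mathlib.CategoryTheory.Sites.Point.Skyscraper

/-!
# Geometric points of the small etale site of an algebraic space detect local injectivity/surjectivity (helper5)
-/

set_option autoImplicit false
universe w' v' u' u
open CategoryTheory CategoryTheory.Limits AlgebraicGeometry Opposite
open AlgSp

set_option backward.isDefEq.respectTransparency false

namespace Groth.Agent.Lib.helper5.EtPoint

variable {S : Scheme.{u}} {X : Sp S}

/-- Through every point of an object of the small etale site there is a geometric point of `X` with a lift. -/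
theorem exists_geomPoint (E : EtOver X) (y : ↥E.obj.left.left) :
    ∃ (p : FieldPt X) (_ : IsAlgClosed p.K) (u : (FieldPt.liftsTo p).obj E),
      u.1.left (default : ↥(Spec (CommRingCat.of p.K))) = y := by
  let κ := E.obj.left.left.residueField y
  let K := AlgebraicClosure κ
  let i : Spec (CommRingCat.of K) ⟶ E.obj.left.left :=
    Spec.map (CommRingCat.ofHom (algebraMap κ K)) ≫ E.obj.left.left.fromSpecResidueField y
  let str := i ≫ E.obj.left.hom
  let u₀ : Over.mk str ⟶ E.obj.left := Over.homMk i rfl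
  let p : FieldPt X := ⟨K, str, (J S).uliftYonedaEquiv ((yon S).map u₀ ≫ E.obj.hom)⟩
  have hp : p.toHom = (yon S).map u₀ ≫ E.obj.hom := (J S).uliftYonedaEquiv.symm_apply_apply _
  refine ⟨p, inferInstanceAs (IsAlgClosed (AlgebraicClosure κ)), ⟨u₀, hp.symm⟩, ?_⟩
  change (Spec.map _ ≫ E.obj.left.left.fromSpecResidueField y) _ = y
  rw [Scheme.Hom.comp_apply]
  exact Scheme.fromSpecResidueField_apply _ _

/-- A sieve containing, for every point, a morphism whose image contains the point is covering. -/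
theorem mem_etTop_of_pointwise {E : EtOver X} (R : Sieve E)
    (h : ∀ y : ↥E.obj.left.left, ∃ (E' : EtOver X) (f : E' ⟶ E), R f ∧ y ∈ Set.range f.hom.left.left) :
    R ∈ etTop X E := by
  choose E' f hf hy using h
  refine (etTop X).superset_covering ?_ (ofArrows_mem_etTop E' f (fun y => ⟨y, hy y⟩))
  rw [Sieve.ofArrows, Sieve.generate_le_iff]
  rintro _ _ ⟨y⟩
  exact hf y

theorem range_of_lift (p : FieldPt X) {E E' : EtOver X} (f : E' ⟶ E) (u' : (FieldPt.liftsTo p).obj E')
    (u : (FieldPt.liftsTo p).obj E) (h : (FieldPt.liftsTo p).map f u' = u) :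
    u.1.left (default : ↥(Spec (CommRingCat.of p.K))) ∈ Set.range f.hom.left.left := by
  refine ⟨u'.1.left (default : ↥(Spec (CommRingCat.of p.K))), ?_⟩
  rw [← h]
  rfl

section Concrete

variable (hX : IsAlgSpace X) {A : Type u'} [Category.{v'} A] [HasColimitsOfSize.{u, u} A]
  {FC : A → A → Type*} {CC : A → Type w'} [∀ (X Y : A), FunLike (FC X Y) (CC X) (CC Y)]
  [ConcreteCategory.{w'} A FC] [PreservesFilteredColimitsOfSize.{u, u} (forget A)]

include hX in
/-- injectivity on stalks at all geometric points implies local injectivity -/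
theorem isLocallyInjective_of_stalks {P Q : (EtOver X)ᵒᵖ ⥤ A} (f : P ⟶ Q)
    (h : ∀ (p : FieldPt X) (_ : IsAlgClosed p.K),
      Function.Injective ((point p hX).presheafFiber.map f)) :
    Presheaf.IsLocallyInjective (etTop X) f where
  equalizerSieve_mem {E} x y hxy := by
    refine mem_etTop_of_pointwise _ fun z => ?_
    obtain ⟨p, hp, u, hu⟩ := exists_geomPoint E.unop z
    have h1 : (point p hX).toPresheafFiber E.unop u P x = (point p hX).toPresheafFiber E.unop u P y := by
      apply h p hp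
      rw [GrothendieckTopology.Point.toPresheafFiber_naturality_apply,
        GrothendieckTopology.Point.toPresheafFiber_naturality_apply, hxy]
    obtain ⟨E', g, u', hu', hg⟩ := ((point p hX).toPresheafFiber_eq_iff' E.unop u x y).1 h1
    exact ⟨E', g, hg, hu ▸ range_of_lift p g u' u hu'⟩

include hX in
/-- surjectivity on stalks at all geometric points implies local surjectivity -/
theorem isLocallySurjective_of_stalks {P Q : (EtOver X)ᵒᵖ ⥤ A} (f : P ⟶ Q)
    (h : ∀ (p : FieldPt X) (_ : IsAlgClosed p.K),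
      Function.Surjective ((point p hX).presheafFiber.map f)) :
    Presheaf.IsLocallySurjective (etTop X) f where
  imageSieve_mem {E} t := by
    refine mem_etTop_of_pointwise _ fun z => ?_
    obtain ⟨p, hp, u, hu⟩ := exists_geomPoint E z
    let Φ := point p hX
    obtain ⟨σ, hσ⟩ := h p hp (Φ.toPresheafFiber E u Q t)
    obtain ⟨E₁, u₁, s₁, rfl⟩ := Φ.toPresheafFiber_jointly_surjective σ
    rw [GrothendieckTopology.Point.toPresheafFiber_naturality_apply] at hσ
    -- common refinement
    have := isCofilteredOrEmpty_etNbhd p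
    obtain ⟨⟨E₂, u₂⟩, ⟨(g₁ : E₂ ⟶ E₁), (hg₁' : (FieldPt.liftsTo p).map g₁ u₂ = u₁)⟩,
      ⟨(g : E₂ ⟶ E), (hg' : (FieldPt.liftsTo p).map g u₂ = u)⟩, -⟩ :=
      IsCofilteredOrEmpty.cone_objs (C := EtNbhd p) ⟨E₁, u₁⟩ ⟨E, u⟩
    have e1 : Φ.toPresheafFiber E₁ u₁ Q (f.app _ s₁) =
        Φ.toPresheafFiber E₂ u₂ Q (Q.map g₁.op (f.app _ s₁)) := by
      subst hg₁'
      exact (Φ.toPresheafFiber_w_apply g₁ u₂ Q _).symm
    have e2 : Φ.toPresheafFiber E u Q t = Φ.toPresheafFiber E₂ u₂ Q (Q.map g.op t) := by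
      subst hg'
      exact (Φ.toPresheafFiber_w_apply g u₂ Q _).symm
    have hσ' : Φ.toPresheafFiber E₂ u₂ Q (Q.map g₁.op (f.app _ s₁)) =
        Φ.toPresheafFiber E₂ u₂ Q (Q.map g.op t) := e1.symm.trans (hσ.trans e2)
    obtain ⟨E₃, k, u₃, hu₃, hk⟩ := (Φ.toPresheafFiber_eq_iff' E₂ u₂ _ _).1 hσ'
    have hu₃' : (FieldPt.liftsTo p).map k u₃ = u₂ := hu₃
    refine ⟨E₃, k ≫ g, ⟨P.map (k ≫ g₁).op s₁, ?_⟩, ?_⟩
    · rw [NatTrans.naturality_apply, op_comp, Functor.map_comp, ConcreteCategory.comp_apply, hk,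
        op_comp, Functor.map_comp, ConcreteCategory.comp_apply]
    · have : (FieldPt.liftsTo p).map (k ≫ g) u₃ = u := by
        rw [← hg', ← hu₃']
        exact CategoryTheory.Functor.map_comp_apply _ _ _ _
      exact hu ▸ range_of_lift p (k ≫ g) u₃ u this

end Concrete

end Groth.Agent.Lib.helper5.EtPoint
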