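import Groth.Agent.Lib.Helper5.EtPoint4

/-!
# The locus where two sections of a sheaf on the small etale site agree (helper5)
-/

set_option autoImplicit false
universe w' v' u' u
open CategoryTheory CategoryTheory.Limits AlgebraicGeometry Opposite
open AlgSp

set_option backward.isDefEq.respectTransparency false

namespace Groth.Agent.Lib.helper5.EtPoint

variable {S : Scheme.{u}} {X : Sp S}

variable {A : Type u'} [Category.{v'} A]
  {FC : A → A → Type*} {CC : A → Type w'} [∀ (X Y : A), FunLike (FC X Y) (CC X) (CC Y)]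
  [ConcreteCategory.{w'} A FC]

/-- the locus of points of `U` near which the sections `s` and `t` agree -/
def agreeLocus (P : (EtOver X)ᵒᵖ ⥤ A) {U : EtOver X} (s t : ToType (P.obj (op U))) : Set ↥U.obj.left.left :=
  {y | ∃ (V : EtOver X) (φ : V ⟶ U), P.map φ.op s = P.map φ.op t ∧ y ∈ Set.range φ.hom.left.left}

theorem isOpen_agreeLocus (P : (EtOver X)ᵒᵖ ⥤ A) {U : EtOver X} (s t : ToType (P.obj (op U))) :
    IsOpen (agreeLocus P s t) := by
  rw [isOpen_iff_forall_mem_open]
  rintro y ⟨V, φ, h, hy⟩
  have := EtOver.etale_left φ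
  refine ⟨Set.range φ.hom.left.left, ?_, φ.hom.left.left.isOpenMap.isOpen_range, hy⟩
  rintro z hz
  exact ⟨V, φ, h, hz⟩

theorem range_subset_agreeLocus (P : (EtOver X)ᵒᵖ ⥤ A) {U V : EtOver X} (s t : ToType (P.obj (op U)))
    (φ : V ⟶ U) (h : P.map φ.op s = P.map φ.op t) :
    Set.range φ.hom.left.left ⊆ agreeLocus P s t :=
  fun _ hz => ⟨V, φ, h, hz⟩

variable [J : (etTop X).HasSheafCompose (forget A)]

/-- on a sheaf, sections agree on `V` as soon as `V` maps into the locus where they agree -/
theorem eq_of_range_subset_agreeLocus (F : EtSh X A) {U V : EtOver X} (s t : ToType (F.obj.obj (op U)))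
    (φ : V ⟶ U) (h : Set.range φ.hom.left.left ⊆ agreeLocus F.obj s t) :
    F.obj.map φ.op s = F.obj.map φ.op t := by
  have hsep : Presieve.IsSeparated (etTop X) (F.obj ⋙ forget A) := by
    apply Presieve.IsSheaf.isSeparated
    rw [← isSheaf_iff_isSheaf_of_type]
    exact ((sheafCompose (etTop X) (forget A)).obj F).2
  have hcov : Presheaf.equalizerSieve (F := F.obj) (X := op V) (F.obj.map φ.op s) (F.obj.map φ.op t) ∈
      etTop X V := by
    refine mem_etTop_of_pointwise _ fun v => ?_
    obtain ⟨V', φ', h', v', hv'⟩ := h ⟨v, rfl⟩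
    refine ⟨EtOver.pullbackObj φ φ', EtOver.pullbackFst φ φ', ?_, ?_⟩
    · change F.obj.map (EtOver.pullbackFst φ φ').op (F.obj.map φ.op s) =
        F.obj.map (EtOver.pullbackFst φ φ').op (F.obj.map φ.op t)
      have e : ∀ x : ToType (F.obj.obj (op U)), F.obj.map (EtOver.pullbackFst φ φ').op (F.obj.map φ.op x) =
          F.obj.map (EtOver.pullbackSnd φ φ').op (F.obj.map φ'.op x) := by
        intro x
        rw [← ConcreteCategory.comp_apply, ← ConcreteCategory.comp_apply, ← Functor.map_comp,
          ← Functor.map_comp, ← op_comp, ← op_comp, EtOver.pullback_condition]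
      rw [e, e, h']
    · have sq : IsPullback (pullback.fst φ.hom.left φ'.hom.left).left
          (pullback.snd φ.hom.left φ'.hom.left).left φ.hom.left.left φ'.hom.left.left :=
        (IsPullback.of_hasPullback φ.hom.left φ'.hom.left).map (Over.forget S)
      obtain ⟨z, hz1, -⟩ := Scheme.exists_preimage_of_isPullback sq v v' hv'.symm
      exact ⟨z, hz1⟩
  exact (hsep _ hcov).ext (fun Y f hf => hf)

omit J in
/-- the germs of two sections at a separably closed point agree iff the point lies in the locus of agreement -/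
theorem germ_eq_iff_mem_agreeLocus [HasColimitsOfSize.{u, u} A] [PreservesFilteredColimitsOfSize.{u, u} (forget A)]
    (hX : IsAlgSpace X) (p : FieldPt X) [IsSepClosed p.K] (P : (EtOver X)ᵒᵖ ⥤ A) {U : EtOver X}
    (s t : ToType (P.obj (op U))) (l : (FieldPt.liftsTo p).obj U) :
    (point p hX).toPresheafFiber U l P s = (point p hX).toPresheafFiber U l P t ↔
      l.1.left (default : ↥(Spec (CommRingCat.of p.K))) ∈ agreeLocus P s t := by
  rw [GrothendieckTopology.Point.toPresheafFiber_eq_iff']
  constructor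
  · rintro ⟨V, φ, l', hl', h⟩
    exact ⟨V, φ, h, range_of_lift p φ l' l hl'⟩
  · rintro ⟨V, φ, h, v, hv⟩
    have := EtOver.etale_left φ
    obtain ⟨l', hl', -⟩ := exists_lift_scheme φ.hom.left l.1 v hv
    refine ⟨V, φ, ⟨l', ?_⟩, liftsTo_ext p _ _ hl', h⟩
    rw [← EtOver.w φ, ← Category.assoc, ← Functor.map_comp, hl']
    exact l.2

end Groth.Agent.Lib.helper5.EtPoint
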