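import Mathlib
import Groth.Agent.Lib.Helper5.FppfSource4
import Groth.Agent.Lib.Helper5.FppfImage5
import Groth.Agent.Lib.Helper17.CMComp
import Groth.Agent.S0346

/-!
# The quotient by an open subgroup scheme is etale (helper5)

* `flat_of_comp`: flatness descends along an fppf cover of the source.
* `formallyUnramified_of_isOpenImmersion_unit`: a group scheme whose unit section is an open immersion is formally
  unramified (the diagonal is a base change of the unit section, `S0346.sq1`).
* `etale_of_isKernel_isOpenImmersion` (S5353): if `p : G ⟶ Q` is fppf with kernel an open immersion and `G` is flat lfp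
  over `S`, then `Q` is etale over `S`.
-/

set_option autoImplicit false
set_option linter.style.haveILetI false
universe u
open CategoryTheory CategoryTheory.Limits MonoidalCategory CartesianMonoidalCategory MonObj GrpObj
  AlgebraicGeometry

namespace Groth.Agent.Lib.helper5.EtQuot

theorem ringHom_flat_of_comp {R A B : Type u} [CommRing R] [CommRing A] [CommRing B]
    (f : R →+* A) (g : A →+* B) (hfl : g.Flat)
    (hs : Function.Surjective (PrimeSpectrum.comap g)) (h : (g.comp f).Flat) : f.Flat := by
  algebraize [f, g, g.comp f]
  haveI : Module.FaithfullyFlat A B := Module.FaithfullyFlat.of_comap_surjective hs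
  exact Groth.Agent.Lib.helper17.CMComp.flat_of_comp_of_faithfullyFlat R A B

/-- **Flatness descends along an fppf cover of the source.** -/
theorem flat_of_comp {X Y S : Scheme.{u}} (f : X ⟶ Y) (q : Y ⟶ S) [Surjective f] [Flat f]
    [LocallyOfFinitePresentation f] [Flat (f ≫ q)] : Flat q :=
  Groth.Agent.Lib.helper5.FppfSource.of_jointly_surjective (P := @Flat) (Q := @RingHom.Flat)
    (fun f g hfl _ hs h => ringHom_flat_of_comp f g hfl hs h)
    (RingHom.Flat.stableUnderComposition.stableUnderCompositionWithLocalizationAway
      RingHom.Flat.holdsForLocalizationAway).left q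
    (fun _ : Unit => X) (fun _ => f) (fun _ => inferInstance) (fun _ => inferInstance)
    (fun y => ⟨(), f.surjective y⟩) (fun _ => inferInstance)

/-- a group scheme whose unit section is an open immersion is formally unramified -/
theorem formallyUnramified_of_isOpenImmersion_unit {S : Scheme.{u}} (Q : Over S) [GrpObj Q]
    [IsOpenImmersion (η[Q] : 𝟙_ (Over S) ⟶ Q).left] : FormallyUnramified Q.hom := by
  have hΔ : (lift (𝟙 Q) (𝟙 Q)).left = pullback.diagonal Q.hom := rfl
  have p1 := ((Groth.Agent.S0346.sq1 Q).map (Over.forget S)).flip
  simp only [Over.forget_obj, Over.forget_map] at p1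
  have h' : IsOpenImmersion (lift (𝟙 Q) (𝟙 Q)).left :=
    MorphismProperty.of_isPullback (P := @IsOpenImmersion) p1 inferInstance
  rw [hΔ] at h'
  infer_instance


/-- S5353 (SGA3 VI_A 5.5.1-type): the quotient of a flat lfp group scheme by an open normal subgroup scheme is etale. -/
theorem etale_of_isKernel_isOpenImmersion {S : Scheme.{u}} (G0 G Q : Over S) [GrpObj Q]
    [Flat G.hom] [LocallyOfFinitePresentation G.hom] (i : G0 ⟶ G) [IsOpenImmersion i.left]
    (p : G ⟶ Q) [Surjective p.left] [Flat p.left] [LocallyOfFinitePresentation p.left]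
    (hK : AlgGrp.IsKernel i p) : Etale Q.hom := by
  have sq : IsPullback i.left (toUnit G0).left p.left (η[Q] : 𝟙_ (Over S) ⟶ Q).left :=
    IsPullback.map (Over.forget S) hK
  haveI : IsOpenImmersion (η[Q] : 𝟙_ (Over S) ⟶ Q).left :=
    MorphismProperty.of_isPullback_of_descendsAlong (P := @IsOpenImmersion)
      (Q := @Surjective ⊓ @Flat ⊓ @LocallyOfFinitePresentation) sq
      ⟨⟨inferInstance, inferInstance⟩, inferInstance⟩ inferInstance
  haveI : FormallyUnramified Q.hom := formallyUnramified_of_isOpenImmersion_unit Q
  haveI : Flat (p.left ≫ Q.hom) := by rw [Over.w p]; infer_instance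
  haveI : LocallyOfFinitePresentation (p.left ≫ Q.hom) := by rw [Over.w p]; infer_instance
  haveI : Flat Q.hom := flat_of_comp p.left Q.hom
  haveI : LocallyOfFinitePresentation Q.hom :=
    Groth.Agent.Lib.helper5.FppfSource.locallyOfFinitePresentation_of_comp p.left Q.hom
  exact Etale.of_formallyUnramified_of_flat Q.hom

end Groth.Agent.Lib.helper5.EtQuot
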