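import Mathlib

/-!
# Base change of a cofiltered limit of schemes over a base (helper5)

For a diagram `D` of schemes over `S` with limit cone `c` and `u : X ⟶ S`: the diagram
`i ↦ X ×_S D_i` has limit `X ×_S c.pt`.
-/

set_option autoImplicit false

set_option backward.isDefEq.respectTransparency false
open CategoryTheory CategoryTheory.Limits AlgebraicGeometry

namespace Groth.Agent.Lib.helper5.PBLimit
universe u

variable {I : Type u} [SmallCategory I] (D : I ⥤ Scheme.{u}) {S : Scheme.{u}}
  (τ : D ⟶ (Functor.const I).obj S) {X : Scheme.{u}} (u : X ⟶ S)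

theorem τ_w {i j : I} (f : i ⟶ j) : D.map f ≫ τ.app j = τ.app i := by
  have := τ.naturality f
  simpa using this

/-- the diagram `i ↦ X ×_S D_i`. -/
@[simps]
noncomputable def pbDiagram : I ⥤ Scheme.{u} where
  obj i := pullback u (τ.app i)
  map {i j} f := pullback.map u (τ.app i) u (τ.app j) (𝟙 X) (D.map f) (𝟙 S) (by simp)
    (by rw [Category.comp_id, τ_w])
  map_id i := by
    apply pullback.hom_ext <;> simp [pullback.map]
  map_comp f g := by
    apply pullback.hom_ext <;> simp [pullback.map]

/-- the projection to `D`. -/
@[simps]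
noncomputable def pbDiagramι : pbDiagram D τ u ⟶ D where
  app i := pullback.snd u (τ.app i)
  naturality i j f := by simp [pullback.map]

/-- the structure maps to `S`. -/
@[simps]
noncomputable def pbDiagramT : pbDiagram D τ u ⟶ (Functor.const I).obj S where
  app i := pullback.snd u (τ.app i) ≫ τ.app i
  naturality i j f := by simp [pullback.map]

variable (c : Cone D) (t : c.pt ⟶ S) (ht : ∀ i, c.π.app i ≫ τ.app i = t)

/-- the cone with vertex `X ×_S lim D`. -/
@[simps]
noncomputable def pbCone : Cone (pbDiagram D τ u) where
  pt := pullback u t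
  π :=
  { app i := pullback.map u t u (τ.app i) (𝟙 X) (c.π.app i) (𝟙 S) (by simp)
      (by rw [Category.comp_id, ht])
    naturality i j f := by
      apply pullback.hom_ext <;> simp [pullback.map] }

theorem isPullback_pbCone (i : I) :
    IsPullback ((pbCone D τ u c t ht).π.app i) (pullback.snd u t) (pullback.snd u (τ.app i))
      (c.π.app i) := by
  have houter : IsPullback ((pbCone D τ u c t ht).π.app i ≫ pullback.fst u (τ.app i))
      (pullback.snd u t) u (c.π.app i ≫ τ.app i) := by
    have e1 : (pbCone D τ u c t ht).π.app i ≫ pullback.fst u (τ.app i) = pullback.fst u t := by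
      simp [pullback.map]
    rw [e1, ht]
    exact IsPullback.of_hasPullback _ _
  exact IsPullback.of_right houter (by simp [pullback.map]) (IsPullback.of_hasPullback _ _)

/-- base change of a limit cone over `S` is a limit cone. -/
noncomputable def isLimitPbCone [IsCofiltered I] (hc : IsLimit c) :
    IsLimit (pbCone D τ u c t ht) :=
  haveI : IsConnected I := IsCofiltered.isConnected I
  isLimitOfIsPullbackOfIsConnected (pbDiagramι D τ u) _ c
    { hom := pullback.snd u t, w := fun i => by simp [pullback.map] }
    (fun i => isPullback_pbCone D τ u c t ht i) hc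

theorem isPullback_pbDiagram_map {i j : I} (f : i ⟶ j) :
    IsPullback ((pbDiagram D τ u).map f) (pullback.snd u (τ.app i)) (pullback.snd u (τ.app j))
      (D.map f) := by
  have houter : IsPullback ((pbDiagram D τ u).map f ≫ pullback.fst u (τ.app j))
      (pullback.snd u (τ.app i)) u (D.map f ≫ τ.app j) := by
    have e1 : (pbDiagram D τ u).map f ≫ pullback.fst u (τ.app j) = pullback.fst u (τ.app i) := by
      simp [pullback.map]
    rw [e1, τ_w]
    exact IsPullback.of_hasPullback _ _
  exact IsPullback.of_right houter (by simp [pullback.map]) (IsPullback.of_hasPullback _ _)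

instance [hD : ∀ (i j : I) (f : i ⟶ j), IsAffineHom (D.map f)] {i j : I} (f : i ⟶ j) :
    IsAffineHom ((pbDiagram D τ u).map f) :=
  MorphismProperty.of_isPullback (P := @IsAffineHom) (isPullback_pbDiagram_map D τ u f).flip (hD i j f)

instance [QuasiCompact u] [∀ i, CompactSpace ↥(D.obj i)] (i : I) :
    CompactSpace ↥((pbDiagram D τ u).obj i) := by
  haveI : QuasiCompact (pullback.snd u (τ.app i)) :=
    MorphismProperty.pullback_snd (P := @QuasiCompact) _ _ inferInstance
  exact QuasiCompact.compactSpace_of_compactSpace (pullback.snd u (τ.app i))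

instance [QuasiSeparated u] [∀ i, QuasiSeparatedSpace ↥(D.obj i)] (i : I) :
    QuasiSeparatedSpace ↥((pbDiagram D τ u).obj i) := by
  haveI : QuasiSeparated (pullback.snd u (τ.app i)) :=
    MorphismProperty.pullback_snd (P := @QuasiSeparated) _ _ inferInstance
  exact quasiSeparatedSpace_of_quasiSeparated (pullback.snd u (τ.app i))

end Groth.Agent.Lib.helper5.PBLimit
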