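import Groth.Agent.Lib.Helper5.FGLimit
import Groth.Agent.Lib.Helper5.PBLimit

/-!
# Descent of morphisms to a finitely generated subalgebra (helper5)

`exists_descent`: for `X` qcqs over `S`, `Y` locally of finite presentation over `S`, an
`R`-algebra `K` and `Spec R ⟶ S`, every `S`-morphism `X ×_S Spec K ⟶ Y` comes from an
`S`-morphism `X ×_S Spec R[s] ⟶ Y` for a finite subset `s` of `K`.
-/

set_option autoImplicit false
set_option backward.isDefEq.respectTransparency false
open CategoryTheory CategoryTheory.Limits AlgebraicGeometry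

namespace Groth.Agent.Lib.helper5.FGLimit
universe u

open Groth.Agent.Lib.helper5.PBLimit

variable {S : Scheme.{u}} (R K : Type u) [CommRing R] [CommRing K] [Algebra R K]
  (q : Spec (CommRingCat.of R) ⟶ S)

/-- the structure map `Spec R[s] ⟶ S`. -/
noncomputable def pS (s : Finset K) : Spec (CommRingCat.of (adj R K s)) ⟶ S :=
  Spec.map (CommRingCat.ofHom (algebraMap R (adj R K s))) ≫ q

/-- the structure map `Spec K ⟶ S`. -/
noncomputable def tK : Spec (CommRingCat.of K) ⟶ S :=
  Spec.map (CommRingCat.ofHom (algebraMap R K)) ≫ q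

/-- the map `Spec K ⟶ Spec R[s]`. -/
noncomputable def jK (s : Finset K) : Spec (CommRingCat.of K) ⟶ Spec (CommRingCat.of (adj R K s)) :=
  Spec.map (CommRingCat.ofHom (adj R K s).val.toRingHom)

theorem jK_pS (s : Finset K) : jK R K s ≫ pS R K q s = tK R K q := by
  unfold jK pS tK
  rw [← Category.assoc, ← Spec.map_comp]
  rfl

/-- the structure maps of the diagram of spectra. -/
noncomputable def specτ : specDiagram R K ⟶ (Functor.const (Finset K)ᵒᵖ).obj S where
  app s := pS R K q s.unop
  naturality s t f := by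
    change Spec.map _ ≫ pS R K q t.unop = pS R K q s.unop ≫ 𝟙 S
    unfold pS
    rw [Category.comp_id, ← Category.assoc, ← Spec.map_comp]
    rfl

theorem specCone_specτ (s : (Finset K)ᵒᵖ) :
    (specCone R K).π.app s ≫ (specτ R K q).app s = tK R K q :=
  jK_pS R K q s.unop

variable {X Y : Scheme.{u}} (u : X ⟶ S) (v : Y ⟶ S)

/-- the map `X ×_S Spec K ⟶ X ×_S Spec R[s]`. -/
noncomputable def πX (s : Finset K) : pullback u (tK R K q) ⟶ pullback u (pS R K q s) :=
  pullback.map u (tK R K q) u (pS R K q s) (𝟙 X) (jK R K s) (𝟙 S) (by simp)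
    (by rw [Category.comp_id, jK_pS])

theorem exists_descent [QuasiCompact u] [QuasiSeparated u] [LocallyOfFinitePresentation v]
    (g' : pullback u (tK R K q) ⟶ Y) (hg' : g' ≫ v = pullback.snd u (tK R K q) ≫ tK R K q) :
    ∃ (s : Finset K) (gs : pullback u (pS R K q s) ⟶ Y),
      gs ≫ v = pullback.snd u (pS R K q s) ≫ pS R K q s ∧ πX R K q u s ≫ gs = g' := by
  obtain ⟨i, g, h1, h2⟩ := Scheme.exists_π_app_comp_eq_of_locallyOfFinitePresentation
    (pbDiagram (specDiagram R K) (specτ R K q) u) (pbDiagramT (specDiagram R K) (specτ R K q) u) v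
    (pbCone (specDiagram R K) (specτ R K q) u (specCone R K) (tK R K q) (specCone_specτ R K q))
    (isLimitPbCone (specDiagram R K) (specτ R K q) u (specCone R K) (tK R K q)
      (specCone_specτ R K q) (isLimitSpecCone R K)) g' (by
      ext i
      simp only [NatTrans.comp_app, Functor.const_map_app, pbCone_π_app, pbDiagramT_app]
      rw [hg']
      simp only [pullback.map, pullback.lift_snd_assoc, Category.assoc]
      rw [specCone_specτ])
  exact ⟨i.unop, g, h2, h1⟩

end Groth.Agent.Lib.helper5.FGLimit
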