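import Groth.Agent.Lib.Helper5.FGDescent3

/-!
# Descent of isomorphisms to a finitely generated subalgebra (helper5)
-/

set_option autoImplicit false
set_option backward.isDefEq.respectTransparency false
open CategoryTheory CategoryTheory.Limits AlgebraicGeometry

namespace Groth.Agent.Lib.helper5.FGLimit
universe u

open Groth.Agent.Lib.helper5.PBLimit

variable {S : Scheme.{u}} (R K : Type u) [CommRing R] [CommRing K] [Algebra R K]
  (q : Spec (CommRingCat.of R) ⟶ S) {X Y Z : Scheme.{u}} (u : X ⟶ S) (v : Y ⟶ S) (w : Z ⟶ S)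

/-- transport of an `R[s]`-morphism `X_s ⟶ Y_s` to `R[s']`, `s ⊆ s'`. -/
noncomputable def trG {s s' : Finset K} (hs : s ≤ s')
    (G : pullback u (pS R K q s) ⟶ pullback v (pS R K q s))
    (hG : G ≫ pullback.snd v (pS R K q s) = pullback.snd u (pS R K q s)) :
    pullback u (pS R K q s') ⟶ pullback v (pS R K q s') :=
  pullback.lift (trX R K q u hs ≫ G ≫ pullback.fst v (pS R K q s)) (pullback.snd u (pS R K q s'))
    (by
      rw [Category.assoc, Category.assoc, pullback.condition, ← Category.assoc G, hG,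
        ← Category.assoc, trX_snd, Category.assoc, trS_pS])

variable {R K q u v w}

theorem trG_fst {s s' : Finset K} (hs : s ≤ s')
    (G : pullback u (pS R K q s) ⟶ pullback v (pS R K q s))
    (hG : G ≫ pullback.snd v (pS R K q s) = pullback.snd u (pS R K q s)) :
    trG R K q u v hs G hG ≫ pullback.fst v (pS R K q s') =
      trX R K q u hs ≫ G ≫ pullback.fst v (pS R K q s) :=
  pullback.lift_fst _ _ _

theorem trG_snd {s s' : Finset K} (hs : s ≤ s')
    (G : pullback u (pS R K q s) ⟶ pullback v (pS R K q s))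
    (hG : G ≫ pullback.snd v (pS R K q s) = pullback.snd u (pS R K q s)) :
    trG R K q u v hs G hG ≫ pullback.snd v (pS R K q s') = pullback.snd u (pS R K q s') :=
  pullback.lift_snd _ _ _

theorem trG_trX {s s' : Finset K} (hs : s ≤ s')
    (G : pullback u (pS R K q s) ⟶ pullback v (pS R K q s))
    (hG : G ≫ pullback.snd v (pS R K q s) = pullback.snd u (pS R K q s)) :
    trG R K q u v hs G hG ≫ trX R K q v hs = trX R K q u hs ≫ G := by
  apply pullback.hom_ext
  · rw [Category.assoc, trX_fst, trG_fst, Category.assoc]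
  · rw [Category.assoc, trX_snd, ← Category.assoc, trG_snd, Category.assoc, hG, trX_snd]

theorem trG_congr {s s' : Finset K} (hs : s ≤ s')
    (G G' : pullback u (pS R K q s) ⟶ pullback v (pS R K q s))
    (hG : G ≫ pullback.snd v (pS R K q s) = pullback.snd u (pS R K q s))
    (hG' : G' ≫ pullback.snd v (pS R K q s) = pullback.snd u (pS R K q s))
    (h : trX R K q u hs ≫ G = trX R K q u hs ≫ G') :
    trG R K q u v hs G hG = trG R K q u v hs G' hG' := by
  apply pullback.hom_ext
  · rw [trG_fst, trG_fst, ← Category.assoc, h, Category.assoc]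
  · rw [trG_snd, trG_snd]

theorem trG_id {s s' : Finset K} (hs : s ≤ s') :
    trG R K q u u hs (𝟙 _) (Category.id_comp _) = 𝟙 _ := by
  apply pullback.hom_ext
  · rw [trG_fst, Category.id_comp, Category.id_comp, trX_fst]
  · rw [trG_snd, Category.id_comp]

theorem trG_comp {s s' : Finset K} (hs : s ≤ s')
    (G : pullback u (pS R K q s) ⟶ pullback v (pS R K q s))
    (hG : G ≫ pullback.snd v (pS R K q s) = pullback.snd u (pS R K q s))
    (H : pullback v (pS R K q s) ⟶ pullback w (pS R K q s))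
    (hH : H ≫ pullback.snd w (pS R K q s) = pullback.snd v (pS R K q s)) :
    trG R K q u v hs G hG ≫ trG R K q v w hs H hH =
      trG R K q u w hs (G ≫ H) (by rw [Category.assoc, hH, hG]) := by
  apply pullback.hom_ext
  · rw [Category.assoc, trG_fst, ← Category.assoc, trG_trX, trG_fst, Category.assoc,
      Category.assoc]
  · rw [Category.assoc, trG_snd, trG_snd, trG_snd]

/-- compatibility with a given morphism over `K` is preserved by transport. -/
theorem πX_trG {s s' : Finset K} (hs : s ≤ s')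
    (G : pullback u (pS R K q s) ⟶ pullback v (pS R K q s))
    (hG : G ≫ pullback.snd v (pS R K q s) = pullback.snd u (pS R K q s))
    (g' : pullback u (tK R K q) ⟶ pullback v (tK R K q))
    (hg' : g' ≫ pullback.snd v (tK R K q) = pullback.snd u (tK R K q))
    (h : πX R K q u s ≫ G = g' ≫ πX R K q v s) :
    πX R K q u s' ≫ trG R K q u v hs G hG = g' ≫ πX R K q v s' := by
  apply pullback.hom_ext
  · rw [Category.assoc, trG_fst, ← Category.assoc, πX_trX, ← Category.assoc, h, Category.assoc,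
      Category.assoc, πX_fst, πX_fst]
  · rw [Category.assoc, trG_snd, πX_snd, Category.assoc, πX_snd, ← Category.assoc, hg']

/-- descent of a `K`-morphism `X_K ⟶ Y_K`. -/
theorem exists_descent_over [QuasiCompact u] [QuasiSeparated u] [LocallyOfFinitePresentation v]
    (g' : pullback u (tK R K q) ⟶ pullback v (tK R K q))
    (hg' : g' ≫ pullback.snd v (tK R K q) = pullback.snd u (tK R K q)) :
    ∃ (s : Finset K) (G : pullback u (pS R K q s) ⟶ pullback v (pS R K q s)),
      G ≫ pullback.snd v (pS R K q s) = pullback.snd u (pS R K q s) ∧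
      πX R K q u s ≫ G = g' ≫ πX R K q v s := by
  obtain ⟨s, gs, hgs, hπ⟩ := exists_descent R K q u v (g' ≫ pullback.fst v (tK R K q))
    (by rw [Category.assoc, pullback.condition, ← Category.assoc, hg'])
  refine ⟨s, pullback.lift gs (pullback.snd u (pS R K q s)) hgs, pullback.lift_snd _ _ _, ?_⟩
  apply pullback.hom_ext
  · rw [Category.assoc, pullback.lift_fst, hπ, Category.assoc, πX_fst]
  · rw [Category.assoc, pullback.lift_snd, πX_snd, Category.assoc, πX_snd, ← Category.assoc, hg']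

/-- descent of an equality of `R[s]`-morphisms. -/
theorem exists_trG_eq [QuasiCompact u] [LocallyOfFiniteType v] {s : Finset K}
    (G G' : pullback u (pS R K q s) ⟶ pullback v (pS R K q s))
    (hG : G ≫ pullback.snd v (pS R K q s) = pullback.snd u (pS R K q s))
    (hG' : G' ≫ pullback.snd v (pS R K q s) = pullback.snd u (pS R K q s))
    (h : πX R K q u s ≫ G = πX R K q u s ≫ G') :
    ∃ (s' : Finset K) (hs : s ≤ s'), trG R K q u v hs G hG = trG R K q u v hs G' hG' := by
  obtain ⟨s', hs, he⟩ := exists_descent_eq R K q u v s (G ≫ pullback.fst v (pS R K q s))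
    (G' ≫ pullback.fst v (pS R K q s))
    (by rw [Category.assoc, pullback.condition, ← Category.assoc, hG])
    (by rw [Category.assoc, pullback.condition, ← Category.assoc, hG'])
    (by rw [← Category.assoc, h, Category.assoc])
  refine ⟨s', hs, ?_⟩
  apply pullback.hom_ext
  · rw [trG_fst, trG_fst, he]
  · rw [trG_snd, trG_snd]

/-- EGA IV 8.8.2.4: descent of a `K`-isomorphism `X_K ≅ Y_K` to an `R[s]`-isomorphism. -/
theorem exists_descent_iso [QuasiCompact u] [QuasiSeparated u] [LocallyOfFinitePresentation u]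
    [QuasiCompact v] [QuasiSeparated v] [LocallyOfFinitePresentation v]
    (g' : pullback u (tK R K q) ⟶ pullback v (tK R K q)) [IsIso g']
    (hg' : g' ≫ pullback.snd v (tK R K q) = pullback.snd u (tK R K q)) :
    ∃ (s : Finset K) (G : pullback u (pS R K q s) ⟶ pullback v (pS R K q s)),
      IsIso G ∧ G ≫ pullback.snd v (pS R K q s) = pullback.snd u (pS R K q s) ∧
      πX R K q u s ≫ G = g' ≫ πX R K q v s := by
  classical
  have hi' : inv g' ≫ pullback.snd u (tK R K q) = pullback.snd v (tK R K q) := by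
    rw [IsIso.inv_comp_eq, hg']
  obtain ⟨s₁, G₁, hG₁, hπ₁⟩ := exists_descent_over g' hg'
  obtain ⟨s₂, H₂, hH₂, hπ₂⟩ := exists_descent_over (inv g') hi'
  -- a common index
  have h13 : s₁ ≤ s₁ ∪ s₂ := Finset.subset_union_left
  have h23 : s₂ ≤ s₁ ∪ s₂ := Finset.subset_union_right
  have hπG₃ := πX_trG h13 G₁ hG₁ g' hg' hπ₁
  have hπH₃ := πX_trG h23 H₂ hH₂ (inv g') hi' hπ₂
  have hG₃ := trG_snd h13 G₁ hG₁
  have hH₃ := trG_snd h23 H₂ hH₂
  generalize trG R K q u v h13 G₁ hG₁ = G₃ at hπG₃ hG₃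
  generalize trG R K q v u h23 H₂ hH₂ = H₃ at hπH₃ hH₃
  generalize s₁ ∪ s₂ = s₃ at G₃ H₃ hπG₃ hπH₃ hG₃ hH₃
  -- `G₃ ≫ H₃ = 𝟙` after enlarging
  obtain ⟨s₄, h34, he₄⟩ := exists_trG_eq (G₃ ≫ H₃) (𝟙 _) (by rw [Category.assoc, hH₃, hG₃])
    (Category.id_comp _)
    (by rw [← Category.assoc, hπG₃, Category.assoc, hπH₃, IsIso.hom_inv_id_assoc,
      Category.comp_id])
  rw [← trG_comp h34 G₃ hG₃ H₃ hH₃, trG_id] at he₄
  have hπG₄ := πX_trG h34 G₃ hG₃ g' hg' hπG₃
  have hπH₄ := πX_trG h34 H₃ hH₃ (inv g') hi' hπH₃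
  have hG₄ := trG_snd h34 G₃ hG₃
  have hH₄ := trG_snd h34 H₃ hH₃
  generalize trG R K q u v h34 G₃ hG₃ = G₄ at hπG₄ hG₄ he₄
  generalize trG R K q v u h34 H₃ hH₃ = H₄ at hπH₄ hH₄ he₄
  -- `H₄ ≫ G₄ = 𝟙` after enlarging
  obtain ⟨s₅, h45, he₅⟩ := exists_trG_eq (H₄ ≫ G₄) (𝟙 _) (by rw [Category.assoc, hG₄, hH₄])
    (Category.id_comp _)
    (by rw [← Category.assoc, hπH₄, Category.assoc, hπG₄, IsIso.inv_hom_id_assoc,
      Category.comp_id])
  rw [← trG_comp h45 H₄ hH₄ G₄ hG₄, trG_id] at he₅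
  have he₅' : trG R K q u v h45 G₄ hG₄ ≫ trG R K q v u h45 H₄ hH₄ = 𝟙 _ := by
    rw [trG_comp h45 G₄ hG₄ H₄ hH₄]
    have : trG R K q u u h45 (G₄ ≫ H₄) (by rw [Category.assoc, hH₄, hG₄]) =
        trG R K q u u h45 (𝟙 _) (Category.id_comp _) :=
      trG_congr h45 _ _ _ _ (by rw [he₄])
    rw [this, trG_id]
  exact ⟨s₅, trG R K q u v h45 G₄ hG₄, ⟨⟨trG R K q v u h45 H₄ hH₄, he₅', he₅⟩⟩,
    trG_snd h45 G₄ hG₄, πX_trG h45 G₄ hG₄ g' hg' hπG₄⟩

end Groth.Agent.Lib.helper5.FGLimit
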