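import Groth.Agent.Lib.Helper5.FGDescent4

/-!
# Spreading out the property of being an isomorphism (algebraic level) (helper5)
-/

set_option autoImplicit false
set_option backward.isDefEq.respectTransparency false
open CategoryTheory CategoryTheory.Limits AlgebraicGeometry

namespace Groth.Agent.Lib.helper5.FGLimit
universe u

open Groth.Agent.Lib.helper5.PBLimit

variable {S : Scheme.{u}} {R K : Type u} [CommRing R] [CommRing K] [Algebra R K]
  {q : Spec (CommRingCat.of R) ⟶ S} {X Y Z : Scheme.{u}} {u : X ⟶ S} {v : Y ⟶ S} {w : Z ⟶ S}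

theorem trG_trG {s s' s'' : Finset K} (hs : s ≤ s') (hs' : s' ≤ s'')
    (G : pullback u (pS R K q s) ⟶ pullback v (pS R K q s))
    (hG : G ≫ pullback.snd v (pS R K q s) = pullback.snd u (pS R K q s)) :
    trG R K q u v hs' (trG R K q u v hs G hG) (trG_snd hs G hG) =
      trG R K q u v (hs.trans hs') G hG := by
  apply pullback.hom_ext
  · rw [trG_fst, trG_fst, trG_fst, ← Category.assoc, trX_trX]
  · rw [trG_snd, trG_snd]

theorem isIso_trG {s s' : Finset K} (hs : s ≤ s')
    (G : pullback u (pS R K q s) ⟶ pullback v (pS R K q s))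
    (hG : G ≫ pullback.snd v (pS R K q s) = pullback.snd u (pS R K q s)) [IsIso G] :
    IsIso (trG R K q u v hs G hG) := by
  have hinv : inv G ≫ pullback.snd u (pS R K q s) = pullback.snd v (pS R K q s) := by
    rw [IsIso.inv_comp_eq, hG]
  refine ⟨⟨trG R K q v u hs (inv G) hinv, ?_, ?_⟩⟩
  · rw [trG_comp hs G hG (inv G) hinv]
    have : trG R K q u u hs (G ≫ inv G) (by rw [Category.assoc, hinv, hG]) =
        trG R K q u u hs (𝟙 _) (Category.id_comp _) :=
      trG_congr hs _ _ _ _ (by rw [IsIso.hom_inv_id])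
    rw [this, trG_id]
  · rw [trG_comp hs (inv G) hinv G hG]
    have : trG R K q v v hs (inv G ≫ G) (by rw [Category.assoc, hG, hinv]) =
        trG R K q v v hs (𝟙 _) (Category.id_comp _) :=
      trG_congr hs _ _ _ _ (by rw [IsIso.inv_hom_id])
    rw [this, trG_id]

/-- if an `R[s]`-morphism `X_s ⟶ Y_s` becomes an isomorphism over `K`, it is an isomorphism over
`R[s']` for some finite `s' ⊇ s`. -/
theorem exists_isIso_trG [QuasiCompact u] [QuasiSeparated u] [LocallyOfFinitePresentation u]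
    [QuasiCompact v] [QuasiSeparated v] [LocallyOfFinitePresentation v] {s : Finset K}
    (G : pullback u (pS R K q s) ⟶ pullback v (pS R K q s))
    (hG : G ≫ pullback.snd v (pS R K q s) = pullback.snd u (pS R K q s))
    (g' : pullback u (tK R K q) ⟶ pullback v (tK R K q)) [IsIso g']
    (hg' : g' ≫ pullback.snd v (tK R K q) = pullback.snd u (tK R K q))
    (hπ : πX R K q u s ≫ G = g' ≫ πX R K q v s) :
    ∃ (s' : Finset K) (hs : s ≤ s'), IsIso (trG R K q u v hs G hG) := by
  classical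
  obtain ⟨s₁, G₁, hG₁iso, hG₁, hπ₁⟩ := exists_descent_iso g' hg'
  have h02 : s ≤ s ∪ s₁ := Finset.subset_union_left
  have h12 : s₁ ≤ s ∪ s₁ := Finset.subset_union_right
  have hπa := πX_trG h02 G hG g' hg' hπ
  have hπb := πX_trG h12 G₁ hG₁ g' hg' hπ₁
  obtain ⟨s₃, h23, he⟩ := exists_trG_eq (trG R K q u v h02 G hG) (trG R K q u v h12 G₁ hG₁)
    (trG_snd h02 G hG) (trG_snd h12 G₁ hG₁) (by rw [hπa, hπb])
  refine ⟨s₃, h02.trans h23, ?_⟩
  rw [← trG_trG h02 h23 G hG, he]
  haveI := isIso_trG h12 G₁ hG₁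
  exact isIso_trG h23 _ _

/-- base change of an `S`-morphism `φ : X ⟶ Y` to `R[s]`. -/
noncomputable def bcφ (R K : Type u) [CommRing R] [CommRing K] [Algebra R K]
    (q : Spec (CommRingCat.of R) ⟶ S) (u : X ⟶ S) (v : Y ⟶ S) (φ : X ⟶ Y) (hφ : φ ≫ v = u)
    (s : Finset K) : pullback u (pS R K q s) ⟶ pullback v (pS R K q s) :=
  pullback.map u (pS R K q s) v (pS R K q s) φ (𝟙 _) (𝟙 _) (by rw [Category.comp_id, hφ])
    (by rw [Category.comp_id, Category.id_comp])

theorem bcφ_fst (φ : X ⟶ Y) (hφ : φ ≫ v = u) (s : Finset K) :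
    bcφ R K q u v φ hφ s ≫ pullback.fst v (pS R K q s) = pullback.fst u (pS R K q s) ≫ φ := by
  unfold bcφ
  rw [pullback.map, pullback.lift_fst]

theorem bcφ_snd (φ : X ⟶ Y) (hφ : φ ≫ v = u) (s : Finset K) :
    bcφ R K q u v φ hφ s ≫ pullback.snd v (pS R K q s) = pullback.snd u (pS R K q s) := by
  unfold bcφ
  rw [pullback.map, pullback.lift_snd, Category.comp_id]

theorem trG_bcφ (φ : X ⟶ Y) (hφ : φ ≫ v = u) {s s' : Finset K} (hs : s ≤ s') :
    trG R K q u v hs (bcφ R K q u v φ hφ s) (bcφ_snd φ hφ s) = bcφ R K q u v φ hφ s' := by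
  apply pullback.hom_ext
  · rw [trG_fst, bcφ_fst, bcφ_fst, ← Category.assoc, trX_fst]
  · rw [trG_snd, bcφ_snd]

/-- if the base change of `φ : X ⟶ Y` to `K` is an isomorphism, then so is the base change to
`R[s]` for some finite `s`. -/
theorem exists_isIso_bcφ [QuasiCompact u] [QuasiSeparated u] [LocallyOfFinitePresentation u]
    [QuasiCompact v] [QuasiSeparated v] [LocallyOfFinitePresentation v]
    (φ : X ⟶ Y) (hφ : φ ≫ v = u)
    (g' : pullback u (tK R K q) ⟶ pullback v (tK R K q)) [IsIso g']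
    (hg' : g' ≫ pullback.snd v (tK R K q) = pullback.snd u (tK R K q))
    (hg'φ : g' ≫ pullback.fst v (tK R K q) = pullback.fst u (tK R K q) ≫ φ) :
    ∃ s : Finset K, IsIso (bcφ R K q u v φ hφ s) := by
  classical
  have hπ : πX R K q u ∅ ≫ bcφ R K q u v φ hφ ∅ = g' ≫ πX R K q v ∅ := by
    apply pullback.hom_ext
    · rw [Category.assoc, bcφ_fst, ← Category.assoc, πX_fst, Category.assoc, πX_fst, hg'φ]
    · rw [Category.assoc, bcφ_snd, πX_snd, Category.assoc, πX_snd, ← Category.assoc, hg']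
  obtain ⟨s', hs, hiso⟩ := exists_isIso_trG (bcφ R K q u v φ hφ ∅) (bcφ_snd φ hφ ∅) g' hg' hπ
  rw [trG_bcφ] at hiso
  exact ⟨s', hiso⟩

end Groth.Agent.Lib.helper5.FGLimit
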