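import Groth.Agent.Lib.Helper5.FGDescent8
import Groth.Agent.Lib.Helper9.OpenImmDescend

/-!
# Spreading out open immersions; the generic geometric wrapper (helper5)
-/

set_option autoImplicit false
set_option backward.isDefEq.respectTransparency false
open CategoryTheory CategoryTheory.Limits AlgebraicGeometry

namespace Groth.Agent.Lib.helper5.FGLimit
universe u

open Groth.Agent.Lib.helper5.PBLimit

variable {S : Scheme.{u}} {R K : Type u} [CommRing R] [CommRing K] [Algebra R K]
  {q : Spec (CommRingCat.of R) ⟶ S} {X Y : Scheme.{u}} {u : X ⟶ S} {v : Y ⟶ S}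

/-- transport of `Q` from arbitrary cartesian squares over `R[s] ⟶ R[s₀]` to `bcφ`. -/
theorem Q_bcφ_of_squares' {Q : MorphismProperty Scheme.{u}} [Q.RespectsIso]
    (φ : X ⟶ Y) (hφ : φ ≫ v = u) {s₀ s : Finset K}
    (m : Spec (CommRingCat.of (adj R K s)) ⟶ Spec (CommRingCat.of (adj R K s₀)))
    (hm : m ≫ pS R K q s₀ = pS R K q s) {Xi Yi : Scheme.{u}} (fi : Xi ⟶ Yi)
    (gi : Yi ⟶ Spec (CommRingCat.of (adj R K s))) (pY : Yi ⟶ pullback v (pS R K q s₀))
    (pX : Xi ⟶ pullback u (pS R K q s₀))
    (hYi : IsPullback pY gi (pullback.snd v (pS R K q s₀)) m)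
    (hXi : IsPullback pX fi (bcφ R K q u v φ hφ s₀) pY) (hQi : Q fi) :
    Q (bcφ R K q u v φ hφ s) := by
  have sqY : IsPullback (pY ≫ pullback.fst v (pS R K q s₀)) gi v (pS R K q s) := by
    have := hYi.paste_horiz (IsPullback.of_hasPullback v (pS R K q s₀))
    rw [hm] at this
    exact this
  have sqX : IsPullback (pX ≫ pullback.fst u (pS R K q s₀)) (fi ≫ gi) u (pS R K q s) := by
    have h1 := hXi.paste_vert hYi
    rw [bcφ_snd] at h1
    have := h1.paste_horiz (IsPullback.of_hasPullback u (pS R K q s₀))
    rw [hm] at this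
    exact this
  have key : fi = sqX.isoPullback.hom ≫ bcφ R K q u v φ hφ s ≫ sqY.isoPullback.inv := by
    apply sqY.hom_ext
    · rw [Category.assoc, Category.assoc, IsPullback.isoPullback_inv_fst, bcφ_fst,
        IsPullback.isoPullback_hom_fst_assoc, ← Category.assoc fi, ← hXi.w,
        Category.assoc, Category.assoc, bcφ_fst]
    · rw [Category.assoc, Category.assoc, IsPullback.isoPullback_inv_snd, bcφ_snd,
        IsPullback.isoPullback_hom_snd]
  rw [key, Q.cancel_left_of_respectsIso, Q.cancel_right_of_respectsIso] at hQi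
  exact hQi

theorem isPullback_πX_bcφ (φ : X ⟶ Y) (hφ : φ ≫ v = u)
    (g' : pullback u (tK R K q) ⟶ pullback v (tK R K q))
    (hg' : g' ≫ pullback.snd v (tK R K q) = pullback.snd u (tK R K q))
    (hg'φ : g' ≫ pullback.fst v (tK R K q) = pullback.fst u (tK R K q) ≫ φ) (s : Finset K) :
    IsPullback (πX R K q u s) g' (bcφ R K q u v φ hφ s) (πX R K q v s) := by
  have hπ : πX R K q u s ≫ bcφ R K q u v φ hφ s = g' ≫ πX R K q v s := by
    apply pullback.hom_ext
    · rw [Category.assoc, bcφ_fst, ← Category.assoc, πX_fst, Category.assoc, πX_fst, hg'φ]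
    · rw [Category.assoc, bcφ_snd, πX_snd, Category.assoc, πX_snd, ← Category.assoc, hg']
  refine IsPullback.of_bot ?_ hπ (isPullback_πX v s)
  rw [hg', bcφ_snd]
  exact isPullback_πX u s

/-- algebraic level: if the base change of `φ : X ⟶ Y` to `K` is an open immersion, then so is the
base change to `R[s]` for some finite `s`. -/
theorem exists_isOpenImmersion_bcφ
    [QuasiCompact u] [QuasiSeparated u] [LocallyOfFinitePresentation u]
    [QuasiCompact v] [QuasiSeparated v] [LocallyOfFinitePresentation v]
    (φ : X ⟶ Y) (hφ : φ ≫ v = u)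
    (g' : pullback u (tK R K q) ⟶ pullback v (tK R K q))
    (hg' : g' ≫ pullback.snd v (tK R K q) = pullback.snd u (tK R K q))
    (hg'φ : g' ≫ pullback.fst v (tK R K q) = pullback.fst u (tK R K q) ≫ φ)
    [IsOpenImmersion g'] :
    ∃ s : Finset K, IsOpenImmersion (bcφ R K q u v φ hφ s) := by
  classical
  -- the range of `g'` comes from a quasi-compact open of some `Y_s`
  haveI : CompactSpace ↥(pullback u (tK R K q)) := by
    haveI : QuasiCompact (pullback.snd u (tK R K q)) :=
      MorphismProperty.pullback_snd (P := @QuasiCompact) _ _ inferInstance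
    exact QuasiCompact.compactSpace_of_compactSpace (pullback.snd u (tK R K q))
  have hUc : IsCompact ((g'.opensRange : (pullback v (tK R K q)).Opens) :
      Set ↥(pullback v (tK R K q))) := by
    change IsCompact (Set.range g')
    exact isCompact_range g'.continuous
  obtain ⟨i, V, hVc, hV⟩ := exists_preimage_eq
    (pbDiagram (specDiagram R K) (specτ R K q) v)
    (pbCone (specDiagram R K) (specτ R K q) v (specCone R K) (tK R K q) (specCone_specτ R K q))
    (isLimitPbCone (specDiagram R K) (specτ R K q) v (specCone R K) (tK R K q)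
      (specCone_specτ R K q) (isLimitSpecCone R K)) g'.opensRange hUc
  have hV' : (πX R K q v i.unop) ⁻¹ᵁ V = g'.opensRange := hV
  haveI : LocallyOfFinitePresentation (pullback.snd v (pS R K q i.unop)) :=
    MorphismProperty.pullback_snd (P := @LocallyOfFinitePresentation) _ _ inferInstance
  haveI : QuasiCompact (pullback.snd v (pS R K q i.unop)) :=
    MorphismProperty.pullback_snd (P := @QuasiCompact) _ _ inferInstance
  haveI : QuasiSeparated (pullback.snd v (pS R K q i.unop)) :=
    MorphismProperty.pullback_snd (P := @QuasiSeparated) _ _ inferInstance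
  haveI : LocallyOfFinitePresentation (bcφ R K q u v φ hφ i.unop ≫
      pullback.snd v (pS R K q i.unop)) := by
    rw [bcφ_snd]
    exact MorphismProperty.pullback_snd (P := @LocallyOfFinitePresentation) _ _ inferInstance
  haveI : QuasiCompact (bcφ R K q u v φ hφ i.unop ≫ pullback.snd v (pS R K q i.unop)) := by
    rw [bcφ_snd]
    exact MorphismProperty.pullback_snd (P := @QuasiCompact) _ _ inferInstance
  haveI : QuasiSeparated (bcφ R K q u v φ hφ i.unop ≫ pullback.snd v (pS R K q i.unop)) := by
    rw [bcφ_snd]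
    exact MorphismProperty.pullback_snd (P := @QuasiSeparated) _ _ inferInstance
  have hY : IsPullback (πX R K q v i.unop) (pullback.snd v (tK R K q))
      (pullback.snd v (pS R K q i.unop)) ((specCone R K).π.app i) := isPullback_πX v i.unop
  obtain ⟨l, hl⟩ := Groth.Agent.Lib.helper9.exists_isOpenImmersion_stageMap_of_opens
    (specDiagram R K) (specCone R K) (isLimitSpecCone R K) i
    (X₀ := pullback u (pS R K q i.unop)) (Y₀ := pullback v (pS R K q i.unop))
    (bcφ R K q u v φ hφ i.unop) (pullback.snd v (pS R K q i.unop)) g'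
    (pullback.snd v (tK R K q)) (πX R K q v i.unop) (πX R K q u i.unop) hY
    (isPullback_πX_bcφ φ hφ g' hg' hg'φ i.unop) V hVc hV'
  have hψ : (specDiagram R K).map l.hom ≫ pS R K q i.unop = pS R K q l.left.unop :=
    τ_w (specDiagram R K) (specτ R K q) l.hom
  exact ⟨l.left.unop, Q_bcφ_of_squares' (Q := @IsOpenImmersion) φ hφ
    ((specDiagram R K).map l.hom) hψ _ _ _ _
    (Groth.Agent.Lib.helper9.isPullback_stage_base ((specDiagram R K).map l.hom)
      (pullback.snd v (pS R K q i.unop)))
    (Groth.Agent.Lib.helper9.isPullback_stageMap ((specDiagram R K).map l.hom)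
      (bcφ R K q u v φ hφ i.unop) (pullback.snd v (pS R K q i.unop))) hl⟩

end Groth.Agent.Lib.helper5.FGLimit
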