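import Groth.Prelude

/-!
# Noetherian descent of finitely presented affine morphisms (helper5)

* `isPullback_of_algebra_isPushout`: a pushout square of rings `A = R ⊗[R₀] A₀` with
  `R = Γ(S)`, `A = Γ(X)` gives a cartesian square of schemes for affine `X`, `S`.
* `exists_descent_affine` (S1460): a finitely presented morphism of affine schemes is the base
  change of a finite type morphism of affine schemes over a finite type `ℤ`-algebra.
-/

set_option autoImplicit false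
universe u

namespace Groth.Agent.Lib.helper5.FPDescent

open AlgebraicGeometry CategoryTheory Limits TensorProduct

/-- From a pushout of rings to a pullback of affine schemes. -/
theorem isPullback_of_algebra_isPushout {X S : Scheme.{u}} (f : X ⟶ S) [IsAffine X] [IsAffine S]
    (R₀ A₀ : Type u) [CommRing R₀] [CommRing A₀] [Algebra R₀ A₀]
    [Algebra R₀ Γ(S, ⊤)] [Algebra A₀ Γ(X, ⊤)] [Algebra R₀ Γ(X, ⊤)] [Algebra Γ(S, ⊤) Γ(X, ⊤)]
    (hf : algebraMap Γ(S, ⊤) Γ(X, ⊤) = f.appTop.hom)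
    [IsScalarTower R₀ Γ(S, ⊤) Γ(X, ⊤)] [IsScalarTower R₀ A₀ Γ(X, ⊤)]
    [Algebra.IsPushout R₀ Γ(S, ⊤) A₀ Γ(X, ⊤)] :
    IsPullback (X.isoSpec.hom ≫ Spec.map (CommRingCat.ofHom (algebraMap A₀ Γ(X, ⊤)))) f
      (Spec.map (CommRingCat.ofHom (algebraMap R₀ A₀)))
      (S.isoSpec.hom ≫ Spec.map (CommRingCat.ofHom (algebraMap R₀ Γ(S, ⊤)))) := by
  have hpo := CommRingCat.isPushout_of_isPushout R₀ Γ(S, ⊤) A₀ Γ(X, ⊤)
  have hpb := (isPullback_SpecMap_of_isPushout _ _ _ _ hpo).flip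
  have hf' : CommRingCat.ofHom (algebraMap Γ(S, ⊤) Γ(X, ⊤)) = f.appTop := by
    rw [hf]; rfl
  rw [hf'] at hpb
  refine hpb.of_iso X.isoSpec.symm (Iso.refl _) S.isoSpec.symm (Iso.refl _) ?_ ?_ ?_ ?_
  · simp
  · exact Scheme.isoSpec_inv_naturality f
  · simp
  · simp

/-- `Γ(Spec R, ⊤)` is of finite type over `ℤ` if `R` is. -/
theorem finiteType_int_Γ_Spec (R : Type u) [CommRing R] [Algebra.FiniteType ℤ R] :
    Algebra.FiniteType ℤ Γ(Spec (CommRingCat.of R), ⊤) :=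
  Algebra.FiniteType.equiv (inferInstance : Algebra.FiniteType ℤ R)
    (Scheme.ΓSpecIso (CommRingCat.of R)).symm.commRingCatIsoToRingEquiv.toIntAlgEquiv

attribute [local instance] Algebra.TensorProduct.rightAlgebra in
/-- **S1460**: Noetherian descent of finitely presented morphisms of affine schemes. -/
theorem exists_descent_affine {X S : Scheme.{u}} (f : X ⟶ S) [IsAffine X] [IsAffine S]
    [LocallyOfFinitePresentation f] :
    ∃ (X₀ S₀ : Scheme.{u}) (f₀ : X₀ ⟶ S₀) (g : S ⟶ S₀) (g' : X ⟶ X₀), IsAffine X₀ ∧ IsAffine S₀ ∧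
      IsPullback g' f f₀ g ∧ Algebra.FiniteType ℤ Γ(S₀, ⊤) ∧ LocallyOfFiniteType f₀ := by
  let _ : Algebra Γ(S, ⊤) Γ(X, ⊤) := f.appTop.hom.toAlgebra
  have hfp : Algebra.FinitePresentation Γ(S, ⊤) Γ(X, ⊤) :=
    (HasRingHomProperty.iff_of_isAffine (P := @LocallyOfFinitePresentation)).mp inferInstance
  let P := Algebra.Presentation.ofFinitePresentation Γ(S, ⊤) Γ(X, ⊤)
  let R₀ := P.Core
  let A₀ := P.ModelOfHasCoeffs R₀
  let e : Γ(S, ⊤) ⊗[R₀] A₀ ≃ₐ[Γ(S, ⊤)] Γ(X, ⊤) := P.tensorModelOfHasCoeffsEquiv R₀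
  let φ : A₀ →ₐ[R₀] Γ(X, ⊤) :=
    (e.toAlgHom.restrictScalars R₀).comp Algebra.TensorProduct.includeRight
  let _ : Algebra A₀ Γ(X, ⊤) := φ.toRingHom.toAlgebra
  have : IsScalarTower R₀ A₀ Γ(X, ⊤) := .of_algebraMap_eq' φ.comp_algebraMap.symm
  have : Algebra.IsPushout R₀ Γ(S, ⊤) A₀ Γ(X, ⊤) := Algebra.IsPushout.of_equiv (R := R₀) (R' := Γ(S, ⊤)) (S := A₀)
      (S' := Γ(S, ⊤) ⊗[R₀] A₀) e (RingHom.ext fun _ => rfl)
  refine ⟨Spec (.of A₀), Spec (.of R₀), Spec.map (CommRingCat.ofHom (algebraMap R₀ A₀)), _, _,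
    inferInstance, inferInstance, isPullback_of_algebra_isPushout f R₀ A₀ rfl, ?_, ?_⟩
  · exact finiteType_int_Γ_Spec R₀
  · rw [HasRingHomProperty.Spec_iff (P := @LocallyOfFiniteType)]
    have : Algebra.FiniteType R₀ A₀ := inferInstance
    exact RingHom.finiteType_algebraMap.mpr this

end Groth.Agent.Lib.helper5.FPDescent
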