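import Mathlib

/-!
# Descent of algebra homomorphisms and isomorphisms to finitely generated subalgebras (helper5)

`K` a commutative ring, `R` a `K`-algebra, `D` a `K`-algebra.  `R ⊗[K] D` is the "filtered colimit"
of the `B ⊗[K] D` for `B` ranging over the finitely generated `K`-subalgebras of `R`.

* `exists_fg_range`, `exists_fg_eq`: finitely many elements / equalities descend.
* `exists_algHom_of_finitePresentation` (H1): `C` finitely presented, `γ : C →ₐ[K] R ⊗[K] D`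
  factors through some `B ⊗[K] D`.
* `exists_eq_of_finiteType` (H2): uniqueness at a finite stage.
* `exists_algEquiv_of_finitePresentation`: an `R`-isomorphism `R ⊗[K] C₁ ≃ₐ[R] R ⊗[K] C₂` between
  base changes of finitely presented `K`-algebras descends to a finitely generated subalgebra.
-/

set_option autoImplicit false

namespace Groth.Agent.Lib.helper5.IsoDescent

open TensorProduct

variable {K R D : Type*} [CommRing K] [CommRing R] [Algebra K R] [CommRing D] [Algebra K D]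

/-- `B ⊗ D → R ⊗ D`. -/
noncomputable def toTop (B : Subalgebra K R) : B ⊗[K] D →ₐ[K] R ⊗[K] D :=
  Algebra.TensorProduct.map B.val (AlgHom.id K D)

/-- `B ⊗ D → B' ⊗ D` for `B ≤ B'`. -/
noncomputable def tr {B B' : Subalgebra K R} (h : B ≤ B') : B ⊗[K] D →ₐ[K] B' ⊗[K] D :=
  Algebra.TensorProduct.map (Subalgebra.inclusion h) (AlgHom.id K D)

@[simp] theorem toTop_tmul (B : Subalgebra K R) (b : B) (d : D) :
    toTop B (b ⊗ₜ[K] d) = (b : R) ⊗ₜ[K] d := rfl

@[simp] theorem tr_tmul {B B' : Subalgebra K R} (h : B ≤ B') (b : B) (d : D) :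
    tr h (b ⊗ₜ[K] d) = (Subalgebra.inclusion h b) ⊗ₜ[K] d := rfl

theorem toTop_comp_tr {B B' : Subalgebra K R} (h : B ≤ B') :
    (toTop (D := D) B').comp (tr h) = toTop B := by
  ext <;> rfl

theorem toTop_tr {B B' : Subalgebra K R} (h : B ≤ B') (x : B ⊗[K] D) :
    toTop B' (tr h x) = toTop B x := DFunLike.congr_fun (toTop_comp_tr h) x

theorem tr_comp_tr {B B' B'' : Subalgebra K R} (h : B ≤ B') (h' : B' ≤ B'') :
    (tr (D := D) h').comp (tr h) = tr (h.trans h') := by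
  ext <;> rfl

theorem tr_tr {B B' B'' : Subalgebra K R} (h : B ≤ B') (h' : B' ≤ B'') (x : B ⊗[K] D) :
    tr h' (tr h x) = tr (h.trans h') x := DFunLike.congr_fun (tr_comp_tr h h') x

theorem toTop_eq_rTensor (B : Subalgebra K R) (x : B ⊗[K] D) :
    toTop B x = LinearMap.rTensor D B.val.toLinearMap x := rfl

theorem tr_eq_rTensor {B B' : Subalgebra K R} (h : B ≤ B') (x : B ⊗[K] D) :
    tr h x = LinearMap.rTensor D (Subalgebra.inclusion h).toLinearMap x := rfl

theorem range_toTop_mono {B B' : Subalgebra K R} (h : B ≤ B') :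
    Set.range (toTop (D := D) B) ⊆ Set.range (toTop (D := D) B') := by
  rintro _ ⟨x, rfl⟩
  exact ⟨tr h x, toTop_tr h x⟩

/-- Finitely many elements of `R ⊗ D` come from a finitely generated subalgebra. -/
theorem exists_fg_range (s : Finset (R ⊗[K] D)) :
    ∃ B : Subalgebra K R, B.FG ∧ ∀ u ∈ s, u ∈ Set.range (toTop (D := D) B) := by
  classical
  induction s using Finset.induction_on with
  | empty => exact ⟨⊥, Subalgebra.fg_bot, by simp⟩
  | insert a s _ ih =>
    obtain ⟨B, hB, hs⟩ := ih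
    obtain ⟨B', hB', x, hx⟩ := TensorProduct.Algebra.exists_of_fg (R := K) (S := R) (N := D) a
    refine ⟨B ⊔ B', hB.sup hB', fun u hu => ?_⟩
    rcases Finset.mem_insert.mp hu with rfl | hu
    · exact range_toTop_mono le_sup_right ⟨x, hx⟩
    · exact range_toTop_mono le_sup_left (hs u hu)

/-- Finitely many equalities in `R ⊗ D` between elements of `B ⊗ D` hold over a finitely
generated larger subalgebra. -/
theorem exists_fg_eq {B : Subalgebra K R} (hB : B.FG) (s : Finset ((B ⊗[K] D) × (B ⊗[K] D)))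
    (hs : ∀ p ∈ s, toTop B p.1 = toTop B p.2) :
    ∃ (B' : Subalgebra K R) (h : B ≤ B'), B'.FG ∧ ∀ p ∈ s, tr h p.1 = tr h p.2 := by
  classical
  induction s using Finset.induction_on with
  | empty => exact ⟨B, le_rfl, hB, by simp⟩
  | insert a s _ ih =>
    obtain ⟨B₁, h₁, hB₁, hs₁⟩ := ih (fun p hp => hs p (Finset.mem_insert_of_mem hp))
    obtain ⟨B₂, h₂, hB₂, ha⟩ := TensorProduct.Algebra.eq_of_fg_of_subtype_eq (N := D) hB
      (t := a.1) (t' := a.2) (hs a (Finset.mem_insert_self a s))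
    refine ⟨B₁ ⊔ B₂, h₁.trans le_sup_left, hB₁.sup hB₂, fun p hp => ?_⟩
    rcases Finset.mem_insert.mp hp with rfl | hp
    · have : tr (D := D) (le_sup_right : B₂ ≤ B₁ ⊔ B₂) (tr h₂ p.1) =
          tr (le_sup_right : B₂ ≤ B₁ ⊔ B₂) (tr h₂ p.2) := congrArg _ ha
      rwa [tr_tr, tr_tr] at this
    · have : tr (D := D) (le_sup_left : B₁ ≤ B₁ ⊔ B₂) (tr h₁ p.1) =
          tr (le_sup_left : B₁ ≤ B₁ ⊔ B₂) (tr h₁ p.2) := congrArg _ (hs₁ p hp)
      rwa [tr_tr, tr_tr] at this

/-- **H1**: a map from a finitely presented algebra to `R ⊗ D` factors through a finite stage. -/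
theorem exists_algHom_of_finitePresentation (C : Type*) [CommRing C] [Algebra K C]
    [Algebra.FinitePresentation K C] (γ : C →ₐ[K] R ⊗[K] D) :
    ∃ (B : Subalgebra K R) (γB : C →ₐ[K] B ⊗[K] D), B.FG ∧ (toTop B).comp γB = γ := by
  classical
  obtain ⟨n, f, hf, T, hT⟩ := Algebra.FinitePresentation.out (R := K) (A := C)
  obtain ⟨B, hB, hs⟩ := exists_fg_range (K := K) (R := R) (D := D)
    (Finset.univ.image (fun i : Fin n => γ (f (MvPolynomial.X i))))
  have hz : ∀ i : Fin n, ∃ z : B ⊗[K] D, toTop B z = γ (f (MvPolynomial.X i)) := fun i =>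
    hs _ (Finset.mem_image_of_mem _ (Finset.mem_univ i))
  choose z hz using hz
  let g : MvPolynomial (Fin n) K →ₐ[K] B ⊗[K] D := MvPolynomial.aeval z
  have hg : (toTop B).comp g = γ.comp f := by
    apply MvPolynomial.algHom_ext
    intro i
    simp [g, hz]
  obtain ⟨B', h, hB', hs'⟩ := exists_fg_eq hB (T.image (fun p => (g p, (0 : B ⊗[K] D))))
    (by
      intro p hp
      obtain ⟨q, hq, rfl⟩ := Finset.mem_image.mp hp
      have hq' : q ∈ RingHom.ker f.toRingHom := hT ▸ Ideal.subset_span hq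
      have : toTop B (g q) = γ (f q) := DFunLike.congr_fun hg q
      simp only [this, map_zero]
      rw [show f q = 0 from hq', map_zero])
  let g' : MvPolynomial (Fin n) K →ₐ[K] B' ⊗[K] D := (tr h).comp g
  have hker : RingHom.ker f.toRingHom ≤ RingHom.ker g'.toRingHom := by
    rw [← hT, Ideal.span_le]
    intro q hq
    have := hs' _ (Finset.mem_image_of_mem _ hq)
    simpa [g'] using this
  refine ⟨B', AlgHom.liftOfSurjective f hf g' hker, hB', ?_⟩
  apply AlgHom.ext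
  intro c
  obtain ⟨q, rfl⟩ := hf c
  simp only [AlgHom.coe_comp, Function.comp_apply, AlgHom.liftOfSurjective_apply, g', toTop_tr]
  exact DFunLike.congr_fun hg q

/-- **H2**: two maps from a finite type algebra to `B ⊗ D` that agree in `R ⊗ D` agree at a
finite stage. -/
theorem exists_eq_of_finiteType (C : Type*) [CommRing C] [Algebra K C] [Algebra.FiniteType K C]
    {B : Subalgebra K R} (hB : B.FG) (φ ψ : C →ₐ[K] B ⊗[K] D)
    (h : (toTop B).comp φ = (toTop B).comp ψ) :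
    ∃ (B' : Subalgebra K R) (hle : B ≤ B'), B'.FG ∧ (tr hle).comp φ = (tr hle).comp ψ := by
  classical
  obtain ⟨s, hs⟩ := (Algebra.FiniteType.out : (⊤ : Subalgebra K C).FG)
  obtain ⟨B', hle, hB', hs'⟩ := exists_fg_eq hB (s.image (fun c => (φ c, ψ c)))
    (by
      intro p hp
      obtain ⟨c, _, rfl⟩ := Finset.mem_image.mp hp
      exact DFunLike.congr_fun h c)
  refine ⟨B', hle, hB', AlgHom.ext_of_adjoin_eq_top hs fun c hc => ?_⟩
  exact hs' _ (Finset.mem_image_of_mem _ hc)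

section Extend

variable {A A' C₁ C₂ : Type*} [CommRing A] [Algebra K A] [CommRing A'] [Algebra K A']
  [CommRing C₁] [Algebra K C₁] [CommRing C₂] [Algebra K C₂]

/-- The `A`-algebra map `A ⊗ C₁ → A ⊗ C₂` induced by `φ : C₁ → A ⊗ C₂`. -/
noncomputable def extend (φ : C₁ →ₐ[K] A ⊗[K] C₂) : A ⊗[K] C₁ →ₐ[A] A ⊗[K] C₂ :=
  Algebra.TensorProduct.lift (Algebra.ofId A (A ⊗[K] C₂)) φ (fun _ _ => Commute.all _ _)

theorem extend_tmul (φ : C₁ →ₐ[K] A ⊗[K] C₂) (a : A) (c : C₁) :
    extend φ (a ⊗ₜ[K] c) = (a ⊗ₜ[K] (1 : C₂)) * φ c := by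
  simp [extend, Algebra.ofId_apply, Algebra.TensorProduct.algebraMap_apply]

theorem extend_one_tmul (φ : C₁ →ₐ[K] A ⊗[K] C₂) (c : C₁) :
    extend φ ((1 : A) ⊗ₜ[K] c) = φ c := by
  rw [extend_tmul, ← Algebra.TensorProduct.one_def, one_mul]

/-- Naturality of `extend` in the base. -/
theorem map_extend (j : A →ₐ[K] A') (φ : C₁ →ₐ[K] A ⊗[K] C₂) (φ' : C₁ →ₐ[K] A' ⊗[K] C₂)
    (h : (Algebra.TensorProduct.map j (AlgHom.id K C₂)).comp φ = φ') (z : A ⊗[K] C₁) :
    Algebra.TensorProduct.map j (AlgHom.id K C₂) (extend φ z) =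
      extend φ' (Algebra.TensorProduct.map j (AlgHom.id K C₁) z) := by
  induction z using TensorProduct.induction_on with
  | zero => simp
  | add x y hx hy => simp only [map_add, hx, hy]
  | tmul a c =>
    rw [extend_tmul, map_mul, Algebra.TensorProduct.map_tmul, Algebra.TensorProduct.map_tmul,
      extend_tmul, ← h]
    simp

/-- An `A`-algebra map out of `A ⊗ C₁` is the extension of its restriction to `C₁`. -/
theorem eq_extend (Θ : A ⊗[K] C₁ →ₐ[A] A ⊗[K] C₂) (z : A ⊗[K] C₁) :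
    Θ z = extend ((Θ.restrictScalars K).comp Algebra.TensorProduct.includeRight) z := by
  induction z using TensorProduct.induction_on with
  | zero => simp
  | add x y hx hy => simp only [map_add, hx, hy]
  | tmul a c =>
    rw [extend_tmul]
    have : a ⊗ₜ[K] c = a • ((1 : A) ⊗ₜ[K] c) := by
      rw [TensorProduct.smul_tmul', smul_eq_mul, mul_one]
    rw [this, map_smul, Algebra.smul_def, Algebra.TensorProduct.algebraMap_apply]
    rfl

/-- Two mutually inverse extensions give an algebra equivalence. -/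
noncomputable def equivOfExtend (φ : C₁ →ₐ[K] A ⊗[K] C₂) (ψ : C₂ →ₐ[K] A ⊗[K] C₁)
    (h₁ : ∀ c, extend φ (ψ c) = (1 : A) ⊗ₜ[K] c) (h₂ : ∀ c, extend ψ (φ c) = (1 : A) ⊗ₜ[K] c) :
    A ⊗[K] C₁ ≃ₐ[A] A ⊗[K] C₂ :=
  AlgEquiv.ofAlgHom (extend φ) (extend ψ)
    (by
      apply Algebra.TensorProduct.ext
      · ext
      · ext c
        simp [extend_one_tmul, h₁])
    (by
      apply Algebra.TensorProduct.ext
      · ext
      · ext c
        simp [extend_one_tmul, h₂])

end Extend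

section Main

variable {C₁ C₂ : Type*} [CommRing C₁] [Algebra K C₁] [CommRing C₂] [Algebra K C₂]

theorem toTop_extend {B : Subalgebra K R} (φ : C₁ →ₐ[K] B ⊗[K] C₂)
    (Θ : R ⊗[K] C₁ →ₐ[R] R ⊗[K] C₂)
    (h : (toTop B).comp φ = (Θ.restrictScalars K).comp Algebra.TensorProduct.includeRight)
    (z : B ⊗[K] C₁) : toTop B (extend φ z) = Θ (toTop B z) := by
  rw [eq_extend Θ]
  exact map_extend B.val φ _ h z

theorem tr_extend {B B' : Subalgebra K R} (hle : B ≤ B') (φ : C₁ →ₐ[K] B ⊗[K] C₂)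
    (z : B ⊗[K] C₁) : tr hle (extend φ z) = extend ((tr hle).comp φ) (tr hle z) :=
  map_extend (Subalgebra.inclusion hle) φ _ rfl z

/-- **Descent of isomorphisms**: an `R`-algebra isomorphism between the base changes of two finitely
presented `K`-algebras is defined over a finitely generated `K`-subalgebra of `R`. -/
theorem exists_algEquiv_of_finitePresentation [Algebra.FinitePresentation K C₁]
    [Algebra.FinitePresentation K C₂] (θ : R ⊗[K] C₁ ≃ₐ[R] R ⊗[K] C₂) :
    ∃ B : Subalgebra K R, B.FG ∧ Nonempty (B ⊗[K] C₁ ≃ₐ[B] B ⊗[K] C₂) := by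
  let φ₀ : C₁ →ₐ[K] R ⊗[K] C₂ :=
    (θ.toAlgHom.restrictScalars K).comp Algebra.TensorProduct.includeRight
  let ψ₀ : C₂ →ₐ[K] R ⊗[K] C₁ :=
    (θ.symm.toAlgHom.restrictScalars K).comp Algebra.TensorProduct.includeRight
  obtain ⟨B₁, φ₁, hB₁, hφ₁⟩ := exists_algHom_of_finitePresentation C₁ φ₀
  obtain ⟨B₂, ψ₂, hB₂, hψ₂⟩ := exists_algHom_of_finitePresentation C₂ ψ₀
  let B := B₁ ⊔ B₂
  have hB : B.FG := hB₁.sup hB₂
  let φ : C₁ →ₐ[K] B ⊗[K] C₂ := (tr le_sup_left).comp φ₁
  let ψ : C₂ →ₐ[K] B ⊗[K] C₁ := (tr le_sup_right).comp ψ₂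
  have hφ : (toTop B).comp φ = φ₀ := by
    rw [← hφ₁, ← AlgHom.comp_assoc, toTop_comp_tr]
  have hψ : (toTop B).comp ψ = ψ₀ := by
    rw [← hψ₂, ← AlgHom.comp_assoc, toTop_comp_tr]
  -- first composition
  have e₁ : (toTop B).comp (((extend φ).restrictScalars K).comp ψ) =
      (toTop B).comp (Algebra.TensorProduct.includeRight : C₂ →ₐ[K] B ⊗[K] C₂) := by
    ext c
    have h1 : toTop B (extend φ (ψ c)) = θ.toAlgHom (toTop B (ψ c)) :=
      toTop_extend φ θ.toAlgHom hφ (ψ c)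
    have h2 : toTop B (ψ c) = θ.symm ((1 : R) ⊗ₜ[K] c) := DFunLike.congr_fun hψ c
    change toTop B (extend φ (ψ c)) = toTop B ((1 : B) ⊗ₜ[K] c)
    rw [h1, h2]
    simp
  have e₂ : (toTop B).comp (((extend ψ).restrictScalars K).comp φ) =
      (toTop B).comp (Algebra.TensorProduct.includeRight : C₁ →ₐ[K] B ⊗[K] C₁) := by
    ext c
    have h1 : toTop B (extend ψ (φ c)) = θ.symm.toAlgHom (toTop B (φ c)) :=
      toTop_extend ψ θ.symm.toAlgHom hψ (φ c)
    have h2 : toTop B (φ c) = θ ((1 : R) ⊗ₜ[K] c) := DFunLike.congr_fun hφ c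
    change toTop B (extend ψ (φ c)) = toTop B ((1 : B) ⊗ₜ[K] c)
    rw [h1, h2]
    simp
  obtain ⟨B', hle', hB', e₁'⟩ := exists_eq_of_finiteType C₂ hB _ _ e₁
  obtain ⟨B'', hle'', hB'', e₂'⟩ := exists_eq_of_finiteType C₁ hB _ _ e₂
  let B₃ := B' ⊔ B''
  have hle₃ : B ≤ B₃ := hle'.trans le_sup_left
  refine ⟨B₃, hB'.sup hB'', ⟨equivOfExtend ((tr hle₃).comp φ) ((tr hle₃).comp ψ) ?_ ?_⟩⟩
  · intro c
    have h1 : tr hle' (extend φ (ψ c)) = tr hle' ((1 : B) ⊗ₜ[K] c) := DFunLike.congr_fun e₁' c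
    have h2 := congrArg (tr (D := C₂) (le_sup_left : B' ≤ B₃)) h1
    rw [tr_tr, tr_tr, tr_extend] at h2
    exact h2
  · intro c
    have h1 : tr hle'' (extend ψ (φ c)) = tr hle'' ((1 : B) ⊗ₜ[K] c) := DFunLike.congr_fun e₂' c
    have h2 := congrArg (tr (D := C₁) (le_sup_right : B'' ≤ B₃)) h1
    rw [tr_tr, tr_tr, tr_extend] at h2
    exact h2

end Main

end Groth.Agent.Lib.helper5.IsoDescent
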