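import Groth.Prelude
import Groth.Agent.Lib.Helper5.FPDescent
import Groth.Agent.Lib.Helper5.IsoDescent

/-!
# Common Noetherian descent for two models of an affine morphism (helper5)

* `isPullback_Spec_tensor`: `Spec (B ⊗[Γ(T)] Γ(X'))` is the pullback of `X' ⟶ T` along `Spec B ⟶ T`.
* `exists_algEquiv_of_isPullback`: two affine models of `f` over the same base `T` give an
  isomorphism `R ⊗[K] C₁ ≃ₐ[R] R ⊗[K] C₂`.
* `exists_common_descent_same_base`, `exists_common_descent` (S9737).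
-/

set_option autoImplicit false
universe u

namespace Groth.Agent.Lib.helper5.FPDescent

open AlgebraicGeometry CategoryTheory Limits TensorProduct

/-- `Spec (B ⊗[Γ(T)] Γ(X'))` is the pullback of `X' ⟶ T` along `Spec B ⟶ T`. -/
theorem isPullback_Spec_tensor {X' T : Scheme.{u}} (f' : X' ⟶ T) [IsAffine X'] [IsAffine T]
    (B : Type u) [CommRing B] [Algebra Γ(T, ⊤) B] [Algebra Γ(T, ⊤) Γ(X', ⊤)]
    (hf : algebraMap Γ(T, ⊤) Γ(X', ⊤) = f'.appTop.hom) :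
    IsPullback
      (Spec.map (CommRingCat.ofHom (Algebra.TensorProduct.includeRight :
        Γ(X', ⊤) →ₐ[Γ(T, ⊤)] B ⊗[Γ(T, ⊤)] Γ(X', ⊤)).toRingHom) ≫ X'.isoSpec.inv)
      (Spec.map (CommRingCat.ofHom (algebraMap B (B ⊗[Γ(T, ⊤)] Γ(X', ⊤)))))
      f' (Spec.map (CommRingCat.ofHom (algebraMap Γ(T, ⊤) B)) ≫ T.isoSpec.inv) := by
  have hpo := CommRingCat.isPushout_tensorProduct Γ(T, ⊤) B Γ(X', ⊤)
  have hpb := (isPullback_SpecMap_of_isPushout _ _ _ _ hpo).flip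
  have hf' : CommRingCat.ofHom (algebraMap Γ(T, ⊤) Γ(X', ⊤)) = f'.appTop := by
    rw [hf]; rfl
  rw [hf'] at hpb
  refine hpb.of_iso (Iso.refl _) X'.isoSpec.symm (Iso.refl _) T.isoSpec.symm ?_ ?_ ?_ ?_
  · simp
  · simp
  · exact Scheme.isoSpec_inv_naturality f'
  · simp

/-- A cartesian square of affine schemes gives a ring isomorphism `R ⊗[K] C ≃ A` compatible
with `R → A`. -/
theorem exists_ringEquiv_of_isPullback {X S T X₁ : Scheme.{u}} [IsAffine X] [IsAffine S]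
    [IsAffine T] [IsAffine X₁] (f : X ⟶ S) (q : S ⟶ T) (f₁ : X₁ ⟶ T) (k₁ : X ⟶ X₁)
    (h₁ : IsPullback k₁ f f₁ q) [Algebra Γ(T, ⊤) Γ(S, ⊤)] [Algebra Γ(T, ⊤) Γ(X₁, ⊤)]
    (hq : algebraMap Γ(T, ⊤) Γ(S, ⊤) = q.appTop.hom)
    (hf₁ : algebraMap Γ(T, ⊤) Γ(X₁, ⊤) = f₁.appTop.hom) :
    ∃ ρ : Γ(S, ⊤) ⊗[Γ(T, ⊤)] Γ(X₁, ⊤) ≃+* Γ(X, ⊤),
      ∀ r : Γ(S, ⊤), ρ (r ⊗ₜ 1) = f.appTop.hom r := by
  have hpo := CommRingCat.isPushout_tensorProduct Γ(T, ⊤) Γ(S, ⊤) Γ(X₁, ⊤)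
  have hpo' := isPushout_appTop_of_isPullback h₁.flip
  have e1 : CommRingCat.ofHom (algebraMap Γ(T, ⊤) Γ(S, ⊤)) = q.appTop := by rw [hq]; rfl
  have e2 : CommRingCat.ofHom (algebraMap Γ(T, ⊤) Γ(X₁, ⊤)) = f₁.appTop := by rw [hf₁]; rfl
  rw [e1, e2] at hpo
  refine ⟨(hpo.isoIsPushout _ _ hpo').commRingCatIsoToRingEquiv, fun r => ?_⟩
  have := IsPushout.inl_isoIsPushout_hom _ _ hpo hpo'
  exact DFunLike.congr_fun (congrArg CommRingCat.Hom.hom this) r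

/-- Two affine finite type models of `f` over the same base `T` (with `Γ(T)` of finite type over
`ℤ`) become isomorphic over an intermediate `S ⟶ S₀ ⟶ T` with `Γ(S₀)` of finite type over `ℤ`. -/
theorem exists_common_descent_same_base {X S T X₁ X₂ : Scheme.{u}} [IsAffine X] [IsAffine S]
    [IsAffine T] [IsAffine X₁] [IsAffine X₂] (f : X ⟶ S) (q : S ⟶ T) (f₁ : X₁ ⟶ T) (f₂ : X₂ ⟶ T)
    (k₁ : X ⟶ X₁) (k₂ : X ⟶ X₂) (h₁ : IsPullback k₁ f f₁ q) (h₂ : IsPullback k₂ f f₂ q)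
    (hT : Algebra.FiniteType ℤ Γ(T, ⊤)) [LocallyOfFiniteType f₁] [LocallyOfFiniteType f₂] :
    ∃ (S₀ X₀ : Scheme.{u}) (u : S ⟶ S₀) (v : S₀ ⟶ T) (f₀ : X₀ ⟶ S₀) (a₁ : X₀ ⟶ X₁)
      (a₂ : X₀ ⟶ X₂), IsAffine S₀ ∧ IsAffine X₀ ∧ u ≫ v = q ∧ Algebra.FiniteType ℤ Γ(S₀, ⊤) ∧
      IsPullback a₁ f₀ f₁ v ∧ IsPullback a₂ f₀ f₂ v := by
  let K := Γ(T, ⊤)
  let R := Γ(S, ⊤)
  let C₁ := Γ(X₁, ⊤)
  let C₂ := Γ(X₂, ⊤)
  let _ : Algebra K R := q.appTop.hom.toAlgebra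
  let _ : Algebra K C₁ := f₁.appTop.hom.toAlgebra
  let _ : Algebra K C₂ := f₂.appTop.hom.toAlgebra
  have : IsNoetherianRing K := Algebra.FiniteType.isNoetherianRing ℤ K
  have hC₁ : Algebra.FiniteType K C₁ :=
    (HasRingHomProperty.iff_of_isAffine (P := @LocallyOfFiniteType)).mp inferInstance
  have hC₂ : Algebra.FiniteType K C₂ :=
    (HasRingHomProperty.iff_of_isAffine (P := @LocallyOfFiniteType)).mp inferInstance
  have : Algebra.FinitePresentation K C₁ := Algebra.FinitePresentation.of_finiteType.mp hC₁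
  have : Algebra.FinitePresentation K C₂ := Algebra.FinitePresentation.of_finiteType.mp hC₂
  obtain ⟨ρ₁, hρ₁⟩ := exists_ringEquiv_of_isPullback f q f₁ k₁ h₁ rfl rfl
  obtain ⟨ρ₂, hρ₂⟩ := exists_ringEquiv_of_isPullback f q f₂ k₂ h₂ rfl rfl
  let θ : R ⊗[K] C₁ ≃ₐ[R] R ⊗[K] C₂ := AlgEquiv.ofRingEquiv (f := ρ₁.trans ρ₂.symm) (fun r => by
    rw [Algebra.TensorProduct.algebraMap_apply, Algebra.TensorProduct.algebraMap_apply]
    simp only [Algebra.algebraMap_self, RingHom.id_apply, RingEquiv.trans_apply]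
    rw [hρ₁, RingEquiv.symm_apply_eq, hρ₂])
  obtain ⟨B, hB, ⟨θB⟩⟩ := IsoDescent.exists_algEquiv_of_finitePresentation θ
  have hBft : Algebra.FiniteType K B := (Subalgebra.fg_iff_finiteType B).mp hB
  have hBZ : Algebra.FiniteType ℤ B := Algebra.FiniteType.trans hT hBft
  let f₀ : Spec (.of (B ⊗[K] C₁)) ⟶ Spec (.of B) :=
    Spec.map (CommRingCat.ofHom (algebraMap B (B ⊗[K] C₁)))
  let u : S ⟶ Spec (.of B) := S.isoSpec.hom ≫ Spec.map (CommRingCat.ofHom B.val.toRingHom)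
  let v : Spec (.of B) ⟶ T := Spec.map (CommRingCat.ofHom (algebraMap K B)) ≫ T.isoSpec.inv
  have huv : u ≫ v = q := by
    simp only [u, v, Category.assoc]
    rw [← Spec.map_comp_assoc]
    have : CommRingCat.ofHom (algebraMap K B) ≫ CommRingCat.ofHom B.val.toRingHom = q.appTop := by
      ext x; rfl
    rw [this, Scheme.isoSpec_hom_naturality_assoc, Iso.hom_inv_id, Category.comp_id]
  have p₁ := isPullback_Spec_tensor f₁ B rfl
  have p₂ := isPullback_Spec_tensor f₂ B rfl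
  let ε : Spec (.of (B ⊗[K] C₁)) ≅ Spec (.of (B ⊗[K] C₂)) :=
    { hom := Spec.map (CommRingCat.ofHom θB.symm.toRingEquiv.toRingHom)
      inv := Spec.map (CommRingCat.ofHom θB.toRingEquiv.toRingHom)
      hom_inv_id := by
        rw [← Spec.map_comp, ← Spec.map_id]
        congr 1
        exact CommRingCat.hom_ext (RingHom.ext fun x => θB.symm_apply_apply x)
      inv_hom_id := by
        rw [← Spec.map_comp, ← Spec.map_id]
        congr 1
        exact CommRingCat.hom_ext (RingHom.ext fun x => θB.apply_symm_apply x) }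
  refine ⟨Spec (.of B), Spec (.of (B ⊗[K] C₁)), u, v, f₀, _,
    ε.hom ≫ (Spec.map (CommRingCat.ofHom (Algebra.TensorProduct.includeRight :
      C₂ →ₐ[K] B ⊗[K] C₂).toRingHom) ≫ X₂.isoSpec.inv), inferInstance,
    inferInstance, huv, finiteType_int_Γ_Spec B, p₁, ?_⟩
  refine p₂.of_iso ε.symm (Iso.refl _) (Iso.refl _) (Iso.refl _) ?_ ?_ ?_ ?_
  · simp
  · simp only [Iso.refl_hom, Category.comp_id, Iso.symm_hom, f₀, ε]
    rw [← Spec.map_comp]
    congr 1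
    exact CommRingCat.hom_ext (RingHom.ext fun x => (θB.commutes x).symm)
  · simp
  · simp [v]

/-- **S9737**: common Noetherian descent of an affine morphism with two models. -/
theorem exists_common_descent (P Q : MorphismProperty Scheme.{u}) [P.IsStableUnderBaseChange]
    [Q.IsStableUnderBaseChange] {X S : Scheme.{u}} (f : X ⟶ S) [IsAffine X] [IsAffine S]
    {X₁ S₁ X₂ S₂ : Scheme.{u}} [IsAffine X₁] [IsAffine S₁] [IsAffine X₂] [IsAffine S₂]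
    (f₁ : X₁ ⟶ S₁) (g₁ : S ⟶ S₁) (g₁' : X ⟶ X₁) (h₁ : IsPullback g₁' f f₁ g₁)
    (f₂ : X₂ ⟶ S₂) (g₂ : S ⟶ S₂) (g₂' : X ⟶ X₂) (h₂ : IsPullback g₂' f f₂ g₂)
    (hS₁ : Algebra.FiniteType ℤ Γ(S₁, ⊤)) (hS₂ : Algebra.FiniteType ℤ Γ(S₂, ⊤))
    [LocallyOfFiniteType f₁] [LocallyOfFiniteType f₂] (hP : P f₁) (hQ : Q f₂) :
    ∃ (X₀ S₀ : Scheme.{u}) (f₀ : X₀ ⟶ S₀) (g : S ⟶ S₀) (g' : X ⟶ X₀), IsAffine X₀ ∧ IsAffine S₀ ∧
      IsPullback g' f f₀ g ∧ Algebra.FiniteType ℤ Γ(S₀, ⊤) ∧ LocallyOfFiniteType f₀ ∧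
      P f₀ ∧ Q f₀ := by
  let R₁ := Γ(S₁, ⊤)
  let R₂ := Γ(S₂, ⊤)
  let R := Γ(S, ⊤)
  let K := R₁ ⊗[ℤ] R₂
  have : Algebra.FiniteType R₁ K := inferInstance
  have hK : Algebra.FiniteType ℤ K := Algebra.FiniteType.trans hS₁ this
  let T : Scheme.{u} := Spec (.of K)
  let p₁ : T ⟶ S₁ :=
    Spec.map (CommRingCat.ofHom (Algebra.TensorProduct.includeLeftRingHom : R₁ →+* K)) ≫
      S₁.isoSpec.inv
  let p₂ : T ⟶ S₂ :=
    Spec.map (CommRingCat.ofHom (Algebra.TensorProduct.includeRight : R₂ →ₐ[ℤ] K).toRingHom) ≫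
      S₂.isoSpec.inv
  let m : K →ₐ[ℤ] R := Algebra.TensorProduct.productMap g₁.appTop.hom.toIntAlgHom
    g₂.appTop.hom.toIntAlgHom
  let q : S ⟶ T := S.isoSpec.hom ≫ Spec.map (CommRingCat.ofHom m.toRingHom)
  have hq₁ : q ≫ p₁ = g₁ := by
    simp only [q, p₁, Category.assoc]
    rw [← Spec.map_comp_assoc]
    have : CommRingCat.ofHom (Algebra.TensorProduct.includeLeftRingHom : R₁ →+* K) ≫
        CommRingCat.ofHom m.toRingHom = g₁.appTop := by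
      refine CommRingCat.hom_ext (RingHom.ext fun x => ?_)
      change m (x ⊗ₜ 1) = _
      rw [Algebra.TensorProduct.productMap_apply_tmul, map_one, mul_one]
      rfl
    rw [this, Scheme.isoSpec_hom_naturality_assoc, Iso.hom_inv_id, Category.comp_id]
  have hq₂ : q ≫ p₂ = g₂ := by
    simp only [q, p₂, Category.assoc]
    rw [← Spec.map_comp_assoc]
    have : CommRingCat.ofHom (Algebra.TensorProduct.includeRight : R₂ →ₐ[ℤ] K).toRingHom ≫
        CommRingCat.ofHom m.toRingHom = g₂.appTop := by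
      refine CommRingCat.hom_ext (RingHom.ext fun x => ?_)
      change m (1 ⊗ₜ x) = _
      rw [Algebra.TensorProduct.productMap_apply_tmul, map_one, one_mul]
      rfl
    rw [this, Scheme.isoSpec_hom_naturality_assoc, Iso.hom_inv_id, Category.comp_id]
  have hT : Algebra.FiniteType ℤ Γ(T, ⊤) := @finiteType_int_Γ_Spec K _ hK
  -- models over the common base
  let k₁ : X ⟶ pullback f₁ p₁ := pullback.lift g₁' (f ≫ q) (by rw [h₁.w, Category.assoc, hq₁])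
  let k₂ : X ⟶ pullback f₂ p₂ := pullback.lift g₂' (f ≫ q) (by rw [h₂.w, Category.assoc, hq₂])
  have hk₁ : IsPullback k₁ f (pullback.snd f₁ p₁) q := by
    refine IsPullback.of_right ?_ (pullback.lift_snd _ _ _) (IsPullback.of_hasPullback f₁ p₁)
    rw [pullback.lift_fst, hq₁]
    exact h₁
  have hk₂ : IsPullback k₂ f (pullback.snd f₂ p₂) q := by
    refine IsPullback.of_right ?_ (pullback.lift_snd _ _ _) (IsPullback.of_hasPullback f₂ p₂)
    rw [pullback.lift_fst, hq₂]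
    exact h₂
  obtain ⟨S₀, X₀, u, v, f₀, a₁, a₂, hS₀, hX₀, huv, hft, pb₁, pb₂⟩ :=
    exists_common_descent_same_base f q (pullback.snd f₁ p₁) (pullback.snd f₂ p₂) k₁ k₂ hk₁ hk₂ hT
  have w : k₁ ≫ pullback.snd f₁ p₁ = (f ≫ u) ≫ v := by
    rw [Category.assoc, huv]; exact hk₁.w
  refine ⟨X₀, S₀, f₀, u, pb₁.lift k₁ (f ≫ u) w, hX₀, hS₀, ?_, hft, ?_, ?_, ?_⟩
  · refine IsPullback.of_right ?_ (pb₁.lift_snd _ _ _) pb₁
    rw [pb₁.lift_fst, huv]
    exact hk₁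
  · exact MorphismProperty.of_isPullback pb₁ (inferInstance : LocallyOfFiniteType _)
  · exact MorphismProperty.of_isPullback pb₁ (P.pullback_snd _ _ hP)
  · exact MorphismProperty.of_isPullback pb₂ (Q.pullback_snd _ _ hQ)

end Groth.Agent.Lib.helper5.FPDescent
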