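import Groth.Agent.Lib.Helper7.InfLiftAlg3
import Groth.Agent.Lib.Helper7.InfLiftAlg5
import Groth.Agent.Lib.Helper22.ZarProj

/-!
# Gluing infinitesimal lifts without finiteness hypotheses, algebra (helper5)

Variant of helper7's `InfLiftAlg3`/`InfLiftAlg5` where the finite presentation of
`R ⊗_A Ω[A/K]` is replaced by (local) projectivity; the global projectivity comes from the
Zariski descent of projectivity (helper22 `ZarProj`, Raynaud–Gruson).

* `proj_receptacle`: `R ⊗_A Ω[A/C]` is projective for a universal thickening `A` of `R` over a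
  formally smooth `C`-algebra `E`.
* `ChartDataP`, `exists_retraction_of_chartsP`: gluing of ring retractions.
-/

set_option autoImplicit false
set_option linter.style.haveILetI false
set_option linter.unusedSectionVars false
universe u
open TensorProduct KaehlerDifferential

namespace Groth.Agent.Lib.helper5.FSmoothLoc

open Groth.Agent.Lib.helper8.PullbackUnit Groth.Agent.Lib.helper7.OmegaSeqAlg
  Groth.Agent.Lib.helper7.InfLiftAlg

theorem proj_receptacle (C E A R : Type u) [CommRing C] [CommRing E] [CommRing A] [CommRing R]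
    [Algebra C E] [Algebra E A] [Algebra C A] [IsScalarTower C E A] [Algebra A R] [Algebra E R]
    [IsScalarTower E A R] [Algebra.FormallySmooth C E] [Algebra.FormallyUnramified E R]
    (hu : OmegaSh.IsUnivThickeningRing E R A (IsScalarTower.toAlgHom E A R))
    {MY P : Type u} [AddCommGroup MY] [Module A MY] [AddCommGroup P] [Module R P]
    (ψY : MY ≃ₗ[A] Ω[A⁄C]) (k : MY →+ P) (hk : IsBC (algebraMap A R) k) :
    Module.Projective R P := by
  obtain ⟨-, hbij⟩ := Groth.Agent.Lib.helper7.UnivThickRing.main C E R A hu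
  obtain ⟨e, -⟩ := exists_equiv_of_isBC hk
  let e₁ : P ≃ₗ[R] R ⊗[A] Ω[A⁄C] :=
    e ≪≫ₗ TensorProduct.AlgebraTensorModule.congr (LinearEquiv.refl R R) ψY
  let e₂ : R ⊗[A] (A ⊗[E] Ω[E⁄C]) ≃ₗ[R] R ⊗[A] Ω[A⁄C] := LinearEquiv.ofBijective _ hbij
  haveI : Module.Projective E Ω[E⁄C] := Algebra.FormallySmooth.projective_kaehlerDifferential
  haveI : Module.Projective A (A ⊗[E] Ω[E⁄C]) := inferInstance
  haveI : Module.Projective R (R ⊗[A] (A ⊗[E] Ω[E⁄C])) := inferInstance
  exact Module.Projective.of_equiv (e₂ ≪≫ₗ e₁.symm)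

/-- local data at `g : K` for the tower `K → A → R`, projective version -/
structure ChartDataP (K A R : Type u) [CommRing K] [CommRing A] [CommRing R] [Algebra K A]
    [Algebra A R] [Algebra K R] (g : K) where
  Kg : Type u
  Ag : Type u
  Rg : Type u
  [cK : CommRing Kg]
  [cA : CommRing Ag]
  [cR : CommRing Rg]
  [aKA : Algebra Kg Ag]
  [aAR : Algebra Ag Rg]
  [aKR : Algebra Kg Rg]
  [tKAR : IsScalarTower Kg Ag Rg]
  [lK : Algebra K Kg]
  [lA : Algebra A Ag]
  [lR : Algebra R Rg]
  [lKA : Algebra K Ag]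
  [lAR : Algebra A Rg]
  [t1 : IsScalarTower K Kg Ag]
  [t2 : IsScalarTower K A Ag]
  [t3 : IsScalarTower A Ag Rg]
  [t4 : IsScalarTower A R Rg]
  [locK : IsLocalization.Away g Kg]
  [locA : IsLocalization.Away (algebraMap K A g) Ag]
  [locR : IsLocalization.Away (algebraMap A R (algebraMap K A g)) Rg]
  surj : Function.Surjective (algebraMap Ag Rg)
  r : Ag →+* Kg
  hr1 : ∀ c, r (algebraMap Kg Ag c) = c
  hr2 : ∀ a, algebraMap Kg Rg (r a) = algebraMap Ag Rg a
  proj : Module.Projective Rg (Rg ⊗[Ag] Ω[Ag⁄Kg])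

attribute [instance] ChartDataP.cK ChartDataP.cA ChartDataP.cR ChartDataP.aKA ChartDataP.aAR
  ChartDataP.aKR ChartDataP.tKAR ChartDataP.lK ChartDataP.lA ChartDataP.lR ChartDataP.lKA
  ChartDataP.lAR ChartDataP.t1 ChartDataP.t2 ChartDataP.t3 ChartDataP.t4 ChartDataP.locK
  ChartDataP.locA ChartDataP.locR

section Main

variable (K A R : Type u) [CommRing K] [CommRing A] [CommRing R] [Algebra K A] [Algebra A R]
  [Algebra K R] [IsScalarTower K A R]

/-- `R ⊗ J → R ⊗ Ω[A/K]` is surjective when `K → R` is surjective. -/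
theorem phiM_surjective (hA : Function.Surjective (algebraMap A R))
    (hK : Function.Surjective (algebraMap K R)) : Function.Surjective (phiM K A R) := by
  intro y
  haveI : Subsingleton Ω[R⁄K] := KaehlerDifferential.subsingleton_of_surjective K R hK
  have h0 : KaehlerDifferential.mapBaseChange K A R y = 0 := Subsingleton.elim _ _
  obtain ⟨c, hc⟩ := (KaehlerDifferential.exact_kerCotangentToTensor_mapBaseChange K A R hA y).mp h0
  obtain ⟨j, rfl⟩ := Ideal.toCotangent_surjective _ c
  refine ⟨(1 : R) ⊗ₜ[A] j, ?_⟩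
  rw [phiM_tmul, ← hc, KaehlerDifferential.kerCotangentToTensor_toCotangent]

theorem exists_retraction_of_chartsP (hA : Function.Surjective (algebraMap A R))
    (hK : Function.Surjective (algebraMap K R))
    (hsqA : ∀ x ∈ RingHom.ker (algebraMap A R), ∀ y ∈ RingHom.ker (algebraMap A R), x * y = 0)
    (hsqK : ∀ x ∈ RingHom.ker (algebraMap K R), ∀ y ∈ RingHom.ker (algebraMap K R), x * y = 0)
    (s : Set K) (hs : Ideal.span s = ⊤) (H : ∀ g ∈ s, Nonempty (ChartDataP K A R g)) :
    ∃ r : A →+* K, (∀ c, r (algebraMap K A c) = c) ∧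
      ∀ a, algebraMap K R (r a) = algebraMap A R a := by
  classical
  -- the image of `s` in `R`
  let s' : Set R := (fun g => algebraMap A R (algebraMap K A g)) '' s
  have hs' : Ideal.span s' = ⊤ := by
    have h1 : s' = (algebraMap K R) '' s := by
      ext x
      simp only [s', Set.mem_image]
      constructor
      · rintro ⟨g, hg, rfl⟩
        exact ⟨g, hg, IsScalarTower.algebraMap_apply K A R g⟩
      · rintro ⟨g, hg, rfl⟩
        exact ⟨g, hg, (IsScalarTower.algebraMap_apply K A R g).symm⟩
    rw [h1, ← Ideal.map_span, hs, Ideal.map_top]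
  -- projectivity
  haveI hproj : Module.Projective R (R ⊗[A] Ω[A⁄K]) := by
    refine Groth.Agent.Lib.helper22.ZarProj.projective_of_forall_isBaseChange R (R ⊗[A] Ω[A⁄K])
      s' hs' ?_
    rintro _ ⟨g, hg, rfl⟩
    obtain ⟨D⟩ := H g hg
    haveI := isLocalizedModule_lP K A R D.Kg D.Ag D.Rg g
    exact ⟨D.Rg, inferInstance, inferInstance, inferInstance, D.Rg ⊗[D.Ag] Ω[D.Ag⁄D.Kg],
      inferInstance, inferInstance, inferInstance, inferInstance, lP K A R D.Kg D.Ag D.Rg,
      IsLocalizedModule.isBaseChange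
        (Submonoid.powers (algebraMap A R (algebraMap K A g))) D.Rg (lP K A R D.Kg D.Ag D.Rg),
      D.proj⟩
  -- the global section
  obtain ⟨τ, hτ⟩ := Module.projective_lifting_property (phiM K A R) LinearMap.id
    (phiM_surjective K A R hA hK)
  -- receptacle data
  have hqI : IsBC (algebraMap A R)
      (TensorProduct.mk A R (RingHom.ker (algebraMap A R)) 1).toAddMonoidHom :=
    IsBC.of_isBaseChange _ (TensorProduct.isBaseChange A _ R)
  have hk : IsBC (algebraMap A R) (TensorProduct.mk A R Ω[A⁄K] 1).toAddMonoidHom :=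
    IsBC.of_isBaseChange _ (TensorProduct.isBaseChange A _ R)
  have hιI : Set.range (Submodule.subtype (RingHom.ker (algebraMap A R))) =
      (RingHom.ker (algebraMap A R) : Set A) := by ext x; simp
  have hbij := qI_bijective A R hA hsqA (Submodule.subtype (RingHom.ker (algebraMap A R)))
    Subtype.val_injective hιI _ hqI
  -- injectivity of `K → A` on the kernel
  have hinj : ∀ x ∈ RingHom.ker ((algebraMap A R).comp (algebraMap K A)),
      algebraMap K A x = 0 → x = 0 := by
    intro x _ hx
    have hmem : x ∈ (⊥ : Submodule K K) := by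
      refine Submodule.mem_of_span_eq_top_of_smul_pow_mem _ s hs x (fun g => ?_)
      obtain ⟨D⟩ := H g.1 g.2
      have h1 : algebraMap K D.Kg x = 0 := by
        rw [← D.hr1 (algebraMap K D.Kg x), ← IsScalarTower.algebraMap_apply,
          IsScalarTower.algebraMap_apply K A D.Ag, hx, map_zero, map_zero]
      rw [IsLocalization.map_eq_zero_iff (Submonoid.powers g.1)] at h1
      obtain ⟨⟨_, n, rfl⟩, hn⟩ := h1
      exact ⟨n, by simpa using hn⟩
    simpa using hmem
  obtain ⟨r, hr1, hr2⟩ := exists_ring_retraction (algebraMap K A) (algebraMap A R)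
    (by
      rw [← IsScalarTower.algebraMap_eq]
      exact hK) hsqA
    (by
      rw [← IsScalarTower.algebraMap_eq]
      exact hsqK) hinj
    (TensorProduct.mk A R (RingHom.ker (algebraMap A R)) 1).toAddMonoidHom hbij
    (fun c j => by
      change (1 : R) ⊗ₜ[A] (c • j) = algebraMap A R c • ((1 : R) ⊗ₜ[A] j)
      rw [TensorProduct.tmul_smul, algebraMap_smul])
    (phiM K A R) τ hτ
    (fun m hm => by
      obtain ⟨c, j, hc, hj, hjm⟩ := ker_phi K A R hA hK hsqA
        ((D K A : A →ₗ[K] Ω[A⁄K]).toAddMonoidHom) (LinearEquiv.refl _ _) (fun _ => rfl)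
        (TensorProduct.mk A R Ω[A⁄K] 1).toAddMonoidHom hk
        (Submodule.subtype (RingHom.ker (algebraMap A R))) Subtype.val_injective hιI
        (TensorProduct.mk A R (RingHom.ker (algebraMap A R)) 1).toAddMonoidHom hqI
        (phiM K A R) (fun s => phiM_tmul K A R s) m hm
      have hj' : (j : A) = algebraMap K A c := hj
      refine ⟨c, by rw [← hj']; exact j.2, ?_⟩
      rw [← hjm]
      exact congrArg (TensorProduct.mk A R (RingHom.ker (algebraMap A R)) 1).toAddMonoidHom
        (Subtype.ext hj'.symm))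
    (fun x hx => by
      change phiM K A R ((1 : R) ⊗ₜ[A] _) = 0
      rw [phiM_tmul]
      simp)
  refine ⟨r, fun c => congr($hr1 c), fun a => ?_⟩
  have := congr($hr2 a)
  rw [RingHom.comp_apply, RingHom.comp_apply, ← IsScalarTower.algebraMap_apply] at this
  exact this

end Main

end Groth.Agent.Lib.helper5.FSmoothLoc
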