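import Groth.Agent.Lib.Helper5.FSmoothLoc1
import Groth.Agent.Lib.Helper7.InfLiftSch

/-!
# Gluing infinitesimal lifts without finiteness hypotheses, scheme level (helper5)

Variant of helper7's `InfLiftSch.chartData` / `InfLiftSch.exists_section_of_local` where
`LocallyOfFinitePresentation p` is replaced by the hypothesis that `p` is formally smooth on
small enough affine charts around the image of `σ₀`.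
-/

set_option autoImplicit false
set_option linter.style.haveILetI false
set_option linter.unusedSectionVars false
universe u
open AlgebraicGeometry CategoryTheory Limits TopologicalSpace Opposite TensorProduct KaehlerDifferential

namespace Groth.Agent.Lib.helper5.FSmoothLoc

open Groth.Agent.Lib.helper8.PullbackUnit Groth.Agent.Lib.helper7 Groth.Agent.Lib.helper7.InfLiftSch

section Chart

variable {T T₀ T₀' P : Scheme.{u}} [IsAffine T] [IsAffine T₀] [IsAffine T₀']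
  (p : P ⟶ T) (σ₀ : T₀ ⟶ P) [FormallyUnramified σ₀]
  (i' : T₀ ⟶ T₀') (h' : T₀' ⟶ P) (hu : OmegaSh.IsUnivThickening σ₀ i' h')
  (q : T₀' ⟶ T) (hq : q = h' ≫ p)
  (g : Γ(T, ⊤)) (D : T.Opens) (hD : D = T.basicOpen g) (W : P.Opens) (hW : IsAffineOpen W)
  (eOU : q ⁻¹ᵁ D ≤ h' ⁻¹ᵁ W) (eW : W ≤ p ⁻¹ᵁ D)
  (hfs : (p.appLE D W eW).hom.FormallySmooth)
  (s : (D : Scheme.{u}) ⟶ T₀') (hs1 : s ≫ q = D.ι)
  (hs2 : ((i' ≫ q) ∣_ D) ≫ s = ((i' ≫ q) ⁻¹ᵁ D).ι ≫ i')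

include hu hq hD hW eOU eW hs1 hs2 hfs in
theorem chartDataP :
    letI := q.appTop.hom.toAlgebra
    letI := i'.appTop.hom.toAlgebra
    letI := (i' ≫ q).appTop.hom.toAlgebra
    Nonempty (ChartDataP Γ(T, ⊤) Γ(T₀', ⊤) Γ(T₀, ⊤) g) := by
  letI algKA := q.appTop.hom.toAlgebra
  letI algAR := i'.appTop.hom.toAlgebra
  letI algKR := (i' ≫ q).appTop.hom.toAlgebra
  have hci : IsClosedImmersion i' := hu.1.1.1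
  have hD'eq : q ⁻¹ᵁ D = T₀'.basicOpen (q.app ⊤ g) := by
    rw [hD]; exact Scheme.preimage_basicOpen q g
  have hD' : IsAffineOpen (q ⁻¹ᵁ D) := by
    rw [hD'eq]
    exact (isAffineOpen_top T₀').basicOpen _
  have hD₀eq : i' ⁻¹ᵁ (q ⁻¹ᵁ D) = T₀.basicOpen (i'.app ⊤ (q.app ⊤ g)) := by
    rw [hD'eq]
    exact Scheme.preimage_basicOpen i' _
  have hDaff : IsAffineOpen D := by
    rw [hD]; exact (isAffineOpen_top T).basicOpen g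
  have hD₀aff : IsAffineOpen (i' ⁻¹ᵁ (q ⁻¹ᵁ D)) := hD'.preimage i'
  -- local algebra structures
  letI aKA : Algebra Γ(T, D) Γ(T₀', q ⁻¹ᵁ D) := (q.app D).hom.toAlgebra
  letI aAR : Algebra Γ(T₀', q ⁻¹ᵁ D) Γ(T₀, i' ⁻¹ᵁ (q ⁻¹ᵁ D)) :=
    (i'.appLE (q ⁻¹ᵁ D) (i' ⁻¹ᵁ (q ⁻¹ᵁ D)) le_rfl).hom.toAlgebra
  letI aKR : Algebra Γ(T, D) Γ(T₀, i' ⁻¹ᵁ (q ⁻¹ᵁ D)) :=
    ((i'.appLE (q ⁻¹ᵁ D) (i' ⁻¹ᵁ (q ⁻¹ᵁ D)) le_rfl).hom.comp (q.app D).hom).toAlgebra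
  haveI tKAR : IsScalarTower Γ(T, D) Γ(T₀', q ⁻¹ᵁ D) Γ(T₀, i' ⁻¹ᵁ (q ⁻¹ᵁ D)) :=
    IsScalarTower.of_algebraMap_eq' rfl
  letI lK : Algebra Γ(T, ⊤) Γ(T, D) :=
    (T.presheaf.map (homOfLE (le_top : D ≤ ⊤)).op).hom.toAlgebra
  letI lA : Algebra Γ(T₀', ⊤) Γ(T₀', q ⁻¹ᵁ D) :=
    (T₀'.presheaf.map (homOfLE (le_top : q ⁻¹ᵁ D ≤ ⊤)).op).hom.toAlgebra
  letI lR : Algebra Γ(T₀, ⊤) Γ(T₀, i' ⁻¹ᵁ (q ⁻¹ᵁ D)) :=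
    (T₀.presheaf.map (homOfLE (le_top : i' ⁻¹ᵁ (q ⁻¹ᵁ D) ≤ ⊤)).op).hom.toAlgebra
  letI lKA : Algebra Γ(T, ⊤) Γ(T₀', q ⁻¹ᵁ D) :=
    ((q.app D).hom.comp (T.presheaf.map (homOfLE (le_top : D ≤ ⊤)).op).hom).toAlgebra
  letI lAR : Algebra Γ(T₀', ⊤) Γ(T₀, i' ⁻¹ᵁ (q ⁻¹ᵁ D)) :=
    ((i'.appLE (q ⁻¹ᵁ D) (i' ⁻¹ᵁ (q ⁻¹ᵁ D)) le_rfl).hom.comp
      (T₀'.presheaf.map (homOfLE (le_top : q ⁻¹ᵁ D ≤ ⊤)).op).hom).toAlgebra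
  haveI t1 : IsScalarTower Γ(T, ⊤) Γ(T, D) Γ(T₀', q ⁻¹ᵁ D) := IsScalarTower.of_algebraMap_eq' rfl
  haveI t3 : IsScalarTower Γ(T₀', ⊤) Γ(T₀', q ⁻¹ᵁ D) Γ(T₀, i' ⁻¹ᵁ (q ⁻¹ᵁ D)) :=
    IsScalarTower.of_algebraMap_eq' rfl
  haveI t2 : IsScalarTower Γ(T, ⊤) Γ(T₀', ⊤) Γ(T₀', q ⁻¹ᵁ D) := by
    refine IsScalarTower.of_algebraMap_eq' ?_
    change ((q.app D).hom.comp (T.presheaf.map (homOfLE (le_top : D ≤ ⊤)).op).hom) =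
      (T₀'.presheaf.map (homOfLE (le_top : q ⁻¹ᵁ D ≤ ⊤)).op).hom.comp q.appTop.hom
    rw [← CommRingCat.hom_comp, ← CommRingCat.hom_comp]
    congr 1
    exact q.naturality _
  haveI t4 : IsScalarTower Γ(T₀', ⊤) Γ(T₀, ⊤) Γ(T₀, i' ⁻¹ᵁ (q ⁻¹ᵁ D)) := by
    refine IsScalarTower.of_algebraMap_eq' ?_
    change ((i'.appLE (q ⁻¹ᵁ D) (i' ⁻¹ᵁ (q ⁻¹ᵁ D)) le_rfl).hom.comp
      (T₀'.presheaf.map (homOfLE (le_top : q ⁻¹ᵁ D ≤ ⊤)).op).hom) =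
      (T₀.presheaf.map (homOfLE (le_top : i' ⁻¹ᵁ (q ⁻¹ᵁ D) ≤ ⊤)).op).hom.comp i'.appTop.hom
    rw [← CommRingCat.hom_comp, ← CommRingCat.hom_comp]
    congr 1
    rw [Scheme.Hom.appLE_eq_app]
    exact i'.naturality _
  -- localizations
  haveI locK : IsLocalization.Away g Γ(T, D) :=
    (isAffineOpen_top T).isLocalization_of_eq_basicOpen g (homOfLE (le_top : D ≤ ⊤)) hD
  haveI locA : IsLocalization.Away (algebraMap Γ(T, ⊤) Γ(T₀', ⊤) g) Γ(T₀', q ⁻¹ᵁ D) :=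
    (isAffineOpen_top T₀').isLocalization_of_eq_basicOpen (q.app ⊤ g)
      (homOfLE (le_top : q ⁻¹ᵁ D ≤ ⊤)) hD'eq
  haveI locR : IsLocalization.Away (algebraMap Γ(T₀', ⊤) Γ(T₀, ⊤) (algebraMap Γ(T, ⊤) Γ(T₀', ⊤) g))
      Γ(T₀, i' ⁻¹ᵁ (q ⁻¹ᵁ D)) :=
    (isAffineOpen_top T₀).isLocalization_of_eq_basicOpen (i'.app ⊤ (q.app ⊤ g))
      (homOfLE (le_top : i' ⁻¹ᵁ (q ⁻¹ᵁ D) ≤ ⊤)) hD₀eq
  -- surjectivity
  have hsurj : Function.Surjective (algebraMap Γ(T₀', q ⁻¹ᵁ D) Γ(T₀, i' ⁻¹ᵁ (q ⁻¹ᵁ D))) := by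
    change Function.Surjective (i'.appLE (q ⁻¹ᵁ D) (i' ⁻¹ᵁ (q ⁻¹ᵁ D)) le_rfl).hom
    rw [Scheme.Hom.appLE_eq_app]
    exact i'.app_surjective _ hD'
  -- the retraction
  obtain ⟨r₀, hr₀1, hr₀2⟩ := InfLiftSch.exists_local_retraction q i' D s hs1 hs2
  have hr1 : ∀ c, r₀.hom (algebraMap Γ(T, D) Γ(T₀', q ⁻¹ᵁ D) c) = c := fun c =>
    ConcreteCategory.congr_hom hr₀1 c
  have hr2 : ∀ a, algebraMap Γ(T, D) Γ(T₀, i' ⁻¹ᵁ (q ⁻¹ᵁ D)) (r₀.hom a) =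
      algebraMap Γ(T₀', q ⁻¹ᵁ D) Γ(T₀, i' ⁻¹ᵁ (q ⁻¹ᵁ D)) a := by
    intro a
    change (i'.appLE (q ⁻¹ᵁ D) (i' ⁻¹ᵁ (q ⁻¹ᵁ D)) le_rfl).hom ((q.app D).hom (r₀.hom a)) =
      (i'.appLE (q ⁻¹ᵁ D) (i' ⁻¹ᵁ (q ⁻¹ᵁ D)) le_rfl).hom a
    rw [Scheme.Hom.appLE_eq_app]
    exact ConcreteCategory.congr_hom hr₀2 a
  -- finite presentation
  have eTU : i' ⁻¹ᵁ (q ⁻¹ᵁ D) ≤ σ₀ ⁻¹ᵁ W := by
    rw [← hu.2.1]
    intro x hx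
    exact eOU hx
  letI aKE : Algebra Γ(T, D) Γ(P, W) := (p.appLE D W eW).hom.toAlgebra
  letI aEA : Algebra Γ(P, W) Γ(T₀', q ⁻¹ᵁ D) := (h'.appLE W (q ⁻¹ᵁ D) eOU).hom.toAlgebra
  letI aER : Algebra Γ(P, W) Γ(T₀, i' ⁻¹ᵁ (q ⁻¹ᵁ D)) :=
    (σ₀.appLE W (i' ⁻¹ᵁ (q ⁻¹ᵁ D)) eTU).hom.toAlgebra
  haveI tKEA : IsScalarTower Γ(T, D) Γ(P, W) Γ(T₀', q ⁻¹ᵁ D) := by
    refine IsScalarTower.of_algebraMap_eq' ?_
    change (q.app D).hom = (h'.appLE W (q ⁻¹ᵁ D) eOU).hom.comp (p.appLE D W eW).hom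
    rw [← CommRingCat.hom_comp, Scheme.Hom.appLE_comp_appLE]
    subst hq
    rw [Scheme.Hom.app_eq_appLE]
  haveI tEAR : IsScalarTower Γ(P, W) Γ(T₀', q ⁻¹ᵁ D) Γ(T₀, i' ⁻¹ᵁ (q ⁻¹ᵁ D)) := by
    refine IsScalarTower.of_algebraMap_eq' ?_
    change (σ₀.appLE W (i' ⁻¹ᵁ (q ⁻¹ᵁ D)) eTU).hom =
      (i'.appLE (q ⁻¹ᵁ D) (i' ⁻¹ᵁ (q ⁻¹ᵁ D)) le_rfl).hom.comp (h'.appLE W (q ⁻¹ᵁ D) eOU).hom
    rw [← CommRingCat.hom_comp, Scheme.Hom.appLE_comp_appLE]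
    have := hu.2.1
    subst this
    rfl
  haveI : Algebra.FormallySmooth Γ(T, D) Γ(P, W) := hfs
  haveI : Algebra.FormallyUnramified Γ(P, W) Γ(T₀, i' ⁻¹ᵁ (q ⁻¹ᵁ D)) :=
    Scheme.Hom.formallyUnramified_appLE σ₀ hW hD₀aff eTU
  have hur := UnivThickOmega.isUnivThickeningRing_chart σ₀ i' h' hu hW hD' eOU eTU
  have hfp : Module.Projective Γ(T₀, i' ⁻¹ᵁ (q ⁻¹ᵁ D))
      (Γ(T₀, i' ⁻¹ᵁ (q ⁻¹ᵁ D)) ⊗[Γ(T₀', q ⁻¹ᵁ D)] Ω[Γ(T₀', q ⁻¹ᵁ D)⁄Γ(T, D)]) :=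
    proj_receptacle Γ(T, D) Γ(P, W) Γ(T₀', q ⁻¹ᵁ D) Γ(T₀, i' ⁻¹ᵁ (q ⁻¹ᵁ D)) hur
      (LinearEquiv.refl _ _)
      (TensorProduct.mk Γ(T₀', q ⁻¹ᵁ D) Γ(T₀, i' ⁻¹ᵁ (q ⁻¹ᵁ D))
        Ω[Γ(T₀', q ⁻¹ᵁ D)⁄Γ(T, D)] 1).toAddMonoidHom
      (IsBC.of_isBaseChange _ (TensorProduct.isBaseChange _ _ _))
  exact ⟨{ Kg := Γ(T, D), Ag := Γ(T₀', q ⁻¹ᵁ D), Rg := Γ(T₀, i' ⁻¹ᵁ (q ⁻¹ᵁ D)),
           surj := hsurj, r := r₀.hom, hr1 := hr1, hr2 := hr2, proj := hfp }⟩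

end Chart

section Core

variable {T T₀ T₀' P : Scheme.{u}} [IsAffine T₀]
  (p : P ⟶ T) (σ₀ : T₀ ⟶ P) [FormallyUnramified σ₀]
  (i' : T₀ ⟶ T₀') (h' : T₀' ⟶ P) (hu : OmegaSh.IsUnivThickening σ₀ i' h')
  (hi : MoreMor.IsFirstOrderThickening (i' ≫ h' ≫ p))
  (ι : Type u) (U : ι → T.Opens) (hU : iSup U = ⊤)
  (s : ∀ j, (U j : Scheme.{u}) ⟶ T₀') (hs1 : ∀ j, s j ≫ h' ≫ p = (U j).ι)
  (hs2 : ∀ j, ((i' ≫ h' ≫ p) ∣_ U j) ≫ s j = ((i' ≫ h' ≫ p) ⁻¹ᵁ U j).ι ≫ i')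
  (hloc : ∀ x₀ : T₀, ∃ W₁ : P.Opens, σ₀ x₀ ∈ W₁ ∧ ∀ (W : P.Opens) (D : T.Opens),
    IsAffineOpen W → IsAffineOpen D → W ≤ W₁ → ∀ e : W ≤ p ⁻¹ᵁ D,
      (p.appLE D W e).hom.FormallySmooth)

include hu hi hU hs1 hs2 hloc in
theorem exists_section_of_localP :
    ∃ t : T ⟶ T₀', t ≫ h' ≫ p = 𝟙 T ∧ (i' ≫ h' ≫ p) ≫ t = i' := by
  obtain ⟨q, hq⟩ : ∃ q, q = h' ≫ p := ⟨_, rfl⟩
  rw [← hq] at hi hs1 hs2 ⊢
  haveI hci : IsClosedImmersion (i' ≫ q) := hi.1.1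
  haveI hci' : IsClosedImmersion i' := hu.1.1.1
  have hsurj : Function.Surjective (i' ≫ q) := hi.1.2.surj
  have hsurj' : Function.Surjective i' := hu.1.1.2.surj
  haveI : IsAffine T := ThickAff.isAffine_of_thickening (i' ≫ q) hsurj
  haveI : IsAffine T₀' := ThickAff.isAffine_of_thickening i' hsurj'
  letI algKA := q.appTop.hom.toAlgebra
  letI algAR := i'.appTop.hom.toAlgebra
  letI algKR := (i' ≫ q).appTop.hom.toAlgebra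
  haveI : IsScalarTower Γ(T, ⊤) Γ(T₀', ⊤) Γ(T₀, ⊤) := IsScalarTower.of_algebraMap_eq' rfl
  -- the good elements
  let S : Set Γ(T, ⊤) := {g | Nonempty (ChartDataP Γ(T, ⊤) Γ(T₀', ⊤) Γ(T₀, ⊤) g)}
  have hcov : ∀ x : T, ∃ g ∈ S, x ∈ T.basicOpen g := by
    intro x
    obtain ⟨j, hj⟩ : ∃ j, x ∈ U j := by
      have : x ∈ iSup U := by rw [hU]; trivial
      exact Opens.mem_iSup.mp this
    obtain ⟨x₀, rfl⟩ := hsurj x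
    obtain ⟨W₁, hxW₁, hW₁⟩ := hloc x₀
    obtain ⟨W₀, hW₀, hyW₀, hW₀₁⟩ := exists_isAffineOpen_mem_and_subset hxW₁
    have hx₀ : x₀ ∈ ((σ₀ ⁻¹ᵁ W₀ ⊓ (i' ≫ q) ⁻¹ᵁ (U j) : T₀.Opens) : Set T₀) := ⟨hyW₀, hj⟩
    obtain ⟨_, ⟨_, ⟨gbar, rfl⟩, rfl⟩, hxg, hgle⟩ := (isBasis_basicOpen T₀).exists_subset_of_mem_open
      hx₀ (σ₀ ⁻¹ᵁ W₀ ⊓ (i' ≫ q) ⁻¹ᵁ (U j) : T₀.Opens).2
    obtain ⟨g, hg⟩ := (i' ≫ q).app_surjective ⊤ (isAffineOpen_top T) gbar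
    have hpre : (i' ≫ q) ⁻¹ᵁ (T.basicOpen g) = T₀.basicOpen gbar := by
      rw [Scheme.preimage_basicOpen]
      congr 1
    have hDU : T.basicOpen g ≤ U j := by
      intro x' hx'
      obtain ⟨x₀', rfl⟩ := hsurj x'
      have h1 : x₀' ∈ (i' ≫ q) ⁻¹ᵁ (T.basicOpen g) := hx'
      rw [hpre] at h1
      exact (hgle h1).2
    have hWeq : P.basicOpen ((p.appLE ⊤ W₀ le_top).hom g) = W₀ ⊓ p ⁻¹ᵁ (T.basicOpen g) :=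
      Scheme.basicOpen_appLE p W₀ ⊤ le_top g
    have hWaff : IsAffineOpen (P.basicOpen ((p.appLE ⊤ W₀ le_top).hom g)) := hW₀.basicOpen _
    have eW : P.basicOpen ((p.appLE ⊤ W₀ le_top).hom g) ≤ p ⁻¹ᵁ (T.basicOpen g) := by
      rw [hWeq]; exact inf_le_right
    have eOU : q ⁻¹ᵁ (T.basicOpen g) ≤ h' ⁻¹ᵁ (P.basicOpen ((p.appLE ⊤ W₀ le_top).hom g)) := by
      rw [hWeq]
      intro z hz
      obtain ⟨z₀, rfl⟩ := hsurj' z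
      have h1 : z₀ ∈ (i' ≫ q) ⁻¹ᵁ (T.basicOpen g) := hz
      have h2 : h' (i' z₀) = σ₀ z₀ := by
        rw [← Scheme.Hom.comp_apply, hu.2.1]
      refine ⟨?_, ?_⟩
      · show h' (i' z₀) ∈ W₀
        rw [h2]
        rw [hpre] at h1
        exact (hgle h1).1
      · show p (h' (i' z₀)) ∈ T.basicOpen g
        have h3 : p (h' (i' z₀)) = q (i' z₀) := by
          rw [hq, Scheme.Hom.comp_apply]
        rw [h3]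
        exact hz
    have hs1' : (T.homOfLE hDU ≫ s j) ≫ q = (T.basicOpen g).ι := by
      rw [Category.assoc, hs1, Scheme.homOfLE_ι]
    have hs2' : ((i' ≫ q) ∣_ (T.basicOpen g)) ≫ (T.homOfLE hDU ≫ s j) =
        ((i' ≫ q) ⁻¹ᵁ (T.basicOpen g)).ι ≫ i' := by
      have h1 : ((i' ≫ q) ∣_ (T.basicOpen g)) ≫ T.homOfLE hDU =
          T₀.homOfLE ((Opens.map (i' ≫ q).base).map (homOfLE hDU)).le ≫ ((i' ≫ q) ∣_ (U j)) := by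
        rw [← Scheme.Hom.resLE_eq_morphismRestrict, ← Scheme.Hom.resLE_eq_morphismRestrict,
          Scheme.Hom.resLE_map, Scheme.Hom.map_resLE]
      rw [← Category.assoc, h1, Category.assoc, hs2, Scheme.homOfLE_ι_assoc]
    have hfs : (p.appLE (T.basicOpen g) (P.basicOpen ((p.appLE ⊤ W₀ le_top).hom g)) eW).hom.FormallySmooth :=
      hW₁ _ _ hWaff ((isAffineOpen_top T).basicOpen g)
        (le_trans (by rw [hWeq]; exact inf_le_left) hW₀₁) eW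
    refine ⟨g, chartDataP p σ₀ i' h' hu q hq g (T.basicOpen g) rfl _ hWaff eOU eW hfs _ hs1' hs2', ?_⟩
    show x₀ ∈ (i' ≫ q) ⁻¹ᵁ (T.basicOpen g)
    rw [hpre]
    exact hxg
  have hspan : Ideal.span S = ⊤ := by
    rw [← (isAffineOpen_top T).self_le_iSup_basicOpen_iff]
    intro x _
    obtain ⟨g, hg, hx⟩ := hcov x
    exact Opens.mem_iSup.mpr ⟨⟨g, hg⟩, hx⟩
  have hA : Function.Surjective (algebraMap Γ(T₀', ⊤) Γ(T₀, ⊤)) :=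
    i'.app_surjective ⊤ (isAffineOpen_top T₀')
  have hK : Function.Surjective (algebraMap Γ(T, ⊤) Γ(T₀, ⊤)) :=
    (i' ≫ q).app_surjective ⊤ (isAffineOpen_top T)
  have hsqA : ∀ x ∈ RingHom.ker (algebraMap Γ(T₀', ⊤) Γ(T₀, ⊤)),
      ∀ y ∈ RingHom.ker (algebraMap Γ(T₀', ⊤) Γ(T₀, ⊤)), x * y = 0 := by
    intro x hx y hy
    have h1 := UnivThick.ker_app_mul_self i' hu.1 ⊤ (isAffineOpen_top T₀')
    have h2 : x * y ∈ RingHom.ker (i'.app ⊤).hom * RingHom.ker (i'.app ⊤).hom :=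
      Ideal.mul_mem_mul hx hy
    rw [h1] at h2
    exact h2
  have hsqK : ∀ x ∈ RingHom.ker (algebraMap Γ(T, ⊤) Γ(T₀, ⊤)),
      ∀ y ∈ RingHom.ker (algebraMap Γ(T, ⊤) Γ(T₀, ⊤)), x * y = 0 := by
    intro x hx y hy
    have h1 := UnivThick.ker_app_mul_self (i' ≫ q) hi ⊤ (isAffineOpen_top T)
    have h2 : x * y ∈ RingHom.ker ((i' ≫ q).app ⊤).hom * RingHom.ker ((i' ≫ q).app ⊤).hom :=
      Ideal.mul_mem_mul hx hy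
    rw [h1] at h2
    exact h2
  obtain ⟨r, hr1, hr2⟩ := exists_retraction_of_chartsP Γ(T, ⊤) Γ(T₀', ⊤) Γ(T₀, ⊤)
    hA hK hsqA hsqK S hspan (fun g hg => hg)
  obtain ⟨t, ht⟩ := InfLiftSch.exists_hom_appTop (X := T) (Y := T₀') (CommRingCat.ofHom r)
  refine ⟨t, ?_, ?_⟩
  · apply ext_of_isAffine
    rw [Scheme.Hom.comp_appTop, ht]
    ext c
    exact hr1 c
  · apply ext_of_isAffine
    rw [Scheme.Hom.comp_appTop, ht]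
    ext a
    exact hr2 a

end Core

end Groth.Agent.Lib.helper5.FSmoothLoc
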