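import Groth.Agent.Lib.Helper5.FSmoothLoc2
import Groth.Agent.Lib.Helper7.FSmoothHom
import Groth.Agent.Lib.Helper7.InfLiftSmooth

/-!
# Formal smoothness of morphisms of schemes is local on the source (helper5)

(Stacks 37.11.9/37.11.10, no finiteness hypotheses: uses the Zariski descent of projectivity.)

* `isFormallySmoothHom_of_isPullback`: base change.
* `formallySmooth_appLE_of_restrict`: charts of a morphism which is formally smooth on an open.
* `isFormallySmoothHom_of_affineLocally`: if `Γ(Y, V) → Γ(X, U)` is formally smooth for all affine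
  opens `U ⊆ f⁻¹ V`, then `f` is formally smooth (lifting property against first order thickenings
  of affine schemes).
-/

set_option autoImplicit false
set_option linter.style.haveILetI false
set_option linter.unusedSectionVars false
universe u
open AlgebraicGeometry CategoryTheory Limits TopologicalSpace Opposite

namespace Groth.Agent.Lib.helper5.FSmoothLoc

open Groth.Agent.Lib.helper7

/-- formal smoothness (lifting property) is stable under base change -/
theorem isFormallySmoothHom_of_isPullback {P X T S : Scheme.{u}} {fst : P ⟶ X} {snd : P ⟶ T}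
    {f : X ⟶ S} {a : T ⟶ S} (sq : IsPullback fst snd f a) (hf : MoreMor.IsFormallySmoothHom f) :
    MoreMor.IsFormallySmoothHom snd := by
  intro A _ I hI α β w
  obtain ⟨l, h1, h2⟩ := hf A I hI (α ≫ fst) (β ≫ a) (by
    rw [← Category.assoc, w, Category.assoc, Category.assoc, sq.w])
  refine ⟨sq.lift l β h2, ?_, sq.lift_snd _ _ _⟩
  apply sq.hom_ext
  · rw [Category.assoc, sq.lift_fst, h1]
  · rw [Category.assoc, sq.lift_snd, w]

/-- charts of a morphism which is formally smooth on an open subscheme of the source -/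
theorem formallySmooth_appLE_of_restrict {P T : Scheme.{u}} (p : P ⟶ T) (W₁ : P.Opens)
    (h : MoreMor.IsFormallySmoothHom (W₁.ι ≫ p)) {W : P.Opens} {D : T.Opens}
    (hW : IsAffineOpen W) (hD : IsAffineOpen D) (hWW : W ≤ W₁) (e : W ≤ p ⁻¹ᵁ D) :
    (p.appLE D W e).hom.FormallySmooth := by
  have hWr : W ≤ W₁.ι.opensRange := by rw [Scheme.Opens.opensRange_ι]; exact hWW
  have hW' : IsAffineOpen (W₁.ι ⁻¹ᵁ W) := hW.preimage_of_isOpenImmersion W₁.ι hWr
  have e' : W₁.ι ⁻¹ᵁ W ≤ (W₁.ι ≫ p) ⁻¹ᵁ D := by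
    intro x hx
    exact e hx
  have h1 := FSmoothHom.formallySmooth_appLE (W₁.ι ≫ p) h hW' hD e'
  have h2 : (W₁.ι ≫ p).appLE D (W₁.ι ⁻¹ᵁ W) e' =
      p.appLE D W e ≫ W₁.ι.appLE W (W₁.ι ⁻¹ᵁ W) le_rfl :=
    (Scheme.Hom.appLE_comp_appLE _ _ _ _ _ _ _).symm
  haveI : IsIso (W₁.ι.appLE W (W₁.ι ⁻¹ᵁ W) le_rfl) := by
    rw [← Scheme.Hom.app_eq_appLE]
    exact Scheme.Hom.isIso_app W₁.ι W hWr
  rw [h2, CommRingCat.hom_comp] at h1
  exact (RingHom.FormallySmooth.respectsIso.cancel_right_isIso (p.appLE D W e)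
    (W₁.ι.appLE W (W₁.ι ⁻¹ᵁ W) le_rfl)).mp h1

section Main

variable {X Y : Scheme.{u}} (f : X ⟶ Y)
  (H : ∀ (U : X.Opens) (V : Y.Opens) (_ : IsAffineOpen U) (_ : IsAffineOpen V)
    (hUV : U ≤ f ⁻¹ᵁ V), (f.appLE V U hUV).hom.FormallySmooth)

include H in
/-- the restriction of `f` to an affine open mapping into an affine open is formally smooth -/
theorem isFormallySmoothHom_ι_comp {U : X.Opens} {V : Y.Opens} (hU : IsAffineOpen U)
    (hV : IsAffineOpen V) (e : U ≤ f ⁻¹ᵁ V) : MoreMor.IsFormallySmoothHom (U.ι ≫ f) := by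
  have h1 : U.ι ≫ f = hU.isoSpec.hom ≫ Spec.map (f.appLE V U e) ≫ hV.fromSpec := by
    rw [IsAffineOpen.SpecMap_appLE_fromSpec f hV hU e, ← Category.assoc,
      IsAffineOpen.isoSpec_hom_fromSpec]
  rw [h1]
  refine FSmoothHom.comp (FSmoothHom.of_isOpenImmersion _)
    (FSmoothHom.comp ?_ (FSmoothHom.of_isOpenImmersion _))
  exact (FSmoothHom.FS_Spec_iff (f.appLE V U e).hom).mpr (H U V hU hV e)

include H in
theorem exists_local_lift {T₀ T : Scheme.{u}} (i : T₀ ⟶ T)
    (hi : MoreMor.IsFirstOrderThickening i) (a : T₀ ⟶ X) (b : T ⟶ Y) (w : i ≫ b = a ≫ f)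
    (x : T) : ∃ (D : T.Opens) (bx : (D : Scheme.{u}) ⟶ X), x ∈ D ∧ bx ≫ f = D.ι ≫ b ∧
      (i ∣_ D) ≫ bx = (i ⁻¹ᵁ D).ι ≫ a := by
  haveI hci : IsClosedImmersion i := hi.1.1
  obtain ⟨x₀, rfl⟩ := hi.1.2.surj x
  -- affine charts
  obtain ⟨V, hV, hzV, -⟩ := exists_isAffineOpen_mem_and_subset
    (show f (a x₀) ∈ (⊤ : Y.Opens) from trivial)
  obtain ⟨W, hW, hyW, hWV⟩ := exists_isAffineOpen_mem_and_subset
    (show a x₀ ∈ f ⁻¹ᵁ V from hzV)
  have e : W ≤ f ⁻¹ᵁ V := hWV
  obtain ⟨O', hO'⟩ := UnivThick.exists_open_preimage i hi (a ⁻¹ᵁ W)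
  have hxO : i x₀ ∈ (b ⁻¹ᵁ V ⊓ O' : T.Opens) := by
    refine ⟨?_, ?_⟩
    · show b (i x₀) ∈ V
      rw [← Scheme.Hom.comp_apply, w, Scheme.Hom.comp_apply]
      exact hzV
    · show x₀ ∈ i ⁻¹ᵁ O'
      rw [hO']
      exact hyW
  obtain ⟨D, hD, hxD, hDO⟩ := exists_isAffineOpen_mem_and_subset hxO
  have hDV : D ≤ b ⁻¹ᵁ V := fun y hy => (hDO hy).1
  have hD₀ : IsAffineOpen (i ⁻¹ᵁ D) := hD.preimage i
  have hDW : i ⁻¹ᵁ D ≤ a ⁻¹ᵁ W := by
    intro y hy
    have : y ∈ i ⁻¹ᵁ O' := (hDO hy).2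
    rw [hO'] at this
    exact this
  -- ring level
  letI algRE : Algebra Γ(Y, V) Γ(X, W) := (f.appLE V W e).hom.toAlgebra
  letI algRA : Algebra Γ(Y, V) Γ(T, D) := (b.appLE V D hDV).hom.toAlgebra
  letI algRB : Algebra Γ(Y, V) Γ(T₀, i ⁻¹ᵁ D) :=
    ((i.app D).hom.comp (b.appLE V D hDV).hom).toAlgebra
  haveI : Algebra.FormallySmooth Γ(Y, V) Γ(X, W) := H W V hW hV e
  have hcompat : (i.app D).hom.comp (b.appLE V D hDV).hom =
      (a.appLE W (i ⁻¹ᵁ D) hDW).hom.comp (f.appLE V W e).hom := by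
    rw [← CommRingCat.hom_comp, ← CommRingCat.hom_comp, Scheme.Hom.app_eq_appLE,
      Scheme.Hom.appLE_comp_appLE, Scheme.Hom.appLE_comp_appLE]
    congr 1
    simp only [w]
  let α : Γ(X, W) →ₐ[Γ(Y, V)] Γ(T₀, i ⁻¹ᵁ D) :=
    { (a.appLE W (i ⁻¹ᵁ D) hDW).hom with
      commutes' := fun r => by
        change (a.appLE W (i ⁻¹ᵁ D) hDW).hom ((f.appLE V W e).hom r) =
          (i.app D).hom ((b.appLE V D hDV).hom r)
        exact (congr($hcompat r)).symm }
  let π : Γ(T, D) →ₐ[Γ(Y, V)] Γ(T₀, i ⁻¹ᵁ D) :=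
    { (i.app D).hom with
      commutes' := fun r => rfl }
  have hπ : Function.Surjective π := i.app_surjective D hD
  have hnil : IsNilpotent (RingHom.ker (π : Γ(T, D) →+* Γ(T₀, i ⁻¹ᵁ D))) := by
    refine ⟨2, ?_⟩
    rw [pow_two]
    exact UnivThick.ker_app_mul_self i hi D hD
  let lam : Γ(X, W) →ₐ[Γ(Y, V)] Γ(T, D) := Algebra.FormallySmooth.liftOfSurjective α π hπ hnil
  have hlam1 : ∀ y, (i.app D).hom (lam y) = (a.appLE W (i ⁻¹ᵁ D) hDW).hom y := fun y =>
    Algebra.FormallySmooth.liftOfSurjective_apply α π hπ hnil y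
  have hlam2 : ∀ r, lam ((f.appLE V W e).hom r) = (b.appLE V D hDV).hom r := fun r =>
    lam.commutes r
  refine ⟨D, hD.isoSpec.hom ≫ Spec.map (CommRingCat.ofHom lam.toRingHom) ≫ hW.fromSpec, hxD,
    ?_, ?_⟩
  · have h1 : Spec.map (CommRingCat.ofHom lam.toRingHom) ≫ Spec.map (f.appLE V W e) =
        Spec.map (b.appLE V D hDV) := by
      rw [← Spec.map_comp]
      congr 1
      ext r
      exact hlam2 r
    rw [Category.assoc, Category.assoc, ← IsAffineOpen.SpecMap_appLE_fromSpec f hV hW e,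
      ← Category.assoc (Spec.map _), h1, IsAffineOpen.SpecMap_appLE_fromSpec b hV hD hDV,
      ← Category.assoc, IsAffineOpen.isoSpec_hom_fromSpec]
  · have h0 : (i ∣_ D) ≫ hD.isoSpec.hom = hD₀.isoSpec.hom ≫ Spec.map (i.app D) := by
      rw [← cancel_mono hD.fromSpec, Category.assoc, IsAffineOpen.isoSpec_hom_fromSpec,
        morphismRestrict_ι, Category.assoc, Scheme.Hom.app_eq_appLE,
        IsAffineOpen.SpecMap_appLE_fromSpec i hD hD₀ le_rfl, ← Category.assoc,
        IsAffineOpen.isoSpec_hom_fromSpec]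
    have h1 : Spec.map (i.app D) ≫ Spec.map (CommRingCat.ofHom lam.toRingHom) =
        Spec.map (a.appLE W (i ⁻¹ᵁ D) hDW) := by
      rw [← Spec.map_comp]
      congr 1
      ext y
      exact hlam1 y
    rw [← Category.assoc, h0, Category.assoc, ← Category.assoc (Spec.map _), h1,
      IsAffineOpen.SpecMap_appLE_fromSpec a hW hD₀ hDW, ← Category.assoc,
      IsAffineOpen.isoSpec_hom_fromSpec]

include H in
/-- **Formal smoothness is local on the source and target**: a morphism which is formally smooth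
on affine charts has the infinitesimal lifting property for first order thickenings of affine
schemes. -/
theorem isFormallySmoothHom_of_affineLocally : MoreMor.IsFormallySmoothHom f := by
  intro A _ I hI a b w
  have hi := Groth.Agent.Lib.Helper5.FormallyEtale.thickening_Spec A I hI
  haveI hci : IsClosedImmersion (Spec.map (CommRingCat.ofHom (Ideal.Quotient.mk I))) := hi.1.1
  obtain ⟨i, hidef⟩ : ∃ i, i = Spec.map (CommRingCat.ofHom (Ideal.Quotient.mk I)) := ⟨_, rfl⟩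
  rw [← hidef] at hi hci w ⊢
  -- local lifts
  choose D bx hxD hb1 hb2 using exists_local_lift f H i hi a b w
  have hcov : iSup D = ⊤ := by
    rw [eq_top_iff]
    intro x _
    exact TopologicalSpace.Opens.mem_iSup.mpr ⟨x, hxD x⟩
  -- the base change and the section over `T₀`
  obtain ⟨σ₀, hσ1, hσ2⟩ : ∃ σ₀ : Spec (CommRingCat.of (A ⧸ I)) ⟶ Limits.pullback f b,
      σ₀ ≫ Limits.pullback.fst f b = a ∧ σ₀ ≫ Limits.pullback.snd f b = i :=
    ⟨Limits.pullback.lift a i w.symm, Limits.pullback.lift_fst _ _ _,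
      Limits.pullback.lift_snd _ _ _⟩
  have : FormallyUnramified σ₀ := by
    have : FormallyUnramified (σ₀ ≫ Limits.pullback.snd f b) := by
      rw [hσ2]; infer_instance
    exact FormallyUnramified.of_comp σ₀ (Limits.pullback.snd f b)
  obtain ⟨T₀', i', h', hu⟩ := UnivThick.exists_isUnivThickening σ₀
  have hiq : i' ≫ h' ≫ Limits.pullback.snd f b = i := by
    rw [← Category.assoc, hu.2.1, hσ2]
  subst hiq
  -- local sections
  have hloc : ∀ j, ∃ s : (D j : Scheme.{u}) ⟶ T₀',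
      s ≫ h' ≫ Limits.pullback.snd f b = (D j).ι ∧
      ((i' ≫ h' ≫ Limits.pullback.snd f b) ∣_ D j) ≫ s =
        ((i' ≫ h' ≫ Limits.pullback.snd f b) ⁻¹ᵁ D j).ι ≫ i' := by
    intro j
    have w' : ((i' ≫ h' ≫ Limits.pullback.snd f b) ∣_ D j) ≫
        Limits.pullback.lift (bx j) (D j).ι (hb1 j) =
        ((i' ≫ h' ≫ Limits.pullback.snd f b) ⁻¹ᵁ D j).ι ≫ σ₀ := by
      apply Limits.pullback.hom_ext
      · rw [Category.assoc, Limits.pullback.lift_fst, hb2 j, Category.assoc, hσ1]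
      · rw [Category.assoc, Limits.pullback.lift_snd, morphismRestrict_ι, Category.assoc, hσ2]
    obtain ⟨s, ⟨hs1, hs2⟩, -⟩ := hu.2.2 _ _ ((i' ≫ h' ≫ Limits.pullback.snd f b) ∣_ D j)
      (Limits.pullback.lift (bx j) (D j).ι (hb1 j))
      ((i' ≫ h' ≫ Limits.pullback.snd f b) ⁻¹ᵁ D j).ι
      (UnivThick.restrict _ hi (D j)) w'
    refine ⟨s, ?_, hs1⟩
    rw [← Category.assoc, hs2, Limits.pullback.lift_snd]
  choose s hs1 hs2 using hloc
  -- formally smooth charts of the base change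
  have hch : ∀ x₀ : Spec (CommRingCat.of (A ⧸ I)), ∃ W₁ : (Limits.pullback f b).Opens,
      σ₀ x₀ ∈ W₁ ∧ ∀ (W : (Limits.pullback f b).Opens) (D' : (Spec (CommRingCat.of A)).Opens),
        IsAffineOpen W → IsAffineOpen D' → W ≤ W₁ →
          ∀ e : W ≤ (Limits.pullback.snd f b) ⁻¹ᵁ D',
            ((Limits.pullback.snd f b).appLE D' W e).hom.FormallySmooth := by
    intro x₀
    obtain ⟨V, hV, hzV, -⟩ := exists_isAffineOpen_mem_and_subset
      (show f (a x₀) ∈ (⊤ : Y.Opens) from trivial)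
    obtain ⟨U, hU, hyU, hUV⟩ := exists_isAffineOpen_mem_and_subset
      (show a x₀ ∈ f ⁻¹ᵁ V from hzV)
    have hfsU : MoreMor.IsFormallySmoothHom (U.ι ≫ f) := isFormallySmoothHom_ι_comp f H hU hV hUV
    have sq : IsPullback ((Limits.pullback.fst f b) ∣_ U)
        (((Limits.pullback.fst f b) ⁻¹ᵁ U).ι ≫ Limits.pullback.snd f b) (U.ι ≫ f) b :=
      (isPullback_morphismRestrict (Limits.pullback.fst f b) U).paste_vert
        (IsPullback.of_hasPullback f b)
    have hfsW := isFormallySmoothHom_of_isPullback sq hfsU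
    refine ⟨(Limits.pullback.fst f b) ⁻¹ᵁ U, ?_, ?_⟩
    · show (Limits.pullback.fst f b) (σ₀ x₀) ∈ U
      rw [← Scheme.Hom.comp_apply, hσ1]
      exact hyU
    · intro W D' hW hD' hWW e
      exact formallySmooth_appLE_of_restrict _ _ hfsW hW hD' hWW e
  obtain ⟨t, ht1, ht2⟩ := exists_section_of_localP
    (Limits.pullback.snd f b) σ₀ i' h' hu hi _ D hcov s hs1 hs2 hch
  refine ⟨t ≫ h' ≫ Limits.pullback.fst f b, ?_, ?_⟩
  · rw [← Category.assoc, ht2, ← Category.assoc, hu.2.1, hσ1]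
  · rw [Category.assoc, Category.assoc, Limits.pullback.condition, ← Category.assoc h',
      ← Category.assoc t, ht1, Category.id_comp]

end Main

end Groth.Agent.Lib.helper5.FSmoothLoc
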