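import Groth.Agent.Lib.Helper5.ConsSep4

/-!
# The fibrewise closure of a subset of the source of a morphism (helper5)

`fibClosure f Z` is the union over `s` of the closures of `Z ∩ f⁻¹ s` in the fibre `f⁻¹ s`.

* `fibClosure_inter_fibre`
* `mem_closure_preimage_iff` : topological transfer along open maps between embedded fibres.
* `fibClosure_preimage` : the fibrewise closure commutes with arbitrary base change.
-/

set_option autoImplicit false
set_option backward.isDefEq.respectTransparency false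
universe u
open CategoryTheory CategoryTheory.Limits AlgebraicGeometry Topology TopologicalSpace

namespace Groth.Agent.Lib.helper5.FibClos

open Groth.Agent.Lib.helper5.ConsSep

/-- the fibrewise closure. -/
def fibClosure {X S : Scheme.{u}} (f : X ⟶ S) (Z : Set X) : Set X :=
  {x | x ∈ closure (Z ∩ f ⁻¹' {f x})}

theorem mem_fibClosure_iff {X S : Scheme.{u}} (f : X ⟶ S) (Z : Set X) (x : X) :
    x ∈ fibClosure f Z ↔ x ∈ closure (Z ∩ f ⁻¹' {f x}) := Iff.rfl

theorem subset_fibClosure {X S : Scheme.{u}} (f : X ⟶ S) (Z : Set X) : Z ⊆ fibClosure f Z :=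
  fun x hx => subset_closure ⟨hx, rfl⟩

theorem fibClosure_subset_closure {X S : Scheme.{u}} (f : X ⟶ S) (Z : Set X) :
    fibClosure f Z ⊆ closure Z :=
  fun _ hx => closure_mono Set.inter_subset_left hx

theorem fibClosure_inter_fibre {X S : Scheme.{u}} (f : X ⟶ S) (Z : Set X) (s : S) :
    fibClosure f Z ∩ f ⁻¹' {s} = closure (Z ∩ f ⁻¹' {s}) ∩ f ⁻¹' {s} := by
  ext x
  constructor
  · rintro ⟨hx, hxs⟩
    have hxs' : f x = s := hxs
    rw [mem_fibClosure_iff, hxs'] at hx
    exact ⟨hx, hxs⟩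
  · rintro ⟨hx, hxs⟩
    have hxs' : f x = s := hxs
    refine ⟨?_, hxs⟩
    rw [mem_fibClosure_iff, hxs']
    exact hx

section Top

variable {F' F X' X : Type*} [TopologicalSpace F'] [TopologicalSpace F] [TopologicalSpace X']
  [TopologicalSpace X] {ι' : F' → X'} {ι : F → X} {m : F' → F} {q : X' → X}

theorem mem_closure_preimage_iff (hι' : IsEmbedding ι') (hι : IsEmbedding ι) (hm : IsOpenMap m)
    (hmc : Continuous m) (hcomm : ∀ z, q (ι' z) = ι (m z)) (Z : Set X) (z' : F') :
    ι' z' ∈ closure (q ⁻¹' Z ∩ Set.range ι') ↔ q (ι' z') ∈ closure (Z ∩ Set.range ι) := by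
  have h1 : ι' z' ∈ closure (q ⁻¹' Z ∩ Set.range ι') ↔ z' ∈ closure (ι' ⁻¹' (q ⁻¹' Z)) := by
    rw [hι'.isInducing.closure_eq_preimage_closure_image, Set.image_preimage_eq_inter_range]
    rfl
  have h2 : ι (m z') ∈ closure (Z ∩ Set.range ι) ↔ m z' ∈ closure (ι ⁻¹' Z) := by
    rw [hι.isInducing.closure_eq_preimage_closure_image, Set.image_preimage_eq_inter_range]
    rfl
  have h3 : ι' ⁻¹' (q ⁻¹' Z) = m ⁻¹' (ι ⁻¹' Z) := by
    ext z
    simp only [Set.mem_preimage, hcomm]
  rw [h1, hcomm, h2, h3, ← hm.preimage_closure_eq_closure_preimage hmc]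
  rfl

end Top

theorem fibClosure_preimage {X' X T S : Scheme.{u}} {q : X' ⟶ X} {f' : X' ⟶ T} {f : X ⟶ S}
    {h : T ⟶ S} (sq : IsPullback q f' f h) (Z : Set X) :
    fibClosure f' (q ⁻¹' Z) = q ⁻¹' fibClosure f Z := by
  ext x'
  set t := f' x' with ht
  have hfq : f (q x') = h t := by
    rw [← Scheme.Hom.comp_apply, sq.w, Scheme.Hom.comp_apply]
  have big := isPullback_fiberToSpecResidueField_of_isPullback sq t
  set m := pullback.map f' (T.fromSpecResidueField t) f (S.fromSpecResidueField (h t)) q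
    (Spec.map (h.residueFieldMap t)) h sq.w.symm (by simp) with hm
  haveI : UniversallyOpen m :=
    MorphismProperty.of_isPullback (P := @UniversallyOpen) big.flip inferInstance
  have hcomm : m ≫ f.fiberι (h t) = f'.fiberι t ≫ q := pullback.lift_fst _ _ _
  have hx'r : x' ∈ Set.range (f'.fiberι t) := by
    rw [f'.range_fiberι t]; rfl
  obtain ⟨z', hz'⟩ := hx'r
  have key := mem_closure_preimage_iff (ι' := f'.fiberι t) (ι := f.fiberι (h t)) (m := m)
    (q := q) (f'.fiberι t).isEmbedding (f.fiberι (h t)).isEmbedding m.isOpenMap m.continuous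
    (fun z => by
      rw [← Scheme.Hom.comp_apply (f'.fiberι t) q, ← hcomm, Scheme.Hom.comp_apply]
      rfl) Z z'
  rw [f'.range_fiberι t, f.range_fiberι (h t), hz'] at key
  change x' ∈ closure (q ⁻¹' Z ∩ f' ⁻¹' {f' x'}) ↔ q x' ∈ closure (Z ∩ f ⁻¹' {f (q x')})
  rw [hfq]
  exact key

end Groth.Agent.Lib.helper5.FibClos
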