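import Groth.Agent.Lib.Helper5.FibClos1
import Groth.Agent.Lib.Helper5.ConsApprox1

/-!
# The fibrewise closure of a constructible set is constructible: Noetherian case (helper5)

* `exists_open_fibClosure_iff` : near `s₀`, over `closure {s₀}`, the fibrewise closure of a
  constructible set is the closure of its part over `closure {s₀}` (EGA IV 9.5.2).
* `isConstructible_fibClosure` : EGA IV 9.5.3-type statement over a Noetherian base.
-/

set_option autoImplicit false
set_option backward.isDefEq.respectTransparency false
universe u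
open CategoryTheory CategoryTheory.Limits AlgebraicGeometry Topology TopologicalSpace

namespace Groth.Agent.Lib.helper5.FibClos

open Groth.Agent.Lib.helper5.ConsSep Groth.Agent.Lib.helper5.ConsFibre
  Groth.Agent.Lib.helper5.ConsApprox

theorem exists_open_fibClosure_iff {X S : Scheme.{u}} [IsNoetherian S] (f : X ⟶ S)
    [LocallyOfFiniteType f] [QuasiCompact f] (Z : Set X) (hZ : IsConstructible Z) (s₀ : S) :
    ∃ V' : Set S, IsOpen V' ∧ s₀ ∈ V' ∧ ∀ x' : X, f x' ∈ V' → f x' ∈ closure {s₀} →
      (x' ∈ fibClosure f Z ↔ x' ∈ closure (Z ∩ f ⁻¹' closure {s₀})) := by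
  let C : Closeds S := ⟨closure {s₀}, isClosed_closure⟩
  have hCi : IsIrreducible (C : Set S) := isIrreducible_singleton.closure
  haveI := isIntegral_subscheme_vanishingIdeal C hCi
  set j := (Scheme.IdealSheafData.vanishingIdeal C).subschemeι with hj
  have hrange : Set.range j = closure {s₀} := range_subschemeι_vanishingIdeal C
  haveI : IsNoetherian (Scheme.IdealSheafData.vanishingIdeal C).subscheme := isNoetherian_of_lft j
  have hgen : j (genericPoint ↥(Scheme.IdealSheafData.vanishingIdeal C).subscheme) = s₀ := by
    have h1 : IsGenericPoint (j (genericPoint ↥(Scheme.IdealSheafData.vanishingIdeal C).subscheme))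
        (closure (Set.range j)) := by
      have := (genericPoint_spec ↥(Scheme.IdealSheafData.vanishingIdeal C).subscheme).image
        j.continuous
      rwa [Set.image_univ] at this
    rw [hrange, closure_closure] at h1
    exact h1.eq isGenericPoint_closure
  have sq := IsPullback.of_hasPullback f j
  set q := pullback.fst f j with hq
  set fT := pullback.snd f j with hfT
  haveI : IsNoetherian (pullback f j) := isNoetherian_of_lft fT
  have hA : IsConstructible (q ⁻¹' Z) :=
    hZ.preimage q.continuous (fun s _ _ U _ _ => NoetherianSpace.isCompact _)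
  obtain ⟨V, hVne, hV⟩ := exists_open_closure_inter_fibre fT (q ⁻¹' Z) hA
  have hηV := genericPoint_mem_of_nonempty V hVne
  obtain ⟨V', hV', hV'eq⟩ := j.isEmbedding.isInducing.isOpen_iff.mp V.2
  have hrq : Set.range q = f ⁻¹' closure {s₀} := by
    rw [range_fst_of_isPullback sq, hrange]
  have himg : q '' (q ⁻¹' Z) = Z ∩ f ⁻¹' closure {s₀} := by
    rw [Set.image_preimage_eq_inter_range, hrq]
  refine ⟨V', hV', ?_, ?_⟩
  · rw [← hgen]
    have : genericPoint ↥(Scheme.IdealSheafData.vanishingIdeal C).subscheme ∈ j ⁻¹' V' := by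
      rw [hV'eq]; exact hηV
    exact this
  · intro x' hx'V hx'c
    have hx'r : x' ∈ Set.range q := by rw [hrq]; exact hx'c
    obtain ⟨y, rfl⟩ := hx'r
    have hjy : j (fT y) = f (q y) := by
      rw [← Scheme.Hom.comp_apply, ← sq.w, Scheme.Hom.comp_apply]
    have hyV : fT y ∈ V := by
      have : fT y ∈ j ⁻¹' V' := by
        change j (fT y) ∈ V'
        rw [hjy]; exact hx'V
      rw [hV'eq] at this
      exact this
    have hpre := fibClosure_preimage sq Z
    have h1 : q y ∈ fibClosure f Z ↔ y ∈ fibClosure fT (q ⁻¹' Z) := by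
      rw [hpre]; rfl
    rw [h1, mem_fibClosure_iff, ← himg]
    constructor
    · intro hy
      exact image_closure_subset_closure_image q.continuous
        ⟨y, closure_mono Set.inter_subset_left hy, rfl⟩
    · intro hy
      have hy' : y ∈ closure (q ⁻¹' Z) := by
        rw [q.isEmbedding.isInducing.closure_eq_preimage_closure_image]
        exact hy
      exact hV (fT y) hyV ⟨hy', rfl⟩

/-- EGA IV 9.5.3-type: over a Noetherian base, the fibrewise closure of a constructible set is
constructible. -/
theorem isConstructible_fibClosure {X S : Scheme.{u}} [IsNoetherian S] (f : X ⟶ S)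
    [LocallyOfFiniteType f] [QuasiCompact f] (Z : Set X) (hZ : IsConstructible Z) :
    IsConstructible (fibClosure f Z) := by
  haveI : IsNoetherian X := isNoetherian_of_lft f
  refine isConstructible_of_forall_integral _ fun W ι hι hW => ?_
  haveI := hι; haveI := hW
  set ξ := genericPoint ↥W with hξ
  set s₀ := f (ι ξ) with hs₀
  obtain ⟨V', hV', hs₀V', H⟩ := exists_open_fibClosure_iff f Z hZ s₀
  have hsp : ∀ w : W, ξ ⤳ w := fun w => (genericPoint_spec ↥W).specializes (Set.mem_univ w)
  have hcl : ∀ w : W, f (ι w) ∈ closure {s₀} := fun w =>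
    specializes_iff_mem_closure.mp (((hsp w).map ι.continuous).map f.continuous)
  set O : Set W := ι ⁻¹' (f ⁻¹' V') with hO
  have hOo : IsOpen O := (hV'.preimage f.continuous).preimage ι.continuous
  have hξO : ξ ∈ O := hs₀V'
  set F := closure (Z ∩ f ⁻¹' closure {s₀}) with hF
  have hiff : ∀ w ∈ O, (ι w ∈ fibClosure f Z ↔ ι w ∈ F) := fun w hw => H (ι w) hw (hcl w)
  by_cases hξF : ι ξ ∈ F
  · left
    have hall : ∀ w : W, ι w ∈ F := fun w =>
      ((hsp w).map ι.continuous).mem_closed isClosed_closure hξF
    refine ⟨ξ, interior_maximal (fun w hw => ?_) hOo hξO⟩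
    exact (hiff w hw).mpr (hall w)
  · right
    have hO2 : IsOpen (O ∩ (ι ⁻¹' F)ᶜ) :=
      hOo.inter (isClosed_closure.preimage ι.continuous).isOpen_compl
    refine ⟨ξ, interior_maximal (fun w hw => ?_) hO2 ⟨hξO, hξF⟩⟩
    intro hwE
    exact hw.2 ((hiff w hw.1).mp hwE)

end Groth.Agent.Lib.helper5.FibClos
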