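import Groth.Agent.Lib.Helper5.FibCrit9

/-!
# The fibre criterion of flatness: target of finite type, concrete form (helper5)

`flat_of_fibFlatAt_quotient` : `X ⟶ Spec (R[Y]/J) ⟶ Spec R` with `X` locally of finite presentation
over `R` (`J` an arbitrary ideal).
-/

set_option autoImplicit false
universe u
open CategoryTheory CategoryTheory.Limits MvPolynomial AlgebraicGeometry

namespace Groth.Agent.Lib.helper5.FibCrit

theorem exists_preimage_of_isPullback' {P X Y Z : Scheme.{u}} {fst : P ⟶ X} {snd : P ⟶ Y}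
    {f : X ⟶ Z} {g : Y ⟶ Z} (h : IsPullback fst snd f g) (x : X) (y : Y) (hxy : f x = g y) :
    ∃ z : P, fst z = x ∧ snd z = y := by
  obtain ⟨z, hz1, hz2⟩ := Scheme.Pullback.exists_preimage_pullback x y hxy
  refine ⟨h.isoPullback.inv z, ?_, ?_⟩
  · rw [← Scheme.Hom.comp_apply, h.isoPullback_inv_fst]; exact hz1
  · rw [← Scheme.Hom.comp_apply, h.isoPullback_inv_snd]; exact hz2

/-- finitely many elements of `J` generate its extension to a Noetherian ring. -/
theorem exists_fg_le_map_eq {P P' : Type*} [CommRing P] [CommRing P'] [IsNoetherianRing P']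
    (ψ : P →+* P') (J : Ideal P) : ∃ J' : Ideal P, J'.FG ∧ J' ≤ J ∧ J'.map ψ = J.map ψ := by
  classical
  have hfg : (J.map ψ).FG := IsNoetherian.noetherian _
  have hfg' : (Submodule.span P' (ψ '' (J : Set P))).FG := hfg
  obtain ⟨s', hs', hspan⟩ := (Submodule.fg_span_iff_fg_span_finset_subset _).mp hfg'
  obtain ⟨u, hu, rfl⟩ := Finset.subset_set_image_iff.mp hs'
  refine ⟨Ideal.span (u : Set P), ⟨u, rfl⟩, Ideal.span_le.mpr hu, ?_⟩
  rw [Ideal.map_span]
  change _ = Submodule.span P' (ψ '' (J : Set P))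
  rw [hspan, Finset.coe_image]

section Quotient

variable {R : Type u} [CommRing R] {m : ℕ}

theorem factor_comp_algebraMap (J J' : Ideal (MvPolynomial (Fin m) R)) (hle : J' ≤ J) :
    Spec.map (CommRingCat.ofHom (Ideal.Quotient.factor hle)) ≫
      Spec.map (CommRingCat.ofHom (algebraMap R (MvPolynomial (Fin m) R ⧸ J'))) =
    Spec.map (CommRingCat.ofHom (algebraMap R (MvPolynomial (Fin m) R ⧸ J))) := by
  rw [← Spec.map_comp, ← CommRingCat.ofHom_comp]
  congr 2

/-- if `X ⟶ Spec (R[Y]/J')` is flat at `x` and factors through the closed subscheme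
`Spec (R[Y]/J)`, then `Spec (R[Y]/J) ⟶ Spec (R[Y]/J')` is an isomorphism near the image of `x`. -/
theorem flat_of_flat_factor (J J' : Ideal (MvPolynomial (Fin m) R)) (hle : J' ≤ J)
    {X : Scheme.{u}} (f : X ⟶ Spec (CommRingCat.of (MvPolynomial (Fin m) R ⧸ J))) (x : X)
    (h1 : ((f ≫ Spec.map (CommRingCat.ofHom (Ideal.Quotient.factor hle))).stalkMap x).hom.Flat)
    (h2 : ((Spec.map (CommRingCat.ofHom (algebraMap R (MvPolynomial (Fin m) R ⧸ J')))).stalkMap
      ((f ≫ Spec.map (CommRingCat.ofHom (Ideal.Quotient.factor hle))) x)).hom.Flat) :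
    ((Spec.map (CommRingCat.ofHom (algebraMap R (MvPolynomial (Fin m) R ⧸ J)))).stalkMap
        (f x)).hom.Flat ∧ (f.stalkMap x).hom.Flat := by
  set i := Spec.map (CommRingCat.ofHom (Ideal.Quotient.factor hle)) with hi
  haveI : IsClosedImmersion i :=
    IsClosedImmersion.spec_of_surjective _ (Ideal.Quotient.factor_surjective hle)
  have hbij := bijective_stalkMap_of_flat_comp f i x (i.stalkMap_surjective (f x)) h1
  refine ⟨?_, (flat_comp_right_iff f i x hbij).mp h1⟩
  rw [← flat_stalkMap_congr (factor_comp_algebraMap J J' hle)]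
  exact (flat_comp_left_iff i _ (f x) hbij).mpr h2

theorem exists_fp_model_flat
    (J : Ideal (MvPolynomial (Fin m) R)) {X : Scheme.{u}}
    (f : X ⟶ Spec (CommRingCat.of (MvPolynomial (Fin m) R ⧸ J)))
    [LocallyOfFinitePresentation
      (f ≫ Spec.map (CommRingCat.ofHom (algebraMap R (MvPolynomial (Fin m) R ⧸ J))))]
    (x : X)
    (hfl : ((f ≫ Spec.map (CommRingCat.ofHom
      (algebraMap R (MvPolynomial (Fin m) R ⧸ J)))).stalkMap x).hom.Flat)
    (hfib : FibFlatAt f (Spec.map (CommRingCat.ofHom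
      (algebraMap R (MvPolynomial (Fin m) R ⧸ J)))) x) :
    ∃ (J' : Ideal (MvPolynomial (Fin m) R)) (hle : J' ≤ J), J'.FG ∧
      ((f ≫ Spec.map (CommRingCat.ofHom (Ideal.Quotient.factor hle))).stalkMap x).hom.Flat ∧
      ((Spec.map (CommRingCat.ofHom (algebraMap R (MvPolynomial (Fin m) R ⧸ J')))).stalkMap
        ((f ≫ Spec.map (CommRingCat.ofHom (Ideal.Quotient.factor hle))) x)).hom.Flat := by
  set g : Spec (CommRingCat.of (MvPolynomial (Fin m) R ⧸ J)) ⟶ Spec (CommRingCat.of R) :=
    Spec.map (CommRingCat.ofHom (algebraMap R (MvPolynomial (Fin m) R ⧸ J))) with hg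
  -- the residue field
  let s : Spec (CommRingCat.of R) := g (f x)
  let K : Type u := s.asIdeal.ResidueField
  let κ : R →+* K := algebraMap R K
  obtain ⟨J', hJ'fg, hJ'le, hJ'map⟩ := exists_fg_le_map_eq (MvPolynomial.map κ) J
  -- the finitely presented model
  let ι : MvPolynomial (Fin m) R ⧸ J' →+* MvPolynomial (Fin m) R ⧸ J := Ideal.Quotient.factor hJ'le
  let i : Spec (CommRingCat.of (MvPolynomial (Fin m) R ⧸ J)) ⟶
      Spec (CommRingCat.of (MvPolynomial (Fin m) R ⧸ J')) := Spec.map (CommRingCat.ofHom ι)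
  let g' : Spec (CommRingCat.of (MvPolynomial (Fin m) R ⧸ J')) ⟶ Spec (CommRingCat.of R) :=
    Spec.map (CommRingCat.ofHom (algebraMap R (MvPolynomial (Fin m) R ⧸ J')))
  have hig : i ≫ g' = g := factor_comp_algebraMap J J' hJ'le
  haveI : Algebra.FinitePresentation R (MvPolynomial (Fin m) R ⧸ J') :=
    Algebra.FinitePresentation.quotient hJ'fg
  haveI : LocallyOfFinitePresentation g' := by
    rw [LocallyOfFinitePresentation.SpecMap_iff]
    exact RingHom.finitePresentation_algebraMap.mpr inferInstance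
  have hcomp : (f ≫ i) ≫ g' = f ≫ g := by rw [Category.assoc, hig]
  haveI : LocallyOfFinitePresentation ((f ≫ i) ≫ g') := by rw [hcomp]; infer_instance
  -- the fibres over `K`
  have poA := isPushout_quotient_aux κ J
  have poA' := isPushout_quotient_aux κ J'
  let ιV := Spec.map (CommRingCat.ofHom (Ideal.quotientMap (J.map (MvPolynomial.map κ))
    (MvPolynomial.map κ) Ideal.le_comap_map))
  let pV := Spec.map (CommRingCat.ofHom (algebraMap K
    (MvPolynomial (Fin m) K ⧸ J.map (MvPolynomial.map κ))))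
  let ιV' := Spec.map (CommRingCat.ofHom (Ideal.quotientMap (J'.map (MvPolynomial.map κ))
    (MvPolynomial.map κ) Ideal.le_comap_map))
  let pV' := Spec.map (CommRingCat.ofHom (algebraMap K
    (MvPolynomial (Fin m) K ⧸ J'.map (MvPolynomial.map κ))))
  let t : Spec (CommRingCat.of K) ⟶ Spec (CommRingCat.of R) := Spec.map (CommRingCat.ofHom κ)
  have sqV : IsPullback ιV pV g t := (isPullback_SpecMap_of_isPushout _ _ _ _ poA).flip
  have sqV' : IsPullback ιV' pV' g' t := (isPullback_SpecMap_of_isPushout _ _ _ _ poA').flip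
  let eK := (Ideal.quotEquivOfEq hJ'map).toCommRingCatIso
  let iK : Spec (CommRingCat.of (MvPolynomial (Fin m) K ⧸ J.map (MvPolynomial.map κ))) ⟶
      Spec (CommRingCat.of (MvPolynomial (Fin m) K ⧸ J'.map (MvPolynomial.map κ))) :=
    Spec.map eK.hom
  have c1 : iK ≫ ιV' = ιV ≫ i := by
    change Spec.map _ ≫ Spec.map _ = Spec.map _ ≫ Spec.map _
    rw [← Spec.map_comp, ← Spec.map_comp]
    congr 1
    apply CommRingCat.hom_ext
    apply Ideal.Quotient.ringHom_ext
    refine RingHom.ext fun p => ?_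
    rfl
  have c2 : iK ≫ pV' = pV := by
    change Spec.map _ ≫ Spec.map _ = Spec.map _
    rw [← Spec.map_comp]
    congr 1
  have sqI : IsPullback ιV iK i ιV' := by
    refine (IsPullback.of_right ?_ c1 sqV'.flip).flip
    rw [c2, hig]
    exact sqV.flip
  have sqU : IsPullback (pullback.fst f ιV) (pullback.snd f ιV) f ιV := IsPullback.of_hasPullback _ _
  -- the points
  obtain ⟨k₀, hk₀⟩ : s ∈ Set.range t := by
    have := PrimeSpectrum.residueField_comap s
    have hs : s ∈ Set.range (PrimeSpectrum.comap (algebraMap R s.asIdeal.ResidueField)) := by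
      rw [this]; rfl
    exact hs
  obtain ⟨yK, hyK1, -⟩ := exists_preimage_of_isPullback' sqV (f x) k₀ hk₀.symm
  obtain ⟨z, hz1, hz2⟩ := exists_preimage_of_isPullback' sqU x yK hyK1.symm
  have hw : ((pullback.snd f ιV).stalkMap z).hom.Flat := by
    rw [fibFlatAt_iff_of_isPullback f g t ιV pV sqV _ _ sqU z, hz1]
    exact hfib
  have hbijK : Function.Bijective (iK.stalkMap (pullback.snd f ιV z)).hom :=
    bijective_stalkMap_of_isOpenImmersion iK _
  have sqU' := sqU.paste_vert sqI
  have hfib' : FibFlatAt (f ≫ i) g' x := by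
    rw [← hz1, ← fibFlatAt_iff_of_isPullback (f ≫ i) g' t ιV' pV' sqV' _ _ sqU' z]
    exact (flat_comp_right_iff _ iK z hbijK).mpr hw
  have hfl' : (((f ≫ i) ≫ g').stalkMap x).hom.Flat := by
    rw [flat_stalkMap_congr hcomp]; exact hfl
  obtain ⟨k1, k2⟩ := flat_of_fibFlatAt_of_lfp (f ≫ i) g' x hfl' hfib'
  exact ⟨J', hJ'le, hJ'fg, k2, k1⟩

theorem flat_of_fibFlatAt_quotient
    (J : Ideal (MvPolynomial (Fin m) R)) {X : Scheme.{u}}
    (f : X ⟶ Spec (CommRingCat.of (MvPolynomial (Fin m) R ⧸ J)))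
    [LocallyOfFinitePresentation
      (f ≫ Spec.map (CommRingCat.ofHom (algebraMap R (MvPolynomial (Fin m) R ⧸ J))))]
    (x : X)
    (hfl : ((f ≫ Spec.map (CommRingCat.ofHom
      (algebraMap R (MvPolynomial (Fin m) R ⧸ J)))).stalkMap x).hom.Flat)
    (hfib : FibFlatAt f (Spec.map (CommRingCat.ofHom
      (algebraMap R (MvPolynomial (Fin m) R ⧸ J)))) x) :
    ((Spec.map (CommRingCat.ofHom (algebraMap R (MvPolynomial (Fin m) R ⧸ J)))).stalkMap
        (f x)).hom.Flat ∧ (f.stalkMap x).hom.Flat := by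
  obtain ⟨J', hle, -, h1, h2⟩ := exists_fp_model_flat J f x hfl hfib
  exact flat_of_flat_factor J J' hle f x h1 h2

end Quotient

end Groth.Agent.Lib.helper5.FibCrit
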