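import Groth.Agent.Lib.Helper5.FibCrit2
import Groth.Agent.Lib.Helper5.FibFlatPt

/-!
# Fibre criterion of flatness: descent from a Noetherian model (helper5)

* `flat_of_noetherian_model` : if `X ⟶ Y ⟶ S` is the base change of `X₀ ⟶ Y₀ ⟶ S₀` (locally
  Noetherian), `X₀ ⟶ S₀` is flat at the image of `x` and `X_s ⟶ Y_s` is flat at `x`, then
  `Y ⟶ S` is flat at `f x` and `f` is flat at `x`.
* `bijective_stalkMap_of_flat_comp` : if `f ≫ i` is flat at `x` and `i` is surjective on the stalk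
  at `f x`, then `i` induces an isomorphism on this stalk.
-/

set_option autoImplicit false
universe u
open CategoryTheory CategoryTheory.Limits AlgebraicGeometry

namespace Groth.Agent.Lib.helper5.FibCrit

theorem injective_of_flat_of_isLocalHom {A B : Type*} [CommRing A] [CommRing B] [IsLocalRing A]
    [IsLocalRing B] (φ : A →+* B) [IsLocalHom φ] (h : φ.Flat) : Function.Injective φ := by
  letI := φ.toAlgebra
  haveI : Module.Flat A B := h
  haveI : IsLocalHom (algebraMap A B) := ‹IsLocalHom φ›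
  haveI : Module.FaithfullyFlat A B := Module.FaithfullyFlat.of_flat_of_isLocalHom
  exact FaithfulSMul.algebraMap_injective A B

variable {X Y S : Scheme.{u}}

theorem bijective_stalkMap_of_flat_comp {Y' : Scheme.{u}} (f : X ⟶ Y) (i : Y ⟶ Y') (x : X)
    (hi : Function.Surjective (i.stalkMap (f x)).hom)
    (h : ((f ≫ i).stalkMap x).hom.Flat) : Function.Bijective (i.stalkMap (f x)).hom := by
  refine ⟨?_, hi⟩
  have hinj := injective_of_flat_of_isLocalHom ((f ≫ i).stalkMap x).hom h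
  rw [Scheme.Hom.stalkMap_comp] at hinj
  have hinj' : Function.Injective (⇑(f.stalkMap x).hom ∘ ⇑(i.stalkMap (f x)).hom) := hinj
  exact Function.Injective.of_comp hinj'

theorem flat_of_flat_comp_of_surjective {Y' : Scheme.{u}} (f : X ⟶ Y) (i : Y ⟶ Y') (x : X)
    (hi : Function.Surjective (i.stalkMap (f x)).hom)
    (h : ((f ≫ i).stalkMap x).hom.Flat) : (f.stalkMap x).hom.Flat :=
  (flat_comp_right_iff f i x (bijective_stalkMap_of_flat_comp f i x hi h)).mp h

theorem flat_of_noetherian_model {X₀ Y₀ S₀ : Scheme.{u}} [IsLocallyNoetherian X₀]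
    [IsLocallyNoetherian Y₀] [IsLocallyNoetherian S₀]
    (f : X ⟶ Y) (g : Y ⟶ S) (f₀ : X₀ ⟶ Y₀) (g₀ : Y₀ ⟶ S₀) (eX : X ⟶ X₀) (eY : Y ⟶ Y₀)
    (h : S ⟶ S₀) (sqY : IsPullback eY g g₀ h) (sqX : IsPullback eX f f₀ eY) (x : X)
    (hfl₀ : ((f₀ ≫ g₀).stalkMap (eX x)).hom.Flat) (hfib : FibFlatAt f g x) :
    (g.stalkMap (f x)).hom.Flat ∧ (f.stalkMap x).hom.Flat := by
  set s : S := g (f x) with hs
  letI : Field (S.residueField s) := inferInstanceAs (Field (IsLocalRing.ResidueField _))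
  -- step 1: fibrewise flatness for the model
  have sqV₀ : IsPullback (g.fiberι s ≫ eY) (g.fiberToSpecResidueField s) g₀
      (S.fromSpecResidueField s ≫ h) :=
    (IsPullback.of_hasPullback g (S.fromSpecResidueField s)).paste_horiz sqY
  have sqU₀ : IsPullback ((f ≫ g).fiberι s ≫ eX) (MoreMor.fiberMap f g s) f₀
      (g.fiberι s ≫ eY) := (isPullback_fiberMap f g s).paste_horiz sqX
  have hz : ((f ≫ g).fiberι s ≫ eX) ((f ≫ g).asFiber x) = eX x := by
    rw [Scheme.Hom.comp_apply]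
    congr 1
    exact (f ≫ g).fiberι_asFiber x
  have hfib₀ : FibFlatAt f₀ g₀ (eX x) := by
    rw [← hz]
    exact (fibFlatAt_iff_of_isPullback f₀ g₀ (S.fromSpecResidueField s ≫ h) _ _ sqV₀ _ _ sqU₀
      ((f ≫ g).asFiber x)).mp hfib
  -- step 2: the Noetherian criterion
  have key := Groth.Agent.Lib.helper5.FibFlatPt.flat_stalkMap_of_flat_fibre_at f₀ g₀
    ((f₀ ≫ g₀) (eX x)) (g₀.fiberι _) (g₀.fiberToSpecResidueField _) (IsPullback.of_hasPullback _ _)
    ((f₀ ≫ g₀).fiberι _) (MoreMor.fiberMap f₀ g₀ _) (isPullback_fiberMap f₀ g₀ _)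
    ((f₀ ≫ g₀).asFiber (eX x))
    (by rw [Scheme.Hom.fiberι_asFiber]; exact hfl₀) hfib₀
  rw [Scheme.Hom.fiberι_asFiber] at key
  obtain ⟨k1, k2⟩ := key
  -- step 3: base change
  have hw : eY (f x) = f₀ (eX x) := by
    rw [← Scheme.Hom.comp_apply, ← Scheme.Hom.comp_apply, sqX.w]
  refine ⟨?_, ?_⟩
  · refine Groth.Agent.Lib.helper17.FlatStalkBC.flat_stalkMap_of_isPullback sqY.flip (f x) ?_
    rw [hw]
    exact k2
  · exact Groth.Agent.Lib.helper17.FlatStalkBC.flat_stalkMap_of_isPullback sqX.flip x k1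

end Groth.Agent.Lib.helper5.FibCrit
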