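import Mathlib

/-!
# Quotients of polynomial rings and base change (helper5)

* `isPushout_quotient` : for `ψ : B →+* B'` and an ideal `I` of `B[σ]`, the square
  `B ⟶ B'`, `B ⟶ B[σ]/I`, `B' ⟶ B'[σ]/I'`, `B[σ]/I ⟶ B'[σ]/I'` (`I' = I B'[σ]`) is a pushout of
  commutative rings.
-/

set_option autoImplicit false
universe u
open CategoryTheory CategoryTheory.Limits MvPolynomial

namespace Groth.Agent.Lib.helper5.FibCrit

section LemmaQ

variable {B B' : Type u} [CommRing B] [CommRing B'] (ψ : B →+* B') {σ : Type}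

theorem eval₂Hom_comp_map {T : Type u} [CommRing T] (I : Ideal (MvPolynomial σ B))
    (α : B' →+* T) (β : MvPolynomial σ B ⧸ I →+* T)
    (h : α.comp ψ = β.comp (algebraMap B (MvPolynomial σ B ⧸ I))) :
    (eval₂Hom α (fun i => β (Ideal.Quotient.mk I (X i)))).comp (MvPolynomial.map ψ) =
      β.comp (Ideal.Quotient.mk I) := by
  apply MvPolynomial.ringHom_ext
  · intro b
    have h1 := congr($h b)
    have h2 : algebraMap B (MvPolynomial σ B ⧸ I) b = Ideal.Quotient.mk I (C b) := rfl
    simp only [RingHom.comp_apply, h2] at h1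
    simpa using h1
  · intro i
    simp

/-- the map out of the quotient `B'[σ]/I B'[σ]` induced by a cocone. -/
noncomputable def descQ {T : Type u} [CommRing T] (I : Ideal (MvPolynomial σ B))
    (α : B' →+* T) (β : MvPolynomial σ B ⧸ I →+* T)
    (h : α.comp ψ = β.comp (algebraMap B (MvPolynomial σ B ⧸ I))) :
    MvPolynomial σ B' ⧸ I.map (MvPolynomial.map ψ) →+* T :=
  Ideal.Quotient.lift _ (eval₂Hom α (fun i => β (Ideal.Quotient.mk I (X i)))) (by
    intro x hx
    rw [← RingHom.mem_ker]
    revert x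
    change I.map (MvPolynomial.map ψ) ≤ _
    rw [Ideal.map_le_iff_le_comap]
    intro x hx
    rw [Ideal.mem_comap, RingHom.mem_ker, ← RingHom.comp_apply, eval₂Hom_comp_map ψ I α β h,
      RingHom.comp_apply, Ideal.Quotient.eq_zero_iff_mem.mpr hx, map_zero])

theorem descQ_mk {T : Type u} [CommRing T] (I : Ideal (MvPolynomial σ B))
    (α : B' →+* T) (β : MvPolynomial σ B ⧸ I →+* T)
    (h : α.comp ψ = β.comp (algebraMap B (MvPolynomial σ B ⧸ I))) (x : MvPolynomial σ B') :
    descQ ψ I α β h (Ideal.Quotient.mk _ x) =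
      eval₂Hom α (fun i => β (Ideal.Quotient.mk I (X i))) x := by
  simp [descQ]

theorem isPushout_quotient_aux (I : Ideal (MvPolynomial σ B)) :
    IsPushout (CommRingCat.ofHom ψ)
      (CommRingCat.ofHom (algebraMap B (MvPolynomial σ B ⧸ I)))
      (CommRingCat.ofHom (algebraMap B' (MvPolynomial σ B' ⧸ I.map (MvPolynomial.map ψ))))
      (CommRingCat.ofHom (Ideal.quotientMap (I.map (MvPolynomial.map ψ)) (MvPolynomial.map ψ)
        Ideal.le_comap_map)) := by
  have w : CommRingCat.ofHom ψ ≫
      CommRingCat.ofHom (algebraMap B' (MvPolynomial σ B' ⧸ I.map (MvPolynomial.map ψ))) =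
      CommRingCat.ofHom (algebraMap B (MvPolynomial σ B ⧸ I)) ≫
      CommRingCat.ofHom (Ideal.quotientMap (I.map (MvPolynomial.map ψ)) (MvPolynomial.map ψ)
        Ideal.le_comap_map) := by
    ext b
    simp [Ideal.Quotient.algebraMap_eq, IsScalarTower.algebraMap_apply B (MvPolynomial σ B)
      (MvPolynomial σ B ⧸ I), IsScalarTower.algebraMap_apply B' (MvPolynomial σ B')
      (MvPolynomial σ B' ⧸ I.map (MvPolynomial.map ψ))]
  have hcond : ∀ s : PushoutCocone (CommRingCat.ofHom ψ)
      (CommRingCat.ofHom (algebraMap B (MvPolynomial σ B ⧸ I))),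
      s.inl.hom.comp ψ = s.inr.hom.comp (algebraMap B (MvPolynomial σ B ⧸ I)) := by
    intro s
    have := s.condition
    exact congr(($this).hom)
  refine ⟨⟨w⟩, ⟨PushoutCocone.IsColimit.mk w
    (fun s => CommRingCat.ofHom (descQ ψ I s.inl.hom s.inr.hom (hcond s)))
    (fun s => ?_) (fun s => ?_) (fun s m h₁ h₂ => ?_)⟩⟩
  · ext b
    change descQ ψ I s.inl.hom s.inr.hom (hcond s)
      (algebraMap B' (MvPolynomial σ B' ⧸ I.map (MvPolynomial.map ψ)) b) = _
    rw [IsScalarTower.algebraMap_apply B' (MvPolynomial σ B')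
      (MvPolynomial σ B' ⧸ I.map (MvPolynomial.map ψ)), Ideal.Quotient.algebraMap_eq, descQ_mk]
    simp
  · apply CommRingCat.hom_ext
    apply Ideal.Quotient.ringHom_ext
    refine RingHom.ext fun x => ?_
    change descQ ψ I s.inl.hom s.inr.hom (hcond s)
      (Ideal.quotientMap _ (MvPolynomial.map ψ) Ideal.le_comap_map (Ideal.Quotient.mk I x)) = _
    rw [Ideal.quotientMap_mk, descQ_mk, ← RingHom.comp_apply,
      eval₂Hom_comp_map ψ I s.inl.hom s.inr.hom (hcond s)]
  · apply CommRingCat.hom_ext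
    apply Ideal.Quotient.ringHom_ext
    refine RingHom.ext fun x => ?_
    change m.hom (Ideal.Quotient.mk _ x) = descQ ψ I s.inl.hom s.inr.hom (hcond s)
      (Ideal.Quotient.mk _ x)
    rw [descQ_mk]
    rw [← RingHom.comp_apply]
    congr 1
    apply MvPolynomial.ringHom_ext
    · intro b
      have := congr(($h₁).hom b)
      simp only [CommRingCat.hom_comp, CommRingCat.hom_ofHom, RingHom.comp_apply] at this
      rw [IsScalarTower.algebraMap_apply B' (MvPolynomial σ B')
        (MvPolynomial σ B' ⧸ I.map (MvPolynomial.map ψ)), Ideal.Quotient.algebraMap_eq] at this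
      simpa using this
    · intro i
      have := congr(($h₂).hom (Ideal.Quotient.mk I (X i)))
      simp only [CommRingCat.hom_comp, CommRingCat.hom_ofHom, RingHom.comp_apply,
        Ideal.quotientMap_mk, MvPolynomial.map_X] at this
      simpa using this

theorem isPushout_quotient (I : Ideal (MvPolynomial σ B)) (I' : Ideal (MvPolynomial σ B'))
    (hI : I' = I.map (MvPolynomial.map ψ)) (hle : I ≤ I'.comap (MvPolynomial.map ψ)) :
    IsPushout (CommRingCat.ofHom ψ)
      (CommRingCat.ofHom (algebraMap B (MvPolynomial σ B ⧸ I)))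
      (CommRingCat.ofHom (algebraMap B' (MvPolynomial σ B' ⧸ I')))
      (CommRingCat.ofHom (Ideal.quotientMap I' (MvPolynomial.map ψ) hle)) := by
  subst hI
  exact isPushout_quotient_aux ψ I

end LemmaQ

end Groth.Agent.Lib.helper5.FibCrit
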