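import Groth.Agent.Lib.Helper5.FibCrit4

/-!
# Concrete models of a pair of finitely presented algebras (helper5)

`Data R₀` : polynomials `F` (relations of `C`), `a` (images of the generators of `A`) and `j`
(relations of `A`) over `R₀`. For every `R₀`-algebra `B` we get `B`-algebras `A_B ⟶ C_B`,
compatible with base change.
-/

set_option autoImplicit false
universe u
open CategoryTheory CategoryTheory.Limits MvPolynomial

namespace Groth.Agent.Lib.helper5.FibCrit

/-- the data of a presentation of a pair of algebras `A ⟶ C`. -/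
structure Data (R₀ : Type u) [CommRing R₀] where
  /-- number of generators of `C` -/
  n : ℕ
  /-- number of generators of `A` -/
  m : ℕ
  /-- number of relations of `C` -/
  c : ℕ
  /-- number of relations of `A` -/
  r : ℕ
  /-- relations of `C` -/
  F : Fin c → MvPolynomial (Fin n) R₀
  /-- images of the generators of `A` -/
  a : Fin m → MvPolynomial (Fin n) R₀
  /-- relations of `A` -/
  j : Fin r → MvPolynomial (Fin m) R₀
  hj : ∀ i, aeval a (j i) ∈ Ideal.span (Set.range F)

namespace Data

variable {R₀ : Type u} [CommRing R₀] (D : Data R₀)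

section Level

variable (B : Type u) [CommRing B] [Algebra R₀ B]

/-- the relations of `C_B`. -/
noncomputable def FB : Fin D.c → MvPolynomial (Fin D.n) B :=
  fun k => MvPolynomial.map (algebraMap R₀ B) (D.F k)

/-- the relations of `A_B`. -/
noncomputable def jB : Fin D.r → MvPolynomial (Fin D.m) B :=
  fun i => MvPolynomial.map (algebraMap R₀ B) (D.j i)

/-- the images of the generators of `A_B`. -/
noncomputable def aB : Fin D.m → MvPolynomial (Fin D.n) B :=
  fun k => MvPolynomial.map (algebraMap R₀ B) (D.a k)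

/-- the ideal of relations of `C_B`. -/
noncomputable def IB : Ideal (MvPolynomial (Fin D.n) B) := Ideal.span (Set.range (D.FB B))

/-- the ideal of relations of `A_B`. -/
noncomputable def JB : Ideal (MvPolynomial (Fin D.m) B) := Ideal.span (Set.range (D.jB B))

/-- the algebra `C_B`. -/
abbrev CB : Type u := MvPolynomial (Fin D.n) B ⧸ D.IB B

/-- the algebra `A_B`. -/
abbrev AB : Type u := MvPolynomial (Fin D.m) B ⧸ D.JB B

/-- evaluation at `a`. -/
noncomputable def ev : MvPolynomial (Fin D.m) B →ₐ[B] MvPolynomial (Fin D.n) B := aeval (D.aB B)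

theorem ev_map (p : MvPolynomial (Fin D.m) R₀) :
    D.ev B (MvPolynomial.map (algebraMap R₀ B) p) =
      MvPolynomial.map (algebraMap R₀ B) (aeval D.a p) := by
  induction p using MvPolynomial.induction_on with
  | C x => simp [ev]
  | add p q hp hq => simp only [map_add, hp, hq]
  | mul_X p i hp =>
    simp only [map_mul, hp, MvPolynomial.map_X, aeval_X]
    simp [ev, aB]

theorem mapF_mem_IB {p : MvPolynomial (Fin D.n) R₀} (hp : p ∈ Ideal.span (Set.range D.F)) :
    MvPolynomial.map (algebraMap R₀ B) p ∈ D.IB B := by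
  have : Ideal.span (Set.range D.F) ≤ (D.IB B).comap (MvPolynomial.map (algebraMap R₀ B)) := by
    rw [Ideal.span_le]
    rintro _ ⟨k, rfl⟩
    exact Ideal.subset_span ⟨k, rfl⟩
  exact this hp

theorem JB_le : D.JB B ≤ (D.IB B).comap (D.ev B).toRingHom := by
  rw [JB, Ideal.span_le]
  rintro _ ⟨i, rfl⟩
  change D.ev B (MvPolynomial.map (algebraMap R₀ B) (D.j i)) ∈ D.IB B
  rw [ev_map]
  exact D.mapF_mem_IB B (D.hj i)

/-- the map `A_B ⟶ C_B`. -/
noncomputable def φB : D.AB B →+* D.CB B :=
  Ideal.quotientMap (D.IB B) (D.ev B).toRingHom (D.JB_le B)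

theorem φB_mk (p : MvPolynomial (Fin D.m) B) :
    D.φB B (Ideal.Quotient.mk _ p) = Ideal.Quotient.mk _ (D.ev B p) := rfl

theorem φB_comp_algebraMap :
    (D.φB B).comp (algebraMap B (D.AB B)) = algebraMap B (D.CB B) := by
  ext b
  change D.φB B (Ideal.Quotient.mk _ (C b)) = Ideal.Quotient.mk _ (C b)
  rw [φB_mk]
  simp [ev]

end Level

section Transition

variable (B B' : Type u) [CommRing B] [CommRing B'] [Algebra R₀ B] [Algebra R₀ B'] [Algebra B B']
  [IsScalarTower R₀ B B']

theorem map_FB (k : Fin D.c) :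
    MvPolynomial.map (algebraMap B B') (D.FB B k) = D.FB B' k := by
  simp only [FB, MvPolynomial.map_map, ← IsScalarTower.algebraMap_eq]

theorem map_jB (i : Fin D.r) :
    MvPolynomial.map (algebraMap B B') (D.jB B i) = D.jB B' i := by
  simp only [jB, MvPolynomial.map_map, ← IsScalarTower.algebraMap_eq]

theorem map_aB (k : Fin D.m) :
    MvPolynomial.map (algebraMap B B') (D.aB B k) = D.aB B' k := by
  simp only [aB, MvPolynomial.map_map, ← IsScalarTower.algebraMap_eq]

theorem IB_eq_map : D.IB B' = (D.IB B).map (MvPolynomial.map (algebraMap B B')) := by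
  rw [IB, IB, Ideal.map_span, ← Set.range_comp]
  congr 2
  funext k
  exact (D.map_FB B B' k).symm

theorem JB_eq_map : D.JB B' = (D.JB B).map (MvPolynomial.map (algebraMap B B')) := by
  rw [JB, JB, Ideal.map_span, ← Set.range_comp]
  congr 2
  funext k
  exact (D.map_jB B B' k).symm

theorem IB_le_comap : D.IB B ≤ (D.IB B').comap (MvPolynomial.map (algebraMap B B')) := by
  rw [IB_eq_map D B B']; exact Ideal.le_comap_map

theorem JB_le_comap : D.JB B ≤ (D.JB B').comap (MvPolynomial.map (algebraMap B B')) := by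
  rw [JB_eq_map D B B']; exact Ideal.le_comap_map

/-- the transition map `C_B ⟶ C_B'`. -/
noncomputable def tC : D.CB B →+* D.CB B' :=
  Ideal.quotientMap (D.IB B') (MvPolynomial.map (algebraMap B B')) (D.IB_le_comap B B')

/-- the transition map `A_B ⟶ A_B'`. -/
noncomputable def tA : D.AB B →+* D.AB B' :=
  Ideal.quotientMap (D.JB B') (MvPolynomial.map (algebraMap B B')) (D.JB_le_comap B B')

theorem tC_mk (p : MvPolynomial (Fin D.n) B) :
    D.tC B B' (Ideal.Quotient.mk _ p) = Ideal.Quotient.mk _ (MvPolynomial.map (algebraMap B B') p) :=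
  rfl

theorem tA_mk (p : MvPolynomial (Fin D.m) B) :
    D.tA B B' (Ideal.Quotient.mk _ p) = Ideal.Quotient.mk _ (MvPolynomial.map (algebraMap B B') p) :=
  rfl

theorem isPushout_C :
    IsPushout (CommRingCat.ofHom (algebraMap B B')) (CommRingCat.ofHom (algebraMap B (D.CB B)))
      (CommRingCat.ofHom (algebraMap B' (D.CB B'))) (CommRingCat.ofHom (D.tC B B')) :=
  isPushout_quotient (algebraMap B B') (D.IB B) (D.IB B') (D.IB_eq_map B B') (D.IB_le_comap B B')

theorem isPushout_A :
    IsPushout (CommRingCat.ofHom (algebraMap B B')) (CommRingCat.ofHom (algebraMap B (D.AB B)))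
      (CommRingCat.ofHom (algebraMap B' (D.AB B'))) (CommRingCat.ofHom (D.tA B B')) :=
  isPushout_quotient (algebraMap B B') (D.JB B) (D.JB B') (D.JB_eq_map B B') (D.JB_le_comap B B')

theorem ev_comp_map :
    (D.ev B').toRingHom.comp (MvPolynomial.map (algebraMap B B')) =
      (MvPolynomial.map (algebraMap B B')).comp (D.ev B).toRingHom := by
  apply MvPolynomial.ringHom_ext
  · intro b
    simp [ev]
  · intro i
    simp [ev, D.map_aB B B' i]

theorem φB_comp_tA : (D.φB B').comp (D.tA B B') = (D.tC B B').comp (D.φB B) := by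
  apply Ideal.Quotient.ringHom_ext
  refine RingHom.ext fun p => ?_
  change D.φB B' (D.tA B B' (Ideal.Quotient.mk _ p)) = D.tC B B' (D.φB B (Ideal.Quotient.mk _ p))
  rw [tA_mk, φB_mk, φB_mk, tC_mk]
  congr 1
  exact congr($(D.ev_comp_map B B') p)

end Transition

end Data

end Groth.Agent.Lib.helper5.FibCrit
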