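import Mathlib

/-!
# Reduction of the openness of the flat locus (Stacks 00RC) to a concrete model (helper5)

`CoreOpen` is the openness of the flat locus for the concrete model
`M = (Fin b → R[X₁..Xₙ]) ⧸ span (v)` with `v` defined over a Noetherian ring `R₀ → R`
(to be provided by helper3's `FlatDesc*`).

* `flat_localizedModule_iff_of_surjective` : for `A → S` surjective and `M` an `S`-module, the
  localizations of `M` at a prime of `S` and at its contraction agree.
* `isOpen_flatLocus_of_core` : `CoreOpen` implies the openness of the flat locus of a finitely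
  presented module over a finitely presented algebra (statement of S0387).
-/

set_option autoImplicit false
universe u
open MvPolynomial

namespace Groth.Agent.Lib.helper5.FlatRed

/-- openness of the flat locus in the concrete model. -/
def CoreOpen : Prop :=
  ∀ (R₀ R : Type u) [CommRing R₀] [IsNoetherianRing R₀] [CommRing R] [Algebra R₀ R]
    (n b c : ℕ) (v₀ : Fin c → (Fin b → MvPolynomial (Fin n) R₀)),
    IsOpen {q : PrimeSpectrum (MvPolynomial (Fin n) R) |
      Module.Flat R (LocalizedModule q.asIdeal.primeCompl
        ((Fin b → MvPolynomial (Fin n) R) ⧸ Submodule.span (MvPolynomial (Fin n) R)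
          (Set.range fun k : Fin c => fun i : Fin b =>
            MvPolynomial.map (algebraMap R₀ R) (v₀ k i))))}

section Surj

variable {R A S M : Type*} [CommRing R] [CommRing A] [CommRing S] [Algebra R A] [Algebra A S]
  [Algebra R S] [IsScalarTower R A S] [AddCommGroup M] [Module S M] [Module A M] [Module R M]
  [IsScalarTower A S M] [IsScalarTower R S M] [IsScalarTower R A M]

theorem algebraMapSubmonoid_primeCompl_comap (hsurj : Function.Surjective (algebraMap A S))
    (q : Ideal S) [q.IsPrime] :
    Algebra.algebraMapSubmonoid S (q.comap (algebraMap A S)).primeCompl = q.primeCompl := by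
  ext x
  constructor
  · rintro ⟨a, ha, rfl⟩
    exact ha
  · intro hx
    obtain ⟨a, rfl⟩ := hsurj x
    exact ⟨a, hx, rfl⟩

/-- the localization of an `S`-module at a prime `q` agrees with its localization as an `A`-module
at the contraction of `q`, when `A → S` is surjective. -/
noncomputable def localizedModuleEquivOfSurjective
    (hsurj : Function.Surjective (algebraMap A S)) (q : Ideal S) [q.IsPrime] :
    LocalizedModule (q.comap (algebraMap A S)).primeCompl M ≃ₗ[A]
      LocalizedModule q.primeCompl M := by
  haveI : IsLocalizedModule (Algebra.algebraMapSubmonoid S (q.comap (algebraMap A S)).primeCompl)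
      (LocalizedModule.mkLinearMap q.primeCompl M) := by
    rw [algebraMapSubmonoid_primeCompl_comap hsurj q]
    infer_instance
  haveI := IsLocalizedModule.restrictScalars (R := A) (A := S)
    (q.comap (algebraMap A S)).primeCompl (LocalizedModule.mkLinearMap q.primeCompl M)
  exact IsLocalizedModule.iso (q.comap (algebraMap A S)).primeCompl
    ((LocalizedModule.mkLinearMap q.primeCompl M).restrictScalars A)

theorem flat_localizedModule_iff_of_surjective
    (hsurj : Function.Surjective (algebraMap A S)) (q : Ideal S) [q.IsPrime] :
    Module.Flat R (LocalizedModule q.primeCompl M) ↔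
      Module.Flat R (LocalizedModule (q.comap (algebraMap A S)).primeCompl M) := by
  have e := (localizedModuleEquivOfSurjective (M := M) hsurj q).restrictScalars R
  exact ⟨fun h => Module.Flat.of_linearEquiv e, fun h => Module.Flat.of_linearEquiv e.symm⟩

end Surj

section Model

variable {R : Type u} [CommRing R]

/-- a finite family of polynomials is defined over a finitely generated (hence Noetherian)
subring. -/
theorem exists_noetherian_subring_model {n b c : ℕ}
    (v : Fin c → (Fin b → MvPolynomial (Fin n) R)) :
    ∃ (R₀ : Subalgebra ℤ R) (_ : IsNoetherianRing R₀)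
      (v₀ : Fin c → (Fin b → MvPolynomial (Fin n) R₀)),
      ∀ k i, MvPolynomial.map (algebraMap R₀ R) (v₀ k i) = v k i := by
  classical
  let s : Finset R := Finset.univ.biUnion fun k : Fin c =>
    Finset.univ.biUnion fun i : Fin b => (v k i).coeffs
  let R₀ : Subalgebra ℤ R := Algebra.adjoin ℤ (s : Set R)
  have hfg : R₀.FG := Subalgebra.fg_adjoin_finset s
  haveI : Algebra.FiniteType ℤ R₀ := (Subalgebra.fg_iff_finiteType R₀).mp hfg
  haveI : IsNoetherianRing R₀ := Algebra.FiniteType.isNoetherianRing ℤ R₀
  have hmem : ∀ k i, v k i ∈ Set.range (MvPolynomial.map (algebraMap R₀ R)) := by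
    intro k i
    rw [mem_range_map_iff_coeffs_subset]
    intro x hx
    have hxs : x ∈ (s : Set R) := by
      simp only [s, Finset.coe_biUnion, Finset.coe_univ, Set.mem_univ, Set.iUnion_true,
        Set.mem_iUnion]
      exact ⟨k, i, hx⟩
    exact ⟨⟨x, Algebra.subset_adjoin hxs⟩, rfl⟩
  choose v₀ hv₀ using hmem
  exact ⟨R₀, inferInstance, v₀, hv₀⟩

end Model

/-- **Reduction**: openness of the flat locus in the concrete model implies the openness of the
flat locus of a finitely presented module over a finitely presented algebra. -/
theorem isOpen_flatLocus_of_core (H : CoreOpen.{u}) {R S M : Type u} [CommRing R] [CommRing S]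
    [Algebra R S] [Algebra.FinitePresentation R S] [AddCommGroup M] [Module S M] [Module R M]
    [IsScalarTower R S M] [Module.FinitePresentation S M] :
    IsOpen {q : PrimeSpectrum S | Module.Flat R (LocalizedModule q.asIdeal.primeCompl M)} := by
  classical
  obtain ⟨n, f, hf, hker⟩ := Algebra.FinitePresentation.out (R := R) (A := S)
  letI : Algebra (MvPolynomial (Fin n) R) S := f.toRingHom.toAlgebra
  haveI : IsScalarTower R (MvPolynomial (Fin n) R) S :=
    IsScalarTower.of_algebraMap_eq (fun r => (f.commutes r).symm)
  letI : Module (MvPolynomial (Fin n) R) M := Module.compHom M f.toRingHom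
  haveI : IsScalarTower (MvPolynomial (Fin n) R) S M :=
    ⟨fun a s m => by
      change (f a * s) • m = f a • (s • m)
      rw [mul_smul]⟩
  haveI : IsScalarTower R (MvPolynomial (Fin n) R) M :=
    ⟨fun r a m => by
      change f (r • a) • m = r • (f a • m)
      rw [map_smul, smul_assoc]⟩
  have hsurj : Function.Surjective (algebraMap (MvPolynomial (Fin n) R) S) := hf
  -- `S` is a finitely presented module over the polynomial ring
  haveI : Module.FinitePresentation (MvPolynomial (Fin n) R) S := by
    refine Module.finitePresentation_of_surjective (Algebra.linearMap (MvPolynomial (Fin n) R) S)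
      hsurj ?_
    have : LinearMap.ker (Algebra.linearMap (MvPolynomial (Fin n) R) S) =
        (RingHom.ker f.toRingHom : Ideal (MvPolynomial (Fin n) R)) := by
      ext x
      simp [RingHom.mem_ker, Algebra.linearMap_apply, RingHom.algebraMap_toAlgebra]
    rw [this]
    exact hker
  haveI : Module.FinitePresentation (MvPolynomial (Fin n) R) M :=
    Module.FinitePresentation.trans (MvPolynomial (Fin n) R) M S
  obtain ⟨b, K, e, hK⟩ := Module.FinitePresentation.exists_fin (MvPolynomial (Fin n) R) M
  obtain ⟨c, v, hv⟩ := Submodule.fg_iff_exists_fin_generating_family.mp hK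
  obtain ⟨R₀, hR₀, v₀, hv₀⟩ := exists_noetherian_subring_model v
  have hopen := H R₀ R n b c v₀
  have hspan : Submodule.span (MvPolynomial (Fin n) R)
      (Set.range fun k : Fin c => fun i : Fin b =>
        MvPolynomial.map (algebraMap R₀ R) (v₀ k i)) = K := by
    rw [← hv]
    congr 2
    funext k i
    exact hv₀ k i
  subst hspan
  -- transport along `e`
  have key : {q : PrimeSpectrum S | Module.Flat R (LocalizedModule q.asIdeal.primeCompl M)} =
      PrimeSpectrum.comap (algebraMap (MvPolynomial (Fin n) R) S) ⁻¹'
        {q : PrimeSpectrum (MvPolynomial (Fin n) R) |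
          Module.Flat R (LocalizedModule q.asIdeal.primeCompl
            ((Fin b → MvPolynomial (Fin n) R) ⧸ Submodule.span (MvPolynomial (Fin n) R)
              (Set.range fun k : Fin c => fun i : Fin b =>
                MvPolynomial.map (algebraMap R₀ R) (v₀ k i))))} := by
    ext q
    simp only [Set.mem_ofPred_eq, Set.mem_preimage]
    rw [flat_localizedModule_iff_of_surjective (R := R) (A := MvPolynomial (Fin n) R) hsurj
      q.asIdeal]
    have e'' : LocalizedModule (q.asIdeal.comap (algebraMap (MvPolynomial (Fin n) R) S)).primeCompl M
        ≃ₗ[MvPolynomial (Fin n) R] LocalizedModule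
          (q.asIdeal.comap (algebraMap (MvPolynomial (Fin n) R) S)).primeCompl
          ((Fin b → MvPolynomial (Fin n) R) ⧸ Submodule.span (MvPolynomial (Fin n) R)
              (Set.range fun k : Fin c => fun i : Fin b =>
                MvPolynomial.map (algebraMap R₀ R) (v₀ k i))) :=
      IsLocalizedModule.iso (q.asIdeal.comap (algebraMap (MvPolynomial (Fin n) R) S)).primeCompl
        ((LocalizedModule.mkLinearMap
          (q.asIdeal.comap (algebraMap (MvPolynomial (Fin n) R) S)).primeCompl _) ∘ₗ
          e.toLinearMap)
    have e' := e''.restrictScalars R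
    exact Module.Flat.equiv_iff e'
  rw [key]
  exact hopen.preimage (PrimeSpectrum.continuous_comap _)

end Groth.Agent.Lib.helper5.FlatRed
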