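import Groth.Agent.Lib.Helper5.FibCrit5
import Groth.Agent.Lib.Helper5.FlatRed1
import Groth.Agent.Lib.Helper3.FlatDescF

/-!
# Pointwise descent of flatness for the concrete models (helper5, using helper3's `FlatDesc`)

* `exists_fg_subalgebra_flat` : helper3's pointwise descent, extracted as a statement.
* `flat_localization_iff` : flatness of `(B[X]/(G))_q` over `B` in terms of the model
  `(Fin 1 → B[X]) ⧸ span G`.
* `Data.exists_fg_flat` : if `(C_R)_q` is flat over `R`, there is a finitely generated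
  `R₀`-subalgebra `B` of `R` with `(C_B)_{q_B}` flat over `B`.
-/

set_option autoImplicit false
universe u
open CategoryTheory CategoryTheory.Limits MvPolynomial

namespace Groth.Agent.Lib.helper5.FibCrit

open Groth.Agent.Lib.helper3.FlatDesc Groth.Agent.Lib.helper3.FlatLocus

/-- **Pointwise descent of flatness** (helper3, `FlatDescF.exists_notMem_forall_flat_model`). -/
theorem exists_fg_subalgebra_flat {R0 R : Type u} [CommRing R0] [CommRing R] [Algebra R0 R]
    [IsNoetherianRing R0] {n b c : ℕ} (v0 : Fin c → (Fin b → MvPolynomial (Fin n) R0))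
    (q : Ideal (MvPolynomial (Fin n) R)) [q.IsPrime]
    (hflat : Module.Flat R (LocalizedModule q.primeCompl
      ((Fin b → MvPolynomial (Fin n) R) ⧸ NB (vmap R v0)))) :
    ∃ B : Subalgebra R0 R, B.FG ∧
      Module.Flat B (LocalizedModule (q.comap (MvPolynomial.map (algebraMap B R))).primeCompl
        ((Fin b → MvPolynomial (Fin n) B) ⧸ NB (vmap B v0))) := by
  set p0 : Ideal R0 := (q.comap (MvPolynomial.C : R →+* MvPolynomial (Fin n) R)).comap
    (algebraMap R0 R) with hp0
  haveI : p0.IsPrime := Ideal.comap_isPrime _ _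
  obtain ⟨f, hf, hG⟩ := exists_genFlat (NB v0) p0
  obtain ⟨B, hBfg, t, ht, hE⟩ := exists_fg_subalgebra_E v0 p0 q hflat
  haveI : Algebra.FiniteType R0 B := (Subalgebra.fg_iff_finiteType B).mp hBfg
  set qB : Ideal (MvPolynomial (Fin n) B) := q.comap (MvPolynomial.map (algebraMap B R)) with hqB
  haveI : qB.IsPrime := Ideal.comap_isPrime _ _
  have hmem : ∀ r : R0, MvPolynomial.C (algebraMap R0 B r) ∈ qB ↔ r ∈ p0 := by
    intro r
    rw [hqB, Ideal.mem_comap, MvPolynomial.map_C, ← IsScalarTower.algebraMap_apply, hp0,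
      Ideal.mem_comap, Ideal.mem_comap]
  exact ⟨B, hBfg, flat_localizedModule_of_E v0 p0 f qB hG (fun h => hf ((hmem f).mp h))
    (fun r hr => (hmem r).mpr hr) ⟨t, ht, hE⟩⟩

section Translate

variable {Λ : Type u} [CommRing Λ] {n c : ℕ} (G : Fin c → MvPolynomial (Fin n) Λ)

/-- `Λ[X]/(G) ≃ (Fin 1 → Λ[X]) / span G` as `Λ[X]`-modules. -/
noncomputable def quotEquiv :
    (MvPolynomial (Fin n) Λ ⧸ Ideal.span (Set.range G)) ≃ₗ[MvPolynomial (Fin n) Λ]
      ((Fin 1 → MvPolynomial (Fin n) Λ) ⧸ Submodule.span (MvPolynomial (Fin n) Λ)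
        (Set.range fun k => fun _ : Fin 1 => G k)) :=
  Submodule.Quotient.equiv _ _
    (LinearEquiv.funUnique (Fin 1) (MvPolynomial (Fin n) Λ) (MvPolynomial (Fin n) Λ)).symm (by
      rw [Ideal.span, Submodule.map_span, ← Set.range_comp]
      congr 2)

theorem flat_localization_iff_aux
    (q : Ideal (MvPolynomial (Fin n) Λ ⧸ Ideal.span (Set.range G))) [q.IsPrime] :
    Module.Flat Λ (Localization.AtPrime q) ↔
      Module.Flat Λ (LocalizedModule
        (q.comap (Ideal.Quotient.mk (Ideal.span (Set.range G)))).primeCompl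
        ((Fin 1 → MvPolynomial (Fin n) Λ) ⧸ Submodule.span (MvPolynomial (Fin n) Λ)
          (Set.range fun k => fun _ : Fin 1 => G k))) := by
  -- step a
  have ea : LocalizedModule q.primeCompl
      (MvPolynomial (Fin n) Λ ⧸ Ideal.span (Set.range G)) ≃ₗ[MvPolynomial (Fin n) Λ ⧸
        Ideal.span (Set.range G)] Localization.AtPrime q :=
    IsLocalizedModule.iso q.primeCompl (Algebra.linearMap
      (MvPolynomial (Fin n) Λ ⧸ Ideal.span (Set.range G)) (Localization.AtPrime q))
  rw [← Module.Flat.equiv_iff (ea.restrictScalars Λ)]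
  -- step b
  have hsurj : Function.Surjective (algebraMap (MvPolynomial (Fin n) Λ)
      (MvPolynomial (Fin n) Λ ⧸ Ideal.span (Set.range G))) := Ideal.Quotient.mk_surjective
  rw [FlatRed.flat_localizedModule_iff_of_surjective (R := Λ) (A := MvPolynomial (Fin n) Λ)
    (S := MvPolynomial (Fin n) Λ ⧸ Ideal.span (Set.range G))
    (M := MvPolynomial (Fin n) Λ ⧸ Ideal.span (Set.range G)) hsurj q]
  -- step c
  have e'' : LocalizedModule (q.comap (algebraMap (MvPolynomial (Fin n) Λ)
        (MvPolynomial (Fin n) Λ ⧸ Ideal.span (Set.range G)))).primeCompl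
        (MvPolynomial (Fin n) Λ ⧸ Ideal.span (Set.range G)) ≃ₗ[MvPolynomial (Fin n) Λ]
      LocalizedModule (q.comap (algebraMap (MvPolynomial (Fin n) Λ)
        (MvPolynomial (Fin n) Λ ⧸ Ideal.span (Set.range G)))).primeCompl
        ((Fin 1 → MvPolynomial (Fin n) Λ) ⧸ Submodule.span (MvPolynomial (Fin n) Λ)
          (Set.range fun k => fun _ : Fin 1 => G k)) :=
    IsLocalizedModule.iso (q.comap (algebraMap (MvPolynomial (Fin n) Λ)
        (MvPolynomial (Fin n) Λ ⧸ Ideal.span (Set.range G)))).primeCompl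
      ((LocalizedModule.mkLinearMap (q.comap (algebraMap (MvPolynomial (Fin n) Λ)
        (MvPolynomial (Fin n) Λ ⧸ Ideal.span (Set.range G)))).primeCompl _) ∘ₗ
        (quotEquiv G).toLinearMap)
  exact Module.Flat.equiv_iff (e''.restrictScalars Λ)

theorem flat_localization_iff (I : Ideal (MvPolynomial (Fin n) Λ))
    (hI : I = Ideal.span (Set.range G)) (q : Ideal (MvPolynomial (Fin n) Λ ⧸ I)) [q.IsPrime] :
    Module.Flat Λ (Localization.AtPrime q) ↔
      Module.Flat Λ (LocalizedModule (q.comap (Ideal.Quotient.mk I)).primeCompl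
        ((Fin 1 → MvPolynomial (Fin n) Λ) ⧸ Submodule.span (MvPolynomial (Fin n) Λ)
          (Set.range fun k => fun _ : Fin 1 => G k))) := by
  subst hI
  exact flat_localization_iff_aux G q

end Translate

namespace Data

variable {R₀ : Type u} [CommRing R₀] [IsNoetherianRing R₀] (D : Data R₀)
  (R : Type u) [CommRing R] [Algebra R₀ R]

theorem exists_fg_flat (q : Ideal (D.CB R)) [q.IsPrime]
    (hflat : Module.Flat R (Localization.AtPrime q)) :
    ∃ (B : Subalgebra R₀ R) (_ : B.FG) (_ : (q.comap (D.tC B R)).IsPrime),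
      Module.Flat B (Localization.AtPrime (q.comap (D.tC B R))) := by
  have h1 := (flat_localization_iff (D.FB R) (D.IB R) rfl q).mp hflat
  let v0 : Fin D.c → (Fin 1 → MvPolynomial (Fin D.n) R₀) := fun k _ => D.F k
  obtain ⟨B, hB, h2⟩ := exists_fg_subalgebra_flat (R := R) v0
    (q.comap (Ideal.Quotient.mk (D.IB R))) h1
  haveI : (q.comap (D.tC B R)).IsPrime := Ideal.comap_isPrime _ _
  refine ⟨B, hB, inferInstance, ?_⟩
  refine (flat_localization_iff (D.FB B) (D.IB B) rfl (q.comap (D.tC B R))).mpr ?_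
  exact h2

end Data

end Groth.Agent.Lib.helper5.FibCrit
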