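import Groth.Agent.Lib.Helper5.FibCrit3
import Groth.Agent.Lib.Helper5.FibCrit6
import Groth.Agent.Lib.Helper3.FlatLocus5

/-!
# The fibre criterion for the concrete models (helper5)

`Data.flat_of_fibFlatAt` : for `Spec C_R ⟶ Spec A_R ⟶ Spec R`: if `C_R` is flat over `R` at `x` and
the fibre morphism is flat at `x`, then `A_R` is flat over `R` at the image of `x` and `C_R` is flat
over `A_R` at `x`.
-/

set_option autoImplicit false
universe u
open CategoryTheory CategoryTheory.Limits MvPolynomial AlgebraicGeometry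

namespace Groth.Agent.Lib.helper5.FibCrit

theorem flat_stalkMap_Spec_iff {R A : Type u} [CommRing R] [CommRing A] [Algebra R A]
    (x : Spec (CommRingCat.of A)) :
    ((Spec.map (CommRingCat.ofHom (algebraMap R A))).stalkMap x).hom.Flat ↔
      Module.Flat R (Localization.AtPrime x.asIdeal) := by
  rw [RingHom.Flat.respectsIso.arrow_mk_iso_iff
    (Scheme.arrowStalkMapSpecIso (CommRingCat.ofHom (algebraMap R A)) x)]
  have h : (algebraMap R A).toAlgebra = ‹Algebra R A› := Algebra.algebra_ext _ _ (fun r => rfl)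
  have key := Groth.Agent.Lib.helper3.FlatLocus.flat_localRingHom_iff (algebraMap R A) x.asIdeal
    (x.asIdeal.comap (algebraMap R A)) rfl
  rw [h] at key
  exact key

namespace Data

variable {R₀ : Type u} [CommRing R₀] [IsNoetherianRing R₀] (D : Data R₀)
  (R : Type u) [CommRing R] [Algebra R₀ R]

theorem flat_of_fibFlatAt (x : Spec (CommRingCat.of (D.CB R)))
    (hfl : ((Spec.map (CommRingCat.ofHom (D.φB R)) ≫
      Spec.map (CommRingCat.ofHom (algebraMap R (D.AB R)))).stalkMap x).hom.Flat)
    (hfib : FibFlatAt (Spec.map (CommRingCat.ofHom (D.φB R)))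
      (Spec.map (CommRingCat.ofHom (algebraMap R (D.AB R)))) x) :
    ((Spec.map (CommRingCat.ofHom (algebraMap R (D.AB R)))).stalkMap
        (Spec.map (CommRingCat.ofHom (D.φB R)) x)).hom.Flat ∧
      ((Spec.map (CommRingCat.ofHom (D.φB R))).stalkMap x).hom.Flat := by
  have hcomp : ∀ (B : Type u) [CommRing B] [Algebra R₀ B],
      Spec.map (CommRingCat.ofHom (D.φB B)) ≫ Spec.map (CommRingCat.ofHom (algebraMap B (D.AB B))) =
        Spec.map (CommRingCat.ofHom (algebraMap B (D.CB B))) := by
    intro B _ _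
    rw [← Spec.map_comp, ← CommRingCat.ofHom_comp, D.φB_comp_algebraMap B]
  rw [flat_stalkMap_congr (hcomp R), flat_stalkMap_Spec_iff] at hfl
  obtain ⟨B, hB, hprime, hflB⟩ := D.exists_fg_flat R x.asIdeal hfl
  haveI : Algebra.FiniteType R₀ B := (Subalgebra.fg_iff_finiteType B).mp hB
  haveI : IsNoetherianRing B := Algebra.FiniteType.isNoetherianRing R₀ B
  have sqY : IsPullback (Spec.map (CommRingCat.ofHom (D.tA B R)))
      (Spec.map (CommRingCat.ofHom (algebraMap R (D.AB R))))
      (Spec.map (CommRingCat.ofHom (algebraMap B (D.AB B))))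
      (Spec.map (CommRingCat.ofHom (algebraMap B R))) :=
    (isPullback_SpecMap_of_isPushout _ _ _ _ (D.isPushout_A B R)).flip
  have big : IsPullback (Spec.map (CommRingCat.ofHom (D.tC B R)))
      (Spec.map (CommRingCat.ofHom (D.φB R)) ≫
        Spec.map (CommRingCat.ofHom (algebraMap R (D.AB R))))
      (Spec.map (CommRingCat.ofHom (D.φB B)) ≫
        Spec.map (CommRingCat.ofHom (algebraMap B (D.AB B))))
      (Spec.map (CommRingCat.ofHom (algebraMap B R))) := by
    rw [hcomp R, hcomp B]
    exact (isPullback_SpecMap_of_isPushout _ _ _ _ (D.isPushout_C B R)).flip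
  have comm : Spec.map (CommRingCat.ofHom (D.tC B R)) ≫ Spec.map (CommRingCat.ofHom (D.φB B)) =
      Spec.map (CommRingCat.ofHom (D.φB R)) ≫ Spec.map (CommRingCat.ofHom (D.tA B R)) := by
    rw [← Spec.map_comp, ← Spec.map_comp, ← CommRingCat.ofHom_comp, ← CommRingCat.ofHom_comp,
      D.φB_comp_tA B R]
  have sqX := IsPullback.of_bot big comm sqY
  have hfl₀ : ((Spec.map (CommRingCat.ofHom (D.φB B)) ≫
      Spec.map (CommRingCat.ofHom (algebraMap B (D.AB B)))).stalkMap
        (Spec.map (CommRingCat.ofHom (D.tC B R)) x)).hom.Flat := by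
    rw [flat_stalkMap_congr (hcomp B), flat_stalkMap_Spec_iff]
    exact hflB
  exact flat_of_noetherian_model _ _ _ _ _ _ _ sqY sqX x hfl₀ hfib

end Data

end Groth.Agent.Lib.helper5.FibCrit
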