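import Groth.Agent.Lib.Helper5.FibCrit5

/-!
# Existence of concrete models for a pair of finitely presented algebras (helper5)
-/

set_option autoImplicit false
universe u
open MvPolynomial

namespace Groth.Agent.Lib.helper5.FibCrit

theorem exists_map_eq_of_coeffs_subset {R : Type u} [CommRing R] (T : Finset R) {σ : Type}
    (p : MvPolynomial σ R) (hp : (p.coeffs : Set R) ⊆ T) :
    ∃ p₀ : MvPolynomial σ (Algebra.adjoin ℤ (T : Set R)),
      MvPolynomial.map (algebraMap (Algebra.adjoin ℤ (T : Set R)) R) p₀ = p := by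
  have : p ∈ Set.range (MvPolynomial.map (algebraMap (Algebra.adjoin ℤ (T : Set R)) R)) := by
    rw [mem_range_map_iff_coeffs_subset]
    intro x hx
    exact ⟨⟨x, Algebra.subset_adjoin (hp hx)⟩, rfl⟩
  exact this

theorem exists_data {R A C : Type u} [CommRing R] [CommRing A] [CommRing C] (ρ : R →+* A)
    (φ : A →+* C) (hρ : ρ.FinitePresentation) (hφρ : (φ.comp ρ).FinitePresentation) :
    ∃ (R₀ : Subalgebra ℤ R) (_ : IsNoetherianRing R₀) (D : Data R₀) (eA : D.AB R →+* A)
      (eC : D.CB R →+* C), Function.Bijective eA ∧ Function.Bijective eC ∧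
        eA.comp (algebraMap R (D.AB R)) = ρ ∧ eC.comp (D.φB R) = φ.comp eA := by
  classical
  letI algA : Algebra R A := ρ.toAlgebra
  letI algC : Algebra R C := (φ.comp ρ).toAlgebra
  haveI : Algebra.FinitePresentation R A := hρ
  haveI : Algebra.FinitePresentation R C := hφρ
  obtain ⟨m, πA, hπA, hkA⟩ := Algebra.FinitePresentation.out (R := R) (A := A)
  obtain ⟨n, πC, hπC, hkC⟩ := Algebra.FinitePresentation.out (R := R) (A := C)
  obtain ⟨r, j, hj⟩ := Submodule.fg_iff_exists_fin_generating_family.mp hkA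
  obtain ⟨c₁, F₁, hF₁⟩ := Submodule.fg_iff_exists_fin_generating_family.mp hkC
  have ha : ∀ k : Fin m, ∃ p : MvPolynomial (Fin n) R, πC p = φ (πA (X k)) := fun k => hπC _
  choose a ha using ha
  have hcomp : ∀ p : MvPolynomial (Fin m) R, πC (aeval a p) = φ (πA p) := by
    intro p
    induction p using MvPolynomial.induction_on with
    | C x =>
      rw [← MvPolynomial.algebraMap_eq, AlgHom.commutes, AlgHom.commutes, AlgHom.commutes]
      rfl
    | add p q hp hq => simp only [map_add, hp, hq]
    | mul_X p k hp => simp only [map_mul, hp, aeval_X, ha]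
  -- coefficients
  let T : Finset R := (Finset.univ.biUnion fun k => (F₁ k).coeffs) ∪
    (Finset.univ.biUnion fun k => (a k).coeffs) ∪ (Finset.univ.biUnion fun i => (j i).coeffs)
  let R₀ : Subalgebra ℤ R := Algebra.adjoin ℤ (T : Set R)
  have hfg : R₀.FG := Subalgebra.fg_adjoin_finset T
  haveI : Algebra.FiniteType ℤ R₀ := (Subalgebra.fg_iff_finiteType R₀).mp hfg
  haveI hN : IsNoetherianRing R₀ := Algebra.FiniteType.isNoetherianRing ℤ R₀
  have hF₁T : ∀ k, ((F₁ k).coeffs : Set R) ⊆ T := by
    intro k x hx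
    simp only [T, Finset.coe_union, Finset.coe_biUnion, Finset.coe_univ, Set.mem_univ,
      Set.iUnion_true, Set.mem_union, Set.mem_iUnion]
    exact Or.inl (Or.inl ⟨k, hx⟩)
  have haT : ∀ k, ((a k).coeffs : Set R) ⊆ T := by
    intro k x hx
    simp only [T, Finset.coe_union, Finset.coe_biUnion, Finset.coe_univ, Set.mem_univ,
      Set.iUnion_true, Set.mem_union, Set.mem_iUnion]
    exact Or.inl (Or.inr ⟨k, hx⟩)
  have hjT : ∀ i, ((j i).coeffs : Set R) ⊆ T := by
    intro i x hx
    simp only [T, Finset.coe_union, Finset.coe_biUnion, Finset.coe_univ, Set.mem_univ,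
      Set.iUnion_true, Set.mem_union, Set.mem_iUnion]
    exact Or.inr ⟨i, hx⟩
  choose F₁₀ hF₁₀ using fun k => exists_map_eq_of_coeffs_subset T (F₁ k) (hF₁T k)
  choose a₀ ha₀ using fun k => exists_map_eq_of_coeffs_subset T (a k) (haT k)
  choose j₀ hj₀ using fun i => exists_map_eq_of_coeffs_subset T (j i) (hjT i)
  let D : Data R₀ :=
    { n := n, m := m, c := c₁ + r, r := r
      F := Fin.append F₁₀ (fun i => aeval a₀ (j₀ i))
      a := a₀
      j := j₀
      hj := fun i => Ideal.subset_span ⟨Fin.natAdd c₁ i, by rw [Fin.append_right]⟩ }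
  have haB : D.aB R = a := by
    funext k
    exact ha₀ k
  have hjB : D.jB R = j := by
    funext i
    exact hj₀ i
  have hFB_left : ∀ k : Fin c₁, D.FB R (Fin.castAdd r k) = F₁ k := by
    intro k
    change MvPolynomial.map _ (Fin.append F₁₀ (fun i => aeval a₀ (j₀ i)) (Fin.castAdd r k)) = _
    rw [Fin.append_left]
    exact hF₁₀ k
  have hFB_right : ∀ i : Fin r, D.FB R (Fin.natAdd c₁ i) = aeval a (j i) := by
    intro i
    change MvPolynomial.map _ (Fin.append F₁₀ (fun i => aeval a₀ (j₀ i)) (Fin.natAdd c₁ i)) = _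
    rw [Fin.append_right]
    have := D.ev_map R (j₀ i)
    rw [Data.ev, haB] at this
    change aeval a (MvPolynomial.map _ (j₀ i)) = MvPolynomial.map _ (aeval a₀ (j₀ i)) at this
    rw [← this, hj₀ i]
  have hJB : D.JB R = RingHom.ker πA.toRingHom := by
    rw [Data.JB, hjB]
    exact hj
  have hjker : ∀ i, πA (j i) = 0 := by
    intro i
    have : j i ∈ RingHom.ker πA.toRingHom := by
      rw [← hj]; exact Submodule.subset_span ⟨i, rfl⟩
    exact this
  have hIB : D.IB R = RingHom.ker πC.toRingHom := by
    apply le_antisymm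
    · rw [Data.IB, Ideal.span_le]
      rintro _ ⟨k, rfl⟩
      induction k using Fin.addCases with
      | left k =>
        rw [hFB_left]
        have : F₁ k ∈ RingHom.ker πC.toRingHom := by
          rw [← hF₁]; exact Submodule.subset_span ⟨k, rfl⟩
        exact this
      | right i =>
        rw [hFB_right]
        change πC (aeval a (j i)) = 0
        rw [hcomp, hjker, map_zero]
    · have h1 : RingHom.ker πC.toRingHom = Ideal.span (Set.range F₁) := hF₁.symm
      rw [h1, Ideal.span_le]
      rintro _ ⟨k, rfl⟩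
      rw [← hFB_left]
      exact Ideal.subset_span ⟨_, rfl⟩
  let eA : D.AB R →+* A := Ideal.Quotient.lift (D.JB R) πA.toRingHom (by
    intro x hx
    rw [hJB] at hx
    exact hx)
  let eC : D.CB R →+* C := Ideal.Quotient.lift (D.IB R) πC.toRingHom (by
    intro x hx
    rw [hIB] at hx
    exact hx)
  have heA : Function.Bijective eA := by
    constructor
    · rw [injective_iff_map_eq_zero]
      intro x hx
      obtain ⟨p, rfl⟩ := Ideal.Quotient.mk_surjective x
      rw [Ideal.Quotient.eq_zero_iff_mem, hJB]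
      exact hx
    · exact Ideal.Quotient.lift_surjective_of_surjective _ _ hπA
  have heC : Function.Bijective eC := by
    constructor
    · rw [injective_iff_map_eq_zero]
      intro x hx
      obtain ⟨p, rfl⟩ := Ideal.Quotient.mk_surjective x
      rw [Ideal.Quotient.eq_zero_iff_mem, hIB]
      exact hx
    · exact Ideal.Quotient.lift_surjective_of_surjective _ _ hπC
  refine ⟨R₀, hN, D, eA, eC, heA, heC, ?_, ?_⟩
  · ext x
    change πA (MvPolynomial.C x) = ρ x
    rw [← MvPolynomial.algebraMap_eq, AlgHom.commutes]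
    rfl
  · apply Ideal.Quotient.ringHom_ext
    refine RingHom.ext fun p => ?_
    change πC (D.ev R p) = φ (πA p)
    rw [Data.ev, haB]
    exact hcomp p

end Groth.Agent.Lib.helper5.FibCrit
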