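import Groth.Agent.Lib.Helper5.FibCrit7
import Groth.Agent.Lib.Helper5.FibCrit8

/-!
# The fibre criterion of flatness, finitely presented case, arbitrary base (helper5)

`flat_of_fibFlatAt_of_lfp` : `f : X ⟶ Y`, `g : Y ⟶ S` with `g` and `f ≫ g` locally of finite
presentation. If `f ≫ g` is flat at `x` and `X_s ⟶ Y_s` is flat at `x`, then `g` is flat at `f x`
and `f` is flat at `x`. (EGA IV 11.3.10, Stacks 00R7; no Noetherian hypothesis.)
-/

set_option autoImplicit false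
universe u
open CategoryTheory CategoryTheory.Limits MvPolynomial AlgebraicGeometry

namespace Groth.Agent.Lib.helper5.FibCrit

theorem flat_of_fibFlatAt_of_lfp {X Y S : Scheme.{u}} (f : X ⟶ Y) (g : Y ⟶ S)
    [LocallyOfFinitePresentation g] [LocallyOfFinitePresentation (f ≫ g)] (x : X)
    (hfl : ((f ≫ g).stalkMap x).hom.Flat) (hfib : FibFlatAt f g x) :
    (g.stalkMap (f x)).hom.Flat ∧ (f.stalkMap x).hom.Flat := by
  obtain ⟨_, ⟨W, hW : IsAffineOpen W, rfl⟩, hsW, -⟩ :=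
    S.isBasis_affineOpens.exists_subset_of_mem_open (Set.mem_univ (g (f x))) isOpen_univ
  obtain ⟨_, ⟨V, hV : IsAffineOpen V, rfl⟩, hyV, hVW'⟩ :=
    Y.isBasis_affineOpens.exists_subset_of_mem_open (show f x ∈ (g ⁻¹ᵁ W : Set Y) from hsW)
      (g ⁻¹ᵁ W).isOpen
  have hVW : V ≤ g ⁻¹ᵁ W := hVW'
  obtain ⟨_, ⟨U, hU : IsAffineOpen U, rfl⟩, hxU, hUV'⟩ :=
    X.isBasis_affineOpens.exists_subset_of_mem_open (show x ∈ (f ⁻¹ᵁ V : Set X) from hyV)
      (f ⁻¹ᵁ V).isOpen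
  have hUV : U ≤ f ⁻¹ᵁ V := hUV'
  have hρ : (g.appLE W V hVW).hom.FinitePresentation :=
    HasRingHomProperty.appLE @LocallyOfFinitePresentation g inferInstance ⟨W, hW⟩ ⟨V, hV⟩ hVW
  have hφρ : ((f.appLE V U hUV).hom.comp (g.appLE W V hVW).hom).FinitePresentation := by
    have h1 := HasRingHomProperty.appLE @LocallyOfFinitePresentation (f ≫ g) inferInstance
      ⟨W, hW⟩ ⟨U, hU⟩ (fun y hy => hVW (hUV hy))
    rw [← Scheme.Hom.appLE_comp_appLE f g W V U hVW hUV] at h1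
    exact h1
  obtain ⟨R₀, hN, D, eA, eC, heA, heC, h1, h2⟩ :=
    exists_data (g.appLE W V hVW).hom (f.appLE V U hUV).hom hρ hφρ
  haveI := hN
  let isoA : CommRingCat.of (D.AB Γ(S, W)) ≅ Γ(Y, V) :=
    (RingEquiv.ofBijective eA heA).toCommRingCatIso
  let isoC : CommRingCat.of (D.CB Γ(S, W)) ≅ Γ(X, U) :=
    (RingEquiv.ofBijective eC heC).toCommRingCatIso
  have hA : CommRingCat.ofHom (algebraMap Γ(S, W) (D.AB Γ(S, W))) ≫ isoA.hom =
      g.appLE W V hVW :=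
    CommRingCat.hom_ext (RingHom.ext fun r => congr($h1 r))
  have hC : CommRingCat.ofHom (D.φB Γ(S, W)) ≫ isoC.hom = isoA.hom ≫ f.appLE V U hUV :=
    CommRingCat.hom_ext (RingHom.ext fun r => congr($h2 r))
  let jS : Spec (CommRingCat.of Γ(S, W)) ⟶ S := hW.fromSpec
  let jY : Spec (CommRingCat.of (D.AB Γ(S, W))) ⟶ Y := Spec.map isoA.inv ≫ hV.fromSpec
  let jX : Spec (CommRingCat.of (D.CB Γ(S, W))) ⟶ X := Spec.map isoC.inv ≫ hU.fromSpec
  haveI : IsOpenImmersion jS := inferInstanceAs (IsOpenImmersion hW.fromSpec)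
  haveI : IsOpenImmersion jY := inferInstanceAs (IsOpenImmersion (Spec.map isoA.inv ≫ hV.fromSpec))
  haveI : IsOpenImmersion jX := inferInstanceAs (IsOpenImmersion (Spec.map isoC.inv ≫ hU.fromSpec))
  have wg : Spec.map (CommRingCat.ofHom (algebraMap Γ(S, W) (D.AB Γ(S, W)))) ≫ jS = jY ≫ g := by
    change _ = (Spec.map isoA.inv ≫ hV.fromSpec) ≫ g
    rw [Category.assoc, ← IsAffineOpen.SpecMap_appLE_fromSpec g hW hV hVW, ← Category.assoc,
      ← Spec.map_comp, ← hA, Category.assoc, Iso.hom_inv_id, Category.comp_id]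
  have wf : Spec.map (CommRingCat.ofHom (D.φB Γ(S, W))) ≫ jY = jX ≫ f := by
    change _ ≫ (Spec.map isoA.inv ≫ hV.fromSpec) = (Spec.map isoC.inv ≫ hU.fromSpec) ≫ f
    rw [Category.assoc, ← IsAffineOpen.SpecMap_appLE_fromSpec f hV hU hUV, ← Category.assoc,
      ← Category.assoc, ← Spec.map_comp, ← Spec.map_comp]
    congr 2
    rw [Iso.inv_comp_eq, ← Category.assoc, Iso.eq_comp_inv, hC]
  -- the point
  obtain ⟨u₀, hu₀⟩ : x ∈ Set.range hU.fromSpec := by
    rw [hU.range_fromSpec]; exact hxU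
  obtain ⟨u, hu⟩ : ∃ u, jX u = x := by
    refine ⟨Spec.map isoC.hom u₀, ?_⟩
    change (Spec.map isoC.inv ≫ hU.fromSpec) (Spec.map isoC.hom u₀) = x
    rw [Scheme.Hom.comp_apply, ← Scheme.Hom.comp_apply (Spec.map isoC.hom), ← Spec.map_comp,
      Iso.inv_hom_id, Spec.map_id]
    exact hu₀
  subst hu
  have wfg : (Spec.map (CommRingCat.ofHom (D.φB Γ(S, W))) ≫
      Spec.map (CommRingCat.ofHom (algebraMap Γ(S, W) (D.AB Γ(S, W))))) ≫ jS = jX ≫ (f ≫ g) := by
    rw [Category.assoc, wg, ← Category.assoc, wf, Category.assoc]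
  have hfl' := (flat_stalkMap_iff_of_openImmersions (f ≫ g) _ jX jS wfg u).mp hfl
  have hfib' := (fibFlatAt_iff_of_openImmersions f g _ _ jX jY jS wf wg u).mp hfib
  obtain ⟨k1, k2⟩ := D.flat_of_fibFlatAt Γ(S, W) u hfl' hfib'
  refine ⟨?_, (flat_stalkMap_iff_of_openImmersions f _ jX jY wf u).mpr k2⟩
  have hpt : jY (Spec.map (CommRingCat.ofHom (D.φB Γ(S, W))) u) = f (jX u) := by
    rw [← Scheme.Hom.comp_apply, ← Scheme.Hom.comp_apply, wf]
  rw [← hpt]
  exact (flat_stalkMap_iff_of_openImmersions g _ jY jS wg _).mpr k1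

end Groth.Agent.Lib.helper5.FibCrit
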