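import Mathlib
import Groth.Agent.Lib.Helper5.GrpHomog
import Groth.Agent.Lib.Helper14.BCAct
import Groth.Agent.S9757

/-!
# Fibre dimensions of group schemes (helper5)

* `fibreDimAt_eq_dim_bc`, `fibreDimAt_eq_dim_fibre`: the fibres of a group scheme locally of finite type are equidimensional:
  the local fibre dimension at any point is the dimension of the fibre through it.
* `isLocallyConstant_dim_fibre` (S3022, SGA3 VI_B 4.3): for a flat group scheme locally of finite presentation, `s ↦ dim G_s`
  is locally constant.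
-/

set_option autoImplicit false
set_option linter.style.haveILetI false
universe u
open CategoryTheory MonoidalCategory CartesianMonoidalCategory MonObj GrpObj AlgebraicGeometry
  CategoryTheory.Limits

namespace Groth.Agent.Lib.helper5.FibDimGrp

open Groth.Agent.Lib.Helper14.BCAct FlatMor

/-- the base change of a group scheme to a field valued point has constant local dimension, which is the local
fibre dimension at every point above it. -/
theorem fibreDimAt_eq_dim_bc (k : Type u) [Field k] {S : Scheme.{u}}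
    (g : Spec (CommRingCat.of k) ⟶ S) (G : Over S) [GrpObj G] [LocallyOfFiniteType G.hom]
    (x' : (Red.bc g G).left) :
    fibreDimAt G.hom (prL g G x') = topologicalKrullDim ↥(Red.bc g G).left := by
  haveI : LocallyOfFiniteType (Red.bc g G).hom :=
    inferInstanceAs (LocallyOfFiniteType (pullback.snd G.hom g))
  have sq : IsPullback (prL g G) (Red.bc g G).hom G.hom g := IsPullback.of_hasPullback G.hom g
  rw [← Groth.Agent.Lib.helper5.FieldBC.fibreDimAt_eq_of_isPullback sq x',
    Groth.Agent.Lib.helper5.FieldBC.fibreDimAt_toSpec_field k,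
    Groth.Agent.Lib.helper5.GrpHomog.localDim_eq_dim k (Red.bc g G) x']

/-- the fibres of a group scheme locally of finite type are equidimensional. -/
theorem fibreDimAt_eq_dim_fibre {S : Scheme.{u}} (G : Over S) [GrpObj G] [LocallyOfFiniteType G.hom]
    (x : G.left) :
    fibreDimAt G.hom x = topologicalKrullDim ↥(G.hom.base ⁻¹' {G.hom.base x}) := by
  set s := G.hom.base x with hs
  have h1 := fibreDimAt_eq_dim_bc (S.residueField s) (S.fromSpecResidueField s) G (G.hom.asFiber x)
  have h2 : prL (S.fromSpecResidueField s) G (G.hom.asFiber x) = x := G.hom.fiberι_asFiber x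
  rw [h2] at h1
  rw [h1]
  exact IsHomeomorph.topologicalKrullDim_eq _ (G.hom.fiberHomeo s).isHomeomorph


/-- S3022 (SGA3 VI_B 4.3) -/
theorem isLocallyConstant_dim_fibre (S : Scheme.{u}) (G : Over S) [GrpObj G] [Flat G.hom]
    [LocallyOfFinitePresentation G.hom] :
    IsLocallyConstant (fun s : S => topologicalKrullDim ↥(G.hom.base ⁻¹' {s})) := by
  rw [IsLocallyConstant.iff_exists_open]
  intro s
  obtain ⟨U, hU1, hU2⟩ := Groth.Agent.S9757.result G.hom
  -- a point of the fibre
  have he : (η[G] : 𝟙_ (Over S) ⟶ G).left ≫ G.hom = 𝟙 S := Over.w η[G]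
  let x0 : G.left := (η[G] : 𝟙_ (Over S) ⟶ G).left s
  have hx0 : G.hom x0 = s := by
    have h1 : ((η[G] : 𝟙_ (Over S) ⟶ G).left ≫ G.hom) s = s := by rw [he]; rfl
    rwa [Scheme.Hom.comp_apply] at h1
  have hx0' : x0 ∈ Set.range (G.hom.fiberι s) := by
    rw [G.hom.range_fiberι s]; exact hx0
  obtain ⟨t0, -⟩ := hx0'
  haveI : Nonempty ↥(G.hom.fiber s) := ⟨t0⟩
  obtain ⟨t, ht⟩ := (hU1 s).nonempty
  have ht' : G.hom.fiberι s t ∈ ((⨆ d, U d : G.left.Opens) : Set ↑G.left) := ht
  rw [TopologicalSpace.Opens.coe_iSup, Set.mem_iUnion] at ht'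
  obtain ⟨d, hd⟩ := ht'
  set x := G.hom.fiberι s t with hx
  have hxs : G.hom x = s := by
    have h1 : x ∈ Set.range (G.hom.fiberι s) := Set.mem_range_self t
    rw [G.hom.range_fiberι s] at h1
    exact h1
  have key : ∀ x' : G.left, x' ∈ U d →
      topologicalKrullDim ↥(G.hom.base ⁻¹' {G.hom.base x'}) = (d : WithBot ℕ∞) := by
    intro x' hx'
    rw [← fibreDimAt_eq_dim_fibre G x']
    exact hU2 d x' hx'
  refine ⟨G.hom '' (U d : Set G.left), G.hom.isOpenMap _ (U d).2, ⟨x, hd, hxs⟩, ?_⟩
  rintro _ ⟨x', hx', rfl⟩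
  rw [key x' hx', ← hxs, key x hd]

end Groth.Agent.Lib.helper5.FibDimGrp
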