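import Mathlib

/-!
# Flatness of a fibre ring map in terms of quotient presentations (helper5)

`flat_quot_tensor_of_surjective`: `S → S'` an algebra, `J` an ideal of `S`, `A = S / J` and `B = S' / J S'` given by
surjections with the stated kernels, `φ : A → B` compatible and flat.  Then `(S ⧸ J) ⊗[S] S'` is flat over `S ⧸ J`.
-/

set_option autoImplicit false
universe u

namespace Groth.Agent.Lib.helper5.FibFlatRing

open TensorProduct

theorem flat_quot_tensor_of_surjective {S S' A B : Type u} [CommRing S] [CommRing S'] [CommRing A]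
    [CommRing B] [Algebra S S'] (J : Ideal S) (πV : S →+* A) (πU : S' →+* B) (φ : A →+* B)
    (hV : Function.Surjective πV) (hkV : RingHom.ker πV = J)
    (hU : Function.Surjective πU) (hkU : RingHom.ker πU = J.map (algebraMap S S'))
    (hcomm : φ.comp πV = πU.comp (algebraMap S S')) (hφ : φ.Flat) :
    Module.Flat (S ⧸ J) ((S ⧸ J) ⊗[S] S') := by
  -- the isomorphisms
  let eA : (S ⧸ J) ≃+* A :=
    (Ideal.quotEquivOfEq hkV.symm).trans (RingHom.quotientKerEquivOfSurjective hV)
  let eB : (S' ⧸ J.map (algebraMap S S')) ≃+* B :=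
    (Ideal.quotEquivOfEq hkU.symm).trans (RingHom.quotientKerEquivOfSurjective hU)
  have heA : ∀ s : S, eA (Ideal.Quotient.mk J s) = πV s := fun s => rfl
  have heB : ∀ s : S', eB (Ideal.Quotient.mk _ s) = πU s := fun s => rfl
  have hcan : algebraMap (S ⧸ J) (S' ⧸ J.map (algebraMap S S')) =
      (eB.symm.toRingHom.comp φ).comp eA.toRingHom := by
    apply Ideal.Quotient.ringHom_ext
    ext s
    change _ = eB.symm (φ (eA (Ideal.Quotient.mk J s)))
    rw [heA, RingEquiv.eq_symm_apply]
    have h1 : φ (πV s) = πU (algebraMap S S' s) := congr($(hcomm) s)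
    rw [h1, ← heB]
    rfl
  have hflat : (algebraMap (S ⧸ J) (S' ⧸ J.map (algebraMap S S'))).Flat := by
    rw [hcan]
    exact RingHom.Flat.comp (RingHom.Flat.of_bijective eA.bijective)
      (RingHom.Flat.comp hφ (RingHom.Flat.of_bijective eB.symm.bijective))
  have hfl : Module.Flat (S ⧸ J) (S' ⧸ J.map (algebraMap S S')) := by
    have := hflat
    rw [RingHom.flat_algebraMap_iff] at this
    exact this
  exact Module.Flat.of_linearEquiv
    (Algebra.TensorProduct.quotIdealMapEquivQuotTensor S' J).symm.toLinearEquiv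

end Groth.Agent.Lib.helper5.FibFlatRing
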