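import Mathlib
import Groth.Agent.S0392
import Groth.Agent.Lib.Helper17.FibreStalk
import Groth.Agent.Lib.Helper5.FibFlatRing

/-!
# Critère de platitude par fibres, locally Noetherian schemes, stalk form (helper5)

`flat_stalkMap_of_flat_fibre`: `U ⟶ V ⟶ W` locally Noetherian, `U` flat over `W`, `w : W`,
`V_w = V ×_W Spec κ(w)`, `U_w = U ×_V V_w` and `U_w ⟶ V_w` flat.  Then at every point `z` of `U_w` with image `u` in
`U`, `h1` is flat at `u` and `h2` is flat at `h1 u`.
-/

set_option autoImplicit false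
universe u
open CategoryTheory CategoryTheory.Limits AlgebraicGeometry IsLocalRing

namespace Groth.Agent.Lib.helper5.FibFlatScheme

open TensorProduct

/-- kernel of the stalk map of the fibre inclusion, base point transported. -/
theorem ker_comp_stalkSpecializes {V W Vw : Scheme.{u}} (h2 : V ⟶ W) (w : W) (ιV : Vw ⟶ V)
    (pV : Vw ⟶ Spec (W.residueField w)) (sqV : IsPullback ιV pV h2 (W.fromSpecResidueField w))
    (y : Vw) (v : V) (hv : ιV y = v) :
    RingHom.ker ((ιV.stalkMap y).hom.comp
      (V.presheaf.stalkSpecializes (specializes_of_eq hv)).hom) =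
      (maximalIdeal (W.presheaf.stalk (h2 v))).map (h2.stalkMap v).hom := by
  subst hv
  have : (V.presheaf.stalkSpecializes (specializes_of_eq (rfl : ιV y = ιV y))) = 𝟙 _ :=
    TopCat.Presheaf.stalkSpecializes_refl _ _
  rw [this]
  change RingHom.ker ((ιV.stalkMap y).hom.comp (RingHom.id _)) = _
  rw [RingHom.comp_id]
  exact Groth.Agent.Lib.helper17.FibreStalk.ker_stalkMap_of_isPullback h2 w ιV pV sqV y

theorem flat_stalkMap_of_flat_fibre {U V W Vw Uw : Scheme.{u}} [IsLocallyNoetherian U]
    [IsLocallyNoetherian V] [IsLocallyNoetherian W]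
    (h1 : U ⟶ V) (h2 : V ⟶ W) (w : W) (ιV : Vw ⟶ V) (pV : Vw ⟶ Spec (W.residueField w))
    (sqV : IsPullback ιV pV h2 (W.fromSpecResidueField w))
    (ιU : Uw ⟶ U) (hw : Uw ⟶ Vw) (sqU : IsPullback ιU hw h1 ιV)
    (hfl : Flat (h1 ≫ h2)) (hflw : Flat hw) (z : Uw) :
    (h1.stalkMap (ιU z)).hom.Flat ∧ (h2.stalkMap (h1 (ιU z))).hom.Flat := by
  set u := ιU z with hu
  set y := hw z with hy
  have e : ιU ≫ h1 = hw ≫ ιV := sqU.w
  have hv : ιV y = h1 u := by
    have := congr(($e) z)
    rw [Scheme.Hom.comp_apply, Scheme.Hom.comp_apply] at this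
    exact this.symm
  -- the rings
  let R := W.presheaf.stalk (h2 (h1 u))
  let S := V.presheaf.stalk (h1 u)
  let S' := U.presheaf.stalk u
  let _ : Algebra R S := (h2.stalkMap (h1 u)).hom.toAlgebra
  let _ : Algebra S S' := (h1.stalkMap u).hom.toAlgebra
  let _ : Algebra R S' := ((h1.stalkMap u).hom.comp (h2.stalkMap (h1 u)).hom).toAlgebra
  have : IsScalarTower R S S' := IsScalarTower.of_algebraMap_eq' rfl
  have : IsLocalHom (algebraMap R S) := inferInstanceAs (IsLocalHom (h2.stalkMap (h1 u)).hom)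
  have : IsLocalHom (algebraMap S S') := inferInstanceAs (IsLocalHom (h1.stalkMap u).hom)
  have hcomp : ((h1 ≫ h2).stalkMap u).hom = (h1.stalkMap u).hom.comp (h2.stalkMap (h1 u)).hom := by
    rw [Scheme.Hom.stalkMap_comp]; rfl
  have hRS' : Module.Flat R S' := by
    have h0 : ((h1 ≫ h2).stalkMap u).hom.Flat := Flat.stalkMap (h1 ≫ h2) u
    rw [hcomp] at h0
    exact h0
  -- the fibre hypothesis
  let J : Ideal S := (maximalIdeal R).map (algebraMap R S)
  let c : S →+* V.presheaf.stalk (ιV y) := (V.presheaf.stalkSpecializes (specializes_of_eq hv)).hom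
  have hkV : RingHom.ker ((ιV.stalkMap y).hom.comp c) = J :=
    ker_comp_stalkSpecializes h2 w ιV pV sqV y (h1 u) hv
  have hkU : RingHom.ker (ιU.stalkMap z).hom = J.map (algebraMap S S') := by
    have h0 := Groth.Agent.Lib.helper17.FibreStalk.ker_stalkMap_of_isPullback (h1 ≫ h2) w ιU
      (hw ≫ pV) (sqU.paste_vert sqV) z
    rw [h0, Ideal.map_map]
    congr 1
  have hsV : Function.Surjective ((ιV.stalkMap y).hom.comp c) := by
    have : IsPreimmersion ιV := MorphismProperty.of_isPullback sqV.flip inferInstance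
    refine (ιV.stalkMap_surjective y).comp ?_
    exact (ConcreteCategory.bijective_of_isIso
      (V.presheaf.stalkCongr (Inseparable.of_eq hv.symm)).hom).2
  have hsU : Function.Surjective (ιU.stalkMap z).hom := by
    have : IsPreimmersion ιV := MorphismProperty.of_isPullback sqV.flip inferInstance
    have : IsPreimmersion ιU := MorphismProperty.of_isPullback sqU.flip inferInstance
    exact ιU.stalkMap_surjective z
  have hcomm : (hw.stalkMap z).hom.comp ((ιV.stalkMap y).hom.comp c) =
      (ιU.stalkMap z).hom.comp (algebraMap S S') := by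
    have h0 := Scheme.Hom.stalkMap_congr_hom (ιU ≫ h1) (hw ≫ ιV) e z
    rw [Scheme.Hom.stalkMap_comp, Scheme.Hom.stalkMap_comp] at h0
    have h1' := congr(($h0).hom)
    exact h1'.symm
  have hφ : (hw.stalkMap z).hom.Flat := Flat.stalkMap hw z
  have hfib : Module.Flat (S ⧸ J) ((S ⧸ J) ⊗[S] S') :=
    FibFlatRing.flat_quot_tensor_of_surjective J _ _ _ hsV hkV hsU hkU hcomm hφ
  obtain ⟨r1, r2⟩ := Groth.Agent.S0392.result (R := R) (S := S) (S' := S') (M := S') hfib
  exact ⟨r2, r1⟩

end Groth.Agent.Lib.helper5.FibFlatScheme
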