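import Groth.Agent.Lib.Helper5.FibClos3
import Groth.Agent.Lib.Helper5.ConsSep3

/-!
# Local constructibility of loci in the source defined by a property of the fibre at the point
(EGA IV 9.9-type statements) (helper5)

`E` assigns to every morphism `f : X ⟶ S` a subset `E f ⊆ X` ("the fibre of `f` through `x` has
the property at `x`").  If `E` is compatible with arbitrary base change (`BaseChangeCompat`),
with restriction to open subschemes of the source (`OpenCompat`), and for every finite type
morphism to an integral Noetherian scheme `T` it is constructible over a nonempty open of `T`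
(`GenericallyCons`), then `E f` is locally constructible for every `f` locally of finite
presentation.

* `isConstructible_of_isNoetherian`
* `isLocallyConstructible_of_isAffine`
* `isLocallyConstructible`
-/

set_option autoImplicit false
set_option backward.isDefEq.respectTransparency false
universe u
open CategoryTheory CategoryTheory.Limits AlgebraicGeometry Topology TopologicalSpace

namespace Groth.Agent.Lib.helper5.FibLocus

open Groth.Agent.Lib.helper5.ConsFibre Groth.Agent.Lib.helper5.ConsApprox
  Groth.Agent.Lib.helper5.ConsSep Groth.Agent.Lib.helper5.FibClos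

variable (E : ∀ ⦃X S : Scheme.{u}⦄, (X ⟶ S) → Set X)

/-- compatibility of a fibrewise locus with arbitrary base change. -/
def BaseChangeCompat : Prop :=
  ∀ ⦃P X S S' : Scheme.{u}⦄ ⦃a : P ⟶ X⦄ ⦃b : P ⟶ S'⦄ ⦃f : X ⟶ S⦄ ⦃g : S' ⟶ S⦄,
    IsPullback a b f g → LocallyOfFinitePresentation f → E b = a ⁻¹' E f

/-- compatibility of a fibrewise locus with open immersions into the source. -/
def OpenCompat : Prop :=
  ∀ ⦃U X S : Scheme.{u}⦄ (j : U ⟶ X) (f : X ⟶ S), IsOpenImmersion j →
    LocallyOfFinitePresentation f → E (j ≫ f) = j ⁻¹' E f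

/-- over an integral Noetherian base the locus is constructible above a nonempty open. -/
def GenericallyCons : Prop :=
  ∀ ⦃X T : Scheme.{u}⦄ (f : X ⟶ T) [IsIntegral T] [IsNoetherian T] [LocallyOfFiniteType f]
    [QuasiCompact f], ∃ V : T.Opens, (V : Set T).Nonempty ∧ IsConstructible (E f ∩ f ⁻¹' V)

variable {E}

theorem isConstructible_of_isNoetherian (hbc : BaseChangeCompat E) (hgen : GenericallyCons E)
    {X S : Scheme.{u}} [IsNoetherian S] (f : X ⟶ S) [LocallyOfFiniteType f] [QuasiCompact f] :
    IsConstructible (E f) := by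
  haveI : IsNoetherian X := isNoetherian_of_lft f
  haveI : LocallyOfFinitePresentation f :=
    (LocallyOfFinitePresentation.iff_locallyOfFiniteType).mpr inferInstance
  apply isConstructible_of_forall_integral
  intro Z ι hι hZ
  haveI := hι; haveI := hZ
  haveI : IsNoetherian Z := isNoetherian_of_lft ι
  -- the closure of the image of the generic point
  set ξ : Z := genericPoint Z with hξ
  have hξg : IsGenericPoint ξ (Set.univ : Set Z) := genericPoint_spec Z
  set η : S := f (ι ξ) with hη
  let C : Closeds S := ⟨closure {η}, isClosed_closure⟩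
  have hCirr : IsIrreducible (C : Set S) := isIrreducible_singleton.closure
  haveI := isIntegral_subscheme_vanishingIdeal C hCirr
  set τ := (Scheme.IdealSheafData.vanishingIdeal C).subschemeι with hτ
  have hτr : Set.range τ = (C : Set S) := range_subschemeι_vanishingIdeal C
  haveI : IsNoetherian (Scheme.IdealSheafData.vanishingIdeal C).subscheme := isNoetherian_of_lft τ
  set p := pullback.fst f τ with hp
  set fT := pullback.snd f τ with hfT
  have sq : IsPullback p fT f τ := IsPullback.of_hasPullback _ _
  have hEq : E fT = p ⁻¹' E f := hbc sq inferInstance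
  obtain ⟨V, hVne, hK⟩ := hgen fT
  haveI : IsNoetherian (pullback f τ) := isNoetherian_of_lft fT
  -- factor `ι` through `p`
  set q := pullback.fst ι p with hq
  set q' := pullback.snd ι p with hq'
  have hcond : q ≫ ι = q' ≫ p := pullback.condition
  have himg : ∀ z : Z, f (ι z) ∈ (C : Set S) := by
    intro z
    have hz : z ∈ closure ({ξ} : Set Z) := by rw [hξg.def]; trivial
    have hcont : Continuous fun z : Z => f (ι z) := f.continuous.comp ι.continuous
    have := image_closure_subset_closure_image hcont ⟨z, hz, rfl⟩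
    rwa [Set.image_singleton] at this
  haveI : Surjective q := by
    refine ⟨fun z => ?_⟩
    have hz : ι z ∈ Set.range p := by
      rw [hp, Scheme.Pullback.range_fst, hτr]
      exact himg z
    obtain ⟨w, hw⟩ := hz
    obtain ⟨a, ha, -⟩ := Scheme.Pullback.exists_preimage_pullback z w hw.symm
    exact ⟨a, ha⟩
  haveI : IsIso q := isIso_of_isClosedImmersion_of_surjective q
  set ιT : Z ⟶ pullback f τ := inv q ≫ q' with hιT
  have hfac : ιT ≫ p = ι := by
    rw [hιT, Category.assoc, ← hcond, IsIso.inv_hom_id_assoc]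
  have hpre : ι ⁻¹' E f = ιT ⁻¹' E fT := by
    rw [hEq]
    ext z
    simp only [Set.mem_preimage]
    rw [← Scheme.Hom.comp_apply, hfac]
  -- the open where we have control
  set O : Set Z := ιT ⁻¹' (fT ⁻¹' (V : Set _)) with hO
  have hOo : IsOpen O := (V.2.preimage fT.continuous).preimage ιT.continuous
  have hξO : ξ ∈ O := by
    -- `fT (ιT ξ)` is the generic point of the subscheme
    have h1 : τ (fT (ιT ξ)) = η := by
      rw [← Scheme.Hom.comp_apply, ← sq.w, Scheme.Hom.comp_apply, ← Scheme.Hom.comp_apply ιT p,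
        hfac]
    have hgen' : IsGenericPoint (fT (ιT ξ))
        (Set.univ : Set (Scheme.IdealSheafData.vanishingIdeal C).subscheme) := by
      rw [isGenericPoint_def, ← Set.univ_subset_iff]
      intro t _
      rw [τ.isEmbedding.closure_eq_preimage_closure_image, Set.image_singleton, h1]
      have : τ t ∈ (C : Set S) := by rw [← hτr]; exact ⟨t, rfl⟩
      exact this
    obtain ⟨t, ht⟩ := hVne
    exact (hgen'.mem_open_set_iff V.2).mpr ⟨t, trivial, ht⟩
  set A : Set Z := ιT ⁻¹' (E fT ∩ fT ⁻¹' (V : Set _)) with hA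
  have hAcons : IsConstructible A :=
    (isLocallyConstructible_preimage ιT hK.isLocallyConstructible).isConstructible
  have hAeq : A = ι ⁻¹' E f ∩ O := by rw [hA, Set.preimage_inter, ← hpre]
  have hcl : closure ({ξ} : Set Z) = Set.univ := hξg.def
  obtain ⟨h1, h2⟩ := Groth.Agent.Lib.helper3.ChainDim.exists_open_of_isConstructible ξ hAcons
  by_cases hξA : ξ ∈ A
  · left
    obtain ⟨W, hW, hξW, hsub⟩ := h1 hξA
    refine ⟨ξ, interior_maximal (fun z hz => ?_) hW hξW⟩
    have : z ∈ A := hsub ⟨hz, by rw [hcl]; trivial⟩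
    rw [hAeq] at this
    exact this.1
  · right
    obtain ⟨W, hW, hξW, hsub⟩ := h2 hξA
    refine ⟨ξ, interior_maximal (fun z hz => ?_) (hW.inter hOo) ⟨hξW, hξO⟩⟩
    intro hzE
    have : z ∈ Aᶜ := hsub ⟨hz.1, by rw [hcl]; trivial⟩
    apply this
    rw [hAeq]
    exact ⟨hzE, hz.2⟩

/-- affine base, finitely presented morphism. -/
theorem isLocallyConstructible_of_isAffine (hbc : BaseChangeCompat E) (hgen : GenericallyCons E)
    {X S : Scheme.{u}} [IsAffine S] (f : X ⟶ S) [LocallyOfFinitePresentation f] [QuasiCompact f]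
    [QuasiSeparated f] : IsLocallyConstructible (E f) := by
  obtain ⟨S₀, X₀, hS₀, h, u₀, eX, Z₀, h1, h2, sq, -, -⟩ :=
    exists_noetherian_set_model f ∅ IsConstructible.empty
  haveI := hS₀; haveI := h1; haveI := h2
  haveI : IsNoetherian X₀ := isNoetherian_of_lft u₀
  haveI : LocallyOfFinitePresentation u₀ :=
    (LocallyOfFinitePresentation.iff_locallyOfFiniteType).mpr inferInstance
  rw [hbc sq inferInstance]
  exact isLocallyConstructible_preimage eX
    (isConstructible_of_isNoetherian hbc hgen u₀).isLocallyConstructible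

/-- a monomorphism on the target does not change the locus. -/
theorem eq_of_comp_mono (hbc : BaseChangeCompat E) {X V S : Scheme.{u}} (f : X ⟶ V)
    (j : V ⟶ S) [Mono j] [LocallyOfFinitePresentation (f ≫ j)] : E f = E (f ≫ j) := by
  have sq : IsPullback (𝟙 X) f (f ≫ j) j := by
    have h1 : IsPullback (𝟙 X) f f (𝟙 V) := IsPullback.of_horiz_isIso ⟨by simp⟩
    have h2 : IsPullback (𝟙 V) (𝟙 V) j j := (IsKernelPair.id_of_mono j)
    have := h1.paste_vert h2
    rwa [Category.comp_id] at this
  have := hbc sq inferInstance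
  rw [this]
  rfl

/-- general case: `f` locally of finite presentation. -/
theorem isLocallyConstructible (hbc : BaseChangeCompat E) (hop : OpenCompat E)
    (hgen : GenericallyCons E) {X S : Scheme.{u}} (f : X ⟶ S) [LocallyOfFinitePresentation f] :
    IsLocallyConstructible (E f) := by
  refine IsLocallyConstructible.of_isOpenCover
    (U := fun i : {p : S.affineOpens × X.affineOpens // p.2.1 ≤ f ⁻¹ᵁ p.1.1} => (i.1.2.1 : X.Opens))
    ?_ fun i => ?_
  · rw [TopologicalSpace.IsOpenCover, eq_top_iff]
    intro x _
    obtain ⟨_, ⟨V, hV : IsAffineOpen V, rfl⟩, hfxV, -⟩ :=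
      S.isBasis_affineOpens.exists_subset_of_mem_open (Set.mem_univ (f x)) isOpen_univ
    obtain ⟨_, ⟨U, hU : IsAffineOpen U, rfl⟩, hxU, hUV⟩ :=
      X.isBasis_affineOpens.exists_subset_of_mem_open (show x ∈ ((f ⁻¹ᵁ V : X.Opens) : Set X) from hfxV)
        (f ⁻¹ᵁ V).2
    exact TopologicalSpace.Opens.mem_iSup.mpr ⟨⟨(⟨V, hV⟩, ⟨U, hU⟩), hUV⟩, hxU⟩
  · obtain ⟨⟨⟨V, hV⟩, ⟨U, hU⟩⟩, hUV⟩ := i
    haveI : IsAffine (V : Scheme.{u}) := hV
    haveI : IsAffine (U : Scheme.{u}) := hU
    have hfac : f.resLE V U hUV ≫ V.ι = U.ι ≫ f := f.resLE_comp_ι hUV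
    haveI : LocallyOfFinitePresentation (U.ι ≫ f) := inferInstance
    haveI : LocallyOfFinitePresentation (f.resLE V U hUV ≫ V.ι) := by rw [hfac]; infer_instance
    haveI : LocallyOfFinitePresentation (f.resLE V U hUV) :=
      MorphismProperty.of_postcomp (W := @LocallyOfFinitePresentation)
        (W' := @IsOpenImmersion) (f.resLE V U hUV) V.ι inferInstance inferInstance
    have h1 : E (f.resLE V U hUV) = U.ι ⁻¹' E f := by
      rw [eq_of_comp_mono hbc (f.resLE V U hUV) V.ι]
      have h2 := hop U.ι f inferInstance inferInstance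
      rw [← h2]
      congr 1
    have h3 : IsLocallyConstructible (E (f.resLE V U hUV)) :=
      isLocallyConstructible_of_isAffine hbc hgen (f.resLE V U hUV)
    rw [h1] at h3
    exact h3

end Groth.Agent.Lib.helper5.FibLocus
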