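import Groth.Prelude

/-!
# Fibres of a reduced scheme over points without proper generizations are reduced (helper5)

`isReduced_fiber_of_forall_specializes`: `Z` reduced, `h : Z ⟶ Y`, `η : Y` such that every
generization of `η` equals `η` (e.g. the generic point of an irreducible component); then
`h.fiber η` is reduced.  Proof: the stalk maps of `fiberι` are surjective with nil kernel.
-/

set_option autoImplicit false
universe u

namespace Groth.Agent.Lib.helper5.FiberReduced

open AlgebraicGeometry CategoryTheory Limits

theorem isReduced_fiber_of_forall_specializes {Z Y : Scheme.{u}} [IsReduced Z] (h : Z ⟶ Y) (η : Y)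
    (hη : ∀ y : Y, y ⤳ η → y = η) : IsReduced (h.fiber η) := by
  apply (config := { allowSynthFailures := true }) isReduced_of_isReduced_stalk
  intro z
  let π := h.fiberι η
  let x := π z
  let φ := π.stalkMap z
  have hsurj : Function.Surjective φ := π.stalkMap_surjective z
  have hrange : Set.range π = h ⁻¹' {η} := h.range_fiberι η
  have hx : h x = η := by
    have : x ∈ Set.range π := ⟨z, rfl⟩
    rw [hrange] at this
    exact this
  have hker : RingHom.ker φ.hom ≤ nilradical (Z.presheaf.stalk x) := by
    rw [nilradical_eq_sInf, le_sInf_iff]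
    intro 𝔮 h𝔮
    let q : Spec (Z.presheaf.stalk x) := ⟨𝔮, h𝔮⟩
    let x' := Z.fromSpecStalk x q
    have hx' : x' ⤳ x := by
      have : x' ∈ Set.range (Z.fromSpecStalk x) := ⟨q, rfl⟩
      rwa [Scheme.range_fromSpecStalk] at this
    have hhx' : h x' = η := hη _ (hx ▸ hx'.map h.continuous)
    obtain ⟨z', hz'⟩ : x' ∈ Set.range π := by rw [hrange]; exact hhx'
    have hz's : z' ⤳ z := by
      rw [← π.isEmbedding.toIsInducing.specializes_iff, hz']
      exact hx'
    obtain ⟨q', hq'⟩ : z' ∈ Set.range ((h.fiber η).fromSpecStalk z) := by
      rw [Scheme.range_fromSpecStalk]; exact hz's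
    have hnat := Scheme.SpecMap_stalkMap_fromSpecStalk π (x := z)
    have h1 : Z.fromSpecStalk x (Spec.map φ q') = x' := by
      have := congrArg (fun m => m q') hnat
      simp only [Scheme.Hom.comp_apply] at this
      rw [hq', hz'] at this
      exact this
    have h2 : Spec.map φ q' = q := (Z.fromSpecStalk x).isEmbedding.injective h1
    intro a ha
    have : a ∈ (Spec.map φ q').asIdeal := by
      change φ.hom a ∈ q'.asIdeal
      rw [show φ.hom a = 0 from ha]
      exact q'.asIdeal.zero_mem
    rw [h2] at this
    exact this
  have hinj : Function.Injective φ := by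
    rw [injective_iff_map_eq_zero]
    intro a ha
    have : a ∈ nilradical (Z.presheaf.stalk x) := hker ha
    rw [nilradical_eq_zero, Ideal.zero_eq_bot, Ideal.mem_bot] at this
    exact this
  let e : Z.presheaf.stalk x ≃+* (h.fiber η).presheaf.stalk z :=
    RingEquiv.ofBijective φ.hom ⟨hinj, hsurj⟩
  exact isReduced_of_injective e.symm.toRingHom e.symm.injective

end Groth.Agent.Lib.helper5.FiberReduced
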