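import Groth.Agent.Lib.Helper5.OrbitLC
import Groth.Agent.Lib.Helper5.FibreDimGE
import Groth.Agent.Lib.Helper5.FibreDimLocal
import Groth.Agent.Lib.Helper5.DimSupLocalDim
import Groth.Agent.Lib.Helper3.FibreIrred

/-!
# Generic constancy of the fibre dimension (helper5)

* `fibreDimAt_eq_localDim_of_subsingleton`, `dim_eq_of_isPullback_of_subsingleton` : dimension of
  a scheme of finite type over a one-point base and base change.
* `exists_forall_fibreDimAt_lt` : local fibre dimensions are bounded (Noetherian source).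
* `exists_open_dim_fiber_eq` : over an integral Noetherian base the fibre dimension is constant
  on a nonempty open.
-/

set_option autoImplicit false
universe u
open CategoryTheory AlgebraicGeometry Function Topology

namespace Groth.Agent.Lib.helper5.FibreDimGeneric

open Groth.Agent.Lib.helper5.FibreDimLocal

/-- over a one-point base the local fibre dimension is the local dimension. -/
theorem fibreDimAt_eq_localDim_of_subsingleton {X T : Scheme.{u}} (f : X ⟶ T) [Subsingleton ↥T]
    (x : X) : FlatMor.fibreDimAt f x = FlatMor.localDim X x := by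
  rw [fibreDimAt_eq_localDim_preimage]
  have hset : (f ⁻¹' {f x} : Set X) = Set.univ := by
    ext y
    simp only [Set.mem_preimage, Set.mem_singleton_iff, Set.mem_univ, iff_true]
    exact Subsingleton.elim _ _
  rw [localDim_congr_set hset x rfl]
  exact localDim_eq_of_isOpenEmbedding (fun y : ↥(Set.univ : Set X) => (y : X))
    isOpen_univ.isOpenEmbedding_subtypeVal ⟨x, trivial⟩

/-- the dimension of a scheme of finite type over a one-point base is invariant under base change to
another one-point base. -/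
theorem dim_eq_of_isPullback_of_subsingleton {Y Y' T T' : Scheme.{u}} {g : Y ⟶ T} {g' : Y' ⟶ T'}
    {e : Y' ⟶ Y} {h : T' ⟶ T} (sq : IsPullback e g' g h) [Subsingleton ↥T] [Subsingleton ↥T']
    [Nonempty ↥T'] [LocallyOfFiniteType g] :
    topologicalKrullDim ↥Y' = topologicalKrullDim ↥Y := by
  rw [Groth.Agent.Lib.helper5.FieldBC.dim_eq_iSup_localDim,
    Groth.Agent.Lib.helper5.FieldBC.dim_eq_iSup_localDim ↥Y]
  have key : ∀ y' : Y', FlatMor.localDim ↥Y' y' = FlatMor.localDim ↥Y (e y') := by
    intro y'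
    rw [← fibreDimAt_eq_localDim_of_subsingleton g', ← fibreDimAt_eq_localDim_of_subsingleton g,
      Groth.Agent.Lib.helper5.FieldBC.fibreDimAt_eq_of_isPullback sq y']
  apply le_antisymm
  · refine iSup_le fun y' => ?_
    rw [key]
    exact le_iSup (fun y : Y => FlatMor.localDim ↥Y y) (e y')
  · refine iSup_le fun y => ?_
    obtain ⟨t'⟩ := ‹Nonempty ↥T'›
    obtain ⟨y', hy', -⟩ := Groth.Agent.Lib.helper5.OrbitLC.exists_of_isPullback sq y t'
      (Subsingleton.elim _ _)
    rw [← hy', ← key]
    exact le_iSup (fun y' : Y' => FlatMor.localDim ↥Y' y') y'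

variable {X S : Scheme.{u}} (u : X ⟶ S) [LocallyOfFiniteType u]

/-- the local fibre dimensions of a morphism of finite type with Noetherian source are bounded. -/
theorem exists_forall_fibreDimAt_lt [TopologicalSpace.NoetherianSpace ↥X] :
    ∃ N : ℕ, ∀ x : X, ¬ ((N : WithBot ℕ∞) ≤ FlatMor.fibreDimAt u x) := by
  let U : ℕ →o TopologicalSpace.Opens X :=
    ⟨fun j => ⟨{x | (j : WithBot ℕ∞) ≤ FlatMor.fibreDimAt u x}ᶜ,
      (Groth.Agent.Lib.helper5.FibreDimGE.isClosed_setOf_le_fibreDimAt u j).isOpen_compl⟩,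
     by
      intro i j hij x hx hj
      have h1 : ((i : ℕ) : WithBot ℕ∞) ≤ ((j : ℕ) : WithBot ℕ∞) := by exact_mod_cast hij
      have h2 : ((j : ℕ) : WithBot ℕ∞) ≤ FlatMor.fibreDimAt u x := hj
      exact hx (show ((i : ℕ) : WithBot ℕ∞) ≤ FlatMor.fibreDimAt u x from h1.trans h2)⟩
  obtain ⟨n, hn⟩ := WellFoundedGT.monotone_chain_condition U
  refine ⟨n, fun x hx => ?_⟩
  obtain ⟨d, hd⟩ := Groth.Agent.Lib.helper3.DimFibre.exists_nat_fibreDimAt u x
  have h1 := hn (max n (d + 1)) (le_max_left _ _)
  have h2 : x ∉ (U n : Set X) := fun h => h hx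
  rw [h1] at h2
  have h3 : ((max n (d + 1) : ℕ) : WithBot ℕ∞) ≤ FlatMor.fibreDimAt u x := by
    by_contra h
    exact h2 h
  rw [hd] at h3
  have h4 : max n (d + 1) ≤ d := by exact_mod_cast h3
  have := le_max_right n (d + 1)
  omega

/-- generic constancy of the fibre dimension. -/
theorem exists_open_dim_fiber_eq [IsIntegral S] [IsNoetherian S] [QuasiCompact u] :
    ∃ V : Set S, IsOpen V ∧ V.Nonempty ∧ ∀ s ∈ V,
      topologicalKrullDim ↥(u.fiber s) = topologicalKrullDim ↥(u.fiber (genericPoint S)) := by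
  classical
  haveI : IsLocallyNoetherian X := LocallyOfFiniteType.isLocallyNoetherian u
  haveI : CompactSpace ↥X := QuasiCompact.compactSpace_of_compactSpace u
  haveI : IsNoetherian X := {}
  haveI : LocallyOfFinitePresentation u :=
    LocallyOfFinitePresentation.iff_locallyOfFiniteType.2 inferInstance
  set η := genericPoint S with hη
  have hgen : ∀ U : Set S, IsOpen U → U.Nonempty → η ∈ U := by
    intro U hU hne
    exact ((genericPoint_spec S).mem_open_set_iff hU).2 (by simpa using hne)
  -- the sets `B_j`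
  have hB : ∀ j : ℕ, IsConstructible {s : S | (j : WithBot ℕ∞) ≤ topologicalKrullDim ↥(u.fiber s)} := by
    intro j
    have hE : IsConstructible {x : X | (j : WithBot ℕ∞) ≤ FlatMor.fibreDimAt u x} := by
      have hcl := Groth.Agent.Lib.helper5.FibreDimGE.isClosed_setOf_le_fibreDimAt u j
      have : IsConstructible {x : X | (j : WithBot ℕ∞) ≤ FlatMor.fibreDimAt u x}ᶜ :=
        IsRetrocompact.isConstructible hcl.isOpen_compl
          (fun V _ _ => TopologicalSpace.NoetherianSpace.isCompact _)
      exact this.of_compl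
    have := u.isConstructible_image hE
    convert this using 1
    ext s
    simp only [Set.mem_ofPred_eq, Set.mem_image]
    rw [Groth.Agent.Lib.helper5.FibreDimGE.le_dim_fiber_iff]
    constructor
    · rintro ⟨c, hc, hj⟩
      exact ⟨c, hj, hc⟩
    · rintro ⟨c, hj, hc⟩
      exact ⟨c, hc, hj⟩
  have hopen := fun j : ℕ =>
    Groth.Agent.Lib.helper3.FibreIrred.exists_isOpen_subset_of_isConstructible η hgen (hB j)
  obtain ⟨N, hN⟩ := exists_forall_fibreDimAt_lt u
  have hlt : ∀ s : S, ¬ ((N : WithBot ℕ∞) ≤ topologicalKrullDim ↥(u.fiber s)) := by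
    intro s hs
    rw [Groth.Agent.Lib.helper5.FibreDimGE.le_dim_fiber_iff] at hs
    obtain ⟨c, -, hc⟩ := hs
    exact hN c hc
  generalize hD : topologicalKrullDim ↥(u.fiber η) = D
  induction D using WithBot.recBotCoe with
  | bot =>
    have h0 : η ∉ {s : S | ((0 : ℕ) : WithBot ℕ∞) ≤ topologicalKrullDim ↥(u.fiber s)} := by
      simp only [Set.mem_ofPred_eq, hD]
      simp
    obtain ⟨V, hV, hηV, hVs⟩ := (hopen 0).2 h0
    refine ⟨V, hV, ⟨η, hηV⟩, fun s hs => ?_⟩
    have h1 : ¬ (((0 : ℕ) : WithBot ℕ∞) ≤ topologicalKrullDim ↥(u.fiber s)) := hVs hs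
    generalize topologicalKrullDim ↥(u.fiber s) = A at h1
    induction A using WithBot.recBotCoe with
    | bot => rfl
    | coe A =>
      exfalso
      apply h1
      have : (0 : ℕ∞) ≤ A := bot_le
      exact_mod_cast this
  | coe D =>
    induction D using ENat.recTopCoe with
    | top =>
      exfalso
      apply hlt η
      rw [hD]
      exact WithBot.coe_le_coe.2 le_top
    | coe d =>
      have h0 : η ∈ {s : S | ((d : ℕ) : WithBot ℕ∞) ≤ topologicalKrullDim ↥(u.fiber s)} := by
        simp only [Set.mem_ofPred_eq, hD]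
        exact le_rfl
      have h1 : η ∉ {s : S | ((d + 1 : ℕ) : WithBot ℕ∞) ≤ topologicalKrullDim ↥(u.fiber s)} := by
        simp only [Set.mem_ofPred_eq, hD]
        intro h
        have : d + 1 ≤ d := by exact_mod_cast h
        omega
      obtain ⟨V₁, hV₁, hηV₁, hV₁s⟩ := (hopen d).1 h0
      obtain ⟨V₂, hV₂, hηV₂, hV₂s⟩ := (hopen (d + 1)).2 h1
      refine ⟨V₁ ∩ V₂, hV₁.inter hV₂, ⟨η, hηV₁, hηV₂⟩, fun s hs => ?_⟩
      have h2 : ((d : ℕ) : WithBot ℕ∞) ≤ topologicalKrullDim ↥(u.fiber s) := hV₁s hs.1
      have h3 : ¬ (((d + 1 : ℕ) : WithBot ℕ∞) ≤ topologicalKrullDim ↥(u.fiber s)) := hV₂s hs.2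
      generalize topologicalKrullDim ↥(u.fiber s) = A at h2 h3
      induction A using WithBot.recBotCoe with
      | bot => exact absurd h2 (by simp)
      | coe A =>
        induction A using ENat.recTopCoe with
        | top => exact absurd (WithBot.coe_le_coe.2 le_top) h3
        | coe a =>
          have h2' : d ≤ a := by exact_mod_cast h2
          have h3' : ¬ (d + 1 ≤ a) := fun h => h3 (by exact_mod_cast h)
          have : a = d := by omega
          rw [this]

end Groth.Agent.Lib.helper5.FibreDimGeneric
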