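import Mathlib

set_option autoImplicit false
universe u
open TensorProduct

namespace Groth.Agent.Lib.helper5.FieldQuot

section Alg
variable {K B : Type u} [Field K] [CommRing B] [Algebra K B] (t : K →+* B)

/-- `B` with the `K`-algebra structure given by `t`. -/
def Bt (_ : K →+* B) : Type u := B

instance : CommRing (Bt t) := inferInstanceAs (CommRing B)
instance : Algebra K (Bt t) := t.toAlgebra

theorem algebraMap_Bt (a : K) : algebraMap K (Bt t) a = t a := rfl

/-- `b ↦ b ⊗ 1`. -/
def inL : B →+* Bt t ⊗[K] B := (Algebra.TensorProduct.includeLeftRingHom : Bt t →+* Bt t ⊗[K] B)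

/-- `b ↦ 1 ⊗ b`. -/
def inR : B →+* Bt t ⊗[K] B := (Algebra.TensorProduct.includeRight : B →ₐ[K] Bt t ⊗[K] B).toRingHom

/-- The identity `B → Bt t`. -/
def toBt (b : B) : Bt t := b

theorem inL_apply (b : B) : inL t b = (toBt t b) ⊗ₜ[K] (1 : B) := rfl
theorem inR_apply (b : B) : inR t b = (1 : Bt t) ⊗ₜ[K] b := rfl

theorem inR_algebraMap (a : K) : inR t (algebraMap K B a) = inL t (t a) := by
  rw [inR_apply, inL_apply, Algebra.algebraMap_eq_smul_one, ← TensorProduct.smul_tmul, Algebra.smul_def,
    mul_one]
  rfl

/-- Transitivity of the relation, in ring terms. -/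
def Trans (t : K →+* B) : Prop :=
  ∀ (A : Type u) [CommRing A] (h1 h2 : B →+* A), h1.comp (algebraMap K B) = h2.comp t →
    ∃ h3 : B →+* A, h3.comp t = h1.comp t ∧ h3.comp (algebraMap K B) = h2.comp (algebraMap K B)

theorem coeff_mem {ι : Type*} [Fintype ι] [DecidableEq ι] (b : Module.Basis ι K B) (x : ι → K)
    (hx : ∀ i, t (x i) = b i) (htr : Trans t) (a : K) (i : ι) :
    algebraMap K B (b.repr (t a) i) = t (b.repr (t a) i) := by
  obtain ⟨h3, h3t, h3s⟩ := htr (Bt t ⊗[K] B) (inR t) (inL t) (by ext a; exact inR_algebraMap t a)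
  have h3t' : ∀ a, h3 (t a) = inR t (t a) := fun a => RingHom.congr_fun h3t a
  have h3s' : ∀ a, h3 (algebraMap K B a) = inL t (algebraMap K B a) := fun a => RingHom.congr_fun h3s a
  let bb := Algebra.TensorProduct.basis (Bt t) b
  have e1 : bb.repr (h3 (t a)) i = toBt t (t (b.repr (t a) i)) := by
    rw [h3t', inR_apply, Algebra.TensorProduct.basis_repr_tmul]
    simp [algebraMap_Bt, toBt]
  have e2 : bb.repr (h3 (t a)) i = toBt t (algebraMap K B (b.repr (t a) i)) := by
    conv_lhs => rw [← b.sum_repr (t a)]
    rw [map_sum, map_sum, Finsupp.finsetSum_apply]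
    have : ∀ j, bb.repr (h3 (b.repr (t a) j • b j)) i =
        if j = i then toBt t (algebraMap K B (b.repr (t a) j)) else 0 := by
      intro j
      rw [Algebra.smul_def, map_mul, h3s', ← hx j, h3t', inL_apply, inR_apply,
        Algebra.TensorProduct.tmul_mul_tmul, mul_one, one_mul, Algebra.TensorProduct.basis_repr_tmul, hx j]
      simp [Finsupp.single_apply]
    simp [this]
  have := e1.symm.trans e2
  exact this.symm

/-- The subfield of `K` on which the two structures agree. -/
def eqField (t : K →+* B) : Subfield K where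
  carrier := {c | algebraMap K B c = t c}
  mul_mem' := fun {a b} ha hb => by
    change algebraMap K B (a * b) = t (a * b)
    rw [map_mul, map_mul, ha, hb]
  one_mem' := by
    change algebraMap K B 1 = t 1
    rw [map_one, map_one]
  add_mem' := fun {a b} ha hb => by
    change algebraMap K B (a + b) = t (a + b)
    rw [map_add, map_add, ha, hb]
  zero_mem' := by
    change algebraMap K B 0 = t 0
    rw [map_zero, map_zero]
  neg_mem' := fun {a} ha => by
    change algebraMap K B (-a) = t (-a)
    rw [map_neg, map_neg, ha]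
  inv_mem' := fun a ha => by
    change algebraMap K B a = t a at ha
    change algebraMap K B a⁻¹ = t a⁻¹
    by_cases h0 : a = 0
    · rw [h0, inv_zero, map_zero, map_zero]
    · have h1 : algebraMap K B a⁻¹ * algebraMap K B a = 1 := by
        rw [← map_mul, inv_mul_cancel₀ h0, map_one]
      have h2 : t a⁻¹ * t a = 1 := by
        rw [← map_mul, inv_mul_cancel₀ h0, map_one]
      calc algebraMap K B a⁻¹ = algebraMap K B a⁻¹ * (t a⁻¹ * t a) := by rw [h2, mul_one]
        _ = (algebraMap K B a⁻¹ * algebraMap K B a) * t a⁻¹ := by rw [ha]; ring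
        _ = t a⁻¹ := by rw [h1, one_mul]

theorem mem_eqField (c : K) : c ∈ eqField t ↔ algebraMap K B c = t c := Iff.rfl

/-- The hypotheses: `(algebraMap K B, t)` is a finite equivalence relation on `Spec K`, in ring terms. -/
structure EqvData (t : K →+* B) : Prop where
  refl : ∃ e : B →+* K, e.comp (algebraMap K B) = RingHom.id K ∧ e.comp t = RingHom.id K
  finite : Module.Finite K B
  mono : ∀ (A : Type u) [CommRing A] (h h' : B →+* A),
    h.comp (algebraMap K B) = h'.comp (algebraMap K B) → h.comp t = h'.comp t → h = h'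
  trans : Trans t

/-- `t(K)` spans `B` over `K`. -/
theorem span_range_eq_top (hd : EqvData t) : Submodule.span K (Set.range t) = ⊤ := by
  have := hd.finite
  let C : Subalgebra K B := Algebra.adjoin K (Set.range t)
  have hfin : Module.Finite C B := Module.Finite.of_restrictScalars_finite K C B
  have hepi : Algebra.IsEpi C B := by
    rw [Algebra.isEpi_iff_forall_one_tmul_eq]
    have key := hd.mono (B ⊗[C] B) (Algebra.TensorProduct.includeRight (R := C) (A := B) (B := B)).toRingHom
      (Algebra.TensorProduct.includeLeftRingHom) ?_ ?_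
    · intro b
      exact RingHom.congr_fun key b
    · ext a
      change (1 : B) ⊗ₜ[C] (algebraMap K B a) = (algebraMap K B a) ⊗ₜ[C] (1 : B)
      have h1 : algebraMap K B a = (⟨algebraMap K B a, Subalgebra.algebraMap_mem C a⟩ : C) • (1 : B) := by
        rw [Algebra.smul_def, mul_one]; rfl
      conv_lhs => rw [h1]
      conv_rhs => rw [h1]
      rw [TensorProduct.smul_tmul]
    · ext a
      change (1 : B) ⊗ₜ[C] (t a) = (t a) ⊗ₜ[C] (1 : B)
      have h1 : t a = (⟨t a, Algebra.subset_adjoin ⟨a, rfl⟩⟩ : C) • (1 : B) := by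
        rw [Algebra.smul_def, mul_one]; rfl
      conv_lhs => rw [h1]
      conv_rhs => rw [h1]
      rw [TensorProduct.smul_tmul]
  have hsurj := Algebra.isEpi_iff_surjective_algebraMap_of_finite.1 hepi
  have hC : C = ⊤ := by
    rw [eq_top_iff]
    intro b _
    obtain ⟨c, rfl⟩ := hsurj b
    exact c.2
  have h2 : Subalgebra.toSubmodule C = Submodule.span K (Set.range t) := by
    rw [Algebra.adjoin_eq_span]
    congr 1
    have : (Set.range t : Set B) = ((MonoidHom.mrange (t : K →* B) : Submonoid B) : Set B) := rfl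
    rw [this, Submonoid.closure_eq]
  rw [← h2, hC]
  rfl

/-- `t` as a `k`-algebra map, `k = eqField t`. -/
def tAlg : K →ₐ[eqField t] B :=
  { t with commutes' := fun c => ((mem_eqField t c.1).1 c.2).symm }

theorem tAlg_apply (a : K) : tAlg t a = t a := rfl

/-- The comparison map `K ⊗[k] K → B`, `a ⊗ b ↦ s a * t b`. -/
def psi : K ⊗[eqField t] K →ₐ[K] B :=
  Algebra.TensorProduct.lift (Algebra.ofId K B) (tAlg t) (fun _ _ => Commute.all _ _)

theorem psi_tmul (a b : K) : psi t (a ⊗ₜ b) = algebraMap K B a * t b := rfl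

theorem exists_basis (hd : EqvData t) :
    ∃ (ι : Type u) (_ : Fintype ι) (_ : DecidableEq ι) (b : Module.Basis ι K B) (x : ι → K),
      ∀ i, t (x i) = b i := by
  have := hd.finite
  obtain ⟨bs, hbs, hspan, hli⟩ := exists_linearIndependent K (Set.range t)
  rw [span_range_eq_top t hd] at hspan
  let b : Module.Basis bs K B := Module.Basis.mk hli (by rw [Subtype.range_coe, hspan])
  have hfin : Finite bs := Module.Finite.finite_basis b
  have := Fintype.ofFinite bs
  choose x hx using fun i : bs => hbs i.2
  refine ⟨bs, inferInstance, Classical.decEq _, b, x, fun i => ?_⟩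
  rw [hx, Module.Basis.mk_apply]

theorem exists_span (hd : EqvData t) :
    ∃ (ι : Type u) (_ : Fintype ι) (x : ι → K),
      Submodule.span (eqField t) (Set.range x) = ⊤ ∧ Module.finrank K B = Fintype.card ι := by
  have := hd.finite
  obtain ⟨ι, _, _, b, x, hx⟩ := exists_basis t hd
  obtain ⟨e, hes, het⟩ := hd.refl
  have hes' : ∀ a, e (algebraMap K B a) = a := fun a => RingHom.congr_fun hes a
  have het' : ∀ a, e (t a) = a := fun a => RingHom.congr_fun het a
  refine ⟨ι, inferInstance, x, ?_, Module.finrank_eq_card_basis b⟩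
  rw [eq_top_iff]
  intro a _
  have h1 : a = ∑ i, b.repr (t a) i * x i := by
    conv_lhs => rw [← het' a, ← b.sum_repr (t a), map_sum]
    refine Finset.sum_congr rfl (fun i _ => ?_)
    rw [Algebra.smul_def, map_mul, hes', ← hx i, het']
  rw [h1]
  refine Submodule.sum_mem _ (fun i _ => ?_)
  have h2 : b.repr (t a) i * x i =
      (⟨b.repr (t a) i, (mem_eqField t _).2 (coeff_mem t b x hx hd.trans a i)⟩ : eqField t) • x i := rfl
  rw [h2]
  exact Submodule.smul_mem _ _ (Submodule.subset_span ⟨i, rfl⟩)

/-- `K` is finite over `k`. -/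
theorem finite_eqField (hd : EqvData t) : Module.Finite (eqField t) K := by
  obtain ⟨ι, _, x, hspan, -⟩ := exists_span t hd
  classical
  exact ⟨⟨(Finset.univ.image x), by
    rw [Finset.coe_image, Finset.coe_univ, Set.image_univ]; exact hspan⟩⟩

theorem psi_bijective (hd : EqvData t) : Function.Bijective (psi t) := by
  have := hd.finite
  obtain ⟨ι, _, x, hspan, h2⟩ := exists_span t hd
  have hfin : Module.Finite (eqField t) K := finite_eqField t hd
  have hrank : Module.finrank (eqField t) K ≤ Fintype.card ι := by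
    have h1 := finrank_range_le_card (R := eqField t) x
    rwa [Set.finrank, hspan, finrank_top] at h1
  have hsurj : Function.Surjective (psi t) := by
    change Function.Surjective (psi t).toLinearMap
    rw [← LinearMap.range_eq_top (f := (psi t).toLinearMap), eq_top_iff, ← span_range_eq_top t hd,
      Submodule.span_le]
    rintro _ ⟨a, rfl⟩
    exact ⟨1 ⊗ₜ a, by rw [AlgHom.toLinearMap_apply, psi_tmul, map_one, one_mul]⟩
  refine ⟨?_, hsurj⟩
  have h1 : Module.finrank K (K ⊗[eqField t] K) = Module.finrank (eqField t) K :=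
    Module.finrank_baseChange
  have h3 : Module.finrank K B ≤ Module.finrank K (K ⊗[eqField t] K) :=
    LinearMap.finrank_le_finrank_of_surjective (f := (psi t).toLinearMap) hsurj
  have h4 : Module.finrank K (K ⊗[eqField t] K) = Module.finrank K B := by omega
  exact (LinearMap.injective_iff_surjective_of_finrank_eq_finrank h4 (f := (psi t).toLinearMap)).2 hsurj

/-- Main algebraic result: two maps out of `K` agreeing on `k` are related. -/
theorem exists_hom (hd : EqvData t) (A : Type u) [CommRing A] (f g : K →+* A)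
    (hfg : ∀ c : K, algebraMap K B c = t c → f c = g c) :
    ∃ h : B →+* A, h.comp t = f ∧ h.comp (algebraMap K B) = g := by
  let _ : Algebra K A := g.toAlgebra
  let f' : K →ₐ[eqField t] A := { f with commutes' := fun c => hfg c.1 c.2 }
  let g' : K →ₐ[eqField t] A := { g with commutes' := fun c => rfl }
  let E : (K ⊗[eqField t] K) ≃ₐ[K] B := AlgEquiv.ofBijective (psi t) (psi_bijective t hd)
  let pm : K ⊗[eqField t] K →ₐ[eqField t] A := Algebra.TensorProduct.productMap g' f'
  refine ⟨pm.toRingHom.comp E.symm.toRingHom, ?_, ?_⟩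
  · ext a
    have h1 : E.symm (t a) = 1 ⊗ₜ a := by
      rw [AlgEquiv.symm_apply_eq]
      change t a = psi t (1 ⊗ₜ a)
      rw [psi_tmul, map_one, one_mul]
    change pm (E.symm (t a)) = f a
    rw [h1]
    change g' 1 * f' a = f a
    rw [map_one, one_mul]
    rfl
  · ext a
    have h1 : E.symm (algebraMap K B a) = a ⊗ₜ 1 := by
      rw [AlgEquiv.symm_apply_eq]
      change algebraMap K B a = psi t (a ⊗ₜ 1)
      rw [psi_tmul, map_one, mul_one]
    change pm (E.symm (algebraMap K B a)) = g a
    rw [h1]
    change g' a * f' 1 = g a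
    rw [map_one, mul_one]
    rfl

end Alg
end Groth.Agent.Lib.helper5.FieldQuot
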