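import Groth.Agent.Lib.Helper5.FieldQuotChart
import Groth.Agent.Lib.Helper15.AlgSpDiag

set_option autoImplicit false
universe u
open CategoryTheory CategoryTheory.Limits AlgebraicGeometry AlgSp Opposite

namespace Groth.Agent.Lib.helper5.FieldQuot

variable {S : Scheme.{u}}

/-- A morphism to a quasi-separated algebraic space from a scheme which is quasi-compact over the base is
quasi-compact. -/
theorem repWith_quasiCompact_of_quasiCompact_hom {Y : Sp S} (hY : IsAlgSpace Y) (hqs : IsQuasiSeparatedSp Y)
    (U : Over S) (hU : QuasiCompact U.hom) (p : (yon S).obj U ⟶ Y) : RepWith @QuasiCompact p := by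
  refine ⟨hY.representable_from_yon p, ?_⟩
  intro T P g fst snd sq
  show QuasiCompact snd.left
  obtain ⟨fst', rfl⟩ := (yon S).map_surjective fst
  obtain ⟨E, gE, fstE, sqE⟩ := hqs.rep (prodComparison (yon S) U T ≫ prod.map p g)
  have hqc : QuasiCompact gE.left := hqs.2 _ fstE gE sqE
  have sq' : IsPullback fstE ((yon S).map gE ≫ prodComparison (yon S) U T) (Limits.diag Y)
      (prod.map p g) :=
    sqE.of_iso (Iso.refl _) (Iso.refl _) (asIso (prodComparison (yon S) U T)) (Iso.refl _)
      (by simp) (by simp) (by simp) (by simp)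
  have sq'' := Groth.Agent.Lib.helper15.AlgSpDiag.isPullback_of_isPullback_diag sq'
  have e1 : ((yon S).map gE ≫ prodComparison (yon S) U T) ≫ prod.fst =
      (yon S).map (gE ≫ prod.fst) := by
    rw [Category.assoc, prodComparison_fst, Functor.map_comp]
  have e2 : ((yon S).map gE ≫ prodComparison (yon S) U T) ≫ prod.snd =
      (yon S).map (gE ≫ prod.snd) := by
    rw [Category.assoc, prodComparison_snd, Functor.map_comp]
  rw [e1, e2] at sq''
  let e : (yon S).obj P ≅ (yon S).obj E := sq.isoIsPullback _ _ sq''
  let e' : P ≅ E := (yon S).preimageIso e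
  have he2 : e'.hom ≫ gE ≫ prod.snd = snd := by
    apply (yon S).map_injective
    rw [Functor.map_comp, Functor.preimageIso_hom, Functor.map_preimage]
    exact sq.isoIsPullback_hom_snd _ _ sq''
  have hprod : IsPullback (prod.fst : U ⨯ T ⟶ U).left (prod.snd : U ⨯ T ⟶ T).left U.hom T.hom := by
    refine IsPullback.of_iso_pullback ⟨by rw [Over.w, Over.w]⟩ (Over.prodLeftIsoPullback U T) ?_ ?_
    · exact Over.prodLeftIsoPullback_hom_fst U T
    · exact Over.prodLeftIsoPullback_hom_snd U T
  have hsndqc : QuasiCompact (prod.snd : U ⨯ T ⟶ T).left :=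
    MorphismProperty.of_isPullback (P := @QuasiCompact) hprod hU
  have : snd.left = e'.hom.left ≫ gE.left ≫ (prod.snd : U ⨯ T ⟶ T).left := by
    rw [← Over.comp_left, ← Over.comp_left, he2]
  rw [this]
  infer_instance

/-- Any morphism from the spectrum of a field is quasi-compact. -/
theorem quasiCompact_of_field {K : Type u} [Field K] {Y : Scheme.{u}} (f : Spec (CommRingCat.of K) ⟶ Y) :
    QuasiCompact f := by
  constructor
  intro W _ _
  have : Subsingleton ↥(Spec (CommRingCat.of K)) := inferInstanceAs (Subsingleton (PrimeSpectrum K))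
  exact (Set.subsingleton_of_subsingleton.finite).isCompact

/-- Field points of a quasi-separated algebraic space are quasi-compact. -/
theorem repWith_quasiCompact_fieldPt {Y : Sp S} (hY : IsAlgSpace Y) (hqs : IsQuasiSeparatedSp Y)
    (q : FieldPt Y) : RepWith @QuasiCompact q.toHom :=
  repWith_quasiCompact_of_quasiCompact_hom hY hqs q.pt (quasiCompact_of_field q.str) q.toHom

end Groth.Agent.Lib.helper5.FieldQuot
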