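import Mathlib

/-!
# Flat + finite type + formally unramified ⇒ formally étale (helper5)

Ring-level: `formallyEtale_of_flat_of_formallyUnramified`.
-/

set_option autoImplicit false
universe u

open TensorProduct

namespace Groth.Agent.Lib.helper5.FlatUnram

section R1

variable {C : Type u} [CommRing C] (I : Ideal C) {A : Type u} [CommRing A] [Algebra C A]

/-- elements of `I A` are killed by `I` when `I ^ 2 = 0` -/
lemma mul_eq_zero_of_mem_map (hI : I ^ 2 = ⊥) {x : C} (hx : x ∈ I) {y : A}
    (hy : y ∈ I.map (algebraMap C A)) : algebraMap C A x * y = 0 := by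
  induction hy using Submodule.span_induction with
  | mem y hy =>
    obtain ⟨x', hx', rfl⟩ := hy
    rw [← map_mul]
    have : x * x' ∈ I ^ 2 := by
      rw [pow_two]; exact Ideal.mul_mem_mul hx hx'
    rw [hI] at this
    rw [Ideal.mem_bot.1 this, map_zero]
  | zero => simp
  | add a b _ _ ha hb => rw [mul_add, ha, hb, add_zero]
  | smul a b _ hb => rw [smul_eq_mul, mul_left_comm, hb, mul_zero]

/-- A flat algebra which is an isomorphism modulo a square-zero ideal is an isomorphism. -/
theorem bijective_algebraMap_of_flat (hI : I ^ 2 = ⊥) [Module.Flat C A] (ψ : A →ₐ[C] C ⧸ I)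
    (hψ : ∀ a, ψ a = 0 → a ∈ I.map (algebraMap C A)) : Function.Bijective (algebraMap C A) := by
  have key1 : ∀ a : A, ∃ c : C, a - algebraMap C A c ∈ I.map (algebraMap C A) := by
    intro a
    obtain ⟨c, hc⟩ := Ideal.Quotient.mk_surjective (ψ a)
    refine ⟨c, hψ _ ?_⟩
    rw [map_sub, ψ.commutes, ← hc]
    exact sub_self _
  have key2 : ∀ y ∈ I.map (algebraMap C A), ∃ x ∈ I, y = algebraMap C A x := by
    intro y hy
    induction hy using Submodule.span_induction with
    | mem y hy =>
      obtain ⟨x', hx', rfl⟩ := hy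
      exact ⟨x', hx', rfl⟩
    | zero => exact ⟨0, I.zero_mem, (map_zero _).symm⟩
    | add a b _ _ ha hb =>
      obtain ⟨xa, hxa, rfl⟩ := ha
      obtain ⟨xb, hxb, rfl⟩ := hb
      exact ⟨xa + xb, I.add_mem hxa hxb, (map_add _ _ _).symm⟩
    | smul a b _ hb =>
      obtain ⟨x, hx, rfl⟩ := hb
      obtain ⟨c, hc⟩ := key1 a
      refine ⟨c * x, I.mul_mem_left c hx, ?_⟩
      have h0 := mul_eq_zero_of_mem_map I hI hx hc
      rw [smul_eq_mul, map_mul]
      have : a = algebraMap C A c + (a - algebraMap C A c) := by ring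
      rw [this, add_mul, mul_comm (a - _), h0, add_zero]
  constructor
  · rw [injective_iff_map_eq_zero]
    intro c hc
    have hcI : c ∈ I := by
      have h1 : ψ (algebraMap C A c) = 0 := by rw [hc, map_zero]
      rw [ψ.commutes] at h1
      exact Ideal.Quotient.eq_zero_iff_mem.mp h1
    -- flatness
    have hinj := Module.Flat.lTensor_preserves_injective_linearMap (M := A) (Submodule.subtype I)
      Subtype.val_injective
    have ht : ((1 : A) ⊗ₜ[C] (⟨c, hcI⟩ : I)) = 0 := by
      apply hinj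
      rw [map_zero, LinearMap.lTensor_tmul]
      apply (TensorProduct.rid C A).injective
      rw [map_zero, TensorProduct.rid_tmul]
      show c • (1 : A) = 0
      rw [Algebra.smul_def, mul_one, hc]
    -- the map to the cotangent space
    let Φ : A ⊗[C] I →ₗ[C] I.Cotangent :=
      TensorProduct.lift (LinearMap.mk₂ C (fun (a : A) (x : I) => ψ a • I.toCotangent x)
        (fun a a' x => by rw [map_add, add_smul])
        (fun c a x => by rw [map_smul, smul_assoc])
        (fun a x x' => by rw [map_add, smul_add])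
        (fun c a x => by
          rw [map_smul, ← algebraMap_smul (C ⧸ I) c (I.toCotangent x), smul_smul, mul_comm,
            ← smul_smul, algebraMap_smul]))
    have hΦ : Φ ((1 : A) ⊗ₜ[C] (⟨c, hcI⟩ : I)) = I.toCotangent ⟨c, hcI⟩ := by
      simp [Φ]
    rw [ht, map_zero] at hΦ
    have h2 : c ∈ I ^ 2 := (Ideal.toCotangent_eq_zero I ⟨c, hcI⟩).1 hΦ.symm
    rw [hI] at h2
    exact Ideal.mem_bot.1 h2
  · intro a
    obtain ⟨c, hc⟩ := key1 a
    obtain ⟨x, -, hx⟩ := key2 _ hc
    exact ⟨c + x, by rw [map_add, ← hx]; ring⟩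

end R1

section R2

variable {C : Type u} [CommRing C] (I : Ideal C) {A : Type u} [CommRing A] [Algebra C A]

/-- The kernel of a `C`-algebra map `A ⟶ C ⧸ I` is idempotent modulo `I A` for `A` formally
unramified. -/
lemma ker_le_sq_sup [Algebra.FormallyUnramified C A] (p : A →ₐ[C] C ⧸ I) :
    RingHom.ker (p : A →+* C ⧸ I) ≤
      RingHom.ker (p : A →+* C ⧸ I) ^ 2 ⊔ I.map (algebraMap C A) := by
  set K := RingHom.ker (p : A →+* C ⧸ I) with hK
  set IA := I.map (algebraMap C A) with hIA
  let Q := A ⧸ (K ^ 2 ⊔ IA)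
  let N : Ideal Q := K.map (Ideal.Quotient.mk (K ^ 2 ⊔ IA))
  have hN : IsNilpotent N := by
    refine ⟨2, ?_⟩
    rw [Ideal.zero_eq_bot, eq_bot_iff]
    show (K.map (Ideal.Quotient.mk (K ^ 2 ⊔ IA))) ^ 2 ≤ ⊥
    rw [← Ideal.map_pow, Ideal.map_le_iff_le_comap]
    intro x hx
    rw [Ideal.mem_comap, Ideal.mem_bot, Ideal.Quotient.eq_zero_iff_mem]
    exact Ideal.mem_sup_left hx
  let q : A →ₐ[C] Q := Ideal.Quotient.mkₐ C (K ^ 2 ⊔ IA)
  let s : C ⧸ I →ₐ[C] Q := Ideal.Quotient.liftₐ I (Algebra.ofId C Q) (by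
    intro x hx
    show algebraMap C Q x = 0
    have : algebraMap C Q x = Ideal.Quotient.mk (K ^ 2 ⊔ IA) (algebraMap C A x) := rfl
    rw [this, Ideal.Quotient.eq_zero_iff_mem]
    exact Ideal.mem_sup_right (Ideal.mem_map_of_mem _ hx))
  have hqq : q = s.comp p := by
    refine Algebra.FormallyUnramified.ext N hN ?_
    intro a
    obtain ⟨c, hc⟩ := Ideal.Quotient.mk_surjective (p a)
    rw [Ideal.Quotient.eq]
    have h1 : (s.comp p) a = q (algebraMap C A c) := by
      show s (p a) = _
      rw [← hc]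
      show s (algebraMap C (C ⧸ I) c) = _
      rw [s.commutes, q.commutes]
    rw [h1, ← map_sub]
    refine Ideal.mem_map_of_mem _ ?_
    show a - algebraMap C A c ∈ RingHom.ker (p : A →+* C ⧸ I)
    rw [RingHom.mem_ker, map_sub]
    show p a - p (algebraMap C A c) = 0
    rw [p.commutes, ← hc]
    exact sub_self _
  intro x hx
  have h2 : q x = 0 := by
    rw [hqq]
    show s (p x) = 0
    have : p x = 0 := hx
    rw [this, map_zero]
  exact Ideal.Quotient.eq_zero_iff_mem.mp h2

/-- The kernel of a `C`-algebra map `A ⟶ C ⧸ I` is finitely generated modulo `I A` for `A` of finite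
type. -/
lemma exists_fg_ker [Algebra.FiniteType C A] (p : A →ₐ[C] C ⧸ I) :
    ∃ K₀ : Ideal A, K₀.FG ∧ K₀ ≤ RingHom.ker (p : A →+* C ⧸ I) ∧
      RingHom.ker (p : A →+* C ⧸ I) ≤ K₀ ⊔ I.map (algebraMap C A) := by
  obtain ⟨s, hs⟩ := (Algebra.FiniteType.out : (⊤ : Subalgebra C A).FG)
  choose cf hcf using fun a => Ideal.Quotient.mk_surjective (p a)
  let K₀ : Ideal A := Ideal.span ((fun a => a - algebraMap C A (cf a)) '' (s : Set A))
  have hK₀le : K₀ ≤ RingHom.ker (p : A →+* C ⧸ I) := by
    rw [Ideal.span_le]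
    rintro _ ⟨a, -, rfl⟩
    show p (a - algebraMap C A (cf a)) = 0
    rw [map_sub, p.commutes, ← hcf a]
    exact sub_self _
  have claim : ∀ a ∈ Algebra.adjoin C (s : Set A), ∃ c : C, a - algebraMap C A c ∈ K₀ := by
    intro a ha
    induction ha using Algebra.adjoin_induction with
    | mem a ha => exact ⟨cf a, Ideal.subset_span ⟨a, ha, rfl⟩⟩
    | algebraMap r => exact ⟨r, by rw [sub_self]; exact K₀.zero_mem⟩
    | add a b _ _ ha hb =>
      obtain ⟨ca, hca⟩ := ha
      obtain ⟨cb, hcb⟩ := hb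
      refine ⟨ca + cb, ?_⟩
      have : a + b - algebraMap C A (ca + cb) =
          (a - algebraMap C A ca) + (b - algebraMap C A cb) := by rw [map_add]; ring
      rw [this]
      exact K₀.add_mem hca hcb
    | mul a b _ _ ha hb =>
      obtain ⟨ca, hca⟩ := ha
      obtain ⟨cb, hcb⟩ := hb
      refine ⟨ca * cb, ?_⟩
      have : a * b - algebraMap C A (ca * cb) =
          a * (b - algebraMap C A cb) + algebraMap C A cb * (a - algebraMap C A ca) := by
        rw [map_mul]; ring
      rw [this]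
      exact K₀.add_mem (K₀.mul_mem_left _ hcb) (K₀.mul_mem_left _ hca)
  refine ⟨K₀, Submodule.fg_span ((s.finite_toSet).image _), hK₀le, ?_⟩
  intro x hx
  obtain ⟨c, hc⟩ := claim x (by rw [hs]; trivial)
  have h1 : algebraMap C A c ∈ RingHom.ker (p : A →+* C ⧸ I) := by
    have : algebraMap C A c = x - (x - algebraMap C A c) := by ring
    rw [this]
    exact Ideal.sub_mem _ hx (hK₀le hc)
  have h2 : c ∈ I := by
    have : p (algebraMap C A c) = 0 := h1
    rw [p.commutes] at this
    exact Ideal.Quotient.eq_zero_iff_mem.mp this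
  have : x = (x - algebraMap C A c) + algebraMap C A c := by ring
  rw [this]
  exact Ideal.add_mem _ (Ideal.mem_sup_left hc) (Ideal.mem_sup_right (Ideal.mem_map_of_mem _ h2))

/-- There is an idempotent `e` with `ker p = (e) + I A`. -/
lemma exists_idempotent (hI : I ^ 2 = ⊥) [Algebra.FormallyUnramified C A] [Algebra.FiniteType C A]
    (p : A →ₐ[C] C ⧸ I) :
    ∃ e : A, IsIdempotentElem e ∧ e ∈ RingHom.ker (p : A →+* C ⧸ I) ∧
      RingHom.ker (p : A →+* C ⧸ I) ≤ Ideal.span {e} ⊔ I.map (algebraMap C A) := by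
  set K := RingHom.ker (p : A →+* C ⧸ I) with hK
  set IA := I.map (algebraMap C A) with hIA
  have hIAK : IA ≤ K := by
    rw [hIA, Ideal.map_le_iff_le_comap]
    intro x hx
    show p (algebraMap C A x) = 0
    rw [p.commutes]
    exact Ideal.Quotient.eq_zero_iff_mem.mpr hx
  have hIA2 : IA ^ 2 = ⊥ := by
    rw [hIA, ← Ideal.map_pow, hI, Ideal.map_bot]
  obtain ⟨K₀, hK₀fg, hK₀le, hKle⟩ := exists_fg_ker I p
  have hsq := ker_le_sq_sup I p
  let m : A →+* A ⧸ IA := Ideal.Quotient.mk IA
  have hm : Function.Surjective m := Ideal.Quotient.mk_surjective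
  have hIAm : IA.map m = ⊥ := Ideal.map_quotient_self IA
  have hKbar : K.map m = K₀.map m := by
    apply le_antisymm
    · refine (Ideal.map_mono hKle).trans ?_
      rw [Ideal.map_sup, hIAm, sup_bot_eq]
    · exact Ideal.map_mono hK₀le
  have hfg : (K.map m).FG := by
    rw [hKbar]
    exact hK₀fg.map m
  have hidem : IsIdempotentElem (K.map m) := by
    show K.map m * K.map m = K.map m
    apply le_antisymm Ideal.mul_le_left
    calc K.map m ≤ (K ^ 2 ⊔ IA).map m := Ideal.map_mono hsq
      _ = K.map m * K.map m := by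
        rw [Ideal.map_sup, hIAm, sup_bot_eq, Ideal.map_pow, pow_two]
  obtain ⟨ebar, hebar, hKe⟩ := (Ideal.isIdempotentElem_iff_of_fg _ hfg).1 hidem
  obtain ⟨e, he, hme⟩ := exists_isIdempotentElem_eq_of_ker_isNilpotent m (by
    intro x hx
    rw [Ideal.mk_ker] at hx
    refine ⟨2, ?_⟩
    have : x ^ 2 ∈ IA ^ 2 := Ideal.pow_mem_pow hx 2
    rw [hIA2] at this
    exact Ideal.mem_bot.1 this) ebar (hm ebar) hebar
  have hcomap : ∀ x, m x ∈ K.map m → x ∈ K := by
    intro x hx
    have : x ∈ (K.map m).comap m := hx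
    rw [Ideal.comap_map_of_surjective m hm, ← RingHom.ker_eq_comap_bot, Ideal.mk_ker,
      sup_eq_left.2 hIAK] at this
    exact this
  refine ⟨e, he, hcomap e ?_, ?_⟩
  · rw [hme, hKe]
    exact Ideal.mem_span_singleton_self ebar
  · intro x hx
    have h1 : m x ∈ K.map m := Ideal.mem_map_of_mem m hx
    rw [hKe, Ideal.mem_span_singleton'] at h1
    obtain ⟨rbar, hr⟩ := h1
    obtain ⟨r, rfl⟩ := hm rbar
    have h2 : x - r * e ∈ IA := by
      rw [← Ideal.mk_ker (I := IA), RingHom.mem_ker]
      show m (x - r * e) = 0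
      rw [map_sub, map_mul, hme, hr, sub_self]
    have : x = r * e + (x - r * e) := by ring
    rw [this]
    exact Ideal.add_mem _ (Ideal.mem_sup_left (Ideal.mul_mem_left _ r (Ideal.mem_span_singleton_self e)))
      (Ideal.mem_sup_right h2)

/-- Lifting `C`-algebra maps `A ⟶ C ⧸ I` to `A ⟶ C` for `A` flat, of finite type and formally
unramified over `C`. -/
theorem exists_lift (hI : I ^ 2 = ⊥) [Module.Flat C A] [Algebra.FormallyUnramified C A]
    [Algebra.FiniteType C A] (p : A →ₐ[C] C ⧸ I) :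
    ∃ π : A →ₐ[C] C, (Ideal.Quotient.mkₐ C I).comp π = p := by
  obtain ⟨e, he, heK, hKe⟩ := exists_idempotent I hI p
  let J : Ideal A := Ideal.span {e}
  let A₁ := A ⧸ J
  -- `A₁` is a direct summand of `A`, hence flat
  let i₀ : A₁ →ₗ[A] A := Submodule.liftQ J (LinearMap.mulLeft A (1 - e)) (by
    rw [Ideal.span_le]  -- J = span {e}
    intro x hx
    rw [Set.mem_singleton_iff] at hx
    subst hx
    show (1 - x) * x = 0
    rw [sub_mul, one_mul, he.eq, sub_self])
  let i : A₁ →ₗ[C] A := i₀.restrictScalars C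
  let r : A →ₗ[C] A₁ := (Ideal.Quotient.mkₐ C J).toLinearMap
  have hri : r.comp i = LinearMap.id := by
    ext x
    obtain ⟨a, rfl⟩ := Ideal.Quotient.mk_surjective x
    show Ideal.Quotient.mk J ((1 - e) * a) = Ideal.Quotient.mk J a
    rw [Ideal.Quotient.eq]
    have : (1 - e) * a - a = -a * e := by ring
    rw [this]
    exact Ideal.mul_mem_left _ _ (Ideal.mem_span_singleton_self e)
  have hflat : Module.Flat C A₁ := Module.Flat.of_retract i r hri
  let ψ : A₁ →ₐ[C] C ⧸ I := Ideal.Quotient.liftₐ J p (by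
    intro x hx
    have : J ≤ RingHom.ker (p : A →+* C ⧸ I) := by
      rw [Ideal.span_le]
      intro y hy
      rw [Set.mem_singleton_iff] at hy
      subst hy
      exact heK
    exact this hx)
  have hψ : ∀ a₁, ψ a₁ = 0 → a₁ ∈ I.map (algebraMap C A₁) := by
    intro a₁ ha₁
    obtain ⟨a, rfl⟩ := Ideal.Quotient.mk_surjective a₁
    have haK : a ∈ RingHom.ker (p : A →+* C ⧸ I) := ha₁
    obtain ⟨y, hy, z, hz, rfl⟩ := Submodule.mem_sup.1 (hKe haK)
    have h1 : Ideal.Quotient.mk J (y + z) = Ideal.Quotient.mk J z := by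
      rw [map_add, Ideal.Quotient.eq_zero_iff_mem.mpr hy, zero_add]
    rw [h1]
    have h2 : I.map (algebraMap C A₁) = (I.map (algebraMap C A)).map (Ideal.Quotient.mk J) := by
      rw [Ideal.map_map]
      rfl
    rw [h2]
    exact Ideal.mem_map_of_mem _ hz
  have hbij := bijective_algebraMap_of_flat I hI ψ hψ
  let e₁ : C ≃ₐ[C] A₁ := AlgEquiv.ofBijective (Algebra.ofId C A₁) hbij
  refine ⟨(e₁.symm : A₁ →ₐ[C] C).comp (Ideal.Quotient.mkₐ C J), ?_⟩
  ext a
  show Ideal.Quotient.mk I (e₁.symm (Ideal.Quotient.mk J a)) = p a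
  set c := e₁.symm (Ideal.Quotient.mk J a) with hc
  have h1 : algebraMap C A₁ c = Ideal.Quotient.mk J a := by
    have : e₁ c = Ideal.Quotient.mk J a := by rw [hc, AlgEquiv.apply_symm_apply]
    exact this
  have h2 : ψ (algebraMap C A₁ c) = Ideal.Quotient.mk I c := ψ.commutes c
  rw [← h2, h1]
  rfl

end R2

/-- A flat, finite type, formally unramified algebra is formally smooth. -/
theorem formallySmooth_of_flat_of_formallyUnramified (R B : Type u) [CommRing R] [CommRing B]
    [Algebra R B] [Module.Flat R B] [Algebra.FormallyUnramified R B] [Algebra.FiniteType R B] :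
    Algebra.FormallySmooth R B := by
  refine Algebra.FormallySmooth.of_comp_surjective fun C _ _ I hI f => ?_
  let p : C ⊗[R] B →ₐ[C] C ⧸ I :=
    Algebra.TensorProduct.lift (Algebra.ofId C (C ⧸ I)) f (fun _ _ => Commute.all _ _)
  obtain ⟨π, hπ⟩ := exists_lift I hI p
  refine ⟨(π.restrictScalars R).comp Algebra.TensorProduct.includeRight, ?_⟩
  ext b
  have := congrArg (fun k => k ((1 : C) ⊗ₜ[R] b)) hπ
  simpa [p] using this

/-- A flat, finite type, formally unramified algebra is formally étale. -/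
theorem formallyEtale_of_flat_of_formallyUnramified (R B : Type u) [CommRing R] [CommRing B]
    [Algebra R B] [Module.Flat R B] [Algebra.FormallyUnramified R B] [Algebra.FiniteType R B] :
    Algebra.FormallyEtale R B :=
  have := formallySmooth_of_flat_of_formallyUnramified R B
  Algebra.FormallyEtale.of_formallyUnramified_and_formallySmooth

end Groth.Agent.Lib.helper5.FlatUnram
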