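import Mathlib
import Groth.Agent.Lib.Helper5.FppfBoot5
import Groth.Agent.Lib.Helper10.AlgSpPoints

/-!
# Fppf descent of algebraic spaces along an fppf covering of algebraic spaces (helper5)

* `locP_cofan_desc`: `LocP P` for a map from a coproduct of algebraic spaces to a scheme can be checked on the
  summands.
* `isAlgSpace_of_fppf_cover` (S10138).
-/

set_option autoImplicit false
universe u

open AlgebraicGeometry CategoryTheory CategoryTheory.Limits

namespace Groth.Agent.Lib.helper5.FppfBoot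

open AlgSp Groth.Agent.Lib.helper5.Coprod

variable {S : Scheme.{u}}

/-- `LocP P` of a map from a coproduct of algebraic spaces to a representable sheaf can be checked on the
summands. -/
theorem locP_cofan_desc {P : MorphismProperty Scheme.{u}}
    (hP : Groth.Agent.Lib.helper5.LocPBC.LocPData P) [IsZariskiLocalAtSource P]
    {κ : Type u} (Y : κ → Sp S) (hY : ∀ k, IsAlgSpace (Y k)) (c : Cofan Y) (hc : IsColimit c)
    {T : Over S} (f : c.pt ⟶ (yon S).obj T) (hf : ∀ k, LocP P (c.inj k ≫ f)) : LocP P f := by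
  choose U p hpe hps using fun k => (hY k).atlas
  let hYon := isColimitYonSigma U
  let π : (yon S).obj (sigmaOver U) ⟶ c.pt := hYon.desc (Cofan.mk c.pt (fun k => p k ≫ c.inj k))
  have hπ : ∀ k, (yon S).map (sigmaOverι U k) ≫ π = p k ≫ c.inj k := fun k => hYon.fac _ ⟨k⟩
  obtain ⟨hπe, hπs⟩ := repWith_desc_chart Y c hc U p hpe hps π hπ
  let d : ∀ k, U k ⟶ T := fun k => (yon S).preimage (p k ≫ c.inj k ≫ f)
  have hd : ∀ k, (yon S).map (d k) = p k ≫ c.inj k ≫ f := fun k => Functor.map_preimage _ _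
  have hdP : ∀ k, P (d k).left := fun k =>
    hf k (p k) (𝟙 _) (d k) (hpe k) (repWith_id @Etale T) (by rw [hd, Category.comp_id])
  let D : sigmaOver U ⟶ T := sigmaOverDesc U d
  have hD : P D.left := by
    change P (Sigma.desc (fun k => (d k).left))
    exact IsZariskiLocalAtSource.sigmaDesc (fun k => hdP k)
  have comm : π ≫ f = (yon S).map D ≫ 𝟙 _ := by
    rw [Category.comp_id]
    apply hYon.hom_ext
    rintro ⟨k⟩
    simp only [Cofan.mk_pt, Cofan.mk_ι_app]
    rw [← Category.assoc, hπ k, Category.assoc, ← Functor.map_comp, sigmaOverι_desc, hd]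
  exact Groth.Agent.H1.Seven.locP_of_one_chart hP f π (𝟙 _) D hπe hπs (repWith_id @Etale T) comm hD

/-- **S10138**: a sheaf over an algebraic space which becomes an algebraic space over each member of an fppf
covering is an algebraic space. -/
theorem isAlgSpace_of_fppf_cover {X : Sp S} (hX : IsAlgSpace X) {ι : Type u} (Xi : ι → Sp S)
    (hXi : ∀ i, IsAlgSpace (Xi i)) (g : ∀ i, Xi i ⟶ X) (hcov : IsFppfCover Xi g)
    (F : Sp S) (p : F ⟶ X)
    (h : ∀ (i : ι) (P : Sp S) (fst : P ⟶ F) (snd : P ⟶ Xi i), IsPullback fst snd p (g i) →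
      IsAlgSpace P) : IsAlgSpace F := by
  let Pi : ι → Sp S := fun i => pullback p (g i)
  let f1 : ∀ i, Pi i ⟶ F := fun i => pullback.fst p (g i)
  let f2 : ∀ i, Pi i ⟶ Xi i := fun i => pullback.snd p (g i)
  have sqP : ∀ i, IsPullback (f1 i) (f2 i) p (g i) := fun i => IsPullback.of_hasPullback _ _
  have hPi : ∀ i, IsAlgSpace (Pi i) := fun i => h i _ _ _ (sqP i)
  let c : Cofan Pi := Cofan.mk (∐ Pi) (Sigma.ι Pi)
  let hc : IsColimit c := coproductIsCoproduct Pi
  have hU : IsAlgSpace c.pt := isAlgSpace_cofan_pt Pi hPi c hc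
  let π : c.pt ⟶ F := Cofan.IsColimit.desc hc f1
  have hπ : ∀ i, c.inj i ≫ π = f1 i := fun i => Cofan.IsColimit.fac hc _ i
  refine isAlgSpace_of_repBySpWith_fppf hU π ?_
  intro T ξ F' fst snd sq
  let Q : ι → Sp S := fun i => pullback (f1 i) ξ
  let q1 : ∀ i, Q i ⟶ Pi i := fun i => pullback.fst (f1 i) ξ
  let q2 : ∀ i, Q i ⟶ (yon S).obj T := fun i => pullback.snd (f1 i) ξ
  have sqQ : ∀ i, IsPullback (q1 i) (q2 i) (f1 i) ξ := fun i => IsPullback.of_hasPullback _ _
  have wa : ∀ i, (q1 i ≫ c.inj i) ≫ π = q2 i ≫ ξ := by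
    intro i
    rw [Category.assoc, hπ]
    exact (sqQ i).w
  let a : ∀ i, Q i ⟶ F' := fun i => sq.lift (q1 i ≫ c.inj i) (q2 i) (wa i)
  have ha1 : ∀ i, a i ≫ fst = q1 i ≫ c.inj i := fun i => sq.lift_fst _ _ _
  have ha2 : ∀ i, a i ≫ snd = q2 i := fun i => sq.lift_snd _ _ _
  have sqi : ∀ i, IsPullback (a i) (q1 i) fst (c.inj i) := by
    intro i
    refine IsPullback.of_right ?_ (ha1 i) sq.flip
    rw [ha2, hπ]
    exact (sqQ i).flip
  obtain ⟨hQ⟩ := nonempty_isColimit_of_isPullback' _ c hc fst Q a q1 sqi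
  -- the outer squares
  have outer : ∀ i, IsPullback (q1 i ≫ f2 i) (q2 i) (g i) (ξ ≫ p) := fun i =>
    (sqQ i).paste_horiz (sqP i).flip
  have hQi : ∀ i, IsAlgSpace (Q i) := fun i =>
    Groth.Agent.Lib.helper5.isAlgSpace_of_isPullback hX.diag (hXi i) (IsAlgSpace.yon_obj T) (outer i)
  have hq2f : ∀ i, LocP @Flat (q2 i) := fun i =>
    locP_flat_of_isPullback (hXi i) hX (g i) (ξ ≫ p) (q1 i ≫ f2 i) (q2 i) (outer i) (hcov.1 i).1
  have hq2l : ∀ i, LocP @LocallyOfFinitePresentation (q2 i) := fun i =>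
    locP_lfp_of_isPullback (hXi i) hX (g i) (ξ ≫ p) (q1 i ≫ f2 i) (q2 i) (outer i) (hcov.1 i).2
  have hF' : IsAlgSpace F' := isAlgSpace_cofan_pt Q hQi (Cofan.mk F' a) hQ
  refine ⟨hF', ⟨?_, ?_⟩, ?_⟩
  · intro x
    obtain ⟨i, y, hy⟩ := hcov.2 (Points.map (ξ ≫ p) x)
    obtain ⟨w, -, hw2⟩ := Groth.Agent.Lib.helper10.exists_point_of_isPullback (outer i) y x hy
    refine ⟨Points.map (a i) w, ?_⟩
    rw [← Points.map_comp, ha2]
    exact hw2
  · refine locP_cofan_desc Groth.Agent.H1.Seven.locPData_flat Q hQi (Cofan.mk F' a) hQ snd ?_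
    intro i
    change LocP @Flat (a i ≫ snd)
    rw [ha2]
    exact hq2f i
  · refine locP_cofan_desc Groth.Agent.Lib.helper5.LocPBC.locPData_lfp Q hQi (Cofan.mk F' a) hQ snd ?_
    intro i
    change LocP @LocallyOfFinitePresentation (a i ≫ snd)
    rw [ha2]
    exact hq2l i

end Groth.Agent.Lib.helper5.FppfBoot
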