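import Mathlib

/-!
# The largest open over which a morphism has an fppf-local property (helper5)
-/

set_option autoImplicit false
universe u
open AlgebraicGeometry CategoryTheory Limits

namespace Groth.Agent.Lib.helper5.FppfLargestOpen

variable {P : MorphismProperty Scheme.{u}}
  [MorphismProperty.IsLocalAtTarget P Scheme.fppfPrecoverage]

/-- `P` is stable under base change along flat lfp morphisms (not nec. surjective). -/
lemma pullbackSnd_of_flat {X Y Y' : Scheme.{u}} (f : X ⟶ Y) (g : Y' ⟶ Y) [Flat g]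
    [LocallyOfFinitePresentation g] (hf : P f) : P (pullback.snd f g) := by
  let Xs : Unit ⊕ Unit → Scheme.{u} := Sum.elim (fun _ => Y') (fun _ => Y)
  let fs : ∀ i, Xs i ⟶ Y := fun i => match i with
    | .inl _ => g
    | .inr _ => 𝟙 Y
  have hR : Presieve.ofArrows Xs fs ∈ Scheme.fppfPrecoverage Y := by
    rw [Scheme.fppfPrecoverage, Scheme.ofArrows_mem_precoverage_iff]
    refine ⟨fun x => ⟨.inr (), x, rfl⟩, ?_⟩
    intro i
    rcases i with i | i
    · exact ⟨inferInstanceAs (Flat g), inferInstanceAs (LocallyOfFinitePresentation g)⟩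
    · exact ⟨inferInstanceAs (Flat (𝟙 Y)), inferInstanceAs (LocallyOfFinitePresentation (𝟙 Y))⟩
  exact MorphismProperty.IsLocalAtTarget.pullbackSnd hR (Presieve.ofArrows.mk (Sum.inl ())) hf

lemma of_isPullback_of_flat {X' X Y Y' : Scheme.{u}} {f : X ⟶ Y} {g : Y' ⟶ Y} {f' : X' ⟶ Y'}
    {g' : X' ⟶ X} (sq : IsPullback g' f' f g) [Flat g] [LocallyOfFinitePresentation g]
    (hf : P f) : P f' := by
  rw [← P.cancel_left_of_respectsIso sq.isoPullback.inv, sq.isoPullback_inv_snd]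
  exact pullbackSnd_of_flat f g hf

lemma descend_of_isPullback {X' X Y Y' : Scheme.{u}} {f : X ⟶ Y} {g : Y' ⟶ Y} {f' : X' ⟶ Y'}
    {g' : X' ⟶ X} (sq : IsPullback g' f' f g) [Flat g] [LocallyOfFinitePresentation g]
    [Surjective g] (hf' : P f') : P f := by
  refine MorphismProperty.IsLocalAtTarget.of_forall_pullbackSnd (K := Scheme.fppfPrecoverage)
    (R := Presieve.singleton g) g.singleton_mem_fppfPrecoverage ?_
  intro U h _ hh
  cases hh
  rw [← sq.isoPullback_inv_snd, P.cancel_left_of_respectsIso]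
  exact hf'

lemma isPullback_restrict_of_le {X Y : Scheme.{u}} (f : X ⟶ Y) {W₀ W : Y.Opens} (h : W₀ ≤ W) :
    IsPullback (X.homOfLE (f.preimage_mono h)) (f ∣_ W₀) (f ∣_ W) (Y.homOfLE h) := by
  have big : IsPullback (f ⁻¹ᵁ W₀).ι (f ∣_ W₀) f W₀.ι := (isPullback_morphismRestrict f W₀).flip
  have right : IsPullback (f ⁻¹ᵁ W).ι (f ∣_ W) f W.ι := (isPullback_morphismRestrict f W).flip
  refine IsPullback.of_right (h₁₂ := (f ⁻¹ᵁ W).ι) (h₂₂ := W.ι) ?_ ?_ right
  · rw [Scheme.homOfLE_ι, Scheme.homOfLE_ι]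
    exact big
  · rw [← cancel_mono W.ι, Category.assoc, Category.assoc, Scheme.homOfLE_ι, morphismRestrict_ι,
      ← Category.assoc, Scheme.homOfLE_ι, morphismRestrict_ι]

/-- the largest open over which `f` has `P` -/
def largest (P : MorphismProperty Scheme.{u}) {X Y : Scheme.{u}} (f : X ⟶ Y) : Y.Opens :=
  ⨆ W₀ : {W₀ : Y.Opens // P (f ∣_ W₀)}, W₀.1

omit [MorphismProperty.IsLocalAtTarget P Scheme.fppfPrecoverage] in
lemma le_largest {X Y : Scheme.{u}} (f : X ⟶ Y) (W₀ : Y.Opens) (h : P (f ∣_ W₀)) :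
    W₀ ≤ largest P f :=
  le_iSup (fun W₀ : {W₀ : Y.Opens // P (f ∣_ W₀)} => W₀.1) ⟨W₀, h⟩

lemma prop_largest {X Y : Scheme.{u}} (f : X ⟶ Y) : P (f ∣_ largest P f) := by
  set W := largest P f with hW
  have hle : ∀ W₀ : {W₀ : Y.Opens // P (f ∣_ W₀)}, W₀.1 ≤ W := fun W₀ => le_largest f W₀.1 W₀.2
  have hR : Presieve.ofArrows (fun W₀ : {W₀ : Y.Opens // P (f ∣_ W₀)} => (W₀.1 : Scheme.{u}))
      (fun W₀ => Y.homOfLE (hle W₀)) ∈ Scheme.fppfPrecoverage (W : Scheme.{u}) := by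
    rw [Scheme.fppfPrecoverage, Scheme.ofArrows_mem_precoverage_iff]
    refine ⟨fun x => ?_, fun W₀ => ⟨inferInstance, inferInstance⟩⟩
    have hx : x.1 ∈ largest P f := x.2
    rw [largest, TopologicalSpace.Opens.mem_iSup] at hx
    obtain ⟨W₀, hxW₀⟩ := hx
    refine ⟨W₀, ⟨x.1, hxW₀⟩, ?_⟩
    rw [Scheme.homOfLE_apply']
    rfl
  refine MorphismProperty.IsLocalAtTarget.of_forall_pullbackSnd (K := Scheme.fppfPrecoverage) hR ?_
  intro U h _ hh
  obtain ⟨W₀⟩ := hh
  have sq := isPullback_restrict_of_le f (hle W₀)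
  rw [← sq.isoPullback_inv_snd, P.cancel_left_of_respectsIso]
  exact W₀.2

lemma range_subset_largest {X Y Y' : Scheme.{u}} (f : X ⟶ Y) (g : Y' ⟶ Y) [Flat g]
    [LocallyOfFinitePresentation g] (h : P (pullback.snd f g)) :
    Set.range g ⊆ (largest P f : Set Y) := by
  let W₁ : Y.Opens := ⟨Set.range g, g.isOpenMap.isOpen_range⟩
  have hrange : Set.range g ⊆ Set.range W₁.ι := by
    rw [Scheme.Opens.range_ι]
    exact subset_rfl
  let g₁ : Y' ⟶ (W₁ : Scheme.{u}) := IsOpenImmersion.lift W₁.ι g hrange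
  have hg₁ : g₁ ≫ W₁.ι = g := IsOpenImmersion.lift_fac _ _ _
  haveI : Flat (g₁ ≫ W₁.ι) := by rw [hg₁]; infer_instance
  haveI : LocallyOfFinitePresentation (g₁ ≫ W₁.ι) := by rw [hg₁]; infer_instance
  haveI : Flat g₁ := MorphismProperty.of_postcomp (W := @Flat) (W' := @IsOpenImmersion) g₁ W₁.ι
    inferInstance inferInstance
  haveI : LocallyOfFinitePresentation g₁ :=
    MorphismProperty.of_postcomp (W := @LocallyOfFinitePresentation) (W' := @IsOpenImmersion) g₁
      W₁.ι inferInstance inferInstance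
  haveI : Surjective g₁ := by
    refine ⟨fun y => ?_⟩
    obtain ⟨x, hx⟩ := y.2
    refine ⟨x, ?_⟩
    apply Subtype.ext
    have := congrArg (fun m => m.base x) hg₁
    simpa using this.trans hx
  have right : IsPullback (f ⁻¹ᵁ W₁).ι (f ∣_ W₁) f W₁.ι := (isPullback_morphismRestrict f W₁).flip
  have big : IsPullback (pullback.fst f g) (pullback.snd f g) f g := IsPullback.of_hasPullback f g
  have hw : pullback.fst f g ≫ f = (pullback.snd f g ≫ g₁) ≫ W₁.ι := by
    rw [Category.assoc, hg₁, pullback.condition]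
  have sq : IsPullback (right.lift (pullback.fst f g) (pullback.snd f g ≫ g₁) hw)
      (pullback.snd f g) (f ∣_ W₁) g₁ := by
    refine IsPullback.of_right (h₁₂ := (f ⁻¹ᵁ W₁).ι) (h₂₂ := W₁.ι) ?_ (right.lift_snd _ _ _) right
    rw [right.lift_fst, hg₁]
    exact big
  have hW₁ : P (f ∣_ W₁) := descend_of_isPullback sq h
  exact le_largest f W₁ hW₁

theorem largest_spec {X Y : Scheme.{u}} (f : X ⟶ Y) :
    ∃ W : Y.Opens, P (f ∣_ W) ∧ (∀ W₀ : Y.Opens, P (f ∣_ W₀) → W₀ ≤ W) ∧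
      (∀ (Y' : Scheme.{u}) (g : Y' ⟶ Y), Flat g → LocallyOfFinitePresentation g →
        P (pullback.snd f g) → Set.range g.base ⊆ (W : Set Y)) ∧
      (∀ (Y' : Scheme.{u}) (g : Y' ⟶ Y), Flat g → LocallyOfFinitePresentation g →
        ∀ W' : Y'.Opens, P (pullback.snd f g ∣_ W') →
          (∀ W₀ : Y'.Opens, P (pullback.snd f g ∣_ W₀) → W₀ ≤ W') → W' = g ⁻¹ᵁ W) := by
  refine ⟨largest P f, prop_largest f, fun W₀ h => le_largest f W₀ h, ?_, ?_⟩
  · intro Y' g _ _ h
    exact range_subset_largest f g h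
  · intro Y' g _ _ W' hW' hmax
    set W := largest P f with hW
    set p := pullback.snd f g with hp
    set q := pullback.fst f g with hq
    have big : IsPullback q p f g := IsPullback.of_hasPullback f g
    apply le_antisymm
    · -- W' ≤ g⁻¹ W
      have sq0 : IsPullback (p ⁻¹ᵁ W').ι (p ∣_ W') p W'.ι := (isPullback_morphismRestrict p W').flip
      have sq := sq0.paste_horiz big
      have h1 : P (pullback.snd f (W'.ι ≫ g)) := by
        rw [← sq.isoPullback_inv_snd, P.cancel_left_of_respectsIso]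
        exact hW'
      have h2 := range_subset_largest f (W'.ι ≫ g) h1
      intro x hx
      exact h2 ⟨⟨x, hx⟩, rfl⟩
    · -- g⁻¹ W ≤ W'
      apply hmax
      have t : IsPullback (f ⁻¹ᵁ W).ι (f ∣_ W) f W.ι := (isPullback_morphismRestrict f W).flip
      have sq0 : IsPullback (p ⁻¹ᵁ (g ⁻¹ᵁ W)).ι (p ∣_ (g ⁻¹ᵁ W)) p (g ⁻¹ᵁ W).ι :=
        (isPullback_morphismRestrict p _).flip
      have sq1 := sq0.paste_horiz big
      have hw : ((p ⁻¹ᵁ (g ⁻¹ᵁ W)).ι ≫ q) ≫ f = ((p ∣_ (g ⁻¹ᵁ W)) ≫ (g ∣_ W)) ≫ W.ι := by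
        have h3 := sq1.w
        simp only [Category.assoc] at h3 ⊢
        rw [morphismRestrict_ι]
        exact h3
      have sq : IsPullback (t.lift ((p ⁻¹ᵁ (g ⁻¹ᵁ W)).ι ≫ q) ((p ∣_ (g ⁻¹ᵁ W)) ≫ (g ∣_ W)) hw)
          (p ∣_ (g ⁻¹ᵁ W)) (f ∣_ W) (g ∣_ W) := by
        refine IsPullback.of_right (h₁₂ := (f ⁻¹ᵁ W).ι) (h₂₂ := W.ι) ?_ (t.lift_snd _ _ _) t
        rw [t.lift_fst, morphismRestrict_ι]
        exact sq1
      haveI : Flat (g ∣_ W) :=
        MorphismProperty.of_isPullback (P := @Flat) (isPullback_morphismRestrict g W).flip inferInstance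
      haveI : LocallyOfFinitePresentation (g ∣_ W) :=
        MorphismProperty.of_isPullback (P := @LocallyOfFinitePresentation)
          (isPullback_morphismRestrict g W).flip inferInstance
      exact of_isPullback_of_flat sq (prop_largest f)

end Groth.Agent.Lib.helper5.FppfLargestOpen
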