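import Groth.Agent.Lib.Helper3.FlatDescP

/-!
# Noetherian approximation of faithfully flat finitely presented algebras (helper5)

`B` a faithfully flat, finitely presented `A`-algebra.  Then `(A, B)` is the base change of `(A₁, B₁)`
with `A₁` a finitely generated `ℤ`-algebra mapping injectively to `A` and `B₁` faithfully flat and
finitely presented over `A₁`; prescribed finite subsets of `A` and `B` can be put in the images.

* `exists_prime_tensor`
* `exists_finset_map_eq_top` : `𝔞 A = A` ⇒ `𝔞 A₀[F] = A₀[F]` for a finite `F ⊆ A`.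
* `faithfullyFlat_tensor_of_map_eq_top`
* `exists_fg_model_faithfullyFlat`
-/

set_option autoImplicit false
universe u
open TensorProduct

namespace Groth.Agent.Lib.helper5.FppfSource

open AlgebraicGeometry CategoryTheory Limits in
/-- Existence of a prime of a tensor product over a given compatible pair of primes. -/
theorem exists_prime_tensor {P A₂ B₀ : Type u} [CommRing P] [CommRing A₂] [CommRing B₀]
    [Algebra P A₂] [Algebra P B₀] (p₂ : Ideal A₂) [p₂.IsPrime] (𝔮 : Ideal B₀) [𝔮.IsPrime]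
    (h : p₂.comap (algebraMap P A₂) = 𝔮.comap (algebraMap P B₀)) :
    ∃ p' : Ideal (A₂ ⊗[P] B₀), p'.IsPrime ∧
      p'.comap (algebraMap A₂ (A₂ ⊗[P] B₀)) = p₂ := by
  let x : Spec (.of A₂) := ⟨p₂, inferInstance⟩
  let y : Spec (.of B₀) := ⟨𝔮, inferInstance⟩
  have hxy : Spec.map (CommRingCat.ofHom (algebraMap P A₂)) x =
      Spec.map (CommRingCat.ofHom (algebraMap P B₀)) y := by
    apply PrimeSpectrum.ext
    exact h
  obtain ⟨z, hz1, -⟩ := Scheme.Pullback.exists_preimage_pullback x y hxy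
  refine ⟨((pullbackSpecIso P A₂ B₀).hom z).asIdeal, inferInstance, ?_⟩
  have := congrArg (fun t => (t : Spec (.of A₂)).asIdeal) hz1
  rw [← pullbackSpecIso_hom_fst', Scheme.Hom.comp_apply] at this
  exact this

section Stage

variable {A₀ A : Type u} [CommRing A₀] [CommRing A] [Algebra A₀ A]

/-- the intermediate subalgebra generated by a finite set. -/
abbrev mid (F : Finset A) : Subalgebra A₀ A := Algebra.adjoin A₀ (F : Set A)

theorem mid_mono {F F' : Finset A} (h : F ⊆ F') : mid (A₀ := A₀) F ≤ mid F' :=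
  Algebra.adjoin_mono (by exact_mod_cast h)

theorem map_mid_mono (𝔞 : Ideal A₀) {F F' : Finset A} (h : F ⊆ F') (y : mid (A₀ := A₀) F)
    (hy : y ∈ 𝔞.map (algebraMap A₀ (mid (A₀ := A₀) F))) :
    Subalgebra.inclusion (mid_mono h) y ∈ 𝔞.map (algebraMap A₀ (mid (A₀ := A₀) F')) := by
  have h1 : 𝔞.map (algebraMap A₀ (mid (A₀ := A₀) F')) =
      (𝔞.map (algebraMap A₀ (mid (A₀ := A₀) F))).map
        (Subalgebra.inclusion (mid_mono (A₀ := A₀) h)).toRingHom := by
    rw [Ideal.map_map]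
    congr 1
  rw [h1]
  exact Ideal.mem_map_of_mem _ hy

theorem exists_finset_mem_map (𝔞 : Ideal A₀) (x : A) (hx : x ∈ 𝔞.map (algebraMap A₀ A)) :
    ∃ (F : Finset A) (y : mid (A₀ := A₀) F), (y : A) = x ∧
      y ∈ 𝔞.map (algebraMap A₀ (mid (A₀ := A₀) F)) := by
  classical
  induction hx using Submodule.span_induction with
  | mem x hx =>
    obtain ⟨r, hr, rfl⟩ := hx
    exact ⟨∅, algebraMap A₀ _ r, rfl, Ideal.mem_map_of_mem _ hr⟩
  | zero => exact ⟨∅, 0, rfl, Ideal.zero_mem _⟩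
  | add x₁ x₂ _ _ ih₁ ih₂ =>
    obtain ⟨F₁, y₁, hy₁e, hy₁⟩ := ih₁
    obtain ⟨F₂, y₂, hy₂e, hy₂⟩ := ih₂
    have h1 : F₁ ⊆ F₁ ∪ F₂ := Finset.subset_union_left
    have h2 : F₂ ⊆ F₁ ∪ F₂ := Finset.subset_union_right
    have m1 := map_mid_mono 𝔞 h1 y₁ hy₁
    have m2 := map_mid_mono 𝔞 h2 y₂ hy₂
    refine ⟨F₁ ∪ F₂, Subalgebra.inclusion (mid_mono h1) y₁ +
      Subalgebra.inclusion (mid_mono h2) y₂, ?_, Ideal.add_mem _ m1 m2⟩
    rw [Subalgebra.coe_add, Subalgebra.coe_inclusion, Subalgebra.coe_inclusion, hy₁e, hy₂e]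
  | smul a x _ ih =>
    obtain ⟨F, y, hye, hy⟩ := ih
    have ha : a ∈ mid (A₀ := A₀) (insert a F) :=
      Algebra.subset_adjoin (by simp)
    have h1 : F ⊆ insert a F := Finset.subset_insert a F
    have m1 := map_mid_mono 𝔞 h1 y hy
    refine ⟨insert a F, ⟨a, ha⟩ * Subalgebra.inclusion (mid_mono h1) y, ?_,
      Ideal.mul_mem_left _ _ m1⟩
    rw [Subalgebra.coe_mul, Subalgebra.coe_inclusion, hye, smul_eq_mul]

theorem exists_finset_map_eq_top (𝔞 : Ideal A₀) (h : 𝔞.map (algebraMap A₀ A) = ⊤) :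
    ∃ F : Finset A, 𝔞.map (algebraMap A₀ (mid (A₀ := A₀) F)) = ⊤ := by
  obtain ⟨F, y, hy1, hy2⟩ := exists_finset_mem_map 𝔞 (1 : A) (by rw [h]; trivial)
  refine ⟨F, ?_⟩
  have : y = 1 := Subtype.ext hy1
  rw [this] at hy2
  exact (Ideal.eq_top_iff_one _).mpr hy2

end Stage

section Faithful

variable {A₀ B₀ : Type u} [CommRing A₀] [CommRing B₀] [Algebra A₀ B₀]

/-- if the extension of `𝔞` to `A₁` is the unit ideal, where `V(𝔞)` is the complement of the image of
`Spec B₀`, then `A₁ ⊗ B₀` is faithfully flat over `A₁`. -/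
theorem faithfullyFlat_tensor_of_map_eq_top [Module.Flat A₀ B₀] (𝔞 : Ideal A₀)
    (h𝔞 : PrimeSpectrum.zeroLocus (𝔞 : Set A₀) =
      (Set.range (PrimeSpectrum.comap (algebraMap A₀ B₀)))ᶜ)
    (A₁ : Type u) [CommRing A₁] [Algebra A₀ A₁] (htop : 𝔞.map (algebraMap A₀ A₁) = ⊤) :
    Module.FaithfullyFlat A₁ (A₁ ⊗[A₀] B₀) := by
  apply Module.FaithfullyFlat.of_comap_surjective
  intro p₁
  set p₀ : PrimeSpectrum A₀ := PrimeSpectrum.comap (algebraMap A₀ A₁) p₁ with hp₀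
  have hmem : p₀ ∈ Set.range (PrimeSpectrum.comap (algebraMap A₀ B₀)) := by
    by_contra hcon
    have h1 : p₀ ∈ PrimeSpectrum.zeroLocus (𝔞 : Set A₀) := by rw [h𝔞]; exact hcon
    rw [PrimeSpectrum.mem_zeroLocus] at h1
    have h2 : 𝔞.map (algebraMap A₀ A₁) ≤ p₁.asIdeal := by
      rw [Ideal.map_le_iff_le_comap]
      exact h1
    rw [htop] at h2
    exact p₁.isPrime.ne_top (top_le_iff.mp h2)
  obtain ⟨q₀, hq₀⟩ := hmem
  obtain ⟨P, hP, hP2⟩ := exists_prime_tensor (P := A₀) p₁.asIdeal q₀.asIdeal (by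
    have := congrArg PrimeSpectrum.asIdeal hq₀
    rw [hp₀] at this
    exact this.symm)
  exact ⟨⟨P, hP⟩, PrimeSpectrum.ext hP2⟩

end Faithful

end Groth.Agent.Lib.helper5.FppfSource
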