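import Groth.Agent.Lib.Helper5.FppfSource1

/-!
# Noetherian approximation of faithfully flat finitely presented algebras, main statement (helper5)

* `exists_finset_rTensor` : every element of `A ⊗[A₀] B₀` comes from `A₀[F] ⊗[A₀] B₀`, `F` finite.
* `map_eq_top_of_faithfullyFlat`
* `exists_fg_model_faithfullyFlat`
-/

set_option autoImplicit false
universe u
open TensorProduct

namespace Groth.Agent.Lib.helper5.FppfSource

section Tensor

variable {A₀ A B₀ : Type u} [CommRing A₀] [CommRing A] [Algebra A₀ A] [CommRing B₀] [Algebra A₀ B₀]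

theorem rTensor_inclusion' {S T : Subalgebra A₀ A} (h : S ≤ T) (z : S ⊗[A₀] B₀) :
    LinearMap.rTensor B₀ T.val.toLinearMap
      (LinearMap.rTensor B₀ (Subalgebra.inclusion h).toLinearMap z) =
    LinearMap.rTensor B₀ S.val.toLinearMap z := by
  induction z using TensorProduct.induction_on with
  | zero => simp only [map_zero]
  | tmul a β =>
    rw [LinearMap.rTensor_tmul, LinearMap.rTensor_tmul, LinearMap.rTensor_tmul,
      AlgHom.toLinearMap_apply, AlgHom.toLinearMap_apply, AlgHom.toLinearMap_apply,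
      Subalgebra.val_apply, Subalgebra.val_apply, Subalgebra.coe_inclusion]
  | add z₁ z₂ ih₁ ih₂ => rw [map_add, map_add, map_add, ih₁, ih₂]

theorem rTensor_inclusion {F F' : Finset A} (h : F ⊆ F') (z : mid (A₀ := A₀) F ⊗[A₀] B₀) :
    LinearMap.rTensor B₀ (mid (A₀ := A₀) F').val.toLinearMap
      (LinearMap.rTensor B₀ (Subalgebra.inclusion (mid_mono (A₀ := A₀) h)).toLinearMap z) =
    LinearMap.rTensor B₀ (mid (A₀ := A₀) F).val.toLinearMap z :=
  rTensor_inclusion' (mid_mono (A₀ := A₀) h) z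

theorem exists_finset_rTensor (z : A ⊗[A₀] B₀) :
    ∃ (F : Finset A) (z' : mid (A₀ := A₀) F ⊗[A₀] B₀),
      LinearMap.rTensor B₀ (mid (A₀ := A₀) F).val.toLinearMap z' = z := by
  classical
  induction z using TensorProduct.induction_on with
  | zero => exact ⟨∅, 0, map_zero _⟩
  | tmul a β =>
    have ha : a ∈ mid (A₀ := A₀) {a} := Algebra.subset_adjoin (by simp)
    refine ⟨{a}, (⟨a, ha⟩ : mid (A₀ := A₀) {a}) ⊗ₜ β, ?_⟩
    rw [LinearMap.rTensor_tmul, AlgHom.toLinearMap_apply, Subalgebra.val_apply]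
  | add z₁ z₂ ih₁ ih₂ =>
    obtain ⟨F₁, z₁', hz₁⟩ := ih₁
    obtain ⟨F₂, z₂', hz₂⟩ := ih₂
    have h1 : F₁ ⊆ F₁ ∪ F₂ := Finset.subset_union_left
    have h2 : F₂ ⊆ F₁ ∪ F₂ := Finset.subset_union_right
    refine ⟨F₁ ∪ F₂,
      LinearMap.rTensor B₀ (Subalgebra.inclusion (mid_mono (A₀ := A₀) h1)).toLinearMap z₁' +
      LinearMap.rTensor B₀ (Subalgebra.inclusion (mid_mono (A₀ := A₀) h2)).toLinearMap z₂', ?_⟩
    rw [map_add, rTensor_inclusion h1, rTensor_inclusion h2, hz₁, hz₂]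

/-- enlarging the finite set. -/
theorem exists_rTensor_of_subset {F F' : Finset A} (h : F ⊆ F') (z' : mid (A₀ := A₀) F ⊗[A₀] B₀) :
    ∃ z'' : mid (A₀ := A₀) F' ⊗[A₀] B₀,
      LinearMap.rTensor B₀ (mid (A₀ := A₀) F').val.toLinearMap z'' =
        LinearMap.rTensor B₀ (mid (A₀ := A₀) F).val.toLinearMap z' :=
  ⟨_, rTensor_inclusion h z'⟩

theorem exists_finset_rTensor_finset (t : Finset (A ⊗[A₀] B₀)) :
    ∃ F : Finset A, ∀ z ∈ t, ∃ z' : mid (A₀ := A₀) F ⊗[A₀] B₀,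
      LinearMap.rTensor B₀ (mid (A₀ := A₀) F).val.toLinearMap z' = z := by
  classical
  induction t using Finset.induction_on with
  | empty => exact ⟨∅, fun z hz => absurd hz (Finset.notMem_empty z)⟩
  | insert z₀ t _ ih =>
    obtain ⟨F₁, hF₁⟩ := ih
    obtain ⟨F₂, z₂, hz₂⟩ := exists_finset_rTensor (A₀ := A₀) z₀
    refine ⟨F₁ ∪ F₂, fun z hz => ?_⟩
    rcases Finset.mem_insert.mp hz with rfl | hz
    · obtain ⟨z'', hz''⟩ := exists_rTensor_of_subset (A₀ := A₀)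
        (Finset.subset_union_right (s₁ := F₁) (s₂ := F₂)) z₂
      exact ⟨z'', hz''.trans hz₂⟩
    · obtain ⟨z₁, hz₁⟩ := hF₁ z hz
      obtain ⟨z'', hz''⟩ := exists_rTensor_of_subset (A₀ := A₀)
        (Finset.subset_union_left (s₁ := F₁) (s₂ := F₂)) z₁
      exact ⟨z'', hz''.trans hz₁⟩

theorem cancelBaseChange_one_tmul (A₁ : Subalgebra A₀ A) (w : A₁ ⊗[A₀] B₀) :
    Algebra.TensorProduct.cancelBaseChange A₀ A₁ A A B₀ (1 ⊗ₜ w) =
      LinearMap.rTensor B₀ A₁.val.toLinearMap w := by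
  induction w using TensorProduct.induction_on with
  | zero => simp
  | tmul a β =>
    rw [Algebra.TensorProduct.cancelBaseChange_tmul]
    simp [Algebra.smul_def]
  | add w₁ w₂ ih₁ ih₂ => rw [TensorProduct.tmul_add, map_add, ih₁, ih₂, map_add]

end Tensor

section Top

variable {A₀ A B₀ B : Type u} [CommRing A₀] [CommRing A] [Algebra A₀ A] [CommRing B₀]
  [Algebra A₀ B₀] [CommRing B] [Algebra A B]

theorem one_tmul_algebraMap (a₀ : A₀) :
    (1 : A) ⊗ₜ[A₀] (algebraMap A₀ B₀ a₀) = algebraMap A (A ⊗[A₀] B₀) (algebraMap A₀ A a₀) := by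
  rw [Algebra.TensorProduct.algebraMap_apply, Algebra.algebraMap_self, RingHom.id_apply,
    Algebra.algebraMap_eq_smul_one, Algebra.algebraMap_eq_smul_one (A := A),
    TensorProduct.tmul_smul, TensorProduct.smul_tmul']

/-- if `A ⊗ B₀ ≃ B` is faithfully flat over `A`, the ideal of the complement of the image of
`Spec B₀` generates the unit ideal of `A`. -/
theorem map_eq_top_of_faithfullyFlat [Module.FaithfullyFlat A B] (e₀ : A ⊗[A₀] B₀ ≃ₐ[A] B)
    (𝔞 : Ideal A₀)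
    (h𝔞 : PrimeSpectrum.zeroLocus (𝔞 : Set A₀) =
      (Set.range (PrimeSpectrum.comap (algebraMap A₀ B₀)))ᶜ) :
    𝔞.map (algebraMap A₀ A) = ⊤ := by
  by_contra hne
  obtain ⟨P, hPmax, hPle⟩ := Ideal.exists_le_maximal _ hne
  haveI := hPmax.isPrime
  obtain ⟨Q, hQ, hQP⟩ := Ideal.exists_isPrime_liesOver_of_faithfullyFlat (B := B) P
  -- the map `B₀ → B`
  let φ : B₀ →+* B := (e₀ : A ⊗[A₀] B₀ →+* B).comp
    ((Algebra.TensorProduct.includeRight : B₀ →ₐ[A₀] A ⊗[A₀] B₀) : B₀ →+* A ⊗[A₀] B₀)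
  have hφ : φ.comp (algebraMap A₀ B₀) = (algebraMap A B).comp (algebraMap A₀ A) := by
    ext a₀
    show e₀ ((1 : A) ⊗ₜ[A₀] (algebraMap A₀ B₀ a₀)) = algebraMap A B (algebraMap A₀ A a₀)
    rw [one_tmul_algebraMap, e₀.commutes]
  have hP : P = Q.comap (algebraMap A B) := hQP.over
  let q₀ : PrimeSpectrum B₀ := ⟨Q.comap φ, inferInstance⟩
  let p₀ : PrimeSpectrum A₀ := ⟨P.comap (algebraMap A₀ A), inferInstance⟩
  have hq₀ : PrimeSpectrum.comap (algebraMap A₀ B₀) q₀ = p₀ := by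
    apply PrimeSpectrum.ext
    show (Q.comap φ).comap (algebraMap A₀ B₀) = P.comap (algebraMap A₀ A)
    rw [Ideal.comap_comap, hφ, ← Ideal.comap_comap, ← hP]
  have h1 : p₀ ∈ PrimeSpectrum.zeroLocus (𝔞 : Set A₀) := by
    rw [PrimeSpectrum.mem_zeroLocus]
    exact Ideal.map_le_iff_le_comap.mp hPle
  rw [h𝔞] at h1
  exact h1 ⟨q₀, hq₀⟩

end Top

section Main

/-- **Noetherian approximation of fppf algebras.**  A faithfully flat finitely presented `A`-algebra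
`B` is the base change of a faithfully flat finitely presented algebra `B₁` over a finitely generated
`ℤ`-subalgebra `A₁` of `A`; a prescribed finite subset of `A` lies in `A₁` and a prescribed finite subset
of `B` lies in the image of `B₁`. -/
theorem exists_fg_model_faithfullyFlat {A B : Type u} [CommRing A] [CommRing B] [Algebra A B]
    [Algebra.FinitePresentation A B] [Module.FaithfullyFlat A B] (s : Finset A) (t : Finset B) :
    ∃ (A₁ : Type u) (_ : CommRing A₁) (_ : Algebra A₁ A), Algebra.FiniteType ℤ A₁ ∧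
      Function.Injective (algebraMap A₁ A) ∧ (s : Set A) ⊆ Set.range (algebraMap A₁ A) ∧
      ∃ (B₁ : Type u) (_ : CommRing B₁) (_ : Algebra A₁ B₁), Algebra.FinitePresentation A₁ B₁ ∧
        Module.FaithfullyFlat A₁ B₁ ∧ ∃ e : A ⊗[A₁] B₁ ≃ₐ[A] B, ∀ b ∈ t, ∃ b₁ : B₁, e (1 ⊗ₜ b₁) = b := by
  classical
  obtain ⟨A₀, _, _, hft, hinj, hs, B₀, _, _, hfp, hfl, ⟨e₀⟩⟩ :=
    Groth.Agent.Lib.helper3.FlatDesc.exists_fg_model_flat (A := A) (B := B) s
  -- the open image of `Spec B₀`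
  have hopen : IsOpen (Set.range (PrimeSpectrum.comap (algebraMap A₀ B₀))) :=
    (PrimeSpectrum.isOpenMap_comap_of_hasGoingDown_of_finitePresentation (R := A₀) (S := B₀)).isOpen_range
  let 𝔞 : Ideal A₀ := PrimeSpectrum.vanishingIdeal (Set.range (PrimeSpectrum.comap (algebraMap A₀ B₀)))ᶜ
  have h𝔞 : PrimeSpectrum.zeroLocus (𝔞 : Set A₀) =
      (Set.range (PrimeSpectrum.comap (algebraMap A₀ B₀)))ᶜ := by
    rw [PrimeSpectrum.zeroLocus_vanishingIdeal_eq_closure]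
    exact hopen.isClosed_compl.closure_eq
  have htop : 𝔞.map (algebraMap A₀ A) = ⊤ := map_eq_top_of_faithfullyFlat e₀ 𝔞 h𝔞
  obtain ⟨F₁, hF₁⟩ := exists_finset_map_eq_top 𝔞 htop
  obtain ⟨F₂, hF₂⟩ := exists_finset_rTensor_finset (A₀ := A₀) (B₀ := B₀) (t.image e₀.symm)
  -- the intermediate algebra
  have hsub₁ : F₁ ⊆ F₁ ∪ F₂ := Finset.subset_union_left
  have hsub₂ : F₂ ⊆ F₁ ∪ F₂ := Finset.subset_union_right
  have htop' : 𝔞.map (algebraMap A₀ (mid (A₀ := A₀) (F₁ ∪ F₂))) = ⊤ := by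
    rw [Ideal.eq_top_iff_one]
    have h1 : (1 : mid (A₀ := A₀) F₁) ∈ 𝔞.map (algebraMap A₀ (mid (A₀ := A₀) F₁)) := by
      rw [hF₁]; trivial
    have := map_mid_mono 𝔞 hsub₁ 1 h1
    rwa [map_one] at this
  haveI hftA₁ : Algebra.FiniteType A₀ (mid (A₀ := A₀) (F₁ ∪ F₂)) :=
    (Subalgebra.fg_iff_finiteType _).mp (Subalgebra.fg_adjoin_finset _)
  haveI : Module.Flat A₀ B₀ := hfl
  haveI : Algebra.FinitePresentation A₀ B₀ := hfp
  refine ⟨mid (A₀ := A₀) (F₁ ∪ F₂), inferInstance, inferInstance,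
    Algebra.FiniteType.trans (S := A₀) hft hftA₁, Subtype.val_injective, ?_,
    mid (A₀ := A₀) (F₁ ∪ F₂) ⊗[A₀] B₀, inferInstance, inferInstance, inferInstance,
    faithfullyFlat_tensor_of_map_eq_top 𝔞 h𝔞 _ htop',
    (Algebra.TensorProduct.cancelBaseChange A₀ (mid (A₀ := A₀) (F₁ ∪ F₂)) A A B₀).trans e₀, ?_⟩
  · intro x hx
    obtain ⟨y, hy⟩ := hs hx
    exact ⟨algebraMap A₀ _ y, by rw [← IsScalarTower.algebraMap_apply, hy]⟩
  · intro b hb
    obtain ⟨z', hz'⟩ := hF₂ (e₀.symm b) (Finset.mem_image_of_mem _ hb)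
    obtain ⟨z'', hz''⟩ := exists_rTensor_of_subset (A₀ := A₀) hsub₂ z'
    refine ⟨z'', ?_⟩
    rw [AlgEquiv.trans_apply, cancelBaseChange_one_tmul, hz'', hz', AlgEquiv.apply_symm_apply]

end Main

end Groth.Agent.Lib.helper5.FppfSource
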