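import Mathlib

/-!
# Base change of a diagram over a cocone point (generic category theory, for S10719)
-/

set_option autoImplicit false
open CategoryTheory CategoryTheory.Limits

namespace Groth.Agent.Lib.helper5.FpqcColim

universe v₁ u₁ v₂ u₂

variable {C : Type u₁} [Category.{v₁} C] [HasPullbacks C] {B : C} {I : Type u₂} [Category.{v₂} I]
  (D : I ⥤ Over B) (c : Cocone D) (V : Over B) (v : V ⟶ c.pt)

/-- The leg of the cocone on underlying objects. -/
abbrev leg (i : I) : (D.obj i).left ⟶ c.pt.left := (c.ι.app i).left

omit [HasPullbacks C] in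
theorem leg_w {i j : I} (φ : i ⟶ j) : (D.map φ).left ≫ leg D c j = leg D c i := by
  have h := congrArg (fun m => m.left) (c.w φ)
  exact h

omit [HasPullbacks C] in
theorem leg_hom (i : I) : leg D c i ≫ c.pt.hom = (D.obj i).hom := Over.w (c.ι.app i)

/-- The base change of the diagram `D` along `v : V ⟶ c.pt`. -/
noncomputable def bc : I ⥤ Over B where
  obj i := Over.mk (pullback.snd (leg D c i) v.left ≫ V.hom)
  map {i j} φ := Over.homMk (pullback.lift (pullback.fst (leg D c i) v.left ≫ (D.map φ).left)
      (pullback.snd (leg D c i) v.left) (by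
      rw [Category.assoc, leg_w, pullback.condition])) (by
      change pullback.lift _ _ _ ≫ pullback.snd (leg D c j) v.left ≫ V.hom = _
      rw [← Category.assoc, pullback.lift_snd]
      rfl)
  map_id i := by
    ext
    apply pullback.hom_ext
    · change pullback.lift _ _ _ ≫ pullback.fst (leg D c i) v.left = 𝟙 _ ≫ pullback.fst (leg D c i) v.left
      rw [pullback.lift_fst, D.map_id, Category.id_comp]
      exact Category.comp_id _
    · change pullback.lift _ _ _ ≫ pullback.snd (leg D c i) v.left = 𝟙 _ ≫ pullback.snd (leg D c i) v.left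
      rw [pullback.lift_snd, Category.id_comp]
  map_comp {i j k} φ ψ := by
    ext
    apply pullback.hom_ext
    · change pullback.lift _ _ _ ≫ pullback.fst (leg D c k) v.left =
        (pullback.lift _ _ _ ≫ pullback.lift _ _ _) ≫ pullback.fst (leg D c k) v.left
      rw [pullback.lift_fst, Category.assoc, pullback.lift_fst, ← Category.assoc, pullback.lift_fst,
        D.map_comp, Category.assoc]
      rfl
    · change pullback.lift _ _ _ ≫ pullback.snd (leg D c k) v.left =
        (pullback.lift _ _ _ ≫ pullback.lift _ _ _) ≫ pullback.snd (leg D c k) v.left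
      rw [pullback.lift_snd, Category.assoc, pullback.lift_snd, pullback.lift_snd]

/-- The projection to `D`. -/
noncomputable def bcα : bc D c V v ⟶ D where
  app i := Over.homMk (pullback.fst (leg D c i) v.left) (by
    change pullback.fst (leg D c i) v.left ≫ (D.obj i).hom =
      pullback.snd (leg D c i) v.left ≫ V.hom
    rw [← leg_hom D c i, ← Over.w v, ← Category.assoc, ← Category.assoc, pullback.condition])
  naturality i j φ := by
    ext
    change pullback.lift _ _ _ ≫ pullback.fst (leg D c j) v.left =
      pullback.fst (leg D c i) v.left ≫ (D.map φ).left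
    rw [pullback.lift_fst]

/-- The projection to `V`. -/
noncomputable def bcι : bc D c V v ⟶ (Functor.const I).obj V where
  app i := Over.homMk (pullback.snd (leg D c i) v.left) rfl
  naturality i j φ := by
    ext
    change pullback.lift _ _ _ ≫ pullback.snd (leg D c j) v.left =
      pullback.snd (leg D c i) v.left ≫ 𝟙 _
    rw [pullback.lift_snd, Category.comp_id]

theorem bc_isPullback (i : I) :
    IsPullback ((bcι D c V v).app i).left ((bcα D c V v).app i).left v.left (c.ι.app i).left :=
  (IsPullback.of_hasPullback (leg D c i) v.left).flip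

theorem bc_w (i : I) : (bcι D c V v).app i ≫ v = (bcα D c V v).app i ≫ c.ι.app i := by
  ext
  exact (bc_isPullback D c V v i).w

/-- Comparison of base changes along a factorization `v' = e ≫ v`, underlying map. -/
noncomputable def bcCompL {V' : Over B} (e : V' ⟶ V) (v' : V' ⟶ c.pt) (h : e ≫ v = v') (i : I) :
    pullback (leg D c i) v'.left ⟶ pullback (leg D c i) v.left :=
  pullback.lift (pullback.fst (leg D c i) v'.left)
      (pullback.snd (leg D c i) v'.left ≫ e.left) (by
    rw [Category.assoc, ← Over.comp_left, h, pullback.condition])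

/-- Comparison of base changes along a factorization `v' = e ≫ v`. -/
noncomputable def bcComp {V' : Over B} (e : V' ⟶ V) (v' : V' ⟶ c.pt) (h : e ≫ v = v') (i : I) :
    (bc D c V' v').obj i ⟶ (bc D c V v).obj i :=
  Over.homMk (U := Over.mk (pullback.snd (leg D c i) v'.left ≫ V'.hom))
    (V := Over.mk (pullback.snd (leg D c i) v.left ≫ V.hom)) (bcCompL D c V v e v' h i) (by
    change bcCompL D c V v e v' h i ≫ pullback.snd (leg D c i) v.left ≫ V.hom =
      pullback.snd (leg D c i) v'.left ≫ V'.hom
    rw [bcCompL, ← Category.assoc, pullback.lift_snd, Category.assoc, Over.w e])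

theorem bcComp_ι {V' : Over B} (e : V' ⟶ V) (v' : V' ⟶ c.pt) (h : e ≫ v = v') (i : I) :
    bcComp D c V v e v' h i ≫ (bcι D c V v).app i = (bcι D c V' v').app i ≫ e := by
  ext
  change bcCompL D c V v e v' h i ≫ pullback.snd (leg D c i) v.left = _
  rw [bcCompL, pullback.lift_snd]
  rfl

theorem bcComp_α {V' : Over B} (e : V' ⟶ V) (v' : V' ⟶ c.pt) (h : e ≫ v = v') (i : I) :
    bcComp D c V v e v' h i ≫ (bcα D c V v).app i = (bcα D c V' v').app i := by
  ext
  change bcCompL D c V v e v' h i ≫ pullback.fst (leg D c i) v.left = _
  rw [bcCompL, pullback.lift_fst]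
  rfl

end Groth.Agent.Lib.helper5.FpqcColim
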