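import Groth.Agent.Lib.Helper5.FpqcHomB
import Groth.Agent.Lib.Helper5.FpqcColimA

/-!
# Base change of standard fpqc coverings
-/

set_option autoImplicit false
universe u
open CategoryTheory CategoryTheory.Limits AlgebraicGeometry Opposite

namespace Groth.Agent.Lib.helper5.FpqcHom

open AlgSp

variable {S : Scheme.{u}} {ι : Type u} {T T' : Sp S} {Ti Ti' : ι → Sp S}

theorem StdCovers.baseChange {g : ∀ i, Ti i ⟶ T} (h : StdCovers g) (t : T' ⟶ T)
    (g' : ∀ i, Ti' i ⟶ T') (q : ∀ i, Ti' i ⟶ Ti i) (sq : ∀ i, IsPullback (g' i) (q i) t (g i)) :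
    StdCovers g' := by
  intro Z hZ h'
  obtain ⟨m, W, c, hW, hfl, hsurj, hlift⟩ := h Z hZ (h' ≫ t)
  refine ⟨m, W, c, hW, hfl, hsurj, fun j => ?_⟩
  obtain ⟨i, l, hl⟩ := hlift j
  exact ⟨i, (sq i).lift ((yon S).map (c j) ≫ h') l (by rw [Category.assoc, ← hl]),
    (sq i).lift_fst _ _ _⟩

end Groth.Agent.Lib.helper5.FpqcHom
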