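import Mathlib
import Groth.Prelude.Def_AlgSp
import Groth.Agent.Lib.Helper14.OverFppf

/-!
# Algebraic spaces are fpqc sheaves, part A: separatedness (helper5)

* `exists_desc`: morphisms of schemes over `S` descend along flat surjective quasi-compact morphisms.
* `sep`: two maps `h_T ⟶ X` to an algebraic space agreeing after an fpqc cover `T' ⟶ T` are equal.
-/

set_option autoImplicit false
universe u
open CategoryTheory CategoryTheory.Limits AlgebraicGeometry Opposite

namespace Groth.Agent.Lib.helper5.FpqcSp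

open AlgSp

variable {S : Scheme.{u}}

/-- `p` is flat, surjective and quasi-compact on underlying schemes. -/
structure IsFpqcHom {T T' : Over S} (p : T' ⟶ T) : Prop where
  flat : Flat p.left
  surj : Surjective p.left
  qc : QuasiCompact p.left

theorem IsFpqcHom.effectiveEpi {T T' : Over S} {p : T' ⟶ T} (hp : IsFpqcHom p) : EffectiveEpi p := by
  have := hp.flat
  have := hp.surj
  have := hp.qc
  exact Groth.Agent.Lib.Helper14.GrpQuot.effectiveEpi_over_of_left p

theorem IsFpqcHom.epi {T T' : Over S} {p : T' ⟶ T} (hp : IsFpqcHom p) : Epi p := by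
  have := hp.effectiveEpi
  infer_instance

theorem IsFpqcHom.of_isPullback {T T' Z Z' : Over S} {p : T' ⟶ T} (hp : IsFpqcHom p)
    {g : Z ⟶ T} {g' : Z' ⟶ T'} {p' : Z' ⟶ Z} (sq : IsPullback g' p' p g) : IsFpqcHom p' := by
  have sq' : IsPullback g'.left p'.left p.left g.left := sq.map (Over.forget S)
  have := hp.flat
  have := hp.surj
  have := hp.qc
  exact ⟨MorphismProperty.of_isPullback sq' hp.flat, MorphismProperty.of_isPullback sq' hp.surj,
    MorphismProperty.of_isPullback sq' hp.qc⟩

/-- Descent of morphisms of schemes over `S` along an fpqc morphism. -/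
theorem exists_desc {T T' W : Over S} {p : T' ⟶ T} (hp : IsFpqcHom p) (s' : T' ⟶ W)
    (h : ∀ (Z : Over S) (z1 z2 : Z ⟶ T'), z1 ≫ p = z2 ≫ p → z1 ≫ s' = z2 ≫ s') :
    ∃ s : T ⟶ W, p ≫ s = s' := by
  have := hp.effectiveEpi
  exact ⟨EffectiveEpi.desc p s' (fun {Z} g₁ g₂ hg => h Z g₁ g₂ hg), EffectiveEpi.fac p s' _⟩

/-- An algebraic space is a separated presheaf for fpqc morphisms. -/
theorem sep {X : Sp S} (hX : IsAlgSpace X) {T T' : Over S} {p : T' ⟶ T} (hp : IsFpqcHom p)
    (a b : (yon S).obj T ⟶ X) (h : (yon S).map p ≫ a = (yon S).map p ≫ b) : a = b := by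
  obtain ⟨W, q2, q1', sq⟩ := hX.representable_from_yon a b
  obtain ⟨q1, rfl⟩ := (yon S).map_surjective q1'
  obtain ⟨s', hs'⟩ := (yon S).map_surjective (sq.lift ((yon S).map p) ((yon S).map p) h)
  have hs1 : s' ≫ q1 = p := by
    apply (yon S).map_injective
    rw [Functor.map_comp, hs', sq.lift_fst]
  have hs2 : s' ≫ q2 = p := by
    apply (yon S).map_injective
    rw [Functor.map_comp, hs', sq.lift_snd]
  have hmono : ∀ (Z : Over S) (m m' : Z ⟶ W), m ≫ q1 = m' ≫ q1 → m ≫ q2 = m' ≫ q2 → m = m' := by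
    intro Z m m' h1 h2
    apply (yon S).map_injective
    apply sq.hom_ext
    · rw [← Functor.map_comp, ← Functor.map_comp, h1]
    · rw [← Functor.map_comp, ← Functor.map_comp, h2]
  obtain ⟨s, hs⟩ := exists_desc hp s' (fun Z z1 z2 hz => by
    apply hmono
    · rw [Category.assoc, Category.assoc, hs1, hz]
    · rw [Category.assoc, Category.assoc, hs2, hz])
  have := hp.epi
  have e1 : s ≫ q1 = 𝟙 T := by
    rw [← cancel_epi p, ← Category.assoc, hs, hs1, Category.comp_id]
  have e2 : s ≫ q2 = 𝟙 T := by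
    rw [← cancel_epi p, ← Category.assoc, hs, hs2, Category.comp_id]
  calc a = (yon S).map (s ≫ q1) ≫ a := by rw [e1, (yon S).map_id, Category.id_comp]
    _ = (yon S).map s ≫ (yon S).map q1 ≫ a := by rw [Functor.map_comp, Category.assoc]
    _ = (yon S).map s ≫ (yon S).map q2 ≫ b := by rw [sq.w]
    _ = (yon S).map (s ≫ q2) ≫ b := by rw [Functor.map_comp, Category.assoc]
    _ = b := by rw [e2, (yon S).map_id, Category.id_comp]

end Groth.Agent.Lib.helper5.FpqcSp
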