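import Mathlib
import Groth.Prelude.Def_AlgSp
import Groth.Prelude.Def_DescFam
import Groth.Agent.Lib.Helper5.FpqcSpA

/-!
# Algebraic spaces are fpqc sheaves, part B: the descent datum of a chart (helper5)

Given `p : T' ⟶ T`, a section `c : h_{T'} ⟶ X` whose two pullbacks to `T' ×_T T'` agree, and a chart
`u : h_U ⟶ X` with `V' = T' ×_X U`, we build the descent datum on `V' ⟶ T'` relative to `p`.
-/

set_option autoImplicit false
universe u
open CategoryTheory CategoryTheory.Limits AlgebraicGeometry Opposite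

namespace Groth.Agent.Lib.helper5.FpqcSp

open AlgSp Desc

variable {S : Scheme.{u}} {X : Sp S} {T T' : Over S} {p : T' ⟶ T} {c : (yon S).obj T' ⟶ X}
  {U V' : Over S} {u : (yon S).obj U ⟶ X} {v' : V' ⟶ T'} {w' : V' ⟶ U}

/-- The compatibility condition on `c`. -/
def Compat (p : T' ⟶ T) (c : (yon S).obj T' ⟶ X) : Prop :=
  ∀ (Z : Over S) (z1 z2 : Z ⟶ T'), z1 ≫ p = z2 ≫ p → (yon S).map z1 ≫ c = (yon S).map z2 ≫ c

section

variable (sq : IsPullback ((yon S).map w') ((yon S).map v') u c)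

include sq

/-- `(v', w')` is jointly monic on underlying schemes. -/
theorem chart_hom_ext {Z : Scheme.{u}} (m m' : Z ⟶ V'.left) (h1 : m ≫ v'.left = m' ≫ v'.left)
    (h2 : m ≫ w'.left = m' ≫ w'.left) : m = m' := by
  have hV : m' ≫ V'.hom = m ≫ V'.hom := by
    rw [← Over.w v', ← Category.assoc, ← Category.assoc, h1]
  let a : Over.mk (m ≫ V'.hom) ⟶ V' := Over.homMk m rfl
  let b : Over.mk (m ≫ V'.hom) ⟶ V' := Over.homMk m' hV
  have hab : a = b := by
    apply (yon S).map_injective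
    apply sq.hom_ext
    · rw [← Functor.map_comp, ← Functor.map_comp]
      congr 1
      exact Over.OverMorphism.ext h2
    · rw [← Functor.map_comp, ← Functor.map_comp]
      congr 1
      exact Over.OverMorphism.ext h1
  exact congrArg (fun t => t.left) hab

/-- Existence of points of `V'` with prescribed components. -/
theorem chart_exists_lift {Z : Over S} (x : Z ⟶ T') (g : Z ⟶ U)
    (hgc : (yon S).map g ≫ u = (yon S).map x ≫ c) :
    ∃ m : Z ⟶ V', m ≫ v' = x ∧ m ≫ w' = g := by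
  obtain ⟨m, hm⟩ := (yon S).map_surjective (sq.lift ((yon S).map g) ((yon S).map x) hgc)
  refine ⟨m, ?_, ?_⟩
  · apply (yon S).map_injective
    rw [Functor.map_comp, hm, sq.lift_snd]
  · apply (yon S).map_injective
    rw [Functor.map_comp, hm, sq.lift_fst]

/-- Transport of a point of `V'` over `x₀` to a point over `x₁` with the same `U`-component. -/
theorem chart_exists_transport (hc : Compat p c) {Z : Scheme.{u}} (x₀ x₁ : Z ⟶ T'.left)
    (h : x₀ ≫ p.left = x₁ ≫ p.left) (v : Z ⟶ V'.left) (hv : v ≫ v'.left = x₀) :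
    ∃ m : Z ⟶ V'.left, m ≫ v'.left = x₁ ∧ m ≫ w'.left = v ≫ w'.left := by
  have hT : x₀ ≫ T'.hom = x₁ ≫ T'.hom := by
    rw [← Over.w p, ← Category.assoc, ← Category.assoc, h]
  have hvV : v ≫ V'.hom = x₁ ≫ T'.hom := by
    rw [← Over.w v', ← Category.assoc, hv, hT]
  let Z' : Over S := Over.mk (x₁ ≫ T'.hom)
  let vS : Z' ⟶ V' := Over.homMk v hvV
  let x₀S : Z' ⟶ T' := Over.homMk x₀ hT
  let x₁S : Z' ⟶ T' := Over.homMk x₁ rfl
  have e1 : vS ≫ v' = x₀S := Over.OverMorphism.ext hv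
  have e2 : x₀S ≫ p = x₁S ≫ p := Over.OverMorphism.ext h
  obtain ⟨m, hm1, hm2⟩ := chart_exists_lift sq x₁S (vS ≫ w') (by
    rw [Functor.map_comp, Category.assoc, sq.w, ← Category.assoc, ← Functor.map_comp, e1]
    exact hc Z' x₀S x₁S e2)
  exact ⟨m.left, congrArg (fun t => t.left) hm1, congrArg (fun t => t.left) hm2⟩

/-- The transport map. -/
noncomputable def chartTr (hc : Compat p c) {Z : Scheme.{u}} (x₀ x₁ : Z ⟶ T'.left)
    (h : x₀ ≫ p.left = x₁ ≫ p.left) (v : Lifts (Over.mk v'.left) x₀) :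
    Lifts (Over.mk v'.left) x₁ :=
  ⟨(chart_exists_transport sq hc x₀ x₁ h v.1 v.2).choose,
    (chart_exists_transport sq hc x₀ x₁ h v.1 v.2).choose_spec.1⟩

theorem chartTr_w (hc : Compat p c) {Z : Scheme.{u}} (x₀ x₁ : Z ⟶ T'.left)
    (h : x₀ ≫ p.left = x₁ ≫ p.left) (v : Lifts (Over.mk v'.left) x₀) :
    (chartTr sq hc x₀ x₁ h v).1 ≫ w'.left = v.1 ≫ w'.left :=
  (chart_exists_transport sq hc x₀ x₁ h v.1 v.2).choose_spec.2

theorem lifts_ext {Z : Scheme.{u}} {x : Z ⟶ T'.left} (a b : Lifts (Over.mk v'.left) x)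
    (h : a.1 ≫ w'.left = b.1 ≫ w'.left) : a = b :=
  Subtype.ext (chart_hom_ext sq a.1 b.1 (a.2.trans b.2.symm) h)

/-- The descent datum on `V' ⟶ T'` relative to `p`. -/
noncomputable def chartDD (hc : Compat p c) : SchDDFam (fun _ : PUnit.{u + 1} => p.left) where
  obj _ := Over.mk v'.left
  φ Z _ _ x₀ x₁ h :=
    { toFun := chartTr sq hc x₀ x₁ h
      invFun := chartTr sq hc x₁ x₀ h.symm
      left_inv := fun v => lifts_ext sq _ _ (by rw [chartTr_w, chartTr_w])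
      right_inv := fun v => lifts_ext sq _ _ (by rw [chartTr_w, chartTr_w]) }
  φ_natural Z Z' g _ _ x₀ x₁ h y₀ y₁ hy₀ hy₁ h' v v₁ hv := by
    apply chart_hom_ext sq
    · rw [Category.assoc]
      have e1 : (chartTr sq hc y₀ y₁ h' v₁).1 ≫ v'.left = y₁ := (chartTr sq hc y₀ y₁ h' v₁).2
      have e2 : (chartTr sq hc x₀ x₁ h v).1 ≫ v'.left = x₁ := (chartTr sq hc x₀ x₁ h v).2
      change (chartTr sq hc y₀ y₁ h' v₁).1 ≫ v'.left = g ≫ (chartTr sq hc x₀ x₁ h v).1 ≫ v'.left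
      rw [e1, e2, hy₁]
    · change (chartTr sq hc y₀ y₁ h' v₁).1 ≫ w'.left = (g ≫ (chartTr sq hc x₀ x₁ h v).1) ≫ w'.left
      rw [Category.assoc, chartTr_w, chartTr_w, hv, Category.assoc]
  φ_self Z _ x v := lifts_ext sq _ _ (chartTr_w sq hc x x rfl v)
  φ_comp Z _ _ _ x₀ x₁ x₂ h₀₁ h₁₂ v := lifts_ext sq _ _ (by
    change (chartTr sq hc x₁ x₂ h₁₂ (chartTr sq hc x₀ x₁ h₀₁ v)).1 ≫ w'.left =
      (chartTr sq hc x₀ x₂ (h₀₁.trans h₁₂) v).1 ≫ w'.left
    rw [chartTr_w, chartTr_w, chartTr_w])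

end

end Groth.Agent.Lib.helper5.FpqcSp
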