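import Mathlib
import Groth.Prelude.Def_AlgSp
import Groth.Prelude.Def_DescFam
import Groth.Agent.Lib.Helper5.FpqcSpB
import Groth.Agent.Lib.Helper4.DescIQAFam
import Groth.Agent.S1402
import Groth.Agent.S5067

/-!
# Algebraic spaces are fpqc sheaves, part C: descending an étale chart (helper5)

`exists_descended_chart`: in the situation of part B with `U` affine and `V' ⟶ T'` étale, the scheme `V'` descends to a
scheme `V₀` étale over `T`, and the projection `V' ⟶ U` descends to `V₀ ⟶ U`.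
-/

set_option autoImplicit false
universe u
open CategoryTheory CategoryTheory.Limits AlgebraicGeometry Opposite

namespace Groth.Agent.Lib.helper5.FpqcSp

open AlgSp Desc

variable {S : Scheme.{u}} {X : Sp S} {T T' : Over S} {p : T' ⟶ T} {c : (yon S).obj T' ⟶ X}
  {U V' : Over S} {u : (yon S).obj U ⟶ X} {v' : V' ⟶ T'} {w' : V' ⟶ U}

theorem chart_isSeparated [IsAffine U.left]
    (sq : IsPullback ((yon S).map w') ((yon S).map v') u c) : IsSeparated v'.left := by
  let j : V'.left ⟶ pullback T'.hom U.hom := pullback.lift v'.left w'.left (by rw [Over.w v', Over.w w'])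
  have hj1 : j ≫ pullback.fst T'.hom U.hom = v'.left := pullback.lift_fst _ _ _
  have hj2 : j ≫ pullback.snd T'.hom U.hom = w'.left := pullback.lift_snd _ _ _
  haveI : Mono j := ⟨fun m m' h => chart_hom_ext sq m m'
    (by
      have := congrArg (fun t => t ≫ pullback.fst T'.hom U.hom) h
      simp only [Category.assoc, hj1] at this
      exact this)
    (by
      have := congrArg (fun t => t ≫ pullback.snd T'.hom U.hom) h
      simp only [Category.assoc, hj2] at this
      exact this)⟩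
  rw [← hj1]
  infer_instance

theorem exists_descended_chart (hp : IsFpqcHom p) (hc : Compat p c) [IsAffine U.left]
    (sq : IsPullback ((yon S).map w') ((yon S).map v') u c) (het : Etale v'.left) :
    ∃ (V₀ : Over S) (v₀ : V₀ ⟶ T) (r : V' ⟶ V₀) (w₀ : V₀ ⟶ U),
      IsPullback v'.left r.left p.left v₀.left ∧ Etale v₀.left ∧ r ≫ w₀ = w' := by
  have := hp.flat
  have := hp.surj
  have := hp.qc
  haveI : IsSeparated v'.left := chart_isSeparated sq
  haveI : LocallyQuasiFinite v'.left := Groth.Agent.S5067.locallyQuasiFinite_of_unramified v'.left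
  have hD : ∀ i, MoreMor.IsIndQuasiAffineHom (((chartDD sq hc).obj i).hom) := fun _ =>
    Groth.Agent.S1402.result v'.left
  have hf : Presieve.ofArrows (fun _ : PUnit.{u + 1} => T'.left) (fun _ => p.left) ∈
      Scheme.fpqcPrecoverage T.left := by
    rw [Presieve.ofArrows_pUnit]
    exact Scheme.Hom.singleton_mem_fpqcPrecoverage _
  obtain ⟨V₀, ⟨θ⟩⟩ := Groth.Agent.Lib.Helper4.DescIQAFam.isEffective_of_isIndQuasiAffineHom hf
    (chartDD sq hc) hD
  -- the comparison isomorphism
  let eh : pullback p.left V₀.hom ⟶ V'.left := (θ.hom.hom ⟨⟩).left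
  let ei : V'.left ⟶ pullback p.left V₀.hom := (θ.inv.hom ⟨⟩).left
  have h1 : eh ≫ ei = 𝟙 _ := by
    have := congrArg (fun a => (SchDDFam.Hom.hom a ⟨⟩).left) θ.hom_inv_id
    exact this
  have h2 : ei ≫ eh = 𝟙 _ := by
    have := congrArg (fun a => (SchDDFam.Hom.hom a ⟨⟩).left) θ.inv_hom_id
    exact this
  have h3 : eh ≫ v'.left = pullback.fst p.left V₀.hom := Over.w (θ.hom.hom ⟨⟩)
  have h4 : ei ≫ pullback.fst p.left V₀.hom = v'.left := Over.w (θ.inv.hom ⟨⟩)
  obtain ⟨r, hr⟩ : ∃ r : V'.left ⟶ V₀.left, r = ei ≫ pullback.snd p.left V₀.hom := ⟨_, rfl⟩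
  have hpb : IsPullback v'.left r p.left V₀.hom := by
    refine IsPullback.of_iso (IsPullback.of_hasPullback p.left V₀.hom) ⟨eh, ei, h1, h2⟩
      (Iso.refl _) (Iso.refl _) (Iso.refl _) ?_ ?_ ?_ ?_
    · simpa using h3.symm
    · simp only [Iso.refl_hom, Category.comp_id]
      rw [hr, ← Category.assoc, h1, Category.id_comp]
    · simp
    · simp
  have hV₀et : Etale V₀.hom :=
    MorphismProperty.of_isPullback_of_descendsAlong (P := @Etale)
      (Q := @Surjective ⊓ @Flat ⊓ @QuasiCompact) hpb ⟨⟨hp.surj, hp.flat⟩, hp.qc⟩ het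
  haveI : Flat r := MorphismProperty.of_isPullback hpb hp.flat
  haveI : Surjective r := MorphismProperty.of_isPullback hpb hp.surj
  haveI : QuasiCompact r := MorphismProperty.of_isPullback hpb hp.qc
  -- descend `w'`
  have hcompat : ∀ {Z : Scheme.{u}} (z1 z2 : Z ⟶ V'.left), z1 ≫ r = z2 ≫ r →
      z1 ≫ w'.left = z2 ≫ w'.left := by
    intro Z z1 z2 hz
    have h : (z1 ≫ v'.left) ≫ p.left = (z2 ≫ v'.left) ≫ p.left := by
      rw [Category.assoc, Category.assoc, hpb.w, ← Category.assoc, ← Category.assoc, hz]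
    let v : Lifts ((chartDD sq hc).obj ⟨⟩) (z1 ≫ v'.left) := ⟨z1, rfl⟩
    let vc : Lifts (((toDDFam (fun _ : PUnit.{u + 1} => p.left)).obj V₀).obj ⟨⟩) (z1 ≫ v'.left) :=
      ⟨z1 ≫ ei, by
        change (z1 ≫ ei) ≫ pullback.fst p.left V₀.hom = z1 ≫ v'.left
        rw [Category.assoc, h4]⟩
    have hcomm := θ.hom.comm (i := PUnit.unit) (j := PUnit.unit) (z1 ≫ v'.left) (z2 ≫ v'.left) h vc v (by
      change z1 = (z1 ≫ ei) ≫ eh
      rw [Category.assoc, h2, Category.comp_id])
    have e1 : (((toDDFam (fun _ : PUnit.{u + 1} => p.left)).obj V₀).φ (i := PUnit.unit) (j := PUnit.unit)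
        (z1 ≫ v'.left) (z2 ≫ v'.left) h vc).1 = z2 ≫ ei := by
      change (canMapFam (fun _ : PUnit.{u + 1} => p.left) V₀ (i := PUnit.unit) (j := PUnit.unit)
        (z1 ≫ v'.left) (z2 ≫ v'.left) h vc).1 = _
      rw [canMapFam_val]
      apply pullback.hom_ext
      · rw [pullback.lift_fst, Category.assoc, h4]
      · rw [pullback.lift_snd]
        change (z1 ≫ ei) ≫ pullback.snd p.left V₀.hom = (z2 ≫ ei) ≫ pullback.snd p.left V₀.hom
        rw [Category.assoc, Category.assoc, ← hr]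
        exact hz
    have e2 : (chartTr sq hc (z1 ≫ v'.left) (z2 ≫ v'.left) h v).1 = z2 := by
      change ((chartDD sq hc).φ (i := PUnit.unit) (j := PUnit.unit) (z1 ≫ v'.left) (z2 ≫ v'.left) h v).1 = z2
      rw [hcomm, e1]
      change (z2 ≫ ei) ≫ eh = z2
      rw [Category.assoc, h2, Category.comp_id]
    have e3 := chartTr_w sq hc (z1 ≫ v'.left) (z2 ≫ v'.left) h v
    rw [e2] at e3
    exact e3.symm
  let w₀ : V₀.left ⟶ U.left := EffectiveEpi.desc r w'.left (fun z1 z2 hz => hcompat z1 z2 hz)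
  have hw₀ : r ≫ w₀ = w'.left := EffectiveEpi.fac r w'.left _
  have hrS : r ≫ V₀.hom ≫ T.hom = V'.hom := by
    rw [← Category.assoc, ← hpb.w, Category.assoc, Over.w p, Over.w v']
  have hw₀S : w₀ ≫ U.hom = V₀.hom ≫ T.hom := by
    rw [← cancel_epi r, ← Category.assoc, hw₀, Over.w w', hrS]
  refine ⟨Over.mk (V₀.hom ≫ T.hom), Over.homMk V₀.hom rfl, Over.homMk r hrS, Over.homMk w₀ hw₀S,
    hpb, hV₀et, Over.OverMorphism.ext hw₀⟩

end Groth.Agent.Lib.helper5.FpqcSp
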