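import Mathlib
import Groth.Prelude.Def_AlgSp
import Groth.Agent.Lib.Helper5.FpqcSpC
import Groth.Agent.Lib.Helper5.AlgSpInf3
import Groth.Agent.Lib.Helper11.AlgSpBasic
import Groth.Agent.S10213

/-!
# Algebraic spaces are fpqc sheaves, part D: gluing (helper5)

`glue`: for an algebraic space `X`, an fpqc morphism `p : T' ⟶ T` and `c : h_{T'} ⟶ X` whose two pullbacks to
`T' ×_T T'` agree, there is `ξ : h_T ⟶ X` with `h_p ≫ ξ = c`.
-/

set_option autoImplicit false
universe u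
open CategoryTheory CategoryTheory.Limits AlgebraicGeometry Opposite

namespace Groth.Agent.Lib.helper5.FpqcSp

open AlgSp Desc

variable {S : Scheme.{u}} {X : Sp S} {T T' : Over S} {p : T' ⟶ T} {c : (yon S).obj T' ⟶ X}

/-- Two maps out of a representable sheaf agreeing on a flat lfp jointly surjective family are equal. -/
theorem eq_of_cover {G : Sp S} {V : Over S} {κ : Type u} (Vk : κ → Over S) (c : ∀ k, Vk k ⟶ V)
    (h1 : ∀ k, Flat (c k).left) (h2 : ∀ k, LocallyOfFinitePresentation (c k).left)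
    (h3 : ∀ x : ↥V.left, ∃ k, x ∈ Set.range (c k).left)
    (m m' : (yon S).obj V ⟶ G) (h : ∀ k, (yon S).map (c k) ≫ m = (yon S).map (c k) ≫ m') : m = m' := by
  have hsh : Presieve.IsSheafFor G.obj (Presieve.ofArrows Vk c) := by
    rw [Presieve.isSheafFor_iff_generate]
    exact ((isSheaf_iff_isSheaf_of_type _ _).1 G.property) _
      (Groth.Agent.S10510.cover_mem_family Vk c h1 h2 h3)
  apply (AlgSp.J S).uliftYonedaEquiv.injective
  apply hsh.isSeparatedFor.ext
  rintro Y f ⟨k⟩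
  rw [GrothendieckTopology.uliftYonedaEquiv_naturality,
    GrothendieckTopology.uliftYonedaEquiv_naturality, h k]

theorem exists_lift_chart {V' V₀ : Over S} {v' : V' ⟶ T'} {r : V' ⟶ V₀} {v₀ : V₀ ⟶ T}
    (hpb : IsPullback v'.left r.left p.left v₀.left) {Z' : Over S} (a : Z' ⟶ T') (b : Z' ⟶ V₀)
    (h : a ≫ p = b ≫ v₀) : ∃ l : Z' ⟶ V', l ≫ v' = a ∧ l ≫ r = b := by
  have h' : a.left ≫ p.left = b.left ≫ v₀.left := congrArg (fun t => t.left) h
  refine ⟨Over.homMk (hpb.lift a.left b.left h') ?_, ?_, ?_⟩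
  · rw [← Over.w v', ← Category.assoc, hpb.lift_fst, Over.w a]
  · exact Over.OverMorphism.ext (hpb.lift_fst _ _ _)
  · exact Over.OverMorphism.ext (hpb.lift_snd _ _ _)

theorem glue (hX : IsAlgSpace X) (hp : IsFpqcHom p) (hc : Compat p c) :
    ∃ ξ : (yon S).obj T ⟶ X, (yon S).map p ≫ ξ = c := by
  obtain ⟨ι, V, hV, q, pS, hpe, hps, -⟩ := Groth.Agent.S10213.result ⟨X, hX⟩
  change (yon S).obj (Over.mk q) ⟶ X at pS
  let U : ι → Over S := fun i => Over.mk (Sigma.ι V i ≫ q)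
  let u : ∀ i, (yon S).obj (U i) ⟶ X := fun i =>
    (yon S).map (Over.homMk (U := Over.mk (Sigma.ι V i ≫ (Over.mk q).hom)) (V := Over.mk q)
      (Sigma.ι V i) rfl) ≫ pS
  have hu : ∀ i, RepWith @Etale (u i) := fun i =>
    (Groth.Agent.Lib.helper11.chart_comp pS hpe (Sigma.ι V i)).1
  have hupt : ∀ i (v : ↥(V i)), Points.ofPt (u i) v = Points.ofPt pS (Sigma.ι V i v) := fun i =>
    (Groth.Agent.Lib.helper11.chart_comp pS hpe (Sigma.ι V i)).2
  have hdata : ∀ i, ∃ (V' : Over S) (v' : V' ⟶ T') (w' : V' ⟶ U i) (V₀ : Over S) (v₀ : V₀ ⟶ T)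
      (r : V' ⟶ V₀) (w₀ : V₀ ⟶ U i),
      IsPullback ((yon S).map w') ((yon S).map v') (u i) c ∧
        IsPullback v'.left r.left p.left v₀.left ∧ Etale v₀.left ∧ r ≫ w₀ = w' := by
    intro i
    obtain ⟨V', v', w'', sq⟩ := (hu i).rep c
    obtain ⟨w', rfl⟩ := (yon S).map_surjective w''
    have het : Etale v'.left := (hu i).2 c _ v' sq
    haveI : IsAffine (U i).left := hV i
    obtain ⟨V₀, v₀, r, w₀, h1, h2, h3⟩ := exists_descended_chart hp hc sq het
    exact ⟨V', v', w', V₀, v₀, r, w₀, sq, h1, h2, h3⟩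
  choose V' v' w' V₀ v₀ r w₀ hsq hpb het hrw using hdata
  have hsqw : ∀ i, v' i ≫ p = r i ≫ v₀ i := fun i => Over.OverMorphism.ext (hpb i).w
  let ξi : ∀ i, (yon S).obj (V₀ i) ⟶ X := fun i => (yon S).map (w₀ i) ≫ u i
  have hA : ∀ i, (yon S).map (r i) ≫ ξi i = (yon S).map (v' i) ≫ c := by
    intro i
    change (yon S).map (r i) ≫ (yon S).map (w₀ i) ≫ u i = _
    rw [← Category.assoc, ← Functor.map_comp, hrw, (hsq i).w]
  -- the charts cover `T'`
  have hcov' : ∀ t' : ↥T'.left, ∃ i, t' ∈ Set.range (v' i).left := by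
    intro t'
    obtain ⟨σ, hσ⟩ := Groth.Agent.Lib.helper11.surjective_ofPt pS hps (Points.ofPt c t')
    obtain ⟨i, v, rfl⟩ := Groth.Agent.Lib.Helper4.DescIQAFam.exists_sigmaι_eq V σ
    have hvt : Points.ofPt (u i) v = Points.ofPt c t' := by rw [hupt, hσ]
    obtain ⟨y, -, hy⟩ := Groth.Agent.Lib.helper11.exists_of_isPullback_schemes (hsq i) v t' hvt
    exact ⟨i, y, hy⟩
  have hC : ∀ t : ↥T.left, ∃ i, t ∈ Set.range (v₀ i).left := by
    intro t
    have := hp.surj
    obtain ⟨t', rfl⟩ := p.left.surjective t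
    obtain ⟨i, y, rfl⟩ := hcov' t'
    refine ⟨i, (r i).left y, ?_⟩
    rw [← Scheme.Hom.comp_apply, ← (hpb i).w, Scheme.Hom.comp_apply]
  have hB : ∀ i j (Z : Over S) (gi : Z ⟶ V₀ i) (gj : Z ⟶ V₀ j), gi ≫ v₀ i = gj ≫ v₀ j →
      (yon S).map gi ≫ ξi i = (yon S).map gj ≫ ξi j := by
    intro i j Z gi gj hg
    have hπ : IsFpqcHom (pullback.fst (gi ≫ v₀ i) p) :=
      hp.of_isPullback (IsPullback.of_hasPullback (gi ≫ v₀ i) p).flip
    apply sep hX hπ
    obtain ⟨li, hli1, hli2⟩ := exists_lift_chart (hpb i) (pullback.snd (gi ≫ v₀ i) p)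
      (pullback.fst (gi ≫ v₀ i) p ≫ gi) (by rw [Category.assoc, pullback.condition])
    obtain ⟨lj, hlj1, hlj2⟩ := exists_lift_chart (hpb j) (pullback.snd (gi ≫ v₀ i) p)
      (pullback.fst (gi ≫ v₀ i) p ≫ gj) (by rw [Category.assoc, ← hg, pullback.condition])
    have e1 : (yon S).map (pullback.fst (gi ≫ v₀ i) p) ≫ (yon S).map gi ≫ ξi i =
        (yon S).map (pullback.snd (gi ≫ v₀ i) p) ≫ c := by
      rw [← Category.assoc, ← Functor.map_comp, ← hli2, Functor.map_comp, Category.assoc, hA,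
        ← Category.assoc, ← Functor.map_comp, hli1]
    have e2 : (yon S).map (pullback.fst (gi ≫ v₀ i) p) ≫ (yon S).map gj ≫ ξi j =
        (yon S).map (pullback.snd (gi ≫ v₀ i) p) ≫ c := by
      rw [← Category.assoc, ← Functor.map_comp, ← hlj2, Functor.map_comp, Category.assoc, hA,
        ← Category.assoc, ← Functor.map_comp, hlj1]
    rw [e1, e2]
  obtain ⟨ξ, hξ⟩ := exists_glue V₀ v₀ (fun i => by have := het i; infer_instance)
    (fun i => by have := het i; infer_instance) hC ξi hB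
  refine ⟨ξ, ?_⟩
  have hv'et : ∀ i, Etale (v' i).left := fun i => (hu i).2 c _ (v' i) (hsq i)
  apply eq_of_cover V' v' (fun i => by have := hv'et i; infer_instance)
    (fun i => by have := hv'et i; infer_instance) hcov'
  intro i
  rw [← Category.assoc, ← Functor.map_comp, hsqw, Functor.map_comp, Category.assoc, hξ, hA]

end Groth.Agent.Lib.helper5.FpqcSp
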