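import Groth.Agent.S10207
import Groth.Agent.Lib.Helper5.FpqcSpD

/-!
# Fpqc descent of morphisms to an algebraic space, part A: finite flat families of affines
-/

set_option autoImplicit false
universe u
open CategoryTheory CategoryTheory.Limits AlgebraicGeometry Opposite

namespace Groth.Agent.Lib.helper5.FpqcHom

open AlgSp

variable {S : Scheme.{u}}

/-- A finite jointly surjective family of flat quasi-compact morphisms over `S` generates a covering sieve
for the fpqc topology. -/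
theorem cover_mem_fpqc {Z : Over S} {m : ℕ} (W : Fin m → Over S) (c : ∀ j, W j ⟶ Z)
    (hqc : ∀ j, QuasiCompact (c j).left) (hfl : ∀ j, Flat (c j).left)
    (hsurj : ∀ z : ↥Z.left, ∃ j, z ∈ Set.range (c j).left) :
    Sieve.ofArrows W c ∈ (Scheme.fpqcTopology.over S) Z := by
  rw [GrothendieckTopology.mem_over_iff, Sieve.overEquiv_ofArrows]
  let 𝒰 : Scheme.Cover.{u} (Scheme.precoverage @Flat) Z.left :=
    Scheme.Cover.mkOfCovers (ULift.{u} (Fin m)) (fun j => (W j.down).left) (fun j => (c j.down).left)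
      (fun z => by
        obtain ⟨j, y, hy⟩ := hsurj z
        exact ⟨⟨j⟩, y, hy⟩)
      (fun j => hfl j.down)
  haveI : Finite 𝒰.I₀ := inferInstanceAs (Finite (ULift.{u} (Fin m)))
  haveI : ∀ i, QuasiCompact (𝒰.f i) := fun i => hqc i.down
  have h := Scheme.Cover.mem_propQCTopology 𝒰
  rw [Scheme.fpqcTopology_eq_propQCTopology]
  convert h using 1
  ext Y f
  constructor
  · rintro ⟨Y', a, b, ⟨j⟩, rfl⟩
    exact ⟨_, a, _, ⟨(⟨j⟩ : ULift.{u} (Fin m))⟩, rfl⟩
  · rintro ⟨Y', a, b, ⟨j⟩, rfl⟩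
    exact ⟨_, a, _, ⟨j.down⟩, rfl⟩

theorem isSheafFor_fam {X : Sp S} (hX : IsAlgSpace X) {Z : Over S} {m : ℕ} (W : Fin m → Over S)
    (c : ∀ j, W j ⟶ Z) (hqc : ∀ j, QuasiCompact (c j).left) (hfl : ∀ j, Flat (c j).left)
    (hsurj : ∀ z : ↥Z.left, ∃ j, z ∈ Set.range (c j).left) :
    Presieve.IsSheafFor X.obj (Presieve.ofArrows W c) := by
  rw [Presieve.isSheafFor_iff_generate]
  exact ((isSheaf_iff_isSheaf_of_type _ _).1 (Groth.Agent.S10207.result ⟨X, hX⟩)) _
    (cover_mem_fpqc W c hqc hfl hsurj)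

/-- Separatedness for finite flat families. -/
theorem sep_fam {X : Sp S} (hX : IsAlgSpace X) {Z : Over S} {m : ℕ} (W : Fin m → Over S)
    (c : ∀ j, W j ⟶ Z) (hqc : ∀ j, QuasiCompact (c j).left) (hfl : ∀ j, Flat (c j).left)
    (hsurj : ∀ z : ↥Z.left, ∃ j, z ∈ Set.range (c j).left)
    (a b : (yon S).obj Z ⟶ X) (h : ∀ j, (yon S).map (c j) ≫ a = (yon S).map (c j) ≫ b) : a = b := by
  have hsh := isSheafFor_fam hX W c hqc hfl hsurj
  apply (AlgSp.J S).uliftYonedaEquiv.injective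
  apply hsh.isSeparatedFor.ext
  rintro Y f ⟨k⟩
  rw [GrothendieckTopology.uliftYonedaEquiv_naturality,
    GrothendieckTopology.uliftYonedaEquiv_naturality, h k]

/-- Gluing for finite flat families. -/
theorem glue_fam {X : Sp S} (hX : IsAlgSpace X) {Z : Over S} {m : ℕ} (W : Fin m → Over S)
    (c : ∀ j, W j ⟶ Z) (hqc : ∀ j, QuasiCompact (c j).left) (hfl : ∀ j, Flat (c j).left)
    (hsurj : ∀ z : ↥Z.left, ∃ j, z ∈ Set.range (c j).left)
    (l : ∀ j, (yon S).obj (W j) ⟶ X)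
    (hl : ∀ i j (Z' : Over S) (gi : Z' ⟶ W i) (gj : Z' ⟶ W j), gi ≫ c i = gj ≫ c j →
      (yon S).map gi ≫ l i = (yon S).map gj ≫ l j) :
    ∃ ξ : (yon S).obj Z ⟶ X, ∀ j, (yon S).map (c j) ≫ ξ = l j := by
  have hsh := isSheafFor_fam hX W c hqc hfl hsurj
  rw [Presieve.isSheafFor_arrows_iff] at hsh
  obtain ⟨t, ht, -⟩ := hsh (fun k => (AlgSp.J S).uliftYonedaEquiv (l k)) (by
    intro i j Z' gi gj comm
    rw [GrothendieckTopology.uliftYonedaEquiv_naturality,
      GrothendieckTopology.uliftYonedaEquiv_naturality, hl i j Z' gi gj comm])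
  refine ⟨(AlgSp.J S).uliftYonedaEquiv.symm t, fun k => ?_⟩
  apply (AlgSp.J S).uliftYonedaEquiv.injective
  rw [← GrothendieckTopology.uliftYonedaEquiv_naturality, Equiv.apply_symm_apply, ht k]

end Groth.Agent.Lib.helper5.FpqcHom
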