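import Groth.Agent.Lib.Helper5.FpqcHomA
import Groth.Agent.Lib.Helper5.AlgSpInf3
import Groth.Agent.Lib.Helper5.AlgSpAffDesc

/-!
# Fpqc descent of morphisms to an algebraic space, part B: adapted maps
-/

set_option autoImplicit false
universe u
open CategoryTheory CategoryTheory.Limits AlgebraicGeometry Opposite

namespace Groth.Agent.Lib.helper5.FpqcHom

open AlgSp Groth.Agent.Lib.helper5.FpqcSp

variable {S : Scheme.{u}} {ι : Type u} {T : Sp S} {Ti : ι → Sp S} {B : Sp S}

/-- Coherence of a family `bi : Ti i ⟶ B` with respect to `g`. -/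
def Coh (g : ∀ i, Ti i ⟶ T) (bi : ∀ i, Ti i ⟶ B) : Prop :=
  ∀ (Q : Sp S) (i j : ι) (l : Q ⟶ Ti i) (l' : Q ⟶ Ti j), l ≫ g i = l' ≫ g j → l ≫ bi i = l' ≫ bi j

/-- Standard fpqc coverings of affine schemes over `T` refine the family `g`. -/
def StdCovers (g : ∀ i, Ti i ⟶ T) : Prop :=
  ∀ (Z : Over S), IsAffine Z.left → ∀ (h : (yon S).obj Z ⟶ T),
    ∃ (m : ℕ) (W : Fin m → Over S) (c : ∀ j, W j ⟶ Z),
      (∀ j, IsAffine (W j).left) ∧ (∀ j, Flat (c j).left) ∧
      (∀ z : ↥Z.left, ∃ j, z ∈ Set.range (c j).left) ∧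
      ∀ j, ∃ (i : _) (l : (yon S).obj (W j) ⟶ Ti i), l ≫ g i = (yon S).map (c j) ≫ h

/-- `m : h_Z ⟶ B` is adapted to `z : h_Z ⟶ T`: it restricts to `l ≫ bi i` on every lift `l` of `z`
through some `g i`. -/
def Adapted (g : ∀ i, Ti i ⟶ T) (bi : ∀ i, Ti i ⟶ B) {Z : Over S} (z : (yon S).obj Z ⟶ T)
    (m : (yon S).obj Z ⟶ B) : Prop :=
  ∀ (W : Over S) (c : W ⟶ Z) (i : ι) (l : (yon S).obj W ⟶ Ti i),
    l ≫ g i = (yon S).map c ≫ z → (yon S).map c ≫ m = l ≫ bi i

variable {g : ∀ i, Ti i ⟶ T} {bi : ∀ i, Ti i ⟶ B}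

theorem Adapted.precomp {Z Z' : Over S} {z : (yon S).obj Z ⟶ T} {m : (yon S).obj Z ⟶ B}
    (h : Adapted g bi z m) (e : Z' ⟶ Z) : Adapted g bi ((yon S).map e ≫ z) ((yon S).map e ≫ m) := by
  intro W c i l hl
  rw [← Category.assoc, ← Functor.map_comp]
  apply h
  rw [hl, Functor.map_comp, Category.assoc]

theorem adapted_of_lift (hcoh : Coh g bi) {Z : Over S} (i : ι) (l : (yon S).obj Z ⟶ Ti i) :
    Adapted g bi (l ≫ g i) (l ≫ bi i) := by
  intro W c i' l' hl'
  rw [← Category.assoc]
  exact hcoh _ _ _ _ _ (by rw [Category.assoc, hl'])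

/-- Jointly surjective families pull back to jointly surjective families. -/
theorem pullback_family_surj {W Z : Over S} (c : W ⟶ Z) {κ : Type*} (Vk : κ → Over S)
    (ck : ∀ k, Vk k ⟶ Z) (h3 : ∀ x : ↥Z.left, ∃ k, x ∈ Set.range (ck k).left) (x : ↥W.left) :
    ∃ k, x ∈ Set.range (pullback.fst c (ck k)).left := by
  obtain ⟨k, y, hy⟩ := h3 (c.left x)
  have sq : IsPullback (pullback.fst c (ck k)).left (pullback.snd c (ck k)).left c.left (ck k).left :=
    (IsPullback.of_hasPullback c (ck k)).map (Over.forget S)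
  obtain ⟨p, hp, -⟩ := Scheme.exists_preimage_of_isPullback sq x y hy.symm
  exact ⟨k, p, hp⟩

theorem pullback_fst_prop (P : MorphismProperty Scheme.{u}) [P.IsStableUnderBaseChange]
    {W Z V : Over S} (c : W ⟶ Z) (d : V ⟶ Z) (hd : P d.left) : P (pullback.fst c d).left := by
  have sq : IsPullback (pullback.fst c d).left (pullback.snd c d).left c.left d.left :=
    (IsPullback.of_hasPullback c d).map (Over.forget S)
  exact MorphismProperty.of_isPullback sq.flip hd

/-- Adaptedness is local for flat lfp coverings of `Z`. -/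
theorem Adapted.of_cover {Z : Over S} {z : (yon S).obj Z ⟶ T} {m : (yon S).obj Z ⟶ B}
    {κ : Type u} (Vk : κ → Over S) (ck : ∀ k, Vk k ⟶ Z)
    (h1 : ∀ k, Flat (ck k).left) (h2 : ∀ k, LocallyOfFinitePresentation (ck k).left)
    (h3 : ∀ x : ↥Z.left, ∃ k, x ∈ Set.range (ck k).left)
    (h : ∀ k, Adapted g bi ((yon S).map (ck k) ≫ z) ((yon S).map (ck k) ≫ m)) : Adapted g bi z m := by
  intro W c i l hl
  refine eq_of_cover (fun k => pullback c (ck k)) (fun k => pullback.fst c (ck k))
    (fun k => pullback_fst_prop @Flat c (ck k) (h1 k))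
    (fun k => pullback_fst_prop @LocallyOfFinitePresentation c (ck k) (h2 k))
    (pullback_family_surj c Vk ck h3) _ _ (fun k => ?_)
  have := h k _ (pullback.snd c (ck k)) i ((yon S).map (pullback.fst c (ck k)) ≫ l) (by
    rw [Category.assoc, hl, ← Category.assoc, ← Functor.map_comp, pullback.condition,
      Functor.map_comp, Category.assoc])
  rw [← Category.assoc, ← Functor.map_comp, pullback.condition, Functor.map_comp, Category.assoc,
    this, Category.assoc]

/-- Adaptedness is local for finite flat quasi-compact coverings of `Z`. -/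
theorem Adapted.of_fam (hB : IsAlgSpace B) {Z : Over S} {z : (yon S).obj Z ⟶ T}
    {m : (yon S).obj Z ⟶ B} {n : ℕ} (Wj : Fin n → Over S) (cj : ∀ j, Wj j ⟶ Z)
    (h0 : ∀ j, QuasiCompact (cj j).left) (h1 : ∀ j, Flat (cj j).left)
    (h3 : ∀ x : ↥Z.left, ∃ j, x ∈ Set.range (cj j).left)
    (h : ∀ j, Adapted g bi ((yon S).map (cj j) ≫ z) ((yon S).map (cj j) ≫ m)) : Adapted g bi z m := by
  intro W c i l hl
  refine sep_fam hB (fun j => pullback c (cj j)) (fun j => pullback.fst c (cj j))
    (fun j => pullback_fst_prop @QuasiCompact c (cj j) (h0 j))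
    (fun j => pullback_fst_prop @Flat c (cj j) (h1 j))
    (pullback_family_surj c Wj cj h3) _ _ (fun j => ?_)
  have := h j _ (pullback.snd c (cj j)) i ((yon S).map (pullback.fst c (cj j)) ≫ l) (by
    rw [Category.assoc, hl, ← Category.assoc, ← Functor.map_comp, pullback.condition,
      Functor.map_comp, Category.assoc])
  rw [← Category.assoc, ← Functor.map_comp, pullback.condition, Functor.map_comp, Category.assoc,
    this, Category.assoc]

/-! ### The affine open cover of a scheme over `S` -/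

/-- An affine open of `Z` as an object over `S`. -/
noncomputable def affOpen (Z : Over S) (k : Z.left.affineOpens) : Over S :=
  Over.mk ((k : Z.left.Opens).ι ≫ Z.hom)

/-- The inclusion of an affine open. -/
noncomputable def affOpenι (Z : Over S) (k : Z.left.affineOpens) : affOpen Z k ⟶ Z :=
  Over.homMk (k : Z.left.Opens).ι rfl

instance (Z : Over S) (k : Z.left.affineOpens) : IsAffine (affOpen Z k).left := k.2

instance (Z : Over S) (k : Z.left.affineOpens) : IsOpenImmersion (affOpenι Z k).left :=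
  inferInstanceAs (IsOpenImmersion (k : Z.left.Opens).ι)

theorem affOpenι_surj (Z : Over S) (x : ↥Z.left) : ∃ k, x ∈ Set.range (affOpenι Z k).left := by
  obtain ⟨_, ⟨U₀, hU₀, rfl⟩, hx, -⟩ :=
    (Z.left.isBasis_affineOpens).exists_subset_of_mem_open (Set.mem_univ x) isOpen_univ
  refine ⟨⟨U₀, hU₀⟩, ?_⟩
  change x ∈ Set.range (Scheme.Opens.ι (X := Z.left) U₀)
  rw [Scheme.Opens.range_ι]
  exact hx

/-- Uniqueness of adapted maps over affine schemes. -/
theorem Adapted.unique_affine (hB : IsAlgSpace B) (hstd : StdCovers g) {Z : Over S}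
    [IsAffine Z.left] {z : (yon S).obj Z ⟶ T} {m m' : (yon S).obj Z ⟶ B}
    (hm : Adapted g bi z m) (hm' : Adapted g bi z m') : m = m' := by
  obtain ⟨n, W, c, hW, hfl, hsurj, hlift⟩ := hstd Z inferInstance z
  refine sep_fam hB W c (fun j => ?_) hfl hsurj _ _ (fun j => ?_)
  · haveI := hW j
    infer_instance
  · obtain ⟨i, l, hl⟩ := hlift j
    rw [hm _ (c j) i l hl, hm' _ (c j) i l hl]

/-- Uniqueness of adapted maps. -/
theorem Adapted.unique (hB : IsAlgSpace B) (hstd : StdCovers g) {Z : Over S}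
    {z : (yon S).obj Z ⟶ T} {m m' : (yon S).obj Z ⟶ B}
    (hm : Adapted g bi z m) (hm' : Adapted g bi z m') : m = m' := by
  refine eq_of_cover (affOpen Z) (affOpenι Z) (fun k => inferInstance) (fun k => inferInstance)
    (affOpenι_surj Z) _ _ (fun k => ?_)
  exact Adapted.unique_affine hB hstd (hm.precomp (affOpenι Z k)) (hm'.precomp (affOpenι Z k))

/-- Existence of adapted maps over affine schemes. -/
theorem exists_adapted_affine (hB : IsAlgSpace B) (hstd : StdCovers g) (hcoh : Coh g bi)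
    {Z : Over S} [IsAffine Z.left] (z : (yon S).obj Z ⟶ T) :
    ∃ m : (yon S).obj Z ⟶ B, Adapted g bi z m := by
  obtain ⟨n, W, c, hW, hfl, hsurj, hlift⟩ := hstd Z inferInstance z
  choose i l hl using hlift
  have hqc : ∀ j, QuasiCompact (c j).left := fun j => by
    haveI := hW j
    infer_instance
  obtain ⟨m, hm⟩ := glue_fam hB W c hqc hfl hsurj (fun j => l j ≫ bi (i j)) (by
    intro j k Z' gj gk hjk
    rw [← Category.assoc, ← Category.assoc]
    apply hcoh
    rw [Category.assoc, Category.assoc, hl, hl, ← Category.assoc, ← Category.assoc,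
      ← Functor.map_comp, ← Functor.map_comp, hjk])
  refine ⟨m, Adapted.of_fam hB W c hqc hfl hsurj (fun j => ?_)⟩
  rw [hm j, ← hl j]
  exact adapted_of_lift hcoh (i j) (l j)

/-- Existence of adapted maps. -/
theorem exists_adapted (hB : IsAlgSpace B) (hstd : StdCovers g) (hcoh : Coh g bi)
    {Z : Over S} (z : (yon S).obj Z ⟶ T) :
    ∃ m : (yon S).obj Z ⟶ B, Adapted g bi z m := by
  have hk : ∀ k : Z.left.affineOpens, ∃ m : (yon S).obj (affOpen Z k) ⟶ B,
      Adapted g bi ((yon S).map (affOpenι Z k) ≫ z) m := fun k =>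
    exists_adapted_affine hB hstd hcoh _
  choose mk hmk using hk
  obtain ⟨m, hm⟩ := Groth.Agent.Lib.helper5.exists_glue (affOpen Z) (affOpenι Z)
    (fun k => inferInstance) (fun k => inferInstance) (affOpenι_surj Z) mk (by
    intro j k Z' gj gk hjk
    refine Adapted.unique hB hstd ((hmk j).precomp gj) ?_
    have := (hmk k).precomp gk
    rwa [← Category.assoc, ← Functor.map_comp, ← hjk, Functor.map_comp, Category.assoc] at this)
  refine ⟨m, Adapted.of_cover (affOpen Z) (affOpenι Z) (fun k => inferInstance)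
    (fun k => inferInstance) (affOpenι_surj Z) (fun k => ?_)⟩
  rw [hm k]
  exact hmk k

/-- Morphisms to an algebraic space are determined on an fpqc covering. -/
theorem hom_ext_of_stdCovers (hT : IsAlgSpace T) (hB : IsAlgSpace B) (hstd : StdCovers g)
    (a b : T ⟶ B) (h : ∀ i, g i ≫ a = g i ≫ b) : a = b := by
  obtain ⟨U, p, hpe, hps⟩ := hT.atlas
  haveI : Epi p := Groth.Agent.Lib.helper5.epi_of_etale_surjective p hpe hps
  rw [← cancel_epi p]
  refine Adapted.unique (g := g) (bi := fun i => g i ≫ a) hB hstd (z := p) ?_ ?_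
  · intro W c i l hl
    rw [← Category.assoc, ← hl, Category.assoc]
  · intro W c i l hl
    rw [← Category.assoc, ← hl, Category.assoc, ← h i]

/-- Morphisms to an algebraic space glue along an fpqc covering. -/
theorem exists_hom_of_stdCovers (hT : IsAlgSpace T) (hTi : ∀ i, IsAlgSpace (Ti i))
    (hB : IsAlgSpace B) (hstd : StdCovers g) (hcoh : Coh g bi) :
    ∃ b : T ⟶ B, ∀ i, g i ≫ b = bi i := by
  obtain ⟨U, p, hpe, hps⟩ := hT.atlas
  haveI : Epi p := Groth.Agent.Lib.helper5.epi_of_etale_surjective p hpe hps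
  obtain ⟨β, hβ⟩ := exists_adapted hB hstd hcoh p
  obtain ⟨R, q2, q1', sq⟩ := hT.representable_from_yon p p
  obtain ⟨q1, rfl⟩ := (yon S).map_surjective q1'
  have he : (yon S).map q1 ≫ β = (yon S).map q2 ≫ β := by
    refine Adapted.unique hB hstd (hβ.precomp q1) ?_
    have := hβ.precomp q2
    rwa [← sq.w] at this
  obtain ⟨b, hb⟩ := Groth.Agent.Lib.helper5.AffDesc.exists_desc_of_epi p sq β he
  have hL9 : ∀ (Z : Over S) (z : (yon S).obj Z ⟶ T), Adapted g bi z (z ≫ b) := by
    intro Z z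
    obtain ⟨Z', e, z'', sqZ⟩ := hpe.rep z
    obtain ⟨z', rfl⟩ := (yon S).map_surjective z''
    have hee : Etale e.left := hpe.2 z _ e sqZ
    have hes : Surjective e.left := hps.2 z _ e sqZ
    refine Adapted.of_cover (fun _ : PUnit.{u+1} => Z') (fun _ => e) (fun _ => inferInstance)
      (fun _ => inferInstance) (fun x => ⟨PUnit.unit, hes.surj x⟩) (fun _ => ?_)
    have := hβ.precomp z'
    have e1 : (yon S).map e ≫ z ≫ b = (yon S).map z' ≫ β := by
      rw [← Category.assoc, ← sqZ.w, Category.assoc, hb]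
    rw [e1, ← sqZ.w]
    exact this
  refine ⟨b, fun i => ?_⟩
  obtain ⟨Ui, pi, hpie, hpis⟩ := (hTi i).atlas
  haveI : Epi pi := Groth.Agent.Lib.helper5.epi_of_etale_surjective pi hpie hpis
  rw [← cancel_epi pi]
  refine Adapted.unique hB hstd (z := pi ≫ g i) ?_ (adapted_of_lift hcoh i pi)
  have := hL9 Ui (pi ≫ g i)
  rwa [Category.assoc] at this

end Groth.Agent.Lib.helper5.FpqcHom
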