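import Mathlib

/-!
# Valuation ring extensions: flatness and injectivity of `A' ⊗_A A' → K' ⊗_K K'` (helper5)
-/

set_option autoImplicit false
universe u
open TensorProduct

namespace Groth.Agent.Lib.helper5.FpqcVal

section

variable {A K A' K' : Type u} [CommRing A] [IsDomain A] [Field K] [Algebra A K] [IsFractionRing A K]
  [CommRing A'] [Field K'] [Algebra A A'] [Algebra A' K'] [Algebra K K'] [Algebra A K']
  [IsScalarTower A A' K'] [IsScalarTower A K K']

/-- A ring map `A' ⊗_A A' → K' ⊗_K K'` compatible with the two inclusions is injective when `A'` is flat over `A`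
and `A' → K'` is injective. -/
theorem tensor_injective [Module.Flat A A'] (hinj : Function.Injective (algebraMap A' K'))
    (γ : A' ⊗[A] A' →+* K' ⊗[K] K')
    (h1 : ∀ x : A', γ (x ⊗ₜ 1) = algebraMap A' K' x ⊗ₜ 1)
    (h2 : ∀ y : A', γ (1 ⊗ₜ y) = 1 ⊗ₜ algebraMap A' K' y) : Function.Injective γ := by
  let ι : A' →ₗ[A] K' := (IsScalarTower.toAlgHom A A' K').toLinearMap
  have hι : Function.Injective ι := hinj
  haveI : Module.Flat A K := IsLocalization.flat K (nonZeroDivisors A)
  haveI : Module.Flat A K' := Module.Flat.trans A K K'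
  have hmap : Function.Injective (TensorProduct.map ι ι) := by
    rw [← LinearMap.rTensor_comp_lTensor]
    exact (Module.Flat.rTensor_preserves_injective_linearMap ι hι).comp
      (Module.Flat.lTensor_preserves_injective_linearMap ι hι)
  let E : K' ⊗[K] K' ≃ₗ[K] K' ⊗[A] K' := IsLocalization.moduleTensorEquiv (nonZeroDivisors A) K K' K'
  have hγ : ∀ t : A' ⊗[A] A', γ t = E.symm (TensorProduct.map ι ι t) := by
    intro t
    induction t using TensorProduct.induction_on with
    | zero => simp
    | tmul x y =>
      have e1 : x ⊗ₜ[A] y = (x ⊗ₜ[A] (1 : A')) * ((1 : A') ⊗ₜ[A] y) := by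
        rw [Algebra.TensorProduct.tmul_mul_tmul, mul_one, one_mul]
      rw [e1, map_mul, h1, h2, Algebra.TensorProduct.tmul_mul_tmul, mul_one, one_mul, ← e1,
        TensorProduct.map_tmul]
      rfl
    | add a b ha hb => rw [map_add, map_add, map_add, ha, hb]
  intro s t hst
  rw [hγ, hγ] at hst
  exact hmap (E.symm.injective hst)

end

/-- An injective local... torsion-free extension of a valuation ring is flat. -/
theorem flat_of_injective {A A' : Type u} [CommRing A] [IsDomain A] [ValuationRing A]
    [CommRing A'] [IsDomain A'] [Algebra A A'] (hinj : Function.Injective (algebraMap A A')) :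
    Module.Flat A A' := by
  rw [Module.Flat.flat_iff_torsion_eq_bot_of_isBezout, eq_bot_iff]
  rintro m ⟨⟨r, hr⟩, h⟩
  have hr0 : r ≠ 0 := nonZeroDivisors.ne_zero hr
  have h' : algebraMap A A' r * m = 0 := by
    rw [← Algebra.smul_def]
    exact h
  rcases mul_eq_zero.mp h' with h0 | h0
  · exact absurd (hinj (h0.trans (map_zero _).symm)) hr0
  · exact h0

end Groth.Agent.Lib.helper5.FpqcVal
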