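import Mathlib
import Groth.Prelude.Def_AlgSp3
import Groth.Agent.Lib.Helper5.FpqcSpB

/-!
# Separated morphisms and schematically dominant maps; compatibility from a fibre square (helper5)
-/

set_option autoImplicit false
universe u
open CategoryTheory CategoryTheory.Limits AlgebraicGeometry Opposite

namespace Groth.Agent.Lib.helper5.FpqcSp

open AlgSp

variable {S : Scheme.{u}}

/-- Two maps from an affine scheme `P` to `X` over `Y`, with `X ⟶ Y` separated, which agree after a map `Q ⟶ P` injective
on global sections, are equal. -/
theorem eq_of_dominant {X Y : Sp S} (f : X ⟶ Y) (hf : IsSeparatedMor f) {P Q : Over S}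
    [IsAffine P.left] (g : Q ⟶ P) (hg : Function.Injective g.left.appTop)
    (a b : (yon S).obj P ⟶ X) (hab : a ≫ f = b ≫ f)
    (h : (yon S).map g ≫ a = (yon S).map g ≫ b) : a = b := by
  obtain ⟨E, i, fstE, sq⟩ := hf.rep (pullback.lift a b hab)
  haveI hi : IsClosedImmersion i.left := hf.2 _ fstE i sq
  obtain ⟨g', hg'⟩ := (yon S).map_surjective (sq.lift ((yon S).map g ≫ a) ((yon S).map g) (by
    apply pullback.hom_ext
    · simp only [Category.assoc, pullback.diagonal_fst, pullback.lift_fst, Category.comp_id]
    · simp only [Category.assoc, pullback.diagonal_snd, pullback.lift_snd, Category.comp_id]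
      exact h))
  have hgi : g' ≫ i = g := by
    apply (yon S).map_injective
    rw [Functor.map_comp, hg', sq.lift_snd]
  have hinj : Function.Injective i.left.appTop := by
    have e : g.left.appTop = i.left.appTop ≫ g'.left.appTop := by
      rw [← Scheme.Hom.comp_appTop, ← Over.comp_left, hgi]
    rw [e] at hg
    exact Function.Injective.of_comp hg
  haveI : IsIso i.left := IsClosedImmersion.isIso_of_injective_of_isAffine hinj
  haveI : IsIso ((Over.forget S).map i) := (inferInstance : IsIso i.left)
  haveI : IsIso i := isIso_of_reflects_iso i (Over.forget S)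
  have e1 : (yon S).map i ≫ a = fstE := by
    have := congrArg (fun t => t ≫ pullback.fst f f) sq.w
    simp only [Category.assoc, pullback.diagonal_fst, pullback.lift_fst, Category.comp_id] at this
    exact this.symm
  have e2 : (yon S).map i ≫ b = fstE := by
    have := congrArg (fun t => t ≫ pullback.snd f f) sq.w
    simp only [Category.assoc, pullback.diagonal_snd, pullback.lift_snd, Category.comp_id] at this
    exact this.symm
  rw [← cancel_epi ((yon S).map i), e1, e2]

/-- The compatibility condition can be checked on one scheme-level fibre square. -/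
theorem compat_of_isPullback {X : Sp S} {T T' P : Over S} {p : T' ⟶ T} {c : (yon S).obj T' ⟶ X}
    (π1 π2 : P ⟶ T') (hP : IsPullback π1.left π2.left p.left p.left)
    (h : (yon S).map π1 ≫ c = (yon S).map π2 ≫ c) : Compat p c := by
  intro Z z1 z2 hz
  have hz' : z1.left ≫ p.left = z2.left ≫ p.left := congrArg (fun t => t.left) hz
  let l : Z ⟶ P := Over.homMk (hP.lift z1.left z2.left hz') (by
    rw [← Over.w π1, ← Category.assoc, hP.lift_fst, Over.w z1])
  have e1 : l ≫ π1 = z1 := Over.OverMorphism.ext (hP.lift_fst _ _ _)
  have e2 : l ≫ π2 = z2 := Over.OverMorphism.ext (hP.lift_snd _ _ _)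
  rw [← e1, ← e2, Functor.map_comp, Functor.map_comp, Category.assoc, Category.assoc, h]

end Groth.Agent.Lib.helper5.FpqcSp
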