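import Mathlib
import Groth.Prelude.Def_AlgSp3
import Groth.Agent.Lib.Helper5.FpqcSpD
import Groth.Agent.Lib.Helper5.FpqcVal1
import Groth.Agent.Lib.Helper5.FpqcVal2

/-!
# Descending a lift along a dominating extension of valuation rings (helper5)
-/

set_option autoImplicit false
universe u
open CategoryTheory CategoryTheory.Limits AlgebraicGeometry Opposite TensorProduct

namespace Groth.Agent.Lib.helper5.FpqcSp

open AlgSp

variable {S : Scheme.{u}}

theorem injective_appTop_SpecMap {R R' : CommRingCat.{u}} (g : R ⟶ R') (h : Function.Injective g.hom) :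
    Function.Injective (Spec.map g).appTop := by
  have e : (Spec.map g).appTop = (Scheme.ΓSpecIso R).hom ≫ g ≫ (Scheme.ΓSpecIso R').inv := by
    rw [Scheme.ΓSpecIso_inv_naturality, Iso.hom_inv_id_assoc]
  rw [e]
  intro a b hab
  have h1 : Function.Injective (Scheme.ΓSpecIso R').inv :=
    (ConcreteCategory.bijective_of_isIso (Scheme.ΓSpecIso R').inv).1
  have h2 : Function.Injective (Scheme.ΓSpecIso R).hom :=
    (ConcreteCategory.bijective_of_isIso (Scheme.ΓSpecIso R).hom).1
  apply h2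
  apply h
  apply h1
  exact hab

theorem isFpqcHom_SpecMap {R R' : CommRingCat.{u}} (g : R ⟶ R') (hg : g.hom.FaithfullyFlat)
    (s : Spec R ⟶ S) :
    IsFpqcHom (Over.homMk (Spec.map g) rfl : Over.mk (Spec.map g ≫ s) ⟶ Over.mk s) := by
  obtain ⟨h1, h2⟩ := (flat_and_surjective_SpecMap_iff g).2 hg
  refine ⟨h1, h2, ?_⟩
  change QuasiCompact (Spec.map g)
  infer_instance


open CommRingCat in
/-- Descent of a lift of a valuative square along a dominating extension, for separated morphisms of algebraic spaces. -/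
theorem hasLift_of_domExt {X Y : Sp S} (hX : IsAlgSpace X) (hY : IsAlgSpace Y) (f : X ⟶ Y)
    (hf : IsSeparatedMor f)
    {A K A' K' : Type u} [CommRing A] [IsDomain A] [ValuationRing A] [Field K] [Algebra A K]
    [IsFractionRing A K] [CommRing A'] [IsDomain A'] [ValuationRing A'] [Field K'] [Algebra A' K'] [IsFractionRing A' K']
    (φ : A →+* A') (ψ : K →+* K') (hcomm : (algebraMap A' K').comp φ = ψ.comp (algebraMap A K))
    [IsLocalHom φ] (str : Spec (.of A) ⟶ S)
    (top : (yon S).obj (Over.mk (Spec.map (ofHom (algebraMap A K)) ≫ str)) ⟶ X)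
    (bot : (yon S).obj (Over.mk str) ⟶ Y)
    (comm : top ≫ f = (yon S).map (Over.homMk (Spec.map (ofHom (algebraMap A K))) rfl :
      Over.mk (Spec.map (ofHom (algebraMap A K)) ≫ str) ⟶ Over.mk str) ≫ bot)
    (l' : (yon S).obj (Over.mk (Spec.map (ofHom φ) ≫ str)) ⟶ X)
    (hψ : Spec.map (ofHom ψ) ≫ Spec.map (ofHom (algebraMap A K)) ≫ str =
      Spec.map (ofHom (algebraMap A' K')) ≫ Spec.map (ofHom φ) ≫ str)
    (hl1 : (yon S).map (Over.homMk (Spec.map (ofHom (algebraMap A' K'))) rfl :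
        Over.mk (Spec.map (ofHom (algebraMap A' K')) ≫ Spec.map (ofHom φ) ≫ str) ⟶
          Over.mk (Spec.map (ofHom φ) ≫ str)) ≫ l' =
      (yon S).map (Over.homMk (Spec.map (ofHom ψ)) hψ :
        Over.mk (Spec.map (ofHom (algebraMap A' K')) ≫ Spec.map (ofHom φ) ≫ str) ⟶
          Over.mk (Spec.map (ofHom (algebraMap A K)) ≫ str)) ≫ top)
    (hl2 : l' ≫ f = (yon S).map (Over.homMk (Spec.map (ofHom φ)) rfl :
      Over.mk (Spec.map (ofHom φ) ≫ str) ⟶ Over.mk str) ≫ bot) :
    ∃ l : (yon S).obj (Over.mk str) ⟶ X,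
      (yon S).map (Over.homMk (Spec.map (ofHom (algebraMap A K))) rfl :
        Over.mk (Spec.map (ofHom (algebraMap A K)) ≫ str) ⟶ Over.mk str) ≫ l = top ∧ l ≫ f = bot := by
  -- algebra structures
  letI : Algebra A A' := φ.toAlgebra
  letI : Algebra K K' := ψ.toAlgebra
  letI : Algebra A K' := ((algebraMap A' K').comp φ).toAlgebra
  haveI : IsScalarTower A A' K' := IsScalarTower.of_algebraMap_eq (fun _ => rfl)
  haveI : IsScalarTower A K K' := IsScalarTower.of_algebraMap_eq (fun x => by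
    have := congrArg (fun g => g x) hcomm
    exact this)
  have hφinj : Function.Injective φ := by
    have h1 : Function.Injective (ψ.comp (algebraMap A K)) :=
      ψ.injective.comp (IsFractionRing.injective A K)
    rw [← hcomm] at h1
    exact Function.Injective.of_comp h1
  haveI : Module.Flat A A' := FpqcVal.flat_of_injective hφinj
  haveI : IsLocalHom (algebraMap A A') := ‹IsLocalHom φ›
  have hff : Module.FaithfullyFlat A A' := Module.FaithfullyFlat.of_flat_of_isLocalHom
  have hffK : Module.FaithfullyFlat K K' := inferInstance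
  -- the schemes over `S`
  let ptA : Over S := Over.mk str
  let ptK : Over S := Over.mk (Spec.map (ofHom (algebraMap A K)) ≫ str)
  let ptA' : Over S := Over.mk (Spec.map (ofHom φ) ≫ str)
  let ptK' : Over S := Over.mk (Spec.map (ofHom (algebraMap A' K')) ≫ Spec.map (ofHom φ) ≫ str)
  let j : ptK ⟶ ptA := Over.homMk (Spec.map (ofHom (algebraMap A K))) rfl
  let φs : ptA' ⟶ ptA := Over.homMk (Spec.map (ofHom φ)) rfl
  let j' : ptK' ⟶ ptA' := Over.homMk (Spec.map (ofHom (algebraMap A' K'))) rfl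
  let ψs : ptK' ⟶ ptK := Over.homMk (Spec.map (ofHom ψ)) hψ
  have hsq : ψs ≫ j = j' ≫ φs := Over.OverMorphism.ext (by
    change Spec.map (ofHom ψ) ≫ Spec.map (ofHom (algebraMap A K)) =
      Spec.map (ofHom (algebraMap A' K')) ≫ Spec.map (ofHom φ)
    rw [← Spec.map_comp, ← Spec.map_comp, ← ofHom_comp, ← ofHom_comp, hcomm])
  have hφs : IsFpqcHom φs := isFpqcHom_SpecMap (ofHom φ) hff str
  have hψs : IsFpqcHom ψs := by
    obtain ⟨h1, h2⟩ := (flat_and_surjective_SpecMap_iff (ofHom ψ)).2 hffK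
    refine ⟨h1, h2, ?_⟩
    change QuasiCompact (Spec.map (ofHom ψ))
    infer_instance
  -- the fibre square `P = Spec (A' ⊗[A] A')`
  let inl : of A' ⟶ of (A' ⊗[A] A') := ofHom Algebra.TensorProduct.includeLeftRingHom
  let inr : of A' ⟶ of (A' ⊗[A] A') := ofHom Algebra.TensorProduct.includeRight.toRingHom
  have hpo : IsPushout (ofHom φ) (ofHom φ) inl inr := CommRingCat.isPushout_tensorProduct A A' A'
  have hPpb : IsPullback (Spec.map inl) (Spec.map inr) (Spec.map (ofHom φ)) (Spec.map (ofHom φ)) :=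
    isPullback_SpecMap_of_isPushout _ _ _ _ hpo
  let inlK : of K' ⟶ of (K' ⊗[K] K') := ofHom Algebra.TensorProduct.includeLeftRingHom
  let inrK : of K' ⟶ of (K' ⊗[K] K') := ofHom Algebra.TensorProduct.includeRight.toRingHom
  have hpoK : IsPushout (ofHom ψ) (ofHom ψ) inlK inrK := CommRingCat.isPushout_tensorProduct K K' K'
  let ι : of A' ⟶ of K' := ofHom (algebraMap A' K')
  have hφι : ofHom φ ≫ ι = ofHom (algebraMap A K) ≫ ofHom ψ := by
    rw [← ofHom_comp, ← ofHom_comp, hcomm]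
  let γc : of (A' ⊗[A] A') ⟶ of (K' ⊗[K] K') := hpo.desc (ι ≫ inlK) (ι ≫ inrK) (by
    rw [← Category.assoc, ← Category.assoc, hφι, Category.assoc, Category.assoc, hpoK.w])
  have hγ1 : inl ≫ γc = ι ≫ inlK := hpo.inl_desc _ _ _
  have hγ2 : inr ≫ γc = ι ≫ inrK := hpo.inr_desc _ _ _
  have hγinj : Function.Injective γc.hom := by
    refine FpqcVal.tensor_injective (IsFractionRing.injective A' K') γc.hom (fun x => ?_) (fun y => ?_)
    · exact congrArg (fun m => m.hom x) hγ1
    · exact congrArg (fun m => m.hom y) hγ2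
  let P : Over S := Over.mk (Spec.map inl ≫ ptA'.hom)
  let π1 : P ⟶ ptA' := Over.homMk (Spec.map inl) rfl
  let π2 : P ⟶ ptA' := Over.homMk (Spec.map inr) (by
    change Spec.map inr ≫ Spec.map (ofHom φ) ≫ str = Spec.map inl ≫ Spec.map (ofHom φ) ≫ str
    rw [← Category.assoc, ← hPpb.w, Category.assoc])
  have hπ : π1 ≫ φs = π2 ≫ φs := Over.OverMorphism.ext hPpb.w
  let Q : Over S := Over.mk (Spec.map γc ≫ P.hom)
  let g : Q ⟶ P := Over.homMk (Spec.map γc) rfl
  have hg : Function.Injective g.left.appTop := injective_appTop_SpecMap γc hγinj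
  have hQ1 : Spec.map inlK ≫ ptK'.hom = Q.hom := by
    change Spec.map inlK ≫ Spec.map ι ≫ Spec.map (ofHom φ) ≫ str =
      Spec.map γc ≫ Spec.map inl ≫ Spec.map (ofHom φ) ≫ str
    rw [← Category.assoc, ← Spec.map_comp, ← hγ1, Spec.map_comp, Category.assoc]
  have hQ2 : Spec.map inrK ≫ ptK'.hom = Q.hom := by
    change Spec.map inrK ≫ Spec.map ι ≫ Spec.map (ofHom φ) ≫ str =
      Spec.map γc ≫ Spec.map inl ≫ Spec.map (ofHom φ) ≫ str
    rw [← Category.assoc, ← Spec.map_comp, ← hγ2, Spec.map_comp, Category.assoc,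
      ← Category.assoc (Spec.map inr), ← hPpb.w, Category.assoc]
  let q1 : Q ⟶ ptK' := Over.homMk (Spec.map inlK) hQ1
  let q2 : Q ⟶ ptK' := Over.homMk (Spec.map inrK) hQ2
  have hgq1 : g ≫ π1 = q1 ≫ j' := Over.OverMorphism.ext (by
    change Spec.map γc ≫ Spec.map inl = Spec.map inlK ≫ Spec.map ι
    rw [← Spec.map_comp, ← Spec.map_comp, hγ1])
  have hgq2 : g ≫ π2 = q2 ≫ j' := Over.OverMorphism.ext (by
    change Spec.map γc ≫ Spec.map inr = Spec.map inrK ≫ Spec.map ι
    rw [← Spec.map_comp, ← Spec.map_comp, hγ2])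
  have hq : q1 ≫ ψs = q2 ≫ ψs := Over.OverMorphism.ext (by
    change Spec.map inlK ≫ Spec.map (ofHom ψ) = Spec.map inrK ≫ Spec.map (ofHom ψ)
    rw [← Spec.map_comp, ← Spec.map_comp, hpoK.w])
  haveI : IsAffine P.left := by
    change IsAffine (Spec (of (A' ⊗[A] A')))
    infer_instance
  have hl1' : (yon S).map j' ≫ l' = (yon S).map ψs ≫ top := hl1
  have hl2' : l' ≫ f = (yon S).map φs ≫ bot := hl2
  have hab : ((yon S).map π1 ≫ l') ≫ f = ((yon S).map π2 ≫ l') ≫ f := by
    calc ((yon S).map π1 ≫ l') ≫ f = (yon S).map π1 ≫ (l' ≫ f) := Category.assoc _ _ _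
      _ = (yon S).map π1 ≫ ((yon S).map φs ≫ bot) := by rw [hl2']
      _ = (yon S).map (π1 ≫ φs) ≫ bot := by rw [Functor.map_comp, Category.assoc]
      _ = (yon S).map (π2 ≫ φs) ≫ bot := by rw [hπ]
      _ = (yon S).map π2 ≫ ((yon S).map φs ≫ bot) := by rw [Functor.map_comp, Category.assoc]
      _ = (yon S).map π2 ≫ (l' ≫ f) := by rw [hl2']
      _ = ((yon S).map π2 ≫ l') ≫ f := (Category.assoc _ _ _).symm
  have hgab : (yon S).map g ≫ (yon S).map π1 ≫ l' = (yon S).map g ≫ (yon S).map π2 ≫ l' := by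
    calc (yon S).map g ≫ (yon S).map π1 ≫ l' = (yon S).map (g ≫ π1) ≫ l' := by
          rw [Functor.map_comp, Category.assoc]
      _ = (yon S).map (q1 ≫ j') ≫ l' := by rw [hgq1]
      _ = (yon S).map q1 ≫ ((yon S).map j' ≫ l') := by rw [Functor.map_comp, Category.assoc]
      _ = (yon S).map q1 ≫ ((yon S).map ψs ≫ top) := by rw [hl1']
      _ = (yon S).map (q1 ≫ ψs) ≫ top := by rw [Functor.map_comp, Category.assoc]
      _ = (yon S).map (q2 ≫ ψs) ≫ top := by rw [hq]
      _ = (yon S).map q2 ≫ ((yon S).map ψs ≫ top) := by rw [Functor.map_comp, Category.assoc]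
      _ = (yon S).map q2 ≫ ((yon S).map j' ≫ l') := by rw [hl1']
      _ = (yon S).map (q2 ≫ j') ≫ l' := by rw [Functor.map_comp, Category.assoc]
      _ = (yon S).map (g ≫ π2) ≫ l' := by rw [hgq2]
      _ = (yon S).map g ≫ (yon S).map π2 ≫ l' := by rw [Functor.map_comp, Category.assoc]
  have hcompat : Compat φs l' :=
    compat_of_isPullback π1 π2 hPpb (eq_of_dominant f hf g hg _ _ hab hgab)
  obtain ⟨l, hl⟩ := glue hX hφs hcompat
  refine ⟨l, ?_, ?_⟩
  · apply sep hX hψs
    calc (yon S).map ψs ≫ (yon S).map j ≫ l = (yon S).map (ψs ≫ j) ≫ l := by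
          rw [Functor.map_comp, Category.assoc]
      _ = (yon S).map (j' ≫ φs) ≫ l := by rw [hsq]
      _ = (yon S).map j' ≫ ((yon S).map φs ≫ l) := by rw [Functor.map_comp, Category.assoc]
      _ = (yon S).map j' ≫ l' := by rw [hl]
      _ = (yon S).map ψs ≫ top := hl1'
  · apply sep hY hφs
    calc (yon S).map φs ≫ l ≫ f = ((yon S).map φs ≫ l) ≫ f := (Category.assoc _ _ _).symm
      _ = l' ≫ f := by rw [hl]
      _ = (yon S).map φs ≫ bot := hl2'

end Groth.Agent.Lib.helper5.FpqcSp
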