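import Mathlib
import Groth.Prelude.Def_AlgSpGpd

/-!
# Actions of group sheaves over a sheaf: points, the shear involution, free actions (helper5)

For `a : AlgSp.GAction G X` (`G X : Over B`, `B` an fppf sheaf over `S`):
* `smul a g x` the action on `T`-points, `one_smul`, `mul_smul`, `comp_smul`.
* `shear a : G ⊗ X ⟶ G ⊗ X`, `(g, x) ↦ (g⁻¹, g x)`, an involution with `shear ≫ snd = act`, `shear ≫ act = snd`.
* `isEqvRelSp_of_isFree`: for a free action, `(snd, act) : G ×_B X ⇉ X` is an equivalence relation.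
-/

set_option autoImplicit false
universe u

open AlgebraicGeometry CategoryTheory CategoryTheory.Limits MonoidalCategory CartesianMonoidalCategory MonObj

namespace Groth.Agent.Lib.helper5.GActFree

open AlgSp

variable {S : Scheme.{u}} {B : Sp S} {G X : Over B} [GrpObj G] (a : GAction G X)

/-- the action on `T`-points. -/
noncomputable def smul {T : Over B} (g : T ⟶ G) (x : T ⟶ X) : T ⟶ X := lift g x ≫ a.act

theorem one_smul {T : Over B} (x : T ⟶ X) : smul a (1 : T ⟶ G) x = x := by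
  unfold smul
  rw [Hom.one_def, ← lift_whiskerRight, Category.assoc, a.one_act, lift_leftUnitor_hom]

theorem mul_smul {T : Over B} (g h : T ⟶ G) (x : T ⟶ X) :
    smul a (g * h) x = smul a g (smul a h x) := by
  unfold smul
  rw [Hom.mul_def, ← lift_whiskerRight, Category.assoc, a.mul_act, lift_lift_associator_hom_assoc,
    lift_whiskerLeft_assoc]

theorem comp_smul {T' T : Over B} (f : T' ⟶ T) (g : T ⟶ G) (x : T ⟶ X) :
    f ≫ smul a g x = smul a (f ≫ g) (f ≫ x) := by
  unfold smul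
  rw [← Category.assoc, comp_lift]

theorem comp_act {T : Over B} (r : T ⟶ G ⊗ X) : r ≫ a.act = smul a (r ≫ fst G X) (r ≫ snd G X) := by
  unfold smul
  rw [lift_comp_fst_snd]

theorem act_eq : a.act = smul a (fst G X) (snd G X) := by
  unfold smul
  rw [lift_fst_snd, Category.id_comp]

/-- `(g, x) ↦ (g⁻¹, g x)`. -/
noncomputable def shear : G ⊗ X ⟶ G ⊗ X := lift ((fst G X)⁻¹) a.act

@[reassoc]
theorem shear_fst : shear a ≫ fst G X = (fst G X)⁻¹ := lift_fst _ _

@[reassoc]
theorem shear_snd : shear a ≫ snd G X = a.act := lift_snd _ _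

@[reassoc]
theorem shear_act : shear a ≫ a.act = snd G X := by
  rw [comp_act, shear_fst, shear_snd, act_eq, ← mul_smul, inv_mul_cancel, one_smul]

@[reassoc]
theorem shear_shear : shear a ≫ shear a = 𝟙 _ := by
  apply CartesianMonoidalCategory.hom_ext
  · rw [Category.assoc, shear_fst, GrpObj.comp_inv, shear_fst, inv_inv, Category.id_comp]
  · rw [Category.assoc, shear_snd, shear_act, Category.id_comp]

/-- the shear as an isomorphism. -/
noncomputable def shearIso : G ⊗ X ≅ G ⊗ X where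
  hom := shear a
  inv := shear a
  hom_inv_id := shear_shear a
  inv_hom_id := shear_shear a

/-- a `T`-point of `G ×_B X` as a morphism over `B`. -/
noncomputable def pt {T : Over S} (r : (yon S).obj T ⟶ (G ⊗ X).left) :
    Over.mk (r ≫ (G ⊗ X).hom) ⟶ G ⊗ X := Over.homMk r rfl

theorem isFree_iff_smul (ha : a.IsFree) {T : Over S} (β : (yon S).obj T ⟶ B) (g : Over.mk β ⟶ G)
    (x : Over.mk β ⟶ X) (h : smul a g x = x) : g = 1 := ha β g x h

/-- for a free action, the action pre-relation is an equivalence relation. -/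
theorem isEqvRelSp_of_isFree (ha : a.IsFree) : IsEqvRelSp (snd G X).left a.act.left := by
  have hs : (G ⊗ X).hom = (snd G X).left ≫ X.hom := (Over.w (snd G X)).symm
  have ht : (G ⊗ X).hom = a.act.left ≫ X.hom := (Over.w a.act).symm
  constructor
  · intro T r₁ r₂ h1 h2
    let β : (yon S).obj T ⟶ B := r₁ ≫ (G ⊗ X).hom
    have hβ : r₂ ≫ (G ⊗ X).hom = β := by
      change r₂ ≫ (G ⊗ X).hom = r₁ ≫ (G ⊗ X).hom
      rw [hs, ← Category.assoc, ← h2, Category.assoc]
    let r₁' : Over.mk β ⟶ G ⊗ X := Over.homMk r₁ rfl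
    let r₂' : Over.mk β ⟶ G ⊗ X := Over.homMk r₂ hβ
    have hx : r₁' ≫ snd G X = r₂' ≫ snd G X := by
      apply Over.OverMorphism.ext
      exact h2
    have hact : r₁' ≫ a.act = r₂' ≫ a.act := by
      apply Over.OverMorphism.ext
      exact h1
    rw [comp_act, comp_act, ← hx] at hact
    have h3 : smul a ((r₂' ≫ fst G X)⁻¹ * (r₁' ≫ fst G X)) (r₁' ≫ snd G X) = r₁' ≫ snd G X := by
      rw [mul_smul, hact, ← mul_smul, inv_mul_cancel, one_smul]
    have h4 := isFree_iff_smul a ha β _ _ h3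
    have h5 : r₁' ≫ fst G X = r₂' ≫ fst G X := by
      rw [inv_mul_eq_one] at h4
      exact h4.symm
    have h6 : r₁' = r₂' := CartesianMonoidalCategory.hom_ext _ _ h5 hx
    exact congrArg (fun k => k.left) h6
  · intro T
    refine ⟨?_, ?_, ?_⟩
    · intro x₀
      let x : Over.mk (x₀ ≫ X.hom) ⟶ X := Over.homMk x₀ rfl
      refine ⟨(lift (1 : Over.mk (x₀ ≫ X.hom) ⟶ G) x).left, ?_, ?_⟩
      · rw [← Over.comp_left]
        have : lift (1 : Over.mk (x₀ ≫ X.hom) ⟶ G) x ≫ a.act = x := one_smul a x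
        rw [this]
        rfl
      · rw [← Over.comp_left, lift_snd]
        rfl
    · rintro a₀ b₀ ⟨r, rfl, rfl⟩
      let r' : Over.mk (r ≫ (G ⊗ X).hom) ⟶ G ⊗ X := Over.homMk r rfl
      refine ⟨(r' ≫ shear a).left, ?_, ?_⟩
      · rw [← Over.comp_left, Category.assoc, shear_act]
        rfl
      · rw [← Over.comp_left, Category.assoc, shear_snd]
        rfl
    · rintro a₀ b₀ c₀ ⟨r₁, rfl, h1⟩ ⟨r₂, h2, rfl⟩
      let β : (yon S).obj T ⟶ B := r₂ ≫ (G ⊗ X).hom
      have hβ : r₁ ≫ (G ⊗ X).hom = β := by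
        change r₁ ≫ (G ⊗ X).hom = r₂ ≫ (G ⊗ X).hom
        rw [hs, ← Category.assoc, h1, ← h2, Category.assoc, ← ht, ← hs]
      let r₁' : Over.mk β ⟶ G ⊗ X := Over.homMk r₁ hβ
      let r₂' : Over.mk β ⟶ G ⊗ X := Over.homMk r₂ rfl
      have hx : r₁' ≫ snd G X = r₂' ≫ a.act := by
        apply Over.OverMorphism.ext
        change r₁ ≫ (snd G X).left = r₂ ≫ a.act.left
        rw [h1, h2]
      refine ⟨(lift ((r₁' ≫ fst G X) * (r₂' ≫ fst G X)) (r₂' ≫ snd G X)).left, ?_, ?_⟩
      · rw [← Over.comp_left]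
        have : lift ((r₁' ≫ fst G X) * (r₂' ≫ fst G X)) (r₂' ≫ snd G X) ≫ a.act = r₁' ≫ a.act := by
          change smul a _ _ = _
          rw [mul_smul, ← comp_act, ← hx, ← comp_act]
        rw [this]
        rfl
      · rw [← Over.comp_left, lift_snd]
        rfl

end Groth.Agent.Lib.helper5.GActFree
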