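import Mathlib
import Groth.Agent.Lib.Helper5.GActFree1
import Groth.Agent.Lib.Helper5.FppfBoot5

/-!
# Quotients by free actions of flat lfp group algebraic spaces (helper5)

* `quot_free_action` (S10112).
-/

set_option autoImplicit false
universe u

open AlgebraicGeometry CategoryTheory CategoryTheory.Limits MonoidalCategory CartesianMonoidalCategory MonObj

namespace Groth.Agent.Lib.helper5.GActFree

open AlgSp Groth.Agent.Lib.helper5.FppfBoot

variable {S : Scheme.{u}} {B : Sp S}

theorem quot_free_action (hB : IsAlgSpace B) (G X : Over B) [GrpObj G] (hG : IsAlgSpace G.left)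
    (hX : IsAlgSpace X.left) (a : GAction G X) (ha : a.IsFree)
    (hfl : LocP @Flat G.hom ∧ LocP @LocallyOfFinitePresentation G.hom) :
    IsAlgSpace a.quot ∧
      (IsSurjectiveMor a.quotπ ∧ LocP @Flat a.quotπ ∧ LocP @LocallyOfFinitePresentation a.quotπ) ∧
      IsIso (pullback.lift a.act.left (snd G X).left
        (quotSp_condition (snd G X).left a.act.left).symm :
          (G ⊗ X).left ⟶ pullback a.quotπ a.quotπ) := by
  have sqR : IsPullback (fst G X).left (snd G X).left G.hom X.hom :=
    IsPullback.of_hasPullback G.hom X.hom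
  have hR : IsAlgSpace (G ⊗ X).left :=
    Groth.Agent.Lib.helper5.isAlgSpace_of_isPullback hB.diag hG hX sqR
  have hj := isEqvRelSp_of_isFree a ha
  have hs : LocP @Flat (snd G X).left ∧ LocP @LocallyOfFinitePresentation (snd G X).left :=
    ⟨locP_flat_of_isPullback hG hB G.hom X.hom _ _ sqR hfl.1,
      locP_lfp_of_isPullback hG hB G.hom X.hom _ _ sqR hfl.2⟩
  let e : (G ⊗ X).left ≅ (G ⊗ X).left := (Over.forget B).mapIso (shearIso a)
  have he : a.act.left = e.hom ≫ (snd G X).left := by
    change a.act.left = (shear a).left ≫ (snd G X).left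
    rw [← Over.comp_left, shear_snd]
  have ht : LocP @Flat a.act.left ∧ LocP @LocallyOfFinitePresentation a.act.left := by
    rw [he]
    exact ⟨locP_iso_comp _ e _ hs.1, locP_iso_comp _ e _ hs.2⟩
  have hF : IsAlgSpace (quotSp (snd G X).left a.act.left) :=
    isAlgSpace_quotSp hR hX _ _ hj hs ht
  refine ⟨hF, quotSpπ_fppf hR hX _ _ hj hs ht hF, ?_⟩
  have hpb := isPullback_quotSpπ (snd G X).left a.act.left hj
  have : pullback.lift a.act.left (snd G X).left
      (quotSp_condition (snd G X).left a.act.left).symm = hpb.isoPullback.hom := by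
    apply pullback.hom_ext
    · rw [pullback.lift_fst]
      exact (hpb.isoPullback_hom_fst).symm
    · rw [pullback.lift_snd]
      exact (hpb.isoPullback_hom_snd).symm
  change IsIso (pullback.lift a.act.left (snd G X).left
    (quotSp_condition (snd G X).left a.act.left).symm)
  rw [this]
  infer_instance

end Groth.Agent.Lib.helper5.GActFree
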