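import Mathlib
import Groth.Agent.Lib.Helper17.FibreStalk

/-!
# The local ring of a base change of a closed subscheme of an affine open (helper5)

`W' ⊆ Y'` affine open, `I' ⊆ Γ(Y', W')`, `U' = Spec (Γ(Y', W')/I') ⟶ Y'`.  For `τ : X ⟶ Y'` and a
cartesian square `T = U' ×_{Y'} X` with projection `ι : T ⟶ X`:

* `ker_stalkMap_of_isPullback_quot` : the kernel of `ι.stalkMap p` is generated by the germs of
  `τ^♯ a`, `a ∈ I'`.
* `nonempty_fibRing_comp_equiv` : for `f : X ⟶ Y`,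
  `O_{T,p}/m_y O_{T,p} ≃ (O_{X,x}/m_y O_{X,x}) / (τ^♯ I')`.
-/

set_option autoImplicit false
universe u

open AlgebraicGeometry CategoryTheory CategoryTheory.Limits IsLocalRing

namespace Groth.Agent.Lib.helper5.GSlice

open Groth.Agent.Lib.helper17.FibreStalk Groth.Agent.Lib.helper17.StalkSmooth

theorem SpecMap_app_germ_fromSpec {T Y' : Scheme.{u}} (m : T ⟶ Y') {W' : Y'.Opens}
    (hW' : IsAffineOpen W') (p : T) (hp : m p ∈ W') :
    Spec.map (m.app W' ≫ T.presheaf.germ (m ⁻¹ᵁ W') p hp) ≫ hW'.fromSpec =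
      T.fromSpecStalk p ≫ m := by
  rw [← Scheme.Hom.germ_stalkMap m W' p hp, Spec.map_comp, Category.assoc,
    ← Scheme.SpecMap_stalkMap_fromSpecStalk, ← hW'.fromSpecStalk_eq_fromSpecStalk hp,
    IsAffineOpen.fromSpecStalk]

variable {X Y' T : Scheme.{u}} (τ : X ⟶ Y') {W' : Y'.Opens} (hW' : IsAffineOpen W')
  (I' : Ideal Γ(Y', W'))

/-- the closed subscheme `V(I')` of the affine open `W'`, mapping to `Y'`. -/
noncomputable abbrev quotMapToScheme : Spec (CommRingCat.of (Γ(Y', W') ⧸ I')) ⟶ Y' :=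
  Spec.map (CommRingCat.ofHom (Ideal.Quotient.mk I')) ≫ hW'.fromSpec

theorem ker_stalkMap_of_isPullback_quot (π : T ⟶ Spec (CommRingCat.of (Γ(Y', W') ⧸ I')))
    (ι : T ⟶ X) (sq : IsPullback π ι (quotMapToScheme hW' I') τ) (p : T) (hp : τ (ι p) ∈ W') :
    RingHom.ker (ι.stalkMap p).hom =
      I'.map ((X.presheaf.germ (τ ⁻¹ᵁ W') (ι p) hp).hom.comp (τ.app W').hom) := by
  apply le_antisymm
  · -- `ker ≤ K₀`
    set K₀ : Ideal (X.presheaf.stalk (ι p)) :=
      I'.map ((X.presheaf.germ (τ ⁻¹ᵁ W') (ι p) hp).hom.comp (τ.app W').hom) with hK₀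
    by_cases hK₀top : K₀ = ⊤
    · rw [hK₀top]; exact le_top
    have hK₀le : K₀ ≤ maximalIdeal (X.presheaf.stalk (ι p)) := le_maximalIdeal hK₀top
    let R : CommRingCat.{u} := CommRingCat.of (X.presheaf.stalk (ι p) ⧸ K₀)
    let q : X.presheaf.stalk (ι p) ⟶ R := CommRingCat.ofHom (Ideal.Quotient.mk K₀)
    haveI : Nontrivial (X.presheaf.stalk (ι p) ⧸ K₀) := Ideal.Quotient.nontrivial_iff.mpr hK₀top
    haveI : IsLocalRing R := IsLocalRing.of_surjective' (Ideal.Quotient.mk K₀)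
      Ideal.Quotient.mk_surjective
    have hkill : ∀ a ∈ I', ((τ.app W' ≫ X.presheaf.germ (τ ⁻¹ᵁ W') (ι p) hp) ≫ q).hom a = 0 := by
      intro a ha
      change Ideal.Quotient.mk K₀ ((X.presheaf.germ (τ ⁻¹ᵁ W') (ι p) hp).hom ((τ.app W').hom a)) = 0
      rw [Ideal.Quotient.eq_zero_iff_mem]
      exact Ideal.mem_map_of_mem _ ha
    let γ' : CommRingCat.of (Γ(Y', W') ⧸ I') ⟶ R :=
      CommRingCat.ofHom (Ideal.Quotient.lift I'
        ((τ.app W' ≫ X.presheaf.germ (τ ⁻¹ᵁ W') (ι p) hp) ≫ q).hom hkill)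
    have hγ' : CommRingCat.ofHom (Ideal.Quotient.mk I') ≫ γ' =
        (τ.app W' ≫ X.presheaf.germ (τ ⁻¹ᵁ W') (ι p) hp) ≫ q := by
      ext a
      rfl
    let a : Spec R ⟶ X := Spec.map q ≫ X.fromSpecStalk (ι p)
    let b : Spec R ⟶ Spec (CommRingCat.of (Γ(Y', W') ⧸ I')) := Spec.map γ'
    have hab : b ≫ quotMapToScheme hW' I' = a ≫ τ := by
      simp only [a, b, Category.assoc]
      rw [← SpecMap_app_germ_fromSpec τ hW' (ι p) hp, ← Spec.map_comp_assoc, ← Spec.map_comp_assoc,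
        hγ']
    let l : Spec R ⟶ T := sq.lift b a hab
    have hl1 : l ≫ ι = a := sq.lift_snd _ _ _
    haveI : IsPreimmersion (quotMapToScheme hW' I') := by
      haveI : IsClosedImmersion (Spec.map (CommRingCat.ofHom (Ideal.Quotient.mk I'))) :=
        IsClosedImmersion.spec_of_surjective _ Ideal.Quotient.mk_surjective
      infer_instance
    haveI : IsPreimmersion ι := MorphismProperty.of_isPullback sq inferInstance
    have hlc : l (closedPoint R) = p := by
      apply ι.isEmbedding.injective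
      rw [← Scheme.Hom.comp_apply, hl1]
      simp only [a, Scheme.Hom.comp_apply]
      have : (Spec.map q) (closedPoint R) = closedPoint (X.presheaf.stalk (ι p)) := by
        haveI : IsLocalHom q.hom := IsLocalHom.of_surjective _ Ideal.Quotient.mk_surjective
        exact Spec_closedPoint
      rw [this]
      exact Scheme.fromSpecStalk_closedPoint
    obtain ⟨θ, hθ⟩ := exists_local_hom l p hlc
    have hcomp : ι.stalkMap p ≫ θ = q := by
      apply spec_map_fromSpecStalk_injective (ι p)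
      rw [Spec.map_comp, Category.assoc, Scheme.SpecMap_stalkMap_fromSpecStalk, reassoc_of% hθ, hl1]
    intro t ht
    rw [RingHom.mem_ker] at ht
    have h1 : q.hom t = θ.hom ((ι.stalkMap p).hom t) := by
      rw [← hcomp]; rfl
    rw [ht, map_zero] at h1
    exact Ideal.Quotient.eq_zero_iff_mem.mp h1
  · -- `K₀ ≤ ker`
    rw [Ideal.map_le_iff_le_comap]
    intro a ha
    rw [Ideal.mem_comap, RingHom.mem_ker]
    have hp' : (ι ≫ τ) p ∈ W' := hp
    set β : Γ(Y', W') ⟶ T.presheaf.stalk p :=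
      (ι ≫ τ).app W' ≫ T.presheaf.germ ((ι ≫ τ) ⁻¹ᵁ W') p hp' with hβ
    have h1 : (ι.stalkMap p).hom (((X.presheaf.germ (τ ⁻¹ᵁ W') (ι p) hp).hom.comp
        (τ.app W').hom) a) = β.hom a := by
      have h2 := Scheme.Hom.germ_stalkMap ι (τ ⁻¹ᵁ W') p hp
      have h3 : (ι.stalkMap p).hom ((X.presheaf.germ (τ ⁻¹ᵁ W') (ι p) hp).hom ((τ.app W').hom a)) =
          (X.presheaf.germ (τ ⁻¹ᵁ W') (ι p) hp ≫ ι.stalkMap p).hom ((τ.app W').hom a) := rfl
      rw [RingHom.comp_apply, h3, h2]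
      rfl
    rw [h1]
    have h4 : Spec.map β ≫ hW'.fromSpec = T.fromSpecStalk p ≫ ι ≫ τ :=
      SpecMap_app_germ_fromSpec (ι ≫ τ) hW' p hp'
    rw [← sq.w, ← Category.assoc, ← Category.assoc] at h4
    have h5 := (cancel_mono hW'.fromSpec).mp h4
    obtain ⟨γ, hγ⟩ : ∃ γ : CommRingCat.of (Γ(Y', W') ⧸ I') ⟶ T.presheaf.stalk p,
        Spec.map γ = T.fromSpecStalk p ≫ π := ⟨Spec.preimage _, Spec.map_preimage _⟩
    rw [← hγ, ← Spec.map_comp] at h5
    have h6 : β = CommRingCat.ofHom (Ideal.Quotient.mk I') ≫ γ := Spec.map_injective h5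
    rw [h6]
    change γ.hom (Ideal.Quotient.mk I' a) = 0
    rw [Ideal.Quotient.eq_zero_iff_mem.mpr ha, map_zero]

/-- ring lemma: for `ψ : A ↠ B` with kernel `K` and an ideal `J` of `A`,
`B / ψ(J)B ≃ (A/J)/K(A/J)`. -/
theorem nonempty_quot_map_equiv {A B : Type u} [CommRing A] [CommRing B] (ψ : A →+* B)
    (hψ : Function.Surjective ψ) (J K : Ideal A) (hK : RingHom.ker ψ = K) :
    Nonempty ((B ⧸ J.map ψ) ≃+* ((A ⧸ J) ⧸ K.map (Ideal.Quotient.mk J))) := by
  subst hK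
  let e₀ : A ⧸ RingHom.ker ψ ≃+* B := RingHom.quotientKerEquivOfSurjective hψ
  have h1 : J.map (Ideal.Quotient.mk (RingHom.ker ψ)) = (J.map ψ).map (e₀.symm : B →+* _) := by
    rw [Ideal.map_map]
    congr 1
    ext a
    change Ideal.Quotient.mk _ a = e₀.symm (ψ a)
    rw [RingEquiv.eq_symm_apply]
    rfl
  exact ⟨(Ideal.quotientEquiv (J.map ψ) (J.map (Ideal.Quotient.mk (RingHom.ker ψ))) e₀.symm h1).trans
    (DoubleQuot.quotQuotEquivComm (RingHom.ker ψ) J)⟩

/-- **The fibre ring of the composite** `T ⟶ X ⟶ Y` at `p`, `T = V(I') ×_{Y'} X`. -/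
theorem nonempty_fibRing_comp_equiv {Y : Scheme.{u}} (f : X ⟶ Y)
    (π : T ⟶ Spec (CommRingCat.of (Γ(Y', W') ⧸ I')))
    (ι : T ⟶ X) (sq : IsPullback π ι (quotMapToScheme hW' I') τ) (p : T) (hp : τ (ι p) ∈ W') :
    Nonempty (FibRing (ι ≫ f) p ≃+* (FibRing f (ι p) ⧸
      I'.map ((Ideal.Quotient.mk ((maximalIdeal (Y.presheaf.stalk (f (ι p)))).map
        (f.stalkMap (ι p)).hom)).comp
          ((X.presheaf.germ (τ ⁻¹ᵁ W') (ι p) hp).hom.comp (τ.app W').hom)))) := by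
  haveI : IsPreimmersion (quotMapToScheme hW' I') := by
    haveI : IsClosedImmersion (Spec.map (CommRingCat.ofHom (Ideal.Quotient.mk I'))) :=
      IsClosedImmersion.spec_of_surjective _ Ideal.Quotient.mk_surjective
    infer_instance
  haveI : IsPreimmersion ι := MorphismProperty.of_isPullback sq inferInstance
  have hsurj : Function.Surjective (ι.stalkMap p).hom := ι.stalkMap_surjective p
  have hK := ker_stalkMap_of_isPullback_quot τ hW' I' π ι sq p hp
  obtain ⟨e⟩ := nonempty_quot_map_equiv (ι.stalkMap p).hom hsurj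
    ((maximalIdeal (Y.presheaf.stalk (f (ι p)))).map (f.stalkMap (ι p)).hom) _ hK
  have h1 : (maximalIdeal (Y.presheaf.stalk ((ι ≫ f) p))).map ((ι ≫ f).stalkMap p).hom =
      ((maximalIdeal (Y.presheaf.stalk (f (ι p)))).map (f.stalkMap (ι p)).hom).map
        (ι.stalkMap p).hom := by
    rw [Ideal.map_map, Scheme.Hom.stalkMap_comp]
    rfl
  have h2 : (I'.map ((X.presheaf.germ (τ ⁻¹ᵁ W') (ι p) hp).hom.comp (τ.app W').hom)).map
      (Ideal.Quotient.mk ((maximalIdeal (Y.presheaf.stalk (f (ι p)))).map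
        (f.stalkMap (ι p)).hom)) =
      I'.map ((Ideal.Quotient.mk ((maximalIdeal (Y.presheaf.stalk (f (ι p)))).map
        (f.stalkMap (ι p)).hom)).comp
          ((X.presheaf.germ (τ ⁻¹ᵁ W') (ι p) hp).hom.comp (τ.app W').hom)) := by
    rw [Ideal.map_map]
  exact ⟨(Ideal.quotEquivOfEq h1).trans (e.trans (Ideal.quotEquivOfEq h2))⟩

end Groth.Agent.Lib.helper5.GSlice
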