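import Mathlib
import Groth.Agent.Lib.Helper5.GSlice3

/-!
# Spreading out a fibrewise regular sequence of prescribed sections (helper5)

`exists_affine_regFlat_of_sections` : `f : X ⟶ S` locally of finite presentation, flat at `x`, `ss`
sections over an open `O ∋ x` vanishing at `x` whose images in the fibre local ring
`O_{X,x}/m_{f x} O_{X,x}` form a weakly regular sequence.  Then there are affine opens `V ∋ x`,
`V ⊆ O`, `W ∋ f x`, `V ⊆ f⁻¹ W` such that `ss|_V` is weakly regular with all successive quotients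
flat over `Γ(S, W)`.  (The version of `exists_affine_slice_of_sections` without quasi-finiteness.)
-/

set_option autoImplicit false
universe u

open AlgebraicGeometry CategoryTheory IsLocalRing RingTheory.Sequence LocCoh
  Groth.Agent.LibFibReg29

namespace Groth.Agent.Lib.helper5.GSlice

open Groth.Agent.Lib.helper5.CMSlice Groth.Agent.Lib.helper5.CMSliceSch

theorem exists_affine_regFlat_of_sections {X S : Scheme.{u}} (f : X ⟶ S)
    [LocallyOfFinitePresentation f] (x : X) (hflat : (f.stalkMap x).hom.Flat)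
    (O : X.Opens) (hxO : x ∈ O) (ss : List Γ(X, O))
    (hreg : IsWeaklyRegular (↑(X.presheaf.stalk x) ⧸
        Ideal.map (f.stalkMap x).hom (maximalIdeal ↑(S.presheaf.stalk (f x))))
      (ss.map ((Ideal.Quotient.mk
        (Ideal.map (f.stalkMap x).hom (maximalIdeal ↑(S.presheaf.stalk (f x))))).comp
          (X.presheaf.germ O x hxO).hom))) :
    ∃ (V : X.Opens) (_ : IsAffineOpen V) (hVO : V ≤ O) (W : S.Opens) (_ : IsAffineOpen W)
      (e : V ≤ f ⁻¹ᵁ W) (_ : x ∈ V),
      (letI := (f.appLE W V e).hom.toAlgebra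
       RegFlat Γ(S, W) Γ(X, V) (ss.map (X.presheaf.map (homOfLE hVO).op).hom)) := by
  classical
  obtain ⟨U, hU, W, hW, e₀, hxU, hUO, hflatB⟩ := exists_flat_chart f x hflat O hxO
  letI algAB : Algebra Γ(S, W) Γ(X, U) := (f.appLE W U e₀).hom.toAlgebra
  haveI := hflatB
  haveI hfp : Algebra.FinitePresentation Γ(S, W) Γ(X, U) :=
    HasRingHomProperty.appLE (P := @LocallyOfFinitePresentation) f inferInstance ⟨W, hW⟩ ⟨U, hU⟩ e₀
  let q : Ideal Γ(X, U) := (hU.primeIdealOf ⟨x, hxU⟩).asIdeal
  let p : Ideal Γ(S, W) := (hW.primeIdealOf ⟨f x, e₀ hxU⟩).asIdeal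
  haveI : q.LiesOver p := ⟨by
    have := IsAffineOpen.comap_primeIdealOf_appLE (f := f) (x := x) W hW U hU e₀ hxU
    exact (congrArg PrimeSpectrum.asIdeal this).symm⟩
  letI a1 : Algebra Γ(X, U) (X.presheaf.stalk x) := X.presheaf.algebra_section_stalk (⟨x, hxU⟩ : U)
  haveI l1 : IsLocalization.AtPrime (X.presheaf.stalk x) q := hU.isLocalization_stalk ⟨x, hxU⟩
  have hfib : fibIdeal (B := Γ(X, U)) p (X.presheaf.stalk x) =
      (maximalIdeal (S.presheaf.stalk (f x))).map (f.stalkMap x).hom :=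
    (map_maximalIdeal_stalkMap_eq f hW e₀ x hxU).symm
  set ys₀ : List Γ(X, U) := ss.map (X.presheaf.map (homOfLE hUO).op).hom with hys₀def
  have hmapeq : ys₀.map (toFib p (X.presheaf.stalk x)) =
      ss.map ((Ideal.Quotient.mk (fibIdeal (B := Γ(X, U)) p (X.presheaf.stalk x))).comp
          (X.presheaf.germ O x hxO).hom) := by
    rw [hys₀def, List.map_map]
    apply List.map_congr_left
    intro s _
    have hg : (X.presheaf.germ U x hxU).hom ((X.presheaf.map (homOfLE hUO).op).hom s) =
        (X.presheaf.germ O x hxO).hom s :=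
      TopCat.Presheaf.germ_res_apply X.presheaf (homOfLE hUO) x hxU s
    change Ideal.Quotient.mk _ ((X.presheaf.germ U x hxU).hom
      ((X.presheaf.map (homOfLE hUO).op).hom s)) = _
    rw [hg]
    rfl
  rw [← hfib] at hreg
  rw [← hmapeq] at hreg
  obtain ⟨g, hg, H⟩ := exists_away_regFlat_of_surjective p q (X.presheaf.stalk x)
    ((X.presheaf.stalk x) ⧸ fibIdeal (B := Γ(X, U)) p (X.presheaf.stalk x)) (Ideal.Quotient.mk _)
    Ideal.Quotient.mk_surjective (Ideal.mk_ker) ys₀ hreg
  have hxg : x ∈ X.basicOpen g := (mem_basicOpen_iff_notMem_primeIdealOf hU x hxU g).mpr hg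
  have hVU : X.basicOpen g ≤ U := X.basicOpen_le g
  have e : X.basicOpen g ≤ f ⁻¹ᵁ W := hVU.trans e₀
  letI algAC : Algebra Γ(S, W) Γ(X, X.basicOpen g) := (f.appLE W (X.basicOpen g) e).hom.toAlgebra
  letI algBC : Algebra Γ(X, U) Γ(X, X.basicOpen g) :=
    (X.presheaf.map (homOfLE hVU).op).hom.toAlgebra
  haveI : IsScalarTower Γ(S, W) Γ(X, U) Γ(X, X.basicOpen g) := by
    apply IsScalarTower.of_algebraMap_eq'
    have := Scheme.Hom.appLE_map f e₀ (homOfLE hVU).op
    exact (congrArg CommRingCat.Hom.hom this).symm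
  haveI : IsLocalization.Away g Γ(X, X.basicOpen g) := hU.isLocalization_basicOpen g
  have H1 := H Γ(X, X.basicOpen g)
  have hlist : ys₀.map (algebraMap Γ(X, U) Γ(X, X.basicOpen g)) =
      ss.map (X.presheaf.map (homOfLE (hVU.trans hUO)).op).hom := by
    rw [hys₀def, List.map_map]
    apply List.map_congr_left
    intro s _
    change (X.presheaf.map (homOfLE hVU).op).hom ((X.presheaf.map (homOfLE hUO).op).hom s) = _
    rw [← CommRingCat.comp_apply, ← Functor.map_comp]
    rfl
  refine ⟨X.basicOpen g, hU.basicOpen g, hVU.trans hUO, W, hW, e, hxg, ?_⟩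
  rw [← hlist]
  exact H1

end Groth.Agent.Lib.helper5.GSlice
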