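import Mathlib
import Groth.Agent.Lib.Helper5.GSlice10
import Groth.Agent.Lib.Helper5.GSlice14
import Groth.Agent.Lib.Helper17.LciCM
import Groth.Agent.Lib.Helper17.FibreDim
import Groth.Agent.Lib.Helper3.FibreDimNat
import Groth.Agent.Lib.Helper3.FibreComp
import Groth.Agent.Lib.Helper5.GrpdCM

/-!
# Cohen–Macaulay slices of a groupoid through a finite type point (helper5)

* `exists_cm_slice` : `s, t` flat lfp, `u` a finite type point, `O = O_{R,e u}/m_u` Cohen–Macaulay,
  `dim G_u + n ≤ dim O`.  Then there are an affine `U'`, an immersion `g : U' ⟶ U` lfp, `u' ↦ u` such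
  that `h = s ∘ pr₂` is Cohen–Macaulay at `p = ε u'` with `dim_p (fibre of h) + n = dim_{e u} (fibre of s)`.
-/

set_option autoImplicit false
universe u

open AlgebraicGeometry CategoryTheory CategoryTheory.Limits IsLocalRing RingTheory.Sequence LocCoh

namespace Groth.Agent.Lib.helper5.GSlice

open Groth.Agent.Lib.helper17.FibreStalk Groth.Agent.Lib.helper5.FibCrit
  Groth.Agent.Lib.helper3.DimIneq

/-- transcendence degree `0` for a residue field map that has a retraction-like factorization. -/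
theorem td_eq_zero_of_comp_surjective {X Y Z : Scheme.{u}} (a : X ⟶ Y) (b : Y ⟶ Z) (x : X)
    (hsurj : Function.Surjective ((a ≫ b).residueFieldMap x).hom) :
    td (b.residueFieldMap (a x)).hom = 0 := by
  have h1 := Groth.Agent.Lib.helper3.FibreComp.td_residueFieldMap_comp a b x
  have h2 : td ((a ≫ b).residueFieldMap x).hom = 0 := by
    letI : Algebra (Z.residueField ((a ≫ b) x)) (X.residueField x) :=
      ((a ≫ b).residueFieldMap x).hom.toAlgebra
    haveI : Algebra.IsAlgebraic (Z.residueField ((a ≫ b) x)) (X.residueField x) :=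
      isAlgebraic_of_surjective _ hsurj
    exact trdeg_eq_zero
  rw [h2] at h1
  have := h1.symm
  rw [add_eq_zero] at this
  exact this.1

theorem residueFieldMap_surjective_of_eq_id {X : Scheme.{u}} (k : X ⟶ X) (hk : k = 𝟙 X) (x : X) :
    Function.Surjective (k.residueFieldMap x).hom := by
  subst hk
  rw [Scheme.residueFieldMap_id]
  exact Function.surjective_id

theorem residueFieldMap_surjective_of_eq {X Y : Scheme.{u}} (k g : X ⟶ Y) (hk : k = g)
    [SurjectiveOnStalks g] (x : X) : Function.Surjective (k.residueFieldMap x).hom := by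
  subst hk
  exact Groth.Agent.Lib.helper3.FibreField.residueFieldMap_surjective k x

variable {S : Scheme.{u}} (G : Grpd.GroupoidScheme S)

/-- `dim_{e u} s⁻¹(u) = dim O_{R,e u}/m_u O_{R,e u}` (the point `e u` is rational over `u`). -/
theorem fibreDimAt_s_e [LocallyOfFiniteType G.s] (u : G.U) :
    FlatMor.fibreDimAt G.s (G.e u) = ringKrullDim (FibRing G.s (G.e u)) := by
  obtain ⟨a, b, ha, hb, hab⟩ := Groth.Agent.Lib.helper3.DimFibre.fibreDimAt_eq_add G.s (G.e u)
  have h0 := td_eq_zero_of_comp_surjective G.e G.s u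
    (residueFieldMap_surjective_of_eq_id _ G.e_s u)
  rw [h0] at ha
  have ha0 : a = 0 := by exact_mod_cast ha.symm
  subst ha0
  rw [hab, Groth.Agent.Lib.helper17.FibreDim.dim_fibRing, hb, zero_add]

/-- the same for `h` at `ε u'` when `g` is an immersion. -/
theorem fibreDimAt_h_eps {U' : Scheme.{u}} (g : U' ⟶ G.U) [SurjectiveOnStalks g]
    [LocallyOfFiniteType (hMap G g)] (u' : U') :
    FlatMor.fibreDimAt (hMap G g) (epsMap G g u') =
      ringKrullDim (FibRing (hMap G g) (epsMap G g u')) := by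
  obtain ⟨a, b, ha, hb, hab⟩ :=
    Groth.Agent.Lib.helper3.DimFibre.fibreDimAt_eq_add (hMap G g) (epsMap G g u')
  have hεh : epsMap G g ≫ hMap G g = g := by
    rw [hMap, epsMap_snd_assoc, G.e_s, Category.comp_id]
  have h0 := td_eq_zero_of_comp_surjective (epsMap G g) (hMap G g) u'
    (residueFieldMap_surjective_of_eq _ g hεh u')
  rw [h0] at ha
  have ha0 : a = 0 := by exact_mod_cast ha.symm
  subst ha0
  rw [hab, Groth.Agent.Lib.helper17.FibreDim.dim_fibRing, hb, zero_add]

/-- **Cohen–Macaulay slices through a finite type point.** -/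
theorem exists_cm_slice [Flat G.s] [LocallyOfFinitePresentation G.s] [Flat G.t]
    [LocallyOfFinitePresentation G.t] (u : G.U)
    (hu : LocallyOfFiniteType (G.U.fromSpecResidueField u))
    [IsCohenMacaulayLocalRing (FibRing G.s (G.e u))] (n : ℕ)
    (hn : topologicalKrullDim (G.stabilizerToU.fiber u) + (n : WithBot ℕ∞) ≤
      ringKrullDim (FibRing G.s (G.e u))) :
    ∃ (U' : Scheme.{u}) (_ : IsAffine U') (g : U' ⟶ G.U) (u' : U'),
      IsImmersion g ∧ LocallyOfFinitePresentation g ∧ g u' = u ∧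
      Grpd.IsCMAt (hMap G g) (epsMap G g u') ∧
      FlatMor.fibreDimAt (hMap G g) (epsMap G g u') + (n : WithBot ℕ∞) =
        FlatMor.fibreDimAt G.s (G.e u) := by
  obtain ⟨fs, hlen, hfs, hreg⟩ := exists_regular_of_cm G u hu n hn
  obtain ⟨U', hU', g, u', p, N, hg1, hg2, hgu, hp1, hp2, hpN, hfl, ⟨e⟩⟩ :=
    exists_cm_slice_local G.s G.t (G.e u) (Flat.stalkMap G.s _) fs hfs hreg
  haveI := hg1
  haveI := hg2
  have htu : G.t (G.e u) = u := by
    rw [← Scheme.Hom.comp_apply, G.e_t]; rfl
  have hgu' : g u' = u := hgu.trans htu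
  haveI : LocallyOfFinitePresentation (hMap G g) := by
    unfold hMap; infer_instance
  have hpe : p = epsMap G g u' := by
    have hinj : Function.Injective (pullback.snd g G.t) :=
      (pullback.snd g G.t).isEmbedding.injective
    apply hinj
    rw [hp2, ← Scheme.Hom.comp_apply, epsMap_snd, Scheme.Hom.comp_apply, hgu']
  subst hpe
  set O := FibRing G.s (G.e u) with hO
  have hmemO : ∀ r ∈ fs.map (tFib G (G.e u)), r ∈ maximalIdeal O := by
    intro b hb
    obtain ⟨a, ha, rfl⟩ := List.mem_map.mp hb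
    exact map_nonunit (tFib G (G.e u)) a (hfs a ha)
  have hmem : Ideal.ofList (fs.map (tFib G (G.e u))) ≤ maximalIdeal O := by
    unfold Ideal.ofList
    rw [Ideal.span_le]
    exact hmemO
  have hreg' : RingTheory.Sequence.IsRegular O (fs.map (tFib G (G.e u))) := by
    refine ⟨hreg, ?_⟩
    rw [smul_eq_mul, Ideal.mul_top]
    exact fun h => (maximalIdeal.isMaximal O).ne_top (top_le_iff.mp (h ▸ hmem))
  have hdim := ringKrullDim_add_length_eq_ringKrullDim_of_isRegular _ hreg'
  rw [List.length_map, hlen] at hdim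
  haveI hcm : IsCohenMacaulayLocalRing (O ⧸ Ideal.ofList (fs.map (tFib G (G.e u)))) :=
    Groth.Agent.Lib.helper17.LciCM.cm_quot_ofList O _ hmemO hreg
  refine ⟨U', hU', g, u', hg1, hg2, hgu', ⟨?_, ?_⟩, ?_⟩
  · have h1 := Flat.stalkMap (N.ι ≫ pullback.snd g G.t ≫ G.s) ⟨epsMap G g u', hpN⟩
    exact (flat_comp_left_iff N.ι (hMap G g) ⟨epsMap G g u', hpN⟩
      (bijective_stalkMap_of_isOpenImmersion N.ι _)).mp h1
  · exact Groth.Agent.S9808.cm_of_ringEquiv e.symm
  · rw [fibreDimAt_h_eps G g u', fibreDimAt_s_e G u, ringKrullDim_eq_of_ringEquiv e]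
    exact hdim

end Groth.Agent.Lib.helper5.GSlice
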