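import Mathlib
import Groth.Agent.Lib.Helper5.GSlice5
import Groth.Agent.Lib.Helper5.CMQF13
import Groth.Agent.Lib.Helper17.CMBaseChange
import Groth.Agent.Lib.Helper18.PullbackSquare
import Groth.Agent.Lib.Helper24.FlatDepth4

/-!
# `IsCMAt` and flat base change, pointwise (helper5)

* `isCMAt_iff_of_isPullback` : for a cartesian square with flat base change morphism and `f` locally of
  finite type, `f'` is Cohen–Macaulay at `x'` iff `f` is Cohen–Macaulay at the image of `x'`.
* `isCMAt_of_isPullback'` : ascent along an arbitrary base change.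
* `isOpen_isCMAt` : the Cohen–Macaulay locus of a morphism locally of finite presentation is open.
* `exists_shrink_cm` : shrinking `U'` so that `h = s ∘ pr₂` is Cohen–Macaulay everywhere.
-/

set_option autoImplicit false
set_option linter.style.haveILetI false
universe u

open AlgebraicGeometry CategoryTheory CategoryTheory.Limits

namespace Groth.Agent.Lib.helper5.GSlice

theorem isLocallyNoetherian_fiber {A B : Scheme.{u}} (p : A ⟶ B) [LocallyOfFiniteType p] (b : B) :
    IsLocallyNoetherian (p.fiber b) := by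
  haveI : LocallyOfFiniteType (p.fiberToSpecResidueField b) :=
    MorphismProperty.pullback_snd _ _ inferInstance
  exact LocallyOfFiniteType.isLocallyNoetherian (p.fiberToSpecResidueField b)

/-- ascent of `IsCMAt` along an arbitrary base change (`f` locally of finite type). -/
theorem isCMAt_of_isPullback' {X S X' S' : Scheme.{u}} {f : X ⟶ S} {f' : X' ⟶ S'} {g' : X' ⟶ X}
    {g : S' ⟶ S} (hc : IsPullback g' f' f g) [LocallyOfFiniteType f] (x' : X')
    (h : MoreMor.IsCMAt f (g' x')) : MoreMor.IsCMAt f' x' := by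
  haveI hf' : LocallyOfFiniteType f' := MorphismProperty.of_isPullback hc inferInstance
  haveI := isLocallyNoetherian_fiber f (g (f' x'))
  haveI := isLocallyNoetherian_fiber f' (f' x')
  haveI : IsNoetherianRing ((f'.fiber (f' x')).presheaf.stalk (f'.asFiber x')) := inferInstance
  haveI : LocallyOfFiniteType (f.fiberToSpecResidueField (g (f' x'))) :=
    MorphismProperty.pullback_snd _ _ inferInstance
  let ψ : S.residueField (g (f' x')) ⟶ (f.fiber (g (f' x'))).residueField
      (Groth.Agent.Lib.helper17.FibreBC.fibreMap hc (f' x') (f'.asFiber x')) :=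
    Spec.preimage ((f.fiber (g (f' x'))).fromSpecResidueField
      (Groth.Agent.Lib.helper17.FibreBC.fibreMap hc (f' x') (f'.asFiber x')) ≫
      f.fiberToSpecResidueField (g (f' x')))
  have hψ : (f.fiber (g (f' x'))).fromSpecResidueField
      (Groth.Agent.Lib.helper17.FibreBC.fibreMap hc (f' x') (f'.asFiber x')) ≫
      f.fiberToSpecResidueField (g (f' x')) = Spec.map ψ := (Spec.map_preimage _).symm
  have hψe := Groth.Agent.Lib.helper17.FieldBC.essFiniteType_of_locallyOfFiniteType _ _ ψ hψ
  exact Groth.Agent.Lib.helper17.CMBaseChange.isCMAt_of_isPullback hc x' ψ hψ (Or.inl hψe) h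

/-- `IsCMAt` is invariant under flat base change. -/
theorem isCMAt_iff_of_isPullback {X S X' S' : Scheme.{u}} {f : X ⟶ S} {f' : X' ⟶ S'} {g' : X' ⟶ X}
    {g : S' ⟶ S} (hc : IsPullback g' f' f g) [Flat g] [LocallyOfFiniteType f] (x' : X') :
    MoreMor.IsCMAt f' x' ↔ MoreMor.IsCMAt f (g' x') := by
  haveI hf' : LocallyOfFiniteType f' := MorphismProperty.of_isPullback hc inferInstance
  constructor
  · intro h
    obtain ⟨ψ, hψ, hloc⟩ := Groth.Agent.Lib.helper17.FibreBC.exists_flat_local_hom hc x'
    obtain ⟨hfl', hCM⟩ := h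
    haveI := isLocallyNoetherian_fiber f (f (g' x'))
    haveI : IsNoetherianRing ((f.fiber (f (g' x'))).presheaf.stalk (f.asFiber (g' x'))) :=
      inferInstance
    algebraize [ψ]
    haveI : IsLocalHom (algebraMap ((f.fiber (f (g' x'))).presheaf.stalk (f.asFiber (g' x')))
        ((f'.fiber (f' x')).presheaf.stalk (f'.asFiber x'))) := hloc
    refine ⟨Groth.Agent.Lib.Helper18.PullbackStalk.flat_stalk_descent_of_isPullback hc x'
      (Flat.stalkMap g _) hfl', ?_⟩
    exact ((Groth.Agent.Lib.Helper24.FlatDepth.cm_iff_of_flat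
      ((f.fiber (f (g' x'))).presheaf.stalk (f.asFiber (g' x')))
      ((f'.fiber (f' x')).presheaf.stalk (f'.asFiber x'))).mp hCM).1
  · exact isCMAt_of_isPullback' hc x'

theorem isOpen_isCMAt {X S : Scheme.{u}} (f : X ⟶ S) [LocallyOfFinitePresentation f] :
    IsOpen {x : X | MoreMor.IsCMAt f x} := by
  rw [isOpen_iff_forall_mem_open]
  intro x hx
  obtain ⟨U, hxU, hU⟩ := Groth.Agent.Lib.helper5.CMQF.exists_open_isCMAt_fibreDimAt_const f x hx
  exact ⟨U, fun x' hx' => (hU x' hx').1, U.isOpen, hxU⟩

variable {S : Scheme.{u}} (G : Grpd.GroupoidScheme S) {U' : Scheme.{u}} (g : U' ⟶ G.U)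

/-- **Shrinking for Cohen–Macaulay.** -/
theorem exists_shrink_cm [Flat G.s] [LocallyOfFinitePresentation G.s] [Flat G.t]
    [LocallyOfFinitePresentation G.t] [LocallyOfFinitePresentation g]
    (u' : U') (h0 : MoreMor.IsCMAt (hMap G g) (epsMap G g u')) :
    ∃ V : U'.Opens, IsAffineOpen V ∧ u' ∈ V ∧
      ∀ z : ↑(pullback (V.ι ≫ g) G.t), MoreMor.IsCMAt (hMap G (V.ι ≫ g)) z := by
  haveI : LocallyOfFinitePresentation (hMap G g) := by
    unfold hMap; infer_instance
  exact exists_shrink G g (fun f x => MoreMor.IsCMAt f x)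
    (fun sq _ _ _ x' => isCMAt_iff_of_isPullback sq x')
    (fun k _ f _ x => Groth.Agent.Lib.helper5.CMQF.isCMAt_comp_iff_of_isOpenImmersion k f x)
    (isOpen_isCMAt _) u' h0

end Groth.Agent.Lib.helper5.GSlice
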