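import Mathlib
import Groth.Agent.Lib.Helper5.GSlice11
import Groth.Agent.Lib.Helper5.GSlice15
import Groth.Agent.Lib.Helper5.GSlice16
import Groth.Agent.Lib.Helper5.FibreDimLocal

/-!
# Maximal Cohen–Macaulay slices (helper5)

`exists_max_cm_slice` : `s, t` flat lfp, `u` a finite type point with `O_{R,e u}/m_u` Cohen–Macaulay.
There are an affine `U'`, an immersion `g : U' ⟶ U` lfp and `u' ↦ u` such that `h`, `s'`, `t'` are
Cohen–Macaulay and `dim_p (fibre of h) = dim G_u` at `p = ε u'`.
-/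

set_option autoImplicit false
set_option linter.style.haveILetI false
universe u

open AlgebraicGeometry CategoryTheory CategoryTheory.Limits IsLocalRing LocCoh

namespace Groth.Agent.Lib.helper5.GSlice

open Groth.Agent.Lib.helper17.FibreStalk

variable {S : Scheme.{u}} (G : Grpd.GroupoidScheme S)

theorem epsMap_restrMap {U' : Scheme.{u}} (g : U' ⟶ G.U) (V : U'.Opens) :
    epsMap G (V.ι ≫ g) ≫ restrMap G g V = V.ι ≫ epsMap G g := by
  apply pullback.hom_ext
  · rw [Category.assoc, restrMap_fst, epsMap_fst_assoc, Category.assoc, epsMap_fst, Category.comp_id]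
  · rw [Category.assoc, restrMap_snd, epsMap_snd, Category.assoc, Category.assoc, epsMap_snd]

theorem exists_nat_ringKrullDim (A : Type u) [CommRing A] [IsLocalRing A] [IsNoetherianRing A] :
    ∃ n : ℕ, ringKrullDim A = (n : WithBot ℕ∞) := by
  have hD : ringKrullDim A ≠ ⊤ := ringKrullDim_ne_top
  have hD0 : (0 : WithBot ℕ∞) ≤ ringKrullDim A := ringKrullDim_nonneg_of_nontrivial
  generalize ringKrullDim A = D at *
  induction D with
  | bot => simp at hD0
  | coe D =>
    have hDtop : D ≠ ⊤ := by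
      intro h; apply hD; rw [h]; rfl
    obtain ⟨D', rfl⟩ := ENat.ne_top_iff_exists.mp hDtop
    exact ⟨D', rfl⟩

theorem exists_max_cm_slice [Flat G.s] [LocallyOfFinitePresentation G.s] [Flat G.t]
    [LocallyOfFinitePresentation G.t] (u : G.U)
    (hu : LocallyOfFiniteType (G.U.fromSpecResidueField u))
    [IsCohenMacaulayLocalRing (FibRing G.s (G.e u))] :
    ∃ (U' : Scheme.{u}) (_ : IsAffine U') (g : U' ⟶ G.U) (u' : U'),
      IsImmersion g ∧ LocallyOfFinitePresentation g ∧ g u' = u ∧
      (∀ q, MoreMor.IsCMAt (hMap G g) q) ∧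
      FlatMor.fibreDimAt (hMap G g) (epsMap G g u') =
        topologicalKrullDim (G.stabilizerToU.fiber u) := by
  set O := FibRing G.s (G.e u) with hO
  obtain ⟨D, hD⟩ := exists_nat_ringKrullDim O
  -- the quotient `O/JO`
  set J := (maximalIdeal ↑(G.U.presheaf.stalk (G.t (G.e u)))).map (tFib G (G.e u)) with hJ
  have hJle : J ≤ maximalIdeal O := map_maximalIdeal_le _
  haveI : Nontrivial (O ⧸ J) := Ideal.Quotient.nontrivial_iff.mpr
    (fun h => (maximalIdeal.isMaximal O).ne_top (top_le_iff.mp (h ▸ hJle)))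
  haveI : IsLocalRing (O ⧸ J) := IsLocalRing.of_surjective' (Ideal.Quotient.mk J)
    Ideal.Quotient.mk_surjective
  obtain ⟨c, hc⟩ := exists_nat_ringKrullDim (O ⧸ J)
  have hstab : topologicalKrullDim (G.stabilizerToU.fiber u) = (c : WithBot ℕ∞) := by
    rw [← ringKrullDim_quot_eq_stab G u hu]
    exact hc
  have hcD : c ≤ D := by
    have := ringKrullDim_le_of_surjective (Ideal.Quotient.mk J) Ideal.Quotient.mk_surjective
    rw [hc, hD] at this
    exact_mod_cast this
  obtain ⟨n, hnD⟩ : ∃ n : ℕ, c + n = D := ⟨D - c, by omega⟩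
  obtain ⟨U₀, hU₀, g₀, u₀, hg1, hg2, hgu, hcm, hdim⟩ := exists_cm_slice G u hu n (by
    rw [hstab, hD]
    have : c + n ≤ D := by omega
    exact_mod_cast this)
  haveI := hg1
  haveI := hg2
  rw [Groth.Agent.Lib.helper5.GrpdCM.grpd_isCMAt_iff] at hcm
  obtain ⟨V, hV, hu₀V, hall⟩ := exists_shrink_cm G g₀ u₀ hcm
  haveI : LocallyOfFinitePresentation (hMap G g₀) := by
    unfold hMap; infer_instance
  refine ⟨V, hV, V.ι ≫ g₀, ⟨u₀, hu₀V⟩, inferInstance, inferInstance, ?_, hall, ?_⟩
  · rw [Scheme.Hom.comp_apply]; exact hgu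
  · have h1 := Groth.Agent.Lib.helper5.FibreDimLocal.fibreDimAt_comp_etale_left (restrMap G g₀ V)
      (hMap G g₀) (epsMap G (V.ι ≫ g₀) ⟨u₀, hu₀V⟩)
    rw [restrMap_h] at h1
    rw [h1, ← Scheme.Hom.comp_apply, epsMap_restrMap, Scheme.Hom.comp_apply]
    have h2 : V.ι ⟨u₀, hu₀V⟩ = u₀ := rfl
    rw [h2, hstab]
    rw [fibreDimAt_s_e G u, hD] at hdim
    generalize FlatMor.fibreDimAt (hMap G g₀) (epsMap G g₀ u₀) = a at hdim
    induction a with
    | bot => simp at hdim
    | coe a =>
      induction a with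
      | top =>
        have h3 : ((⊤ : ℕ∞) + (n : ℕ∞) : ℕ∞) = (D : ℕ∞) := by exact_mod_cast hdim
        rw [top_add] at h3
        exact absurd h3 (ENat.top_ne_natCast D)
      | coe a =>
        have h3 : a + n = D := by exact_mod_cast hdim
        have : a = c := by omega
        subst this
        rfl

end Groth.Agent.Lib.helper5.GSlice
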