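import Groth.Prelude.Def_AlgSpGpd

/-!
# Calculus of `T`-valued points in a groupoid in sheaves (helper5)

`Gpd.mul G α β h` is the composite `α ∘ β` of two `T`-valued arrows with `s α = t β`.
-/

set_option autoImplicit false
universe u

open CategoryTheory CategoryTheory.Limits AlgebraicGeometry

namespace Groth.Agent.Lib.helper5.Gpd

variable {S : Scheme.{u}} {B : AlgSp.Sp S} (G : AlgSp.GroupoidSp B)

/-- composition of `T`-valued arrows -/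
noncomputable def mul {T : AlgSp.Sp S} (α β : T ⟶ G.R) (h : α ≫ G.s = β ≫ G.t) : T ⟶ G.R :=
  pullback.lift α β h ≫ G.c

theorem mul_s {T : AlgSp.Sp S} (α β : T ⟶ G.R) (h : α ≫ G.s = β ≫ G.t) :
    mul G α β h ≫ G.s = β ≫ G.s := G.comp_s α β h

theorem mul_t {T : AlgSp.Sp S} (α β : T ⟶ G.R) (h : α ≫ G.s = β ≫ G.t) :
    mul G α β h ≫ G.t = α ≫ G.t := G.comp_t α β h

theorem mul_congr {T : AlgSp.Sp S} {α α' β β' : T ⟶ G.R} (h : α ≫ G.s = β ≫ G.t)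
    (hα : α = α') (hβ : β = β') :
    mul G α β h = mul G α' β' (by rw [← hα, ← hβ]; exact h) := by
  subst hα; subst hβ; rfl

theorem comp_mul {T T' : AlgSp.Sp S} (f : T' ⟶ T) (α β : T ⟶ G.R) (h : α ≫ G.s = β ≫ G.t) :
    f ≫ mul G α β h = mul G (f ≫ α) (f ≫ β) (by rw [Category.assoc, Category.assoc, h]) := by
  unfold mul
  rw [← Category.assoc]
  congr 1
  apply pullback.hom_ext
  · rw [Category.assoc, pullback.lift_fst, pullback.lift_fst]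
  · rw [Category.assoc, pullback.lift_snd, pullback.lift_snd]

theorem c_eq : G.c = mul G (pullback.fst G.s G.t) (pullback.snd G.s G.t) pullback.condition := by
  unfold mul
  have : pullback.lift (pullback.fst G.s G.t) (pullback.snd G.s G.t) pullback.condition = 𝟙 _ := by
    apply pullback.hom_ext <;> simp
  rw [this, Category.id_comp]

theorem lift_c {T : AlgSp.Sp S} (α β : T ⟶ G.R) (h : α ≫ G.s = β ≫ G.t) :
    pullback.lift α β h ≫ G.c = mul G α β h := rfl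

theorem mul_assoc {T : AlgSp.Sp S} (α β γ : T ⟶ G.R) (h₁ : α ≫ G.s = β ≫ G.t)
    (h₂ : β ≫ G.s = γ ≫ G.t) :
    mul G (mul G α β h₁) γ ((mul_s G α β h₁).trans h₂) =
      mul G α (mul G β γ h₂) (h₁.trans (mul_t G β γ h₂).symm) :=
  G.assoc α β γ h₁ h₂

theorem mul_e {T : AlgSp.Sp S} (α : T ⟶ G.R) {ε : T ⟶ G.R} (hε : ε = α ≫ G.s ≫ G.e)
    (h : α ≫ G.s = ε ≫ G.t) : mul G α ε h = α := by
  subst hε
  exact G.comp_e α

theorem e_mul {T : AlgSp.Sp S} (α : T ⟶ G.R) {ε : T ⟶ G.R} (hε : ε = α ≫ G.t ≫ G.e)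
    (h : ε ≫ G.s = α ≫ G.t) : mul G ε α h = α := by
  subst hε
  exact G.e_comp α

theorem mul_i {T : AlgSp.Sp S} (α : T ⟶ G.R) {ι : T ⟶ G.R} (hι : ι = α ≫ G.i)
    (h : α ≫ G.s = ι ≫ G.t) : mul G α ι h = α ≫ G.t ≫ G.e := by
  subst hι
  exact G.comp_i α

theorem i_mul {T : AlgSp.Sp S} (α : T ⟶ G.R) {ι : T ⟶ G.R} (hι : ι = α ≫ G.i)
    (h : ι ≫ G.s = α ≫ G.t) : mul G ι α h = α ≫ G.s ≫ G.e := by
  subst hι
  exact G.i_comp α

/-- `(α ∘ β) ∘ β⁻¹ = α` -/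
theorem mul_mul_i {T : AlgSp.Sp S} (α β : T ⟶ G.R) (h : α ≫ G.s = β ≫ G.t)
    (h' : mul G α β h ≫ G.s = (β ≫ G.i) ≫ G.t) :
    mul G (mul G α β h) (β ≫ G.i) h' = α := by
  have hβ : β ≫ G.s = (β ≫ G.i) ≫ G.t := by rw [Category.assoc, G.i_t]
  have e1 := mul_assoc G α β (β ≫ G.i) h hβ
  rw [e1]
  have e2 : mul G β (β ≫ G.i) hβ = α ≫ G.s ≫ G.e := by
    rw [mul_i G β rfl hβ, ← Category.assoc, ← h, Category.assoc]
  exact mul_e G α e2 _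

/-- `(α ∘ β⁻¹) ∘ β = α` -/
theorem mul_i_mul {T : AlgSp.Sp S} (α β : T ⟶ G.R) (h : α ≫ G.s = (β ≫ G.i) ≫ G.t)
    (h' : mul G α (β ≫ G.i) h ≫ G.s = β ≫ G.t) :
    mul G (mul G α (β ≫ G.i) h) β h' = α := by
  have hβ : (β ≫ G.i) ≫ G.s = β ≫ G.t := by rw [Category.assoc, G.i_s]
  have e1 := mul_assoc G α (β ≫ G.i) β h hβ
  rw [e1]
  have e2 : mul G (β ≫ G.i) β hβ = α ≫ G.s ≫ G.e := by
    have hs : α ≫ G.s = β ≫ G.s := by rw [h, Category.assoc, G.i_t]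
    rw [i_mul G β rfl hβ, ← Category.assoc, ← hs, Category.assoc]
  exact mul_e G α e2 _

/-- `α⁻¹ ∘ (α ∘ β) = β` -/
theorem i_mul_mul {T : AlgSp.Sp S} (α β : T ⟶ G.R) (h : α ≫ G.s = β ≫ G.t)
    (h' : (α ≫ G.i) ≫ G.s = mul G α β h ≫ G.t) :
    mul G (α ≫ G.i) (mul G α β h) h' = β := by
  have hα : (α ≫ G.i) ≫ G.s = α ≫ G.t := by rw [Category.assoc, G.i_s]
  have e1 := mul_assoc G (α ≫ G.i) α β hα h
  rw [← e1]
  have e2 : mul G (α ≫ G.i) α hα = β ≫ G.t ≫ G.e := by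
    rw [i_mul G α rfl hα, ← Category.assoc, h, Category.assoc]
  exact e_mul G β e2 _

/-- `α ∘ (α⁻¹ ∘ β) = β` -/
theorem mul_i_mul' {T : AlgSp.Sp S} (α β : T ⟶ G.R) (h : (α ≫ G.i) ≫ G.s = β ≫ G.t)
    (h' : α ≫ G.s = mul G (α ≫ G.i) β h ≫ G.t) :
    mul G α (mul G (α ≫ G.i) β h) h' = β := by
  have hα : α ≫ G.s = (α ≫ G.i) ≫ G.t := by rw [Category.assoc, G.i_t]
  have e1 := mul_assoc G α (α ≫ G.i) β hα h
  rw [← e1]
  have e2 : mul G α (α ≫ G.i) hα = β ≫ G.t ≫ G.e := by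
    have ht : β ≫ G.t = α ≫ G.t := by rw [← h, Category.assoc, G.i_s]
    rw [mul_i G α rfl hα, ← Category.assoc, ← ht, Category.assoc]
  exact e_mul G β e2 _

end Groth.Agent.Lib.helper5.Gpd
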