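/-
# Lib.Helper5.GrpArtComp — connected components of group schemes locally of finite type over a field / local artinian ring are
quasi-compact (SGA3 VI_A 2.4, S5345)

* `isCompact_connectedComponent_field`: over a field `k`; proof: pick a closed point `x₀` of the component, base change to the finite
  extension `κ(x₀)`, where the component of the rational point above `x₀` is a translate of the neutral component (helper3 `GrpTransl`,
  `GrpConn`), and push forward along the open and closed projection.
* `isCompact_connectedComponent_artinian` (S5345): reduce to the residue field by `DimArt.isHomeomorph_prL`.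
-/
import Mathlib
import Groth.Agent.Lib.Helper5.GrpNeutral5
import Groth.Agent.Lib.Helper3.GrpTransl

set_option autoImplicit false
set_option linter.style.haveILetI false
universe u
open CategoryTheory CategoryTheory.Limits MonoidalCategory CartesianMonoidalCategory MonObj GrpObj
  AlgebraicGeometry Topology

namespace Groth.Agent.Lib.helper5.GrpArtComp

open Groth.Agent.Lib.helper5.GrpNeutral5 Groth.Agent.Lib.helper5.GrpMonoClosed Groth.Agent.Lib.Helper14.BCAct

/-- connected components of a group scheme locally of finite type over a field are quasi-compact (SGA3 VI_A 2.4) -/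
theorem isCompact_connectedComponent_field (k : Type u) [Field k] (G : Over (Spec (CommRingCat.of k))) [GrpObj G]
    [LocallyOfFiniteType G.hom] (x : G.left) : IsCompact (connectedComponent x) := by
  haveI : LocallyConnectedSpace ↥G.left := locallyConnectedSpace_of_lft G.hom
  haveI : JacobsonSpace ↥G.left := LocallyOfFiniteType.jacobsonSpace (Y := Spec _) G.hom
  -- a closed point in the component
  obtain ⟨x₀, hx₀C, hx₀cl⟩ := nonempty_inter_closedPoints (X := ↥G.left)
    (Z := connectedComponent x) ⟨x, mem_connectedComponent⟩ isClosed_connectedComponent.isLocallyClosed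
  have hx₀cl' : IsClosed ({x₀} : Set G.left) := hx₀cl
  have hCeq : connectedComponent x₀ = connectedComponent x := (connectedComponent_eq hx₀C).symm
  rw [← hCeq]
  -- the residue field
  set y : Spec (G.left.residueField x₀) ⟶ G.left := G.left.fromSpecResidueField x₀ with hy
  set h : Spec (G.left.residueField x₀) ⟶ Spec (CommRingCat.of k) := y ≫ G.hom with hh
  haveI : IsFinite h := by
    have hx := hx₀cl'
    rw [isClosed_singleton_iff_isClosedImmersion] at hx
    rw [hh, isFinite_iff_locallyOfFiniteType_of_jacobsonSpace]
    infer_instance
  haveI : Subsingleton ↥(Spec (CommRingCat.of k)) := inferInstanceAs (Subsingleton (PrimeSpectrum k))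
  haveI : UniversallyOpen h := inferInstance
  -- the base change
  set π : (Red.bc h G).left ⟶ G.left := pullback.fst G.hom h with hπ
  have hπo : IsOpenMap π.base := by rw [hπ]; exact (pullback.fst G.hom h).isOpenMap
  have hπc : IsClosedMap π.base := by rw [hπ]; exact (pullback.fst G.hom h).isClosedMap
  haveI : LocallyOfFiniteType (Red.bc h G).hom :=
    inferInstanceAs (LocallyOfFiniteType (pullback.snd G.hom h))
  haveI : LocallyConnectedSpace ↥(Red.bc h G).left := locallyConnectedSpace_of_lft (Red.bc h G).hom
  -- the rational point
  let t : 𝟙_ (Over (Spec (G.left.residueField x₀))) ⟶ Red.bc h G :=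
    Over.homMk (pullback.lift y (𝟙 _) (by rw [Category.id_comp])) (by
      show pullback.lift y (𝟙 _) _ ≫ pullback.snd G.hom h = 𝟙 _
      rw [pullback.lift_snd])
  have htπ : t.left ≫ π = y := by
    show pullback.lift y (𝟙 _) _ ≫ pullback.fst G.hom h = y
    rw [pullback.lift_fst]
  set p₀ : (Red.bc h G).left :=
    t.left (Groth.Agent.Lib.helper3.GrpTransl.pt (K := G.left.residueField x₀)) with hp₀
  have hπp₀ : π p₀ = x₀ := by
    rw [hp₀, ← Scheme.Hom.comp_apply, htπ, hy]
    exact Scheme.fromSpecResidueField_apply x₀ _
  have hCK : IsCompact (connectedComponent p₀) := by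
    rw [hp₀, ← Groth.Agent.Lib.helper3.GrpTransl.image_connectedComponent_unit
      (K := G.left.residueField x₀) (Red.bc h G) t]
    exact (Groth.Agent.Lib.helper3.GrpConn.isCompact_connectedComponent_unit
      (K := G.left.residueField x₀) (Red.bc h G)).image
        (Groth.Agent.Lib.helper3.GrpTransl.trHomeo (K := G.left.residueField x₀) (Red.bc h G) t).continuous
  have himg : π.base '' connectedComponent p₀ = connectedComponent x₀ := by
    apply subset_antisymm
    · have h1 : _root_.IsConnected (π.base '' connectedComponent p₀) :=
        isConnected_connectedComponent.image _ π.continuous.continuousOn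
      have h2 : x₀ ∈ π.base '' connectedComponent p₀ := ⟨p₀, mem_connectedComponent, hπp₀⟩
      exact h1.isPreconnected.subset_connectedComponent h2
    · have hclopen : IsClopen (π.base '' connectedComponent p₀) :=
        ⟨hπc _ isClosed_connectedComponent, hπo _ isOpen_connectedComponent⟩
      exact hclopen.connectedComponent_subset ⟨p₀, mem_connectedComponent, hπp₀⟩
  rw [← himg]
  exact hCK.image π.continuous

/-- **S5345**: connected components of a group scheme locally of finite type over a local artinian ring are quasi-compact -/
theorem isCompact_connectedComponent_artinian (A : Type u) [CommRing A] [IsArtinianRing A] [IsLocalRing A]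
    (G : Over (Spec (CommRingCat.of A))) [GrpObj G] [LocallyOfFiniteType G.hom] (g : G.left) :
    IsCompact (connectedComponent g) := by
  have hW := Groth.Agent.Lib.helper5.DimArt.isHomeomorph_prL (resMap A) G
  obtain ⟨g', rfl⟩ := hW.surjective g
  haveI : LocallyOfFiniteType (Red.bc (resMap A) G).hom :=
    inferInstanceAs (LocallyOfFiniteType (pullback.snd G.hom (resMap A)))
  have h1 := isCompact_connectedComponent_field (IsLocalRing.ResidueField A) (Red.bc (resMap A) G) g'
  have h2 : (prL (resMap A) G).base '' connectedComponent g' = connectedComponent ((prL (resMap A) G) g') :=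
    hW.isQuotientMap.image_connectedComponent (fun y => by
      obtain ⟨z, rfl⟩ := hW.surjective y
      rw [← Set.image_singleton, hW.injective.preimage_image]
      exact isConnected_singleton) g'
  rw [← h2]
  exact h1.image (prL (resMap A) G).continuous

end Groth.Agent.Lib.helper5.GrpArtComp
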