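import Mathlib
import Groth.Agent.Lib.Helper5.GrpHomog1
import Groth.Agent.Lib.Helper5.GSlice16
import Groth.Agent.Lib.Helper5.CMDense
import Groth.Agent.S9808

/-!
# Group schemes locally of finite type over a field are Cohen–Macaulay (helper5; SGA3 VI_A / VI_B)

* `isField_stalk_spec_field`: the local ring of `Spec k` is a field.
* `cm_stalk_of_isCMAt`: for `f : X ⟶ Spec k`, `IsCMAt f x` gives that `O_{X,x}` is Cohen–Macaulay.
* `cm_stalk_grp` (S3029): homogeneity (`GrpHomog1.homog`) + invariance of `IsCMAt` under flat base change + density of the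
  Cohen–Macaulay locus.
-/

set_option autoImplicit false
set_option linter.style.haveILetI false
universe u
open CategoryTheory CategoryTheory.Limits MonoidalCategory CartesianMonoidalCategory MonObj GrpObj
  AlgebraicGeometry

namespace Groth.Agent.Lib.helper5.GrpCM

/-- the local ring of the spectrum of a field is a field -/
theorem isField_stalk_spec_field (k : Type u) [Field k] (y : Spec (CommRingCat.of k)) :
    IsField ((Spec (CommRingCat.of k)).presheaf.stalk y) := by
  letI : Algebra k ((Spec (CommRingCat.of k)).presheaf.stalk y) := StructureSheaf.stalkAlgebra k y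
  haveI h1 : IsLocalization.AtPrime ((Spec (CommRingCat.of k)).presheaf.stalk y) y.asIdeal :=
    StructureSheaf.IsLocalization.to_stalk k y
  have hM : y.asIdeal.primeCompl ≤ IsUnit.submonoid k := by
    intro a ha
    have h0 : y.asIdeal = ⊥ := Ideal.eq_bot_of_prime y.asIdeal
    have : a ≠ 0 := by
      intro h
      apply ha
      rw [h]
      exact Ideal.zero_mem _
    exact IsUnit.mk0 a this
  let e : k ≃ₐ[k] (Spec (CommRingCat.of k)).presheaf.stalk y :=
    IsLocalization.atUnits k y.asIdeal.primeCompl hM
  exact e.symm.toRingEquiv.toMulEquiv.isField (Field.toIsField k)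

/-- for a morphism to the spectrum of a field, Cohen–Macaulayness at a point is that of the local ring -/
theorem cm_stalk_of_isCMAt (k : Type u) [Field k] {X : Scheme.{u}}
    (f : X ⟶ Spec (CommRingCat.of k)) (x : X) (h : MoreMor.IsCMAt f x) :
    LocCoh.IsCohenMacaulayLocalRing (X.presheaf.stalk x) := by
  obtain ⟨e1⟩ := Groth.Agent.Lib.helper17.FibreStalk.nonempty_asFiber_stalk_equiv f x
  have hbot : IsLocalRing.maximalIdeal ((Spec (CommRingCat.of k)).presheaf.stalk (f x)) = ⊥ :=
    IsLocalRing.isField_iff_maximalIdeal_eq.mp (isField_stalk_spec_field k (f x))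
  have hmap : (IsLocalRing.maximalIdeal ((Spec (CommRingCat.of k)).presheaf.stalk (f x))).map
      (f.stalkMap x).hom = ⊥ := by rw [hbot, Ideal.map_bot]
  let e2 : Groth.Agent.Lib.helper17.FibreStalk.FibRing f x ≃+* X.presheaf.stalk x :=
    (Ideal.quotEquivOfEq hmap).trans (RingEquiv.quotientBot _)
  haveI := h.2
  exact Groth.Agent.S9808.cm_of_ringEquiv (e1.symm.trans e2)


open Groth.Agent.Lib.helper5.GrpHomog1

/-- S3029: the local rings of a group scheme locally of finite type over a field are Cohen–Macaulay. -/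
theorem cm_stalk_grp (k : Type u) [Field k] (G : Over (Spec (CommRingCat.of k))) [GrpObj G]
    [LocallyOfFiniteType G.hom] (x : G.left) :
    LocCoh.IsCohenMacaulayLocalRing (G.left.presheaf.stalk x) := by
  apply cm_stalk_of_isCMAt k G.hom x
  haveI : Flat G.hom := inferInstance
  have key := homog G (fun f x => MoreMor.IsCMAt f x)
    (fun H x' => Groth.Agent.Lib.helper5.GSlice.isCMAt_iff_of_isPullback H x')
  have hd := Groth.Agent.Lib.helper5.CMDense.dense_cm_in_fibre G.hom (G.hom x)
  haveI : Nonempty ↥(G.hom.fiber (G.hom x)) := ⟨G.hom.asFiber x⟩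
  obtain ⟨z, hz⟩ := hd.nonempty
  have h0 : MoreMor.IsCMAt G.hom (G.hom.fiberι (G.hom x) z) :=
    (Groth.Agent.Lib.helper5.CMDense.isCMAt_fiberι_iff G.hom (G.hom x) z).mpr
      ⟨Flat.stalkMap G.hom _, hz⟩
  have h1 := (key (G.hom.fiberι (G.hom x) z)).mp h0
  refine (key x).mpr ?_
  rwa [Subsingleton.elim (α := PrimeSpectrum k) (G.hom x) (G.hom (G.hom.fiberι (G.hom x) z))]

end Groth.Agent.Lib.helper5.GrpCM
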