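import Mathlib
import Groth.Agent.Lib.Helper28.MaxOpenSrc

/-!
# Homogeneity of base-change-invariant loci of a homomorphism of group schemes (SGA3 VI_B 2.5)
(helper5)

`u : G ⟶ H` a homomorphism of `S`-group schemes, `L ⊆ G` a set of points which is "the locus of a
pointwise property of `u` invariant under arbitrary base change" (hypothesis `TranslationInvariant`).

* `translationInvariant_of_pointwise` : such loci are translation invariant.
* `mem_iff_of_fibre_eq` : two points of `G` over the same point of `S` are simultaneously in `L`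
  (translate one to the other over a common field extension of the residue fields).
* `eq_preimage_unit` : `L` is the preimage of `ε⁻¹(L)`; `isOpen_unit_preimage`.
* `forall_fibre_mem_iff`.
-/

set_option autoImplicit false
set_option backward.isDefEq.respectTransparency false
universe u
open CategoryTheory CategoryTheory.Limits MonoidalCategory CartesianMonoidalCategory MonObj
  AlgebraicGeometry

namespace Groth.Agent.Lib.helper5.GrpHomLocus

open Groth.Agent.Lib.helper28.MaxOpenSrc

variable {S : Scheme.{u}} {G H : Over S} [GrpObj G] [GrpObj H] (u : G ⟶ H) [IsMonHom u]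

/-- `L` is stable under all "translations": for `T` over `S` and automorphisms `σ` of `G_T`, `τ` of
`H_T` compatible with `u_T`, a point of `G_T` maps into `L` iff its image under `σ` does. -/
def TranslationInvariant (L : Set G.left) : Prop :=
  ∀ (T : Over S) (σ : T ⊗ G ⟶ T ⊗ G) (τ : T ⊗ H ⟶ T ⊗ H), IsIso σ → IsIso τ →
    σ ≫ (T ◁ u) = (T ◁ u) ≫ τ →
    ∀ w : (T ⊗ G).left, (snd T G).left w ∈ L ↔ (snd T G).left (σ.left w) ∈ L

omit [GrpObj G] [GrpObj H] [IsMonHom u] in
/-- the locus of a pointwise property invariant under arbitrary base change is translation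
invariant. -/
theorem translationInvariant_of_pointwise (L : Set G.left)
    (At : ∀ {U V : Scheme.{u}}, (U ⟶ V) → U → Prop)
    (hL : ∀ x, x ∈ L ↔ At u.left x)
    (hAt : ∀ {U' V' : Scheme.{u}} (p : U' ⟶ G.left) (h' : U' ⟶ V') (k : V' ⟶ H.left),
      IsPullback p h' u.left k → ∀ u', At h' u' ↔ At u.left (p u')) :
    TranslationInvariant u L := by
  intro T σ τ hσ hτ hcomm w
  haveI := hσ; haveI := hτ
  haveI : IsIso σ.left := inferInstanceAs (IsIso ((Over.forget _).map σ))
  haveI : IsIso τ.left := inferInstanceAs (IsIso ((Over.forget _).map τ))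
  have sq1 := isPullback_snd_whiskerLeft T u
  have hcomml : σ.left ≫ (T ◁ u).left = (T ◁ u).left ≫ τ.left := by
    rw [← Over.comp_left, ← Over.comp_left, hcomm]
  have sq2 : IsPullback σ.left (T ◁ u).left (T ◁ u).left τ.left :=
    IsPullback.of_horiz_isIso ⟨hcomml⟩
  have sq3 := sq2.paste_horiz sq1
  rw [hL, hL, ← hAt _ _ _ sq1 w, hAt _ _ _ sq3 w, Scheme.Hom.comp_apply]

variable {u}

/-- two points of `G` over the same point of `S` are simultaneously in `L`. -/
theorem mem_iff_of_fibre_eq {L : Set G.left} (hL : TranslationInvariant u L) (x₀ x : G.left)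
    (hx : G.hom x₀ = G.hom x) : x₀ ∈ L ↔ x ∈ L := by
  set a : Spec (G.left.residueField x₀) ⟶ S := G.left.fromSpecResidueField x₀ ≫ G.hom with ha
  set b : Spec (G.left.residueField x) ⟶ S := G.left.fromSpecResidueField x ≫ G.hom with hb
  set T : Over S := Over.mk (pullback.fst a b ≫ a) with hT
  let a₀ : T ⟶ G := Over.homMk (pullback.fst a b ≫ G.left.fromSpecResidueField x₀)
    (by
      change (pullback.fst a b ≫ G.left.fromSpecResidueField x₀) ≫ G.hom = pullback.fst a b ≫ a
      rw [Category.assoc])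
  let a₁ : T ⟶ G := Over.homMk (pullback.snd a b ≫ G.left.fromSpecResidueField x)
    (by
      change (pullback.snd a b ≫ G.left.fromSpecResidueField x) ≫ G.hom = pullback.fst a b ≫ a
      rw [Category.assoc, pullback.condition])
  -- a point of `T`
  obtain ⟨p₀⟩ : Nonempty (Spec (G.left.residueField x₀)) := inferInstance
  obtain ⟨p₁⟩ : Nonempty (Spec (G.left.residueField x)) := inferInstance
  have hp₀ : G.left.fromSpecResidueField x₀ p₀ = x₀ := Scheme.fromSpecResidueField_apply _ _
  have hp₁ : G.left.fromSpecResidueField x p₁ = x := Scheme.fromSpecResidueField_apply _ _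
  have hab : a p₀ = b p₁ := by
    rw [ha, hb, Scheme.Hom.comp_apply, Scheme.Hom.comp_apply, hp₀, hp₁, hx]
  obtain ⟨t, ht₀, ht₁⟩ := Scheme.Pullback.exists_preimage_pullback (f := a) (g := b) p₀ p₁ hab
  have ha₀t : a₀.left t = x₀ := by
    change (pullback.fst a b ≫ G.left.fromSpecResidueField x₀) t = x₀
    rw [Scheme.Hom.comp_apply, ht₀, hp₀]
  have ha₁t : a₁.left t = x := by
    change (pullback.snd a b ≫ G.left.fromSpecResidueField x) t = x
    rw [Scheme.Hom.comp_apply, ht₁, hp₁]
  -- the translation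
  set c : T ⟶ G := a₁ * a₀⁻¹ with hc
  have hσ : IsIso (ltr c) := ⟨⟨ltr c⁻¹, ltr_comp_inv c, ltr_inv_comp c⟩⟩
  have hτ : IsIso (ltr (c ≫ u) : T ⊗ H ⟶ T ⊗ H) :=
    ⟨⟨ltr (c ≫ u)⁻¹, ltr_comp_inv _, ltr_inv_comp _⟩⟩
  have key := hL T (ltr c) (ltr (c ≫ u)) hσ hτ (ltr_whiskerLeft c u) ((lift (𝟙 T) a₀).left t)
  have e0 : (snd T G).left ((lift (𝟙 T) a₀).left t) = x₀ := by
    have : (snd T G).left ((lift (𝟙 T) a₀).left t) = a₀.left t :=
      congrArg (fun m : T ⟶ G => m.left t) (lift_snd (𝟙 T) a₀)
    rw [this, ha₀t]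
  have e1 : lift (𝟙 T) a₀ ≫ ltr c = lift (𝟙 T) a₁ := by
    apply CartesianMonoidalCategory.hom_ext
    · rw [Category.assoc, ltr_fst, lift_fst, lift_fst]
    · rw [Category.assoc, ltr_snd, MonObj.comp_mul, lift_fst_assoc, Category.id_comp, lift_snd,
        lift_snd, hc, inv_mul_cancel_right]
  have e2 : (snd T G).left ((ltr c).left ((lift (𝟙 T) a₀).left t)) = x := by
    have h1 : (ltr c).left ((lift (𝟙 T) a₀).left t) = (lift (𝟙 T) a₁).left t :=
      congrArg (fun m : T ⟶ T ⊗ G => m.left t) e1
    have h2 : (snd T G).left ((lift (𝟙 T) a₁).left t) = a₁.left t :=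
      congrArg (fun m : T ⟶ G => m.left t) (lift_snd (𝟙 T) a₁)
    rw [h1, h2, ha₁t]
  rw [e0, e2] at key
  exact key

/-- the unit section is a section. -/
theorem hom_unit_apply (s : S) : G.hom (η[G].left s) = s := by
  have h1 : η[G].left ≫ G.hom = (𝟙_ (Over S)).hom := Over.w η[G]
  have h2 : (𝟙_ (Over S)).hom = 𝟙 S := rfl
  rw [← Scheme.Hom.comp_apply, h1, h2]
  rfl

theorem mem_iff_unit_mem {L : Set G.left} (hL : TranslationInvariant u L) (x : G.left) :
    x ∈ L ↔ η[G].left (G.hom x) ∈ L :=
  mem_iff_of_fibre_eq hL x _ (hom_unit_apply (G.hom x)).symm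

theorem eq_preimage_unit {L : Set G.left} (hL : TranslationInvariant u L) :
    L = G.hom ⁻¹' {s : S | η[G].left s ∈ L} := by
  ext x
  exact mem_iff_unit_mem hL x

theorem isOpen_unit_preimage {L : Set G.left} (hLo : IsOpen L) :
    IsOpen {s : S | η[G].left s ∈ L} :=
  hLo.preimage η[G].left.continuous

theorem forall_fibre_mem_iff {L : Set G.left} (hL : TranslationInvariant u L) (s : S) :
    (∀ x : G.left, G.hom x = s → x ∈ L) ↔ η[G].left s ∈ L := by
  constructor
  · intro h
    exact h _ (hom_unit_apply s)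
  · intro h x hx
    rw [mem_iff_unit_mem hL x, hx]
    exact h

end Groth.Agent.Lib.helper5.GrpHomLocus
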