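import Mathlib
import Groth.Prelude.Def_AlgGrp
import Groth.Agent.Lib.Helper28.MaxOpenSrc
import Groth.Agent.Lib.Helper17.FlatStalkBC
import Groth.Agent.Lib.Helper17.CMBaseChange2

/-!
# Flatness of orbit maps of flat group schemes is homogeneous (SGA3 VI_B 1.?) (helper5)

* `smul g x` : the action on `T`-points; `smul_one`, `smul_mul`.
* `ltrX a t` : translation of `T ⊗ X` by a `T`-point `t` of `G`; it is an isomorphism.
* `ltr_whiskerLeft_orbitMap` : the orbit map is equivariant.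
* `flat_orbitMap_at_of_flat_at` : if `G` is flat over `S` and the orbit map is flat at a point `g₀`
  it is flat at every point `g` with the same image in `S`.
-/

set_option autoImplicit false
set_option backward.isDefEq.respectTransparency false
universe u
open CategoryTheory CategoryTheory.Limits MonoidalCategory CartesianMonoidalCategory MonObj
  AlgebraicGeometry

namespace Groth.Agent.Lib.helper5.GrpHomLocus

open Groth.Agent.Lib.helper28.MaxOpenSrc

section Abstract

variable {C : Type*} [Category C] [CartesianMonoidalCategory C] {G X : C} [GrpObj G]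

/-- an action of a group object (unbundled copy of `AlgGrp.Action` in any cartesian category). -/
structure Act (G X : C) [GrpObj G] where
  act : G ⊗ X ⟶ X
  one_act : (η[G] ▷ X) ≫ act = (λ_ X).hom
  mul_act : (μ[G] ▷ X) ≫ act = (α_ G G X).hom ≫ (G ◁ act) ≫ act

variable (a : Act G X)

/-- the action on `T`-points. -/
def smul {T : C} (g : T ⟶ G) (x : T ⟶ X) : T ⟶ X := lift g x ≫ a.act

theorem comp_smul {T T' : C} (p : T' ⟶ T) (g : T ⟶ G) (x : T ⟶ X) :
    p ≫ smul a g x = smul a (p ≫ g) (p ≫ x) := by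
  unfold smul
  rw [← Category.assoc, comp_lift]

theorem smul_one {T : C} (x : T ⟶ X) : smul a (1 : T ⟶ G) x = x := by
  unfold smul
  have h : lift (1 : T ⟶ G) x = lift (toUnit T) x ≫ (η[G] ▷ X) := by
    rw [lift_whiskerRight]; rfl
  rw [h, Category.assoc, a.one_act, lift_leftUnitor_hom]

theorem smul_mul {T : C} (g h : T ⟶ G) (x : T ⟶ X) :
    smul a (g * h) x = smul a g (smul a h x) := by
  unfold smul
  have h1 : lift (g * h) x = lift (lift g h) x ≫ (μ[G] ▷ X) := by
    rw [lift_whiskerRight]; rfl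
  rw [h1, Category.assoc, a.mul_act, lift_lift_associator_hom_assoc, lift_whiskerLeft_assoc]

/-- translation of `T ⊗ X` by a `T`-point of `G`. -/
def ltrX {T : C} (t : T ⟶ G) : T ⊗ X ⟶ T ⊗ X :=
  lift (fst T X) (smul a (fst T X ≫ t) (snd T X))

@[reassoc] theorem ltrX_fst {T : C} (t : T ⟶ G) : ltrX a t ≫ fst T X = fst T X := lift_fst _ _
@[reassoc] theorem ltrX_snd {T : C} (t : T ⟶ G) :
    ltrX a t ≫ snd T X = smul a (fst T X ≫ t) (snd T X) := lift_snd _ _

theorem ltrX_comp {T : C} (s t : T ⟶ G) : ltrX a s ≫ ltrX a t = ltrX a (t * s) := by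
  apply CartesianMonoidalCategory.hom_ext
  · rw [Category.assoc, ltrX_fst, ltrX_fst, ltrX_fst]
  · rw [Category.assoc, ltrX_snd, comp_smul, ltrX_fst_assoc, ltrX_snd, ← smul_mul, ltrX_snd,
      MonObj.comp_mul]

theorem ltrX_one {T : C} : ltrX a (1 : T ⟶ G) = 𝟙 (T ⊗ X) := by
  apply CartesianMonoidalCategory.hom_ext
  · rw [ltrX_fst, Category.id_comp]
  · rw [ltrX_snd, MonObj.comp_one, smul_one, Category.id_comp]

theorem ltrX_inv_comp {T : C} (t : T ⟶ G) : ltrX a t⁻¹ ≫ ltrX a t = 𝟙 _ := by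
  rw [ltrX_comp, mul_inv_cancel, ltrX_one]

theorem ltrX_comp_inv {T : C} (t : T ⟶ G) : ltrX a t ≫ ltrX a t⁻¹ = 𝟙 _ := by
  rw [ltrX_comp, inv_mul_cancel, ltrX_one]

/-- the orbit map of a point. -/
def orbit (o : 𝟙_ C ⟶ X) : G ⟶ X := lift (𝟙 G) (toUnit G ≫ o) ≫ a.act

theorem comp_orbit {T : C} (g : T ⟶ G) (o : 𝟙_ C ⟶ X) :
    g ≫ orbit a o = smul a g (toUnit T ≫ o) := by
  unfold orbit smul
  rw [← Category.assoc, comp_lift, Category.comp_id, ← Category.assoc]
  congr 3
  exact toUnit_unique _ _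

/-- the orbit map is equivariant. -/
theorem ltr_whiskerLeft_orbit {T : C} (t : T ⟶ G) (o : 𝟙_ C ⟶ X) :
    ltr t ≫ (T ◁ orbit a o) = (T ◁ orbit a o) ≫ ltrX a t := by
  apply CartesianMonoidalCategory.hom_ext
  · rw [Category.assoc, whiskerLeft_fst, ltr_fst, Category.assoc, ltrX_fst, whiskerLeft_fst]
  · rw [Category.assoc, whiskerLeft_snd, ltr_snd_assoc, comp_orbit, smul_mul, Category.assoc,
      ltrX_snd, comp_smul, whiskerLeft_fst_assoc, whiskerLeft_snd, comp_orbit]

/-- the shearing map `(g, h) ↦ (h, g h)` is an isomorphism. -/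
def shear : G ⊗ G ⟶ G ⊗ G := lift (snd G G) (fst G G * snd G G)

def shearInv : G ⊗ G ⟶ G ⊗ G := lift (snd G G * (fst G G)⁻¹) (fst G G)

theorem shearInv_shear : (shearInv : G ⊗ G ⟶ G ⊗ G) ≫ shear = 𝟙 _ := by
  unfold shear shearInv
  apply CartesianMonoidalCategory.hom_ext
  · rw [Category.assoc, lift_fst, lift_snd, Category.id_comp]
  · rw [Category.assoc, lift_snd, MonObj.comp_mul, lift_fst, lift_snd, inv_mul_cancel_right,
      Category.id_comp]

end Abstract

variable {S : Scheme.{u}} {G X : Over S} [GrpObj G]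

/-- the abstract action associated to an `AlgGrp.Action`. -/
def toAct (a : AlgGrp.Action G X) : Act G X := ⟨a.act, a.one_act, a.mul_act⟩

theorem orbit_toAct (a : AlgGrp.Action G X) (o : 𝟙_ (Over S) ⟶ X) :
    orbit (toAct a) o = a.orbitMap o := rfl

/-- transfer of flatness at a point along the flat base change `T ⊗ - ⟶ -`. -/
theorem flat_whiskerLeft_iff (T : Over S) [Flat T.hom] {Y Z : Over S} (φ : Y ⟶ Z)
    (w : (T ⊗ Y).left) :
    ((T ◁ φ).left.stalkMap w).hom.Flat ↔ (φ.left.stalkMap ((snd T Y).left w)).hom.Flat := by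
  have sq1 := isPullback_snd_whiskerLeft T φ
  haveI : Flat (snd T Y).left := by rw [Over.snd_left]; infer_instance
  haveI : Flat (snd T Z).left := by rw [Over.snd_left]; infer_instance
  constructor
  · intro h
    exact Groth.Agent.Lib.helper17.CMBaseChange.flat_stalkMap_descent sq1 w
      (Flat.stalkMap _ _) (Flat.stalkMap _ _) h
  · intro h
    exact Groth.Agent.Lib.helper17.FlatStalkBC.flat_stalkMap_of_isPullback sq1.flip w h

/-- flatness at a point is invariant under compatible automorphisms. -/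
theorem flat_stalkMap_of_iso_comm {A B : Scheme.{u}} (ψ : A ⟶ B) (σ : A ⟶ A) (τ : B ⟶ B)
    [IsIso σ] [IsIso τ] (hc : σ ≫ ψ = ψ ≫ τ) (w : A)
    (h : (ψ.stalkMap (σ w)).hom.Flat) : (ψ.stalkMap w).hom.Flat := by
  have sq2 : IsPullback σ ψ ψ τ := IsPullback.of_horiz_isIso ⟨hc⟩
  exact Groth.Agent.Lib.helper17.FlatStalkBC.flat_stalkMap_of_isPullback sq2.flip w h

/-- homogeneity of the flat locus of an orbit map of a flat group scheme. -/
theorem flat_orbitMap_at_of_flat_at [Flat G.hom] (a : AlgGrp.Action G X)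
    (o : 𝟙_ (Over S) ⟶ X) (g₀ g : G.left) (hfib : G.hom g₀ = G.hom g)
    (h : ((a.orbitMap o).left.stalkMap g₀).hom.Flat) :
    ((a.orbitMap o).left.stalkMap g).hom.Flat := by
  set φ := a.orbitMap o with hφ
  -- a point of `G ⊗ G` with `snd = g₀` and product `g`
  obtain ⟨w', hw'1, hw'2⟩ := Scheme.Pullback.exists_preimage_pullback
    (f := G.hom) (g := G.hom) g₀ g hfib
  have hw'1' : (fst G G).left w' = g₀ := by rw [Over.fst_left]; exact hw'1
  have hw'2' : (snd G G).left w' = g := by rw [Over.snd_left]; exact hw'2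
  set w : (G ⊗ G).left := (shearInv : G ⊗ G ⟶ G ⊗ G).left w' with hw
  have hsw : (shear : G ⊗ G ⟶ G ⊗ G).left w = w' := by
    have := congrArg (fun m : G ⊗ G ⟶ G ⊗ G => m.left w') (shearInv_shear (G := G))
    exact this
  have h1 : (snd G G).left w = g₀ := by
    have e : (shear : G ⊗ G ⟶ G ⊗ G) ≫ fst G G = snd G G := lift_fst _ _
    have := congrArg (fun m : G ⊗ G ⟶ G => m.left w) e
    rw [← hw'1', ← hsw]
    exact this.symm
  have h2 : ((fst G G ≫ 𝟙 G) * snd G G).left w = g := by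
    have e : (shear : G ⊗ G ⟶ G ⊗ G) ≫ snd G G = (fst G G ≫ 𝟙 G) * snd G G := by
      rw [Category.comp_id]; exact lift_snd _ _
    have := congrArg (fun m : G ⊗ G ⟶ G => m.left w) e
    rw [← hw'2', ← hsw]
    exact this.symm
  -- the translation by the universal point
  set σ : G ⊗ G ⟶ G ⊗ G := ltr (𝟙 G) with hσ
  set τ : G ⊗ X ⟶ G ⊗ X := ltrX (toAct a) (𝟙 G) with hτ
  set σi : G ⊗ G ⟶ G ⊗ G := ltr (𝟙 G)⁻¹ with hσi
  set τi : G ⊗ X ⟶ G ⊗ X := ltrX (toAct a) (𝟙 G)⁻¹ with hτi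
  haveI : IsIso σi := ⟨⟨σ, ltr_inv_comp _, ltr_comp_inv _⟩⟩
  haveI : IsIso τi := ⟨⟨τ, ltrX_inv_comp _ _, ltrX_comp_inv _ _⟩⟩
  haveI : IsIso σi.left := inferInstanceAs (IsIso ((Over.forget _).map σi))
  haveI : IsIso τi.left := inferInstanceAs (IsIso ((Over.forget _).map τi))
  have hcomm : σi ≫ (G ◁ φ) = (G ◁ φ) ≫ τi := by
    rw [hφ, ← orbit_toAct]
    exact ltr_whiskerLeft_orbit (toAct a) (𝟙 G)⁻¹ o
  have hcomml : σi.left ≫ (G ◁ φ).left = (G ◁ φ).left ≫ τi.left := by
    rw [← Over.comp_left, ← Over.comp_left, hcomm]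
  -- step 1: `G ◁ φ` is flat at `w`
  have s1 : ((G ◁ φ).left.stalkMap w).hom.Flat := by
    rw [flat_whiskerLeft_iff, h1]; exact h
  -- step 2: `G ◁ φ` is flat at `σ w`
  have hσσi : σi.left (σ.left w) = w :=
    congrArg (fun m : G ⊗ G ⟶ G ⊗ G => m.left w) (ltr_comp_inv (𝟙 G))
  have s2 : ((G ◁ φ).left.stalkMap (σ.left w)).hom.Flat := by
    refine flat_stalkMap_of_iso_comm (G ◁ φ).left σi.left τi.left hcomml (σ.left w) ?_
    rw [hσσi]; exact s1
  -- step 3: descend
  have s3 := (flat_whiskerLeft_iff G φ (σ.left w)).mp s2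
  have h3 : (snd G G).left (σ.left w) = g := by
    have e : σ ≫ snd G G = (fst G G ≫ 𝟙 G) * snd G G := ltr_snd (𝟙 G)
    have := congrArg (fun m : G ⊗ G ⟶ G => m.left w) e
    rw [← h2]
    exact this
  rw [h3] at s3
  exact s3

end Groth.Agent.Lib.helper5.GrpHomLocus
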