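import Groth.Agent.Lib.Helper5.GrpHomLocus2
import Groth.Prelude.Def_AlgGrp

/-!
# Unramified / quasi-finite homomorphisms and their kernels (SGA3 VI_B 2.6, 2.7) (helper5)

* `formallyUnramified_fibre_iff`, `locallyQuasiFinite_fibre_iff` : the fibre `u_s` has the property
  iff the unit point over `s` lies in the corresponding locus of `u`.
* `isPullback_kernel_left` : the kernel square in schemes.
* `isPullback_unit_diag`, `isPullback_diag_unit` : the unit section is a base change of the
  diagonal and conversely (for a group object in a cartesian monoidal category).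
* `unramified_tfae`, `quasiFinite_tfae`.
-/

set_option autoImplicit false
set_option backward.isDefEq.respectTransparency false
universe u
open CategoryTheory CategoryTheory.Limits MonoidalCategory CartesianMonoidalCategory MonObj
  AlgebraicGeometry

namespace Groth.Agent.Lib.helper5.GrpHomLocus

open Groth.Agent.Lib.helper5.UnramLocus Groth.Agent.Lib.helper5.ConsMono
  Groth.Agent.Lib.helper5.ConsSep

section Abstract

variable {C : Type*} [Category C] [CartesianMonoidalCategory C] {K : C} [GrpObj K]

/-- the unit section is the base change of the diagonal along `k ↦ (e, k)`. -/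
theorem isPullback_unit_diag :
    IsPullback η[K] η[K] (lift (𝟙 K) (𝟙 K)) (lift (toUnit K ≫ η[K]) (𝟙 K)) := by
  refine ⟨⟨?_⟩, ⟨PullbackCone.IsLimit.mk _ (fun c => c.fst ≫ toUnit K) ?_ ?_ ?_⟩⟩
  · apply CartesianMonoidalCategory.hom_ext
    · rw [Category.assoc, lift_fst, Category.assoc, lift_fst, Category.comp_id, ← Category.assoc]
      have : η[K] ≫ toUnit K = 𝟙 _ := toUnit_unique _ _
      rw [this, Category.id_comp]
    · rw [Category.assoc, lift_snd, Category.assoc, lift_snd]
  · intro c
    have h := c.condition
    have h1 : c.fst = c.snd := by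
      have := congrArg (fun m => m ≫ snd K K) h
      simpa using this
    have h2 : c.fst = c.snd ≫ toUnit K ≫ η[K] := by
      have := congrArg (fun m => m ≫ fst K K) h
      simpa using this
    rw [← h1] at h2
    rw [Category.assoc]
    exact h2.symm
  · intro c
    have h := c.condition
    have h1 : c.fst = c.snd := by
      have := congrArg (fun m => m ≫ snd K K) h
      simpa using this
    have h2 : c.fst = c.snd ≫ toUnit K ≫ η[K] := by
      have := congrArg (fun m => m ≫ fst K K) h
      simpa using this
    rw [← h1] at h2
    rw [Category.assoc, ← h2]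
    exact h1
  · intro c m hm1 hm2
    have : m = (m ≫ η[K]) ≫ toUnit K := by
      rw [Category.assoc]
      have : η[K] ≫ toUnit K = 𝟙 _ := toUnit_unique _ _
      rw [this, Category.comp_id]
    rw [this, hm1]

/-- the diagonal is the base change of the unit section along `(g, h) ↦ g⁻¹ h`. -/
theorem isPullback_diag_unit :
    IsPullback (lift (𝟙 K) (𝟙 K)) (toUnit K) ((fst K K)⁻¹ * snd K K) η[K] := by
  refine ⟨⟨?_⟩, ⟨PullbackCone.IsLimit.mk _ (fun c => c.fst ≫ fst K K) ?_ ?_ ?_⟩⟩
  · rw [MonObj.comp_mul, GrpObj.comp_inv, lift_fst, lift_snd]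
    have : ((𝟙 K)⁻¹ * 𝟙 K : K ⟶ K) = 1 := inv_mul_cancel _
    rw [this, Hom.one_def]
  · intro c
    have h := c.condition
    have h1 : (c.fst ≫ fst K K)⁻¹ * (c.fst ≫ snd K K) = 1 := by
      have e : c.fst ≫ ((fst K K)⁻¹ * snd K K) = (c.fst ≫ fst K K)⁻¹ * (c.fst ≫ snd K K) := by
        rw [MonObj.comp_mul, GrpObj.comp_inv]
      rw [← e, h, Hom.one_def]
      congr 1
      exact toUnit_unique _ _
    have h2 : c.fst ≫ fst K K = c.fst ≫ snd K K := by
      have := inv_mul_eq_one.mp h1
      exact this
    apply CartesianMonoidalCategory.hom_ext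
    · rw [Category.assoc, lift_fst, Category.comp_id]
    · rw [Category.assoc, lift_snd, Category.comp_id, h2]
  · intro c
    exact toUnit_unique _ _
  · intro c m hm1 _
    rw [← hm1, Category.assoc, lift_fst, Category.comp_id]

end Abstract

variable {S : Scheme.{u}} {G H : Over S} [GrpObj G] [GrpObj H] (u : G ⟶ H) [IsMonHom u]

theorem formallyUnramified_fibre_iff [LocallyOfFiniteType u.left] (s : S) :
    FormallyUnramified ((Over.pullback (S.fromSpecResidueField s)).map u).left ↔
      η[G].left s ∈ unrLocus u.left := by
  have hL := translationInvariant_unrLocus u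
  have sq := isPullback_pullback_map (S.fromSpecResidueField s) u
  haveI : LocallyOfFiniteType ((Over.pullback (S.fromSpecResidueField s)).map u).left :=
    MorphismProperty.of_isPullback (P := @LocallyOfFiniteType) sq inferInstance
  rw [formallyUnramified_iff_forall_unrAt]
  refine Iff.trans ?_ (forall_fibre_mem_iff hL s)
  constructor
  · intro h x hx
    have hxr : x ∈ Set.range (pullback.fst G.hom (S.fromSpecResidueField s)) := by
      rw [range_pullback_fst_fromSpecResidueField]; exact hx
    obtain ⟨x', rfl⟩ := hxr
    exact (unrAt_iff_of_isPullback sq x').mp (h x')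
  · intro h x'
    refine (unrAt_iff_of_isPullback sq x').mpr (h _ ?_)
    have : pullback.fst G.hom (S.fromSpecResidueField s) x' ∈ G.hom ⁻¹' {s} := by
      rw [← range_pullback_fst_fromSpecResidueField]; exact ⟨x', rfl⟩
    exact this

theorem locallyQuasiFinite_fibre_iff [LocallyOfFiniteType u.left] (s : S) :
    LocallyQuasiFinite ((Over.pullback (S.fromSpecResidueField s)).map u).left ↔
      u.left.QuasiFiniteAt (η[G].left s) := by
  have hL := translationInvariant_quasiFiniteLocus u
  have sq := isPullback_pullback_map (S.fromSpecResidueField s) u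
  haveI : LocallyOfFiniteType ((Over.pullback (S.fromSpecResidueField s)).map u).left :=
    MorphismProperty.of_isPullback (P := @LocallyOfFiniteType) sq inferInstance
  rw [← Scheme.Hom.quasiFiniteLocus_eq_top_iff]
  refine Iff.trans ?_ (forall_fibre_mem_iff hL s)
  constructor
  · intro h x hx
    have hxr : x ∈ Set.range (pullback.fst G.hom (S.fromSpecResidueField s)) := by
      rw [range_pullback_fst_fromSpecResidueField]; exact hx
    obtain ⟨x', rfl⟩ := hxr
    have hx' : x' ∈ (((Over.pullback (S.fromSpecResidueField s)).map u).left).quasiFiniteLocus := by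
      rw [h]; trivial
    exact (quasiFiniteAt_iff_of_isPullback sq x').mp hx'
  · intro h
    rw [eq_top_iff]
    intro x' _
    refine (quasiFiniteAt_iff_of_isPullback sq x').mpr (h _ ?_)
    have : pullback.fst G.hom (S.fromSpecResidueField s) x' ∈ G.hom ⁻¹' {s} := by
      rw [← range_pullback_fst_fromSpecResidueField]; exact ⟨x', rfl⟩
    exact this

theorem formallyUnramified_iff_unit_mem [LocallyOfFiniteType u.left] :
    FormallyUnramified u.left ↔ ∀ s : S, η[G].left s ∈ unrLocus u.left := by
  have hL := translationInvariant_unrLocus u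
  rw [formallyUnramified_iff_forall_unrAt]
  constructor
  · intro h s
    exact h _
  · intro h x
    exact (mem_iff_unit_mem hL x).mpr (h _)

theorem locallyQuasiFinite_iff_unit_mem [LocallyOfFiniteType u.left] :
    LocallyQuasiFinite u.left ↔ ∀ s : S, u.left.QuasiFiniteAt (η[G].left s) := by
  have hL := translationInvariant_quasiFiniteLocus u
  rw [← Scheme.Hom.quasiFiniteLocus_eq_top_iff]
  constructor
  · intro h s
    have : η[G].left s ∈ u.left.quasiFiniteLocus := by rw [h]; trivial
    exact this
  · intro h
    rw [eq_top_iff]
    intro x _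
    exact (mem_iff_unit_mem hL x).mpr (h _)

variable {K : Over S} [GrpObj K] (i : K ⟶ G) [IsMonHom i]

omit [GrpObj G] [IsMonHom u] [GrpObj K] [IsMonHom i] in
theorem isPullback_kernel_left (hK : AlgGrp.IsKernel i u) :
    IsPullback i.left K.hom u.left η[H].left := by
  have h := hK.map (Over.forget S)
  exact h

theorem unit_comp_left_apply (s : S) : i.left (η[K].left s) = η[G].left s := by
  have h : η[K] ≫ i = η[G] := IsMonHom.one_hom i
  have := congrArg (fun m : 𝟙_ (Over S) ⟶ G => m.left s) h
  exact this

/-- SGA3 VI_B 2.7, unramified. -/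
theorem unramified_tfae [LocallyOfFiniteType u.left] (hK : AlgGrp.IsKernel i u) :
    (FormallyUnramified u.left ↔ ∀ s : S, FormallyUnramified
      ((Over.pullback (S.fromSpecResidueField s)).map u).left) ∧
    (FormallyUnramified u.left ↔ FormallyUnramified K.hom) ∧
    (FormallyUnramified u.left ↔ IsOpenImmersion η[K].left) := by
  have sqK := isPullback_kernel_left u i hK
  haveI : LocallyOfFiniteType K.hom :=
    MorphismProperty.of_isPullback (P := @LocallyOfFiniteType) sqK inferInstance
  have hb : FormallyUnramified u.left ↔ FormallyUnramified K.hom := by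
    constructor
    · intro h
      exact MorphismProperty.of_isPullback (P := @FormallyUnramified) sqK h
    · intro h
      rw [formallyUnramified_iff_unit_mem]
      intro s
      rw [← unit_comp_left_apply i s]
      exact (unrAt_iff_of_isPullback sqK (η[K].left s)).mp
        ((formallyUnramified_iff_forall_unrAt K.hom).mp h _)
  refine ⟨?_, hb, ?_⟩
  · rw [formallyUnramified_iff_unit_mem]
    exact forall_congr' fun s => (formallyUnramified_fibre_iff u s).symm
  · rw [hb]
    have sq1 := (isPullback_unit_diag (K := K)).map (Over.forget S)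
    have sq2 := (isPullback_diag_unit (K := K)).map (Over.forget S)
    have hdiag : ((Over.forget S).map (lift (𝟙 K) (𝟙 K))) = pullback.diagonal K.hom := by
      apply pullback.hom_ext
      · have : (lift (𝟙 K) (𝟙 K) ≫ fst K K).left = (𝟙 K : K ⟶ K).left := by rw [lift_fst]
        simpa using this
      · have : (lift (𝟙 K) (𝟙 K) ≫ snd K K).left = (𝟙 K : K ⟶ K).left := by rw [lift_snd]
        simpa using this
    constructor
    · intro h
      haveI : IsOpenImmersion (pullback.diagonal K.hom) := inferInstance
      have h3 : IsOpenImmersion ((Over.forget S).map (lift (𝟙 K) (𝟙 K))) := by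
        rw [hdiag]; infer_instance
      exact MorphismProperty.of_isPullback (P := @IsOpenImmersion) sq1 h3
    · intro h
      have h3 : IsOpenImmersion ((Over.forget S).map (lift (𝟙 K) (𝟙 K))) :=
        MorphismProperty.of_isPullback (P := @IsOpenImmersion) sq2.flip h
      rw [hdiag] at h3
      haveI := h3
      infer_instance

/-- SGA3 VI_B 2.6, quasi-finite. -/
theorem quasiFinite_tfae [LocallyOfFiniteType u.left] (hK : AlgGrp.IsKernel i u) :
    (LocallyQuasiFinite u.left ↔ ∀ s : S, LocallyQuasiFinite
      ((Over.pullback (S.fromSpecResidueField s)).map u).left) ∧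
    (LocallyQuasiFinite u.left ↔ LocallyQuasiFinite K.hom) ∧
    (LocallyQuasiFinite u.left ↔ ∀ s : S, DiscreteTopology ↥(K.hom.base ⁻¹' {s})) := by
  have sqK := isPullback_kernel_left u i hK
  haveI : LocallyOfFiniteType K.hom :=
    MorphismProperty.of_isPullback (P := @LocallyOfFiniteType) sqK inferInstance
  have hb : LocallyQuasiFinite u.left ↔ LocallyQuasiFinite K.hom := by
    constructor
    · intro h
      exact MorphismProperty.of_isPullback (P := @LocallyQuasiFinite) sqK h
    · intro h
      rw [locallyQuasiFinite_iff_unit_mem]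
      intro s
      rw [← unit_comp_left_apply i s]
      exact (quasiFiniteAt_iff_of_isPullback sqK (η[K].left s)).mp (K.hom.quasiFiniteAt _)
  refine ⟨?_, hb, ?_⟩
  · rw [locallyQuasiFinite_iff_unit_mem]
    exact forall_congr' fun s => (locallyQuasiFinite_fibre_iff u s).symm
  · rw [hb, locallyQuasiFinite_iff_isDiscrete_preimage_singleton]
    exact forall_congr' fun s => isDiscrete_iff_discreteTopology

end Groth.Agent.Lib.helper5.GrpHomLocus
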