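import Groth.Agent.Lib.Helper5.GrpHomLocus3
import Groth.Agent.Lib.Helper5.GrpHomLocus2
import Groth.Agent.Lib.Helper5.FibCrit12

/-!
# Flat locus of a homomorphism of group schemes (SGA3 VI_B 2.5 (ii)) (helper5)

`u : G ⟶ H`, `G` flat and locally of finite presentation over `S`, `H` locally of finite type.

* `flat_whiskerLeft_iff'` : flatness of `u` at a point can be tested after any base change `T ⟶ S`.
* `translationInvariant_flatLocus`
* `flat_main` : statement of S5312.
-/

set_option autoImplicit false
set_option backward.isDefEq.respectTransparency false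
universe u
open CategoryTheory CategoryTheory.Limits MonoidalCategory CartesianMonoidalCategory MonObj
  AlgebraicGeometry

namespace Groth.Agent.Lib.helper5.GrpHomLocus

open Groth.Agent.Lib.helper28.MaxOpenSrc Groth.Agent.Lib.helper5.FibCrit

variable {S : Scheme.{u}} {G H : Over S} (u : G ⟶ H)

theorem lfp_comp_hom [LocallyOfFinitePresentation G.hom] :
    LocallyOfFinitePresentation (u.left ≫ H.hom) := by
  rw [Over.w u]; infer_instance

theorem flat_comp_hom [Flat G.hom] (x : G.left) : ((u.left ≫ H.hom).stalkMap x).hom.Flat := by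
  rw [flat_stalkMap_congr (Over.w u)]
  exact Flat.stalkMap G.hom x

theorem isPullback_snd_fst (T : Over S) (Y : Over S) :
    IsPullback (snd T Y).left (fst T Y).left Y.hom T.hom := by
  have hr : IsPullback (fst T Y).left (snd T Y).left T.hom Y.hom := by
    rw [Over.fst_left, Over.snd_left]
    exact IsPullback.of_hasPullback _ _
  exact hr.flip

/-- flatness of `u` at a point can be tested after an arbitrary base change `T ⟶ S`. -/
theorem flat_whiskerLeft_iff' [Flat G.hom] [LocallyOfFinitePresentation G.hom]
    [LocallyOfFiniteType H.hom] (T : Over S) (w : (T ⊗ G).left) :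
    ((T ◁ u).left.stalkMap w).hom.Flat ↔ (u.left.stalkMap ((snd T G).left w)).hom.Flat := by
  haveI := lfp_comp_hom u
  exact flat_stalkMap_iff_of_isPullback_base u.left H.hom (T ◁ u).left (fst T H).left
    (snd T G).left (snd T H).left T.hom (isPullback_snd_fst T H) (isPullback_snd_whiskerLeft T u) w
    (flat_comp_hom u _)

theorem translationInvariant_flatLocus [Flat G.hom] [LocallyOfFinitePresentation G.hom]
    [LocallyOfFiniteType H.hom] :
    TranslationInvariant u {x | (u.left.stalkMap x).hom.Flat} := by
  intro T σ τ hσ hτ hcomm w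
  haveI := hσ; haveI := hτ
  haveI : IsIso σ.left := inferInstanceAs (IsIso ((Over.forget _).map σ))
  haveI : IsIso τ.left := inferInstanceAs (IsIso ((Over.forget _).map τ))
  have hcomml : σ.left ≫ (T ◁ u).left = (T ◁ u).left ≫ τ.left := by
    rw [← Over.comp_left, ← Over.comp_left, hcomm]
  have hcomml' : inv σ.left ≫ (T ◁ u).left = (T ◁ u).left ≫ inv τ.left := by
    rw [IsIso.inv_comp_eq, ← Category.assoc, IsIso.eq_comp_inv, hcomml]
  change (u.left.stalkMap _).hom.Flat ↔ (u.left.stalkMap _).hom.Flat
  rw [← flat_whiskerLeft_iff' u T w, ← flat_whiskerLeft_iff' u T (σ.left w)]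
  constructor
  · intro h
    refine flat_stalkMap_of_iso_comm (T ◁ u).left (inv σ.left) (inv τ.left) hcomml' (σ.left w) ?_
    have : (inv σ.left) (σ.left w) = w := by
      rw [← Scheme.Hom.comp_apply, IsIso.hom_inv_id]; rfl
    rw [this]
    exact h
  · intro h
    exact flat_stalkMap_of_iso_comm (T ◁ u).left σ.left τ.left hcomml w h

variable [GrpObj G] [GrpObj H] [IsMonHom u]

omit [GrpObj G] [GrpObj H] [IsMonHom u] in
theorem isOpen_flatLocus [Flat G.hom] [LocallyOfFinitePresentation G.hom]
    [LocallyOfFiniteType H.hom] : IsOpen {x : G.left | (u.left.stalkMap x).hom.Flat} := by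
  haveI := lfp_comp_hom u
  have : {x : G.left | (u.left.stalkMap x).hom.Flat} =
      {x : G.left | (H.hom.stalkMap (u.left x)).hom.Flat ∧ (u.left.stalkMap x).hom.Flat} := by
    ext x
    constructor
    · intro hx
      exact ⟨H18Stalk.stalk_flat_descent H.hom u.left x hx (flat_comp_hom u x), hx⟩
    · intro hx
      exact hx.2
  rw [this]
  exact isOpen_setOf_flat_and_flat u.left H.hom

omit [GrpObj G] [GrpObj H] [IsMonHom u] in
/-- the fibre of `u` over `s` is flat iff `u` is flat at all points over `s`. -/
theorem flat_fibre_iff [Flat G.hom] [LocallyOfFinitePresentation G.hom]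
    [LocallyOfFiniteType H.hom] (s : S) :
    Flat ((Over.pullback (S.fromSpecResidueField s)).map u).left ↔
      ∀ x : G.left, G.hom x = s → (u.left.stalkMap x).hom.Flat := by
  haveI := lfp_comp_hom u
  have sq := isPullback_pullback_map (S.fromSpecResidueField s) u
  have sqY : IsPullback (pullback.fst H.hom (S.fromSpecResidueField s))
      (pullback.snd H.hom (S.fromSpecResidueField s)) H.hom (S.fromSpecResidueField s) :=
    IsPullback.of_hasPullback _ _
  have key : ∀ x' : ↑(pullback G.hom (S.fromSpecResidueField s)),
      (((Over.pullback (S.fromSpecResidueField s)).map u).left.stalkMap x').hom.Flat ↔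
        (u.left.stalkMap (pullback.fst G.hom (S.fromSpecResidueField s) x')).hom.Flat := fun x' =>
    flat_stalkMap_iff_of_isPullback_base u.left H.hom _ _ _ _ _ sqY sq x' (flat_comp_hom u _)
  rw [Flat.iff_flat_stalkMap]
  constructor
  · intro h x hx
    have hxr : x ∈ Set.range (pullback.fst G.hom (S.fromSpecResidueField s)) := by
      rw [range_pullback_fst_fromSpecResidueField]; exact hx
    obtain ⟨x', rfl⟩ := hxr
    exact (key x').mp (h x')
  · intro h x'
    refine (key x').mpr (h _ ?_)
    have : pullback.fst G.hom (S.fromSpecResidueField s) x' ∈ G.hom ⁻¹' {s} := by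
      rw [← range_pullback_fst_fromSpecResidueField]; exact ⟨x', rfl⟩
    exact this

/-- SGA3 VI_B 2.5 (ii), flat. -/
theorem flat_main [Flat G.hom] [LocallyOfFinitePresentation G.hom] [LocallyOfFiniteType H.hom] :
    IsOpen {s : S | Flat ((Over.pullback (S.fromSpecResidueField s)).map u).left} ∧
      {x : G.left | (u.left.stalkMap x).hom.Flat} =
        G.hom.base ⁻¹' {s : S | Flat ((Over.pullback (S.fromSpecResidueField s)).map u).left} := by
  have hL := translationInvariant_flatLocus u
  have hset : {s : S | Flat ((Over.pullback (S.fromSpecResidueField s)).map u).left} =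
      {s : S | η[G].left s ∈ {x : G.left | (u.left.stalkMap x).hom.Flat}} := by
    ext s
    exact (flat_fibre_iff u s).trans (forall_fibre_mem_iff hL s)
  rw [hset]
  exact ⟨isOpen_unit_preimage (isOpen_flatLocus u), eq_preimage_unit hL⟩

end Groth.Agent.Lib.helper5.GrpHomLocus
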