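/-
# Lib.Helper5.GrpImage — the schematic image of a quasi-compact homomorphism of group schemes over a field (SGA3 VI_B 1.2)

* `isMonHom_of_comp_mono`.
* `exists_image_subgroup` (S3024): `f = f' ≫ i` with `i` a closed immersion homomorphism and `f'` schematically dominant,
  quasi-compact and surjective (helper14's `exists_div`, `exists_grpObj_of_div` + S5355).
-/
import Mathlib
import Groth.Agent.Lib.Helper5.GrpDominant
import Groth.Agent.Lib.Helper14.HomImage3
import Groth.Agent.Lib.Helper1.ClosedSub2

set_option autoImplicit false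
set_option linter.style.haveILetI false
universe u
open CategoryTheory CategoryTheory.Limits MonoidalCategory CartesianMonoidalCategory MonObj GrpObj
  AlgebraicGeometry

namespace Groth.Agent.Lib.helper5.GrpImage

/-- a morphism into a subgroup whose composite with the (monic) inclusion is a homomorphism is a homomorphism -/
theorem isMonHom_of_comp_mono {C : Type*} [Category C] [CartesianMonoidalCategory C] {H K G : C}
    [GrpObj H] [GrpObj K] [GrpObj G] (g : H ⟶ K) (i : K ⟶ G) [Mono i] [IsMonHom i]
    (f : H ⟶ G) [IsMonHom f] (hgi : g ≫ i = f) : IsMonHom g where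
  one_hom := by
    rw [← cancel_mono i, Category.assoc, hgi, IsMonHom.one_hom, IsMonHom.one_hom]
  mul_hom := by
    rw [← cancel_mono i, Category.assoc, hgi, IsMonHom.mul_hom, Category.assoc, IsMonHom.mul_hom,
      ← Category.assoc, tensorHom_comp_tensorHom, hgi]

/-- **S3024**: the schematic image of a quasi-compact homomorphism of group schemes over a field is a closed subgroup
scheme onto which the homomorphism is surjective. -/
theorem exists_image_subgroup (k : Type u) [Field k] (H G : Over (Spec (CommRingCat.of k))) [GrpObj H]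
    [GrpObj G] (f : H ⟶ G) [IsMonHom f] [QuasiCompact f.left] :
    ∃ (H' : Over (Spec (CommRingCat.of k))) (_ : GrpObj H') (i : H' ⟶ G) (f' : H ⟶ H'),
      IsMonHom i ∧ IsMonHom f' ∧ f' ≫ i = f ∧ IsClosedImmersion i.left ∧
      f'.left.ker = ⊥ ∧ QuasiCompact f'.left ∧ Surjective f'.left := by
  let H' : Over (Spec (CommRingCat.of k)) := Over.mk (f.left.imageι ≫ G.hom)
  let i : H' ⟶ G := Over.homMk f.left.imageι rfl
  let g : H ⟶ H' := Over.homMk f.left.toImage (by
    show f.left.toImage ≫ f.left.imageι ≫ G.hom = H.hom
    rw [← Category.assoc, Scheme.Hom.toImage_imageι, Over.w f])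
  have hgi : g ≫ i = f := by
    ext
    show f.left.toImage ≫ f.left.imageι = f.left
    exact Scheme.Hom.toImage_imageι _
  haveI : IsClosedImmersion i.left := inferInstanceAs (IsClosedImmersion f.left.imageι)
  haveI : QuasiCompact g.left := inferInstanceAs (QuasiCompact f.left.toImage)
  haveI : IsSchemeTheoreticallyDominant g.left :=
    Groth.Agent.H1.ClosedSub.isSchemeTheoreticallyDominant_toImage f.left
  haveI : Mono i.left := inferInstanceAs (Mono f.left.imageι)
  haveI : Mono i := Over.mono_of_mono_left _
  obtain ⟨d, hd⟩ := Groth.Agent.Lib.Helper14.HomImage.exists_div f i g hgi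
  have he : ((η[H] : 𝟙_ _ ⟶ H) ≫ g) ≫ i = η[G] := by
    rw [Category.assoc, hgi, IsMonHom.one_hom]
  obtain ⟨str, hmon⟩ := Groth.Agent.Lib.Helper14.HomImage.exists_grpObj_of_div i (η[H] ≫ g) he d hd
  letI := str
  haveI := hmon
  haveI : IsMonHom g := isMonHom_of_comp_mono g i f hgi
  refine ⟨H', str, i, g, hmon, inferInstance, hgi, inferInstance, ?_, inferInstance, ?_⟩
  · exact Scheme.Hom.ker_eq_bot g.left
  · haveI : IsDominant g.left := inferInstance
    exact Groth.Agent.Lib.helper5.GrpDominant.surjective_of_dominant k H H' g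
      (IsDominant.denseRange (f := g.left))

end Groth.Agent.Lib.helper5.GrpImage
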