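import Mathlib
import Groth.Agent.Lib.Helper5.GrpMonoClosed3

/-!
# Open homomorphisms of group schemes over local artinian rings are universally open (helper5)

* `universallyOpen_of_isPullback`: universal openness can be checked after base change along a surjective closed
  immersion.
* `universallyOpen_of_isClosedImmersion_of_isOpen_range`: a closed immersion with open range is universally open.
* `universallyOpen_hom_field`, `universallyOpen_hom_artinian` (S3038).
-/

set_option autoImplicit false
set_option linter.style.haveILetI false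
universe u
open CategoryTheory MonoidalCategory CartesianMonoidalCategory MonObj GrpObj AlgebraicGeometry
  CategoryTheory.Limits TopologicalSpace

namespace Groth.Agent.Lib.helper5.GrpMonoClosed

open Groth.Agent.Lib.Helper14.BCAct

section UO

/-- universal openness can be checked after base change along a surjective closed immersion. -/
theorem universallyOpen_of_isPullback {X Y X₀ Y₀ : Scheme.{u}} {f : X ⟶ Y} {f₀ : X₀ ⟶ Y₀}
    {i : X₀ ⟶ X} {j : Y₀ ⟶ Y} (sq : IsPullback i f₀ f j) [IsClosedImmersion j] [Surjective j]
    [UniversallyOpen f₀] : UniversallyOpen f := by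
  rw [UniversallyOpen.eq]
  intro X' T i₁ i₂ f' hf
  let jT : pullback i₂ j ⟶ T := pullback.fst i₂ j
  let p : pullback f' jT ⟶ X' := pullback.fst f' jT
  let f'₀ : pullback f' jT ⟶ pullback i₂ j := pullback.snd f' jT
  have h1 : IsPullback p f'₀ f' jT := IsPullback.of_hasPullback _ _
  have h2 : IsPullback (p ≫ i₁) f'₀ f (jT ≫ i₂) := h1.paste_horiz hf.flip
  have hc : (p ≫ i₁) ≫ f = (f'₀ ≫ pullback.snd i₂ j) ≫ j := by
    have hpc : pullback.snd i₂ j ≫ j = jT ≫ i₂ := pullback.condition.symm
    rw [Category.assoc f'₀, hpc, h2.w]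
  let l : pullback f' jT ⟶ X₀ := sq.lift (p ≫ i₁) (f'₀ ≫ pullback.snd i₂ j) hc
  have hl1 : l ≫ i = p ≫ i₁ := sq.lift_fst _ _ _
  have hl2 : l ≫ f₀ = f'₀ ≫ pullback.snd i₂ j := sq.lift_snd _ _ _
  have h2' : IsPullback (l ≫ i) f'₀ f (pullback.snd i₂ j ≫ j) := by
    have hpc : pullback.snd i₂ j ≫ j = jT ≫ i₂ := pullback.condition.symm
    rw [hl1, hpc]
    exact h2
  have h3 : IsPullback l f'₀ f₀ (pullback.snd i₂ j) := IsPullback.of_right h2' hl2 sq
  haveI : UniversallyOpen f'₀ :=
    MorphismProperty.of_isPullback (P := @UniversallyOpen) h3 inferInstance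
  haveI : IsClosedImmersion jT := inferInstanceAs (IsClosedImmersion (pullback.fst i₂ j))
  haveI : Surjective jT := inferInstanceAs (Surjective (pullback.fst i₂ j))
  haveI : Surjective p := inferInstanceAs (Surjective (pullback.fst f' jT))
  intro Z hZ
  have e : f' '' Z = jT '' (f'₀ '' (p ⁻¹' Z)) := by
    ext t
    constructor
    · rintro ⟨z, hz, rfl⟩
      obtain ⟨x₀, rfl⟩ := p.surjective z
      refine ⟨f'₀ x₀, ⟨x₀, hz, rfl⟩, ?_⟩
      rw [← Scheme.Hom.comp_apply, ← h1.w, Scheme.Hom.comp_apply]
    · rintro ⟨_, ⟨x₀, hx₀, rfl⟩, rfl⟩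
      refine ⟨p x₀, hx₀, ?_⟩
      rw [← Scheme.Hom.comp_apply, h1.w, Scheme.Hom.comp_apply]
  rw [e]
  have hjT : IsOpenMap jT :=
    (isHomeomorph_iff_isEmbedding_surjective.2
      ⟨jT.isClosedEmbedding.isEmbedding, jT.surjective⟩).isOpenMap
  exact hjT _ (f'₀.isOpenMap _ (hZ.preimage p.continuous))

/-- a closed immersion with open range is universally open. -/
theorem universallyOpen_of_isClosedImmersion_of_isOpen_range {X Y : Scheme.{u}} (f : X ⟶ Y)
    [IsClosedImmersion f] (h : IsOpen (Set.range f)) : UniversallyOpen f := by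
  rw [UniversallyOpen.eq]
  intro X' T i₁ i₂ f' hf
  haveI : IsClosedImmersion f' :=
    MorphismProperty.of_isPullback (P := @IsClosedImmersion) hf.flip inferInstance
  have hr : Set.range f' = i₂ ⁻¹' Set.range f := by
    ext x
    constructor
    · rintro ⟨z, rfl⟩
      exact ⟨i₁ z, by rw [← Scheme.Hom.comp_apply, ← hf.w, Scheme.Hom.comp_apply]⟩
    · intro hx
      have hx' : x ∈ Set.range (pullback.fst i₂ f) := by
        rw [Scheme.Pullback.range_fst]; exact hx
      obtain ⟨w, rfl⟩ := hx'
      refine ⟨hf.isoPullback.inv w, ?_⟩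
      rw [← Scheme.Hom.comp_apply, hf.isoPullback_inv_fst]
  have hopen : IsOpen (Set.range f') := by
    rw [hr]; exact h.preimage i₂.continuous
  exact (Topology.IsOpenEmbedding.mk f'.isClosedEmbedding.isEmbedding hopen).isOpenMap

end UO

section field

variable (k : Type u) [Field k]

theorem universallyOpen_hom_field (G H : Over (Spec (CommRingCat.of k))) [GrpObj G] [GrpObj H]
    [LocallyOfFiniteType G.hom] [LocallyOfFiniteType H.hom] (u : G ⟶ H) [IsMonHom u]
    (hu : IsOpenMap u.left) : UniversallyOpen u.left := by
  haveI : LocallyOfFinitePresentation G.hom :=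
    Groth.Agent.Lib.helper5.FppfImage.lfp_of_lft_noeth G.hom
  have hK : Flat (pullback u η[H]).hom := inferInstance
  obtain ⟨Q, str, p, i, hpm, him, e, hs, hf, hpp, himono, hQ, -⟩ :=
    Groth.Agent.Lib.helper5.FppfImage.exists_quotient_by_flat_kernel G H u hK
  haveI := hs
  haveI := hf
  haveI := hpp
  haveI := himono
  haveI := him
  haveI := hQ
  haveI : Mono i.left := inferInstance
  have hinj : Function.Injective i.left := i.left.injective
  have hiopen : IsOpenMap i.left := by
    intro V hV
    have : i.left '' V = u.left '' (p.left ⁻¹' V) := by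
      ext x
      constructor
      · rintro ⟨q, hq, rfl⟩
        obtain ⟨g, rfl⟩ := p.left.surjective q
        refine ⟨g, hq, ?_⟩
        rw [← e, Over.comp_left, Scheme.Hom.comp_apply]
      · rintro ⟨g, hg, rfl⟩
        refine ⟨p.left g, hg, ?_⟩
        rw [← e, Over.comp_left, Scheme.Hom.comp_apply]
    rw [this]
    exact hu _ (hV.preimage p.left.continuous)
  have hemb : Topology.IsOpenEmbedding i.left :=
    Topology.IsOpenEmbedding.of_continuous_injective_isOpenMap i.left.continuous hinj hiopen
  haveI : IsLocallyNoetherian H.left := LocallyOfFiniteType.isLocallyNoetherian H.hom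
  haveI : QuasiCompact i.left := by
    apply quasiCompact_iff_forall_isAffineOpen.mpr
    intro U hU
    rw [Opens.map_coe, ← Set.preimage_inter_range]
    apply hemb.isInducing.isCompact_preimage'
    · apply (noetherianSpace_set_iff _).mp
      · convert! noetherianSpace_of_isAffineOpen U hU
        apply IsLocallyNoetherian.component_noetherian ⟨U, hU⟩
      · exact Set.inter_subset_left
    · exact Set.inter_subset_right
  haveI : LocallyOfFiniteType Q.hom := inferInstance
  haveI : IsClosedImmersion i.left := isClosedImmersion_of_mono_hom_field k Q H i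
  haveI : UniversallyOpen i.left :=
    universallyOpen_of_isClosedImmersion_of_isOpen_range i.left hemb.isOpen_range
  haveI : UniversallyOpen p.left := inferInstance
  rw [← e, Over.comp_left]
  infer_instance

end field

section artinian

variable (A : Type u) [CommRing A] [IsLocalRing A] [IsArtinianRing A]

/-- S3038 -/
theorem universallyOpen_hom_artinian (G H : Over (Spec (CommRingCat.of A))) [GrpObj G]
    [GrpObj H] [LocallyOfFiniteType G.hom] [LocallyOfFiniteType H.hom] (u : G ⟶ H) [IsMonHom u]
    (hu : IsOpenMap u.left) : UniversallyOpen u.left := by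
  let uk : Red.bc (resMap A) G ⟶ Red.bc (resMap A) H := (Over.pullback (resMap A)).map u
  haveI : IsMonHom uk := inferInstance
  have sq : IsPullback (prL (resMap A) G) uk.left u.left (prL (resMap A) H) :=
    isPullback_map_left (resMap A) u
  haveI : LocallyOfFiniteType (Red.bc (resMap A) G).hom :=
    inferInstanceAs (LocallyOfFiniteType (pullback.snd G.hom (resMap A)))
  haveI : LocallyOfFiniteType (Red.bc (resMap A) H).hom :=
    inferInstanceAs (LocallyOfFiniteType (pullback.snd H.hom (resMap A)))
  haveI : IsClosedImmersion (prL (resMap A) H) :=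
    inferInstanceAs (IsClosedImmersion (pullback.fst H.hom (resMap A)))
  haveI : IsClosedImmersion (prL (resMap A) G) :=
    inferInstanceAs (IsClosedImmersion (pullback.fst G.hom (resMap A)))
  haveI := surjective_prL (resMap A) H
  haveI := surjective_prL (resMap A) G
  have hG : IsOpenMap (prL (resMap A) G) :=
    (isHomeomorph_iff_isEmbedding_surjective.2
      ⟨(prL (resMap A) G).isClosedEmbedding.isEmbedding, (prL (resMap A) G).surjective⟩).isOpenMap
  have huk : IsOpenMap uk.left := by
    intro V hV
    have : uk.left '' V = prL (resMap A) H ⁻¹' (u.left '' (prL (resMap A) G '' V)) := by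
      ext x
      constructor
      · rintro ⟨v, hv, rfl⟩
        refine ⟨prL (resMap A) G v, ⟨v, hv, rfl⟩, ?_⟩
        rw [← Scheme.Hom.comp_apply, sq.w, Scheme.Hom.comp_apply]
      · rintro ⟨_, ⟨v, hv, rfl⟩, h⟩
        refine ⟨v, hv, ?_⟩
        apply (prL (resMap A) H).isClosedEmbedding.injective
        rw [← h, ← Scheme.Hom.comp_apply, ← Scheme.Hom.comp_apply, sq.w]
    rw [this]
    exact (hu _ (hG _ hV)).preimage (prL (resMap A) H).continuous
  haveI : UniversallyOpen uk.left :=
    universallyOpen_hom_field (IsLocalRing.ResidueField A) (Red.bc (resMap A) G)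
      (Red.bc (resMap A) H) uk huk
  exact universallyOpen_of_isPullback sq

end artinian

end Groth.Agent.Lib.helper5.GrpMonoClosed
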