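/-
# Lib.Helper5.GrpNeutral6 — constructibility of the union `G⁰` of the neutral components of the fibres (SGA3 VI_B 3.3 / S5325)

* `isCompact_inter_preimage'`: in `X ×_S Y`, the part over quasi-compact opens mapping into a common affine open is quasi-compact.
* `isConstructible_preimage_neutralSet`, `exists_isCompact_open_over_affine`: (G lfp + quasi-separated) trace of `G⁰` on a
  quasi-compact open containing `G⁰` over an affine open of `S`.
* `isLocallyConstructible_neutralSet` (S5325 iii), `isConstructible_neutralSet` (S5325 ii).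
* `isIrreducible_neutralSet_inter_fibre`: `G⁰ ∩ G_v` is irreducible, for every `v : S` (any group scheme).
* `exists_affine_nhd_unit`: affine opens `V ∋ s`, `U ⊆ G` with `U → V` and `e(V) ⊆ U`.
* `sectionComponents_resLE`, `unitSec_resLE_comp`: for opens `U ⊆ G`, `V ⊆ S` with `U → V`, `e(V) ⊆ U`, the section components of
  `U → V` are `U ∩ G⁰`.
* `isConstructible_preimage_neutralSet_affine`: (G lfp, no separation hypothesis) the trace of `G⁰` on such an affine `U` is
  constructible.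
* `exists_affine_nhd_le`: affine open neighbourhood inside a given open.
* `isIndConstructible_neutralSet` (S5325 i): `G⁰` is ind-constructible (`ProCons.IsIndConstructible`), via the multiplication
  `U ×_S U → G` and Chevalley.
-/
import Mathlib
import Groth.Agent.Lib.Helper5.GrpNeutral4
import Groth.Agent.Lib.Helper9.NGeom15

set_option autoImplicit false
set_option linter.style.haveILetI false
universe u
open CategoryTheory CategoryTheory.Limits MonoidalCategory CartesianMonoidalCategory MonObj GrpObj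
  AlgebraicGeometry Topology

namespace Groth.Agent.Lib.helper5.GrpNeutral6

open Groth.Agent.Lib.helper5.GrpNeutral1 Groth.Agent.Lib.helper5.GrpNeutral2 Groth.Agent.Lib.helper5.GrpNeutral3
  Groth.Agent.Lib.helper5.HomogSep1 Groth.Agent.Lib.helper5.GrpQC1 Groth.Agent.Lib.helper5.GrpQC2
  Groth.Agent.Lib.helper5.GrpNeutral4

variable {S : Scheme.{u}}

/-- in a fibre product, the part over quasi-compact opens mapping into a common affine open is quasi-compact. -/
theorem isCompact_inter_preimage' {X Y S : Scheme.{u}} (f : X ⟶ S) (g : Y ⟶ S) (V : S.Opens)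
    (hV : IsAffineOpen V) (W : X.Opens) (hW : IsCompact (W : Set X)) (hWV : W ≤ f ⁻¹ᵁ V) (W' : Y.Opens)
    (hW' : IsCompact (W' : Set Y)) (hW'V : W' ≤ g ⁻¹ᵁ V) :
    IsCompact (pullback.fst f g ⁻¹' (W : Set X) ∩ pullback.snd f g ⁻¹' (W' : Set Y)) := by
  haveI : IsAffine (V : Scheme.{u}) := hV
  haveI : CompactSpace ↥(W : Scheme.{u}) := isCompact_iff_compactSpace.mp hW
  haveI : CompactSpace ↥(W' : Scheme.{u}) := isCompact_iff_compactSpace.mp hW'
  haveI : QuasiCompact (g.resLE V W' hW'V) := quasiCompact_of_compactSpace _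
  let m : pullback (f.resLE V W hWV) (g.resLE V W' hW'V) ⟶ pullback f g :=
    pullback.map (f.resLE V W hWV) (g.resLE V W' hW'V) f g W.ι W'.ι V.ι
      (Scheme.Hom.resLE_comp_ι f hWV) (Scheme.Hom.resLE_comp_ι g hW'V)
  have hm : Set.range m = pullback.fst f g ⁻¹' (W : Set X) ∩ pullback.snd f g ⁻¹' (W' : Set Y) := by
    dsimp only [m]
    rw [Scheme.Pullback.range_map]
    simp
  rw [← hm]
  exact isCompact_range m.continuous

section core

variable (G : Over S) [GrpObj G]

/-- the section components of a quasi-compact open containing `G⁰` over an affine open of the base -/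
theorem isConstructible_preimage_neutralSet [LocallyOfFinitePresentation G.hom] [QuasiSeparated G.hom]
    (V : S.Opens) (hV : IsAffineOpen V) (O : G.left.Opens) (hOc : IsCompact (O : Set G.left))
    (hOV : O ≤ G.hom ⁻¹ᵁ V)
    (hO0 : SGA3x.neutralSet G ∩ G.hom.base ⁻¹' (V : Set S) ⊆ (O : Set G.left)) :
    IsConstructible (O.ι.base ⁻¹' SGA3x.neutralSet G) := by
  haveI : IsAffine (V : Scheme.{u}) := hV
  have hfe : ∀ s : S, G.hom (unitSec G s) = s := fun s => by
    rw [← Scheme.Hom.comp_apply, unitSec_hom]; rfl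
  have hVO : V ≤ (unitSec G) ⁻¹ᵁ O := by
    intro v hv
    exact hO0 ⟨unitSec_mem_neutralSet G v, by show G.hom (unitSec G v) ∈ V; rw [hfe]; exact hv⟩
  set f₁ : O.toScheme ⟶ V.toScheme := G.hom.resLE V O hOV with hf₁
  set g₁ : V.toScheme ⟶ O.toScheme := (unitSec G).resLE O V hVO with hg₁
  have hf₁ι : f₁ ≫ V.ι = O.ι ≫ G.hom := Scheme.Hom.resLE_comp_ι G.hom hOV
  have hg₁ι : g₁ ≫ O.ι = V.ι ≫ unitSec G := Scheme.Hom.resLE_comp_ι (unitSec G) hVO
  have hgf : g₁ ≫ f₁ = 𝟙 _ := by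
    rw [← cancel_mono V.ι, Category.assoc, hf₁ι, ← Category.assoc, hg₁ι, Category.assoc, unitSec_hom]
    simp
  haveI : LocallyOfFinitePresentation f₁ := by
    refine MorphismProperty.of_postcomp (W := @LocallyOfFinitePresentation) (W' := @IsOpenImmersion) f₁ V.ι
      inferInstance ?_
    rw [hf₁ι]; infer_instance
  haveI : QuasiSeparated f₁ := by
    haveI : QuasiSeparated (f₁ ≫ V.ι) := by rw [hf₁ι]; infer_instance
    exact QuasiSeparated.of_comp f₁ V.ι
  haveI : CompactSpace ↥(O : Scheme.{u}) := isCompact_iff_compactSpace.mp hOc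
  haveI : QuasiCompact f₁ := quasiCompact_of_compactSpace _
  haveI : QuasiSeparatedSpace ↥(O : Scheme.{u}) := quasiSeparatedSpace_of_quasiSeparated f₁
  have hlc := Groth.Agent.Lib.helper9.NGeom.isLocallyConstructible_sectionComponents f₁ g₁ hgf
  have hc : IsConstructible (MoreMor.sectionComponents f₁ g₁) := hlc.isConstructible
  have hfp : ∀ x : O.toScheme, G.hom (O.ι x) = V.ι (f₁ x) := fun x => by
    rw [← Scheme.Hom.comp_apply, ← Scheme.Hom.comp_apply, hf₁ι]
  have hgp : ∀ t : V.toScheme, unitSec G (V.ι t) = O.ι (g₁ t) := fun t => by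
    rw [← Scheme.Hom.comp_apply, ← Scheme.Hom.comp_apply, hg₁ι]
  have hfg₁ : ∀ t : V.toScheme, f₁ (g₁ t) = t := fun t => by
    rw [← Scheme.Hom.comp_apply, hgf]; rfl
  have heq : MoreMor.sectionComponents f₁ g₁ = O.ι.base ⁻¹' SGA3x.neutralSet G := by
    ext x
    constructor
    · intro hx
      show O.ι x ∈ SGA3x.neutralSet G
      rw [mem_neutralSet_iff]
      have hx' : x ∈ connectedComponentIn (f₁ ⁻¹' {f₁ x}) (g₁ (f₁ x)) := hx
      have hmem : g₁ (f₁ x) ∈ f₁ ⁻¹' {f₁ x} := hfg₁ _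
      have h1 := (O.ι.continuous.continuousOn.image_connectedComponentIn_subset hmem) ⟨x, hx', rfl⟩
      have h2 : O.ι '' (f₁ ⁻¹' {f₁ x}) ⊆ G.hom.base ⁻¹' {G.hom (O.ι x)} := by
        rintro _ ⟨x', hx'', rfl⟩
        show G.hom (O.ι x') = G.hom (O.ι x)
        rw [hfp, hfp]
        exact congrArg _ hx''
      have h3 := connectedComponentIn_mono (O.ι (g₁ (f₁ x))) h2 h1
      rw [← hgp, ← hfp] at h3
      exact h3
    · intro hx
      have hx0 : O.ι x ∈ SGA3x.neutralSet G := hx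
      set v : V.toScheme := f₁ x with hv
      have hxv : G.hom (O.ι x) = V.ι v := hfp x
      rw [mem_neutralSet_iff, hxv] at hx0
      set Z := connectedComponentIn (G.hom.base ⁻¹' {V.ι v}) (unitSec G (V.ι v)) with hZ
      have hZsub : Z ⊆ Set.range O.ι.base := by
        intro y hy
        rw [Scheme.Opens.range_ι]
        apply hO0
        have hyv : G.hom y = V.ι v := connectedComponentIn_subset (G.hom.base ⁻¹' {V.ι v}) _ hy
        refine ⟨?_, by show G.hom y ∈ V; rw [hyv]; exact v.2⟩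
        rw [mem_neutralSet_iff, hyv]; exact hy
      have hpre : _root_.IsPreconnected (O.ι.base ⁻¹' Z) :=
        isPreconnected_connectedComponentIn.preimage_of_isOpenMap O.ι.isOpenEmbedding.injective
          O.ι.isOpenEmbedding.isOpenMap hZsub
      have heZ : g₁ v ∈ O.ι.base ⁻¹' Z := by
        show O.ι (g₁ v) ∈ Z
        rw [← hgp]
        exact mem_connectedComponentIn (hfe _)
      have hsubF : O.ι.base ⁻¹' Z ⊆ f₁ ⁻¹' {v} := by
        intro y hy
        show f₁ y = v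
        apply V.ι.isOpenEmbedding.injective
        rw [← hfp]
        exact connectedComponentIn_subset (G.hom.base ⁻¹' {V.ι v}) _ hy
      exact hpre.subset_connectedComponentIn heZ hsubF hx0
  rw [← heq]
  exact hc

end core

section lc

variable (G : Over S) [GrpObj G]

/-- a quasi-compact open of `G` over an affine open `V` of `S`, containing a given point and `G⁰` over `V` -/
theorem exists_isCompact_open_over_affine (V : S.Opens) (hV : IsAffineOpen V) (x : G.left)
    (hx : G.hom x ∈ V) :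
    ∃ O : G.left.Opens, IsCompact (O : Set G.left) ∧ O ≤ G.hom ⁻¹ᵁ V ∧ x ∈ O ∧
      SGA3x.neutralSet G ∩ G.hom.base ⁻¹' (V : Set S) ⊆ (O : Set G.left) := by
  have hfe : ∀ s : S, G.hom (unitSec G s) = s := fun s => by
    rw [← Scheme.Hom.comp_apply, unitSec_hom]; rfl
  have hK : IsCompact (unitSec G '' (V : Set S)) := hV.isCompact.image (unitSec G).continuous
  have hKV : unitSec G '' (V : Set S) ⊆ ((G.hom ⁻¹ᵁ V : G.left.Opens) : Set G.left) := by
    rintro _ ⟨v, hv, rfl⟩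
    show G.hom (unitSec G v) ∈ V
    rw [hfe]; exact hv
  obtain ⟨W₀, hW₀c, hW₀o, hKW₀, hW₀V⟩ :=
    PrespectralSpace.exists_isCompact_and_isOpen_between hK (G.hom ⁻¹ᵁ V).2 hKV
  let Wo : G.left.Opens := ⟨W₀, hW₀o⟩
  have hP : IsCompact (pullback.fst G.hom G.hom ⁻¹' (Wo : Set G.left) ∩
      pullback.snd G.hom G.hom ⁻¹' (Wo : Set G.left)) :=
    isCompact_inter_preimage' G.hom G.hom V hV Wo hW₀c hW₀V Wo hW₀c hW₀V
  have hM : IsCompact (μ[G].left.base '' (pullback.fst G.hom G.hom ⁻¹' (Wo : Set G.left) ∩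
      pullback.snd G.hom G.hom ⁻¹' (Wo : Set G.left))) := hP.image μ[G].left.continuous
  have hMx : IsCompact (μ[G].left.base '' (pullback.fst G.hom G.hom ⁻¹' (Wo : Set G.left) ∩
      pullback.snd G.hom G.hom ⁻¹' (Wo : Set G.left)) ∪ {x}) := hM.union isCompact_singleton
  have hMV : μ[G].left.base '' (pullback.fst G.hom G.hom ⁻¹' (Wo : Set G.left) ∩
      pullback.snd G.hom G.hom ⁻¹' (Wo : Set G.left)) ∪ {x} ⊆
        ((G.hom ⁻¹ᵁ V : G.left.Opens) : Set G.left) := by
    rintro y (⟨z, ⟨hz1, -⟩, rfl⟩ | rfl)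
    · show G.hom (μ[G].left z) ∈ V
      have h1 : μ[G].left ≫ G.hom = pullback.fst G.hom G.hom ≫ G.hom := Over.w μ[G]
      rw [← Scheme.Hom.comp_apply, h1, Scheme.Hom.comp_apply]
      exact hW₀V hz1
    · exact hx
  obtain ⟨O, hOc, hOo, hMO, hOV⟩ :=
    PrespectralSpace.exists_isCompact_and_isOpen_between hMx (G.hom ⁻¹ᵁ V).2 hMV
  refine ⟨⟨O, hOo⟩, hOc, hOV, hMO (Or.inr rfl), ?_⟩
  rintro g ⟨hg, hgV⟩
  obtain ⟨z, hz1, -, hz3, -, hz5⟩ := exists_mul_eq_of_neutral Wo g hg (unitSec G (G.hom g))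
    (hKW₀ ⟨G.hom g, hgV, rfl⟩) (unitSec_mem_neutralSet G _) (hfe _)
  exact hMO (Or.inl ⟨z, ⟨hz1, hz3⟩, hz5⟩)

/-- **S5325 (iii)**: for `G` locally of finite presentation and quasi-separated over `S`, `G⁰` is locally constructible. -/
theorem isLocallyConstructible_neutralSet [LocallyOfFinitePresentation G.hom] [QuasiSeparated G.hom] :
    IsLocallyConstructible (SGA3x.neutralSet G) := by
  intro x
  obtain ⟨_, ⟨V, hV, rfl⟩, hxV, -⟩ :=
    S.isBasis_affineOpens.exists_subset_of_mem_open (Set.mem_univ (G.hom x)) isOpen_univ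
  obtain ⟨O, hOc, hOV, hxO, hO0⟩ := exists_isCompact_open_over_affine G V hV x hxV
  exact ⟨O, O.2.mem_nhds hxO, O.2, isConstructible_preimage_neutralSet G V hV O hOc hOV hO0⟩

/-- **S5325 (ii)** -/
theorem isConstructible_neutralSet [LocallyOfFinitePresentation G.hom] [QuasiSeparated G.hom]
    [CompactSpace S] [QuasiSeparatedSpace S] : IsConstructible (SGA3x.neutralSet G) := by
  haveI : QuasiSeparatedSpace ↥G.left := quasiSeparatedSpace_of_quasiSeparated G.hom
  obtain ⟨U, hUc, hU⟩ := exists_isCompact_open_neutralSet G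
  exact (isLocallyConstructible_neutralSet G).isConstructible_of_subset_of_isCompact hU hUc

end lc

section ind

variable (G : Over S) [GrpObj G]

/-- the neutral component of a fibre is irreducible (as a subset of `G`) -/
theorem isIrreducible_neutralSet_inter_fibre (v : S) :
    IsIrreducible (SGA3x.neutralSet G ∩ G.hom.base ⁻¹' {v}) := by
  obtain ⟨hCirr, -⟩ := isIrreducible_preimage_neutralSet (S.residueField v) (S.fromSpecResidueField v) G
  have h1 := hCirr.image (pullback.fst G.hom (S.fromSpecResidueField v)).base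
    (pullback.fst G.hom (S.fromSpecResidueField v)).continuous.continuousOn
  rw [Set.image_preimage_eq_inter_range] at h1
  have h2 : Set.range (pullback.fst G.hom (S.fromSpecResidueField v)).base = G.hom.base ⁻¹' {v} := by
    rw [Scheme.Pullback.range_fst, Scheme.range_fromSpecResidueField]
  rw [h2] at h1
  exact h1

/-- affine opens `V ∋ s` of `S` and `U` of `G` with `U → V` and `e(V) ⊆ U` -/
theorem exists_affine_nhd_unit (s : S) :
    ∃ (V : S.Opens) (U : G.left.Opens), IsAffineOpen V ∧ IsAffineOpen U ∧ s ∈ V ∧ U ≤ G.hom ⁻¹ᵁ V ∧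
      V ≤ (unitSec G) ⁻¹ᵁ U := by
  have hfe : ∀ s : S, G.hom (unitSec G s) = s := fun s => by
    rw [← Scheme.Hom.comp_apply, unitSec_hom]; rfl
  obtain ⟨_, ⟨V₀, hV₀, rfl⟩, hsV₀, -⟩ :=
    S.isBasis_affineOpens.exists_subset_of_mem_open (Set.mem_univ s) isOpen_univ
  have hes : unitSec G s ∈ G.hom ⁻¹ᵁ V₀ := by
    show G.hom (unitSec G s) ∈ V₀
    rw [hfe]; exact hsV₀
  obtain ⟨_, ⟨W, hW, rfl⟩, hesW, hWV₀⟩ :=
    G.left.isBasis_affineOpens.exists_subset_of_mem_open hes (G.hom ⁻¹ᵁ V₀).2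
  let T : S.Opens := (unitSec G) ⁻¹ᵁ W ⊓ V₀
  have hsT : s ∈ T := ⟨hesW, hsV₀⟩
  obtain ⟨r, hrT, hsr⟩ := hV₀.exists_basicOpen_le (V := T) ⟨s, hsT⟩ hsV₀
  refine ⟨S.basicOpen r, W ⊓ G.hom ⁻¹ᵁ (S.basicOpen r), hV₀.basicOpen r, ?_, hsr, inf_le_right, ?_⟩
  · rw [← Scheme.basicOpen_appLE G.hom W V₀ hWV₀ r]
    exact hW.basicOpen _
  · intro v hv
    have hvT := hrT hv
    exact ⟨hvT.1, by show G.hom (unitSec G v) ∈ S.basicOpen r; rw [hfe]; exact hv⟩

/-- the section components of the restriction `U → V` of `G → S` (with `e(V) ⊆ U`) are the trace of `G⁰` on `U`. -/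
theorem sectionComponents_resLE (V : S.Opens) (U : G.left.Opens)
    (hUV : U ≤ G.hom ⁻¹ᵁ V) (hVU : V ≤ (unitSec G) ⁻¹ᵁ U) :
    MoreMor.sectionComponents (G.hom.resLE V U hUV) ((unitSec G).resLE U V hVU) =
      U.ι.base ⁻¹' SGA3x.neutralSet G := by
  have hfe : ∀ s : S, G.hom (unitSec G s) = s := fun s => by
    rw [← Scheme.Hom.comp_apply, unitSec_hom]; rfl
  set f₁ : U.toScheme ⟶ V.toScheme := G.hom.resLE V U hUV with hf₁
  set g₁ : V.toScheme ⟶ U.toScheme := (unitSec G).resLE U V hVU with hg₁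
  have hf₁ι : f₁ ≫ V.ι = U.ι ≫ G.hom := Scheme.Hom.resLE_comp_ι G.hom hUV
  have hg₁ι : g₁ ≫ U.ι = V.ι ≫ unitSec G := Scheme.Hom.resLE_comp_ι (unitSec G) hVU
  have hgf : g₁ ≫ f₁ = 𝟙 _ := by
    rw [← cancel_mono V.ι, Category.assoc, hf₁ι, ← Category.assoc, hg₁ι, Category.assoc, unitSec_hom]
    simp
  have hfp : ∀ x : U.toScheme, G.hom (U.ι x) = V.ι (f₁ x) := fun x => by
    rw [← Scheme.Hom.comp_apply, ← Scheme.Hom.comp_apply, hf₁ι]
  have hgp : ∀ t : V.toScheme, unitSec G (V.ι t) = U.ι (g₁ t) := fun t => by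
    rw [← Scheme.Hom.comp_apply, ← Scheme.Hom.comp_apply, hg₁ι]
  have hfg₁ : ∀ t : V.toScheme, f₁ (g₁ t) = t := fun t => by
    rw [← Scheme.Hom.comp_apply, hgf]; rfl
  ext x
  constructor
  · intro hx
    show U.ι x ∈ SGA3x.neutralSet G
    rw [mem_neutralSet_iff]
    have hx' : x ∈ connectedComponentIn (f₁ ⁻¹' {f₁ x}) (g₁ (f₁ x)) := hx
    have hmem : g₁ (f₁ x) ∈ f₁ ⁻¹' {f₁ x} := hfg₁ _
    have h1 := (U.ι.continuous.continuousOn.image_connectedComponentIn_subset hmem) ⟨x, hx', rfl⟩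
    have h2 : U.ι '' (f₁ ⁻¹' {f₁ x}) ⊆ G.hom.base ⁻¹' {G.hom (U.ι x)} := by
      rintro _ ⟨x', hx'', rfl⟩
      show G.hom (U.ι x') = G.hom (U.ι x)
      rw [hfp, hfp]
      exact congrArg _ hx''
    have h3 := connectedComponentIn_mono (U.ι (g₁ (f₁ x))) h2 h1
    rw [← hgp, ← hfp] at h3
    exact h3
  · intro hx
    have hx0 : U.ι x ∈ SGA3x.neutralSet G := hx
    set v : V.toScheme := f₁ x with hv
    have hxv : G.hom (U.ι x) = V.ι v := hfp x
    set Z := SGA3x.neutralSet G ∩ G.hom.base ⁻¹' {V.ι v} with hZ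
    have hZirr : IsIrreducible Z := isIrreducible_neutralSet_inter_fibre G (V.ι v)
    have hpre : _root_.IsPreconnected (U.ι.base ⁻¹' Z) :=
      (hZirr.isPreirreducible.preimage U.ι.isOpenEmbedding).isPreconnected
    have heZ : g₁ v ∈ U.ι.base ⁻¹' Z := by
      show U.ι (g₁ v) ∈ Z
      rw [← hgp]
      exact ⟨unitSec_mem_neutralSet G _, hfe _⟩
    have hsubF : U.ι.base ⁻¹' Z ⊆ f₁ ⁻¹' {v} := by
      intro y hy
      show f₁ y = v
      apply V.ι.isOpenEmbedding.injective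
      rw [← hfp]
      exact hy.2
    exact hpre.subset_connectedComponentIn heZ hsubF ⟨hx0, hxv⟩

/-- `g₁ ≫ f₁ = 𝟙` for the restrictions of `G → S` and of the unit section. -/
theorem unitSec_resLE_comp (V : S.Opens) (U : G.left.Opens)
    (hUV : U ≤ G.hom ⁻¹ᵁ V) (hVU : V ≤ (unitSec G) ⁻¹ᵁ U) :
    (unitSec G).resLE U V hVU ≫ G.hom.resLE V U hUV = 𝟙 _ := by
  rw [← cancel_mono V.ι, Category.assoc, Scheme.Hom.resLE_comp_ι, ← Category.assoc,
    Scheme.Hom.resLE_comp_ι, Category.assoc, unitSec_hom]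
  simp

/-- the trace of `G⁰` on an affine open `U` lying over an affine open `V` and containing `e(V)` is constructible. -/
theorem isConstructible_preimage_neutralSet_affine [LocallyOfFinitePresentation G.hom]
    (V : S.Opens) (hV : IsAffineOpen V) (U : G.left.Opens) (hU : IsAffineOpen U)
    (hUV : U ≤ G.hom ⁻¹ᵁ V) (hVU : V ≤ (unitSec G) ⁻¹ᵁ U) :
    IsConstructible (U.ι.base ⁻¹' SGA3x.neutralSet G) := by
  haveI : IsAffine (V : Scheme.{u}) := hV
  haveI : IsAffine (U : Scheme.{u}) := hU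
  haveI : LocallyOfFinitePresentation (G.hom.resLE V U hUV) := by
    refine MorphismProperty.of_postcomp (W := @LocallyOfFinitePresentation) (W' := @IsOpenImmersion)
      (G.hom.resLE V U hUV) V.ι inferInstance ?_
    rw [Scheme.Hom.resLE_comp_ι]; infer_instance
  have hlc := Groth.Agent.Lib.helper9.NGeom.isLocallyConstructible_sectionComponents
    (G.hom.resLE V U hUV) ((unitSec G).resLE U V hVU) (unitSec_resLE_comp G V U hUV hVU)
  rw [← sectionComponents_resLE G V U hUV hVU]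
  exact hlc.isConstructible

end ind

section ind2

theorem exists_affine_nhd_le {X : Scheme.{u}} (W : X.Opens) (x : X) (hx : x ∈ W) :
    ∃ O : X.Opens, IsAffineOpen O ∧ x ∈ O ∧ O ≤ W := by
  obtain ⟨_, ⟨O, hO, rfl⟩, hxO, hOW⟩ := X.isBasis_affineOpens.exists_subset_of_mem_open hx W.2
  exact ⟨O, hO, hxO, hOW⟩

variable (G : Over S) [GrpObj G]

/-- **S5325 (i)**: for `G` locally of finite presentation over `S`, `G⁰` is ind-constructible. -/
theorem isIndConstructible_neutralSet [LocallyOfFinitePresentation G.hom] :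
    ProCons.IsIndConstructible (SGA3x.neutralSet G) := by
  intro x
  have hfe : ∀ s : S, G.hom (unitSec G s) = s := fun s => by
    rw [← Scheme.Hom.comp_apply, unitSec_hom]; rfl
  obtain ⟨V, U, hV, hU, hsV, hUV, hVU⟩ := exists_affine_nhd_unit G (G.hom x)
  have hE : IsConstructible (U.ι.base ⁻¹' SGA3x.neutralSet G) :=
    isConstructible_preimage_neutralSet_affine G V hV U hU hUV hVU
  -- an affine open neighbourhood `O` of `x` over `V`
  obtain ⟨O, hO, hxO, hOV⟩ := exists_affine_nhd_le (G.hom ⁻¹ᵁ V) x hsV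
  haveI : IsAffine (O : Scheme.{u}) := hO
  set Y := pullback (U.ι ≫ G.hom) (U.ι ≫ G.hom) with hY
  set EY : Set Y := (pullback.fst (U.ι ≫ G.hom) (U.ι ≫ G.hom)).base ⁻¹' (U.ι.base ⁻¹' SGA3x.neutralSet G) ∩
    (pullback.snd (U.ι ≫ G.hom) (U.ι ≫ G.hom)).base ⁻¹' (U.ι.base ⁻¹' SGA3x.neutralSet G) with hEY
  have hEYc : IsConstructible EY :=
    (Scheme.Hom.isConstructible_preimage _ hE).inter (Scheme.Hom.isConstructible_preimage _ hE)
  have hfstp : ∀ y : Y, (fst G G).left (pNN U y) = U.ι (pullback.fst (U.ι ≫ G.hom) (U.ι ≫ G.hom) y) := by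
    intro y
    have h : pNN U ≫ (fst G G).left = pullback.fst (U.ι ≫ G.hom) (U.ι ≫ G.hom) ≫ U.ι := by
      show pNN U ≫ pullback.fst G.hom G.hom = _
      rw [pNN, pullback.lift_fst]
    rw [← Scheme.Hom.comp_apply, h, Scheme.Hom.comp_apply]
  have hsndp : ∀ y : Y, (snd G G).left (pNN U y) = U.ι (pullback.snd (U.ι ≫ G.hom) (U.ι ≫ G.hom) y) := by
    intro y
    have h : pNN U ≫ (snd G G).left = pullback.snd (U.ι ≫ G.hom) (U.ι ≫ G.hom) ≫ U.ι := by
      show pNN U ≫ pullback.snd G.hom G.hom = _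
      rw [pNN, pullback.lift_snd]
    rw [← Scheme.Hom.comp_apply, h, Scheme.Hom.comp_apply]
  -- the pieces
  let mD : ∀ D : Y.Opens, D ≤ (mNN U) ⁻¹ᵁ O → (D.toScheme ⟶ O.toScheme) := fun D hD => (mNN U).resLE O D hD
  have hmDι : ∀ (D : Y.Opens) (hD : D ≤ (mNN U) ⁻¹ᵁ O), mD D hD ≫ O.ι = D.ι ≫ mNN U := fun D hD =>
    Scheme.Hom.resLE_comp_ι (mNN U) hD
  refine ⟨(O : Set G.left), O.2, hxO,
    {T | ∃ (D : Y.Opens) (hD : D ≤ (mNN U) ⁻¹ᵁ O), IsAffineOpen D ∧
      T = (mD D hD).base '' (D.ι.base ⁻¹' EY)}, ?_, ?_⟩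
  · rintro T ⟨D, hD, hDa, rfl⟩
    haveI : IsAffine (D : Scheme.{u}) := hDa
    haveI : LocallyOfFinitePresentation (mD D hD) := by
      haveI : LocallyOfFinitePresentation (mD D hD ≫ O.ι ≫ G.hom) := by
        rw [← Category.assoc, hmDι, Category.assoc, mNN_comp_hom]
        infer_instance
      exact Groth.Agent.Lib.Helper18.RelSmoothFiber.locallyOfFinitePresentation_of_comp (mD D hD)
        (O.ι ≫ G.hom) inferInstance inferInstance
    exact Scheme.Hom.isLocallyConstructible_image (mD D hD)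
      (Scheme.Hom.isConstructible_preimage D.ι hEYc).isLocallyConstructible
  · ext t
    constructor
    · intro ht
      have hg : O.ι t ∈ SGA3x.neutralSet G := ht
      have hgV : G.hom (O.ι t) ∈ V := hOV t.2
      obtain ⟨z, hz1, hz2, hz3, hz4, hz5⟩ := exists_mul_eq_of_neutral U (O.ι t) hg (unitSec G (G.hom (O.ι t)))
        (hVU hgV) (unitSec_mem_neutralSet G _) (hfe _)
      have hz : z ∈ Set.range (pNN U) := by
        rw [range_pNN]; exact ⟨hz1, hz3⟩
      obtain ⟨y, rfl⟩ := hz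
      have hyO : y ∈ (mNN U) ⁻¹ᵁ O := by
        show mNN U y ∈ O
        rw [mNN, Scheme.Hom.comp_apply, hz5]
        exact t.2
      obtain ⟨D, hDa, hyD, hDO⟩ := exists_affine_nhd_le ((mNN U) ⁻¹ᵁ O) y hyO
      refine ⟨_, ⟨D, hDO, hDa, rfl⟩, ⟨⟨y, hyD⟩, ?_, ?_⟩⟩
      · show D.ι ⟨y, hyD⟩ ∈ EY
        refine ⟨?_, ?_⟩
        · show U.ι (pullback.fst (U.ι ≫ G.hom) (U.ι ≫ G.hom) y) ∈ SGA3x.neutralSet G
          rw [← hfstp]; exact hz2
        · show U.ι (pullback.snd (U.ι ≫ G.hom) (U.ι ≫ G.hom) y) ∈ SGA3x.neutralSet G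
          rw [← hsndp]; exact hz4
      · apply O.ι.isOpenEmbedding.injective
        rw [← Scheme.Hom.comp_apply, hmDι, Scheme.Hom.comp_apply]
        show mNN U y = O.ι t
        rw [mNN, Scheme.Hom.comp_apply, hz5]
    · rintro ⟨_, ⟨D, hD, hDa, rfl⟩, ⟨d, hd, rfl⟩⟩
      show O.ι (mD D hD d) ∈ SGA3x.neutralSet G
      rw [← Scheme.Hom.comp_apply, hmDι, Scheme.Hom.comp_apply, mNN, Scheme.Hom.comp_apply]
      have hd' : D.ι d ∈ EY := hd
      apply mul_mem_neutralSet
      · rw [hfstp]; exact hd'.1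
      · rw [hsndp]; exact hd'.2

end ind2

end Groth.Agent.Lib.helper5.GrpNeutral6
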