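/-
# Lib.Helper5.GrpNeutral7 — generic openness of `G⁰` over a locally noetherian base (FGA / SGA3 VI_B 3.x; S5679)

* `exists_mNN_factor`, `isOpenMap_mNN`: for `N` flat and lfp over `S`, multiplication `N ×_S N ⟶ G` is an open map.
* `range_mNN_of_le`, `isOpen_neutralSet_inter_of_flat`: if `N ⊆ G⁰` is a flat lfp open neighbourhood of the unit section over the
  open `V ⊆ S`, then `G⁰ ∩ G_V` is open.
* `exists_open_neutralSet_of_integral`: over an integral locally noetherian base, `G⁰` is open over a nonempty open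
  (EGA IV 9.7.12 (i) = S1325, generic flatness).
* `exists_open_subset_closure_singleton`: a nonempty locally noetherian scheme has a point `ξ` with an open neighbourhood inside
  `closure {ξ}`.
* `exists_open_neutralSet`: the same over any nonempty locally noetherian base (`G` locally of finite type).
* `isConnected_fibre_oSub`: the fibres of the open subscheme `G⁰` are connected.
* `exists_open_neutral_subgroup` (S5679).
-/
import Mathlib
import Groth.Agent.Lib.Helper5.GrpNeutral6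
import Groth.Agent.Lib.Helper5.GenFlatMor
import Groth.Agent.S1325
import Groth.Agent.Lib.Helper5.ConsFibre

set_option autoImplicit false
set_option linter.style.haveILetI false
universe u
open CategoryTheory CategoryTheory.Limits MonoidalCategory CartesianMonoidalCategory MonObj GrpObj
  AlgebraicGeometry Topology

namespace Groth.Agent.Lib.helper5.GrpNeutral7

open Groth.Agent.Lib.helper5.GrpNeutral1 Groth.Agent.Lib.helper5.GrpNeutral2 Groth.Agent.Lib.helper5.GrpNeutral3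
  Groth.Agent.Lib.helper5.HomogSep1 Groth.Agent.Lib.helper5.GrpQC1 Groth.Agent.Lib.helper5.GrpQC2
  Groth.Agent.Lib.helper5.GrpNeutral4 Groth.Agent.Lib.helper5.GrpNeutral6

variable {S : Scheme.{u}}

section mulmap

variable {G : Over S} [GrpObj G] (N : G.left.Opens)

/-- the multiplication `N ×_S N ⟶ G` factors as an open immersion followed by a base change of `N ⟶ S` -/
theorem exists_mNN_factor : ∃ k : pullback (N.ι ≫ G.hom) (N.ι ≫ G.hom) ⟶ pullback G.hom (N.ι ≫ G.hom),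
    IsOpenImmersion k ∧ mNN N = k ≫ pullback.fst G.hom (N.ι ≫ G.hom) := by
  have hP := isPullback_jm G (Z := G) N.ι
  haveI : IsOpenImmersion (jm G (Z := G) N.ι) :=
    MorphismProperty.of_isPullback (P := @IsOpenImmersion) hP.flip inferInstance
  let Φ : G ⊗ G ⟶ G ⊗ G := lift (fst G G * snd G G) (snd G G)
  let Φ' : G ⊗ G ⟶ G ⊗ G := lift (fst G G * (snd G G)⁻¹) (snd G G)
  have e3 := congrArg (fun k => k.left) (shearMul_inv (G := G))
  have e4 := congrArg (fun k => k.left) (shearMul_inv' (G := G))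
  simp only [Over.comp_left, Over.id_left] at e3 e4
  haveI : IsIso Φ.left := ⟨Φ'.left, e3, e4⟩
  have hΦ : Φ ≫ fst G G = μ[G] := by
    rw [lift_fst, MonObj.mul_eq_mul]
  have hΦs : Φ ≫ snd G G = snd G G := by simp [Φ]
  have hΦ' := congrArg (fun k => k.left) hΦ
  have hΦs' := congrArg (fun k => k.left) hΦs
  simp only [Over.comp_left] at hΦ' hΦs'
  have hrange : Set.range (pNN N ≫ Φ.left) ⊆ Set.range (jm G (Z := G) N.ι) := by
    rintro _ ⟨y, rfl⟩
    have hy : pNN N y ∈ Set.range (pNN N) := ⟨y, rfl⟩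
    rw [range_pNN] at hy
    have h2 : (snd G G).left ((pNN N ≫ Φ.left) y) ∈ N := by
      rw [← Scheme.Hom.comp_apply, Category.assoc, hΦs']
      exact hy.2
    obtain ⟨z', hz'1, -⟩ := Scheme.exists_preimage_of_isPullback hP ((pNN N ≫ Φ.left) y) ⟨_, h2⟩ rfl
    exact ⟨z', hz'1⟩
  let k := IsOpenImmersion.lift (jm G (Z := G) N.ι) (pNN N ≫ Φ.left) hrange
  have hk : k ≫ jm G (Z := G) N.ι = pNN N ≫ Φ.left := IsOpenImmersion.lift_fac _ _ _
  haveI : IsOpenImmersion (pNN N) := by dsimp only [pNN]; infer_instance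
  haveI : IsOpenImmersion (k ≫ jm G (Z := G) N.ι) := by rw [hk]; infer_instance
  haveI : IsOpenImmersion k := IsOpenImmersion.of_comp k (jm G (Z := G) N.ι)
  have hq₁ : jm G (Z := G) N.ι ≫ (fst G G).left = pullback.fst G.hom (N.ι ≫ G.hom) := by
    show jm G N.ι ≫ pullback.fst G.hom G.hom = _
    rw [jm, pullback.lift_fst, Category.comp_id]
  refine ⟨k, inferInstance, ?_⟩
  rw [← hq₁, ← Category.assoc, hk, Category.assoc, hΦ', mNN]

/-- if `N` is flat and locally of finite presentation over `S`, multiplication `N ×_S N ⟶ G` is an open map -/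
theorem isOpenMap_mNN [Flat (N.ι ≫ G.hom)] [LocallyOfFinitePresentation (N.ι ≫ G.hom)] :
    IsOpenMap (mNN N).base := by
  obtain ⟨k, hk, hfac⟩ := exists_mNN_factor N
  haveI := hk
  rw [hfac]
  exact (k ≫ pullback.fst G.hom (N.ι ≫ G.hom)).isOpenMap

/-- the image of the multiplication `N ×_S N ⟶ G`, for `N ⊆ G⁰` an open neighbourhood of the unit section over `V` -/
theorem range_mNN_of_le (V : S.Opens) (hNV : N ≤ G.hom ⁻¹ᵁ V) (heN : ∀ v ∈ V, unitSec G v ∈ N)
    (hNsub : (N : Set G.left) ⊆ SGA3x.neutralSet G) :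
    Set.range (mNN N) = SGA3x.neutralSet G ∩ G.hom.base ⁻¹' (V : Set S) := by
  have hfe : ∀ s : S, G.hom (unitSec G s) = s := fun s => by
    rw [← Scheme.Hom.comp_apply, unitSec_hom]; rfl
  apply subset_antisymm
  · rintro _ ⟨y, rfl⟩
    have hy : pNN N y ∈ Set.range (pNN N) := ⟨y, rfl⟩
    rw [range_pNN] at hy
    refine ⟨mul_mem_neutralSet _ (hNsub hy.1) (hNsub hy.2), ?_⟩
    show G.hom (mNN N y) ∈ V
    rw [← Scheme.Hom.comp_apply, mNN_comp_hom, Scheme.Hom.comp_apply, Scheme.Hom.comp_apply]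
    exact hNV (pullback.fst (N.ι ≫ G.hom) (N.ι ≫ G.hom) y).2
  · rintro g ⟨hg, hgV⟩
    obtain ⟨z, hz1, -, hz3, -, hz5⟩ := exists_mul_eq_of_neutral N g hg (unitSec G (G.hom g))
      (heN _ hgV) (unitSec_mem_neutralSet G _) (hfe _)
    have hz : z ∈ Set.range (pNN N) := by
      rw [range_pNN]; exact ⟨hz1, hz3⟩
    obtain ⟨y, rfl⟩ := hz
    exact ⟨y, hz5⟩

/-- **openness of `G⁰` over `V`** given a flat open neighbourhood `N ⊆ G⁰` of the unit section over `V` -/
theorem isOpen_neutralSet_inter_of_flat [Flat (N.ι ≫ G.hom)] [LocallyOfFinitePresentation (N.ι ≫ G.hom)]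
    (V : S.Opens) (hNV : N ≤ G.hom ⁻¹ᵁ V) (heN : ∀ v ∈ V, unitSec G v ∈ N)
    (hNsub : (N : Set G.left) ⊆ SGA3x.neutralSet G) :
    IsOpen (SGA3x.neutralSet G ∩ G.hom.base ⁻¹' (V : Set S)) := by
  rw [← range_mNN_of_le N V hNV heN hNsub]
  exact (isOpenMap_mNN N).isOpen_range

end mulmap

section integral

variable {Y : Scheme.{u}}

/-- **generic openness of `G⁰`** over an integral locally noetherian base. -/
theorem exists_open_neutralSet_of_integral [IsIntegral Y] [IsLocallyNoetherian Y]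
    (G : Over Y) [GrpObj G] [LocallyOfFiniteType G.hom] :
    ∃ V : Y.Opens, (V : Set Y).Nonempty ∧
      IsOpen (SGA3x.neutralSet G ∩ G.hom.base ⁻¹' (V : Set Y)) := by
  haveI : LocallyOfFinitePresentation G.hom := Groth.Agent.Lib.helper5.FppfImage.lfp_of_lft_noeth G.hom
  have hfe : ∀ s : Y, G.hom (unitSec G s) = s := fun s => by
    rw [← Scheme.Hom.comp_apply, unitSec_hom]; rfl
  obtain ⟨ξ⟩ : Nonempty Y := inferInstance
  obtain ⟨V₀, U, hV₀, hU, hξV₀, hUV, hVU⟩ := exists_affine_nhd_unit G ξ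
  haveI : IsAffine (V₀ : Scheme.{u}) := hV₀
  haveI : IsAffine (U : Scheme.{u}) := hU
  haveI : Nonempty ↥V₀ := ⟨⟨ξ, hξV₀⟩⟩
  haveI : Nonempty ↥(V₀ : Scheme.{u}) := ⟨⟨ξ, hξV₀⟩⟩
  haveI : IsIntegral (V₀ : Scheme.{u}) := isIntegral_of_isOpenImmersion V₀.ι
  set f₁ : U.toScheme ⟶ V₀.toScheme := G.hom.resLE V₀ U hUV with hf₁
  set g₁ : V₀.toScheme ⟶ U.toScheme := (unitSec G).resLE U V₀ hVU with hg₁
  have hgf : g₁ ≫ f₁ = 𝟙 _ := unitSec_resLE_comp G V₀ U hUV hVU
  have hE : MoreMor.sectionComponents f₁ g₁ = U.ι.base ⁻¹' SGA3x.neutralSet G :=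
    sectionComponents_resLE G V₀ U hUV hVU
  have hf₁ι : f₁ ≫ V₀.ι = U.ι ≫ G.hom := Scheme.Hom.resLE_comp_ι G.hom hUV
  have hg₁ι : g₁ ≫ U.ι = V₀.ι ≫ unitSec G := Scheme.Hom.resLE_comp_ι (unitSec G) hVU
  have hfp : ∀ x : U.toScheme, G.hom (U.ι x) = V₀.ι (f₁ x) := fun x => by
    rw [← Scheme.Hom.comp_apply, ← Scheme.Hom.comp_apply, hf₁ι]
  have hgp : ∀ t : V₀.toScheme, unitSec G (V₀.ι t) = U.ι (g₁ t) := fun t => by
    rw [← Scheme.Hom.comp_apply, ← Scheme.Hom.comp_apply, hg₁ι]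
  have hfg₁ : ∀ t : V₀.toScheme, f₁ (g₁ t) = t := fun t => by
    rw [← Scheme.Hom.comp_apply, hgf]; rfl
  haveI : LocallyOfFiniteType f₁ := by
    refine MorphismProperty.of_postcomp (W := @LocallyOfFiniteType) (W' := @IsOpenImmersion) f₁ V₀.ι
      inferInstance ?_
    rw [hf₁ι]; infer_instance
  -- the generic point of `V₀`
  set ζ : V₀.toScheme := genericPoint ↥(V₀ : Scheme.{u}) with hζ
  have hζcl : ∀ z : V₀.toScheme, z ∈ closure ({ζ} : Set V₀.toScheme) := fun z => by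
    rw [(genericPoint_spec ↥(V₀ : Scheme.{u})).def]; trivial
  -- EGA IV 9.7.12 (i)
  obtain ⟨V₁, -, hζV₁, hV₁o, hclopen⟩ := Groth.Agent.S1325.result f₁ g₁ hgf ζ
  have hV₁open : IsOpen V₁ := by
    obtain ⟨W, hW, hWeq⟩ := isOpen_induced_iff.mp hV₁o
    have : W = V₁ := by
      ext z
      have := congrArg (fun T : Set ↥(closure ({ζ} : Set V₀.toScheme)) => (⟨z, hζcl z⟩ : ↥(closure ({ζ} : Set V₀.toScheme))) ∈ T) hWeq
      exact (iff_of_eq this)
    rw [← this]; exact hW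
  -- generic flatness
  obtain ⟨V₂, hV₂ne, hflat⟩ := Groth.Agent.Lib.helper5.GenFlatMor.exists_open_flat_stalkMap f₁
  let V₃ : V₀.toScheme.Opens := ⟨V₁, hV₁open⟩ ⊓ V₂
  have hV₃ne : (V₃ : Set V₀.toScheme).Nonempty :=
    nonempty_preirreducible_inter hV₁open V₂.2 ⟨ζ, hζV₁⟩ hV₂ne
  -- the open `N`
  have hEopen : IsOpen (MoreMor.sectionComponents f₁ g₁ ∩ f₁ ⁻¹' (V₃ : Set V₀.toScheme)) := by
    obtain ⟨O, hO, hOeq⟩ := isOpen_induced_iff.mp hclopen.2
    have h1 : MoreMor.sectionComponents f₁ g₁ ∩ f₁ ⁻¹' (V₃ : Set V₀.toScheme) =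
        O ∩ f₁ ⁻¹' (V₃ : Set V₀.toScheme) := by
      ext x
      constructor
      · rintro ⟨hx1, hx2⟩
        have hxV₁ : x ∈ f₁ ⁻¹' V₁ := hx2.1
        have := congrArg (fun T : Set ↥(f₁ ⁻¹' V₁) => (⟨x, hxV₁⟩ : ↥(f₁ ⁻¹' V₁)) ∈ T) hOeq
        exact ⟨(iff_of_eq this).mpr hx1, hx2⟩
      · rintro ⟨hx1, hx2⟩
        have hxV₁ : x ∈ f₁ ⁻¹' V₁ := hx2.1
        have := congrArg (fun T : Set ↥(f₁ ⁻¹' V₁) => (⟨x, hxV₁⟩ : ↥(f₁ ⁻¹' V₁)) ∈ T) hOeq
        exact ⟨(iff_of_eq this).mp hx1, hx2⟩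
    rw [h1]
    exact hO.inter (V₃.2.preimage f₁.continuous)
  let N' : U.toScheme.Opens := ⟨_, hEopen⟩
  let N : G.left.Opens := U.ι ''ᵁ N'
  let V : Y.Opens := V₀.ι ''ᵁ V₃
  have hN : ∀ x : G.left, x ∈ N ↔ ∃ x' : U.toScheme, x' ∈ N' ∧ U.ι x' = x := fun x => Iff.rfl
  have hNV : N ≤ G.hom ⁻¹ᵁ V := by
    rintro _ ⟨x', hx', rfl⟩
    show G.hom (U.ι x') ∈ V
    rw [hfp]
    exact ⟨f₁ x', hx'.2, rfl⟩
  have heN : ∀ v ∈ V, unitSec G v ∈ N := by
    rintro _ ⟨v', hv', rfl⟩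
    refine ⟨g₁ v', ⟨?_, ?_⟩, (hgp v').symm⟩
    · rw [hE]
      show U.ι (g₁ v') ∈ SGA3x.neutralSet G
      rw [← hgp]; exact unitSec_mem_neutralSet G _
    · show f₁ (g₁ v') ∈ V₃
      rw [hfg₁]; exact hv'
  have hNsub : (N : Set G.left) ⊆ SGA3x.neutralSet G := by
    rintro _ ⟨x', hx', rfl⟩
    have : x' ∈ MoreMor.sectionComponents f₁ g₁ := hx'.1
    rw [hE] at this
    exact this
  haveI : Flat (N.ι ≫ G.hom) := by
    apply flat_ι_comp
    rintro _ ⟨x', hx', rfl⟩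
    have h1 : (f₁.stalkMap x').hom.Flat := hflat x' hx'.2.2
    have h2 := (RingHom.Flat.respectsIso.arrow_mk_iso_iff (Scheme.Hom.resLEStalkMap G.hom hUV x')).mp h1
    exact h2
  refine ⟨V, ?_, isOpen_neutralSet_inter_of_flat N V hNV heN hNsub⟩
  obtain ⟨v, hv⟩ := hV₃ne
  exact ⟨V₀.ι v, v, hv, rfl⟩

end integral

section noeth

/-- in a nonempty locally noetherian scheme there are a point `ξ` and an open neighbourhood of `ξ` contained in the closure of `ξ`. -/
theorem exists_open_subset_closure_singleton (S : Scheme.{u}) [IsLocallyNoetherian S] [Nonempty S] :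
    ∃ (ξ : S) (S₁ : S.Opens), ξ ∈ S₁ ∧ (S₁ : Set S) ⊆ closure {ξ} := by
  obtain ⟨x⟩ : Nonempty S := inferInstance
  obtain ⟨W, hW, hxW, -⟩ := exists_affine_nhd_le (⊤ : S.Opens) x trivial
  haveI : IsNoetherianRing Γ(S, W) := IsLocallyNoetherian.component_noetherian ⟨W, hW⟩
  haveI : TopologicalSpace.NoetherianSpace ↥(W : Scheme.{u}) := noetherianSpace_of_isAffineOpen W hW
  let x' : ↥(W : Scheme.{u}) := ⟨x, hxW⟩
  obtain ⟨o, ho, hone, hoZ⟩ := TopologicalSpace.NoetherianSpace.exists_isOpen_nonempty_subset_irreducibleComponent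
    (irreducibleComponent x') (irreducibleComponent_mem_irreducibleComponents x')
  have hZirr : IsIrreducible (irreducibleComponent x') := isIrreducible_irreducibleComponent
  have hZcl : IsClosed (irreducibleComponent x') := isClosed_irreducibleComponent
  obtain ⟨ζ, hζ⟩ := QuasiSober.sober hZirr hZcl
  have hsp : ∀ y ∈ o, ζ ⤳ y := fun y hy =>
    specializes_iff_mem_closure.mpr (by rw [hζ.def]; exact hoZ hy)
  have hζo : ζ ∈ o := by
    obtain ⟨y, hy⟩ := hone
    exact (hsp y hy).mem_open ho hy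
  have hoS : IsOpen (W.ι.base '' o) := W.ι.isOpenEmbedding.isOpenMap o ho
  refine ⟨W.ι ζ, ⟨_, hoS⟩, ⟨ζ, hζo, rfl⟩, ?_⟩
  rintro _ ⟨y, hy, rfl⟩
  exact specializes_iff_mem_closure.mp ((hsp y hy).map W.ι.continuous)

/-- **generic openness of `G⁰`**: for `G` locally of finite type over a nonempty locally noetherian scheme `S`, `G⁰` is open over
a nonempty open of `S`. -/
theorem exists_open_neutralSet (S : Scheme.{u}) [IsLocallyNoetherian S] [Nonempty S]
    (G : Over S) [GrpObj G] [LocallyOfFiniteType G.hom] :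
    ∃ U₀ : S.Opens, (U₀ : Set S).Nonempty ∧
      IsOpen (SGA3x.neutralSet G ∩ G.hom.base ⁻¹' (U₀ : Set S)) := by
  obtain ⟨ξ, S₁, hξS₁, hS₁⟩ := exists_open_subset_closure_singleton S
  let C : TopologicalSpace.Closeds S := ⟨closure {ξ}, isClosed_closure⟩
  have hCi : IsIrreducible (C : Set S) := isIrreducible_singleton.closure
  haveI := Groth.Agent.Lib.helper5.ConsFibre.isIntegral_subscheme_vanishingIdeal C hCi
  set Z := (Scheme.IdealSheafData.vanishingIdeal C).subscheme with hZ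
  set jZ : Z ⟶ S := (Scheme.IdealSheafData.vanishingIdeal C).subschemeι with hι
  have hrange : Set.range jZ = closure {ξ} :=
    Groth.Agent.Lib.helper5.ConsFibre.range_subschemeι_vanishingIdeal C
  haveI : IsLocallyNoetherian Z := LocallyOfFiniteType.isLocallyNoetherian jZ
  haveI : LocallyOfFiniteType (Red.bc jZ G).hom :=
    inferInstanceAs (LocallyOfFiniteType (pullback.snd G.hom jZ))
  obtain ⟨V, hVne, hVopen⟩ := exists_open_neutralSet_of_integral (Red.bc jZ G)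
  -- shrink `V` into `jZ ⁻¹ S₁`
  let V' : Z.Opens := V ⊓ jZ ⁻¹ᵁ S₁
  have hV'ne : (V' : Set Z).Nonempty := by
    obtain ⟨z, hz⟩ : ξ ∈ Set.range jZ := by rw [hrange]; exact subset_closure rfl
    exact nonempty_preirreducible_inter V.2 (jZ ⁻¹ᵁ S₁).2 hVne ⟨z, by show jZ z ∈ S₁; rw [hz]; exact hξS₁⟩
  obtain ⟨W, hW, hWV'⟩ := jZ.isEmbedding.isInducing.isOpen_iff.mp V'.2
  let U₀ : S.Opens := ⟨W, hW⟩ ⊓ S₁
  have hU₀ : (U₀ : Set S) = jZ.base '' (V' : Set Z) := by
    ext s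
    constructor
    · rintro ⟨hsW, hsS₁⟩
      obtain ⟨z, rfl⟩ : s ∈ Set.range jZ := by rw [hrange]; exact hS₁ hsS₁
      refine ⟨z, ?_, rfl⟩
      have : z ∈ jZ.base ⁻¹' W := hsW
      rw [hWV'] at this
      exact this
    · rintro ⟨z, hz, rfl⟩
      refine ⟨?_, hz.2⟩
      have : z ∈ jZ.base ⁻¹' W := by rw [hWV']; exact hz
      exact this
  refine ⟨U₀, ?_, ?_⟩
  · obtain ⟨z, hz⟩ := hV'ne
    exact ⟨jZ z, by rw [hU₀]; exact ⟨z, hz, rfl⟩⟩
  -- the open `T` of `G_Z`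
  set fstm : (Red.bc jZ G).left ⟶ G.left := pullback.fst G.hom jZ with hfstm
  have hsnd : (Red.bc jZ G).hom = pullback.snd G.hom jZ := rfl
  have hcond : ∀ z : (Red.bc jZ G).left, G.hom (fstm z) = jZ ((Red.bc jZ G).hom z) := fun z => by
    rw [← Scheme.Hom.comp_apply, ← Scheme.Hom.comp_apply]
    exact congrArg (fun k => k.base z) (pullback.condition (f := G.hom) (g := jZ))
  have hbc : SGA3x.neutralSet (Red.bc jZ G) = fstm.base ⁻¹' SGA3x.neutralSet G := neutralSet_bc jZ G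
  set T : Set (Red.bc jZ G).left :=
    SGA3x.neutralSet (Red.bc jZ G) ∩ (Red.bc jZ G).hom.base ⁻¹' (V' : Set Z) with hT
  have hTopen : IsOpen T := by
    have : T = (SGA3x.neutralSet (Red.bc jZ G) ∩ (Red.bc jZ G).hom.base ⁻¹' (V : Set Z)) ∩
        (Red.bc jZ G).hom.base ⁻¹' ((jZ ⁻¹ᵁ S₁ : Z.Opens) : Set Z) := by
      ext z
      simp only [hT, V', Set.mem_inter_iff, Set.mem_preimage, TopologicalSpace.Opens.coe_inf]
      tauto
    rw [this]
    exact hVopen.inter ((jZ ⁻¹ᵁ S₁).2.preimage (Red.bc jZ G).hom.continuous)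
  have himg : fstm.base '' T = SGA3x.neutralSet G ∩ G.hom.base ⁻¹' (U₀ : Set S) := by
    ext g
    constructor
    · rintro ⟨z, ⟨hz1, hz2⟩, rfl⟩
      rw [hbc] at hz1
      refine ⟨hz1, ?_⟩
      show G.hom (fstm z) ∈ (U₀ : Set S)
      rw [hU₀, hcond]
      exact ⟨_, hz2, rfl⟩
    · rintro ⟨hg, hgU⟩
      have hgU' : G.hom g ∈ (U₀ : Set S) := hgU
      rw [hU₀] at hgU'
      obtain ⟨v, hv, hvg⟩ := hgU'
      obtain ⟨z, hz1, hz2⟩ := Scheme.Pullback.exists_preimage_pullback g v hvg.symm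
      refine ⟨z, ⟨?_, ?_⟩, hz1⟩
      · rw [hbc]
        have : fstm z ∈ SGA3x.neutralSet G := by rw [hz1]; exact hg
        exact this
      · show (Red.bc jZ G).hom z ∈ V'
        rw [hsnd, hz2]; exact hv
  haveI : IsClosedImmersion fstm := by
    rw [hfstm]; infer_instance
  obtain ⟨O, hO, hOT⟩ := fstm.isEmbedding.isInducing.isOpen_iff.mp hTopen
  have hfinal : SGA3x.neutralSet G ∩ G.hom.base ⁻¹' (U₀ : Set S) = O ∩ G.hom.base ⁻¹' (U₀ : Set S) := by
    rw [← himg]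
    ext g
    constructor
    · rintro ⟨z, hz, rfl⟩
      refine ⟨?_, ?_⟩
      · have : z ∈ fstm.base ⁻¹' O := by rw [hOT]; exact hz
        exact this
      · have : fstm z ∈ fstm.base '' T := ⟨z, hz, rfl⟩
        rw [himg] at this
        exact this.2
    · rintro ⟨hgO, hgU⟩
      have hgr : g ∈ Set.range fstm := by
        rw [hfstm, Scheme.Pullback.range_fst, hrange]
        exact hS₁ hgU.2
      obtain ⟨z, rfl⟩ := hgr
      refine ⟨z, ?_, rfl⟩
      rw [← hOT]; exact hgO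
  rw [hfinal]
  exact hO.inter (U₀.2.preimage G.hom.continuous)

end noeth

section final

variable {G : Over S} [GrpObj G]

/-- the fibres of the open subscheme `G⁰` are connected -/
theorem isConnected_fibre_oSub (V : G.left.Opens) (hV : (V : Set G.left) = SGA3x.neutralSet G) (s : S) :
    _root_.IsConnected ((oSub V).hom.base ⁻¹' {s}) := by
  set Z := connectedComponentIn (G.hom.base ⁻¹' {s}) (unitSec G s) with hZ
  have hes : G.hom (unitSec G s) = s := by
    rw [← Scheme.Hom.comp_apply, unitSec_hom]; rfl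
  have hZV : Z ⊆ (V : Set G.left) := by
    intro x hx
    rw [hV, mem_neutralSet_iff]
    have : G.hom x = s := connectedComponentIn_subset (G.hom.base ⁻¹' {s}) (unitSec G s) hx
    rw [this]; exact hx
  have hfib : (oSub V).hom.base ⁻¹' {s} = V.ι.base ⁻¹' Z := by
    ext x
    constructor
    · intro hx
      have hx' : G.hom (V.ι x) = s := hx
      have h1 : V.ι x ∈ SGA3x.neutralSet G := by rw [← hV]; exact x.2
      rw [mem_neutralSet_iff, hx'] at h1
      exact h1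
    · intro hx
      exact connectedComponentIn_subset (G.hom.base ⁻¹' {s}) (unitSec G s) hx
  rw [hfib]
  refine ⟨⟨⟨unitSec G s, hZV (mem_connectedComponentIn hes)⟩, mem_connectedComponentIn hes⟩, ?_⟩
  exact isPreconnected_connectedComponentIn.preimage_of_isOpenMap V.ι.isOpenEmbedding.injective
    V.ι.isOpenEmbedding.isOpenMap (by rw [Scheme.Opens.range_ι]; exact hZV)

/-- **S5679** -/
theorem exists_open_neutral_subgroup (S : Scheme.{u}) [IsLocallyNoetherian S] [Nonempty ↥S]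
    (G : Over S) [GrpObj G] [LocallyOfFiniteType G.hom] :
    ∃ U : S.Opens, (U : Set ↥S).Nonempty ∧
      ∃ (H : Over (U : Scheme.{u})) (_ : GrpObj H) (i : H ⟶ Red.bc U.ι G), IsMonHom i ∧ IsOpenImmersion i.left ∧
        QuasiCompact H.hom ∧ LocallyOfFiniteType H.hom ∧
        (∀ u : ↥(U : Scheme.{u}), _root_.IsConnected (H.hom.base ⁻¹' {u})) ∧
        Set.range (i.left ≫ pullback.fst G.hom U.ι).base =
          SGA3x.neutralSet G ∩ G.hom.base ⁻¹' (U : Set ↥S) := by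
  obtain ⟨U₀, hU₀ne, hopen⟩ := exists_open_neutralSet S G
  refine ⟨U₀, hU₀ne, ?_⟩
  set fstm : (Red.bc U₀.ι G).left ⟶ G.left := pullback.fst G.hom U₀.ι with hfstm
  have hcond : ∀ z : (Red.bc U₀.ι G).left, G.hom (fstm z) = U₀.ι ((Red.bc U₀.ι G).hom z) := fun z => by
    rw [← Scheme.Hom.comp_apply, ← Scheme.Hom.comp_apply]
    exact congrArg (fun k => k.base z) (pullback.condition (f := G.hom) (g := U₀.ι))
  have hbc : SGA3x.neutralSet (Red.bc U₀.ι G) = fstm.base ⁻¹' SGA3x.neutralSet G := neutralSet_bc U₀.ι G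
  have hbc' : SGA3x.neutralSet (Red.bc U₀.ι G) =
      fstm.base ⁻¹' (SGA3x.neutralSet G ∩ G.hom.base ⁻¹' (U₀ : Set S)) := by
    rw [hbc]
    ext z
    constructor
    · intro hz
      refine ⟨hz, ?_⟩
      show G.hom (fstm z) ∈ U₀
      rw [hcond]
      exact ((Red.bc U₀.ι G).hom z).2
    · intro hz
      exact hz.1
  have hopen' : IsOpen (SGA3x.neutralSet (Red.bc U₀.ι G)) := by
    rw [hbc']
    exact hopen.preimage fstm.continuous
  let Vn : (Red.bc U₀.ι G).left.Opens := ⟨SGA3x.neutralSet (Red.bc U₀.ι G), hopen'⟩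
  have hVn : (Vn : Set (Red.bc U₀.ι G).left) = SGA3x.neutralSet (Red.bc U₀.ι G) := rfl
  obtain ⟨str, hmon⟩ := exists_grpObj_oSub Vn (fun s => unitSec_mem_neutralSet (Red.bc U₀.ι G) s)
    (fun z h1 h2 => mul_mem_neutralSet z h1 h2) (fun g hg => inv_mem_neutralSet g hg)
  letI := str
  haveI : LocallyOfFiniteType (Red.bc U₀.ι G).hom :=
    inferInstanceAs (LocallyOfFiniteType (pullback.snd G.hom U₀.ι))
  refine ⟨oSub Vn, str, oInc Vn, hmon, inferInstanceAs (IsOpenImmersion Vn.ι), ?_, ?_, ?_, ?_⟩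
  · exact quasiCompact_oSub Vn hVn
  · show LocallyOfFiniteType (Vn.ι ≫ (Red.bc U₀.ι G).hom)
    infer_instance
  · intro u
    exact isConnected_fibre_oSub Vn hVn u
  · show Set.range (Vn.ι ≫ fstm).base = _
    have h1 : Set.range (Vn.ι ≫ fstm).base = fstm.base '' (Set.range Vn.ι.base) := by
      rw [← Set.range_comp]; rfl
    rw [h1, Scheme.Opens.range_ι, hVn, hbc, Set.image_preimage_eq_inter_range, hfstm,
      Scheme.Pullback.range_fst, Scheme.Opens.range_ι]

end final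

end Groth.Agent.Lib.helper5.GrpNeutral7
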