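import Mathlib
import Groth.Agent.Lib.Helper5.GrpHomog2
import Groth.Agent.Lib.Helper17.RegSmoothSch
import Groth.Agent.Lib.Helper17.FieldBC
import Groth.Agent.Lib.Helper5.GrpMonoClosed3
import Groth.Agent.Lib.Helper5.FppfImage5

/-!
# A group scheme with geometrically reduced unit local ring is smooth (helper5; SGA3 VI_A 1.3.1 / VI_B 1.6)

* `isField_localization_minimalPrime`, `exists_regular_stalk_of_isReduced_stalk`: near a point with reduced local ring on a
  locally noetherian scheme there is a point whose local ring is a field.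
* `fromSpecStalk_comp_eq`, `isReduced_stalk_bc`: the local ring of `X_K` at `x'` is a localization of `K ⊗_k O_{X,x}`.
* `smooth_of_isReduced_tensor` (S5388): `G` locally of finite type over a field `k`, `K` a perfect extension with
  `K ⊗_k O_{G,e}` reduced; then `G` is smooth.
-/

set_option autoImplicit false
set_option linter.style.haveILetI false
universe u
open CategoryTheory CategoryTheory.Limits MonoidalCategory CartesianMonoidalCategory MonObj GrpObj
  AlgebraicGeometry TensorProduct

namespace Groth.Agent.Lib.helper5.GrpSm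

/-- localizing a reduced localization further at a minimal prime gives a field -/
theorem isField_localization_minimalPrime {B : Type u} [CommRing B] [IsNoetherianRing B]
    (P p₀ : Ideal B) [P.IsPrime] [hp : p₀.IsPrime] (hmin : p₀ ∈ minimalPrimes B) (hle : p₀ ≤ P)
    [IsReduced (Localization.AtPrime P)] : IsField (Localization.AtPrime p₀) := by
  have hM : P.primeCompl ≤ p₀.primeCompl := fun a ha h => ha (hle h)
  letI : Algebra (Localization.AtPrime P) (Localization.AtPrime p₀) :=
    IsLocalization.localizationAlgebraOfSubmonoidLe (Localization.AtPrime P)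
      (Localization.AtPrime p₀) P.primeCompl p₀.primeCompl hM
  haveI : IsScalarTower B (Localization.AtPrime P) (Localization.AtPrime p₀) :=
    IsLocalization.localization_isScalarTower_of_submonoid_le (Localization.AtPrime P)
      (Localization.AtPrime p₀) P.primeCompl p₀.primeCompl hM
  haveI : IsLocalization (p₀.primeCompl.map (algebraMap B (Localization.AtPrime P)))
      (Localization.AtPrime p₀) :=
    IsLocalization.isLocalization_of_submonoid_le (Localization.AtPrime P)
      (Localization.AtPrime p₀) P.primeCompl p₀.primeCompl hM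
  haveI : IsReduced (Localization.AtPrime p₀) :=
    isReduced_localizationPreserves
      (p₀.primeCompl.map (algebraMap B (Localization.AtPrime P))) (Localization.AtPrime p₀)
      inferInstance
  haveI : IsNoetherianRing (Localization.AtPrime p₀) :=
    IsLocalization.isNoetherianRing p₀.primeCompl _ inferInstance
  haveI : Ring.KrullDimLE 0 (Localization.AtPrime p₀) := by
    rw [Ring.krullDimLE_iff, IsLocalization.AtPrime.ringKrullDim_eq_height p₀]
    have : p₀.height = 0 := Ideal.height_eq_zero_iff.mpr hmin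
    rw [this]
    rfl
  haveI : IsArtinianRing (Localization.AtPrime p₀) :=
    IsNoetherianRing.isArtinianRing_of_krullDimLE_zero
  exact IsArtinianRing.isField_of_isReduced_of_isLocalRing _

end Groth.Agent.Lib.helper5.GrpSm

namespace Groth.Agent.Lib.helper5.GrpSm

/-- on a locally noetherian scheme, near a point with reduced local ring there is a point whose local ring is a field -/
theorem exists_regular_stalk_of_isReduced_stalk (X : Scheme.{u}) [IsLocallyNoetherian X] (x : X)
    (hred : IsReduced (X.presheaf.stalk x)) :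
    ∃ ξ : X, IsRegularLocalRing (X.presheaf.stalk ξ) := by
  obtain ⟨_, ⟨V, hV : IsAffineOpen V, rfl⟩, hxV, -⟩ :=
    X.isBasis_affineOpens.exists_subset_of_mem_open (Set.mem_univ x) isOpen_univ
  haveI : IsNoetherianRing Γ(X, V) := IsLocallyNoetherian.component_noetherian ⟨V, hV⟩
  set P := (hV.primeIdealOf ⟨x, hxV⟩).asIdeal with hP
  letI : Algebra Γ(X, V) (X.presheaf.stalk x) :=
    TopCat.Presheaf.algebra_section_stalk X.presheaf (⟨x, hxV⟩ : V)
  haveI hloc : IsLocalization.AtPrime (X.presheaf.stalk x) P := hV.isLocalization_stalk ⟨x, hxV⟩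
  let e1 : X.presheaf.stalk x ≃ₐ[Γ(X, V)] Localization.AtPrime P :=
    IsLocalization.algEquiv P.primeCompl _ _
  haveI : IsReduced (Localization.AtPrime P) :=
    isReduced_of_injective e1.symm.toRingEquiv e1.symm.injective
  obtain ⟨p₀, hmin, hle⟩ := Ideal.exists_minimalPrimes_le (bot_le : (⊥ : Ideal Γ(X, V)) ≤ P)
  haveI hp₀ : p₀.IsPrime := hmin.1.1
  have hf := isField_localization_minimalPrime P p₀ hmin hle
  let y : PrimeSpectrum Γ(X, V) := ⟨p₀, hp₀⟩
  have hy : hV.fromSpec y ∈ V := by
    rw [← SetLike.mem_coe, ← hV.range_fromSpec]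
    exact ⟨y, rfl⟩
  letI : Algebra Γ(X, V) (X.presheaf.stalk (hV.fromSpec y)) :=
    TopCat.Presheaf.algebra_section_stalk X.presheaf (⟨hV.fromSpec y, hy⟩ : V)
  haveI hloc2 : IsLocalization.AtPrime (X.presheaf.stalk (hV.fromSpec y)) p₀ :=
    hV.isLocalization_stalk' y hy
  let e2 : X.presheaf.stalk (hV.fromSpec y) ≃ₐ[Γ(X, V)] Localization.AtPrime p₀ :=
    IsLocalization.algEquiv p₀.primeCompl _ _
  letI := hf.toField
  haveI : IsRegularLocalRing (Localization.AtPrime p₀) := inferInstance
  exact ⟨hV.fromSpec y, IsRegularLocalRing.of_ringEquiv e2.symm.toRingEquiv⟩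

end Groth.Agent.Lib.helper5.GrpSm

namespace Groth.Agent.Lib.helper5.GrpSm

theorem fromSpecStalk_comp_eq {R : CommRingCat.{u}} {X : Scheme.{u}} (f : X ⟶ Spec R) (x : X) :
    X.fromSpecStalk x ≫ f =
      Spec.map ((Scheme.ΓSpecIso R).inv ≫ f.appTop ≫ X.presheaf.germ ⊤ x trivial) := by
  have h1 : f = X.toSpecΓ ≫ Spec.map f.appTop ≫ Spec.map (Scheme.ΓSpecIso R).inv := by
    rw [← Scheme.toSpecΓ_naturality_assoc, toSpecΓ_SpecMap_ΓSpecIso_inv, Category.comp_id]
  conv_lhs => rw [h1]
  rw [Scheme.fromSpecStalk_toSpecΓ_assoc, ← Spec.map_comp, ← Spec.map_comp]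
  simp only [Category.assoc]

/-- the local ring of a base field extension is reduced if the tensor product of the local ring is -/
theorem isReduced_stalk_bc (k K : Type u) [Field k] [Field K] (ψ : k →+* K) {X X' : Scheme.{u}}
    (f : X ⟶ Spec (CommRingCat.of k)) (f' : X' ⟶ Spec (CommRingCat.of K)) (g' : X' ⟶ X)
    (hc : IsPullback g' f' f (Spec.map (CommRingCat.ofHom ψ))) (x' : X') :
    letI := ψ.toAlgebra
    letI := ((Scheme.ΓSpecIso (CommRingCat.of k)).inv ≫ f.appTop ≫
      X.presheaf.germ ⊤ (g' x') trivial).hom.toAlgebra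
    IsReduced (K ⊗[k] (X.presheaf.stalk (g' x'))) → IsReduced (X'.presheaf.stalk x') := by
  letI := ψ.toAlgebra
  letI := ((Scheme.ΓSpecIso (CommRingCat.of k)).inv ≫ f.appTop ≫
    X.presheaf.germ ⊤ (g' x') trivial).hom.toAlgebra
  intro hred
  obtain ⟨q, hq, ⟨e⟩⟩ := Groth.Agent.Lib.helper17.FieldBC.exists_stalk_equiv_localization hc x'
    ((Scheme.ΓSpecIso (CommRingCat.of k)).inv ≫ f.appTop ≫
      X.presheaf.germ ⊤ (g' x') trivial) (fromSpecStalk_comp_eq f (g' x'))
  haveI : IsReduced ((X.presheaf.stalk (g' x')) ⊗[k] K) :=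
    isReduced_of_injective (Algebra.TensorProduct.comm k (X.presheaf.stalk (g' x')) K).toRingEquiv
      (Algebra.TensorProduct.comm k (X.presheaf.stalk (g' x')) K).injective
  haveI : IsReduced (Localization.AtPrime q) := inferInstance
  exact isReduced_of_injective e e.injective

end Groth.Agent.Lib.helper5.GrpSm

namespace Groth.Agent.Lib.helper5.GrpSm

open Groth.Agent.Lib.Helper14.BCAct Groth.Agent.Lib.helper5.GrpMonoClosed

theorem smooth_of_isReduced_tensor (k : Type u) [Field k] (G : Over (Spec (CommRingCat.of k)))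
    [GrpObj G] [LocallyOfFiniteType G.hom]
    (pt : ↥(𝟙_ (Over (Spec (CommRingCat.of k)))).left) (K : Type u) [Field K] (ψ : k →+* K)
    [PerfectField K] :
    letI := ψ.toAlgebra
    letI := ((Scheme.ΓSpecIso (CommRingCat.of k)).inv ≫ G.hom.appTop ≫
      G.left.presheaf.germ ⊤ (η[G].left.base pt) trivial).hom.toAlgebra
    IsReduced (K ⊗[k] (G.left.presheaf.stalk (η[G].left.base pt))) → Smooth G.hom := by
  set g : Spec (CommRingCat.of K) ⟶ Spec (CommRingCat.of k) := Spec.map (CommRingCat.ofHom ψ)
    with hg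
  have hc : IsPullback (prL g G) (Red.bc g G).hom G.hom g := IsPullback.of_hasPullback G.hom g
  let pt' : (𝟙_ (Over (Spec (CommRingCat.of K)))).left :=
    show ↥(Spec (CommRingCat.of K)) from default
  let e' : (Red.bc g G).left :=
    (η[Red.bc g G] : 𝟙_ (Over (Spec (CommRingCat.of K))) ⟶ Red.bc g G).left pt'
  have hx' : prL g G e' = η[G].left.base pt := by
    have h1 := unit_bc_prL g G
    have h2 : prL g G e' = ((η[Red.bc g G] : 𝟙_ (Over (Spec (CommRingCat.of K))) ⟶
        Red.bc g G).left ≫ prL g G) pt' := by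
      rw [Scheme.Hom.comp_apply]
    rw [h2, h1, Scheme.Hom.comp_apply]
    congr 1
    exact Subsingleton.elim (α := PrimeSpectrum k) _ _
  intro hred
  haveI : LocallyOfFiniteType (Red.bc g G).hom :=
    inferInstanceAs (LocallyOfFiniteType (pullback.snd G.hom g))
  haveI : LocallyOfFinitePresentation (Red.bc g G).hom :=
    Groth.Agent.Lib.helper5.FppfImage.lfp_of_lft_noeth (Red.bc g G).hom
  haveI : IsLocallyNoetherian (Red.bc g G).left :=
    LocallyOfFiniteType.isLocallyNoetherian (Red.bc g G).hom
  have hredK : IsReduced ((Red.bc g G).left.presheaf.stalk e') := by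
    revert hred
    generalize η[G].left.base pt = e0 at hx' ⊢
    subst hx'
    intro hred
    exact isReduced_stalk_bc k K ψ G.hom (Red.bc g G).hom (prL g G) hc e' hred
  obtain ⟨ξ, hξ⟩ := exists_regular_stalk_of_isReduced_stalk (Red.bc g G).left e' hredK
  have hξs : ξ ∈ (Red.bc g G).hom.smoothLocus :=
    (Groth.Agent.Lib.helper17.RegSmooth.mem_smoothLocus_iff_isRegularLocalRing_of_perfectField
      (Red.bc g G).hom ξ).mpr hξ
  haveI : Smooth ((Red.bc g G).hom.smoothLocus.ι ≫ (Red.bc g G).hom) := by
    rw [← Scheme.Hom.smoothLocus_eq_top_iff, ← Scheme.Hom.preimage_smoothLocus_eq, eq_top_iff]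
    intro z _
    exact z.2
  haveI : Flat (Red.bc g G).hom := inferInstance
  haveI : Smooth (Red.bc g G).hom :=
    Groth.Agent.Lib.helper5.GrpHomog2.smooth_of_nonempty_open (Red.bc g G)
      (Red.bc g G).hom.smoothLocus ⟨ξ, hξs⟩
  haveI : Surjective g := by
    constructor
    intro y
    exact ⟨pt', Subsingleton.elim (α := PrimeSpectrum k) _ _⟩
  haveI : Flat g := inferInstance
  haveI : QuasiCompact g := inferInstance
  exact MorphismProperty.of_isPullback_of_descendsAlong (P := @Smooth)
    (Q := @Surjective ⊓ @Flat ⊓ @QuasiCompact) hc.flip ⟨⟨inferInstance, inferInstance⟩, inferInstance⟩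
    inferInstance

end Groth.Agent.Lib.helper5.GrpSm
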