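import Groth.Prelude.Def_EtCore
import Mathlib.Algebra.Homology.DerivedCategory.Ext.EnoughProjectives
import Mathlib.CategoryTheory.Sites.EpiMono

/-!
# Vanishing of étale cohomology when global sections are exact (helper5)

`H_subsingleton_of_sections_surjective`: if global sections send epimorphisms of abelian étale sheaves on `X`
to surjections, then `H^p(X, F) = 0` for all `p ≥ 1` (the constant sheaf `ℤ` is projective).
-/

set_option autoImplicit false
open CategoryTheory CategoryTheory.Limits AlgebraicGeometry Opposite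
universe u

namespace Groth.Agent.Lib.helper5.GsecExact

theorem ulift_int_hom_ext {A : Type*} [AddCommGroup A] (f g : ULift.{u + 1} ℤ →+ A)
    (h : f ⟨1⟩ = g ⟨1⟩) : f = g := by
  have : f.comp (AddEquiv.ulift (α := ℤ)).symm.toAddMonoidHom =
      g.comp (AddEquiv.ulift (α := ℤ)).symm.toAddMonoidHom := by
    apply AddMonoidHom.ext_int
    exact h
  ext ⟨n⟩
  exact DFunLike.congr_fun this n

theorem H_subsingleton_of_sections_surjective (X : Scheme.{u})
    (hX : ∀ {E G : EtCoh.Ab X} (e : E ⟶ G) [Epi e],
      Function.Surjective (e.hom.app (op (EtCoh.top X))))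
    (F : EtCoh.Ab X) (p : ℕ) (hp : 1 ≤ p) : Subsingleton (EtCoh.H X F p) := by
  let adj := constantSheafAdj X.smallEtaleTopology AddCommGrpCat.{u + 1} (EtCore.topIsTerminal X)
  let Z : AddCommGrpCat.{u + 1} := AddCommGrpCat.of (ULift.{u + 1} ℤ)
  have hproj : Projective ((constantSheaf X.smallEtaleTopology AddCommGrpCat.{u + 1}).obj Z) := by
    constructor
    intro E G f e he
    have hsurj := hX e
    let φ : Z ⟶ G.obj.obj (op (EtCoh.top X)) := adj.homEquiv Z G f
    obtain ⟨t, ht⟩ := hsurj (φ (ULift.up 1))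
    let g : Z ⟶ E.obj.obj (op (EtCoh.top X)) :=
      AddCommGrpCat.ofHom ((zmultiplesHom _ t).comp (AddEquiv.ulift (α := ℤ)).toAddMonoidHom)
    have hg : g ≫ e.hom.app (op (EtCoh.top X)) = φ := by
      apply AddCommGrpCat.hom_ext
      apply ulift_int_hom_ext
      change e.hom.app (op (EtCoh.top X)) ((zmultiplesHom _ t) (1 : ℤ)) = φ (ULift.up 1)
      rw [zmultiplesHom_apply, one_zsmul, ht]
    refine ⟨(adj.homEquiv Z E).symm g, ?_⟩
    have := adj.homEquiv_naturality_right_symm g e
    rw [← this]
    apply (adj.homEquiv Z G).injective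
    rw [Equiv.apply_symm_apply]
    exact hg
  obtain ⟨n, rfl⟩ : ∃ n, p = n + 1 := ⟨p - 1, by omega⟩
  exact ⟨fun a b => by
    rw [CategoryTheory.Abelian.Ext.eq_zero_of_projective a,
      CategoryTheory.Abelian.Ext.eq_zero_of_projective b]⟩

end Groth.Agent.Lib.helper5.GsecExact
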