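import Mathlib
import Groth.Agent.Lib.Helper4.FpqcCoverDescent

/-!
# Morphisms which are covering for the fpqc topology (helper5)

`HCov p`: the hypothesis of the SGA3 VI_B 9.2 rows: some `q : Z ⟶ Y`, flat, surjective, with every affine open of `Y` the
image of a quasi-compact open of `Z`, factors through `p : X ⟶ Y`.

`IsFpqcCov p`: some `q : Z ⟶ Y` with `{q}` in the fpqc precoverage factors through `p`.

* `isFpqcCov_of_hcov`, `IsFpqcCov.of_isPullback`, `IsFpqcCov.descend`, `IsFpqcCov.surjective`.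
-/

set_option autoImplicit false
set_option linter.style.haveILetI false
universe u
open CategoryTheory CategoryTheory.Limits AlgebraicGeometry

namespace Groth.Agent.Lib.helper5.HCov

/-- the covering hypothesis of the SGA3 VI_B 9.2 rows -/
def HCov {X Y : Scheme.{u}} (p : X ⟶ Y) : Prop :=
  ∃ (Z : Scheme.{u}) (q : Z ⟶ Y) (r : Z ⟶ X), r ≫ p = q ∧ Surjective q ∧ Flat q ∧
    ∀ V : Y.Opens, IsAffineOpen V →
      ∃ W : Z.Opens, IsCompact (W : Set Z) ∧ q.base '' (W : Set Z) = (V : Set Y)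

/-- working form -/
def IsFpqcCov {X Y : Scheme.{u}} (p : X ⟶ Y) : Prop :=
  ∃ (Z : Scheme.{u}) (q : Z ⟶ Y) (r : Z ⟶ X), r ≫ p = q ∧
    Presieve.singleton q ∈ Scheme.fpqcPrecoverage Y

theorem singleton_mem_fpqcPrecoverage {Z Y : Scheme.{u}} (q : Z ⟶ Y) [Flat q] [Surjective q]
    (h : ∀ V : Y.Opens, IsAffineOpen V →
      ∃ W : Z.Opens, IsCompact (W : Set Z) ∧ q.base '' (W : Set Z) = (V : Set Y)) :
    Presieve.singleton q ∈ Scheme.fpqcPrecoverage Y := by
  refine ⟨?_, ?_⟩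
  · rw [Scheme.qcPrecoverage, PreZeroHypercoverFamily.mem_precoverage_iff]
    refine ⟨(q.cover (P := ⊤) trivial).toPreZeroHypercover, ?_, by simp⟩
    simp only [Scheme.qcCoverFamily_property, Scheme.quasiCompactCover_iff]
    refine ⟨fun {U} hU => ?_⟩
    rw [IsCompactOpenCovered.iff_of_unique]
    obtain ⟨W, hW, e⟩ := h U hU
    exact ⟨W, hW, e⟩
  · grind [Scheme.singleton_mem_precoverage_iff]

theorem isFpqcCov_of_hcov {X Y : Scheme.{u}} {p : X ⟶ Y} (h : HCov p) : IsFpqcCov p := by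
  obtain ⟨Z, q, r, e, hs, hf, hc⟩ := h
  exact ⟨Z, q, r, e, singleton_mem_fpqcPrecoverage q hc⟩

theorem IsFpqcCov.of_isPullback {X Y X' Y' : Scheme.{u}} {p : X ⟶ Y} {p' : X' ⟶ Y'} {g : Y' ⟶ Y}
    {g' : X' ⟶ X} (sq : IsPullback p' g' g p) (h : IsFpqcCov p) : IsFpqcCov p' := by
  obtain ⟨Z, q, r, e, hq⟩ := h
  have hc : pullback.fst g q ≫ g = (pullback.snd g q ≫ r) ≫ p := by
    rw [Category.assoc, e, pullback.condition]
  refine ⟨pullback g q, pullback.fst g q, sq.lift (pullback.fst g q) (pullback.snd g q ≫ r) hc,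
    sq.lift_fst _ _ _, ?_⟩
  rw [← Presieve.ofArrows_pUnit.{0}] at hq ⊢
  exact Precoverage.mem_coverings_of_isPullback _ hq g _ (fun _ => pullback.snd g q)
    (fun _ => IsPullback.of_hasPullback g q)

theorem IsFpqcCov.descend (P : MorphismProperty Scheme.{u}) [IsZariskiLocalAtTarget P]
    [P.IsStableUnderBaseChange] [P.DescendsAlong (@Surjective ⊓ @Flat ⊓ @QuasiCompact)]
    {X Y A A' : Scheme.{u}} {p : X ⟶ Y} (h : IsFpqcCov p) {g : A ⟶ Y} {fst : A' ⟶ A} {snd : A' ⟶ X}
    (sq : IsPullback fst snd g p) (hs : P snd) : P g := by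
  obtain ⟨Z, q, r, e, hq⟩ := h
  refine Groth.Agent.Lib.Helper4.FpqcCoverDescent.of_fpqc_presieve P g (Presieve.singleton q) hq ?_
  rintro T f ⟨⟩
  -- `pullback.snd g q` is a base change of `snd` along `r`
  have h1 : IsPullback (pullback.fst g q) (pullback.snd g q) g (r ≫ p) := by
    rw [e]; exact IsPullback.of_hasPullback g q
  have hc : pullback.fst g q ≫ g = (pullback.snd g q ≫ r) ≫ p := by
    rw [Category.assoc]; exact h1.w
  let l : pullback g q ⟶ A' := sq.lift (pullback.fst g q) (pullback.snd g q ≫ r) hc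
  have hl1 : l ≫ fst = pullback.fst g q := sq.lift_fst _ _ _
  have hl2 : l ≫ snd = pullback.snd g q ≫ r := sq.lift_snd _ _ _
  have h2 : IsPullback l (pullback.snd g q) snd r := by
    refine IsPullback.of_right ?_ hl2 sq
    rw [hl1]
    exact h1
  exact MorphismProperty.of_isPullback (P := P) h2 hs

theorem IsFpqcCov.surjective {X Y : Scheme.{u}} {p : X ⟶ Y} (h : IsFpqcCov p) : Surjective p := by
  obtain ⟨Z, q, r, e, hq⟩ := h
  have hq' : Presieve.singleton q ∈ Scheme.precoverage (@Flat : MorphismProperty Scheme.{u}) Y :=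
    hq.2
  rw [Scheme.singleton_mem_precoverage_iff] at hq'
  constructor
  intro y
  obtain ⟨z, rfl⟩ := hq'.1 y
  exact ⟨r z, by rw [← Scheme.Hom.comp_apply, e]⟩

end Groth.Agent.Lib.helper5.HCov
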