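import Mathlib
import Groth.Agent.Lib.Helper5.HCov1
import Groth.Agent.Lib.Helper22.ActPts
import Groth.Agent.Lib.Helper4.AffineDescent

/-!
# The graph of an effective equivalence relation (helper5)

* `isPullback_graph`: `X ×_Y X ⟶ X × X` is a base change of the diagonal of `Y` (cartesian monoidal categories).
* `isPullback_whiskerRight'`, `isPullback_whiskerLeft'`.
* `isImmersion_graph`, `isClosedImmersion_graph_of_isSeparated`, `isSeparated_of_isClosedImmersion_graph` (S5373).
-/

set_option autoImplicit false
set_option linter.style.haveILetI false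
universe u
open CategoryTheory CategoryTheory.Limits MonoidalCategory CartesianMonoidalCategory
  AlgebraicGeometry

namespace Groth.Agent.Lib.helper5.HCov

section general

variable {C : Type*} [Category C] [CartesianMonoidalCategory C]

theorem isPullback_graph [HasPullbacks C] {X Y : C} (p : X ⟶ Y) :
    IsPullback (pullback.fst p p ≫ p) (lift (pullback.fst p p) (pullback.snd p p))
      (lift (𝟙 Y) (𝟙 Y)) (p ⊗ₘ p) := by
  apply Groth.Agent.Lib.helper22.isPullback_of_points
  · apply CartesianMonoidalCategory.hom_ext
    · simp
    · simp [pullback.condition]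
  · intro T s t h
    have h1 : t ≫ fst X X ≫ p = s := by
      have := congrArg (fun m => m ≫ fst Y Y) h
      simpa using this.symm
    have h2 : t ≫ snd X X ≫ p = s := by
      have := congrArg (fun m => m ≫ snd Y Y) h
      simpa using this.symm
    refine ⟨pullback.lift (t ≫ fst X X) (t ≫ snd X X) (by
      rw [Category.assoc, Category.assoc, h1, h2]), ?_, ?_⟩
    · rw [← Category.assoc, pullback.lift_fst, Category.assoc, h1]
    · apply CartesianMonoidalCategory.hom_ext
      · simp only [Category.assoc, lift_fst, pullback.lift_fst]
      · simp only [Category.assoc, lift_snd, pullback.lift_snd]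
  · intro T l l' h1 h2
    apply pullback.hom_ext
    · have := congrArg (fun m => m ≫ fst X X) h2
      simpa using this
    · have := congrArg (fun m => m ≫ snd X X) h2
      simpa using this

theorem isPullback_whiskerRight' {A B : C} (p : A ⟶ B) (X : C) :
    IsPullback (p ▷ X) (fst A X) (fst B X) p := by
  apply Groth.Agent.Lib.helper22.isPullback_of_points
  · simp
  · intro T s t h
    refine ⟨lift t (s ≫ snd B X), ?_, by simp⟩
    apply CartesianMonoidalCategory.hom_ext
    · simp [h]
    · simp
  · intro T l l' h1 h2
    apply CartesianMonoidalCategory.hom_ext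
    · exact h2
    · have := congrArg (fun m => m ≫ snd B X) h1
      simpa using this

theorem isPullback_whiskerLeft' (X : C) {A B : C} (p : A ⟶ B) :
    IsPullback (X ◁ p) (snd X A) (snd X B) p := by
  apply Groth.Agent.Lib.helper22.isPullback_of_points
  · simp
  · intro T s t h
    refine ⟨lift (s ≫ fst X B) t, ?_, by simp⟩
    apply CartesianMonoidalCategory.hom_ext
    · simp
    · simp [h]
  · intro T l l' h1 h2
    apply CartesianMonoidalCategory.hom_ext
    · have := congrArg (fun m => m ≫ fst X B) h1
      simpa using this
    · exact h2

end general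

section schemes

variable {S : Scheme.{u}} {X Y : Over S} (p : X ⟶ Y)

theorem diag_left : (lift (𝟙 Y) (𝟙 Y)).left = pullback.diagonal Y.hom := by
  rw [Over.lift_left]
  rfl

theorem isPullback_graph_left :
    IsPullback (pullback.fst p p ≫ p).left (lift (pullback.fst p p) (pullback.snd p p)).left
      (pullback.diagonal Y.hom) (p ⊗ₘ p).left := by
  rw [← diag_left]
  exact (isPullback_graph p).map (Over.forget S)

theorem isImmersion_graph :
    IsImmersion (lift (pullback.fst p p) (pullback.snd p p)).left :=
  MorphismProperty.of_isPullback (P := @IsImmersion) (isPullback_graph_left p) inferInstance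

theorem isClosedImmersion_graph_of_isSeparated [IsSeparated Y.hom] :
    IsClosedImmersion (lift (pullback.fst p p) (pullback.snd p p)).left :=
  MorphismProperty.of_isPullback (P := @IsClosedImmersion) (isPullback_graph_left p) inferInstance

/-- descent of a property of the diagonal of `Y` from the graph of `p`. -/
theorem prop_diagonal_of_graph (P : MorphismProperty Scheme.{u}) [IsZariskiLocalAtTarget P]
    [P.IsStableUnderBaseChange] [P.DescendsAlong (@Surjective ⊓ @Flat ⊓ @QuasiCompact)]
    (hp : IsFpqcCov p.left)
    (hv : P (lift (pullback.fst p p) (pullback.snd p p)).left) : P (pullback.diagonal Y.hom) := by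
  have big := isPullback_graph_left p
  rw [MonoidalCategory.tensorHom_def, Over.comp_left] at big
  have hA : IsFpqcCov (p ▷ X).left :=
    hp.of_isPullback ((isPullback_whiskerRight' p X).map (Over.forget S))
  have hB : IsFpqcCov (Y ◁ p).left :=
    hp.of_isPullback ((isPullback_whiskerLeft' Y p).map (Over.forget S))
  have sqB : IsPullback (pullback.fst (pullback.diagonal Y.hom) (Y ◁ p).left)
      (pullback.snd (pullback.diagonal Y.hom) (Y ◁ p).left) (pullback.diagonal Y.hom)
      (Y ◁ p).left := IsPullback.of_hasPullback _ _
  let l := sqB.lift (pullback.fst p p ≫ p).left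
    ((lift (pullback.fst p p) (pullback.snd p p)).left ≫ (p ▷ X).left)
    (by rw [Category.assoc]; exact big.w)
  have hl1 : l ≫ pullback.fst (pullback.diagonal Y.hom) (Y ◁ p).left = _ := sqB.lift_fst _ _ _
  have hl2 : l ≫ pullback.snd (pullback.diagonal Y.hom) (Y ◁ p).left = _ := sqB.lift_snd _ _ _
  have sqA : IsPullback l (lift (pullback.fst p p) (pullback.snd p p)).left
      (pullback.snd (pullback.diagonal Y.hom) (Y ◁ p).left) (p ▷ X).left := by
    refine IsPullback.of_right ?_ hl2 sqB
    rw [hl1]
    exact big
  have h1 : P (pullback.snd (pullback.diagonal Y.hom) (Y ◁ p).left) := hA.descend P sqA hv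
  exact hB.descend P sqB h1

theorem isSeparated_of_isClosedImmersion_graph (hp : IsFpqcCov p.left)
    (hv : IsClosedImmersion (lift (pullback.fst p p) (pullback.snd p p)).left) :
    IsSeparated Y.hom :=
  ⟨prop_diagonal_of_graph p @IsClosedImmersion hp hv⟩

end schemes

end Groth.Agent.Lib.helper5.HCov
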