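import Mathlib
import Groth.Agent.Lib.Helper5.HCov2
import Groth.Agent.Lib.Helper22.FlatSrc
import Groth.Agent.Lib.Helper4.FlatDescends

/-!
# Properties of a quotient `G ⟶ G'' = G/G'` (SGA3 VI_B 9.2) (helper5)

* `isReduced_of_isFpqcCov`.
* `isPullback_ker_of_quot`, `isPullback_shear`: categorical squares.
* `quot_sep` (S5369), `quot_flat` (S5370).
-/

set_option autoImplicit false
set_option linter.style.haveILetI false
universe u
open CategoryTheory CategoryTheory.Limits MonoidalCategory CartesianMonoidalCategory MonObj GrpObj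
  AlgebraicGeometry

namespace Groth.Agent.Lib.helper5.HCov

section reduced

theorem isFpqcCov_flat {Z Y : Scheme.{u}} {q : Z ⟶ Y}
    (hq : Presieve.singleton q ∈ Scheme.fpqcPrecoverage Y) : Flat q ∧ Surjective q := by
  have hq' : Presieve.singleton q ∈ Scheme.precoverage (@Flat : MorphismProperty Scheme.{u}) Y :=
    hq.2
  rw [Scheme.singleton_mem_precoverage_iff] at hq'
  exact ⟨hq'.2, ⟨hq'.1⟩⟩

theorem isReduced_of_isFpqcCov {X Y : Scheme.{u}} {p : X ⟶ Y} (h : IsFpqcCov p) [IsReduced X] :
    IsReduced Y := by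
  obtain ⟨Z, q, r, e, hq⟩ := h
  obtain ⟨hqf, hqs⟩ := isFpqcCov_flat hq
  subst e
  haveI : ∀ y : Y, _root_.IsReduced (Y.presheaf.stalk y) := by
    intro y
    obtain ⟨z, rfl⟩ := (r ≫ p).surjective y
    have h2 : ((r ≫ p).stalkMap z).hom.FaithfullyFlat := by
      have hfl : ((r ≫ p).stalkMap z).hom.Flat := Flat.stalkMap (r ≫ p) z
      algebraize [((r ≫ p).stalkMap z).hom]
      have : Module.FaithfullyFlat (Y.presheaf.stalk ((r ≫ p) z)) (Z.presheaf.stalk z) :=
        @Module.FaithfullyFlat.of_flat_of_isLocalHom _ _ _ _ _ _ _ hfl ((r ≫ p).toLRSHom.prop z)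
      assumption
    have hinj : Function.Injective ((r ≫ p).stalkMap z).hom := h2.injective
    rw [Scheme.Hom.stalkMap_comp] at hinj
    have hinj' : Function.Injective (p.stalkMap (r z)).hom := by
      intro a b hab
      apply hinj
      change (r.stalkMap z).hom ((p.stalkMap (r z)).hom a) = (r.stalkMap z).hom ((p.stalkMap (r z)).hom b)
      rw [hab]
    exact isReduced_of_injective _ hinj'
  exact isReduced_of_isReduced_stalk Y

end reduced

section general

variable {C : Type*} [Category C] [CartesianMonoidalCategory C] {G G' G'' : C} [GrpObj G]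
  (u : G' ⟶ G)

theorem comp_whiskerLeft_mul {T : C} (m : T ⟶ G ⊗ G') :
    m ≫ (G ◁ u) ≫ μ[G] = (m ≫ fst G G') * (m ≫ snd G G' ≫ u) := by
  rw [Hom.mul_def, ← Category.assoc]
  congr 1
  apply CartesianMonoidalCategory.hom_ext <;> simp

/-- `G'` is the fibre of `p : G ⟶ G/G'` over the image of the unit section. -/
theorem isPullback_ker_of_quot [Mono u] (p : G ⟶ G'')
    (hsq : IsPullback ((G ◁ u) ≫ μ[G]) (fst G G') p p) :
    IsPullback u (toUnit G') p (η[G] ≫ p) := by
  apply Groth.Agent.Lib.helper22.isPullback_of_points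
  · have hm1 : lift (toUnit G' ≫ η[G]) (𝟙 G') ≫ (G ◁ u) ≫ μ[G] = u := by
      rw [comp_whiskerLeft_mul, lift_fst, lift_snd_assoc, Category.id_comp, ← Hom.one_def, _root_.one_mul]
    have hm2 : lift (toUnit G' ≫ η[G]) (𝟙 G') ≫ fst G G' = toUnit G' ≫ η[G] := lift_fst _ _
    have := hsq.w
    calc u ≫ p = (lift (toUnit G' ≫ η[G]) (𝟙 G') ≫ (G ◁ u) ≫ μ[G]) ≫ p := by rw [hm1]
      _ = lift (toUnit G' ≫ η[G]) (𝟙 G') ≫ ((G ◁ u) ≫ μ[G]) ≫ p := by
        simp only [Category.assoc]
      _ = lift (toUnit G' ≫ η[G]) (𝟙 G') ≫ fst G G' ≫ p := by rw [hsq.w]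
      _ = toUnit G' ≫ η[G] ≫ p := by rw [← Category.assoc, hm2, Category.assoc]
  · intro T s t h
    have ht : t = toUnit T := toUnit_unique _ _
    subst ht
    let l := hsq.lift s (toUnit T ≫ η[G]) (by rw [h, Category.assoc])
    have hl1 : l ≫ (G ◁ u) ≫ μ[G] = s := hsq.lift_fst _ _ _
    have hl2 : l ≫ fst G G' = toUnit T ≫ η[G] := hsq.lift_snd _ _ _
    refine ⟨l ≫ snd G G', ?_, toUnit_unique _ _⟩
    rw [← hl1, comp_whiskerLeft_mul, hl2, ← Hom.one_def, _root_.one_mul, Category.assoc]
  · intro T l l' h1 _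
    exact (cancel_mono u).1 h1

/-- `(g, h) ↦ (g u(h), g)` is a base change of `u` (along `(a, b) ↦ b⁻¹ a`). -/
theorem isPullback_shear :
    IsPullback (lift ((G ◁ u) ≫ μ[G]) (fst G G')) (snd G G')
      (lift (snd G G ≫ ι[G]) (fst G G) ≫ μ[G]) u := by
  have hδ : ∀ {T : C} (s : T ⟶ G ⊗ G), s ≫ lift (snd G G ≫ ι[G]) (fst G G) ≫ μ[G] =
      (s ≫ snd G G)⁻¹ * (s ≫ fst G G) := by
    intro T s
    rw [Hom.mul_def, Hom.inv_def, ← Category.assoc]
    congr 1
    apply CartesianMonoidalCategory.hom_ext <;> simp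
  apply Groth.Agent.Lib.helper22.isPullback_of_points
  · rw [hδ, lift_snd, lift_fst]
    have := comp_whiskerLeft_mul u (𝟙 (G ⊗ G'))
    simp only [Category.id_comp] at this
    rw [this, inv_mul_cancel_left]
  · intro T s t h
    rw [hδ] at h
    refine ⟨lift (s ≫ snd G G) t, ?_, lift_snd _ _⟩
    apply CartesianMonoidalCategory.hom_ext
    · rw [Category.assoc, lift_fst, comp_whiskerLeft_mul, lift_fst, lift_snd_assoc, ← h,
        mul_inv_cancel_left]
    · rw [Category.assoc, lift_snd, lift_fst]
  · intro T l l' h1 h2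
    apply CartesianMonoidalCategory.hom_ext
    · have := congrArg (fun m => m ≫ snd G G) h1
      simpa using this
    · exact h2

end general

section schemes

variable {S : Scheme.{u}} {G G' G'' : Over S} [GrpObj G] (u : G' ⟶ G) [Mono u] (p : G ⟶ G'')

theorem unit_section_left : (η[G] ≫ p).left ≫ G''.hom = 𝟙 S := by
  have := Over.w (η[G] ≫ p)
  rw [this]
  rfl

theorem toUnit_left_eq (A : Over S) : (toUnit A).left = A.hom := by
  have := Over.w (toUnit A)
  rw [← this]
  exact (Category.comp_id _).symm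

/-- S5369 -/
theorem quot_sep (hcov : IsFpqcCov p.left)
    (hsq : IsPullback ((G ◁ u) ≫ μ[G]) (fst G G') p p) :
    IsPullback u (toUnit G') p (η[G] ≫ p) ∧ IsImmersion u.left ∧
    (IsSeparated G''.hom ↔ IsClosedImmersion u.left) ∧
    (IsClosedImmersion u.left ↔ IsClosedImmersion (η[G] ≫ p).left) := by
  have hA := isPullback_ker_of_quot u p hsq
  have hAL : IsPullback u.left (toUnit G').left p.left (η[G] ≫ p).left :=
    hA.map (Over.forget S)
  have hsec := unit_section_left (G := G) p
  haveI : IsImmersion (η[G] ≫ p).left := by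
    haveI : IsImmersion ((η[G] ≫ p).left ≫ G''.hom) := by
      rw [hsec]; exact (inferInstance : IsImmersion (𝟙 S))
    exact IsImmersion.of_comp _ G''.hom
  have c1 : IsClosedImmersion (η[G] ≫ p).left → IsClosedImmersion u.left := fun h =>
    MorphismProperty.of_isPullback (P := @IsClosedImmersion) hAL.flip h
  have c2 : IsClosedImmersion u.left → IsClosedImmersion (η[G] ≫ p).left := fun h =>
    hcov.descend @IsClosedImmersion hAL.flip h
  have c3 : IsSeparated G''.hom → IsClosedImmersion (η[G] ≫ p).left := by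
    intro h
    haveI : IsClosedImmersion ((η[G] ≫ p).left ≫ G''.hom) := by
      rw [hsec]; exact (inferInstance : IsClosedImmersion (𝟙 S))
    exact IsClosedImmersion.of_comp (η[G] ≫ p).left G''.hom
  have c4 : IsClosedImmersion u.left → IsSeparated G''.hom := by
    intro h
    have hv' : IsClosedImmersion (lift ((G ◁ u) ≫ μ[G]) (fst G G')).left :=
      MorphismProperty.of_isPullback (P := @IsClosedImmersion)
        ((isPullback_shear u).map (Over.forget S)).flip h
    have he : hsq.isoPullback.hom ≫ lift (pullback.fst p p) (pullback.snd p p) =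
        lift ((G ◁ u) ≫ μ[G]) (fst G G') := by
      apply CartesianMonoidalCategory.hom_ext
      · rw [Category.assoc, lift_fst, lift_fst, hsq.isoPullback_hom_fst]
      · rw [Category.assoc, lift_snd, lift_snd, hsq.isoPullback_hom_snd]
    have heL : hsq.isoPullback.hom.left ≫ (lift (pullback.fst p p) (pullback.snd p p)).left =
        (lift ((G ◁ u) ≫ μ[G]) (fst G G')).left := by
      rw [← Over.comp_left, he]
    rw [← heL] at hv'
    haveI : IsIso hsq.isoPullback.hom.left :=
      inferInstanceAs (IsIso ((Over.forget S).map hsq.isoPullback.hom))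
    have hv : IsClosedImmersion (lift (pullback.fst p p) (pullback.snd p p)).left :=
      (MorphismProperty.cancel_left_of_respectsIso @IsClosedImmersion _ _).1 hv'
    exact isSeparated_of_isClosedImmersion_graph p hcov hv
  refine ⟨hA, MorphismProperty.of_isPullback (P := @IsImmersion) hAL.flip inferInstance,
    ⟨fun h => c1 (c3 h), c4⟩, ⟨c2, c1⟩⟩

/-- S5370 -/
theorem quot_flat (hcov : IsFpqcCov p.left)
    (hsq : IsPullback ((G ◁ u) ≫ μ[G]) (fst G G') p p) :
    (IsReduced G.left → IsReduced G''.left) ∧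
    (Flat G'.hom ↔ Flat p.left) ∧ (Flat p.left → (Flat G''.hom ↔ Flat G.hom)) := by
  have hA := isPullback_ker_of_quot u p hsq
  have hAL : IsPullback u.left (toUnit G').left p.left (η[G] ≫ p).left :=
    hA.map (Over.forget S)
  have hsqL : IsPullback ((G ◁ u) ≫ μ[G]).left (fst G G').left p.left p.left :=
    hsq.map (Over.forget S)
  refine ⟨fun h => ?_, ⟨fun h => ?_, fun h => ?_⟩, fun h => ⟨fun h' => ?_, fun h' => ?_⟩⟩
  · haveI := h
    exact isReduced_of_isFpqcCov hcov
  · have hfl : Flat (fst G G').left := by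
      rw [Over.fst_left]
      haveI := h
      infer_instance
    exact hcov.descend @Flat hsqL hfl
  · rw [← toUnit_left_eq]
    exact MorphismProperty.of_isPullback (P := @Flat) hAL h
  · haveI := h
    haveI := h'
    rw [← Over.w p]
    infer_instance
  · haveI := h
    haveI := hcov.surjective
    haveI : Flat (p.left ≫ G''.hom) := by rw [Over.w p]; exact h'
    exact Groth.Agent.Lib.helper22.flat_of_flat_comp p.left G''.hom

end schemes

end Groth.Agent.Lib.helper5.HCov
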