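import Mathlib
import Groth.Agent.Lib.Helper5.HCov3
import Groth.Agent.Lib.Helper14.GrpQuot8
import Groth.Agent.Lib.Helper14.OverFppf

/-!
# fpqc covering morphisms are effective epimorphisms; the group structure on `G/G'` (helper5)

* `IsFpqcCov.comp`, `IsFpqcCov.effectiveEpi`, `IsFpqcCov.tensorHom_left`.
* `quot_grpObj` (S5372).
-/

set_option autoImplicit false
set_option linter.style.haveILetI false
universe u
open CategoryTheory CategoryTheory.Limits MonoidalCategory CartesianMonoidalCategory MonObj GrpObj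
  AlgebraicGeometry

namespace Groth.Agent.Lib.helper5.HCov

theorem IsFpqcCov.comp {X Y W : Scheme.{u}} {p : X ⟶ Y} {p' : Y ⟶ W} (h : IsFpqcCov p)
    (h' : IsFpqcCov p') : IsFpqcCov (p ≫ p') := by
  obtain ⟨Z, q, r, e, hq⟩ := h
  obtain ⟨Z', q', r', e', hq'⟩ := h'
  refine ⟨pullback r' q, pullback.fst r' q ≫ q', pullback.snd r' q ≫ r, ?_, ?_⟩
  · rw [Category.assoc, ← Category.assoc r, e, ← Category.assoc, ← pullback.condition,
      Category.assoc, e']
  · have h1 : Presieve.singleton (pullback.fst r' q) ∈ Scheme.fpqcPrecoverage Z' := by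
      rw [← Presieve.ofArrows_pUnit.{0}] at hq ⊢
      exact Precoverage.mem_coverings_of_isPullback _ hq r' _ (fun _ => pullback.snd r' q)
        (fun _ => IsPullback.of_hasPullback r' q)
    rw [← Presieve.ofArrows_pUnit.{0}] at hq' h1
    have h2 := Precoverage.comp_mem_coverings (J := Scheme.fpqcPrecoverage)
      (fun _ : PUnit.{1} => q') hq' (σ := fun _ => PUnit.{1})
      (Y := fun _ _ => pullback r' q) (fun _ _ => pullback.fst r' q) (fun _ => h1)
    haveI : Unique ((_ : PUnit.{1}) × PUnit.{1}) :=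
      { default := ⟨PUnit.unit, PUnit.unit⟩, uniq := fun ⟨_, _⟩ => rfl }
    rw [Presieve.ofArrows_of_unique] at h2
    exact h2

theorem IsFpqcCov.effectiveEpi {X Y : Scheme.{u}} {p : X ⟶ Y} (h : IsFpqcCov p) :
    EffectiveEpi p := by
  obtain ⟨Z, q, r, e, hq⟩ := h
  rw [← Sieve.effectiveEpimorphic_singleton,
    Presieve.EffectiveEpimorphic.iff_forall_isSheafFor_yoneda]
  intro W
  have hle : Sieve.generate (Presieve.singleton q) ≤ Sieve.generate (Presieve.singleton p) := by
    rw [Sieve.generate_le_iff]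
    rintro T f ⟨⟩
    exact ⟨X, r, p, Presieve.singleton.mk, e⟩
  have hcov : Sieve.generate (Presieve.singleton p) ∈ Scheme.fpqcTopology Y :=
    Scheme.fpqcTopology.superset_covering hle (Precoverage.generate_mem_toGrothendieck hq)
  exact (GrothendieckTopology.Subcanonical.isSheaf_of_isRepresentable _).isSheafFor _ hcov

section overS

variable {S : Scheme.{u}}

theorem IsFpqcCov.tensorHom_left {X Y X' Y' : Over S} {f : X ⟶ Y} {g : X' ⟶ Y'}
    (hf : IsFpqcCov f.left) (hg : IsFpqcCov g.left) : IsFpqcCov (f ⊗ₘ g).left := by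
  rw [MonoidalCategory.tensorHom_def, Over.comp_left]
  exact (hf.of_isPullback ((isPullback_whiskerRight' f X').map (Over.forget S))).comp
    (hg.of_isPullback ((isPullback_whiskerLeft' Y g).map (Over.forget S)))

theorem IsFpqcCov.effectiveEpi_over {X Y : Over S} {f : X ⟶ Y} (hf : IsFpqcCov f.left) :
    EffectiveEpi f := by
  haveI := hf.effectiveEpi
  exact Groth.Agent.Lib.Helper14.GrpQuot.effectiveEpi_over_of_left f

/-- S5372 -/
theorem quot_grpObj {G G' G'' : Over S} [GrpObj G] [GrpObj G'] (u : G' ⟶ G) [IsMonHom u]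
    (p : G ⟶ G'') (hcov : IsFpqcCov p.left)
    (hsq : IsPullback ((G ◁ u) ≫ μ[G]) (fst G G') p p) (hN : AlgGrp.IsNormalHom u) :
    ∃ _ : GrpObj G'', IsMonHom p ∧
      ∀ m : G'' ⊗ G'' ⟶ G'', (p ⊗ₘ p) ≫ m = μ[G] ≫ p → m = μ[G''] := by
  have e1 : EffectiveEpi p := hcov.effectiveEpi_over
  have e2 : EffectiveEpi (p ⊗ₘ p) := (hcov.tensorHom_left hcov).effectiveEpi_over
  have e3 : EffectiveEpi ((p ⊗ₘ p) ⊗ₘ p) :=
    ((hcov.tensorHom_left hcov).tensorHom_left hcov).effectiveEpi_over
  obtain ⟨str, hstr, -⟩ := Groth.Agent.Lib.Helper14.GrpQuot.existsUnique_grpObj' u p hsq.flip hN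
  refine ⟨str, hstr, fun m hm => ?_⟩
  rw [← cancel_epi (p ⊗ₘ p), hm]
  exact IsMonHom.mul_hom (f := p)

end overS

end Groth.Agent.Lib.helper5.HCov
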