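import Mathlib
import Groth.Agent.Lib.Helper5.HCov4
import Groth.Agent.Lib.Helper5.FppfSource5
import Groth.Agent.S0115
import Groth.Agent.S0079
import Groth.Agent.S0080

/-!
# Source descent of unramified / quasi-finite morphisms along fppf coverings; finite presentation of `G/G'` (helper5)

* `formallyUnramified_of_fppf_comp`: `p` fppf, `p ≫ q` formally unramified and locally of finite type ⟹ `q` formally
  unramified.
* `locallyQuasiFinite_of_open_surjective_comp`.
* `quot_fp` (S5371).
-/

set_option autoImplicit false
set_option linter.style.haveILetI false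
universe u
open CategoryTheory CategoryTheory.Limits MonoidalCategory CartesianMonoidalCategory MonObj GrpObj
  AlgebraicGeometry

namespace Groth.Agent.Lib.helper5.HCov

section general

variable {C : Type*} [Category C] [CartesianMonoidalCategory C]

/-- the graph of `p` is the base change of the diagonal along `p × id`. -/
theorem isPullback_graph_diag {X Y : C} (p : X ⟶ Y) :
    IsPullback (lift (𝟙 X) p) p (p ▷ Y) (lift (𝟙 Y) (𝟙 Y)) := by
  apply Groth.Agent.Lib.helper22.isPullback_of_points
  · apply CartesianMonoidalCategory.hom_ext <;> simp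
  · intro T s t h
    have h1 : s ≫ fst X Y ≫ p = t := by
      have := congrArg (fun m => m ≫ fst Y Y) h
      simpa using this
    have h2 : s ≫ snd X Y = t := by
      have := congrArg (fun m => m ≫ snd Y Y) h
      simpa using this
    refine ⟨s ≫ fst X Y, ?_, by rw [Category.assoc, h1]⟩
    apply CartesianMonoidalCategory.hom_ext
    · simp
    · rw [Category.assoc, lift_snd, Category.assoc, h1, h2]
  · intro T l l' h1 _
    have := congrArg (fun m => m ≫ fst X Y) h1
    simpa using this

end general

section schemes

variable {S : Scheme.{u}}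

/-- unramified morphisms descend along fppf coverings of the source. -/
theorem formallyUnramified_of_fppf_comp_over {X Y : Over S} (p : X ⟶ Y) [Surjective p.left]
    [Flat p.left] [LocallyOfFinitePresentation p.left] [FormallyUnramified X.hom]
    [LocallyOfFiniteType X.hom] : FormallyUnramified Y.hom := by
  have sq : IsPullback (lift (𝟙 X) p).left p.left (p ▷ Y).left (lift (𝟙 Y) (𝟙 Y)).left :=
    (isPullback_graph_diag p).map (Over.forget S)
  have hΓ : lift (𝟙 X) p = lift (𝟙 X) (𝟙 X) ≫ (X ◁ p) := by
    apply CartesianMonoidalCategory.hom_ext <;> simp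
  have sqL : IsPullback (X ◁ p).left (snd X X).left (snd X Y).left p.left :=
    (isPullback_whiskerLeft' X p).map (Over.forget S)
  have sqR : IsPullback (p ▷ Y).left (fst X Y).left (fst Y Y).left p.left :=
    (isPullback_whiskerRight' p Y).map (Over.forget S)
  haveI : Flat (X ◁ p).left := MorphismProperty.of_isPullback (P := @Flat) sqL.flip inferInstance
  haveI : LocallyOfFinitePresentation (X ◁ p).left :=
    MorphismProperty.of_isPullback (P := @LocallyOfFinitePresentation) sqL.flip inferInstance
  haveI : IsOpenImmersion (lift (𝟙 X) (𝟙 X)).left := by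
    rw [diag_left]; infer_instance
  haveI : Flat (lift (𝟙 X) p).left := by
    rw [hΓ, Over.comp_left]; infer_instance
  haveI : LocallyOfFinitePresentation (lift (𝟙 X) p).left := by
    rw [hΓ, Over.comp_left]; infer_instance
  haveI : Mono (lift (𝟙 X) p).left := by
    haveI : Mono ((lift (𝟙 X) p).left ≫ (fst X Y).left) := by
      rw [← Over.comp_left, lift_fst]
      exact inferInstanceAs (Mono (𝟙 X.left))
    exact mono_of_mono _ (fst X Y).left
  haveI : IsOpenImmersion (lift (𝟙 X) p).left := IsOpenImmersion.of_flat_of_mono _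
  have hQ : (@Surjective ⊓ @Flat ⊓ @LocallyOfFinitePresentation : MorphismProperty Scheme.{u})
      (p ▷ Y).left :=
    ⟨⟨MorphismProperty.of_isPullback (P := @Surjective) sqR.flip inferInstance,
      MorphismProperty.of_isPullback (P := @Flat) sqR.flip inferInstance⟩,
      MorphismProperty.of_isPullback (P := @LocallyOfFinitePresentation) sqR.flip inferInstance⟩
  have hΔ : IsOpenImmersion (lift (𝟙 Y) (𝟙 Y)).left :=
    MorphismProperty.of_isPullback_of_descendsAlong (P := @IsOpenImmersion)
      (Q := @Surjective ⊓ @Flat ⊓ @LocallyOfFinitePresentation) sq hQ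
      ‹IsOpenImmersion (lift (𝟙 X) p).left›
  rw [diag_left] at hΔ
  infer_instance

theorem formallyUnramified_of_fppf_comp {X Y : Scheme.{u}} (p : X ⟶ Y) (q : Y ⟶ S)
    [Surjective p] [Flat p] [LocallyOfFinitePresentation p] [FormallyUnramified (p ≫ q)]
    [LocallyOfFiniteType (p ≫ q)] : FormallyUnramified q := by
  let P : Over.mk (p ≫ q) ⟶ Over.mk q := Over.homMk p rfl
  haveI : Surjective P.left := ‹Surjective p›
  haveI : Flat P.left := ‹Flat p›
  haveI : LocallyOfFinitePresentation P.left := ‹LocallyOfFinitePresentation p›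
  haveI : FormallyUnramified (Over.mk (p ≫ q)).hom := ‹FormallyUnramified (p ≫ q)›
  haveI : LocallyOfFiniteType (Over.mk (p ≫ q)).hom := ‹LocallyOfFiniteType (p ≫ q)›
  exact formallyUnramified_of_fppf_comp_over P

/-- local quasi-finiteness descends along open surjections of the source. -/
theorem locallyQuasiFinite_of_open_surjective_comp {X Y : Scheme.{u}} (p : X ⟶ Y) (q : Y ⟶ S)
    [Surjective p] (hp : IsOpenMap p) [LocallyQuasiFinite (p ≫ q)] [LocallyOfFiniteType q] :
    LocallyQuasiFinite q := by
  rw [locallyQuasiFinite_iff_isDiscrete_preimage_singleton]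
  intro s
  have hd := (p ≫ q).isDiscrete_preimage_singleton s
  rw [isDiscrete_iff_forall_mem_exists_isOpen] at hd ⊢
  intro y hy
  obtain ⟨x, rfl⟩ := p.surjective y
  obtain ⟨U, hU, hUx⟩ := hd x hy
  refine ⟨p '' U, hp U hU, ?_⟩
  ext y'
  constructor
  · rintro ⟨⟨x', hx'U, rfl⟩, hy'⟩
    have : x' ∈ U ∩ (p ≫ q) ⁻¹' {s} := ⟨hx'U, hy'⟩
    rw [hUx] at this
    rw [Set.mem_singleton_iff] at this ⊢
    rw [this]
  · rintro rfl
    have : x ∈ U ∩ (p ≫ q) ⁻¹' {s} := by rw [hUx]; rfl
    exact ⟨⟨x, this.1, rfl⟩, hy⟩

end schemes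

section quot

variable {S : Scheme.{u}} {G G' G'' : Over S} [GrpObj G] (u : G' ⟶ G) [Mono u] (p : G ⟶ G'')

include u in
theorem prop_p_of_prop_ker (P : MorphismProperty Scheme.{u}) [IsZariskiLocalAtTarget P]
    [P.IsStableUnderBaseChange] [P.DescendsAlong (@Surjective ⊓ @Flat ⊓ @QuasiCompact)]
    (hcov : IsFpqcCov p.left) (hsq : IsPullback ((G ◁ u) ≫ μ[G]) (fst G G') p p)
    (h : P G'.hom) : P p.left := by
  have hsqL : IsPullback ((G ◁ u) ≫ μ[G]).left (fst G G').left p.left p.left :=
    hsq.map (Over.forget S)
  have hfl : P (fst G G').left := by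
    rw [Over.fst_left]
    exact MorphismProperty.pullback_fst _ _ h
  exact hcov.descend P hsqL hfl

theorem prop_ker_of_prop_p (P : MorphismProperty Scheme.{u}) [P.IsStableUnderBaseChange]
    (hsq : IsPullback ((G ◁ u) ≫ μ[G]) (fst G G') p p) (h : P p.left) : P G'.hom := by
  have hA := isPullback_ker_of_quot u p hsq
  have hAL : IsPullback u.left (toUnit G').left p.left (η[G] ≫ p).left :=
    hA.map (Over.forget S)
  rw [← toUnit_left_eq]
  exact MorphismProperty.of_isPullback (P := P) hAL h

/-- S5371 -/
theorem quot_fp (hcov : IsFpqcCov p.left)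
    (hsq : IsPullback ((G ◁ u) ≫ μ[G]) (fst G G') p p) :
    ((Flat G'.hom ∧ LocallyOfFinitePresentation G'.hom) ↔
      (Surjective p.left ∧ Flat p.left ∧ LocallyOfFinitePresentation p.left)) ∧
    (Flat p.left → LocallyOfFinitePresentation p.left →
      (LocallyOfFinitePresentation G.hom → LocallyOfFinitePresentation G''.hom) ∧
      (LocallyOfFiniteType G.hom → LocallyOfFiniteType G''.hom) ∧
      (LocallyOfFiniteType G.hom → QuasiCompact G.hom → QuasiCompact G''.hom) ∧
      (Smooth G.hom → Smooth G''.hom) ∧ (Etale G.hom → Etale G''.hom) ∧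
      (FormallyUnramified G.hom → LocallyOfFinitePresentation G.hom →
        FormallyUnramified G''.hom) ∧
      (LocallyQuasiFinite G.hom → LocallyOfFiniteType G.hom → LocallyQuasiFinite G''.hom)) ∧
    (Flat G'.hom → LocallyOfFinitePresentation G'.hom → QuasiCompact G'.hom →
      QuasiSeparated G'.hom →
      QuasiCompact p.left ∧ QuasiSeparated p.left ∧ LocallyOfFinitePresentation p.left ∧
      ((LocallyOfFinitePresentation G.hom ∧ QuasiCompact G.hom ∧ QuasiSeparated G.hom) ↔
        (LocallyOfFinitePresentation G''.hom ∧ QuasiCompact G''.hom ∧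
          QuasiSeparated G''.hom))) := by
  haveI hsurj : Surjective p.left := hcov.surjective
  have hw : p.left ≫ G''.hom = G.hom := Over.w p
  have hlfp : Flat G'.hom → LocallyOfFinitePresentation G'.hom →
      LocallyOfFinitePresentation p.left := fun _ h =>
    prop_p_of_prop_ker u p @LocallyOfFinitePresentation hcov hsq h
  have hflat : Flat G'.hom → Flat p.left := fun h => prop_p_of_prop_ker u p @Flat hcov hsq h
  -- transfer along an fppf `p`
  have key : Flat p.left → LocallyOfFinitePresentation p.left →
      (LocallyOfFinitePresentation G.hom → LocallyOfFinitePresentation G''.hom) ∧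
      (LocallyOfFiniteType G.hom → LocallyOfFiniteType G''.hom) ∧
      (LocallyOfFiniteType G.hom → QuasiCompact G.hom → QuasiCompact G''.hom) := by
    intro hf hp
    haveI := hf
    haveI := hp
    refine ⟨fun h => ?_, fun h => ?_, fun _ h => ?_⟩
    · haveI : LocallyOfFinitePresentation (p.left ≫ G''.hom) := by rw [hw]; exact h
      exact Groth.Agent.Lib.helper5.FppfSource.locallyOfFinitePresentation_of_comp p.left G''.hom
    · haveI : LocallyOfFiniteType (p.left ≫ G''.hom) := by rw [hw]; exact h
      exact Groth.Agent.Lib.helper5.FppfSource.locallyOfFiniteType_of_comp p.left G''.hom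
    · haveI : QuasiCompact (p.left ≫ G''.hom) := by rw [hw]; exact h
      exact Groth.Agent.Lib.helper5.FppfSource.quasiCompact_of_comp_surjective' p.left G''.hom
  refine ⟨⟨fun ⟨h1, h2⟩ => ⟨hsurj, hflat h1, hlfp h1 h2⟩, fun ⟨_, h1, h2⟩ =>
    ⟨prop_ker_of_prop_p u p @Flat hsq h1,
      prop_ker_of_prop_p u p @LocallyOfFinitePresentation hsq h2⟩⟩, ?_, ?_⟩
  · intro hf hp
    obtain ⟨k1, k2, k3⟩ := key hf hp
    haveI := hf
    haveI := hp
    refine ⟨k1, k2, k3, fun h => ?_, fun h => ?_, fun h h' => ?_, fun h h' => ?_⟩
    · haveI : Smooth (p.left ≫ G''.hom) := by rw [hw]; exact h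
      exact Groth.Agent.S0115.result p.left G''.hom
    · haveI := h
      haveI : Flat (p.left ≫ G''.hom) := by rw [hw]; infer_instance
      haveI : FormallyUnramified (p.left ≫ G''.hom) := by rw [hw]; infer_instance
      haveI : LocallyOfFiniteType (p.left ≫ G''.hom) := by rw [hw]; infer_instance
      haveI : Flat G''.hom := Groth.Agent.Lib.helper22.flat_of_flat_comp p.left G''.hom
      haveI : FormallyUnramified G''.hom := formallyUnramified_of_fppf_comp p.left G''.hom
      haveI : LocallyOfFinitePresentation G''.hom := k1 inferInstance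
      exact Etale.of_formallyUnramified_of_flat G''.hom
    · haveI := h
      haveI := h'
      haveI : FormallyUnramified (p.left ≫ G''.hom) := by rw [hw]; infer_instance
      haveI : LocallyOfFiniteType (p.left ≫ G''.hom) := by rw [hw]; infer_instance
      exact formallyUnramified_of_fppf_comp p.left G''.hom
    · haveI := h
      haveI : LocallyQuasiFinite (p.left ≫ G''.hom) := by rw [hw]; infer_instance
      haveI : LocallyOfFiniteType G''.hom := k2 h'
      exact locallyQuasiFinite_of_open_surjective_comp p.left G''.hom p.left.isOpenMap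
  · intro h1 h2 h3 h4
    haveI := Groth.Agent.S0079.result.{u}
    haveI := Groth.Agent.S0080.result.{u}
    have hf := hflat h1
    have hp := hlfp h1 h2
    have hqc : QuasiCompact p.left := prop_p_of_prop_ker u p @QuasiCompact hcov hsq h3
    have hqs : QuasiSeparated p.left := prop_p_of_prop_ker u p @QuasiSeparated hcov hsq h4
    obtain ⟨k1, k2, k3⟩ := key hf hp
    haveI := hf
    haveI := hp
    haveI := hqc
    haveI := hqs
    refine ⟨hqc, hqs, hp, ⟨fun ⟨a, b, c⟩ => ⟨k1 a, ?_, ?_⟩, fun ⟨a, b, c⟩ => ?_⟩⟩
    · haveI := a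
      exact k3 inferInstance b
    · haveI : QuasiSeparated (p.left ≫ G''.hom) := by rw [hw]; exact c
      exact Groth.Agent.Lib.helper5.FppfSource.quasiSeparated_of_comp_surjective p.left G''.hom
    · haveI := a
      haveI := b
      haveI := c
      rw [← hw]
      exact ⟨inferInstance, inferInstance, inferInstance⟩

end quot

end Groth.Agent.Lib.helper5.HCov
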