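import Mathlib
import Groth.Agent.Lib.Helper5.GrpMonoClosed3
import Groth.Agent.Lib.Helper5.GrpHomog
import Groth.Agent.Lib.Helper5.DimArt

/-!
# Image and dimension of a quasi-compact homomorphism of group schemes over a local artinian ring (helper5)

* `dim_pullback_eq_dim_preimage`: `dim (X ×_Y Z) = dim f⁻¹(g(Z))` for an immersion `g`.
* `isImmersion_unit`: the unit section of a group scheme is an immersion.
* `exists_nat_dim`: a group scheme locally of finite type over a field has finite dimension.
* `isClosed_range_and_dim_eq_field`, `isClosed_range_and_dim_eq_artinian` (S3016, SGA3 VI_B 1.2 / VI_A 2.5.2):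
  for a quasi-compact homomorphism `u : G ⟶ H` of group schemes locally of finite type over a local artinian ring,
  `u(G)` is closed and `dim G = dim u(G) + dim Ker u`.
-/

set_option autoImplicit false
set_option linter.style.haveILetI false
universe u
open CategoryTheory MonoidalCategory CartesianMonoidalCategory MonObj GrpObj AlgebraicGeometry
  CategoryTheory.Limits

namespace Groth.Agent.Lib.helper5.HomDim

open Groth.Agent.Lib.Helper14.BCAct Groth.Agent.Lib.helper5.GrpMonoClosed FlatMor

section top

/-- the dimension of a scheme-theoretic fibre product with an immersion is the dimension of the preimage -/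
theorem dim_pullback_eq_dim_preimage {X Y Z : Scheme.{u}} (f : X ⟶ Y) (g : Z ⟶ Y) [IsImmersion g] :
    topologicalKrullDim ↥(pullback f g) = topologicalKrullDim ↥(f ⁻¹' Set.range g) := by
  have hemb : Topology.IsEmbedding (pullback.fst f g) := (pullback.fst f g).isEmbedding
  have hr : Set.range (pullback.fst f g) = f ⁻¹' Set.range g := Scheme.Pullback.range_fst f g
  rw [← hr]
  exact IsHomeomorph.topologicalKrullDim_eq _ hemb.toHomeomorph.isHomeomorph

theorem isImmersion_unit {S : Scheme.{u}} (H : Over S) [GrpObj H] :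
    IsImmersion (η[H] : 𝟙_ (Over S) ⟶ H).left := by
  haveI : IsImmersion ((η[H] : 𝟙_ (Over S) ⟶ H).left ≫ H.hom) := by
    rw [Over.w]
    exact inferInstanceAs (IsImmersion (𝟙 S))
  exact IsImmersion.of_comp _ H.hom

end top


theorem eq_natCast_sub (n c : ℕ) (x : WithBot ℕ∞) (h : (n : WithBot ℕ∞) = c + x) :
    x = ((n - c : ℕ) : WithBot ℕ∞) := by
  induction x using WithBot.recBotCoe with
  | bot => simp at h
  | coe y =>
    induction y using ENat.recTopCoe with
    | top =>
      exfalso
      have : ((c : ℕ∞) + ⊤ : ℕ∞) = ⊤ := by simp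
      have h2 : (n : WithBot ℕ∞) = ((⊤ : ℕ∞) : WithBot ℕ∞) := by
        rw [h, ← this]; push_cast; rfl
      have h3 : ((n : ℕ∞) : WithBot ℕ∞) = ((⊤ : ℕ∞) : WithBot ℕ∞) := h2
      rw [WithBot.coe_inj] at h3
      exact ENat.natCast_ne_top n h3
    | coe m =>
      have h2 : (((n : ℕ) : ℕ∞) : WithBot ℕ∞) = (((c + m : ℕ) : ℕ∞) : WithBot ℕ∞) := by
        rw [show (((n : ℕ) : ℕ∞) : WithBot ℕ∞) = (n : WithBot ℕ∞) from rfl, h]; push_cast; rfl
      rw [WithBot.coe_inj] at h2
      have h3 : n = c + m := by exact_mod_cast h2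
      have : m = n - c := by omega
      rw [this]; rfl

section field

variable (k : Type u) [Field k]

theorem exists_nat_dim (G : Over (Spec (CommRingCat.of k))) [GrpObj G] [LocallyOfFiniteType G.hom] :
    ∃ n : ℕ, topologicalKrullDim ↥G.left = (n : WithBot ℕ∞) := by
  let g : G.left := η[G].left (show ↥(Spec (CommRingCat.of k)) from default)
  haveI : LocallyOfFiniteType (G.left ↘ Spec (CommRingCat.of k)) :=
    inferInstanceAs (LocallyOfFiniteType G.hom)
  obtain ⟨a, b, -, -, hab⟩ :=
    Groth.Agent.Lib.helper3.IrredDim.localDim_eq_trdeg_add_stalk k G.left g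
  refine ⟨a + b, ?_⟩
  rw [← Groth.Agent.Lib.helper5.GrpHomog.localDim_eq_dim k G g, hab]

theorem isClosed_range_and_dim_eq_field (G H : Over (Spec (CommRingCat.of k))) [GrpObj G] [GrpObj H]
    [LocallyOfFiniteType G.hom] [LocallyOfFiniteType H.hom] (u : G ⟶ H) [IsMonHom u]
    [QuasiCompact u.left] :
    IsClosed (Set.range u.left.base) ∧
    topologicalKrullDim ↥G.left = topologicalKrullDim ↥(Set.range u.left.base) +
      topologicalKrullDim
        ↥(pullback u.left (η[H] : 𝟙_ (Over (Spec (CommRingCat.of k))) ⟶ H).left) := by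
  have hN : Flat (pullback.snd u.left (η[H] : 𝟙_ (Over (Spec (CommRingCat.of k))) ⟶ H).left) :=
    inferInstanceAs (Flat (Y := Spec (CommRingCat.of k)) (pullback.snd u.left
      (η[H] : 𝟙_ (Over (Spec (CommRingCat.of k))) ⟶ H).left))
  obtain ⟨C, str, p, i, hpm, him, e, hf, hs, hpp, hi⟩ := hom_factor_artinian k G H u hN
  haveI := hi
  haveI := hf
  haveI := hs
  haveI := hpm
  haveI := him
  have hrange : Set.range u.left.base = Set.range i.left.base := by
    rw [← e, Over.comp_left]
    ext y
    constructor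
    · rintro ⟨x, rfl⟩
      exact ⟨p.left x, by simp⟩
    · rintro ⟨c, rfl⟩
      obtain ⟨x, rfl⟩ := hs.surj c
      exact ⟨x, by simp⟩
  refine ⟨?_, ?_⟩
  · rw [hrange]
    exact i.left.isClosedEmbedding.isClosed_range
  -- lft of C
  haveI : LocallyOfFiniteType C.hom := by
    rw [← Over.w i]
    infer_instance
  -- dim of the range
  have hdimC : topologicalKrullDim ↥(Set.range u.left.base) = topologicalKrullDim ↥C.left := by
    rw [hrange]
    exact (IsHomeomorph.topologicalKrullDim_eq _
      i.left.isEmbedding.toHomeomorph.isHomeomorph).symm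
  rw [hdimC]
  haveI := isImmersion_unit H
  rw [dim_pullback_eq_dim_preimage]
  -- the fibre
  set F : Set G.left := u.left.base ⁻¹' Set.range (η[H] : 𝟙_ (Over (Spec (CommRingCat.of k))) ⟶ H).left.base
    with hF
  obtain ⟨n, hn⟩ := exists_nat_dim k G
  obtain ⟨c, hc⟩ := exists_nat_dim k C
  -- the unit point of C maps to the unit point of H
  have hiη : (η[C] : 𝟙_ (Over (Spec (CommRingCat.of k))) ⟶ C).left ≫ i.left =
      (η[H] : 𝟙_ (Over (Spec (CommRingCat.of k))) ⟶ H).left := by
    rw [← Over.comp_left, IsMonHom.one_hom]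
  have hpη : (η[G] : 𝟙_ (Over (Spec (CommRingCat.of k))) ⟶ G).left ≫ p.left =
      (η[C] : 𝟙_ (Over (Spec (CommRingCat.of k))) ⟶ C).left := by
    rw [← Over.comp_left, IsMonHom.one_hom]
  let pt : (𝟙_ (Over (Spec (CommRingCat.of k)))).left := show ↥(Spec (CommRingCat.of k)) from default
  have hsub : ∀ z : (𝟙_ (Over (Spec (CommRingCat.of k)))).left, z = pt := fun z =>
    Subsingleton.elim (α := PrimeSpectrum k) _ _
  let eC : C.left := (η[C] : 𝟙_ (Over (Spec (CommRingCat.of k))) ⟶ C).left pt
  have hFeq : F = p.left.base ⁻¹' {eC} := by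
    ext x
    simp only [hF, Set.mem_preimage, Set.mem_range, Set.mem_singleton_iff]
    constructor
    · rintro ⟨z, hz⟩
      rw [hsub z] at hz
      apply i.left.isEmbedding.injective
      have h1 : i.left (p.left x) = u.left x := by rw [← e, Over.comp_left]; simp
      have h2 : i.left eC = (η[H] : 𝟙_ (Over (Spec (CommRingCat.of k))) ⟶ H).left pt := by
        rw [← hiη]; simp [eC]
      rw [h1, h2]
      exact hz.symm
    · intro hx
      refine ⟨pt, ?_⟩
      have h1 : i.left (p.left x) = u.left x := by rw [← e, Over.comp_left]; simp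
      have h2 : i.left eC = (η[H] : 𝟙_ (Over (Spec (CommRingCat.of k))) ⟶ H).left pt := by
        rw [← hiη]; simp [eC]
      change _ = u.left x
      rw [← h1, hx, h2]
  have key : ∀ (f : G.left) (hf : f ∈ F), FlatMor.localDim ↥F ⟨f, hf⟩ = ((n - c : ℕ) : WithBot ℕ∞) := by
    intro f hf
    have hpf : p.left f = eC := by rw [hFeq] at hf; exact hf
    have h1 := Groth.Agent.Lib.helper5.FieldBC.localDim_eq_add_fibreDimAt k G.hom C.hom p.left
      (Over.w p) f
    rw [Groth.Agent.Lib.helper5.GrpHomog.localDim_eq_dim k G f,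
      Groth.Agent.Lib.helper5.GrpHomog.localDim_eq_dim k C (p.left f), hn, hc] at h1
    have h2 := eq_natCast_sub n c _ h1
    rw [← h2, Groth.Agent.Lib.helper5.FibreDimLocal.fibreDimAt_eq_localDim_preimage]
    have hset : F = p.left ⁻¹' {p.left f} := by rw [hpf]; exact hFeq
    exact Groth.Agent.Lib.helper5.FibreDimLocal.localDim_congr_set hset f hf
  let eG : G.left := (η[G] : 𝟙_ (Over (Spec (CommRingCat.of k))) ⟶ G).left pt
  have heG : eG ∈ F := by
    rw [hFeq]
    change p.left eG = eC
    have := congrArg (fun t : (𝟙_ (Over (Spec (CommRingCat.of k)))).left ⟶ C.left => t pt) hpη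
    simpa [eG, eC] using this
  haveI : Nonempty ↥F := ⟨⟨eG, heG⟩⟩
  have hdimF : topologicalKrullDim ↥F = ((n - c : ℕ) : WithBot ℕ∞) := by
    rw [Groth.Agent.Lib.helper5.FieldBC.dim_eq_iSup_localDim]
    have : (fun f : ↥F => FlatMor.localDim ↥F f) = fun _ => ((n - c : ℕ) : WithBot ℕ∞) :=
      funext fun f => key f.1 f.2
    rw [this, iSup_const]
  have h1 := Groth.Agent.Lib.helper5.FieldBC.localDim_eq_add_fibreDimAt k G.hom C.hom p.left
    (Over.w p) eG
  rw [Groth.Agent.Lib.helper5.GrpHomog.localDim_eq_dim k G eG,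
    Groth.Agent.Lib.helper5.GrpHomog.localDim_eq_dim k C (p.left eG), hn, hc] at h1
  have h2 := eq_natCast_sub n c _ h1
  rw [hdimF, hn, hc, h1, h2]

end field


section artinian

variable (A : Type u) [CommRing A] [IsLocalRing A] [IsArtinianRing A]

theorem isClosed_range_and_dim_eq_artinian (G H : Over (Spec (CommRingCat.of A))) [GrpObj G]
    [GrpObj H] [LocallyOfFiniteType G.hom] [LocallyOfFiniteType H.hom] (u : G ⟶ H) [IsMonHom u]
    [QuasiCompact u.left] :
    IsClosed (Set.range u.left.base) ∧
    topologicalKrullDim ↥G.left = topologicalKrullDim ↥(Set.range u.left.base) +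
      topologicalKrullDim
        ↥(pullback u.left (η[H] : 𝟙_ (Over (Spec (CommRingCat.of A))) ⟶ H).left) := by
  let uk : Red.bc (resMap A) G ⟶ Red.bc (resMap A) H := (Over.pullback (resMap A)).map u
  haveI : IsMonHom uk := inferInstance
  have sq : IsPullback (prL (resMap A) G) uk.left u.left (prL (resMap A) H) :=
    isPullback_map_left (resMap A) u
  haveI : QuasiCompact uk.left := MorphismProperty.of_isPullback (P := @QuasiCompact) sq inferInstance
  haveI : LocallyOfFiniteType (Red.bc (resMap A) G).hom :=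
    inferInstanceAs (LocallyOfFiniteType (pullback.snd G.hom (resMap A)))
  haveI : LocallyOfFiniteType (Red.bc (resMap A) H).hom :=
    inferInstanceAs (LocallyOfFiniteType (pullback.snd H.hom (resMap A)))
  obtain ⟨l, hl⟩ := exists_isPullback_ker_bc (resMap A) u
  obtain ⟨hcl, hdim⟩ := isClosed_range_and_dim_eq_field (IsLocalRing.ResidueField A)
    (Red.bc (resMap A) G) (Red.bc (resMap A) H) uk
  have hG := Groth.Agent.Lib.helper5.DimArt.isHomeomorph_prL (resMap A) G
  have hH := Groth.Agent.Lib.helper5.DimArt.isHomeomorph_prL (resMap A) H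
  -- the kernel
  haveI : IsClosedImmersion l := MorphismProperty.of_isPullback (P := @IsClosedImmersion) hl.flip
    inferInstance
  haveI : Surjective l := MorphismProperty.of_isPullback (P := @Surjective) hl.flip inferInstance
  have hl' : IsHomeomorph l :=
    Groth.Agent.Lib.helper12.isHomeomorph_of_isClosedImmersion_of_surjective l
  have hrange : Set.range u.left.base = (prL (resMap A) H).base '' Set.range uk.left.base := by
    ext y
    constructor
    · rintro ⟨x, rfl⟩
      obtain ⟨x', rfl⟩ := hG.surjective x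
      refine ⟨uk.left x', ⟨x', rfl⟩, ?_⟩
      have := congrArg (fun t : (Red.bc (resMap A) G).left ⟶ H.left => t x') sq.w
      simpa using this.symm
    · rintro ⟨_, ⟨x', rfl⟩, rfl⟩
      refine ⟨prL (resMap A) G x', ?_⟩
      have := congrArg (fun t : (Red.bc (resMap A) G).left ⟶ H.left => t x') sq.w
      simpa using this
  refine ⟨?_, ?_⟩
  · rw [hrange]
    exact hH.isClosedMap _ hcl
  · have h1 : topologicalKrullDim ↥G.left = topologicalKrullDim ↥(Red.bc (resMap A) G).left :=
      (IsHomeomorph.topologicalKrullDim_eq _ hG).symm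
    have h2 : topologicalKrullDim ↥(Set.range u.left.base) =
        topologicalKrullDim ↥(Set.range uk.left.base) := by
      rw [hrange]
      exact (IsHomeomorph.topologicalKrullDim_eq _
        (hH.homeomorph.image (Set.range uk.left.base)).isHomeomorph).symm
    have h3 := IsHomeomorph.topologicalKrullDim_eq _ hl'
    rw [h1, h2, ← h3]
    exact hdim

end artinian

end Groth.Agent.Lib.helper5.HomDim
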