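/-
helper5: base change of a homogeneous action. For `g : S' ⟶ S`, the map `(γ, x) ↦ (γ x, x)` of the base changed action is
the base change of the one of the original action; in particular it stays surjective.
-/
import Mathlib
import Groth.Agent.Lib.Helper14.BCAct

set_option autoImplicit false
set_option linter.style.haveILetI false
universe u
open CategoryTheory CategoryTheory.Limits MonoidalCategory CartesianMonoidalCategory MonObj GrpObj
  AlgebraicGeometry
open Groth.Agent.Lib.Helper14.BCAct

namespace Groth.Agent.Lib.helper5.HomogFibre

variable {S S' : Scheme.{u}} (g : S' ⟶ S) {G X : Over S} [GrpObj G] (a : AlgGrp.Action G X)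

theorem μ_map_Φ :
    Functor.LaxMonoidal.μ (Over.pullback g) G X ≫ (Over.pullback g).map (lift a.act (snd G X)) =
      lift (bcAction g a).act (snd (Red.bc g G) (Red.bc g X)) ≫
        Functor.LaxMonoidal.μ (Over.pullback g) X X := by
  apply (cancel_mono (Functor.Monoidal.μIso (Over.pullback g) X X).inv).1
  apply CartesianMonoidalCategory.hom_ext
  · simp [bcAction, ← Functor.map_comp]
  · simp [bcAction, ← Functor.map_comp]

theorem Φ_prT :
    (lift (bcAction g a).act (snd (Red.bc g G) (Red.bc g X))).left ≫ prT g X X =
      prT g G X ≫ (lift a.act (snd G X)).left := by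
  have h := congrArg (fun t => t.left) (μ_map_Φ g a)
  simp only [Over.comp_left] at h
  rw [prT, ← Category.assoc, ← h, Category.assoc, map_left_prL, prT, Category.assoc]

theorem isPullback_Φ :
    IsPullback (prT g G X) (lift (bcAction g a).act (snd (Red.bc g G) (Red.bc g X))).left
      (lift a.act (snd G X)).left (prT g X X) := by
  have h1 := isPullback_map_left g (lift a.act (snd G X))
  haveI : IsIso (Functor.LaxMonoidal.μ (Over.pullback g) G X).left :=
    inferInstanceAs (IsIso ((Over.forget _).map (Functor.LaxMonoidal.μ (Over.pullback g) G X)))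
  haveI : IsIso (Functor.LaxMonoidal.μ (Over.pullback g) X X).left :=
    inferInstanceAs (IsIso ((Over.forget _).map (Functor.LaxMonoidal.μ (Over.pullback g) X X)))
  have h := congrArg (fun t => t.left) (μ_map_Φ g a)
  simp only [Over.comp_left] at h
  have h2 : IsPullback (Functor.LaxMonoidal.μ (Over.pullback g) G X).left
      (lift (bcAction g a).act (snd (Red.bc g G) (Red.bc g X))).left
      ((Over.pullback g).map (lift a.act (snd G X))).left
      (Functor.LaxMonoidal.μ (Over.pullback g) X X).left :=
    IsPullback.of_horiz_isIso ⟨h⟩
  exact h2.paste_horiz h1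

theorem surjective_Φ_bc (hΦ : Surjective (lift a.act (snd G X)).left) :
    Surjective (lift (bcAction g a).act (snd (Red.bc g G) (Red.bc g X))).left :=
  MorphismProperty.of_isPullback (P := @Surjective) (isPullback_Φ g a) hΦ

end Groth.Agent.Lib.helper5.HomogFibre
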