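/-
helper5: maximal points (points without proper generizations) of topological spaces.

* `IsMaxPt`, `IsMaxPt.map_of_generalizingMap`, `IsMaxPt.map_homeomorph`, `IsMaxPt.closure_mem_irreducibleComponents`,
  `isMaxPt_of_isGenericPoint`, `exists_isMaxPt_specializes`.
* `preimage_mem_irreducibleComponents`: an irreducible preimage of an irreducible component under a surjection is a component.
* `unique_component_of_generalizingMap`: "lies in a unique irreducible component" descends along generalizing maps.
-/
import Mathlib

set_option autoImplicit false
open Topology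

namespace Groth.Agent.Lib.helper5.MaxPt

variable {E B : Type*} [TopologicalSpace E] [TopologicalSpace B]

/-- a point with no proper generization -/
def IsMaxPt (x : E) : Prop := ∀ y : E, y ⤳ x → y = x

theorem IsMaxPt.map_of_generalizingMap {p : E → B} (hg : GeneralizingMap p) {e : E} (he : IsMaxPt e) :
    IsMaxPt (p e) := by
  intro b hb
  obtain ⟨e', he', rfl⟩ := hg hb
  rw [he e' he']

theorem IsMaxPt.map_homeomorph (h : E ≃ₜ B) {e : E} (he : IsMaxPt e) : IsMaxPt (h e) := by
  intro b hb
  have h1 : h.symm b ⤳ e := by
    have := hb.map h.symm.continuous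
    rwa [h.symm_apply_apply] at this
  rw [← he _ h1, h.apply_symm_apply]

/-- in a quasi-sober space, the closure of a maximal point is an irreducible component -/
theorem IsMaxPt.closure_mem_irreducibleComponents [QuasiSober E] {x : E} (hx : IsMaxPt x) :
    closure {x} ∈ irreducibleComponents E := by
  refine ⟨isIrreducible_singleton.closure, ?_⟩
  intro Z hZ hle
  have hZc : IsIrreducible (closure Z) := hZ.closure
  obtain ⟨z, hz⟩ := QuasiSober.sober hZc isClosed_closure
  have hzx : z ⤳ x := hz.specializes (subset_closure (hle (subset_closure rfl)))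
  have := hx z hzx
  subst this
  have h1 : closure {z} = closure Z := isGenericPoint_def.mp hz
  rw [h1]
  exact subset_closure

/-- the generic point of an irreducible component is a maximal point -/
theorem isMaxPt_of_isGenericPoint [T0Space E] {x : E} {Z : Set E} (hZ : Z ∈ irreducibleComponents E)
    (hx : IsGenericPoint x Z) : IsMaxPt x := by
  intro y hy
  have h1 : Z ⊆ closure {y} := by
    rw [← isGenericPoint_def.mp hx]
    exact closure_minimal (Set.singleton_subset_iff.mpr hy.mem_closure) isClosed_closure
  have h2 : closure {y} ⊆ Z := hZ.2 isIrreducible_singleton.closure h1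
  have h3 : closure {y} = closure {x} := by
    rw [isGenericPoint_def.mp hx]
    exact Set.Subset.antisymm h2 h1
  have : Inseparable y x := by
    rw [inseparable_iff_closure_eq]
    exact h3
  exact this.eq

/-- every point has a maximal generization (quasi-sober space) -/
theorem exists_isMaxPt_specializes [QuasiSober E] [T0Space E] (x : E) : ∃ y : E, IsMaxPt y ∧ y ⤳ x := by
  have hmem := irreducibleComponent_mem_irreducibleComponents x
  obtain ⟨y, hy⟩ := QuasiSober.sober (isIrreducible_irreducibleComponent (x := x)) isClosed_irreducibleComponent
  exact ⟨y, isMaxPt_of_isGenericPoint hmem hy, hy.specializes mem_irreducibleComponent⟩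

/-- if the preimage of an irreducible component under a surjective continuous map is irreducible, it is an
irreducible component -/
theorem preimage_mem_irreducibleComponents {p : E → B} (hc : Continuous p) (hs : Function.Surjective p)
    {D : Set B} (hD : D ∈ irreducibleComponents B) (hirr : IsIrreducible (p ⁻¹' D)) :
    p ⁻¹' D ∈ irreducibleComponents E := by
  refine ⟨hirr, ?_⟩
  intro Z hZ hle
  have h1 : IsIrreducible (p '' Z) := hZ.image p hc.continuousOn
  have h2 : D ⊆ p '' Z := by
    intro d hd
    obtain ⟨e, rfl⟩ := hs d
    exact ⟨e, hle hd, rfl⟩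
  have h3 : p '' Z ⊆ D := hD.2 h1 h2
  intro z hz
  exact h3 ⟨z, hz, rfl⟩

/-- descent of "lies in a unique irreducible component" along a generalizing continuous map (helper3) -/
theorem unique_component_of_generalizingMap [QuasiSober E] [QuasiSober B] {p : E → B} (hc : Continuous p)
    (hg : GeneralizingMap p) (e : E)
    (hu : ∀ C₁ ∈ irreducibleComponents E, ∀ C₂ ∈ irreducibleComponents E, e ∈ C₁ → e ∈ C₂ → C₁ = C₂)
    (T₁ T₂ : Set B) (h₁ : T₁ ∈ irreducibleComponents B) (h₂ : T₂ ∈ irreducibleComponents B)
    (hx₁ : p e ∈ T₁) (hx₂ : p e ∈ T₂) : T₁ = T₂ := by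
  obtain ⟨c', hc'⟩ := QuasiSober.sober (isIrreducible_irreducibleComponent (x := e)) isClosed_irreducibleComponent
  have key : ∀ T ∈ irreducibleComponents B, p e ∈ T → T = closure {p c'} := by
    intro T hT hxT
    have hTc : IsClosed T := isClosed_of_mem_irreducibleComponents T hT
    obtain ⟨y, hy⟩ := QuasiSober.sober hT.1 hTc
    have hyx : y ⤳ p e := hy.specializes hxT
    obtain ⟨y', hy', hπy'⟩ := hg hyx
    have hmemC : irreducibleComponent y' ∈ irreducibleComponents E :=
      irreducibleComponent_mem_irreducibleComponents y'
    have hxC : e ∈ irreducibleComponent y' :=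
      hy'.mem_closed isClosed_irreducibleComponent mem_irreducibleComponent
    have heq : irreducibleComponent y' = irreducibleComponent e :=
      hu _ hmemC _ (irreducibleComponent_mem_irreducibleComponents e) hxC mem_irreducibleComponent
    have hy'C : y' ∈ irreducibleComponent e := heq ▸ mem_irreducibleComponent
    have hsp : p c' ⤳ y := by
      have h1 : c' ⤳ y' := hc'.specializes hy'C
      have := h1.map hc
      rwa [hπy'] at this
    have hyT : closure {y} = T := isGenericPoint_def.mp hy
    have hle : T ⊆ closure {p c'} := by
      rw [← hyT]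
      exact closure_minimal (Set.singleton_subset_iff.mpr hsp.mem_closure) isClosed_closure
    exact Set.Subset.antisymm hle (hT.2 isIrreducible_singleton.closure hle)
  rw [key T₁ h₁ hx₁, key T₂ h₂ hx₂]

end Groth.Agent.Lib.helper5.MaxPt
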