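/-
helper5: maximal points and base change.

* `isMaxPt_of_isPullback`: in a cartesian square `A' = A ×_B B'` of schemes, a maximal point of `A'` whose image in `B` is
  maximal has maximal image in `B'` (flatness of residue field extensions).
-/
import Mathlib
import Groth.Agent.Lib.Helper5.MaxPt1

set_option autoImplicit false
set_option linter.style.haveILetI false
universe u
open CategoryTheory CategoryTheory.Limits AlgebraicGeometry Topology
open Groth.Agent.Lib.helper5.MaxPt

namespace Groth.Agent.Lib.helper5.MaxPtSch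

/-- `Spec` of a homomorphism of fields is flat -/
theorem flat_of_field {K L : Type u} [Field K] [Field L] (φ : K →+* L) : φ.Flat := by
  letI := φ.toAlgebra
  show Module.Flat K L
  infer_instance

/-- **L5**: in a cartesian square `A' = A ×_B B'`, a maximal point of `A'` whose image in `B` is maximal has
maximal image in `B'`. -/
theorem isMaxPt_of_isPullback {A A' B B' : Scheme.{u}} {p : A' ⟶ A} {f' : A' ⟶ B'} {f : A ⟶ B} {q : B' ⟶ B}
    (sq : IsPullback p f' f q) (a' : A') (ha' : IsMaxPt a') (hb : IsMaxPt (f (p a'))) :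
    IsMaxPt (f' a') := by
  intro ω' hω'
  set a := p a' with ha
  set b := f a with hbdef
  have hqω : q (f' a') = b := by
    rw [← Scheme.Hom.comp_apply, ← sq.w, Scheme.Hom.comp_apply]
  have hqω' : q ω' = b := by
    apply hb
    have := hω'.map q.continuous
    rwa [hqω] at this
  let ιa := A.fromSpecResidueField a
  let ιb := B.fromSpecResidueField b
  let r : Spec (A.residueField a) ⟶ Spec (B.residueField b) := Spec.map (f.residueFieldMap a)
  have hr : r ≫ ιb = ιa ≫ f := Scheme.Hom.SpecMap_residueFieldMap_fromSpecResidueField f a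
  haveI : Flat r := by
    rw [HasRingHomProperty.Spec_iff (P := @Flat)]
    exact flat_of_field _
  -- the fibres
  let m : pullback ιa p ⟶ pullback ιb q :=
    pullback.map ιa p ιb q r f' f hr.symm sq.w
  have hm1 : m ≫ pullback.fst ιb q = pullback.fst ιa p ≫ r := pullback.lift_fst _ _ _
  have hm2 : m ≫ pullback.snd ιb q = pullback.snd ιa p ≫ f' := pullback.lift_snd _ _ _
  have sqP : IsPullback (pullback.snd ιa p) (pullback.fst ιa p) p ιa :=
    (IsPullback.of_hasPullback ιa p).flip
  have sqQ : IsPullback (pullback.snd ιb q) (pullback.fst ιb q) q ιb :=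
    (IsPullback.of_hasPullback ιb q).flip
  have outer : IsPullback (pullback.snd ιa p ≫ f') (pullback.fst ιa p) q (ιa ≫ f) :=
    sqP.paste_horiz sq.flip
  rw [← hr, ← hm2] at outer
  have sqm : IsPullback m (pullback.fst ιa p) (pullback.fst ιb q) r :=
    IsPullback.of_right outer hm1 sqQ
  haveI : Flat m := MorphismProperty.of_isPullback (P := @Flat) sqm.flip inferInstance
  have hgen : GeneralizingMap m := Flat.generalizingMap m
  -- points
  obtain ⟨x₀⟩ : Nonempty (Spec (A.residueField a)) := inferInstance
  obtain ⟨pt, -, hpt⟩ := Scheme.Pullback.exists_preimage_pullback (f := ιa) (g := p) x₀ a'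
    (Scheme.fromSpecResidueField_apply a x₀)
  obtain ⟨y₀⟩ : Nonempty (Spec (B.residueField b)) := inferInstance
  obtain ⟨q', -, hq'⟩ := Scheme.Pullback.exists_preimage_pullback (f := ιb) (g := q) y₀ ω'
    ((Scheme.fromSpecResidueField_apply b y₀).trans hqω'.symm)
  have hmpt : pullback.snd ιb q (m pt) = f' a' := by
    rw [← Scheme.Hom.comp_apply, hm2, Scheme.Hom.comp_apply, hpt]
  have hemb : IsEmbedding (pullback.snd ιb q) := Scheme.Hom.isEmbedding _
  have hsp : q' ⤳ m pt := by
    rw [← hemb.isInducing.specializes_iff, hq', hmpt]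
    exact hω'
  obtain ⟨p', hp', hmp'⟩ := hgen hsp
  have h1 : pullback.snd ιa p p' ⤳ a' := by
    have := hp'.map (pullback.snd ιa p).continuous
    rwa [hpt] at this
  have h2 : pullback.snd ιa p p' = a' := ha' _ h1
  rw [← hq', ← hmp', ← Scheme.Hom.comp_apply, hm2, Scheme.Hom.comp_apply, h2]

end Groth.Agent.Lib.helper5.MaxPtSch
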