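/-
helper5: cartesian squares for the `T`-point calculus.

* `isPullback_whiskerLeft(_left)`: `X ⊗ T' = (X ⊗ T) ×_T T'`. `isPullback_orbT(_left)`: orbit maps at two levels.
* `isPullback_orbT_Φ`, `surjective_orbT`: the orbit map at level `T` is a base change of `(g, x) ↦ (g x, x)`.
-/
import Mathlib
import Groth.Agent.Lib.Helper5.HomogT1
import Groth.Agent.Lib.Helper5.MaxPt2

set_option autoImplicit false
set_option linter.style.haveILetI false
universe u
open CategoryTheory CategoryTheory.Limits MonoidalCategory CartesianMonoidalCategory MonObj GrpObj
  AlgebraicGeometry Topology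
open Groth.Agent.Lib.helper22 Groth.Agent.Lib.helper5.MaxPt

namespace Groth.Agent.Lib.helper5.HomogT

variable {S : Scheme.{u}} {G X : Over S} [GrpObj G] (a : AlgGrp.Action G X)

section squares

variable {T T' : Over S} (s : T' ⟶ T)

/-- `X ⊗ T' = (X ⊗ T) ×_T T'` -/
theorem isPullback_whiskerLeft (X : Over S) : IsPullback (X ◁ s) (snd X T') (snd X T) s := by
  apply isPullback_of_points
  · simp
  · intro R p q hpq
    refine ⟨lift (p ≫ fst X T) q, ?_, by simp⟩
    apply CartesianMonoidalCategory.hom_ext
    · simp
    · simp [hpq]
  · intro R l l' h1 h2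
    apply CartesianMonoidalCategory.hom_ext
    · have := congrArg (fun t => t ≫ fst X T) h1
      simpa using this
    · exact h2

theorem isPullback_whiskerLeft_left (X : Over S) :
    IsPullback (X ◁ s).left (snd X T').left (snd X T).left s.left :=
  (isPullback_whiskerLeft s X).map (Over.forget S)

/-- the orbit maps at two levels form a cartesian square -/
theorem isPullback_orbT (y : T ⟶ X) :
    IsPullback (G ◁ s) (orbT a (s ≫ y)) (orbT a y) (X ◁ s) := by
  apply isPullback_of_points
  · exact (orbT_whiskerLeft a s y).symm
  · intro R p q hpq
    have h2 : p ≫ snd G T = q ≫ snd X T' ≫ s := by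
      have := congrArg (fun t => t ≫ snd X T) hpq
      simpa using this
    have h1 : q ≫ fst X T' = smul a (p ≫ fst G T) (p ≫ snd G T ≫ y) := by
      have := congrArg (fun t => t ≫ fst X T) hpq
      simp only [Category.assoc, orbT_fst, whiskerLeft_fst] at this
      rw [comp_smul] at this
      simpa using this.symm
    refine ⟨lift (p ≫ fst G T) (q ≫ snd X T'), ?_, ?_⟩
    · apply CartesianMonoidalCategory.hom_ext
      · simp
      · simp [h2]
    · apply CartesianMonoidalCategory.hom_ext
      · simp only [Category.assoc, orbT_fst]
        rw [comp_smul, h1]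
        simp only [lift_fst, lift_snd_assoc]
        rw [← Category.assoc, ← Category.assoc, Category.assoc q, ← h2, Category.assoc]
      · simp
  · intro R l l' h1 h2
    apply CartesianMonoidalCategory.hom_ext
    · have := congrArg (fun t => t ≫ fst G T) h1
      simpa using this
    · have := congrArg (fun t => t ≫ snd X T') h2
      simpa using this

theorem isPullback_orbT_left (y : T ⟶ X) :
    IsPullback (G ◁ s).left (orbT a (s ≫ y)).left (orbT a y).left (X ◁ s).left :=
  (isPullback_orbT a s y).map (Over.forget S)

end squares

section surj

variable {T : Over S}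

/-- the orbit map at level `T` is a base change of `(g, x) ↦ (g x, x)` -/
theorem isPullback_orbT_Φ (y : T ⟶ X) :
    IsPullback (orbT a y) (G ◁ y) (X ◁ y) (lift a.act (snd G X)) := by
  apply isPullback_of_points
  · apply CartesianMonoidalCategory.hom_ext
    · simp only [Category.assoc, whiskerLeft_fst, orbT_fst, lift_fst]
      rw [act_eq_smul a, comp_smul]
      simp
    · simp
  · intro R p q hpq
    have h2 : p ≫ snd X T ≫ y = q ≫ snd G X := by
      have := congrArg (fun t => t ≫ snd X X) hpq
      simpa using this
    have h1 : p ≫ fst X T = smul a (q ≫ fst G X) (q ≫ snd G X) := by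
      have := congrArg (fun t => t ≫ fst X X) hpq
      simp only [Category.assoc, whiskerLeft_fst, lift_fst] at this
      rw [this, act_eq_smul a, comp_smul]
    refine ⟨lift (q ≫ fst G X) (p ≫ snd X T), ?_, ?_⟩
    · apply CartesianMonoidalCategory.hom_ext
      · simp only [Category.assoc, orbT_fst]
        rw [comp_smul, h1]
        simp [h2]
      · simp
    · apply CartesianMonoidalCategory.hom_ext
      · simp
      · simp [h2]
  · intro R l l' h1 h2
    apply CartesianMonoidalCategory.hom_ext
    · have := congrArg (fun t => t ≫ fst G X) h2
      simpa using this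
    · have := congrArg (fun t => t ≫ snd X T) h1
      simpa using this

theorem surjective_orbT (hΦ : Surjective (lift a.act (snd G X)).left) (y : T ⟶ X) :
    Surjective (orbT a y).left := by
  have sq : IsPullback (orbT a y).left (G ◁ y).left (X ◁ y).left (lift a.act (snd G X)).left :=
    (isPullback_orbT_Φ a y).map (Over.forget S)
  exact MorphismProperty.of_isPullback (P := @Surjective) sq.flip hΦ

end surj

end Groth.Agent.Lib.helper5.HomogT
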