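/-
helper5: SGA3 VI_A 2.6.5 (i): in a homogeneous space under a group scheme over a field, at every field level every point lies
in a unique irreducible component (`unique_component`).

* `isIrreducible_preimage_whiskerLeft`: over an algebraically closed level, preimages of irreducible closed sets at higher levels are irreducible.
* `unique_component_of_rational`, `unique_component`.
-/
import Mathlib
import Groth.Agent.Lib.Helper5.HomogT3
import Groth.Agent.Lib.Helper5.ConsFibre

set_option autoImplicit false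
set_option linter.style.haveILetI false
universe u
open CategoryTheory CategoryTheory.Limits MonoidalCategory CartesianMonoidalCategory MonObj GrpObj
  AlgebraicGeometry Topology
open Groth.Agent.Lib.helper22 Groth.Agent.Lib.helper5.MaxPt Groth.Agent.Lib.helper5.MaxPtSch
  Groth.Agent.Lib.helper3

namespace Groth.Agent.Lib.helper5.HomogT

variable {k : Type u} [Field k]

/-- **(α)**: over an algebraically closed field level `T`, the preimage at a higher field level of an irreducible closed
subset of `X_T` is irreducible. -/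
theorem isIrreducible_preimage_whiskerLeft (X : Over (Spec (CommRingCat.of k)))
    (L : Type u) [Field L] [IsAlgClosed L] (h : Spec (CommRingCat.of L) ⟶ Spec (CommRingCat.of k))
    (L' : Type u) [Field L'] (h' : Spec (CommRingCat.of L') ⟶ Spec (CommRingCat.of k))
    (s : Over.mk h' ⟶ Over.mk h) (D : Set (X ⊗ Over.mk h).left) (hDc : IsClosed D) (hD : IsIrreducible D) :
    IsIrreducible ((X ◁ s).left ⁻¹' D) := by
  let T : Over (Spec (CommRingCat.of k)) := Over.mk h
  let T' : Over (Spec (CommRingCat.of k)) := Over.mk h'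
  let C : TopologicalSpace.Closeds (X ⊗ T).left := ⟨D, hDc⟩
  let Y := (Scheme.IdealSheafData.vanishingIdeal C).subscheme
  let jD : Y ⟶ (X ⊗ T).left := (Scheme.IdealSheafData.vanishingIdeal C).subschemeι
  have hrange : Set.range jD = D := Groth.Agent.Lib.helper5.ConsFibre.range_subschemeι_vanishingIdeal C
  haveI : IsIntegral Y := Groth.Agent.Lib.helper5.ConsFibre.isIntegral_subscheme_vanishingIdeal C hD
  haveI : IrreducibleSpace Y := inferInstance
  let f : Y ⟶ Spec (CommRingCat.of L) := jD ≫ (snd X T).left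
  let sl : Spec (CommRingCat.of L') ⟶ Spec (CommRingCat.of L) := s.left
  haveI : GeometricallyIrreducible f := GrpIrr.geometricallyIrreducible_of_isAlgClosed f
  haveI : UniversallyOpen f := inferInstance
  haveI : IrreducibleSpace ↥(pullback f sl) := inferInstance
  have C1 : IsPullback (X ◁ s).left (snd X T').left (snd X T).left sl :=
    isPullback_whiskerLeft_left s X
  let j : pullback f sl ⟶ (X ⊗ T').left :=
    C1.lift (pullback.fst f sl ≫ jD) (pullback.snd f sl) (by rw [Category.assoc]; exact pullback.condition)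
  have hj1 : j ≫ (X ◁ s).left = pullback.fst f sl ≫ jD := C1.lift_fst _ _ _
  have hj2 : j ≫ (snd X T').left = pullback.snd f sl := C1.lift_snd _ _ _
  have sqW : IsPullback (pullback.snd f sl) (pullback.fst f sl) sl f :=
    (IsPullback.of_hasPullback f sl).flip
  have outer : IsPullback (j ≫ (snd X T').left) (pullback.fst f sl) sl (jD ≫ (snd X T).left) := by
    rw [hj2]; exact sqW
  have sqj : IsPullback j (pullback.fst f sl) (X ◁ s).left jD :=
    IsPullback.of_right outer hj1 C1.flip
  have hr : Set.range j = (X ◁ s).left ⁻¹' D := by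
    have := Scheme.image_preimage_eq_of_isPullback sqj.flip Set.univ
    rw [Set.preimage_univ, Set.image_univ, Set.image_univ] at this
    rw [← hrange]
    exact this
  rw [← hr, ← Set.image_univ]
  exact (IrreducibleSpace.isIrreducible_univ _).image _ j.continuous.continuousOn

section top

variable {E : Type*} [TopologicalSpace E]

theorem image_mem_irreducibleComponents (τ : E ≃ₜ E) {Z : Set E} (hZ : Z ∈ irreducibleComponents E) :
    τ '' Z ∈ irreducibleComponents E := by
  refine ⟨hZ.1.image τ τ.continuous.continuousOn, ?_⟩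
  intro W hW hle
  have h1 : IsIrreducible (τ.symm '' W) := hW.image τ.symm τ.symm.continuous.continuousOn
  have h2 : Z ⊆ τ.symm '' W := by
    intro z hz
    exact ⟨τ z, hle ⟨z, hz, rfl⟩, τ.symm_apply_apply z⟩
  have h3 := hZ.2 h1 h2
  intro w hw
  exact ⟨τ.symm w, h3 ⟨w, hw, rfl⟩, τ.apply_symm_apply w⟩

end top

variable {G X : Over (Spec (CommRingCat.of k))} [GrpObj G] (a : AlgGrp.Action G X)

/-- **Lemma U, step 2**: at an algebraically closed level, a rational point lies in a unique irreducible component -/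
theorem unique_component_of_rational (hΦ : Surjective (lift a.act (snd G X)).left)
    (L : Type u) [Field L] [IsAlgClosed L] (h : Spec (CommRingCat.of L) ⟶ Spec (CommRingCat.of k))
    (x : Over.mk h ⟶ X) (pt : Spec (CommRingCat.of L))
    (D₁ D₂ : Set (X ⊗ Over.mk h).left) (h₁ : D₁ ∈ irreducibleComponents (X ⊗ Over.mk h).left)
    (h₂ : D₂ ∈ irreducibleComponents (X ⊗ Over.mk h).left)
    (hx₁ : (lift x (𝟙 (Over.mk h))).left pt ∈ D₁) (hx₂ : (lift x (𝟙 (Over.mk h))).left pt ∈ D₂) :
    D₁ = D₂ := by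
  let T : Over (Spec (CommRingCat.of k)) := Over.mk h
  have hD₁c : IsClosed D₁ := isClosed_of_mem_irreducibleComponents D₁ h₁
  have hD₂c : IsClosed D₂ := isClosed_of_mem_irreducibleComponents D₂ h₂
  obtain ⟨ξ₁, hξ₁⟩ := QuasiSober.sober h₁.1 hD₁c
  have hξ₁max : IsMaxPt ξ₁ := isMaxPt_of_isGenericPoint h₁ hξ₁
  haveI := surjective_orbT a hΦ x
  obtain ⟨g0, hg0⟩ := (orbT a x).left.surjective ξ₁
  -- the level of the residue field of `g0`
  let L' := (G ⊗ T).left.residueField g0
  let h' : Spec (CommRingCat.of L') ⟶ Spec (CommRingCat.of k) :=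
    (G ⊗ T).left.fromSpecResidueField g0 ≫ (G ⊗ T).hom
  let T' : Over (Spec (CommRingCat.of k)) := Over.mk h'
  let hgT : T' ⟶ G ⊗ T := Over.homMk ((G ⊗ T).left.fromSpecResidueField g0) rfl
  let t : T' ⟶ G := hgT ≫ fst G T
  let s : T' ⟶ T := hgT ≫ snd G T
  have hts : lift t s = hgT := by
    apply CartesianMonoidalCategory.hom_ext <;> simp [t, s]
  haveI : Flat s.left :=
    (inferInstance : Flat (show Spec (CommRingCat.of L') ⟶ Spec (CommRingCat.of L) from s.left))
  haveI : Surjective s.left :=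
    (inferInstance : Surjective (show Spec (CommRingCat.of L') ⟶ Spec (CommRingCat.of L) from s.left))
  have hXs_surj : Function.Surjective (X ◁ s).left := (surjective_whiskerLeft s X).surj
  obtain ⟨pt'⟩ : Nonempty T'.left := (inferInstance : Nonempty (Spec (CommRingCat.of L')))
  have hspt : s.left pt' = pt := Subsingleton.elim (α := PrimeSpectrum L) _ _
  -- the points
  let x' : T' ⟶ X := s ≫ x
  let xt' : (X ⊗ T').left := (lift x' (𝟙 T')).left pt'
  have hxt' : (X ◁ s).left xt' = (lift x (𝟙 T)).left pt := by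
    show (X ◁ s).left ((lift x' (𝟙 T')).left pt') = _
    rw [← Scheme.Hom.comp_apply, ← Over.comp_left]
    have : lift x' (𝟙 T') ≫ X ◁ s = s ≫ lift x (𝟙 T) := by
      apply CartesianMonoidalCategory.hom_ext <;> simp [x']
    rw [this, Over.comp_left, Scheme.Hom.comp_apply, hspt]
  let τ := homeoOfIso (trX a t)
  have hτx : (X ◁ s).left (τ xt') = ξ₁ := by
    show (X ◁ s).left ((trX a t).hom.left ((lift x' (𝟙 T')).left pt')) = ξ₁
    rw [← Scheme.Hom.comp_apply, ← Scheme.Hom.comp_apply, ← Over.comp_left, ← Over.comp_left]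
    have : lift x' (𝟙 T') ≫ (trX a t).hom ≫ X ◁ s = hgT ≫ orbT a x := by
      rw [← Category.assoc, lift_trX, ← hts]
      apply CartesianMonoidalCategory.hom_ext
      · simp only [Category.assoc, whiskerLeft_fst, lift_fst, orbT_fst]
        rw [comp_smul]
        simp [x']
      · simp
    rw [this, Over.comp_left, Scheme.Hom.comp_apply]
    have : hgT.left pt' = g0 := Scheme.fromSpecResidueField_apply g0 pt'
    rw [this, hg0]
  -- the preimages of the components
  have hE₁irr : IsIrreducible ((X ◁ s).left ⁻¹' D₁) :=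
    isIrreducible_preimage_whiskerLeft X L h L' h' s D₁ hD₁c h₁.1
  have hE₂irr : IsIrreducible ((X ◁ s).left ⁻¹' D₂) :=
    isIrreducible_preimage_whiskerLeft X L h L' h' s D₂ hD₂c h₂.1
  have hE₁ : (X ◁ s).left ⁻¹' D₁ ∈ irreducibleComponents (X ⊗ T').left :=
    preimage_mem_irreducibleComponents (Scheme.Hom.continuous _) hXs_surj h₁ hE₁irr
  have hE₂ : (X ◁ s).left ⁻¹' D₂ ∈ irreducibleComponents (X ⊗ T').left :=
    preimage_mem_irreducibleComponents (Scheme.Hom.continuous _) hXs_surj h₂ hE₂irr
  -- every component through `τ xt'` is the preimage of `D₁`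
  have key : ∀ E ∈ irreducibleComponents (X ⊗ T').left, τ xt' ∈ E → E = (X ◁ s).left ⁻¹' D₁ := by
    intro E hE hmem
    have hEc : IsClosed E := isClosed_of_mem_irreducibleComponents E hE
    obtain ⟨ε, hε⟩ := QuasiSober.sober hE.1 hEc
    have h1 : (X ◁ s).left ε ⤳ ξ₁ := by
      have := (hε.specializes hmem).map (X ◁ s).left.continuous
      rwa [hτx] at this
    have h2 : (X ◁ s).left ε = ξ₁ := hξ₁max _ h1
    have h3 : ε ∈ (X ◁ s).left ⁻¹' D₁ := by
      show (X ◁ s).left ε ∈ D₁
      rw [h2]; exact hξ₁.mem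
    have h4 : E ⊆ (X ◁ s).left ⁻¹' D₁ := by
      rw [← isGenericPoint_def.mp hε]
      exact closure_minimal (Set.singleton_subset_iff.mpr h3) (hD₁c.preimage (Scheme.Hom.continuous _))
    exact Set.Subset.antisymm h4 (hE.2 hE₁irr h4)
  have e1 := key _ (image_mem_irreducibleComponents τ hE₁) ⟨xt', by
    show (X ◁ s).left xt' ∈ D₁
    rw [hxt']; exact hx₁, rfl⟩
  have e2 := key _ (image_mem_irreducibleComponents τ hE₂) ⟨xt', by
    show (X ◁ s).left xt' ∈ D₂
    rw [hxt']; exact hx₂, rfl⟩
  have e3 : (X ◁ s).left ⁻¹' D₁ = (X ◁ s).left ⁻¹' D₂ :=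
    τ.injective.image_injective (e1.trans e2.symm)
  have := congrArg (fun Z => (X ◁ s).left '' Z) e3
  simp only [Set.image_preimage_eq _ hXs_surj] at this
  exact this


/-- **Lemma U** (SGA3 VI_A 2.6.5 (i)): at every field level, every point of `X_T` lies in a unique irreducible
component. -/
theorem unique_component (hΦ : Surjective (lift a.act (snd G X)).left)
    (L : Type u) [Field L] (h : Spec (CommRingCat.of L) ⟶ Spec (CommRingCat.of k))
    (z : (X ⊗ Over.mk h).left)
    (D₁ D₂ : Set (X ⊗ Over.mk h).left) (h₁ : D₁ ∈ irreducibleComponents (X ⊗ Over.mk h).left)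
    (h₂ : D₂ ∈ irreducibleComponents (X ⊗ Over.mk h).left) (hz₁ : z ∈ D₁) (hz₂ : z ∈ D₂) :
    D₁ = D₂ := by
  let T : Over (Spec (CommRingCat.of k)) := Over.mk h
  let κ := (X ⊗ T).left.residueField z
  let Lz := AlgebraicClosure κ
  let hz0 : Spec (CommRingCat.of Lz) ⟶ (X ⊗ T).left :=
    Spec.map (CommRingCat.ofHom (algebraMap κ Lz)) ≫ (X ⊗ T).left.fromSpecResidueField z
  let h₁' : Spec (CommRingCat.of Lz) ⟶ Spec (CommRingCat.of k) := hz0 ≫ (X ⊗ T).hom
  let T₁ : Over (Spec (CommRingCat.of k)) := Over.mk h₁'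
  let hz : T₁ ⟶ X ⊗ T := Over.homMk hz0 rfl
  let x₁ : T₁ ⟶ X := hz ≫ fst X T
  let s₁ : T₁ ⟶ T := hz ≫ snd X T
  have hxs : lift x₁ s₁ = hz := by
    apply CartesianMonoidalCategory.hom_ext <;> simp [x₁, s₁]
  haveI : Flat s₁.left :=
    (inferInstance : Flat (show Spec (CommRingCat.of Lz) ⟶ Spec (CommRingCat.of L) from s₁.left))
  obtain ⟨pt₁⟩ : Nonempty (Spec (CommRingCat.of Lz)) := inferInstance
  have hpt : (X ◁ s₁).left ((lift x₁ (𝟙 T₁)).left pt₁) = z := by
    rw [← Scheme.Hom.comp_apply, ← Over.comp_left]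
    have : lift x₁ (𝟙 T₁) ≫ X ◁ s₁ = hz := by
      rw [← hxs]
      apply CartesianMonoidalCategory.hom_ext <;> simp
    rw [this]
    show hz0 pt₁ = z
    rw [Scheme.Hom.comp_apply, Scheme.fromSpecResidueField_apply]
  haveI := flat_whiskerLeft s₁ X
  have hgen : GeneralizingMap (X ◁ s₁).left := Flat.generalizingMap _
  refine unique_component_of_generalizingMap (Scheme.Hom.continuous (X ◁ s₁).left) hgen
    ((lift x₁ (𝟙 T₁)).left pt₁) ?_ D₁ D₂ h₁ h₂ (hpt ▸ hz₁) (hpt ▸ hz₂)
  intro C₁ hC₁ C₂ hC₂ he₁ he₂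
  exact unique_component_of_rational a hΦ Lz h₁' x₁ pt₁ C₁ C₂ hC₁ hC₂ he₁ he₂


end Groth.Agent.Lib.helper5.HomogT
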