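/-
helper5: `G⁰`-orbits of points of a homogeneous space over a field (SGA3 VI_A 2.6).

* `Orb a y`, `orb_eq`, `mem_orb_self`, `exists_isMaxPt_orb`, `orb_symm`, `orb_trans`.
* `isOpen_act_image`: `P · U` is open for every subset `P` of `G` and every open `U` of `X`.
-/
import Mathlib
import Groth.Agent.Lib.Helper5.HomogT4
import Groth.Agent.Lib.Helper5.GrpNeutral3

set_option autoImplicit false
set_option linter.style.haveILetI false
universe u
open CategoryTheory CategoryTheory.Limits MonoidalCategory CartesianMonoidalCategory MonObj GrpObj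
  AlgebraicGeometry Topology
open Groth.Agent.Lib.helper22 Groth.Agent.Lib.helper5.MaxPt Groth.Agent.Lib.helper5.MaxPtSch
  Groth.Agent.Lib.helper3

namespace Groth.Agent.Lib.helper5.HomogT

variable {k : Type u} [Field k] {G X : Over (Spec (CommRingCat.of k))} [GrpObj G] (a : AlgGrp.Action G X)

/-- the `G⁰`-orbit of a point of `X` -/
def Orb (y : X.left) : Set X.left :=
  a.act.left '' ((fst G X).left ⁻¹' SGA3x.neutralSet G ∩ (snd G X).left ⁻¹' {y})

/-- the level of the residue field of a point -/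
noncomputable abbrev ptT (W : Over (Spec (CommRingCat.of k))) (y : W.left) : Over (Spec (CommRingCat.of k)) :=
  Over.mk (W.left.fromSpecResidueField y ≫ W.hom)

/-- the canonical point -/
noncomputable abbrev ptHom (W : Over (Spec (CommRingCat.of k))) (y : W.left) : ptT W y ⟶ W :=
  Over.homMk (W.left.fromSpecResidueField y) rfl

theorem range_whiskerLeft_ptHom (y : X.left) :
    Set.range (G ◁ ptHom X y).left = (snd G X).left ⁻¹' {y} := by
  have sq := isPullback_whiskerLeft_left (ptHom X y) G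
  have := Scheme.image_preimage_eq_of_isPullback sq.flip Set.univ
  rw [Set.preimage_univ, Set.image_univ, Set.image_univ] at this
  rw [this]
  congr 1
  exact Scheme.range_fromSpecResidueField y

/-- the action map at the level of a point -/
noncomputable def actT {T : Over (Spec (CommRingCat.of k))} (y : T ⟶ X) : G ⊗ T ⟶ X :=
  smul a (fst G T) (snd G T ≫ y)

theorem actT_eq {T : Over (Spec (CommRingCat.of k))} (y : T ⟶ X) : actT a y = (G ◁ y) ≫ a.act := by
  rw [actT, act_eq_smul a, comp_smul]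
  simp

theorem actT_eq' {T : Over (Spec (CommRingCat.of k))} (y : T ⟶ X) : actT a y = orbT a y ≫ fst X T := by
  rw [actT, orbT_fst]

theorem orb_eq (y : X.left) : Orb a y = (actT a (ptHom X y)).left '' C0T G (ptT X y) := by
  ext v
  constructor
  · rintro ⟨z, ⟨hz1, hz2⟩, rfl⟩
    have : z ∈ Set.range (G ◁ ptHom X y).left := by
      rw [range_whiskerLeft_ptHom]; exact hz2
    obtain ⟨w, rfl⟩ := this
    refine ⟨w, ?_, ?_⟩
    · show (fst G (ptT X y)).left w ∈ SGA3x.neutralSet G
      have : (fst G X).left ((G ◁ ptHom X y).left w) ∈ SGA3x.neutralSet G := hz1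
      rwa [← Scheme.Hom.comp_apply, ← Over.comp_left, whiskerLeft_fst] at this
    · rw [actT_eq, Over.comp_left, Scheme.Hom.comp_apply]
  · rintro ⟨w, hw, rfl⟩
    refine ⟨(G ◁ ptHom X y).left w, ⟨?_, ?_⟩, ?_⟩
    · show (fst G X).left ((G ◁ ptHom X y).left w) ∈ SGA3x.neutralSet G
      rw [← Scheme.Hom.comp_apply, ← Over.comp_left, whiskerLeft_fst]
      exact hw
    · rw [← range_whiskerLeft_ptHom]; exact ⟨w, rfl⟩
    · rw [actT_eq, Over.comp_left, Scheme.Hom.comp_apply]

theorem unit_mem_C0T (T : Over (Spec (CommRingCat.of k))) (pt : T.left) :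
    (lift (toUnit T ≫ η[G]) (𝟙 T)).left pt ∈ C0T G T := by
  show (fst G T).left ((lift (toUnit T ≫ η[G]) (𝟙 T)).left pt) ∈ SGA3x.neutralSet G
  rw [← Scheme.Hom.comp_apply, ← Over.comp_left, lift_fst, Over.comp_left, Scheme.Hom.comp_apply]
  exact Groth.Agent.Lib.helper5.GrpNeutral2.unitSec_mem_neutralSet G _

theorem actT_unit {T : Over (Spec (CommRingCat.of k))} (y : T ⟶ X) :
    lift (toUnit T ≫ η[G]) (𝟙 T) ≫ actT a y = y := by
  rw [actT, comp_smul]
  simp only [lift_fst, lift_snd_assoc, Category.id_comp]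
  have : (toUnit T ≫ η[G] : T ⟶ G) = 1 := rfl
  rw [this, Groth.Agent.Lib.helper22.one_smul]

theorem mem_orb_self (y : X.left) : y ∈ Orb a y := by
  rw [orb_eq]
  obtain ⟨pt⟩ : Nonempty (ptT X y).left :=
    (inferInstance : Nonempty (Spec (X.left.residueField y)))
  refine ⟨_, unit_mem_C0T (ptT X y) pt, ?_⟩
  rw [← Scheme.Hom.comp_apply, ← Over.comp_left, actT_unit]
  exact Scheme.fromSpecResidueField_apply y pt

/-- every `G⁰`-orbit contains a maximal point of `X` in whose closure it lies -/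
theorem exists_isMaxPt_orb (hΦ : Surjective (lift a.act (snd G X)).left) (y : X.left) :
    ∃ ζ ∈ Orb a y, IsMaxPt ζ ∧ Orb a y ⊆ closure {ζ} := by
  let L := X.left.residueField y
  let h : Spec (CommRingCat.of L) ⟶ Spec (CommRingCat.of k) := X.left.fromSpecResidueField y ≫ X.hom
  have hirr : IsIrreducible (C0T G (ptT X y)) := isIrreducible_C0T L h
  obtain ⟨η₀, hη₀⟩ := QuasiSober.sober hirr (isClosed_C0T (ptT X y))
  have hmax := isMaxPt_orbT_generic a hΦ L h (ptHom X y) η₀ hη₀
  haveI : Flat (fst X (ptT X y)).left := inferInstanceAs (Flat (pullback.fst X.hom h))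
  have hgen : GeneralizingMap (fst X (ptT X y)).left := Flat.generalizingMap _
  have hmax' := hmax.map_of_generalizingMap hgen
  rw [← Scheme.Hom.comp_apply, ← Over.comp_left, ← actT_eq'] at hmax'
  refine ⟨(actT a (ptHom X y)).left η₀, ?_, hmax', ?_⟩
  · rw [orb_eq]; exact ⟨η₀, hη₀.mem, rfl⟩
  · rw [orb_eq]
    rintro _ ⟨w, hw, rfl⟩
    exact ((hη₀.specializes hw).map (actT a (ptHom X y)).left.continuous).mem_closure


/-- symmetry of the orbit relation -/
theorem orb_symm {y y' : X.left} (h : y' ∈ Orb a y) : y ∈ Orb a y' := by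
  obtain ⟨z, ⟨hz1, hz2⟩, rfl⟩ := h
  let θ : G ⊗ X ⟶ G ⊗ X := lift (fst G X)⁻¹ a.act
  have h1 : θ ≫ fst G X = fst G X ≫ ι[G] := by
    rw [lift_fst]; rfl
  have h2 : θ ≫ snd G X = a.act := lift_snd _ _
  have h3 : θ ≫ a.act = snd G X := by
    rw [act_eq_smul a, comp_smul]
    simp only [θ, lift_fst, lift_snd]
    rw [act_eq_smul a, Groth.Agent.Lib.helper22.inv_smul_smul]
  refine ⟨θ.left z, ⟨?_, ?_⟩, ?_⟩
  · show (fst G X).left (θ.left z) ∈ SGA3x.neutralSet G
    rw [← Scheme.Hom.comp_apply, ← Over.comp_left, h1, Over.comp_left, Scheme.Hom.comp_apply]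
    exact Groth.Agent.Lib.helper5.GrpNeutral3.inv_mem_neutralSet _ hz1
  · show (snd G X).left (θ.left z) = a.act.left z
    rw [← Scheme.Hom.comp_apply, ← Over.comp_left, h2]
  · rw [← Scheme.Hom.comp_apply, ← Over.comp_left, h3]
    exact hz2

/-- transitivity of the orbit relation -/
theorem orb_trans {y y' y'' : X.left} (h : y' ∈ Orb a y) (h' : y'' ∈ Orb a y') : y'' ∈ Orb a y := by
  obtain ⟨z₁, ⟨hz1, hz2⟩, rfl⟩ := h
  obtain ⟨z₂, ⟨hw1, hw2⟩, rfl⟩ := h'
  have sq := isPullback_whiskerLeft_left a.act G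
  obtain ⟨w, hwq, hwp⟩ := Scheme.exists_preimage_of_isPullback sq z₂ z₁ hw2
  let u : G ⊗ (G ⊗ X) ⟶ G := fst G (G ⊗ X)
  let v : G ⊗ (G ⊗ X) ⟶ G := snd G (G ⊗ X) ≫ fst G X
  let xx : G ⊗ (G ⊗ X) ⟶ X := snd G (G ⊗ X) ≫ snd G X
  let θ : G ⊗ (G ⊗ X) ⟶ G ⊗ X := lift (u * v) xx
  have hθact : θ ≫ a.act = (G ◁ a.act) ≫ a.act := by
    rw [act_eq_smul a, comp_smul, comp_smul]
    simp only [θ, lift_fst, lift_snd, whiskerLeft_fst, whiskerLeft_snd]
    rw [Groth.Agent.Lib.helper22.mul_smul, comp_smul]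
  have hθfst : θ ≫ fst G X = lift u v ≫ μ[G] := by
    rw [lift_fst, Hom.mul_def]
  refine ⟨θ.left w, ⟨?_, ?_⟩, ?_⟩
  · show (fst G X).left (θ.left w) ∈ SGA3x.neutralSet G
    rw [← Scheme.Hom.comp_apply, ← Over.comp_left, hθfst, Over.comp_left, Scheme.Hom.comp_apply]
    apply Groth.Agent.Lib.helper5.GrpNeutral3.mul_mem_neutralSet
    · rw [← Scheme.Hom.comp_apply, ← Over.comp_left, lift_fst]
      have : (fst G X).left ((G ◁ a.act).left w) ∈ SGA3x.neutralSet G := by
        rw [hwq]; exact hw1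
      rwa [← Scheme.Hom.comp_apply, ← Over.comp_left, whiskerLeft_fst] at this
    · rw [← Scheme.Hom.comp_apply, ← Over.comp_left, lift_snd, Over.comp_left, Scheme.Hom.comp_apply, hwp]
      exact hz1
  · show (snd G X).left (θ.left w) = y
    rw [← Scheme.Hom.comp_apply, ← Over.comp_left, lift_snd, Over.comp_left, Scheme.Hom.comp_apply, hwp]
    exact hz2
  · rw [← Scheme.Hom.comp_apply, ← Over.comp_left, hθact, Over.comp_left, Scheme.Hom.comp_apply, hwq]


section openness

/-- the inclusion of the fibre of `G × X ⟶ G` over a point-level `t : T ⟶ G` -/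
noncomputable def fibG {T : Over (Spec (CommRingCat.of k))} (t : T ⟶ G) : X ⊗ T ⟶ G ⊗ X :=
  lift (snd X T ≫ t) (fst X T)

omit [GrpObj G] in
theorem isPullback_fibG {T : Over (Spec (CommRingCat.of k))} (t : T ⟶ G) :
    IsPullback (fibG (X := X) t) (snd X T) (fst G X) t := by
  apply isPullback_of_points
  · simp [fibG]
  · intro R p q hpq
    refine ⟨lift (p ≫ snd G X) q, ?_, by simp⟩
    apply CartesianMonoidalCategory.hom_ext
    · simp [fibG, hpq]
    · simp [fibG]
  · intro R l l' h1 h2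
    apply CartesianMonoidalCategory.hom_ext
    · have := congrArg (fun t => t ≫ snd G X) h1
      simpa [fibG] using this
    · exact h2

theorem fibG_act {T : Over (Spec (CommRingCat.of k))} (t : T ⟶ G) :
    fibG t ≫ a.act = (trX a t).hom ≫ fst X T := by
  rw [trX_hom_fst, act_eq_smul a, comp_smul]
  simp [fibG]

/-- `P · U` is open for every subset `P` of `G` and every open `U` of `X` -/
theorem isOpen_act_image (P : Set G.left) (U : Set X.left) (hU : IsOpen U) :
    IsOpen (a.act.left '' ((fst G X).left ⁻¹' P ∩ (snd G X).left ⁻¹' U)) := by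
  have h : a.act.left '' ((fst G X).left ⁻¹' P ∩ (snd G X).left ⁻¹' U) =
      ⋃ g ∈ P, a.act.left '' ((fst G X).left ⁻¹' {g} ∩ (snd G X).left ⁻¹' U) := by
    ext v
    simp only [Set.mem_image, Set.mem_inter_iff, Set.mem_preimage, Set.mem_iUnion, Set.mem_singleton_iff,
      exists_prop]
    constructor
    · rintro ⟨z, ⟨hz1, hz2⟩, rfl⟩
      exact ⟨_, hz1, z, ⟨rfl, hz2⟩, rfl⟩
    · rintro ⟨g, hg, z, ⟨hz1, hz2⟩, rfl⟩
      exact ⟨z, ⟨hz1 ▸ hg, hz2⟩, rfl⟩
  rw [h]
  refine isOpen_biUnion fun g _ => ?_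
  let T := ptT G g
  let t : T ⟶ G := ptHom G g
  have hr : Set.range (fibG (X := X) t).left = (fst G X).left ⁻¹' {g} := by
    have sq : IsPullback (fibG (X := X) t).left (snd X T).left (fst G X).left t.left :=
      (isPullback_fibG t).map (Over.forget _)
    have := Scheme.image_preimage_eq_of_isPullback sq.flip Set.univ
    rw [Set.preimage_univ, Set.image_univ, Set.image_univ] at this
    rw [this]
    congr 1
    exact Scheme.range_fromSpecResidueField g
  have hset : a.act.left '' ((fst G X).left ⁻¹' {g} ∩ (snd G X).left ⁻¹' U) =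
      (fst X T).left '' ((trX a t).hom.left '' ((fst X T).left ⁻¹' U)) := by
    ext v
    constructor
    · rintro ⟨z, ⟨hz1, hz2⟩, rfl⟩
      rw [← hr] at hz1
      obtain ⟨w, rfl⟩ := hz1
      refine ⟨_, ⟨w, ?_, rfl⟩, ?_⟩
      · show (fst X T).left w ∈ U
        have : (snd G X).left ((fibG t).left w) ∈ U := hz2
        rwa [← Scheme.Hom.comp_apply, ← Over.comp_left, fibG, lift_snd] at this
      · rw [← Scheme.Hom.comp_apply, ← Scheme.Hom.comp_apply, ← Over.comp_left, ← Over.comp_left, fibG_act]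
    · rintro ⟨_, ⟨w, hw, rfl⟩, rfl⟩
      refine ⟨(fibG t).left w, ⟨?_, ?_⟩, ?_⟩
      · rw [← hr]; exact ⟨w, rfl⟩
      · show (snd G X).left ((fibG t).left w) ∈ U
        rw [← Scheme.Hom.comp_apply, ← Over.comp_left, fibG, lift_snd]
        exact hw
      · rw [← Scheme.Hom.comp_apply, ← Scheme.Hom.comp_apply, ← Over.comp_left, ← Over.comp_left, fibG_act]
  rw [hset]
  haveI : UniversallyOpen (fst X T).left :=
    inferInstanceAs (UniversallyOpen (pullback.fst X.hom T.hom))
  apply (fst X T).left.isOpenMap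
  apply (homeoOfIso (trX a t)).isOpenMap
  exact hU.preimage (Scheme.Hom.continuous _)

end openness


end Groth.Agent.Lib.helper5.HomogT
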