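/-
helper5: SGA3 VI_A 2.6.5 (ii): `G⁰ · U` (`actSet`) is open, equals the union of the irreducible components with generic point in `U`
(`actSet_eq`), and equals the closure of `U` when `U` is retrocompact (`actSet_eq_closure`); `unique_component_base`.
-/
import Mathlib
import Groth.Agent.Lib.Helper5.HomogT5
import Groth.Agent.Lib.Helper1.GenFinA
import Groth.Agent.Lib.Helper3.GrpIrrPt

set_option autoImplicit false
set_option linter.style.haveILetI false
universe u
open CategoryTheory CategoryTheory.Limits MonoidalCategory CartesianMonoidalCategory MonObj GrpObj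
  AlgebraicGeometry Topology
open Groth.Agent.Lib.helper22 Groth.Agent.Lib.helper5.MaxPt Groth.Agent.Lib.helper5.MaxPtSch
  Groth.Agent.Lib.helper3

namespace Groth.Agent.Lib.helper5.HomogT

variable {k : Type u} [Field k] {G X : Over (Spec (CommRingCat.of k))} [GrpObj G] (a : AlgGrp.Action G X)

/-- **SGA3 VI_A 2.6.5 (i) over the base field**: every point of `X` lies in a unique irreducible component -/
theorem unique_component_base (hΦ : Surjective (lift a.act (snd G X)).left) (z : X.left)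
    (D₁ D₂ : Set X.left) (h₁ : D₁ ∈ irreducibleComponents X.left)
    (h₂ : D₂ ∈ irreducibleComponents X.left) (hz₁ : z ∈ D₁) (hz₂ : z ∈ D₂) : D₁ = D₂ := by
  let L := X.left.residueField z
  let h : Spec (CommRingCat.of L) ⟶ Spec (CommRingCat.of k) := X.left.fromSpecResidueField z ≫ X.hom
  let T := ptT X z
  haveI : Flat (fst X T).left := inferInstanceAs (Flat (pullback.fst X.hom h))
  have hgen : GeneralizingMap (fst X T).left := Flat.generalizingMap _
  obtain ⟨pt⟩ : Nonempty T.left := (inferInstance : Nonempty (Spec (X.left.residueField z)))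
  have hpt : (fst X T).left ((lift (ptHom X z) (𝟙 T)).left pt) = z := by
    rw [← Scheme.Hom.comp_apply, ← Over.comp_left, lift_fst]
    exact Scheme.fromSpecResidueField_apply z pt
  refine unique_component_of_generalizingMap (Scheme.Hom.continuous (fst X T).left) hgen
    ((lift (ptHom X z) (𝟙 T)).left pt) ?_ D₁ D₂ h₁ h₂ (by rw [hpt]; exact hz₁) (by rw [hpt]; exact hz₂)
  intro C₁ hC₁ C₂ hC₂ he₁ he₂
  exact unique_component a hΦ L h _ C₁ C₂ hC₁ hC₂ he₁ he₂

/-- `G⁰ · U` -/
def actSet (U : Set X.left) : Set X.left :=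
  a.act.left '' ((fst G X).left ⁻¹' SGA3x.neutralSet G ∩ (snd G X).left ⁻¹' U)

theorem mem_actSet_iff (U : Set X.left) (v : X.left) : v ∈ actSet a U ↔ ∃ u ∈ U, v ∈ Orb a u := by
  constructor
  · rintro ⟨z, ⟨hz1, hz2⟩, rfl⟩
    exact ⟨_, hz2, z, ⟨hz1, rfl⟩, rfl⟩
  · rintro ⟨u, hu, z, ⟨hz1, hz2⟩, rfl⟩
    exact ⟨z, ⟨hz1, by rw [Set.mem_preimage, hz2]; exact hu⟩, rfl⟩

theorem isOpen_actSet (U : Set X.left) (hU : IsOpen U) : IsOpen (actSet a U) :=
  isOpen_act_image a _ U hU

/-- **SGA3 VI_A 2.6.5 (ii)**: `G⁰ · U` is the union of the irreducible components of `X` with generic point in `U` -/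
theorem actSet_eq (hΦ : Surjective (lift a.act (snd G X)).left) (U : Set X.left) (hU : IsOpen U) :
    actSet a U = ⋃₀ {Z : Set X.left | Z ∈ irreducibleComponents X.left ∧ ∃ ξ ∈ U, closure {ξ} = Z} := by
  ext v
  rw [mem_actSet_iff]
  constructor
  · rintro ⟨u, hu, hv⟩
    obtain ⟨ζ, -, hζmax, hsub⟩ := exists_isMaxPt_orb a hΦ u
    have hζu : ζ ⤳ u := specializes_iff_mem_closure.mpr (hsub (mem_orb_self a u))
    exact ⟨closure {ζ}, ⟨hζmax.closure_mem_irreducibleComponents, ζ, hζu.mem_open hU hu, rfl⟩, hsub hv⟩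
  · rintro ⟨Z, ⟨hZ, ξ, hξU, rfl⟩, hvZ⟩
    obtain ⟨ζ, hζorb, hζmax, hsub⟩ := exists_isMaxPt_orb a hΦ v
    have h1 : closure {ζ} = closure {ξ} :=
      unique_component_base a hΦ v _ _ hζmax.closure_mem_irreducibleComponents hZ
        (hsub (mem_orb_self a v)) hvZ
    have h2 : ζ = ξ := (inseparable_iff_closure_eq.mpr h1).eq
    subst h2
    exact ⟨ζ, hξU, orb_symm a hζorb⟩

/-- for a retrocompact open `U`, `G⁰ · U` is the closure of `U` -/
theorem actSet_eq_closure (hΦ : Surjective (lift a.act (snd G X)).left) (U : X.left.Opens)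
    (hU : IsRetrocompact (U : Set X.left)) : actSet a U = closure (U : Set X.left) := by
  rw [actSet_eq a hΦ U U.2]
  apply Set.Subset.antisymm
  · rintro v ⟨Z, ⟨-, ξ, hξU, rfl⟩, hvZ⟩
    exact closure_mono (Set.singleton_subset_iff.mpr hξU) hvZ
  · intro v hv
    haveI : QuasiCompact U.ι :=
      quasiCompact_iff_isSpectralMap.mpr (IsRetrocompact_iff_isSpectralMap_subtypeVal.mp hU)
    have hv' : v ∈ closure (Set.range U.ι) := by
      rw [Scheme.Opens.range_ι]; exact hv
    obtain ⟨u, hu⟩ := Groth.Agent.H1.GenFin.exists_specializes_of_mem_closure_range U.ι v hv'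
    obtain ⟨ζ, hζmax, hζu⟩ := exists_isMaxPt_specializes (U.ι u)
    refine ⟨closure {ζ}, ⟨hζmax.closure_mem_irreducibleComponents, ζ, hζu.mem_open U.2 u.2, rfl⟩, ?_⟩
    exact (hζu.trans hu).mem_closure

end Groth.Agent.Lib.helper5.HomogT
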