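/-
helper5: the statement of S5350 (`S5350`) and `eq_neutralSet_of_mem`.
-/
import Mathlib
import Groth.Agent.Lib.Helper5.HomogT6

set_option autoImplicit false
set_option linter.style.haveILetI false
universe u
open CategoryTheory CategoryTheory.Limits MonoidalCategory CartesianMonoidalCategory MonObj GrpObj
  AlgebraicGeometry Topology
open Groth.Agent.Lib.helper22 Groth.Agent.Lib.helper5.MaxPt Groth.Agent.Lib.helper5.MaxPtSch
  Groth.Agent.Lib.helper3

namespace Groth.Agent.Lib.helper5.HomogT

variable {k : Type u} [Field k] {G X : Over (Spec (CommRingCat.of k))} [GrpObj G] (a : AlgGrp.Action G X)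

/-- an irreducible component of `G` through the unit point is `G⁰` -/
theorem eq_neutralSet_of_mem (pt : ↥(𝟙_ (Over (Spec (CommRingCat.of k)))).left) (C0 : Set G.left)
    (hC0 : C0 ∈ irreducibleComponents ↥G.left) (he : η[G].left.base pt ∈ C0) :
    C0 = SGA3x.neutralSet G :=
  GrpIrrPt.eq_of_mem_inter G hC0 (neutralSet_mem_irreducibleComponents G) (η[G].left.base pt) he
    (Groth.Agent.Lib.helper5.GrpNeutral2.unitSec_mem_neutralSet G pt)

theorem S5350 (hΦ : Surjective (lift a.act (snd G X)).left)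
    (pt : ↥(𝟙_ (Over (Spec (CommRingCat.of k)))).left) (C0 : Set G.left) (hC0 : C0 ∈ irreducibleComponents ↥G.left)
    (he : η[G].left.base pt ∈ C0) (U : X.left.Opens) :
    letI V : Set X.left := a.act.left.base '' {z : ↥(G ⊗ X).left | (fst G X).left.base z ∈ C0 ∧ (snd G X).left.base z ∈ U}
    IsOpen V ∧ V = ⋃₀ {Z : Set X.left | Z ∈ irreducibleComponents ↥X.left ∧ ∃ ξ ∈ U, closure {ξ} = Z} ∧
    (IsRetrocompact (U : Set X.left) → V = closure (U : Set X.left)) := by
  have hC := eq_neutralSet_of_mem pt C0 hC0 he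
  subst hC
  have hV : a.act.left.base '' {z : ↥(G ⊗ X).left | (fst G X).left.base z ∈ SGA3x.neutralSet G ∧
      (snd G X).left.base z ∈ U} = actSet a (U : Set X.left) := rfl
  show IsOpen (a.act.left.base '' _) ∧ a.act.left.base '' _ = _ ∧ (_ → a.act.left.base '' _ = _)
  rw [hV]
  exact ⟨isOpen_actSet a U U.2, actSet_eq a hΦ U U.2, fun h => actSet_eq_closure a hΦ U h⟩

end Groth.Agent.Lib.helper5.HomogT
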