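/-
helper5: consequences of SGA3 VI_A 2.6.5: `orb_eq_irreducibleComponent`, `connectedComponent_eq_irreducibleComponent` (quasi-separated case),
`orb_rational`, `isMaxPt_orbitMap_generic`, `isIrreducible_preimage_component` (geometric irreducibility of the component of a rational point).
-/
import Mathlib
import Groth.Agent.Lib.Helper5.HomogT7

set_option autoImplicit false
set_option linter.style.haveILetI false
universe u
open CategoryTheory CategoryTheory.Limits MonoidalCategory CartesianMonoidalCategory MonObj GrpObj
  AlgebraicGeometry Topology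
open Groth.Agent.Lib.helper22 Groth.Agent.Lib.helper5.MaxPt Groth.Agent.Lib.helper5.MaxPtSch
  Groth.Agent.Lib.helper3

namespace Groth.Agent.Lib.helper5.HomogT

variable {k : Type u} [Field k] {G X : Over (Spec (CommRingCat.of k))} [GrpObj G] (a : AlgGrp.Action G X)

theorem isMaxPt_actT_generic (hΦ : Surjective (lift a.act (snd G X)).left)
    (L : Type u) [Field L] (h : Spec (CommRingCat.of L) ⟶ Spec (CommRingCat.of k))
    (y : Over.mk h ⟶ X) (η₀ : (G ⊗ Over.mk h).left) (hη₀ : IsGenericPoint η₀ (C0T G (Over.mk h))) :
    IsMaxPt ((actT a y).left η₀) := by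
  have hmax := isMaxPt_orbT_generic a hΦ L h y η₀ hη₀
  haveI : Flat (fst X (Over.mk h)).left := inferInstanceAs (Flat (pullback.fst X.hom h))
  have hgen : GeneralizingMap (fst X (Over.mk h)).left := Flat.generalizingMap _
  have hmax' := hmax.map_of_generalizingMap hgen
  rw [← Scheme.Hom.comp_apply, ← Over.comp_left, ← actT_eq'] at hmax'
  exact hmax'

section rational

variable (x : 𝟙_ (Over (Spec (CommRingCat.of k))) ⟶ X)

theorem actT_unit_level : actT a x = fst G (𝟙_ _) ≫ a.orbitMap x := by
  rw [actT, comp_orbitMap]
  congr 1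
  congr 1
  exact toUnit_unique _ _

/-- the image under the orbit map of a rational point of the generic point of `G⁰` is a maximal point -/
theorem isMaxPt_orbitMap_generic (hΦ : Surjective (lift a.act (snd G X)).left)
    (η₁ : G.left) (hη₁ : IsGenericPoint η₁ (SGA3x.neutralSet G)) :
    IsMaxPt ((a.orbitMap x).left η₁) := by
  let T₀ : Over (Spec (CommRingCat.of k)) := 𝟙_ _
  have hirr : IsIrreducible (C0T G T₀) := isIrreducible_C0T k (𝟙 _)
  obtain ⟨η₀, hη₀⟩ := QuasiSober.sober hirr (isClosed_C0T T₀)
  have hmax := isMaxPt_actT_generic a hΦ k (𝟙 _) x η₀ hη₀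
  rw [actT_unit_level, Over.comp_left, Scheme.Hom.comp_apply] at hmax
  -- the image of `η₀` in `G` is the generic point of `G⁰`
  haveI : Surjective (fst G T₀).left :=
    inferInstanceAs (Surjective (pullback.fst G.hom (𝟙 (Spec (CommRingCat.of k)))))
  have hgen : IsGenericPoint ((fst G T₀).left η₀) (SGA3x.neutralSet G) := by
    rw [isGenericPoint_def]
    apply Set.Subset.antisymm
    · apply closure_minimal _ (isClosed_neutralSet G)
      rw [Set.singleton_subset_iff]
      exact hη₀.mem
    · intro z hz
      obtain ⟨z', rfl⟩ := (fst G T₀).left.surjective z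
      have : η₀ ⤳ z' := hη₀.specializes hz
      exact (this.map (fst G T₀).left.continuous).mem_closure
  rw [hgen.eq hη₁] at hmax
  exact hmax

/-- `G⁰ · x` for a rational point `x` -/
theorem orb_rational (pt : ↥(𝟙_ (Over (Spec (CommRingCat.of k)))).left) :
    Orb a (x.left pt) = (a.orbitMap x).left '' SGA3x.neutralSet G := by
  let ρ : G ⟶ G ⊗ X := lift (𝟙 G) (toUnit G ≫ x)
  have sq : IsPullback ρ (toUnit G) (snd G X) x := by
    apply isPullback_of_points
    · simp [ρ]
    · intro R p q hpq
      refine ⟨p ≫ fst G X, ?_, toUnit_unique _ _⟩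
      apply CartesianMonoidalCategory.hom_ext
      · simp [ρ]
      · simp only [ρ, Category.assoc, lift_snd]
        rw [hpq, ← Category.assoc, ← Category.assoc]
        congr 1
        exact toUnit_unique _ _
    · intro R l l' h1 _
      have := congrArg (fun t => t ≫ fst G X) h1
      simpa [ρ] using this
  have sql : IsPullback ρ.left (toUnit G).left (snd G X).left x.left := sq.map (Over.forget _)
  have hr : Set.range ρ.left = (snd G X).left ⁻¹' {x.left pt} := by
    have := Scheme.image_preimage_eq_of_isPullback sql.flip Set.univ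
    rw [Set.preimage_univ, Set.image_univ, Set.image_univ] at this
    rw [this]
    congr 1
    ext v
    simp only [Set.mem_range, Set.mem_singleton_iff]
    constructor
    · rintro ⟨p, rfl⟩
      congr 1
      exact Subsingleton.elim (α := PrimeSpectrum k) _ _
    · rintro rfl
      exact ⟨pt, rfl⟩
  have hρact : ρ ≫ a.act = a.orbitMap x := rfl
  have hρfst : ρ ≫ fst G X = 𝟙 G := lift_fst _ _
  ext v
  constructor
  · rintro ⟨z, ⟨hz1, hz2⟩, rfl⟩
    rw [← hr] at hz2
    obtain ⟨g, rfl⟩ := hz2
    refine ⟨g, ?_, ?_⟩
    · have : (fst G X).left (ρ.left g) ∈ SGA3x.neutralSet G := hz1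
      rwa [← Scheme.Hom.comp_apply, ← Over.comp_left, hρfst] at this
    · rw [← hρact, Over.comp_left, Scheme.Hom.comp_apply]
  · rintro ⟨g, hg, rfl⟩
    refine ⟨ρ.left g, ⟨?_, ?_⟩, ?_⟩
    · show (fst G X).left (ρ.left g) ∈ SGA3x.neutralSet G
      rw [← Scheme.Hom.comp_apply, ← Over.comp_left, hρfst]
      exact hg
    · rw [← hr]; exact ⟨g, rfl⟩
    · rw [← hρact, Over.comp_left, Scheme.Hom.comp_apply]

end rational

/-- the `G⁰`-orbit of any point is the irreducible component through it -/
theorem orb_eq_irreducibleComponent (hΦ : Surjective (lift a.act (snd G X)).left) (y : X.left) :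
    Orb a y = irreducibleComponent y := by
  obtain ⟨ζ, hζorb, hζmax, hsub⟩ := exists_isMaxPt_orb a hΦ y
  have hZ : closure {ζ} = irreducibleComponent y :=
    unique_component_base a hΦ y _ _ hζmax.closure_mem_irreducibleComponents
      (irreducibleComponent_mem_irreducibleComponents y) (hsub (mem_orb_self a y)) mem_irreducibleComponent
  apply Set.Subset.antisymm
  · rw [← hZ]; exact hsub
  · intro v hv
    obtain ⟨ζ', hζ'orb, hζ'max, hsub'⟩ := exists_isMaxPt_orb a hΦ v
    have h1 : closure {ζ'} = closure {ζ} :=
      unique_component_base a hΦ v _ _ hζ'max.closure_mem_irreducibleComponents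
        hζmax.closure_mem_irreducibleComponents (hsub' (mem_orb_self a v)) (hZ ▸ hv)
    have : ζ' = ζ := (inseparable_iff_closure_eq.mpr h1).eq
    subst this
    exact orb_trans a hζorb (orb_symm a hζ'orb)

/-- **SGA3 VI_A 2.6.5 (iii)**: in a quasi-separated homogeneous space, connected components are irreducible -/
theorem connectedComponent_eq_irreducibleComponent [QuasiSeparatedSpace X.left]
    (hΦ : Surjective (lift a.act (snd G X)).left) (x : X.left) :
    connectedComponent x = irreducibleComponent x := by
  apply Set.Subset.antisymm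
  · intro y hy
    by_contra hyx
    have hx : x ∉ irreducibleComponent y := by
      intro hxy
      have := unique_component_base a hΦ x _ _ (irreducibleComponent_mem_irreducibleComponents y)
        (irreducibleComponent_mem_irreducibleComponents x) hxy mem_irreducibleComponent
      exact hyx (this ▸ mem_irreducibleComponent)
    obtain ⟨U', ⟨U, hU, rfl⟩, hxU, hUT⟩ :=
      (X.left.isBasis_affineOpens).exists_subset_of_mem_open hx
        isClosed_irreducibleComponent.isOpen_compl
    have hretro : IsRetrocompact (U : Set X.left) := by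
      intro V hVc hVo
      exact QuasiSeparatedSpace.inter_isCompact _ _ U.2 hU.isCompact hVo hVc
    have hcl := actSet_eq_closure a hΦ U hretro
    have hS : IsClopen (actSet a (U : Set X.left)) :=
      ⟨hcl ▸ isClosed_closure, isOpen_actSet a U U.2⟩
    have hxS : x ∈ actSet a (U : Set X.left) := by
      rw [hcl]; exact subset_closure hxU
    have hyS : y ∈ actSet a (U : Set X.left) := hS.connectedComponent_subset hxS hy
    rw [actSet_eq a hΦ U U.2] at hyS
    obtain ⟨Z, ⟨hZ, ξ, hξU, rfl⟩, hyZ⟩ := hyS
    have hZy : closure {ξ} = irreducibleComponent y :=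
      unique_component_base a hΦ y _ _ hZ (irreducibleComponent_mem_irreducibleComponents y) hyZ
        mem_irreducibleComponent
    exact hUT hξU (hZy ▸ subset_closure rfl)
  · exact isIrreducible_irreducibleComponent.isConnected.subset_connectedComponent
      mem_irreducibleComponent


section geomirr

open TensorProduct

/-- **SGA3 VI_A 2.6.5 (iv)**: the irreducible component through a rational point is geometrically irreducible -/
theorem isIrreducible_preimage_component (hΦ : Surjective (lift a.act (snd G X)).left)
    (x : 𝟙_ (Over (Spec (CommRingCat.of k))) ⟶ X) (pt : ↥(𝟙_ (Over (Spec (CommRingCat.of k)))).left)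
    (K : Type u) [Field K] [Algebra k K] :
    IsIrreducible ((pullback.fst X.hom (Spec.map (CommRingCat.ofHom (algebraMap k K)))) ⁻¹'
      irreducibleComponent (x.left pt)) := by
  -- the generic point of `G⁰`
  have hNirr : IsIrreducible (SGA3x.neutralSet G) := (neutralSet_mem_irreducibleComponents G).1
  obtain ⟨η₁, hη₁⟩ := QuasiSober.sober hNirr (isClosed_neutralSet G)
  let ψ : G.left ⟶ X.left := (a.orbitMap x).left
  have hζmax : IsMaxPt (ψ η₁) := isMaxPt_orbitMap_generic a x hΦ η₁ hη₁
  -- `ψ η₁` specializes to the rational point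
  have hunit : ψ (η[G].left pt) = x.left pt := by
    show (a.orbitMap x).left (η[G].left pt) = x.left pt
    rw [← Scheme.Hom.comp_apply, ← Over.comp_left, comp_orbitMap]
    have h1 : (η[G] : 𝟙_ (Over (Spec (CommRingCat.of k))) ⟶ G) = 1 := by
      rw [MonObj.one_eq_one]
    rw [h1, Groth.Agent.Lib.helper22.one_smul]
    have : toUnit (𝟙_ (Over (Spec (CommRingCat.of k)))) = 𝟙 _ := toUnit_unique _ _
    rw [this, Category.id_comp]
  have hsp : ψ η₁ ⤳ x.left pt := by
    have h1 : η₁ ⤳ η[G].left pt :=
      hη₁.specializes (Groth.Agent.Lib.helper5.GrpNeutral2.unitSec_mem_neutralSet G pt)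
    have := h1.map ψ.continuous
    rwa [hunit] at this
  have hcl : closure {ψ η₁} = irreducibleComponent (x.left pt) :=
    unique_component_base a hΦ (x.left pt) _ _ hζmax.closure_mem_irreducibleComponents
      (irreducibleComponent_mem_irreducibleComponents _) hsp.mem_closure mem_irreducibleComponent
  have hgenζ : IsGenericPoint (ψ η₁) (irreducibleComponent (x.left pt)) := hcl
  -- irreducibility of the generic fibre of `G⁰`
  have hGirr : IsIrreducible ((pullback.fst G.hom (Spec.map (CommRingCat.ofHom (algebraMap k K)))) ⁻¹'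
      SGA3x.neutralSet G) :=
    (Groth.Agent.Lib.helper5.GrpNeutral2.isIrreducible_preimage_neutralSet K _ G).1
  have h1 := IrrPreimage.isIrreducible_preimage_singleton
    (GeomConnPt.isOpenMap_fst_specMap G.hom K) hη₁ hGirr
  let φG : k →+* G.left.residueField η₁ :=
    (Spec.preimage (G.left.fromSpecResidueField η₁ ≫ G.hom)).hom
  have hφG : Spec.map (CommRingCat.ofHom φG) = G.left.fromSpecResidueField η₁ ≫ G.hom :=
    Spec.map_preimage _
  let φX : k →+* X.left.residueField (ψ η₁) :=
    (Spec.preimage (X.left.fromSpecResidueField (ψ η₁) ≫ X.hom)).hom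
  have hφX : Spec.map (CommRingCat.ofHom φX) = X.left.fromSpecResidueField (ψ η₁) ≫ X.hom :=
    Spec.map_preimage _
  have h2 := (GenericFibre.isIrreducible_preimage_singleton_iff G.hom η₁ φG hφG K).mp h1
  let ρ : X.left.residueField (ψ η₁) →+* G.left.residueField η₁ := (ψ.residueFieldMap η₁).hom
  have hρ : ρ.comp φX = φG := by
    have e1 : Spec.map (CommRingCat.ofHom (ρ.comp φX)) = Spec.map (CommRingCat.ofHom φG) := by
      rw [CommRingCat.ofHom_comp, Spec.map_comp, hφX, hφG]
      have := Scheme.Hom.SpecMap_residueFieldMap_fromSpecResidueField ψ η₁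
      rw [← Category.assoc]
      have e2 : Spec.map (CommRingCat.ofHom ρ) = Spec.map (ψ.residueFieldMap η₁) := rfl
      rw [e2, this, Category.assoc, Over.w (a.orbitMap x)]
    have e3 := Spec.map_injective e1
    exact congrArg CommRingCat.Hom.hom e3
  letI algG : Algebra k (G.left.residueField η₁) := φG.toAlgebra
  letI algX : Algebra k (X.left.residueField (ψ η₁)) := φX.toAlgebra
  have hcomm : ∀ r : k, ρ (algebraMap k (X.left.residueField (ψ η₁)) r) =
      algebraMap k (G.left.residueField η₁) r := by
    intro r
    show ρ (φX r) = φG r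
    rw [← hρ]; rfl
  let ρa : X.left.residueField (ψ η₁) →ₐ[k] G.left.residueField η₁ :=
    { toRingHom := ρ, commutes' := hcomm }
  let θ : K ⊗[k] X.left.residueField (ψ η₁) →ₐ[k] K ⊗[k] G.left.residueField η₁ :=
    Algebra.TensorProduct.map (AlgHom.id k K) ρa
  have hθ : Function.Injective θ := by
    have hinj : Function.Injective ρa.toLinearMap := (ρ.injective : Function.Injective ρ)
    have := Module.Flat.lTensor_preserves_injective_linearMap (M := K) ρa.toLinearMap hinj
    intro p q hpq
    apply this
    exact hpq
  have h3 : IrreducibleSpace (PrimeSpectrum (K ⊗[k] X.left.residueField (ψ η₁))) :=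
    GeomIrr.irreducibleSpace_of_injective θ.toRingHom hθ h2
  have h4 := (GenericFibre.isIrreducible_preimage_singleton_iff X.hom (ψ η₁) φX hφX K).mpr h3
  exact IrrPreimage.isIrreducible_preimage_of_singleton (IrrPreimage.generalizingMap_fst X.hom K) hgenζ h4

end geomirr


end Groth.Agent.Lib.helper5.HomogT
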