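/-
helper5: homogeneous spaces with quasi-separated connected fibres (SGA3 VI_B 5).
* `isPreirreducible_fibre`: a quasi-separated, connected fibre of a homogeneous space is irreducible.
* `maxPtsIn_of_isPreirreducible`: if `X_s` is irreducible then every open meeting `X_s` contains the images of the maximal
  points of the `X ×_S Spec K` over `s`.
* `exists_translate_neutral₁`: every point `x` can be moved by a point of `G⁰` into such an open.
-/
import Mathlib
import Groth.Agent.Lib.Helper5.HomogFibre1
import Groth.Agent.Lib.Helper5.HomogSepU4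
import Groth.Agent.Lib.Helper5.HomogT8

set_option autoImplicit false
set_option linter.style.haveILetI false
universe u
open CategoryTheory CategoryTheory.Limits MonoidalCategory CartesianMonoidalCategory MonObj GrpObj
  AlgebraicGeometry Topology TopologicalSpace
open Groth.Agent.Lib.Helper14.BCAct Groth.Agent.Lib.helper5.MaxPt Groth.Agent.Lib.helper5.HomogSepU
  Groth.Agent.Lib.helper5.HomogT Groth.Agent.Lib.helper22

namespace Groth.Agent.Lib.helper5.HomogFibre

variable {S : Scheme.{u}} {G X : Over S} [GrpObj G] (a : AlgGrp.Action G X)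

/-- a quasi-separated connected fibre of a homogeneous space is irreducible (SGA3 VI_A 2.6.5 (iii) on the fibre) -/
theorem isPreirreducible_fibre (hΦ : Surjective (lift a.act (snd G X)).left) (s : S)
    (hqs : QuasiSeparatedSpace ↥(X.hom.base ⁻¹' {s}))
    (hconn : _root_.IsPreconnected (X.hom.base ⁻¹' {s})) :
    IsPreirreducible (X.hom.base ⁻¹' {s}) := by
  let k : Type u := S.residueField s
  let g : Spec (CommRingCat.of k) ⟶ S := S.fromSpecResidueField s
  let Gk : Over (Spec (CommRingCat.of k)) := Red.bc g G
  let Xk : Over (Spec (CommRingCat.of k)) := Red.bc g X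
  let ak : AlgGrp.Action Gk Xk := bcAction g a
  have hΦk : Surjective (lift ak.act (snd Gk Xk)).left := surjective_Φ_bc g a hΦ
  have hrange : Set.range (prL g X) = X.hom.base ⁻¹' {s} := X.hom.range_fiberι s
  have hemb : IsEmbedding (prL g X) := (X.hom.fiberι s).isEmbedding
  haveI : QuasiSeparatedSpace Xk.left :=
    QuasiSeparatedSpace.of_isOpenEmbedding (X.hom.fiberHomeo s).isOpenEmbedding
  have hpre : _root_.IsPreconnected (Set.univ : Set Xk.left) := by
    rw [← hemb.isInducing.isPreconnected_image, Set.image_univ, hrange]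
    exact hconn
  have hirr : IsPreirreducible (Set.univ : Set Xk.left) := by
    rcases isEmpty_or_nonempty Xk.left with he | ⟨⟨x⟩⟩
    · rw [Set.univ_eq_empty_iff.2 he]
      exact isPreirreducible_empty
    · have h1 : connectedComponent x = Set.univ :=
        Set.eq_univ_of_univ_subset (hpre.subset_connectedComponent (Set.mem_univ x))
      have h2 := connectedComponent_eq_irreducibleComponent ak hΦk x
      rw [h1] at h2
      rw [h2]
      exact isIrreducible_irreducibleComponent.isPreirreducible
  have := hirr.image (prL g X) (prL g X).continuous.continuousOn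
  rwa [Set.image_univ, hrange] at this

/-- if the fibre `X_s` is irreducible, then an open meeting it contains the images of the maximal points of the fibres
`X ×_S Spec K` over `s`. -/
theorem maxPtsIn_of_isPreirreducible (X : Over S) (s : S)
    (hirr : IsPreirreducible (X.hom.base ⁻¹' {s})) (U : X.left.Opens)
    (hU : (X.hom.base ⁻¹' {s}).Nonempty → ((U : Set X.left) ∩ X.hom.base ⁻¹' {s}).Nonempty) :
    MaxPtsIn X s U := by
  intro K _ h hs ξ hξ
  have hmax : IsFibreMaxPt X.hom (pullback.fst X.hom h ξ) :=
    isFibreMaxPt_fst_of_isMaxPt X.hom K h ξ hξ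
  set x : X.left := pullback.fst X.hom h ξ with hx
  have hxs : X.hom x = s := by
    rw [hx, ← Scheme.Hom.comp_apply, pullback.condition, Scheme.Hom.comp_apply, ← hs]
    congr 1
    exact Subsingleton.elim (α := PrimeSpectrum K) _ _
  obtain ⟨u, huU, hus⟩ := hU ⟨x, hxs⟩
  -- the generic point of the closure of the fibre
  have hF0 : IsIrreducible (X.hom.base ⁻¹' {s}) := ⟨⟨x, hxs⟩, hirr⟩
  have hF : IsIrreducible (closure (X.hom.base ⁻¹' {s})) := hF0.closure
  obtain ⟨ζ, hζ⟩ := QuasiSober.sober hF isClosed_closure
  have hζx : ζ ⤳ x := hζ.specializes (subset_closure hxs)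
  have hζu : ζ ⤳ u := hζ.specializes (subset_closure hus)
  have h1 : X.hom ζ ⤳ s := by
    have := hζx.map X.hom.continuous
    rwa [hxs] at this
  have h2 : s ⤳ X.hom ζ := by
    rw [specializes_iff_mem_closure]
    have h3 : closure (X.hom.base ⁻¹' {s}) ⊆ X.hom.base ⁻¹' closure {s} :=
      closure_minimal (Set.preimage_mono subset_closure) (isClosed_closure.preimage X.hom.continuous)
    exact h3 hζ.mem
  have hζs : X.hom ζ = s := (h1.antisymm h2).eq
  have hζeq : ζ = x := hmax ζ hζx (hζs.trans hxs.symm)
  show x ∈ U
  rw [← hζeq]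
  exact hζu.mem_open U.2 huU

/-- every point `x` of `X` can be moved by a point of `G⁰` into an open `U` containing the images of the maximal points
of the fibres over the image of `x`. -/
theorem exists_translate_neutral₁ (hΦ : Surjective (lift a.act (snd G X)).left)
    (x : X.left) (U : X.left.Opens) (hU : MaxPtsIn X (X.hom x) U) :
    ∃ t : (G ⊗ X).left, (snd G X).left t = x ∧ (fst G X).left t ∈ SGA3x.neutralSet G ∧
      a.act.left t ∈ U := by
  let K := X.left.residueField x
  let y : Spec (CommRingCat.of K) ⟶ X.left := X.left.fromSpecResidueField x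
  let h : Spec (CommRingCat.of K) ⟶ S := y ≫ X.hom
  let T : Over S := Over.mk h
  let yT : T ⟶ X := Over.homMk y rfl
  have hs : h (IsLocalRing.closedPoint K) = X.hom x := by
    show (y ≫ X.hom) _ = _
    rw [Scheme.Hom.comp_apply]
    congr 1
    exact X.left.fromSpecResidueField_apply x _
  obtain ⟨η₀, hη₀⟩ := QuasiSober.sober (isIrreducible_C0S (G := G) K h) (isClosed_C0S K h)
  have hmax : IsMaxPt ((orbT a yT).left η₀) := @isMaxPt_orbT_generic S G X _ a hΦ K _ h yT η₀ hη₀
  have key := hU K h hs _ hmax
  rw [← Scheme.Hom.comp_apply, ← Over.comp_left, ← whiskerLeft_comp_act] at key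
  refine ⟨(G ◁ yT).left η₀, ?_, ?_, ?_⟩
  · rw [← Scheme.Hom.comp_apply, ← Over.comp_left, whiskerLeft_snd, Over.comp_left,
      Scheme.Hom.comp_apply]
    exact X.left.fromSpecResidueField_apply x _
  · rw [← Scheme.Hom.comp_apply, ← Over.comp_left, whiskerLeft_fst]
    exact hη₀.mem
  · rw [← Scheme.Hom.comp_apply, ← Over.comp_left]
    exact key

end Groth.Agent.Lib.helper5.HomogFibre
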