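/-
helper5: quasi-compactness of a homogeneous space over `S` (SGA3 VI_B 5): if `V` is an open of `X`, quasi-compact over `S`,
containing the images of the maximal points of all fibres `X ×_S Spec K`, then `X = G⁰ · V` is quasi-compact over `S`.
-/
import Mathlib
import Groth.Agent.Lib.Helper5.HomogFibre2
import Groth.Agent.Lib.Helper5.GrpNeutral6

set_option autoImplicit false
set_option linter.style.haveILetI false
universe u
open CategoryTheory CategoryTheory.Limits MonoidalCategory CartesianMonoidalCategory MonObj GrpObj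
  AlgebraicGeometry Topology TopologicalSpace
open Groth.Agent.Lib.Helper14.BCAct Groth.Agent.Lib.helper5.MaxPt Groth.Agent.Lib.helper5.HomogSepU
  Groth.Agent.Lib.helper5.HomogT Groth.Agent.Lib.helper22 Groth.Agent.Lib.helper5.GrpNeutral1
  Groth.Agent.Lib.helper5.GrpNeutral2 Groth.Agent.Lib.helper5.GrpNeutral6

namespace Groth.Agent.Lib.helper5.HomogFibre

variable {S : Scheme.{u}} {G X : Over S} [GrpObj G] (a : AlgGrp.Action G X)

theorem quasiCompact_of_maxPtsIn (hΦ : Surjective (lift a.act (snd G X)).left)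
    (V : X.left.Opens) [QuasiCompact (V.ι ≫ X.hom)] (hV : ∀ x : X.left, MaxPtsIn X (X.hom x) V) :
    QuasiCompact X.hom := by
  rw [quasiCompact_iff_forall_isAffineOpen]
  intro S₀ hS₀
  rcases (S₀ : Set S).eq_empty_or_nonempty with he | ⟨s, hs⟩
  · have : ((X.hom ⁻¹ᵁ S₀ : X.left.Opens) : Set X.left) = ∅ := by
      show X.hom.base ⁻¹' (S₀ : Set S) = ∅
      rw [he, Set.preimage_empty]
    rw [this]
    exact isCompact_empty
  · have hfe : ∀ s : S, G.hom (unitSec G s) = s := fun s => by
      rw [← Scheme.Hom.comp_apply, unitSec_hom]; rfl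
    obtain ⟨O, hOc, hOS, -, hON⟩ := exists_isCompact_open_over_affine G S₀ hS₀ (unitSec G s)
      (by rw [hfe]; exact hs)
    let V₀ : X.left.Opens := V ⊓ X.hom ⁻¹ᵁ S₀
    have hV₀c : IsCompact (V₀ : Set X.left) := by
      have h1 : IsCompact (((V.ι ≫ X.hom) ⁻¹ᵁ S₀ : (V : Scheme.{u}).Opens) : Set ↥(V : Scheme.{u})) :=
        quasiCompact_iff_forall_isAffineOpen.1 inferInstance S₀ hS₀
      have h2 := h1.image V.ι.continuous
      convert h2 using 1
      ext x
      constructor
      · rintro ⟨hxV, hxS⟩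
        exact ⟨⟨x, hxV⟩, hxS, rfl⟩
      · rintro ⟨v, hv, rfl⟩
        exact ⟨v.2, hv⟩
    have hM : IsCompact (pullback.fst G.hom X.hom ⁻¹' (O : Set G.left) ∩
        pullback.snd G.hom X.hom ⁻¹' (V₀ : Set X.left)) :=
      isCompact_inter_preimage' G.hom X.hom S₀ hS₀ O hOc hOS V₀ hV₀c inf_le_right
    let σ : (G ⊗ X).left ≅ (G ⊗ X).left := (Over.forget S).mapIso (shear a)
    have hσ : ∀ t, σ.hom t = (shear a).hom.left t := fun t => rfl
    have hM' : IsCompact (σ.hom ⁻¹' (pullback.fst G.hom X.hom ⁻¹' (O : Set G.left) ∩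
        pullback.snd G.hom X.hom ⁻¹' (V₀ : Set X.left))) :=
      (Scheme.homeoOfIso σ).isCompact_preimage.2 hM
    have hfstσ : ∀ t, pullback.fst G.hom X.hom (σ.hom t) = (fst G X).left t := by
      intro t
      have h1 : (shear a).hom ≫ fst G X = fst G X := lift_fst _ _
      have h2 := congrArg (fun k => k.left) h1
      simp only [Over.comp_left] at h2
      show (fst G X).left ((shear a).hom.left t) = _
      rw [← Scheme.Hom.comp_apply, h2]
    have hsndσ : ∀ t, pullback.snd G.hom X.hom (σ.hom t) = a.act.left t := by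
      intro t
      have h2 := congrArg (fun k => k.left) (shear_hom_snd a)
      simp only [Over.comp_left] at h2
      show (snd G X).left ((shear a).hom.left t) = _
      rw [← Scheme.Hom.comp_apply, h2]
    have hcond : (fst G X).left ≫ G.hom = (snd G X).left ≫ X.hom :=
      pullback.condition (f := G.hom) (g := X.hom)
    have heq : ((X.hom ⁻¹ᵁ S₀ : X.left.Opens) : Set X.left) =
        (snd G X).left '' (σ.hom ⁻¹' (pullback.fst G.hom X.hom ⁻¹' (O : Set G.left) ∩
          pullback.snd G.hom X.hom ⁻¹' (V₀ : Set X.left))) := by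
      apply Set.Subset.antisymm
      · intro x hx
        obtain ⟨t, ht1, ht2, ht3⟩ := exists_translate_neutral₁ a hΦ x V (hV x)
        have hGt : G.hom ((fst G X).left t) = X.hom x := by
          rw [← ht1, ← Scheme.Hom.comp_apply, hcond, Scheme.Hom.comp_apply]
        refine ⟨t, ⟨?_, ?_⟩, ht1⟩
        · show pullback.fst G.hom X.hom (σ.hom t) ∈ O
          rw [hfstσ]
          apply hON
          refine ⟨ht2, ?_⟩
          show G.hom ((fst G X).left t) ∈ S₀
          rw [hGt]; exact hx
        · show pullback.snd G.hom X.hom (σ.hom t) ∈ V₀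
          rw [hsndσ]
          refine ⟨ht3, ?_⟩
          show X.hom (a.act.left t) ∈ S₀
          have h1 : a.act.left ≫ X.hom = (G ⊗ X).hom := Over.w a.act
          have h2 : (G ⊗ X).hom = (fst G X).left ≫ G.hom := rfl
          rw [← Scheme.Hom.comp_apply, h1, h2, Scheme.Hom.comp_apply, hGt]
          exact hx
      · rintro _ ⟨t, ⟨ht1, -⟩, rfl⟩
        show X.hom ((snd G X).left t) ∈ S₀
        have h1 : pullback.fst G.hom X.hom (σ.hom t) ∈ O := ht1
        rw [hfstσ] at h1
        have h2 : G.hom ((fst G X).left t) ∈ S₀ := hOS h1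
        have h3 : G.hom ((fst G X).left t) = X.hom ((snd G X).left t) := by
          rw [← Scheme.Hom.comp_apply, hcond, Scheme.Hom.comp_apply]
        rwa [h3] at h2
    rw [heq]
    exact hM'.image (snd G X).left.continuous

end Groth.Agent.Lib.helper5.HomogFibre
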