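/-
helper5: scheme-level lemmas for SGA3 VI_B 5.6 (translating finitely many points into a dense open).
* `isFinite_fromSpecResidueField_comp`: closed points of a scheme locally of finite type over a field have finite residue field.
* `exists_specializes_of_isFinite`: specializations of the second coordinate lift to `Y ×_S X` with first coordinate in the
  image of a `Z ⟶ Y` finite over `S`.
* `isClosed_image_fst_of_isFinite`: `fst (F ∩ snd⁻¹ (range c'))` is closed for `F` closed and `c' : Z ⟶ X` finite over `S`.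
-/
import Mathlib

set_option autoImplicit false
set_option linter.style.haveILetI false
universe u
open CategoryTheory CategoryTheory.Limits AlgebraicGeometry Topology TopologicalSpace

namespace Groth.Agent.Lib.helper5.HomogQS

theorem isFinite_fromSpecResidueField_comp {k : Type u} [Field k] {Y : Scheme.{u}}
    (f : Y ⟶ Spec (CommRingCat.of k)) [LocallyOfFiniteType f] (y : Y) (hy : IsClosed ({y} : Set Y)) :
    IsFinite (Y.fromSpecResidueField y ≫ f) := by
  haveI := isClosed_singleton_iff_isClosedImmersion.mp hy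
  rw [isFinite_iff_locallyOfFiniteType_of_jacobsonSpace]
  infer_instance

variable {Y X S Z : Scheme.{u}} (f : Y ⟶ S) (h : X ⟶ S)

theorem exists_specializes_of_isFinite (c : Z ⟶ Y) [IsFinite (c ≫ f)] (t : ↥(pullback f h))
    (ht : pullback.fst f h t ∈ Set.range c) (a' : X) (ha : pullback.snd f h t ⤳ a') :
    ∃ t' : ↥(pullback f h), t ⤳ t' ∧ pullback.fst f h t' ∈ Set.range c ∧ pullback.snd f h t' = a' := by
  let m : pullback (c ≫ f) h ⟶ pullback f h :=
    pullback.map (c ≫ f) h f h c (𝟙 X) (𝟙 S) (by simp) (by simp)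
  have hm : Set.range m = pullback.fst f h ⁻¹' Set.range c ∩ pullback.snd f h ⁻¹' Set.range (𝟙 X :) := by
    dsimp only [m]
    rw [Scheme.Pullback.range_map]
  have hms : m ≫ pullback.snd f h = pullback.snd (c ≫ f) h := by
    dsimp only [m]
    rw [pullback.lift_snd, Category.comp_id]
  have hmf : m ≫ pullback.fst f h = pullback.fst (c ≫ f) h ≫ c := by
    dsimp only [m]
    rw [pullback.lift_fst]
  have htm : t ∈ Set.range m := by
    rw [hm]
    exact ⟨ht, ⟨pullback.snd f h t, rfl⟩⟩
  obtain ⟨p, rfl⟩ := htm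
  have hcl : IsClosedMap (pullback.snd (c ≫ f) h).base := (pullback.snd (c ≫ f) h).isClosedMap
  have ha2 : pullback.snd (c ≫ f) h p ⤳ a' := by
    rw [← hms, Scheme.Hom.comp_apply]; exact ha
  obtain ⟨p', hp', hp'a⟩ := hcl.specializingMap ha2
  refine ⟨m p', hp'.map m.continuous, ?_, ?_⟩
  · rw [← Scheme.Hom.comp_apply, hmf, Scheme.Hom.comp_apply]
    exact ⟨_, rfl⟩
  · rw [← Scheme.Hom.comp_apply, hms]
    exact hp'a

theorem isClosed_image_fst_of_isFinite (c' : Z ⟶ X) [IsFinite (c' ≫ h)] (F : Set ↥(pullback f h))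
    (hF : IsClosed F) :
    IsClosed (pullback.fst f h '' (F ∩ pullback.snd f h ⁻¹' Set.range c')) := by
  let m : pullback f (c' ≫ h) ⟶ pullback f h :=
    pullback.map f (c' ≫ h) f h (𝟙 Y) c' (𝟙 S) (by simp) (by simp)
  have hm : Set.range m = pullback.fst f h ⁻¹' Set.range (𝟙 Y :) ∩ pullback.snd f h ⁻¹' Set.range c' := by
    dsimp only [m]
    rw [Scheme.Pullback.range_map]
  have hmf : m ≫ pullback.fst f h = pullback.fst f (c' ≫ h) := by
    dsimp only [m]
    rw [pullback.lift_fst, Category.comp_id]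
  have hcl : IsClosedMap (pullback.fst f (c' ≫ h)).base := (pullback.fst f (c' ≫ h)).isClosedMap
  have heq : pullback.fst f h '' (F ∩ pullback.snd f h ⁻¹' Set.range c') =
      pullback.fst f (c' ≫ h) '' (m ⁻¹' F) := by
    apply Set.Subset.antisymm
    · rintro _ ⟨z, ⟨hzF, hzc⟩, rfl⟩
      have hz : z ∈ Set.range m := by
        rw [hm]
        exact ⟨⟨pullback.fst f h z, rfl⟩, hzc⟩
      obtain ⟨p, rfl⟩ := hz
      refine ⟨p, hzF, ?_⟩
      rw [← hmf, Scheme.Hom.comp_apply]
    · rintro _ ⟨p, hp, rfl⟩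
      refine ⟨m p, ⟨hp, ?_⟩, ?_⟩
      · have : m p ∈ Set.range m := ⟨p, rfl⟩
        rw [hm] at this
        exact this.2
      · rw [← hmf, Scheme.Hom.comp_apply]
  rw [heq]
  exact hcl _ (hF.preimage m.continuous)

end Groth.Agent.Lib.helper5.HomogQS
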