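/-
helper5: SGA3 VI_B 5.6 over a field: for a homogeneous space `X` locally of finite type under `G` (locally of finite type),
a dense open `U` of `X` and a finite set `A` of points of `X` there is a closed point `g₀` of `G⁰` with `g₀ · A ⊆ U`
(in the strong sense: all points of `G × X` over `(g₀, a)`, `a ∈ A`, are mapped into `U` by the action).
-/
import Mathlib
import Groth.Agent.Lib.Helper5.HomogQS1
import Groth.Agent.Lib.Helper5.HomogFibre3

set_option autoImplicit false
set_option linter.style.haveILetI false
universe u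
open CategoryTheory CategoryTheory.Limits MonoidalCategory CartesianMonoidalCategory MonObj GrpObj
  AlgebraicGeometry Topology TopologicalSpace
open Groth.Agent.Lib.helper5.MaxPt Groth.Agent.Lib.helper5.HomogSepU
  Groth.Agent.Lib.helper5.HomogT Groth.Agent.Lib.helper22

namespace Groth.Agent.Lib.helper5.HomogQS

variable {k : Type u} [Field k] {G X : Over (Spec (CommRingCat.of k))} [GrpObj G] (a : AlgGrp.Action G X)

theorem maxPtsIn_of_dense_field [LocallyOfFiniteType X.hom] (U : X.left.Opens) (hU : Dense (U : Set X.left))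
    (s : ↥(Spec (CommRingCat.of k))) : MaxPtsIn X s U := by
  haveI : LocallyOfFiniteType (X.hom.fiberToSpecResidueField s) :=
    inferInstanceAs (LocallyOfFiniteType (pullback.snd X.hom _))
  apply maxPtsIn_of_dense
  intro x _
  have h1 : X.hom.base ⁻¹' {s} = Set.univ := by
    ext z
    simp only [Set.mem_preimage, Set.mem_singleton_iff, Set.mem_univ, iff_true]
    exact Subsingleton.elim (α := PrimeSpectrum k) _ _
  rw [h1, Set.inter_univ]
  exact hU x

/-- a point of `G × X` over the generic point of `G⁰` and a closed point of `X` is mapped into any dense open. -/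
theorem act_mem_of_fst_generic [LocallyOfFiniteType X.hom] (hΦ : Surjective (lift a.act (snd G X)).left)
    (U : X.left.Opens) (hU : Dense (U : Set X.left)) (a' : X.left) (ha' : IsClosed ({a'} : Set X.left))
    (η₁ : G.left) (hη₁ : IsGenericPoint η₁ (SGA3x.neutralSet G))
    (t : (G ⊗ X).left) (ht1 : (fst G X).left t = η₁) (ht2 : (snd G X).left t = a') :
    a.act.left t ∈ U := by
  let K := X.left.residueField a'
  let y : Spec (CommRingCat.of K) ⟶ X.left := X.left.fromSpecResidueField a'
  let h : Spec (CommRingCat.of K) ⟶ Spec (CommRingCat.of k) := y ≫ X.hom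
  let T : Over (Spec (CommRingCat.of k)) := Over.mk h
  let yT : T ⟶ X := Over.homMk y rfl
  haveI hfin : IsFinite h := isFinite_fromSpecResidueField_comp X.hom a' ha'
  have hs : h (IsLocalRing.closedPoint K) = X.hom a' := by
    show (y ≫ X.hom) _ = _
    rw [Scheme.Hom.comp_apply]
    congr 1
    exact X.left.fromSpecResidueField_apply a' _
  -- the point `p` of `G_T` above `t`
  have sq := isPullback_whiskerLeft_left yT G
  obtain ⟨p, hp1, hp2⟩ := Scheme.exists_preimage_of_isPullback sq t (IsLocalRing.closedPoint K) (by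
    show (snd G X).left t = y (IsLocalRing.closedPoint K)
    rw [ht2]; exact (X.left.fromSpecResidueField_apply a' _).symm)
  -- the generic point of `C0S`
  obtain ⟨η₀, hη₀⟩ := QuasiSober.sober (isIrreducible_C0S (G := G) K h) (isClosed_C0S K h)
  have hfp : (fst G T).left p = η₁ := by
    rw [← ht1, ← hp1]
    show _ = ((G ◁ yT).left ≫ (fst G X).left) p
    rw [← Over.comp_left, whiskerLeft_fst]
  have hpC : p ∈ C0S G T := by
    show (fst G T).left p ∈ SGA3x.neutralSet G
    rw [hfp]; exact hη₁.mem
  have hsp : η₀ ⤳ p := hη₀.specializes hpC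
  have hfη₀ : (fst G T).left η₀ = η₁ := by
    have h1 : (fst G T).left η₀ ⤳ η₁ := by
      rw [← hfp]; exact hsp.map (fst G T).left.continuous
    have h2 : η₁ ⤳ (fst G T).left η₀ := hη₁.specializes hη₀.mem
    exact (h1.antisymm h2).eq
  -- discreteness of the fibres of the finite morphism `G_T ⟶ G`
  haveI : IsFinite (fst G T).left := inferInstanceAs (IsFinite (pullback.fst G.hom h))
  have hdisc := (fst G T).left.isDiscrete_preimage_singleton η₁
  haveI : DiscreteTopology ↥((fst G T).left ⁻¹' {η₁}) := hdisc.to_subtype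
  have hpη : η₀ = p := by
    have h3 : (⟨η₀, hfη₀⟩ : ↥((fst G T).left ⁻¹' {η₁})) ⤳ ⟨p, hfp⟩ :=
      Topology.IsInducing.subtypeVal.specializes_iff.1 hsp
    exact congrArg Subtype.val h3.eq
  -- conclusion
  have hmax : IsMaxPt ((orbT a yT).left η₀) := @isMaxPt_orbT_generic _ G X _ a hΦ K _ h yT η₀ hη₀
  have key := maxPtsIn_of_dense_field U hU (X.hom a') K h hs _ hmax
  rw [← Scheme.Hom.comp_apply, ← Over.comp_left, ← whiskerLeft_comp_act] at key
  rw [← hp1, ← hpη, ← Scheme.Hom.comp_apply, ← Over.comp_left]
  exact key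

end Groth.Agent.Lib.helper5.HomogQS
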