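/-
helper5: SGA3 VI_B 5.6 over a field (main statement): a closed point of `G⁰` translating a finite set into a dense open.
-/
import Mathlib
import Groth.Agent.Lib.Helper5.HomogQS2
import Groth.Agent.Lib.Helper5.GrpNeutral5

set_option autoImplicit false
set_option linter.style.haveILetI false
universe u
open CategoryTheory CategoryTheory.Limits MonoidalCategory CartesianMonoidalCategory MonObj GrpObj
  AlgebraicGeometry Topology TopologicalSpace
open Groth.Agent.Lib.helper5.MaxPt Groth.Agent.Lib.helper5.HomogSepU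
  Groth.Agent.Lib.helper5.HomogT Groth.Agent.Lib.helper22

namespace Groth.Agent.Lib.helper5.HomogQS

variable {k : Type u} [Field k] {G X : Over (Spec (CommRingCat.of k))} [GrpObj G] (a : AlgGrp.Action G X)

theorem isOpen_neutralSet_field [LocallyOfFiniteType G.hom] : IsOpen (SGA3x.neutralSet G) := by
  haveI : LocallyConnectedSpace ↥G.left :=
    Groth.Agent.Lib.helper5.GrpNeutral5.locallyConnectedSpace_of_lft G.hom
  rw [Groth.Agent.Lib.helper5.GrpNeutral2.neutralSet_field]
  exact isOpen_connectedComponent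

theorem exists_closedPoint_translating [LocallyOfFiniteType G.hom] [LocallyOfFiniteType X.hom]
    (hΦ : Surjective (lift a.act (snd G X)).left) (U : X.left.Opens) (hU : Dense (U : Set X.left))
    (A : Set X.left) (hA : A.Finite) :
    ∃ g₀ : G.left, IsClosed ({g₀} : Set G.left) ∧ g₀ ∈ SGA3x.neutralSet G ∧
      ∀ t : (G ⊗ X).left, (fst G X).left t = g₀ → (snd G X).left t ∈ A → a.act.left t ∈ U := by
  haveI : JacobsonSpace ↥X.left := LocallyOfFiniteType.jacobsonSpace (Y := Spec _) X.hom
  haveI : JacobsonSpace ↥G.left := LocallyOfFiniteType.jacobsonSpace (Y := Spec _) G.hom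
  have hcs : ∀ x : X.left, ∃ x' : X.left, IsClosed ({x'} : Set X.left) ∧ x ⤳ x' := by
    intro x
    obtain ⟨x', hx'1, hx'2⟩ := nonempty_inter_closedPoints (X := ↥X.left) (Z := closure {x})
      ⟨x, subset_closure rfl⟩ isClosed_closure.isLocallyClosed
    exact ⟨x', hx'2, specializes_iff_mem_closure.2 hx'1⟩
  choose c hc1 hc2 using hcs
  let F : Set (G ⊗ X).left := a.act.left ⁻¹' (U : Set X.left)ᶜ
  have hF : IsClosed F := U.2.isClosed_compl.preimage a.act.left.continuous
  let B : X.left → Set G.left := fun a' => (fst G X).left '' (F ∩ (snd G X).left ⁻¹' {a'})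
  have hB : ∀ x, IsClosed (B (c x)) := by
    intro x
    haveI := isFinite_fromSpecResidueField_comp X.hom (c x) (hc1 x)
    have := isClosed_image_fst_of_isFinite G.hom X.hom (X.left.fromSpecResidueField (c x)) F hF
    rwa [Scheme.range_fromSpecResidueField] at this
  have hBA : IsClosed (⋃ x ∈ A, B (c x)) := hA.isClosed_biUnion fun x _ => hB x
  -- the generic point of `G⁰`
  have hN := neutralSet_mem_irreducibleComponents G
  obtain ⟨η₁, hη₁⟩ := QuasiSober.sober hN.1 (isClosed_neutralSet G)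
  have hη₁B : η₁ ∉ ⋃ x ∈ A, B (c x) := by
    simp only [Set.mem_iUnion, not_exists]
    rintro x hx ⟨t, ⟨htF, hta⟩, ht1⟩
    exact htF (act_mem_of_fst_generic a hΦ U hU (c x) (hc1 x) η₁ hη₁ t ht1 hta)
  have hNo : IsOpen (SGA3x.neutralSet G) := isOpen_neutralSet_field
  obtain ⟨g₀, ⟨hg₀N, hg₀B⟩, hg₀cl⟩ := nonempty_inter_closedPoints (X := ↥G.left)
    (Z := SGA3x.neutralSet G ∩ (⋃ x ∈ A, B (c x))ᶜ) ⟨η₁, hη₁.mem, hη₁B⟩
    (hNo.inter hBA.isOpen_compl).isLocallyClosed
  have hg₀cl' : IsClosed ({g₀} : Set G.left) := hg₀cl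
  refine ⟨g₀, hg₀cl', hg₀N, ?_⟩
  intro t ht1 ht2
  haveI := isFinite_fromSpecResidueField_comp G.hom g₀ hg₀cl'
  obtain ⟨t', htt', ht'1, ht'2⟩ := exists_specializes_of_isFinite G.hom X.hom
    (G.left.fromSpecResidueField g₀) t (by rw [Scheme.range_fromSpecResidueField]; exact ht1)
    (c ((snd G X).left t)) (hc2 _)
  rw [Scheme.range_fromSpecResidueField] at ht'1
  by_contra hnot
  have ht'U : a.act.left t' ∉ U :=
    fun h' => hnot ((htt'.map a.act.left.continuous).mem_open U.2 h')
  apply hg₀B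
  simp only [Set.mem_iUnion]
  exact ⟨(snd G X).left t, ht2, t', ⟨ht'U, ht'2⟩, ht'1⟩

end Groth.Agent.Lib.helper5.HomogQS
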