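/-
helper5: SGA3 VI_B 5.6 over a general base: a closed point `g₁` of the neutral component of the fibre `G_s` translating a
finite subset `A` of `X` into an open `U` dense in the fibre `X_s`.
-/
import Mathlib
import Groth.Agent.Lib.Helper5.HomogQS3

set_option autoImplicit false
set_option linter.style.haveILetI false
universe u
open CategoryTheory CategoryTheory.Limits MonoidalCategory CartesianMonoidalCategory MonObj GrpObj
  AlgebraicGeometry Topology TopologicalSpace
open Groth.Agent.Lib.Helper14.BCAct Groth.Agent.Lib.helper5.MaxPt Groth.Agent.Lib.helper5.HomogSepU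
  Groth.Agent.Lib.helper5.HomogT Groth.Agent.Lib.helper22 Groth.Agent.Lib.helper5.HomogFibre

namespace Groth.Agent.Lib.helper5.HomogQS

section proj

variable {S S' : Scheme.{u}} (g : S' ⟶ S) (G X : Over S)

theorem prT_fst : prT g G X ≫ (fst G X).left = (fst (Red.bc g G) (Red.bc g X)).left ≫ prL g G := by
  have h := congrArg (fun t => t.left) (Functor.Monoidal.μ_fst (Over.pullback g) G X)
  simp only [Over.comp_left] at h
  rw [prT, Category.assoc, ← map_left_prL, ← Category.assoc, h]

theorem prT_snd : prT g G X ≫ (snd G X).left = (snd (Red.bc g G) (Red.bc g X)).left ≫ prL g X := by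
  have h := congrArg (fun t => t.left) (Functor.Monoidal.μ_snd (Over.pullback g) G X)
  simp only [Over.comp_left] at h
  rw [prT, Category.assoc, ← map_left_prL, ← Category.assoc, h]

theorem range_prT (s : S) :
    Set.range (prT (S.fromSpecResidueField s) G X) = (G ⊗ X).hom.base ⁻¹' {s} := by
  haveI : IsIso (Functor.LaxMonoidal.μ (Over.pullback (S.fromSpecResidueField s)) G X).left :=
    inferInstanceAs (IsIso ((Over.forget _).map
      (Functor.LaxMonoidal.μ (Over.pullback (S.fromSpecResidueField s)) G X)))
  rw [prT, Scheme.Hom.comp_base, TopCat.coe_comp, Set.range_comp]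
  have h1 : Set.range (Functor.LaxMonoidal.μ (Over.pullback (S.fromSpecResidueField s)) G X).left =
      Set.univ := by
    apply Set.range_eq_univ.2
    exact (Functor.LaxMonoidal.μ (Over.pullback (S.fromSpecResidueField s)) G X).left.surjective
  rw [h1, Set.image_univ]
  exact (G ⊗ X).hom.range_fiberι s

end proj

variable {S : Scheme.{u}} {G X : Over S} [GrpObj G] (a : AlgGrp.Action G X)

/-- **SGA3 VI_B 5.6, the point**: a point `g₁` of `G⁰_s`, closed in the fibre `G_s`, translating `A` into `U`. -/
theorem exists_point_translating [LocallyOfFiniteType G.hom]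
    (hΦ : Surjective (lift a.act (snd G X)).left) (U : X.left.Opens) (s : S)
    (hft : LocallyOfFiniteType (X.hom.fiberToSpecResidueField s))
    (hdense : X.hom.base ⁻¹' {s} ⊆ closure ((U : Set X.left) ∩ X.hom.base ⁻¹' {s}))
    (A : Set X.left) (hA : A.Finite) :
    ∃ g₀ : ↥(G.hom.fiber s), IsClosed ({g₀} : Set ↥(G.hom.fiber s)) ∧
      G.hom.fiberι s g₀ ∈ SGA3x.neutralSet G ∧
      ∀ t : (G ⊗ X).left, (fst G X).left t = G.hom.fiberι s g₀ → (snd G X).left t ∈ A →
        a.act.left t ∈ U := by
  let k : Type u := S.residueField s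
  let g : Spec (CommRingCat.of k) ⟶ S := S.fromSpecResidueField s
  let Gk : Over (Spec (CommRingCat.of k)) := Red.bc g G
  let Xk : Over (Spec (CommRingCat.of k)) := Red.bc g X
  let ak : AlgGrp.Action Gk Xk := bcAction g a
  have hΦk : Surjective (lift ak.act (snd Gk Xk)).left := surjective_Φ_bc g a hΦ
  haveI : LocallyOfFiniteType Gk.hom := inferInstanceAs (LocallyOfFiniteType (pullback.snd G.hom g))
  haveI : LocallyOfFiniteType Xk.hom := hft
  let Uk : Xk.left.Opens := (prL g X) ⁻¹ᵁ U
  have hrange : Set.range (prL g X) = X.hom.base ⁻¹' {s} := X.hom.range_fiberι s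
  have hemb : IsEmbedding (prL g X) := (X.hom.fiberι s).isEmbedding
  have hembG : IsEmbedding (prL g G) := (G.hom.fiberι s).isEmbedding
  have hUk : Dense (Uk : Set Xk.left) := by
    intro x
    rw [hemb.isInducing.closure_eq_preimage_closure_image]
    have h1 : prL g X '' (Uk : Set Xk.left) = (U : Set X.left) ∩ X.hom.base ⁻¹' {s} := by
      rw [← hrange]
      exact Set.image_preimage_eq_inter_range
    rw [h1]
    apply hdense
    rw [← hrange]
    exact ⟨x, rfl⟩
  let Ak : Set Xk.left := prL g X ⁻¹' A
  have hAk : Ak.Finite := hA.preimage hemb.injective.injOn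
  obtain ⟨g₀, hg₀cl, hg₀N, hg₀⟩ := exists_closedPoint_translating ak hΦk Uk hUk Ak hAk
  refine ⟨g₀, hg₀cl, ?_, ?_⟩
  · rw [Groth.Agent.Lib.helper5.GrpNeutral1.neutralSet_bc] at hg₀N
    exact hg₀N
  · intro t ht1 ht2
    have hts : t ∈ (G ⊗ X).hom.base ⁻¹' {s} := by
      show (G ⊗ X).hom t = s
      have h1 : (G ⊗ X).hom = (fst G X).left ≫ G.hom := rfl
      rw [h1, Scheme.Hom.comp_apply, ht1]
      have : G.hom.fiberι s g₀ ∈ Set.range (G.hom.fiberι s) := ⟨_, rfl⟩
      rw [G.hom.range_fiberι s] at this
      exact this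
    rw [← range_prT] at hts
    obtain ⟨tk, rfl⟩ := hts
    have h1 : (fst Gk Xk).left tk = g₀ := by
      apply hembG.injective
      have := congrArg (fun m => m.base tk) (prT_fst g G X)
      simp only [Scheme.Hom.comp_base, TopCat.comp_app] at this
      rw [← this]
      exact ht1
    have h2 : (snd Gk Xk).left tk ∈ Ak := by
      show prL g X ((snd Gk Xk).left tk) ∈ A
      have := congrArg (fun m => m.base tk) (prT_snd g G X)
      simp only [Scheme.Hom.comp_base, TopCat.comp_app] at this
      rw [← this]
      exact ht2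
    have h3 : prL g X (ak.act.left tk) ∈ U := hg₀ tk h1 h2
    have := congrArg (fun m => m.base tk) (bcAction_act_prL g a)
    simp only [Scheme.Hom.comp_base, TopCat.comp_app] at this
    rw [← this]
    exact h3

end Groth.Agent.Lib.helper5.HomogQS
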