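/-
helper5: a quasi-section of a group scheme through a closed point of the neutral component of a fibre (helper9's S5391
applied to `G`, universally open near the unit section).
-/
import Mathlib
import Groth.Agent.Lib.Helper5.HomogQS4
import Groth.Agent.Lib.Helper9.QSec6
import Groth.Agent.Lib.Helper9.UOPoint
import Groth.Agent.Lib.Helper4.UnivOpenDvr6
import Groth.Agent.Lib.Helper5.GrpHomog
import Groth.Agent.Lib.Helper3.FibreDimBC

set_option autoImplicit false
set_option linter.style.haveILetI false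
universe u
open CategoryTheory CategoryTheory.Limits MonoidalCategory CartesianMonoidalCategory MonObj GrpObj
  AlgebraicGeometry Topology TopologicalSpace
open Groth.Agent.Lib.Helper14.BCAct Groth.Agent.Lib.helper5.MaxPt Groth.Agent.Lib.helper5.HomogSepU
  Groth.Agent.Lib.helper5.HomogT Groth.Agent.Lib.helper22 Groth.Agent.Lib.helper5.HomogFibre
  Groth.Agent.Lib.helper5.GrpNeutral1 Groth.Agent.Lib.helper5.GrpNeutral2

namespace Groth.Agent.Lib.helper5.HomogQS

variable {S : Scheme.{u}}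

theorem exists_quasiSection_neutral (G : Over S) [GrpObj G] [LocallyOfFinitePresentation G.hom]
    (W : G.left.Opens) (hW : ∀ s : S, unitSec G s ∈ W) [UniversallyOpen (W.ι ≫ G.hom)] (s : S)
    (g₀ : ↥(G.hom.fiber s)) (hg₀cl : IsClosed ({g₀} : Set ↥(G.hom.fiber s)))
    (hg₀N : G.hom.fiberι s g₀ ∈ SGA3x.neutralSet G) :
    ∃ (S' S'' : Scheme.{u}) (w : S' ⟶ S) (π : S'' ⟶ S') (h : S'' ⟶ G.left),
      Etale w ∧ IsFinite π ∧ Surjective π ∧ h ≫ G.hom = π ≫ w ∧
      ∃ s₀ : S'', (π ≫ w).base ⁻¹' {s} = {s₀} ∧ h.base s₀ = G.hom.fiberι s g₀ := by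
  let k : Type u := S.residueField s
  let g : Spec (CommRingCat.of k) ⟶ S := S.fromSpecResidueField s
  let Gk : Over (Spec (CommRingCat.of k)) := Red.bc g G
  haveI : LocallyOfFiniteType Gk.hom := inferInstanceAs (LocallyOfFiniteType (pullback.snd G.hom g))
  let e : Gk.left ≃ₜ ↥(G.hom.base ⁻¹' {s}) := G.hom.fiberHomeo s
  have hNk : SGA3x.neutralSet Gk = (G.hom.fiberι s).base ⁻¹' SGA3x.neutralSet G := neutralSet_bc g G
  have hιe : ∀ x : ↥(G.hom.base ⁻¹' {s}), G.hom.fiberι s (e.symm x) = x.1 :=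
    fun x => G.hom.fiberι_fiberHomeo_symm s x
  have heι : ∀ y : Gk.left, (e y).1 = G.hom.fiberι s y := fun y => rfl
  set g₁ : G.left := G.hom.fiberι s g₀ with hg₁
  have hg₁s : G.hom.base g₁ = s := (e g₀).2
  have hg₁e : (⟨g₁, hg₁s⟩ : ↥(G.hom.base ⁻¹' {s})) = e g₀ := Subtype.ext rfl
  have hg₀Nk : g₀ ∈ SGA3x.neutralSet Gk := by rw [hNk]; exact hg₀N
  -- closedness in the fibre
  have hx : IsClosed ((Subtype.val : ↥(G.hom.base ⁻¹' {s}) → G.left) ⁻¹' {g₁}) := by
    have h1 : (Subtype.val : ↥(G.hom.base ⁻¹' {s}) → G.left) ⁻¹' {g₁} = e.symm ⁻¹' {g₀} := by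
      ext x
      simp only [Set.mem_preimage, Set.mem_singleton_iff]
      constructor
      · intro hx
        apply (G.hom.fiberι s).isEmbedding.injective
        rw [hιe, hx]
      · intro hx
        rw [← hιe, hx]
    rw [h1]
    exact hg₀cl.preimage e.symm.continuous
  -- the neutral component of the fibre
  let Z : Set ↥(G.hom.base ⁻¹' {s}) := e.symm ⁻¹' SGA3x.neutralSet Gk
  have hZ : Z ∈ irreducibleComponents ↥(G.hom.base ⁻¹' {s}) :=
    preimage_mem_irreducibleComponents (neutralSet_mem_irreducibleComponents Gk)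
      e.symm.isOpenEmbedding ⟨g₀, hg₀Nk, e g₀, e.symm_apply_apply g₀⟩
  have hZo : IsOpen Z := (isOpen_neutralSet_field (G := Gk)).preimage e.symm.continuous
  have hg₁Z : (⟨g₁, hg₁s⟩ : ↥(G.hom.base ⁻¹' {s})) ∈ Z := by
    show e.symm ⟨g₁, hg₁s⟩ ∈ SGA3x.neutralSet Gk
    rw [hg₁e, e.symm_apply_apply]
    exact hg₀Nk
  have hxZ : g₁ ∈ (Subtype.val '' Z) := ⟨⟨g₁, hg₁s⟩, hg₁Z, rfl⟩
  -- the generic point
  obtain ⟨η₁, hη₁⟩ := QuasiSober.sober (neutralSet_mem_irreducibleComponents Gk).1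
    (isClosed_neutralSet Gk)
  let z : G.left := G.hom.fiberι s η₁
  have hz1 : z ∈ Subtype.val '' Z := by
    refine ⟨e η₁, ?_, rfl⟩
    show e.symm (e η₁) ∈ SGA3x.neutralSet Gk
    rw [e.symm_apply_apply]
    exact hη₁.mem
  have hz2 : Subtype.val '' Z ⊆ closure {z} := by
    rintro _ ⟨x, hxZ', rfl⟩
    have h1 : η₁ ⤳ e.symm x := hη₁.specializes hxZ'
    have h2 := h1.map (G.hom.fiberι s).continuous
    rw [hιe] at h2
    exact specializes_iff_mem_closure.1 h2
  -- universal openness at `z`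
  have hzW : z ∈ W := by
    have hus : G.hom (unitSec G s) = s := by
      rw [← Scheme.Hom.comp_apply, unitSec_hom]; rfl
    have hu : unitSec G s ∈ Subtype.val '' Z := by
      refine ⟨⟨unitSec G s, hus⟩, ?_, rfl⟩
      show e.symm ⟨unitSec G s, hus⟩ ∈ SGA3x.neutralSet Gk
      rw [hNk]
      show G.hom.fiberι s (e.symm ⟨unitSec G s, hus⟩) ∈ SGA3x.neutralSet G
      rw [hιe]
      exact unitSec_mem_neutralSet G s
    have h1 : z ⤳ unitSec G s := specializes_iff_mem_closure.2 (hz2 hu)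
    exact h1.mem_open W.2 (hW s)
  have hopen : EGA43.IsUnivOpenAt G.hom z := by
    have h1 : EGA43.IsUnivOpenAt (W.ι ≫ G.hom) (⟨z, hzW⟩ : ↥(W : Scheme.{u})) :=
      Groth.Agent.Lib.helper4.UnivOpenDvr6.isUnivOpenAt_of_universallyOpen (W.ι ≫ G.hom) _
    exact Groth.Agent.Lib.helper9.UO.isUnivOpenAt_of_comp W.ι G.hom ⟨z, hzW⟩ h1
  -- the dimension condition
  have hdim : FlatMor.localDim ↥(G.hom.base ⁻¹' {s}) ⟨g₁, hg₁s⟩ = topologicalKrullDim ↥Z := by
    apply le_antisymm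
    · unfold FlatMor.localDim
      exact iInf_le _ (⟨⟨Z, hZo⟩, hg₁Z⟩ :
        {O : TopologicalSpace.Opens ↥(G.hom.base ⁻¹' {s}) // (⟨g₁, hg₁s⟩ : ↥(G.hom.base ⁻¹' {s})) ∈ O})
    · calc topologicalKrullDim ↥Z ≤ topologicalKrullDim ↥(G.hom.base ⁻¹' {s}) :=
            topologicalKrullDim_subspace_le _ Z
        _ = topologicalKrullDim ↥Gk.left :=
            (IsHomeomorph.topologicalKrullDim_eq e e.isHomeomorph).symm
        _ = FlatMor.localDim ↥Gk.left g₀ :=
            (Groth.Agent.Lib.helper5.GrpHomog.localDim_eq_dim k Gk g₀).symm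
        _ = FlatMor.localDim ↥(G.hom.base ⁻¹' {s}) (e g₀) :=
            Groth.Agent.Lib.helper3.FibreDimBC.localDim_homeo e g₀
        _ = FlatMor.localDim ↥(G.hom.base ⁻¹' {s}) ⟨g₁, hg₁s⟩ := by rw [hg₁e]
  obtain ⟨S', S'', -, w, π, h, het, hfin, hsurj, -, hcomm, s₀, hs₀, hhs₀, -⟩ :=
    Groth.Agent.Lib.helper9.QSec.exists_quasiSection_through_point G.left S G.hom s g₁ hg₁s hx Z hZ
      hxZ z ⟨hz1, hz2⟩ hopen hdim
  exact ⟨S', S'', w, π, h, het, hfin, hsurj, hcomm, s₀, hs₀, hhs₀⟩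

end Groth.Agent.Lib.helper5.HomogQS
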