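/-
helper5: SGA3 VI_A 2.6.5 over a general base `S`: for a homogeneous space `X` under a group scheme `G` over `S`
(homogeneous = `(g, x) ↦ (g x, x)` surjective), at every field level `T = Spec L ⟶ S` the orbit map of a `T`-point sends
the generic point of `G⁰_T` to a maximal point of `X_T` (`isMaxPt_orbT_generic`).
-/
import Mathlib
import Groth.Agent.Lib.Helper5.HomogT3

set_option autoImplicit false
set_option linter.style.haveILetI false
universe u
open CategoryTheory CategoryTheory.Limits MonoidalCategory CartesianMonoidalCategory MonObj GrpObj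
  AlgebraicGeometry Topology
open Groth.Agent.Lib.helper22 Groth.Agent.Lib.helper5.MaxPt Groth.Agent.Lib.helper5.MaxPtSch
  Groth.Agent.Lib.helper3 Groth.Agent.Lib.helper5.HomogT

namespace Groth.Agent.Lib.helper5.HomogSepU

variable {S : Scheme.{u}} {G X : Over S} [GrpObj G] (a : AlgGrp.Action G X)

/-- the neutral component at level `T` (general base) -/
def C0S (G : Over S) [GrpObj G] (T : Over S) : Set (G ⊗ T).left :=
  (fst G T).left ⁻¹' SGA3x.neutralSet G

theorem isIrreducible_C0S (L : Type u) [Field L] (h : Spec (CommRingCat.of L) ⟶ S) :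
    IsIrreducible (C0S G (Over.mk h)) :=
  (Groth.Agent.Lib.helper5.GrpNeutral2.isIrreducible_preimage_neutralSet L h G).1

theorem C0S_eq_neutralSet_bc (L : Type u) [Field L] (h : Spec (CommRingCat.of L) ⟶ S) :
    C0S G (Over.mk h) = SGA3x.neutralSet (Red.bc h G) :=
  (Groth.Agent.Lib.helper5.GrpNeutral1.neutralSet_bc h G).symm

theorem C0S_mem_irreducibleComponents (L : Type u) [Field L] (h : Spec (CommRingCat.of L) ⟶ S) :
    C0S G (Over.mk h) ∈ irreducibleComponents (G ⊗ Over.mk h).left := by
  rw [C0S_eq_neutralSet_bc]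
  exact neutralSet_mem_irreducibleComponents (Red.bc h G)

theorem isClosed_C0S (L : Type u) [Field L] (h : Spec (CommRingCat.of L) ⟶ S) :
    IsClosed (C0S G (Over.mk h)) :=
  isClosed_of_mem_irreducibleComponents _ (C0S_mem_irreducibleComponents L h)

theorem preimage_C0S {T T' : Over S} (s : T' ⟶ T) :
    (G ◁ s).left ⁻¹' C0S G T = C0S G T' := by
  ext z
  simp only [C0S, Set.mem_preimage]
  rw [← Scheme.Hom.comp_apply, ← Over.comp_left, whiskerLeft_fst]

/-- **Crux** over a general base: the image under the orbit map of the generic point of the neutral component (at a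
field level `T`) is a maximal point of `X_T`. -/
theorem isMaxPt_orbT_generic (hΦ : Surjective (lift a.act (snd G X)).left)
    (L : Type u) [Field L] (h : Spec (CommRingCat.of L) ⟶ S)
    (y : Over.mk h ⟶ X) (η₀ : (G ⊗ Over.mk h).left) (hη₀ : IsGenericPoint η₀ (C0S G (Over.mk h))) :
    IsMaxPt ((orbT a y).left η₀) := by
  let T : Over S := Over.mk h
  -- a maximal point `ξ` of `X ⊗ T`
  obtain ⟨ξ, hξ, -⟩ := exists_isMaxPt_specializes ((orbT a y).left η₀)
  haveI := surjective_orbT a hΦ y
  obtain ⟨g1, hg1⟩ := (orbT a y).left.surjective ξ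
  obtain ⟨g0, hg0, hg0g1⟩ := exists_isMaxPt_specializes g1
  have hφg : (orbT a y).left g0 = ξ := by
    apply hξ
    have := hg0g1.map (orbT a y).left.continuous
    rwa [hg1] at this
  -- the level of the residue field of `g0`
  let L' := (G ⊗ T).left.residueField g0
  let h' : Spec (CommRingCat.of L') ⟶ S :=
    (G ⊗ T).left.fromSpecResidueField g0 ≫ (G ⊗ T).hom
  let T' : Over S := Over.mk h'
  let hgT : T' ⟶ G ⊗ T := Over.homMk ((G ⊗ T).left.fromSpecResidueField g0) rfl
  let t : T' ⟶ G := hgT ≫ fst G T
  let s : T' ⟶ T := hgT ≫ snd G T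
  have hts : lift t s = hgT := by
    apply CartesianMonoidalCategory.hom_ext <;> simp [t, s]
  haveI : Flat s.left :=
    (inferInstance : Flat (show Spec (CommRingCat.of L') ⟶ Spec (CommRingCat.of L) from s.left))
  haveI : Surjective s.left :=
    (inferInstance : Surjective (show Spec (CommRingCat.of L') ⟶ Spec (CommRingCat.of L) from s.left))
  have hGs_surj : Function.Surjective (G ◁ s).left := (surjective_whiskerLeft s G).surj
  -- the generic point of the neutral component at level `T'`
  have hirr' : IsIrreducible (C0S G T') := isIrreducible_C0S L' h'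
  obtain ⟨η', hη'⟩ := QuasiSober.sober hirr' (isClosed_C0S L' h')
  have himg : (G ◁ s).left η' = η₀ := by
    have hgen : IsGenericPoint ((G ◁ s).left η') (C0S G T) := by
      rw [isGenericPoint_def]
      apply Set.Subset.antisymm
      · apply closure_minimal _ (isClosed_C0S L h)
        rw [Set.singleton_subset_iff, ← Set.mem_preimage, preimage_C0S]
        exact hη'.mem
      · intro z hz
        obtain ⟨z', rfl⟩ := hGs_surj z
        have hz' : z' ∈ C0S G T' := by rw [← preimage_C0S s]; exact hz
        have : η' ⤳ z' := hη'.specializes hz'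
        exact (this.map (G ◁ s).left.continuous).mem_closure
    exact hgen.eq hη₀
  -- `C0S G T'` is an irreducible component
  have hcomp : C0S G T' ∈ irreducibleComponents (G ⊗ T').left :=
    C0S_mem_irreducibleComponents L' h'
  have hη'max : IsMaxPt η' := isMaxPt_of_isGenericPoint hcomp hη'
  -- translation by `t`
  let lam := homeoOfIso (trX (regAct G) t)
  have hlam_max : IsMaxPt (lam η') := hη'max.map_homeomorph lam
  obtain ⟨pt'⟩ : Nonempty T'.left :=
    (inferInstance : Nonempty (Spec (CommRingCat.of L')))
  let e' : (G ⊗ T').left := (lift (toUnit T' ≫ η[G]) (𝟙 T')).left pt'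
  have he' : e' ∈ C0S G T' := by
    show (fst G T').left e' ∈ SGA3x.neutralSet G
    rw [← Scheme.Hom.comp_apply, ← Over.comp_left, lift_fst, Over.comp_left, Scheme.Hom.comp_apply]
    exact Groth.Agent.Lib.helper5.GrpNeutral2.unitSec_mem_neutralSet G _
  have hlam_e : (G ◁ s).left (lam e') = g0 := by
    show (G ◁ s).left ((trX (regAct G) t).hom.left ((lift (toUnit T' ≫ η[G]) (𝟙 T')).left pt')) = g0
    rw [← Scheme.Hom.comp_apply, ← Scheme.Hom.comp_apply, ← Over.comp_left, ← Over.comp_left]
    have hc : lift (toUnit T' ≫ η[G]) (𝟙 T') ≫ (trX (regAct G) t).hom ≫ G ◁ s = hgT := by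
      rw [← Category.assoc, lift_unit_trX, ← hts]
      apply CartesianMonoidalCategory.hom_ext <;> simp
    rw [hc]
    exact Scheme.fromSpecResidueField_apply g0 pt'
  have hg0' : (G ◁ s).left (lam η') = g0 := by
    apply hg0
    have h1 : η' ⤳ e' := hη'.specializes he'
    have h2 := (h1.map lam.continuous).map (G ◁ s).left.continuous
    rwa [hlam_e] at h2
  -- L5
  have hmax1 : IsMaxPt ((orbT a (s ≫ y)).left (lam η')) := by
    apply isMaxPt_of_isPullback (isPullback_orbT_left a s y) (lam η') hlam_max
    rw [hg0', hφg]; exact hξ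
  -- equivariance
  have heq : (orbT a (s ≫ y)).left (lam η') = homeoOfIso (trX a t) ((orbT a (s ≫ y)).left η') := by
    show (orbT a (s ≫ y)).left ((trX (regAct G) t).hom.left η') =
      (trX a t).hom.left ((orbT a (s ≫ y)).left η')
    rw [← Scheme.Hom.comp_apply, ← Scheme.Hom.comp_apply, ← Over.comp_left, ← Over.comp_left, trX_orbT]
  rw [heq] at hmax1
  have hmax2 : IsMaxPt ((orbT a (s ≫ y)).left η') := by
    have := hmax1.map_homeomorph (homeoOfIso (trX a t)).symm
    rwa [Homeomorph.symm_apply_apply] at this
  -- descend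
  haveI := flat_whiskerLeft s X
  have hgen : GeneralizingMap (X ◁ s).left := Flat.generalizingMap _
  have := hmax2.map_of_generalizingMap hgen
  rw [← Scheme.Hom.comp_apply, ← Over.comp_left, orbT_whiskerLeft, Over.comp_left, Scheme.Hom.comp_apply,
    himg] at this
  exact this

end Groth.Agent.Lib.helper5.HomogSepU
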