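/-
helper5: SGA3 VI_B 5: local openness of the projection `G ×_S Z ⟶ Z` at points of `G⁰` when `G` is universally open over
`S` near the unit section, and stability of the closure of the diagonal of `X` under translation by points of `G⁰`.
-/
import Mathlib
import Groth.Agent.Lib.Helper5.HomogSepU1
import Groth.Agent.Lib.Helper5.GrpNeutral7

set_option autoImplicit false
set_option linter.style.haveILetI false
universe u
open CategoryTheory CategoryTheory.Limits MonoidalCategory CartesianMonoidalCategory MonObj GrpObj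
  AlgebraicGeometry Topology
open Groth.Agent.Lib.helper22 Groth.Agent.Lib.helper5.HomogT Groth.Agent.Lib.helper5.HomogSep1
  Groth.Agent.Lib.helper5.GrpNeutral1 Groth.Agent.Lib.helper5.GrpNeutral2 Groth.Agent.Lib.helper5.GrpNeutral4

namespace Groth.Agent.Lib.helper5.HomogSepU

section cat

variable {C : Type*} [Category C] [CartesianMonoidalCategory C]

/-- `f ▷ Z` is the base change of `f` along the first projection. -/
theorem isPullback_whiskerRight {P G : C} (f : P ⟶ G) (Z : C) :
    IsPullback (f ▷ Z) (fst P Z) (fst G Z) f := by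
  refine isPullback_of_points (by simp) ?_ ?_
  · intro T s t h
    refine ⟨lift t (s ≫ snd G Z), ?_, by simp⟩
    apply CartesianMonoidalCategory.hom_ext
    · simp [h]
    · simp
  · intro T l l' h1 h2
    apply CartesianMonoidalCategory.hom_ext
    · exact h2
    · have := congrArg (fun k => k ≫ snd G Z) h1
      simpa using this

end cat

variable {S : Scheme.{u}} {G X : Over S} [GrpObj G]

/-- the projection `G ×_S Z ⟶ Z` is open at the points lying over `G⁰`, if `G` is universally open over `S` on an open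
neighbourhood `W` of the unit section. -/
theorem image_snd_mem_nhds (W : G.left.Opens) (hW : ∀ s : S, unitSec G s ∈ W)
    [UniversallyOpen (W.ι ≫ G.hom)] (Z : Over S) (t : (G ⊗ Z).left)
    (ht : (fst G Z).left t ∈ SGA3x.neutralSet G) (N : Set (G ⊗ Z).left) (hN : IsOpen N)
    (htN : t ∈ N) : (snd G Z).left '' N ∈ 𝓝 ((snd G Z).left t) := by
  obtain ⟨z, ⟨⟨hz1, -⟩, ⟨hz3, -⟩⟩, hz5⟩ := neutralSet_subset_image_mul W hW ht
  have hz : z ∈ Set.range (pNN W) := by
    rw [range_pNN]; exact ⟨hz1, hz3⟩
  obtain ⟨p, rfl⟩ := hz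
  let P : Over S := Over.mk (mNN W ≫ G.hom)
  let mP : P ⟶ G := Over.homMk (mNN W) rfl
  haveI : UniversallyOpen P.hom := by
    show UniversallyOpen (mNN W ≫ G.hom)
    rw [mNN_comp_hom]
    infer_instance
  have sq : IsPullback (mP ▷ Z).left (fst P Z).left (fst G Z).left mP.left :=
    (isPullback_whiskerRight mP Z).map (Over.forget S)
  obtain ⟨τ, hτ1, hτ2⟩ := Scheme.exists_preimage_of_isPullback sq t p hz5.symm
  haveI : UniversallyOpen (snd P Z).left :=
    inferInstanceAs (UniversallyOpen (pullback.snd P.hom Z.hom))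
  have hopen : IsOpenMap (snd P Z).left := (snd P Z).left.isOpenMap
  have hsnd : (mP ▷ Z).left ≫ (snd G Z).left = (snd P Z).left := by
    rw [← Over.comp_left, whiskerRight_snd]
  have hN' : IsOpen ((mP ▷ Z).left ⁻¹' N) := hN.preimage (Scheme.Hom.continuous _)
  have hmem : (snd G Z).left t ∈ (snd P Z).left '' ((mP ▷ Z).left ⁻¹' N) := by
    refine ⟨τ, ?_, ?_⟩
    · show (mP ▷ Z).left τ ∈ N
      rw [hτ1]; exact htN
    · rw [← hsnd, Scheme.Hom.comp_apply, hτ1]
  refine Filter.mem_of_superset ((hopen _ hN').mem_nhds hmem) ?_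
  rintro _ ⟨τ', hτ', rfl⟩
  refine ⟨(mP ▷ Z).left τ', hτ', ?_⟩
  rw [← Scheme.Hom.comp_apply, hsnd]

/-- the closure of the diagonal is stable under translation by points of `G⁰`. -/
theorem act₂_mem_closure_of_neutral (W : G.left.Opens) (hW : ∀ s : S, unitSec G s ∈ W)
    [UniversallyOpen (W.ι ≫ G.hom)] (a : AlgGrp.Action G X) (t : (G ⊗ (X ⊗ X)).left)
    (ht0 : (fst G (X ⊗ X)).left t ∈ SGA3x.neutralSet G)
    (ht : (snd G (X ⊗ X)).left t ∈ closure (Set.range (HomogSep1.diag X).left)) :
    (act₂ a).left t ∈ closure (Set.range (HomogSep1.diag X).left) := by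
  have h1 : t ∈ closure (Set.range (G ◁ HomogSep1.diag X).left) := by
    rw [range_whisker_diag, mem_closure_iff]
    intro N hN htN
    have hnhds := image_snd_mem_nhds W hW (X ⊗ X) t ht0 N hN htN
    obtain ⟨_, ⟨n, hn, rfl⟩, hd⟩ := mem_closure_iff_nhds.1 ht _ hnhds
    exact ⟨n, hn, hd⟩
  refine map_mem_closure (act₂ a).left.continuous h1 ?_
  rintro _ ⟨r, rfl⟩
  exact ⟨_, (act₂_whisker_diag_apply a r).symm⟩

end Groth.Agent.Lib.helper5.HomogSepU
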