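/-
helper5: SGA3 VI_B 5: translating a point of `X ×_S X` by a point of `G⁰` into `U ×_S U`, for an open `U` containing the
images of all maximal points of the geometric fibres of `X` over the relevant point of `S`; the resulting
separatedness criterion.
-/
import Mathlib
import Groth.Agent.Lib.Helper5.HomogSepU2

set_option autoImplicit false
set_option linter.style.haveILetI false
universe u
open CategoryTheory CategoryTheory.Limits MonoidalCategory CartesianMonoidalCategory MonObj GrpObj
  AlgebraicGeometry Topology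
open Groth.Agent.Lib.helper22 Groth.Agent.Lib.helper5.HomogT Groth.Agent.Lib.helper5.HomogSep1
  Groth.Agent.Lib.helper5.GrpNeutral1 Groth.Agent.Lib.helper5.GrpNeutral2 Groth.Agent.Lib.helper5.MaxPt

namespace Groth.Agent.Lib.helper5.HomogSepU

variable {S : Scheme.{u}} {G X : Over S} [GrpObj G] (a : AlgGrp.Action G X)

/-- `U` contains the images of the maximal points of all the fibres `X ×_S Spec K` over field valued points of `S`
with image `s`. -/
def MaxPtsIn (X : Over S) (s : S) (U : X.left.Opens) : Prop :=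
  ∀ (K : Type u) [Field K] (h : Spec (CommRingCat.of K) ⟶ S), h (IsLocalRing.closedPoint K) = s →
    ∀ ξ : (X ⊗ Over.mk h).left, IsMaxPt ξ → (fst X (Over.mk h)).left ξ ∈ U

theorem whiskerLeft_comp_act {T : Over S} (y : T ⟶ X) :
    (G ◁ y) ≫ a.act = orbT a y ≫ fst X T := by
  rw [orbT_fst, act_eq_smul a, comp_smul]
  simp

/-- every point of `X ×_S X` over `s` can be translated by a point of `G⁰` into `U ×_S U`, if `U` contains the maximal
points of the fibres over `s`. -/
theorem exists_translate_neutral (hΦ : Surjective (lift a.act (snd G X)).left)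
    (w : (X ⊗ X).left) (U : X.left.Opens) (hU : MaxPtsIn X ((X ⊗ X).hom w) U) :
    ∃ t : (G ⊗ (X ⊗ X)).left, (snd G (X ⊗ X)).left t = w ∧
      (fst G (X ⊗ X)).left t ∈ SGA3x.neutralSet G ∧
      (fst X X).left ((act₂ a).left t) ∈ U ∧ (snd X X).left ((act₂ a).left t) ∈ U := by
  let K := (X ⊗ X).left.residueField w
  let y : Spec (CommRingCat.of K) ⟶ (X ⊗ X).left := (X ⊗ X).left.fromSpecResidueField w
  let h : Spec (CommRingCat.of K) ⟶ S := y ≫ (X ⊗ X).hom
  let T : Over S := Over.mk h
  let yT : T ⟶ X ⊗ X := Over.homMk y rfl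
  have hs : h (IsLocalRing.closedPoint K) = (X ⊗ X).hom w := by
    show (y ≫ (X ⊗ X).hom) _ = _
    rw [Scheme.Hom.comp_apply]
    congr 1
    exact (X ⊗ X).left.fromSpecResidueField_apply w _
  obtain ⟨η₀, hη₀⟩ := QuasiSober.sober (isIrreducible_C0S (G := G) K h) (isClosed_C0S K h)
  have key : ∀ p : X ⊗ X ⟶ X, a.act.left ((G ◁ (yT ≫ p)).left η₀) ∈ U := by
    intro p
    have hmax := isMaxPt_orbT_generic a hΦ K h (yT ≫ p) η₀ hη₀
    have := hU K h hs _ hmax
    rw [← Scheme.Hom.comp_apply, ← Over.comp_left, ← whiskerLeft_comp_act] at this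
    rw [← Scheme.Hom.comp_apply, ← Over.comp_left]
    exact this
  refine ⟨(G ◁ yT).left η₀, ?_, ?_, ?_, ?_⟩
  · rw [← Scheme.Hom.comp_apply, ← Over.comp_left, whiskerLeft_snd, Over.comp_left,
      Scheme.Hom.comp_apply]
    exact (X ⊗ X).left.fromSpecResidueField_apply w _
  · rw [← Scheme.Hom.comp_apply, ← Over.comp_left, whiskerLeft_fst]
    exact hη₀.mem
  · have h1 := congrArg (fun k => k.left) (act₂_fst a)
    simp only [Over.comp_left] at h1
    rw [← Scheme.Hom.comp_apply, h1, ← Scheme.Hom.comp_apply, ← Category.assoc, ← Over.comp_left,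
      ← MonoidalCategory.whiskerLeft_comp, Scheme.Hom.comp_apply]
    exact key (fst X X)
  · have h1 := congrArg (fun k => k.left) (act₂_snd a)
    simp only [Over.comp_left] at h1
    rw [← Scheme.Hom.comp_apply, h1, ← Scheme.Hom.comp_apply, ← Category.assoc, ← Over.comp_left,
      ← MonoidalCategory.whiskerLeft_comp, Scheme.Hom.comp_apply]
    exact key (snd X X)

/-- **SGA3 VI_B 5**: separatedness criterion for a homogeneous space under a group scheme universally open near the
unit section. -/
theorem isSeparated_of_maxPtsIn (W : G.left.Opens) (hW : ∀ s : S, unitSec G s ∈ W)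
    [UniversallyOpen (W.ι ≫ G.hom)] (hΦ : Surjective (lift a.act (snd G X)).left)
    (hU : ∀ s : S, ∃ U : X.left.Opens, IsSeparated (U.ι ≫ X.hom) ∧ MaxPtsIn X s U) :
    IsSeparated X.hom := by
  have hd : (HomogSep1.diag X).left = pullback.diagonal X.hom := rfl
  refine ⟨IsClosedImmersion.of_isPreimmersion _ ?_⟩
  rw [← hd]
  rw [← closure_subset_iff_isClosed]
  intro w hw
  obtain ⟨U, hUsep, hUmax⟩ := hU ((X ⊗ X).hom w)
  obtain ⟨t, ht1, ht0, ht2, ht3⟩ := exists_translate_neutral a hΦ w U hUmax
  have h1 : (act₂ a).left t ∈ closure (Set.range (HomogSep1.diag X).left) :=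
    act₂_mem_closure_of_neutral W hW a t ht0 (by rw [ht1]; exact hw)
  have h2 : (act₂ a).left t ∈ Set.range (HomogSep1.diag X).left :=
    closure_diagonal_inter_subset X.hom U _ h1 ht2 ht3
  have h3 := snd_mem_range_of_act₂_mem a t h2
  rwa [ht1] at h3

end Groth.Agent.Lib.helper5.HomogSepU
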