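/-
helper5: maximal points of fibres.
* `IsFibreMaxPt f x`: `x` has no proper generization inside its fibre.
* `isFibreMaxPt_fst_of_isMaxPt`: maximal points of `X ×_S Spec K` map to fibre-maximal points of `X`.
* `mem_of_isMaxPt_of_dense`: in a space which is locally noetherian at a maximal point, dense opens contain that point.
* `mem_of_isFibreMaxPt_of_dense`, `maxPtsIn_of_dense`: if the fibre `X_s` is locally of finite type over `κ(s)` and
  `U ∩ X_s` is dense in `X_s` then `U` contains the images of all maximal points of the `X ×_S Spec K` over `s`.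
-/
import Mathlib
import Groth.Agent.Lib.Helper5.HomogSepU3

set_option autoImplicit false
set_option linter.style.haveILetI false
universe u
open CategoryTheory CategoryTheory.Limits MonoidalCategory CartesianMonoidalCategory MonObj GrpObj
  AlgebraicGeometry Topology TopologicalSpace
open Groth.Agent.Lib.helper5.MaxPt

namespace Groth.Agent.Lib.helper5.HomogSepU

/-- `x` has no proper generization inside its fibre -/
def IsFibreMaxPt {X S : Scheme.{u}} (f : X ⟶ S) (x : X) : Prop :=
  ∀ x' : X, x' ⤳ x → f x' = f x → x' = x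

/-- in a quasi-sober space, a dense open subset contains every maximal point having an open neighbourhood with finitely
many irreducible components -/
theorem mem_of_isMaxPt_of_dense {E : Type*} [TopologicalSpace E] [QuasiSober E] [T0Space E]
    {x : E} (hx : IsMaxPt x) (O : Opens E) (hxO : x ∈ O) (hfin : (irreducibleComponents ↥O).Finite)
    (V : Set E) (hV : IsOpen V) (hVd : Dense V) : x ∈ V := by
  let xO : ↥O := ⟨x, hxO⟩
  have hxOmax : IsMaxPt xO := by
    intro y hy
    have : (y : E) ⤳ x := hy.map continuous_subtype_val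
    exact Subtype.ext (hx _ this)
  haveI : QuasiSober ↥O := O.isOpenEmbedding'.quasiSober
  have hZ1 : closure {xO} ∈ irreducibleComponents ↥O := hxOmax.closure_mem_irreducibleComponents
  let Y : Set ↥O := ⋃₀ (irreducibleComponents ↥O \ {closure {xO}})
  have hYcl : IsClosed Y := by
    show IsClosed (⋃₀ (irreducibleComponents ↥O \ {closure {xO}}))
    rw [Set.sUnion_eq_biUnion]
    exact hfin.sdiff.isClosed_biUnion fun W hW ↦ isClosed_of_mem_irreducibleComponents W hW.1
  have hxY : xO ∉ Y := by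
    rintro ⟨Z, ⟨hZ, hZne⟩, hxZ⟩
    apply hZne
    obtain ⟨ξ, hξ⟩ := QuasiSober.sober hZ.1 (isClosed_of_mem_irreducibleComponents Z hZ)
    have h1 : ξ ⤳ xO := hξ.specializes hxZ
    have h2 : ξ = xO := hxOmax ξ h1
    rw [Set.mem_singleton_iff, ← hξ.def, h2]
  have hcover : Yᶜ ⊆ closure {xO} := by
    intro v hv
    have hv' : v ∈ ⋃₀ irreducibleComponents ↥O := by
      rw [sUnion_irreducibleComponents]; trivial
    obtain ⟨Z, hZ, hvZ⟩ := hv'
    by_cases hZ1' : Z = closure {xO}
    · rw [← hZ1']; exact hvZ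
    · exact absurd ⟨Z, ⟨hZ, hZ1'⟩, hvZ⟩ hv
  have hopen : IsOpen (Subtype.val '' Yᶜ : Set E) :=
    O.isOpenEmbedding'.isOpenMap _ hYcl.isOpen_compl
  obtain ⟨v, hv2, hvV⟩ := hVd.inter_open_nonempty _ hopen ⟨x, xO, hxY, rfl⟩
  obtain ⟨vO, hvO, rfl⟩ := hv2
  have h1 : xO ⤳ vO := specializes_iff_mem_closure.2 (hcover hvO)
  have h2 : x ⤳ (vO : E) := h1.map continuous_subtype_val
  exact h2.mem_open hV hvV

section fibre

variable {X S : Scheme.{u}} (f : X ⟶ S)

theorem isFibreMaxPt_fst_of_isMaxPt (K : Type u) [Field K] (h : Spec (CommRingCat.of K) ⟶ S)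
    (ξ : ↥(pullback f h)) (hξ : IsMaxPt ξ) : IsFibreMaxPt f (pullback.fst f h ξ) := by
  set s : S := h (IsLocalRing.closedPoint K) with hs
  let φ : S.residueField s ⟶ CommRingCat.of K :=
    Scheme.descResidueField (Scheme.stalkClosedPointTo h)
  have hfac : Spec.map φ ≫ S.fromSpecResidueField s = h :=
    Scheme.descResidueField_stalkClosedPointTo_fromSpecResidueField K S h
  let e1 : pullback (f.fiberToSpecResidueField s) (Spec.map φ) ≅
      pullback f (Spec.map φ ≫ S.fromSpecResidueField s) :=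
    pullbackLeftPullbackSndIso f (S.fromSpecResidueField s) (Spec.map φ)
  let e2 : pullback f (Spec.map φ ≫ S.fromSpecResidueField s) ≅ pullback f h :=
    pullback.congrHom rfl hfac
  let e := e1 ≪≫ e2
  have he : e.hom ≫ pullback.fst f h =
      pullback.fst (f.fiberToSpecResidueField s) (Spec.map φ) ≫ f.fiberι s := by
    simp only [e, e1, e2, Iso.trans_hom, Category.assoc, pullback.congrHom_hom, pullback.lift_fst,
      Category.comp_id]
    exact pullbackLeftPullbackSndIso_hom_fst _ _ _
  let q := pullback.fst (f.fiberToSpecResidueField s) (Spec.map φ)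
  haveI : Flat (Spec.map φ) := inferInstance
  haveI : Flat q := inferInstance
  have hgen : GeneralizingMap q := Flat.generalizingMap q
  let ξ₁ := e.inv ξ
  have hξ₁ : IsMaxPt ξ₁ := hξ.map_homeomorph (Scheme.homeoOfIso e.symm)
  have hf₀ : IsMaxPt (q ξ₁) := hξ₁.map_of_generalizingMap hgen
  have hx : pullback.fst f h ξ = f.fiberι s (q ξ₁) := by
    rw [← Scheme.Hom.comp_apply, ← he, Scheme.Hom.comp_apply]
    congr 1
    show ξ = e.hom (e.inv ξ)
    rw [← Scheme.Hom.comp_apply, e.inv_hom_id]
    rfl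
  rw [hx]
  intro x' hx' hfx'
  have hrange := f.range_fiberι s
  have hfs : f (f.fiberι s (q ξ₁)) = s := by
    have : f.fiberι s (q ξ₁) ∈ Set.range (f.fiberι s) := ⟨_, rfl⟩
    rw [hrange] at this
    exact this
  have hx'mem : x' ∈ Set.range (f.fiberι s) := by
    rw [hrange]
    show f x' = s
    rw [hfx', hfs]
  obtain ⟨f', rfl⟩ := hx'mem
  have hsp : f' ⤳ q ξ₁ := (f.fiberι s).isEmbedding.isInducing.specializes_iff.1 hx'
  rw [hf₀ f' hsp]

theorem mem_of_isFibreMaxPt_of_dense (s : S) [LocallyOfFiniteType (f.fiberToSpecResidueField s)]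
    (U : X.Opens) (hd : f ⁻¹' {s} ⊆ closure ((U : Set X) ∩ f ⁻¹' {s}))
    (x : X) (hxs : f x = s) (hx : IsFibreMaxPt f x) : x ∈ U := by
  haveI : IsLocallyNoetherian (f.fiber s) :=
    LocallyOfFiniteType.isLocallyNoetherian (f.fiberToSpecResidueField s)
  let f₀ : f.fiber s := (f.fiberHomeo s).symm ⟨x, hxs⟩
  have hιf₀ : f.fiberι s f₀ = x := f.fiberι_fiberHomeo_symm s ⟨x, hxs⟩
  have hrange := f.range_fiberι s
  have hf₀ : IsMaxPt f₀ := by
    intro y hy
    have h1 : f.fiberι s y ⤳ x := by
      rw [← hιf₀]; exact hy.map (f.fiberι s).continuous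
    have h2 : f (f.fiberι s y) = f x := by
      have : f.fiberι s y ∈ Set.range (f.fiberι s) := ⟨_, rfl⟩
      rw [hrange] at this
      rw [hxs]; exact this
    have h3 := hx _ h1 h2
    rw [← hιf₀] at h3
    exact (f.fiberι s).isEmbedding.injective h3
  let V : (f.fiber s).Opens := (f.fiberι s) ⁻¹ᵁ U
  have hVd : Dense (V : Set (f.fiber s)) := by
    intro g
    rw [(f.fiberι s).isEmbedding.isInducing.closure_eq_preimage_closure_image]
    have h1 : f.fiberι s '' (V : Set (f.fiber s)) = (U : Set X) ∩ f ⁻¹' {s} := by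
      rw [← hrange]
      exact Set.image_preimage_eq_inter_range
    rw [h1]
    apply hd
    have : f.fiberι s g ∈ Set.range (f.fiberι s) := ⟨_, rfl⟩
    rw [hrange] at this
    exact this
  obtain ⟨_, ⟨O, hO, rfl⟩, hfO, -⟩ := (f.fiber s).isBasis_affineOpens.exists_subset_of_mem_open
    (Set.mem_univ f₀) isOpen_univ
  haveI : IsNoetherianRing Γ(f.fiber s, O) := IsLocallyNoetherian.component_noetherian ⟨O, hO⟩
  haveI : NoetherianSpace ↥O := noetherianSpace_of_isAffineOpen O hO
  have hfin : (irreducibleComponents ↥O).Finite := NoetherianSpace.finite_irreducibleComponents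
  have := mem_of_isMaxPt_of_dense hf₀ O hfO hfin (V : Set (f.fiber s)) V.2 hVd
  rw [← hιf₀]
  exact this

end fibre

variable {S : Scheme.{u}}

theorem maxPtsIn_of_dense (X : Over S) (s : S)
    [LocallyOfFiniteType (X.hom.fiberToSpecResidueField s)] (U : X.left.Opens)
    (hd : X.hom ⁻¹' {s} ⊆ closure ((U : Set X.left) ∩ X.hom ⁻¹' {s})) : MaxPtsIn X s U := by
  intro K _ h hs ξ hξ
  have hmax : IsFibreMaxPt X.hom (pullback.fst X.hom h ξ) :=
    isFibreMaxPt_fst_of_isMaxPt X.hom K h ξ hξ
  refine mem_of_isFibreMaxPt_of_dense X.hom s U hd _ ?_ hmax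
  show X.hom (pullback.fst X.hom h ξ) = s
  rw [← Scheme.Hom.comp_apply, pullback.condition, Scheme.Hom.comp_apply, ← hs]
  congr 1
  exact Subsingleton.elim (α := PrimeSpectrum K) _ _

end Groth.Agent.Lib.helper5.HomogSepU
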