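/-
helper5: SGA3 VI_A 2.6.5 (v): `isCompact_actSet`, `compactSpace_of_irreducibleSpace` (an irreducible homogeneous space is quasi-compact).
-/
import Mathlib
import Groth.Agent.Lib.Helper5.HomogT8
import Groth.Agent.Lib.Helper5.GrpConnSub

set_option autoImplicit false
set_option linter.style.haveILetI false
universe u
open CategoryTheory CategoryTheory.Limits MonoidalCategory CartesianMonoidalCategory MonObj GrpObj
  AlgebraicGeometry Topology
open Groth.Agent.Lib.helper22 Groth.Agent.Lib.helper5.MaxPt Groth.Agent.Lib.helper5.MaxPtSch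
  Groth.Agent.Lib.helper3

namespace Groth.Agent.Lib.helper5.HomogT

variable {k : Type u} [Field k] {G X : Over (Spec (CommRingCat.of k))} [GrpObj G] (a : AlgGrp.Action G X)

/-- `G⁰ · U` is quasi-compact for an affine open `U` -/
theorem isCompact_actSet (U : X.left.Opens) (hU : IsAffineOpen U) : IsCompact (actSet a (U : Set X.left)) := by
  let G0 := Groth.Agent.Lib.helper5.GrpConnSub.G0 G
  let i0 : G0 ⟶ G := Groth.Agent.Lib.helper5.GrpConnSub.i0 G
  have hr0 : Set.range i0.left = SGA3x.neutralSet G :=
    Groth.Agent.Lib.helper5.GrpConnSub.range_i0_eq_neutralSet G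
  let W : Over (Spec (CommRingCat.of k)) := Over.mk (U.ι ≫ X.hom)
  let w : W ⟶ X := Over.homMk U.ι rfl
  have hrw : Set.range w.left = (U : Set X.left) := Scheme.Opens.range_ι U
  have hrange : Set.range (i0 ⊗ₘ w).left =
      (fst G X).left ⁻¹' SGA3x.neutralSet G ∩ (snd G X).left ⁻¹' (U : Set X.left) := by
    rw [Over.tensorHom_left, Scheme.Pullback.range_map, hr0, hrw]
    simp
  have hc0 : CompactSpace G0.left := by
    have hemb : Topology.IsClosedEmbedding i0.left :=
      Scheme.Hom.isClosedEmbedding (Groth.Agent.Lib.helper5.GrpConnSub.qcι G.left (GrpIrr.e G))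
    rw [← isCompact_univ_iff, hemb.isCompact_iff, Set.image_univ, Groth.Agent.Lib.helper5.GrpConnSub.range_i0]
    exact GrpConn.isCompact_connectedComponent_unit G
  have hcU : CompactSpace U.toScheme := isCompact_iff_compactSpace.mp hU.isCompact
  have hqc : QuasiCompact G0.hom :=
    (HasAffineProperty.iff_of_isAffine (P := @QuasiCompact)).mpr hc0
  have hc : CompactSpace (G0 ⊗ W).left :=
    inferInstanceAs (CompactSpace ↥(Limits.pullback G0.hom (U.ι ≫ X.hom)))
  have : actSet a (U : Set X.left) = Set.range ((i0 ⊗ₘ w) ≫ a.act).left := by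
    rw [actSet, ← hrange, Over.comp_left]
    ext v
    simp
  rw [this]
  exact isCompact_range (Scheme.Hom.continuous _)

/-- **SGA3 VI_A 2.6.5 (v)**: an irreducible homogeneous space is quasi-compact -/
theorem compactSpace_of_irreducibleSpace (hΦ : Surjective (lift a.act (snd G X)).left)
    [IrreducibleSpace X.left] : CompactSpace X.left := by
  obtain ⟨x₀⟩ : Nonempty X.left := inferInstance
  obtain ⟨U', ⟨U, hU, rfl⟩, hxU, -⟩ :=
    (X.left.isBasis_affineOpens).exists_subset_of_mem_open (Set.mem_univ x₀) isOpen_univ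
  have huniv : actSet a (U : Set X.left) = Set.univ := by
    rw [actSet_eq a hΦ U U.2]
    apply Set.eq_univ_of_forall
    intro v
    have hZ := irreducibleComponent_mem_irreducibleComponents v
    have hZuniv : irreducibleComponent v = Set.univ :=
      Set.eq_univ_of_univ_subset (hZ.2 (IrreducibleSpace.isIrreducible_univ _) (Set.subset_univ _))
    obtain ⟨ξ, hξ⟩ := QuasiSober.sober (isIrreducible_irreducibleComponent (x := v))
      isClosed_irreducibleComponent
    refine ⟨irreducibleComponent v, ⟨hZ, ξ, ?_, isGenericPoint_def.mp hξ⟩, mem_irreducibleComponent⟩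
    rw [hZuniv] at hξ
    exact (hξ.mem_open_set_iff U.2).mpr ⟨x₀, trivial, hxU⟩
  rw [← isCompact_univ_iff, ← huniv]
  exact isCompact_actSet a U hU

end Groth.Agent.Lib.helper5.HomogT
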