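import Groth.Agent.S2076
import Mathlib

/-!
# Immersions into a cofiltered limit of schemes (helper5)

Scheme-level statement: a quasi-compact immersion `T ⟶ lim X_i` (affine transition maps) with
`T` locally of finite type over the base is an immersion into `X_i` for all `i` beyond some index.
-/

set_option autoImplicit false
universe u
open CategoryTheory CategoryTheory.Limits AlgebraicGeometry

namespace Groth.Agent.Lib.helper5.ImmLim

/-- The restriction of an immersion to an open containing its range and contained in the coborder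
of the range is a closed immersion. -/
theorem isClosedImmersion_lift {T X : Scheme.{u}} (h : T ⟶ X) [IsImmersion h] (Ω' : X.Opens)
    (h1 : Set.range h ⊆ (Ω' : Set X)) (h2 : Ω' ≤ h.coborderRange) :
    IsClosedImmersion (IsOpenImmersion.lift Ω'.ι h (by simpa using h1)) := by
  obtain ⟨h'', hh''⟩ : ∃ h'' : T ⟶ (Ω' : Scheme.{u}),
      h'' = IsOpenImmersion.lift Ω'.ι h (by simpa using h1) := ⟨_, rfl⟩
  rw [← hh'']
  have e1 : h'' ≫ Ω'.ι = h := by rw [hh'']; exact IsOpenImmersion.lift_fac _ _ _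
  have e2 : h'' ≫ X.homOfLE h2 = h.liftCoborder := by
    rw [← cancel_mono h.coborderRange.ι, Category.assoc, Scheme.homOfLE_ι, e1, h.liftCoborder_ι]
  have sq : IsPullback (𝟙 T) h'' (h'' ≫ X.homOfLE h2) (X.homOfLE h2) :=
    IsPullback.of_horiz_isIso_mono ⟨by simp⟩
  rw [e2] at sq
  exact MorphismProperty.of_isPullback (P := @IsClosedImmersion) sq inferInstance

theorem eventually_isImmersion_of_limit {J : Type u} [SmallCategory J] [IsCofiltered J]
    (V : Scheme.{u}) (D : J ⥤ Over V) (c : Cone D) (hc : IsLimit c)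
    [∀ (i j : J) (f : i ⟶ j), IsAffineHom (D.map f).left]
    {T : Scheme.{u}} [CompactSpace T] (h : T ⟶ c.pt.left) [IsImmersion h]
    [LocallyOfFiniteType (h ≫ c.pt.hom)] :
    ∃ j : J, ∀ (k : J) (_ : k ⟶ j), IsImmersion (h ≫ (c.π.app k).left) := by
  classical
  haveI : IsConnected J := IsCofiltered.isConnected J
  have hc₀ : IsLimit ((Over.forget V).mapCone c) := isLimitOfPreserves (Over.forget V) hc
  haveI : ∀ {i j : J} (f : i ⟶ j), IsAffineHom ((D ⋙ Over.forget V).map f) := fun f =>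
    inferInstanceAs (IsAffineHom (D.map f).left)
  -- a quasi-compact open between the range and its coborder
  obtain ⟨W, hWc, hWo, hKW, hWU⟩ := PrespectralSpace.exists_isCompact_and_isOpen_between
    (isCompact_range h.continuous) h.coborderRange.2 (subset_coborder (s := Set.range h))
  obtain ⟨i, Ωi, hΩic, hΩi⟩ := exists_preimage_eq (D ⋙ Over.forget V)
    ((Over.forget V).mapCone c) hc₀ (⟨W, hWo⟩ : c.pt.left.Opens) hWc
  obtain ⟨Ω'', hΩ''⟩ : ∃ Ω'' : c.pt.left.Opens, Ω'' = (c.π.app i).left ⁻¹ᵁ Ωi := ⟨_, rfl⟩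
  have hΩW : Ω'' = ⟨W, hWo⟩ := hΩ''.trans hΩi
  have h1 : Set.range h ⊆ (Ω'' : Set c.pt.left) := by rw [hΩW]; exact hKW
  have h2 : Ω'' ≤ h.coborderRange := by rw [hΩW]; exact hWU
  subst hΩ''
  -- the closed immersion `T ⟶ Ω''`
  obtain ⟨hT, hhT⟩ : ∃ hT : T ⟶ (((c.π.app i).left ⁻¹ᵁ Ωi : c.pt.left.Opens) : Scheme.{u}),
      hT = IsOpenImmersion.lift ((c.π.app i).left ⁻¹ᵁ Ωi).ι h (by simpa using h1) := ⟨_, rfl⟩
  haveI hTci : IsClosedImmersion hT := by
    rw [hhT]; exact isClosedImmersion_lift h _ h1 h2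
  have hTfac : hT ≫ ((c.π.app i).left ⁻¹ᵁ Ωi).ι = h := by
    rw [hhT]; exact IsOpenImmersion.lift_fac _ _ _
  -- the restricted system
  have hcE : IsLimit (opensCone (D ⋙ Over.forget V) ((Over.forget V).mapCone c) i Ωi) :=
    isLimitOpensCone (D ⋙ Over.forget V) ((Over.forget V).mapCone c) hc₀ i Ωi
  let sNat : opensDiagram (D ⋙ Over.forget V) i Ωi ⟶ (Functor.const (Over i)).obj V :=
    { app := fun j => (opensDiagramι (D ⋙ Over.forget V) i Ωi).app j ≫ (D.obj j.left).hom
      naturality := fun j k φ => by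
        have e := (opensDiagramι (D ⋙ Over.forget V) i Ωi).naturality φ
        rw [← Category.assoc, e]
        simp only [Functor.comp_map, Over.forget_map, Functor.const_obj_map, Category.assoc]
        have e2 : (D.map φ.left).left ≫ (D.obj k.left).hom = (D.obj j.left).hom :=
          Over.w (D.map φ.left)
        exact congrArg (fun m => (opensDiagramι (D ⋙ Over.forget V) i Ωi).app j ≫ m)
          (e2.trans (Category.comp_id _).symm) }
  have hp : ∀ j, (opensCone (D ⋙ Over.forget V) ((Over.forget V).mapCone c) i Ωi).π.app j ≫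
      sNat.app j = ((c.π.app i).left ⁻¹ᵁ Ωi).ι ≫ c.pt.hom := by
    intro j
    show (((Over.forget V).mapCone c).π.app j.left).resLE _ _ _ ≫
      (((D ⋙ Over.forget V).map j.hom ⁻¹ᵁ Ωi).ι ≫ (D.obj j.left).hom) = _
    rw [← Category.assoc, Scheme.Hom.resLE_comp_ι, Category.assoc]
    exact congrArg (fun m => ((c.π.app i).left ⁻¹ᵁ Ωi).ι ≫ m) (Over.w (c.π.app j.left))
  haveI : Nonempty (Over i) := ⟨Over.mk (𝟙 i)⟩
  have hlim := Over.isLimitLiftCone (opensDiagram (D ⋙ Over.forget V) i Ωi) sNat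
    (opensCone (D ⋙ Over.forget V) ((Over.forget V).mapCone c) i Ωi)
    (((c.π.app i).left ⁻¹ᵁ Ωi).ι ≫ c.pt.hom) hp hcE
  haveI : ∀ (j k : Over i) (φ : j ⟶ k),
      IsAffineHom ((Over.lift (opensDiagram (D ⋙ Over.forget V) i Ωi) sNat).map φ).left :=
    fun j k φ => inferInstanceAs (IsAffineHom ((opensDiagram (D ⋙ Over.forget V) i Ωi).map φ))
  haveI : ∀ j, CompactSpace ((Over.lift (opensDiagram (D ⋙ Over.forget V) i Ωi) sNat).obj j).left := by
    intro j
    show CompactSpace (((D ⋙ Over.forget V).map j.hom ⁻¹ᵁ Ωi : ((D ⋙ Over.forget V).obj j.left).Opens) : Scheme.{u})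
    exact isCompact_iff_compactSpace.mp
      (QuasiCompact.isCompact_preimage (f := (D ⋙ Over.forget V).map j.hom) _ Ωi.2 hΩic)
  haveI : @IsClosedImmersion T (Over.liftCone (opensDiagram (D ⋙ Over.forget V) i Ωi) sNat
      (opensCone (D ⋙ Over.forget V) ((Over.forget V).mapCone c) i Ωi)
      (((c.π.app i).left ⁻¹ᵁ Ωi).ι ≫ c.pt.hom) hp).pt.left hT := hTci
  haveI : @LocallyOfFiniteType T V (@CategoryStruct.comp Scheme.{u} _ T
      (Over.liftCone (opensDiagram (D ⋙ Over.forget V) i Ωi) sNat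
        (opensCone (D ⋙ Over.forget V) ((Over.forget V).mapCone c) i Ωi)
        (((c.π.app i).left ⁻¹ᵁ Ωi).ι ≫ c.pt.hom) hp).pt.left V hT
      (Over.liftCone (opensDiagram (D ⋙ Over.forget V) i Ωi) sNat
        (opensCone (D ⋙ Over.forget V) ((Over.forget V).mapCone c) i Ωi)
        (((c.π.app i).left ⁻¹ᵁ Ωi).ι ≫ c.pt.hom) hp).pt.hom) := by
    show LocallyOfFiniteType (hT ≫ ((c.π.app i).left ⁻¹ᵁ Ωi).ι ≫ c.pt.hom)
    rw [← Category.assoc, hTfac]
    infer_instance
  obtain ⟨k, hk⟩ := Groth.Agent.S2076.result V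
    (Over.lift (opensDiagram (D ⋙ Over.forget V) i Ωi) sNat)
    (Over.liftCone (opensDiagram (D ⋙ Over.forget V) i Ωi) sNat
      (opensCone (D ⋙ Over.forget V) ((Over.forget V).mapCone c) i Ωi)
      (((c.π.app i).left ⁻¹ᵁ Ωi).ι ≫ c.pt.hom) hp) hlim hT
  have hk' : IsClosedImmersion
      (hT ≫ (opensCone (D ⋙ Over.forget V) ((Over.forget V).mapCone c) i Ωi).π.app k) := hk
  refine ⟨k.left, fun k' ψ => ?_⟩
  obtain ⟨k'', hk''⟩ : ∃ k'' : Over i, k'' = Over.mk (ψ ≫ k.hom) := ⟨_, rfl⟩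
  let φ' : k'' ⟶ k := by rw [hk'']; exact Over.homMk ψ
  have hci : IsClosedImmersion
      (hT ≫ (opensCone (D ⋙ Over.forget V) ((Over.forget V).mapCone c) i Ωi).π.app k'') := by
    have e : (hT ≫ (opensCone (D ⋙ Over.forget V) ((Over.forget V).mapCone c) i Ωi).π.app k'') ≫
        (opensDiagram (D ⋙ Over.forget V) i Ωi).map φ' =
        hT ≫ (opensCone (D ⋙ Over.forget V) ((Over.forget V).mapCone c) i Ωi).π.app k := by
      rw [Category.assoc]
      exact congrArg (fun m => hT ≫ m)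
        ((opensCone (D ⋙ Over.forget V) ((Over.forget V).mapCone c) i Ωi).w φ')
    haveI : IsClosedImmersion
        ((hT ≫ (opensCone (D ⋙ Over.forget V) ((Over.forget V).mapCone c) i Ωi).π.app k'') ≫
          (opensDiagram (D ⋙ Over.forget V) i Ωi).map φ') := by
      rw [e]; exact hk'
    exact IsClosedImmersion.of_comp _ ((opensDiagram (D ⋙ Over.forget V) i Ωi).map φ')
  have e3 : h ≫ (c.π.app k''.left).left =
      (hT ≫ (opensCone (D ⋙ Over.forget V) ((Over.forget V).mapCone c) i Ωi).π.app k'') ≫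
        ((D ⋙ Over.forget V).map k''.hom ⁻¹ᵁ Ωi).ι := by
    have e4 : (opensCone (D ⋙ Over.forget V) ((Over.forget V).mapCone c) i Ωi).π.app k'' ≫
        ((D ⋙ Over.forget V).map k''.hom ⁻¹ᵁ Ωi).ι =
        ((c.π.app i).left ⁻¹ᵁ Ωi).ι ≫ (c.π.app k''.left).left :=
      Scheme.Hom.resLE_comp_ι _ _
    calc h ≫ (c.π.app k''.left).left
        = (hT ≫ ((c.π.app i).left ⁻¹ᵁ Ωi).ι) ≫ (c.π.app k''.left).left := by rw [hTfac]
      _ = hT ≫ (((c.π.app i).left ⁻¹ᵁ Ωi).ι ≫ (c.π.app k''.left).left) := Category.assoc _ _ _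
      _ = hT ≫ ((opensCone (D ⋙ Over.forget V) ((Over.forget V).mapCone c) i Ωi).π.app k'' ≫
            ((D ⋙ Over.forget V).map k''.hom ⁻¹ᵁ Ωi).ι) := congrArg (fun m => hT ≫ m) e4.symm
      _ = _ := (Category.assoc _ _ _).symm
  have hfin : IsImmersion (h ≫ (c.π.app k''.left).left) := by
    rw [e3]
    have i1 : IsImmersion
        (hT ≫ (opensCone (D ⋙ Over.forget V) ((Over.forget V).mapCone c) i Ωi).π.app k'') :=
      inferInstance
    have i2 : IsImmersion ((D ⋙ Over.forget V).map k''.hom ⁻¹ᵁ Ωi).ι := inferInstance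
    exact @IsImmersion.comp _ _ _ _ _ i1 i2
  rw [hk''] at hfin
  exact hfin

end Groth.Agent.Lib.helper5.ImmLim
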