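import Groth.Agent.Lib.Helper5.AlgSpOpenSub
import Groth.Agent.Lib.Helper5.AlgSpFpqcIso
import Groth.Agent.Lib.Helper5.AlgSpUniv2
import Groth.Agent.Lib.Helper15.AlgSpDiag
import Groth.Agent.Lib.Helper1.LocPFlatBC
import Groth.Agent.S10265
import Groth.Agent.S10547
import Groth.Agent.S9906
import Groth.Agent.S9888

/-!
# Immersions of algebraic spaces can be tested on an étale chart covering the image (helper5)
-/

set_option autoImplicit false
universe u
open CategoryTheory CategoryTheory.Limits AlgebraicGeometry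

namespace Groth.Agent.Lib.helper5.ImmLim

open AlgSp

variable {S : Scheme.{u}}

/-- an etale atlas is an fppf covering (copy of `helper4.AlgStCoreA.isFppfCover_of_atlas`, with lighter imports) -/
theorem isFppfCover_of_atlas' {G : Sp S} {U : Over S} (p : (yon S).obj U ⟶ G)
    (hp1 : RepWith @Etale p) (hp2 : RepWith @Surjective p) :
    IsFppfCover (fun _ : PUnit.{u + 1} => (yon S).obj U) (fun _ => p) := by
  have h1 : IsEtaleMor p := fun U φ hφ => (RepWith (S := S) @Etale).comp_mem _ _ hφ hp1
  refine ⟨fun _ => ⟨Groth.Agent.H1.LocPFlatBC.locP_flat_of_repWith_etale p hp1, ?_⟩,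
    fun x => ⟨PUnit.unit, Groth.Agent.Lib.helper5.surjective_map_of_repWith_surjective p hp2 x⟩⟩
  refine Groth.Agent.S10265.locP_mono ?_ (Groth.Agent.S10265.locP_etale_of_isEtaleMor p h1)
  intro X Y f hf
  have : Etale f := hf
  exact inferInstanceAs (LocallyOfFinitePresentation f)

/-- Let `y : Y ⟶ X` be a morphism of algebraic spaces and `f : h_W ⟶ X` an étale map from a scheme
whose image contains the image of `y`.  If the base change of `y` along `f` is an immersion of
schemes, then `y` is an immersion. -/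
theorem repWith_isImmersion_of_etale_chart {X Y : Sp S} (hX : IsAlgSpace X) (hY : IsAlgSpace Y)
    (y : Y ⟶ X) (W : Over S) (f : (yon S).obj W ⟶ X) (hfe : RepWith @Etale f)
    (hrange : Set.range (Points.map y) ⊆ Set.range (Points.map f))
    (T : Over S) (snd : T ⟶ W) (fst : (yon S).obj T ⟶ Y)
    (sq : IsPullback fst ((yon S).map snd) y f) (himm : IsImmersion snd.left) :
    RepWith @IsImmersion y := by
  have hΩ : IsOpen (Set.range (Points.map f)) :=
    (Groth.Agent.Lib.helper5.isOpenMap_map_of_repWith_etale f hfe).isOpen_range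
  obtain ⟨X', j, hjo, hjr, hjm⟩ := OpenSub.exists_openSub ⟨X, hX⟩ _ hΩ
  haveI := hjm
  obtain ⟨y', hy'⟩ := (OpenSub.factors_iff j.hom hjo y).2 (by rw [hjr]; exact hrange)
  obtain ⟨f', hf'⟩ := (OpenSub.factors_iff j.hom hjo f).2 (by rw [hjr])
  -- `f'` is étale
  have hf'e : RepWith @Etale f' := by
    have sq1 : IsPullback f' (𝟙 _) j.hom (f' ≫ j.hom) :=
      Groth.Agent.Lib.helper15.AlgSpDiag.isPullback_of_mono_comp f' j.hom
    rw [hf'] at sq1
    exact (RepWith (S := S) @Etale).of_isPullback sq1.flip hfe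
  -- `f'` is surjective
  have hsurj : IsSurjectiveMor f' := by
    intro x'
    have hx' : Points.map j.hom x' ∈ Set.range (Points.map f) := by
      rw [← hjr]; exact ⟨x', rfl⟩
    obtain ⟨w, hw⟩ := hx'
    refine ⟨w, FpqcIso.injective_map_of_mono j.hom ?_⟩
    rw [← Points.map_comp, hf', hw]
  have hf's : RepWith @Surjective f' :=
    (Groth.Agent.S9906.result (X := ⟨(yon S).obj W, IsAlgSpace.yon_obj W⟩) (Y := X')
      (ObjectProperty.homMk f') hf'e.1).2 hsurj
  -- the square over `X'`
  have sq' : IsPullback fst ((yon S).map snd) y' f' := by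
    rw [← hy', ← hf'] at sq
    exact (Groth.Agent.S9888.isPullback_comp_mono_iff j.hom).1 sq
  have hcov := isFppfCover_of_atlas' f' hf'e hf's
  have hy'imm : RepWith @IsImmersion y' :=
    (Groth.Agent.S10547.result S (ι := PUnit.{u + 1}) (fun _ => (yon S).obj W) (fun _ => f')
      X'.property (fun _ => IsAlgSpace.yon_obj W) hcov y' hY (fun _ => (yon S).obj T)
      (fun _ => (yon S).map snd) (fun _ => fst) (fun _ => IsAlgSpace.yon_obj T)
      (fun _ => sq')).2 (fun _ => (repWith_yon_map_iff @IsImmersion snd).2 himm)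
  rw [← hy']
  exact (RepWith (S := S) @IsImmersion).comp_mem _ _ hy'imm
    (Groth.Agent.Lib.helper15.AlgSpDiag.repWith_mono_iff_le
      (fun _ _ f hf => by haveI : IsOpenImmersion f := hf; exact (inferInstance : IsImmersion f))
      hjo)

end Groth.Agent.Lib.helper5.ImmLim
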