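import Mathlib

/-!
# A cofiltered limit of reduced schemes with affine transition maps is reduced (helper5)

* `isReduced_of_isColimit`: a filtered colimit of reduced commutative rings is reduced.
* `isReduced_of_isLimit`: a cofiltered limit of reduced schemes with affine transition maps is reduced.
-/

set_option autoImplicit false
universe u
open CategoryTheory CategoryTheory.Limits AlgebraicGeometry Opposite

namespace Groth.Agent.Lib.helper5.LimSchRed

/-- A filtered colimit of reduced commutative rings is reduced. -/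
theorem isReduced_of_isColimit {J : Type u} [SmallCategory J] [IsFiltered J]
    (F : J ⥤ CommRingCat.{u}) (t : Cocone F) (ht : IsColimit t)
    (h : ∀ j, _root_.IsReduced (F.obj j)) : _root_.IsReduced t.pt := by
  constructor
  rintro x ⟨n, hn⟩
  obtain ⟨j, y, rfl⟩ := Concrete.isColimit_exists_rep F ht x
  have h0 : t.ι.app j (y ^ n) = t.ι.app j 0 := by
    rw [map_pow, hn, map_zero]
  obtain ⟨k, f, g, hfg⟩ := Concrete.isColimit_exists_of_rep_eq F ht _ _ h0
  have hy : (F.map f y) ^ n = 0 := by
    rw [← map_pow, hfg, map_zero]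
  have hy0 : F.map f y = 0 := (h k).eq_zero _ ⟨n, hy⟩
  have : t.ι.app j y = t.ι.app k (F.map f y) := by
    rw [← ConcreteCategory.comp_apply, t.w]
  rw [this, hy0, map_zero]

section

variable {I : Type u} [SmallCategory I] [IsCofiltered I] (D : I ⥤ Scheme.{u})
  [∀ {i j : I} (f : i ⟶ j), IsAffineHom (D.map f)] (c : Cone D) (hc : IsLimit c)

include hc in
/-- A cofiltered limit of reduced schemes with affine transition maps is reduced. -/
theorem isReduced_of_isLimit (hred : ∀ i, IsReduced (D.obj i)) : IsReduced c.pt := by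
  obtain ⟨i⟩ := IsCofiltered.nonempty (C := I)
  haveI : IsAffineHom (c.π.app i) := isAffineHom_π_app D c hc i
  have hcov : TopologicalSpace.IsOpenCover
      (fun U : (D.obj i).affineOpens => c.π.app i ⁻¹ᵁ U.1) := by
    rw [TopologicalSpace.IsOpenCover]
    rw [← Scheme.Hom.preimage_iSup, iSup_affineOpens_eq_top]
    rfl
  let 𝒰 := c.pt.openCoverOfIsOpenCover _ hcov
  haveI : ∀ U, IsReduced (𝒰.X U) := by
    intro U
    change IsReduced (c.π.app i ⁻¹ᵁ U.1).toScheme
    haveI : ∀ j : Over i, IsAffine ((opensDiagram D i U.1).obj j) :=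
      fun j => U.2.preimage (D.map j.hom)
    haveI hV : IsAffine (c.π.app i ⁻¹ᵁ U.1).toScheme := U.2.preimage (c.π.app i)
    obtain ⟨hcol⟩ := nonempty_isColimit_Γ_mapCocone (opensDiagram D i U.1) (opensCone D c i U.1)
      (isLimitOpensCone D c hc i U.1)
    haveI : _root_.IsReduced Γ((c.π.app i ⁻¹ᵁ U.1).toScheme, ⊤) := by
      refine isReduced_of_isColimit _ _ hcol ?_
      intro j
      haveI := hred j.unop.left
      change _root_.IsReduced Γ((D.map j.unop.hom ⁻¹ᵁ U.1).toScheme, ⊤)
      infer_instance
    exact isReduced_of_isAffine_isReduced _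
  exact IsReduced.of_openCover _ 𝒰

end

end Groth.Agent.Lib.helper5.LimSchRed
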