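import Groth.Prelude
import Groth.Agent.Lib.Helper11.AffLim

/-!
# Cofiltered limits of representable sheaves with affine transition maps (helper5)

* `liftDiag`, `liftDiagIso`: a diagram `E : J ⥤ Sp S` of sheaves with chosen representing schemes `W j` lifts to a
  diagram `J ⥤ Over S`.
* `exists_limit_rep`: if `J` is cofiltered and the transition maps of the lifted diagram are affine, the limit of `E` is
  represented by the limit `L` of the lifted diagram of schemes, whose projections `L ⟶ W j` are affine.
* `pbDiag`, `pbCone`, `pbConeIsLimit`: for a limit cone `c` of `D : I ⥤ Sp S` (`I` cofiltered), an index `i` and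
  `g : T ⟶ D.obj i`, the fibre product `c.pt ×_{D i} T` is the limit of the `D j ×_{D i} T`, `j ⟶ i`.
-/

set_option autoImplicit false
universe u
open CategoryTheory CategoryTheory.Limits AlgebraicGeometry Opposite

namespace Groth.Agent.Lib.helper5.LimSp

open AlgSp

variable {S : Scheme.{u}}

section lift

variable {J : Type u} [SmallCategory J] (E : J ⥤ Sp S) (W : J → Over S)
  (e : ∀ j, (yon S).obj (W j) ≅ E.obj j)

/-- The diagram of schemes representing a diagram of representable sheaves. -/
noncomputable def liftDiag : J ⥤ Over S where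
  obj := W
  map {j k} f := (yon S).preimage ((e j).hom ≫ E.map f ≫ (e k).inv)
  map_id j := (yon S).map_injective (by simp)
  map_comp f g := (yon S).map_injective (by simp)

@[simp] lemma liftDiag_obj (j : J) : (liftDiag E W e).obj j = W j := rfl

lemma yon_map_liftDiag_map {j k : J} (f : j ⟶ k) :
    (yon S).map ((liftDiag E W e).map f) = (e j).hom ≫ E.map f ≫ (e k).inv :=
  (yon S).map_preimage _

/-- The lifted diagram represents the original one. -/
noncomputable def liftDiagIso : liftDiag E W e ⋙ yon S ≅ E :=
  NatIso.ofComponents e (fun {j k} f => by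
    simp only [Functor.comp_map]
    erw [yon_map_liftDiag_map]
    simp)

@[simp] lemma liftDiagIso_hom_app (j : J) : (liftDiagIso E W e).hom.app j = (e j).hom := rfl

variable [IsCofiltered J]

theorem exists_limit_rep
    (haff : ∀ {j k : J} (f : j ⟶ k), IsAffineHom ((liftDiag E W e).map f).left)
    (cE : Cone E) (hcE : IsLimit cE) :
    ∃ (L : Cone (liftDiag E W e)) (_ : IsLimit L) (eL : (yon S).obj L.pt ≅ cE.pt),
      (∀ j, eL.hom ≫ cE.π.app j = (yon S).map (L.π.app j) ≫ (e j).hom) ∧
      (∀ j, IsAffineHom (L.π.app j).left) ∧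
      Nonempty (IsLimit ((Over.forget S).mapCone L)) := by
  let K : J ⥤ Scheme.{u} := liftDiag E W e ⋙ Over.forget S
  haveI hK : ∀ (j k : J) (f : j ⟶ k), IsAffineHom (K.map f) := fun j k f => haff f
  haveI : HasLimit K := Groth.Agent.Lib.helper11.AffLim.hasLimit_of_isAffineHom K
  haveI : IsConnected J := IsCofiltered.isConnected J
  haveI : HasLimit (liftDiag E W e) := hasLimit_of_created (liftDiag E W e) (Over.forget S)
  let L := limit.cone (liftDiag E W e)
  let hL : IsLimit L := limit.isLimit _
  have hLK : IsLimit ((Over.forget S).mapCone L) := isLimitOfPreserves (Over.forget S) hL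
  have hLy : IsLimit ((yon S).mapCone L) := isLimitOfPreserves (yon S) hL
  refine ⟨L, hL, IsLimit.conePointsIsoOfNatIso hLy hcE (liftDiagIso E W e), ?_, ?_, ⟨hLK⟩⟩
  · intro j
    rw [IsLimit.conePointsIsoOfNatIso_hom_comp]
    rfl
  · intro j
    haveI : ∀ {j k : J} (f : j ⟶ k), IsAffineHom (K.map f) := fun f => hK _ _ f
    exact isAffineHom_π_app K ((Over.forget S).mapCone L) hLK j

end lift

section pb

variable {I : Type u} [SmallCategory I] (D : I ⥤ Sp S) (c : Cone D) (i : I)
  {T : Sp S} (g : T ⟶ D.obj i)

/-- The diagram `j ↦ D j ×_{D i} T` indexed by `j ⟶ i`. -/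
noncomputable abbrev pbDiag : Over i ⥤ Sp S :=
  Over.post (X := i) D ⋙ Over.pullback g ⋙ Over.forget T

/-- The cone over `pbDiag` with apex `c.pt ×_{D i} T`. -/
noncomputable abbrev pbCone : Cone (pbDiag D i g) :=
  (Over.forget T).mapCone ((Over.pullback g).mapCone ((Over.conePost D i).obj c))

/-- For a limit cone `c`, the cone `pbCone` is a limit cone. -/
noncomputable def pbConeIsLimit [IsCofiltered I] (hc : IsLimit c) : IsLimit (pbCone D c i g) := by
  haveI : IsConnected (Over i) := IsCofiltered.isConnected _
  haveI : PreservesLimitsOfSize.{u, u} (Over.pullback g) :=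
    (Over.mapPullbackAdj g).rightAdjoint_preservesLimits
  exact isLimitOfPreserves (Over.forget T)
    (isLimitOfPreserves (Over.pullback g) (Over.isLimitConePost i hc))

lemma pbCone_pt : (pbCone D c i g).pt = pullback (c.π.app i) g := rfl

lemma pbDiag_obj (j : Over i) : (pbDiag D i g).obj j = pullback (D.map j.hom) g := rfl

/-- first projection of `D j ×_{D i} T` -/
noncomputable def pbFst (j : Over i) : (pbDiag D i g).obj j ⟶ D.obj j.left :=
  pullback.fst (D.map j.hom) g

/-- second projection of `D j ×_{D i} T` -/
noncomputable def pbSnd (j : Over i) : (pbDiag D i g).obj j ⟶ T :=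
  pullback.snd (D.map j.hom) g

/-- first projection of `c.pt ×_{D i} T` -/
noncomputable def pbConeFst : (pbCone D c i g).pt ⟶ c.pt := pullback.fst (c.π.app i) g

/-- second projection of `c.pt ×_{D i} T` -/
noncomputable def pbConeSnd : (pbCone D c i g).pt ⟶ T := pullback.snd (c.π.app i) g

lemma isPullback_pbDiag (j : Over i) :
    IsPullback (pbFst D i g j) (pbSnd D i g j) (D.map j.hom) g :=
  IsPullback.of_hasPullback _ _

lemma isPullback_pbCone :
    IsPullback (pbConeFst D c i g) (pbConeSnd D c i g) (c.π.app i) g :=
  IsPullback.of_hasPullback _ _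

lemma pbCone_π_fst (j : Over i) :
    (pbCone D c i g).π.app j ≫ pbFst D i g j = pbConeFst D c i g ≫ c.π.app j.left := by
  simp only [pbCone, Over.pullback, Functor.mapCone_π_app, Over.forget_map, Over.homMk_left]
  exact pullback.lift_fst _ _ _

lemma pbCone_π_snd (j : Over i) :
    (pbCone D c i g).π.app j ≫ pbSnd D i g j = pbConeSnd D c i g := by
  simp only [pbCone, Over.pullback, Functor.mapCone_π_app, Over.forget_map, Over.homMk_left]
  exact pullback.lift_snd _ _ _

lemma pbDiag_map_fst {j k : Over i} (f : j ⟶ k) :
    (pbDiag D i g).map f ≫ pbFst D i g k = pbFst D i g j ≫ D.map f.left := by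
  simp only [pbDiag, Over.pullback, Functor.comp_map, Over.forget_map, Over.homMk_left]
  exact pullback.lift_fst _ _ _

lemma pbDiag_map_snd {j k : Over i} (f : j ⟶ k) :
    (pbDiag D i g).map f ≫ pbSnd D i g k = pbSnd D i g j := by
  simp only [pbDiag, Over.pullback, Functor.comp_map, Over.forget_map, Over.homMk_left]
  exact pullback.lift_snd _ _ _

end pb

end Groth.Agent.Lib.helper5.LimSp
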