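import Groth.Prelude
import Groth.Agent.Lib.Helper5.LimSpA
import Groth.Agent.Lib.Helper5.AlgSpGrpLocus
import Groth.Agent.S9941

/-!
# Cofiltered limits of algebraic spaces with affine transition maps (helper5)

* `exists_rep_pullback_π`: for a limit cone `c` of `D : I ⥤ Sp S` (`I` cofiltered), an index `i`, a scheme `Z` with a map
  `g : h_Z ⟶ D i` and representing schemes `W j` of the fibre products `D j ×_{D i} h_Z` (`j ⟶ i`) with affine transition
  maps, the fibre product `c.pt ×_{D i} h_Z` is represented by the limit `L` of the `W j`.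
* `isAffineMor_π`: the projections of the limit of a cofiltered system of sheaves with affine transition maps are affine.
* `isAlgSpace_limit`: the limit of a cofiltered system of algebraic spaces with affine transition maps is an algebraic
  space.
-/

set_option autoImplicit false
universe u
open CategoryTheory CategoryTheory.Limits AlgebraicGeometry Opposite

namespace Groth.Agent.Lib.helper5.LimSp

open AlgSp

variable {S : Scheme.{u}} {I : Type u} [SmallCategory I] (D : I ⥤ Sp S)
  (c : Cone D) (hc : IsLimit c) (i : I) {Z : Over S} (g : (yon S).obj Z ⟶ D.obj i)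
  (W : Over i → Over S) (s : ∀ j, W j ⟶ Z) (f : ∀ j : Over i, (yon S).obj (W j) ⟶ D.obj j.left)
  (sq : ∀ j : Over i, IsPullback (f j) ((yon S).map (s j)) (D.map j.hom) g)

/-- The chosen isomorphisms `h_{W j} ≅ D j ×_{D i} h_Z`. -/
noncomputable def repIso (j : Over i) : (yon S).obj (W j) ≅ (pbDiag D i g).obj j :=
  (sq j).isoPullback

lemma repIso_hom_fst (j : Over i) : (repIso D i g W s f sq j).hom ≫ pbFst D i g j = f j :=
  (sq j).isoPullback_hom_fst

lemma repIso_hom_snd (j : Over i) :
    (repIso D i g W s f sq j).hom ≫ pbSnd D i g j = (yon S).map (s j) :=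
  (sq j).isoPullback_hom_snd

lemma repIso_inv_fst (j : Over i) : (repIso D i g W s f sq j).inv ≫ f j = pbFst D i g j :=
  (sq j).isoPullback_inv_fst

lemma repIso_inv_snd (j : Over i) :
    (repIso D i g W s f sq j).inv ≫ (yon S).map (s j) = pbSnd D i g j :=
  (sq j).isoPullback_inv_snd

/-- The transition maps of the representing schemes. -/
noncomputable abbrev repDiag : Over i ⥤ Over S :=
  liftDiag (pbDiag D i g) W (repIso D i g W s f sq)

lemma repDiag_map_s {j k : Over i} (φ : j ⟶ k) : (repDiag D i g W s f sq).map φ ≫ s k = s j := by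
  apply (yon S).map_injective
  have h := yon_map_liftDiag_map (pbDiag D i g) W (repIso D i g W s f sq) φ
  have h' : (yon S).map ((repDiag D i g W s f sq).map φ) ≫ (yon S).map (s k) =
      (yon S).map (s j) := by
    refine (congrArg (· ≫ (yon S).map (s k)) h).trans ?_
    show ((repIso D i g W s f sq j).hom ≫ (pbDiag D i g).map φ ≫
      (repIso D i g W s f sq k).inv) ≫ (yon S).map (s k) = _
    rw [Category.assoc, Category.assoc, repIso_inv_snd, pbDiag_map_snd, repIso_hom_snd]
  exact ((yon S).map_comp _ _).trans h'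

lemma repDiag_map_f {j k : Over i} (φ : j ⟶ k) :
    (yon S).map ((repDiag D i g W s f sq).map φ) ≫ f k = f j ≫ D.map φ.left := by
  have h := yon_map_liftDiag_map (pbDiag D i g) W (repIso D i g W s f sq) φ
  refine (congrArg (· ≫ f k) h).trans ?_
  show ((repIso D i g W s f sq j).hom ≫ (pbDiag D i g).map φ ≫
    (repIso D i g W s f sq k).inv) ≫ f k = _
  rw [Category.assoc, Category.assoc, repIso_inv_fst, pbDiag_map_fst, ← Category.assoc,
    repIso_hom_fst]

include hc in
theorem exists_rep_pullback_π [IsCofiltered I]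
    (haff : ∀ {j k : Over i} (φ : j ⟶ k), IsAffineHom ((repDiag D i g W s f sq).map φ).left) :
    ∃ (L : Cone (repDiag D i g W s f sq)) (_ : IsLimit L) (p : ∀ j, L.pt ⟶ W j)
      (_ : ∀ j, p j = L.π.app j) (sL : L.pt ⟶ Z) (fL : (yon S).obj L.pt ⟶ c.pt),
      IsPullback fL ((yon S).map sL) (c.π.app i) g ∧
      (∀ j, p j ≫ s j = sL) ∧
      (∀ j : Over i, (yon S).map (p j) ≫ f j = fL ≫ c.π.app j.left) ∧
      (∀ j, IsAffineHom (p j).left) ∧
      Nonempty (IsLimit ((Over.forget S).mapCone L)) := by
  obtain ⟨L, hL, eL, h1, h2, h3⟩ := exists_limit_rep (pbDiag D i g) W (repIso D i g W s f sq)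
    haff (pbCone D c i g) (pbConeIsLimit D c i g hc)
  obtain ⟨p, hp⟩ : ∃ p : ∀ j, L.pt ⟶ W j, ∀ j, p j = L.π.app j :=
    ⟨fun j => L.π.app j, fun j => rfl⟩
  have h1' : ∀ j : Over i, eL.hom ≫ (pbCone D c i g).π.app j =
      (yon S).map (p j) ≫ (repIso D i g W s f sq j).hom := fun j => by
    rw [hp j]; exact h1 j
  have h2' : ∀ j, IsAffineHom (p j).left := fun j => by rw [hp j]; exact h2 j
  have hsnd : ∀ j : Over i, (yon S).map (p j ≫ s j) = eL.hom ≫ pbConeSnd D c i g := by
    intro j
    rw [Functor.map_comp, ← repIso_hom_snd D i g W s f sq j, ← Category.assoc, ← h1' j,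
      Category.assoc, pbCone_π_snd]
  have hfst : ∀ j : Over i, (yon S).map (p j) ≫ f j =
      (eL.hom ≫ pbConeFst D c i g) ≫ c.π.app j.left := by
    intro j
    rw [← repIso_hom_fst D i g W s f sq j, ← Category.assoc, ← h1' j, Category.assoc,
      pbCone_π_fst, Category.assoc]
  let top : Over i := Over.mk (𝟙 i)
  refine ⟨L, hL, p, hp, p top ≫ s top, eL.hom ≫ pbConeFst D c i g, ?_, ?_, hfst, h2', h3⟩
  · rw [hsnd top]
    exact IsPullback.of_iso (isPullback_pbCone D c i g) eL.symm (Iso.refl _)
      (Iso.refl _) (Iso.refl _) (by simp) (by simp) (by simp) (by simp)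
  · intro j
    apply (yon S).map_injective
    rw [hsnd j, hsnd top]

omit W s f sq in
/-- The projections of the limit of a cofiltered system of fppf sheaves with affine transition maps are affine. -/
theorem isAffineMor_π [IsCofiltered I] (hDa : ∀ (i j : I) (φ : i ⟶ j), IsAffineMor (D.map φ))
    (hc : IsLimit c) (i : I) : IsAffineMor (c.π.app i) := by
  intro Z hZ g
  choose W s f h using fun j : Over i => hDa j.left i j.hom hZ g
  have sq := fun j => (h j).1
  have hW : ∀ j, IsAffine (W j).left := fun j => (h j).2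
  obtain ⟨L, hL, p, hp, sL, fL, hpb, h1, h2, h3, h4⟩ :=
    exists_rep_pullback_π D c hc i g W s f sq
      (fun {j k} φ => @isAffineHom_of_isAffine _ _ _ (hW j) (hW k))
  refine ⟨L.pt, sL, fL, hpb, ?_⟩
  haveI := h3 (Over.mk (𝟙 i))
  haveI := hW (Over.mk (𝟙 i))
  exact isAffine_of_isAffineHom (p (Over.mk (𝟙 i))).left

omit W s f sq in
/-- The limit of a cofiltered system of algebraic spaces with affine transition maps is an algebraic space. -/
theorem isAlgSpace_limit [IsCofiltered I] (hD : ∀ i, IsAlgSpace (D.obj i))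
    (hDa : ∀ (i j : I) (φ : i ⟶ j), IsAffineMor (D.map φ)) (hc : IsLimit c) :
    IsAlgSpace c.pt := by
  obtain ⟨i₀⟩ := IsCofiltered.nonempty (C := I)
  have h := Groth.Agent.S9941.main (c.π.app i₀) (isAffineMor_π D c hDa hc i₀)
  exact GrpLocus.isAlgSpace_of_representable (c.π.app i₀) h.rep (hD i₀)

end Groth.Agent.Lib.helper5.LimSp
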