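import Groth.Prelude
import Groth.Agent.Lib.Helper5.LimSpB

/-!
# Charts of a cofiltered limit of algebraic spaces with affine transition maps (helper5)

* `isPullback_repDiag_map`, `isAffineHom_repDiag_map`: the transition maps of the representing schemes of the fibre products
  `D j ×_{D i} h_Z` are base changes of the transition maps of `D`, hence affine.
* `exists_chart_limit`: for every scheme `Z` with a map `g : h_Z ⟶ D i` the fibre product `c.pt ×_{D i} h_Z` is
  represented by the limit of the schemes representing `D j ×_{D i} h_Z`.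
-/

set_option autoImplicit false
universe u
open CategoryTheory CategoryTheory.Limits AlgebraicGeometry Opposite

namespace Groth.Agent.Lib.helper5.LimSp

open AlgSp

variable {S : Scheme.{u}} {I : Type u} [SmallCategory I] (D : I ⥤ Sp S)
  (c : Cone D) (hc : IsLimit c) (i : I) {Z : Over S} (g : (yon S).obj Z ⟶ D.obj i)
  (W : Over i → Over S) (s : ∀ j, W j ⟶ Z) (f : ∀ j : Over i, (yon S).obj (W j) ⟶ D.obj j.left)
  (sq : ∀ j : Over i, IsPullback (f j) ((yon S).map (s j)) (D.map j.hom) g)

lemma isPullback_repDiag_map {j k : Over i} (φ : j ⟶ k) :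
    IsPullback (f j) ((yon S).map ((repDiag D i g W s f sq).map φ)) (D.map φ.left) (f k) := by
  refine IsPullback.of_bot ?_ (repDiag_map_f D i g W s f sq φ).symm (sq k)
  have h1 : (yon S).map ((repDiag D i g W s f sq).map φ) ≫ (yon S).map (s k) =
      (yon S).map (s j) := by
    rw [← Functor.map_comp]
    exact congrArg (yon S).map (repDiag_map_s D i g W s f sq φ)
  have h2 : D.map φ.left ≫ D.map k.hom = D.map j.hom := by
    rw [← D.map_comp, Over.w φ]
  have key : IsPullback (f j) ((yon S).map (s j)) (D.map j.hom) g := sq j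
  rw [← h1, ← h2] at key
  exact key

lemma isAffineHom_repDiag_map (hDa : ∀ (i j : I) (φ : i ⟶ j), IsAffineMor (D.map φ))
    {j k : Over i} (φ : j ⟶ k) : IsAffineHom ((repDiag D i g W s f sq).map φ).left :=
  (Groth.Agent.S9941.main (D.map φ.left) (hDa _ _ φ.left)).property _ _ _
    (isPullback_repDiag_map D i g W s f sq φ)

omit W s f sq in
include hc in
theorem exists_chart_limit [IsCofiltered I]
    (hDa : ∀ (i j : I) (φ : i ⟶ j), IsAffineMor (D.map φ)) :
    ∃ (W : Over i → Over S) (s : ∀ j, W j ⟶ Z)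
      (f : ∀ j : Over i, (yon S).obj (W j) ⟶ D.obj j.left)
      (sq : ∀ j : Over i, IsPullback (f j) ((yon S).map (s j)) (D.map j.hom) g)
      (L : Cone (repDiag D i g W s f sq)) (_ : IsLimit L) (p : ∀ j, L.pt ⟶ W j)
      (_ : ∀ j, p j = L.π.app j) (sL : L.pt ⟶ Z) (fL : (yon S).obj L.pt ⟶ c.pt),
      IsPullback fL ((yon S).map sL) (c.π.app i) g ∧
      (∀ j, p j ≫ s j = sL) ∧
      (∀ j : Over i, (yon S).map (p j) ≫ f j = fL ≫ c.π.app j.left) ∧
      (∀ j, IsAffineHom (p j).left) ∧
      (∀ {j k : Over i} (φ : j ⟶ k), IsAffineHom ((repDiag D i g W s f sq).map φ).left) ∧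
      (∀ j, IsAffineHom (s j).left) ∧
      Nonempty (IsLimit ((Over.forget S).mapCone L)) := by
  have hrep : ∀ j : Over i, RepWith @IsAffineHom (D.map j.hom) :=
    fun j => Groth.Agent.S9941.main (D.map j.hom) (hDa _ _ j.hom)
  choose W s f sq using fun j : Over i => (hrep j).rep g
  have haff : ∀ {j k : Over i} (φ : j ⟶ k), IsAffineHom ((repDiag D i g W s f sq).map φ).left :=
    fun φ => isAffineHom_repDiag_map D i g W s f sq hDa φ
  obtain ⟨L, hL, p, hp, sL, fL, hpb, h1, h2, h3, h4⟩ :=
    exists_rep_pullback_π D c hc i g W s f sq haff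
  exact ⟨W, s, f, sq, L, hL, p, hp, sL, fL, hpb, h1, h2, h3, haff,
    fun j => (hrep j).property _ _ _ (sq j), h4⟩

end Groth.Agent.Lib.helper5.LimSp
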