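import Groth.Prelude
import Groth.Agent.Lib.Helper5.LimSpC
import Groth.Agent.Lib.Helper5.LimSchRed
import Groth.Agent.Lib.Helper1.EtaleReducedScheme
import Groth.Agent.Lib.Helper11.AlgSpBasic

/-!
# Reducedness and points of a cofiltered limit of algebraic spaces with affine transition maps (helper5)

* `isReduced_of_chart`: every scheme etale over a reduced sheaf is reduced.
* `isReducedSp_limit`: the limit of a cofiltered system of reduced algebraic spaces with affine transition maps is reduced.
* `nonempty_points_limit`: the limit of a cofiltered system of nonempty quasi-compact algebraic spaces with affine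
  transition maps is nonempty.
-/

set_option autoImplicit false
universe u
open CategoryTheory CategoryTheory.Limits AlgebraicGeometry Opposite

namespace Groth.Agent.Lib.helper5.LimSp

open AlgSp

variable {S : Scheme.{u}}

/-- Every scheme etale over a reduced sheaf is reduced. -/
theorem isReduced_of_chart {F : Sp S} (hF : IsReducedSp F) {W : Over S} (w : (yon S).obj W ⟶ F)
    (hw : RepWith @Etale w) : IsReduced W.left := by
  obtain ⟨U, p, hpe, hps, hUR⟩ := hF
  haveI : IsReduced U.left := hUR
  obtain ⟨V, snd, fst, sq⟩ := hpe.rep w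
  obtain ⟨h, rfl⟩ := (yon S).map_surjective fst
  haveI hsnd_et : Etale snd.left := hpe.property _ _ snd sq
  haveI hsnd_surj : Surjective snd.left := hps.property _ _ snd sq
  haveI hh : Etale h.left := hw.property _ _ h sq.flip
  haveI : IsReduced V.left := Groth.Agent.H1.EtaleReduced.isReduced_of_etale h.left
  exact Groth.Agent.S10366.isReduced_of_flat_surjective snd.left

variable {I : Type u} [SmallCategory I] [IsCofiltered I] (D : I ⥤ Sp S)
  (c : Cone D) (hc : IsLimit c)

include hc in
/-- The limit of a cofiltered system of reduced algebraic spaces with affine transition maps is reduced. -/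
theorem isReducedSp_limit (hDa : ∀ (i j : I) (φ : i ⟶ j), IsAffineMor (D.map φ))
    (hred : ∀ i, IsReducedSp (D.obj i)) : IsReducedSp c.pt := by
  obtain ⟨i⟩ := IsCofiltered.nonempty (C := I)
  obtain ⟨U, p, hpe, hps, hUR⟩ := hred i
  obtain ⟨W, s, f, sq, L, hL, q, hq, sL, fL, hpb, h1, h2, h3, h4, h5, ⟨h6⟩⟩ :=
    exists_chart_limit D c hc i p hDa
  have hfe : ∀ j, RepWith @Etale (f j) := fun j =>
    (RepWith (S := S) @Etale).of_isPullback (sq j).flip hpe
  have hWred : ∀ j, IsReduced (W j).left := fun j => isReduced_of_chart (hred j.left) (f j) (hfe j)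
  refine ⟨L.pt, fL, (RepWith (S := S) @Etale).of_isPullback hpb.flip hpe,
    (RepWith (S := S) @Surjective).of_isPullback hpb.flip hps, ?_⟩
  haveI : ∀ {j k : Over i} (φ : j ⟶ k),
      IsAffineHom ((repDiag D i p W s f sq ⋙ Over.forget S).map φ) := fun φ => h4 φ
  exact LimSchRed.isReduced_of_isLimit (repDiag D i p W s f sq ⋙ Over.forget S) _ h6 hWred

include hc in
/-- The limit of a cofiltered system of nonempty quasi-compact algebraic spaces with affine transition maps is
nonempty. -/
theorem nonempty_points_limit (hDa : ∀ (i j : I) (φ : i ⟶ j), IsAffineMor (D.map φ))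
    (hqc : ∀ i, IsQuasiCompactSp (D.obj i)) (hne : ∀ i, Nonempty (Points (D.obj i))) :
    Nonempty (Points c.pt) := by
  obtain ⟨i⟩ := IsCofiltered.nonempty (C := I)
  obtain ⟨U, p, hpe, hps, hUc⟩ := hqc i
  haveI : CompactSpace U.left := hUc
  obtain ⟨W, s, f, sq, L, hL, q, hq, sL, fL, hpb, h1, h2, h3, h4, h5, ⟨h6⟩⟩ :=
    exists_chart_limit D c hc i p hDa
  have hfs : ∀ j, RepWith @Surjective (f j) := fun j =>
    (RepWith (S := S) @Surjective).of_isPullback (sq j).flip hps
  haveI hWne : ∀ j, Nonempty ((repDiag D i p W s f sq ⋙ Over.forget S).obj j) := fun j => by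
    obtain ⟨x⟩ := hne j.left
    obtain ⟨w, -⟩ := Groth.Agent.Lib.helper11.surjective_ofPt (f j) (hfs j) x
    exact ⟨w⟩
  haveI hWc : ∀ j, CompactSpace ((repDiag D i p W s f sq ⋙ Over.forget S).obj j) := fun j => by
    haveI : IsAffineHom (s j).left := h5 j
    haveI : QuasiCompact (s j).left := inferInstance
    have h : CompactSpace (W j).left := QuasiCompact.compactSpace_of_compactSpace (s j).left
    exact h
  haveI : ∀ {j k : Over i} (φ : j ⟶ k),
      IsAffineHom ((repDiag D i p W s f sq ⋙ Over.forget S).map φ) := fun φ => h4 φ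
  obtain ⟨l⟩ := Scheme.nonempty_of_isLimit (repDiag D i p W s f sq ⋙ Over.forget S) _ h6
  exact ⟨Points.ofPt fL l⟩

end Groth.Agent.Lib.helper5.LimSp
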