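import Groth.Prelude
import Groth.Agent.Lib.Helper5.LimSpD

/-!
# The topology of the space of points of a cofiltered limit of algebraic spaces (helper5)

* `isPullback_chart`: the square `h_L ⟶ c.pt`, `h_L ⟶ h_{W j}`, `c.pt ⟶ D j`, `h_{W j} ⟶ D j` of the charts of the limit is
  cartesian.
* `points_topology_limit`: for a cofiltered limit `X = lim X_i` of algebraic spaces with affine transition maps the topology
  of `|X|` is induced by the projections `|X| ⟶ |X_i|`.
-/

set_option autoImplicit false
universe u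
open CategoryTheory CategoryTheory.Limits AlgebraicGeometry Opposite Topology

namespace Groth.Agent.Lib.helper5.LimSp

open AlgSp

variable {S : Scheme.{u}} {I : Type u} [SmallCategory I] [IsCofiltered I] (D : I ⥤ Sp S)
  (c : Cone D) (hc : IsLimit c)

include hc in
theorem points_topology_limit (hD : ∀ i, IsAlgSpace (D.obj i))
    (hDa : ∀ (i j : I) (φ : i ⟶ j), IsAffineMor (D.map φ)) :
    Points.topologicalSpace c.pt =
      ⨅ i, TopologicalSpace.induced (Points.map (c.π.app i)) (Points.topologicalSpace (D.obj i)) := by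
  apply le_antisymm
  · exact le_iInf fun i => continuous_iff_le_induced.mp (Points.continuous_map (c.π.app i))
  · obtain ⟨i₀⟩ := IsCofiltered.nonempty (C := I)
    obtain ⟨Z, g, hge, hgs⟩ := (hD i₀).atlas
    obtain ⟨W, s, f, sq, L, hL, p, hp, sL, fL, hpb, h1, h2, h3, h4, h5, ⟨h6⟩⟩ :=
      exists_chart_limit D c hc i₀ g hDa
    have hfe : ∀ j, RepWith @Etale (f j) := fun j =>
      (RepWith (S := S) @Etale).of_isPullback (sq j).flip hge
    have hfLs : RepWith @Surjective fL := (RepWith (S := S) @Surjective).of_isPullback hpb.flip hgs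
    have hsqj : ∀ j : Over i₀, IsPullback fL ((yon S).map (p j)) (c.π.app j.left) (f j) := by
      intro j
      refine IsPullback.of_bot ?_ (h2 j).symm (sq j)
      have e1 : (yon S).map (p j) ≫ (yon S).map (s j) = (yon S).map sL := by
        rw [← Functor.map_comp, h1 j]
      have e2 : c.π.app j.left ≫ D.map j.hom = c.π.app i₀ := c.w j.hom
      rw [e1, e2]
      exact hpb
    intro Wset hW
    -- `hW : IsOpen Wset` for the topology of points
    change IsOpen[Points.topologicalSpace c.pt] Wset at hW
    change IsOpen[⨅ i, TopologicalSpace.induced (Points.map (c.π.app i))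
      (Points.topologicalSpace (D.obj i))] Wset
    refine (@isOpen_iff_forall_mem_open _ (⨅ i, TopologicalSpace.induced (Points.map (c.π.app i))
      (Points.topologicalSpace (D.obj i))) _).mpr ?_
    intro x hx
    obtain ⟨l₀, rfl⟩ := Groth.Agent.Lib.helper11.surjective_ofPt fL hfLs x
    let OL : L.pt.left.Opens := ⟨Points.ofPt fL ⁻¹' Wset, hW.preimage (Points.continuous_ofPt fL)⟩
    haveI : ∀ {j k : Over i₀} (φ : j ⟶ k),
        IsAffineHom ((repDiag D i₀ g W s f sq ⋙ Over.forget S).map φ) := fun φ => h4 φ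
    have hbasis := isBasis_preimage_isAffineOpen (repDiag D i₀ g W s f sq ⋙ Over.forget S) _ h6
    obtain ⟨_, ⟨j, V, hV, rfl⟩, hl₀V, hVO⟩ :=
      TopologicalSpace.Opens.isBasis_iff_nbhd.mp hbasis (U := OL) (x := l₀) hx
    have hπ : ((Over.forget S).mapCone L).π.app j = (p j).left := by
      rw [hp j]; rfl
    obtain ⟨V', hV'⟩ : ∃ V' : (W j).left.Opens, V' = V := ⟨V, rfl⟩
    refine ⟨Points.map (c.π.app j.left) ⁻¹' (Points.ofPt (f j) '' (V' : Set _)), ?_, ?_, ?_⟩
    · rintro y ⟨v, hvV, hvy⟩
      obtain ⟨l, hl1, hl2⟩ := Groth.Agent.Lib.helper11.exists_of_isPullback_scheme (hsqj j) y v hvy.symm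
      have hlV' : (p j).left l ∈ V' := by rw [hl2]; exact hvV
      have hlO : l ∈ OL := hVO (by
        change ((Over.forget S).mapCone L).π.app j l ∈ V
        rw [hπ]; exact hV' ▸ hlV')
      rw [← hl1]
      exact hlO
    · refine TopologicalSpace.le_def.mp (iInf_le _ j.left) _ ?_
      exact isOpen_induced (Groth.Agent.Lib.helper11.isOpenMap_ofPt (f j) (hfe j) _ V'.2)
    · refine ⟨(p j).left l₀, ?_, ?_⟩
      · have : ((Over.forget S).mapCone L).π.app j l₀ ∈ V := hl₀V
        rw [hπ, ← hV'] at this
        exact this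
      · rw [Points.map_ofPt, ← h2 j, Groth.Agent.Lib.helper11.ofPt_yon_map_comp]

end Groth.Agent.Lib.helper5.LimSp
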