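import Groth.Agent.Lib.Helper5.AlgSpOpenSub
import Groth.Agent.Lib.Helper5.AlgSpUniv2
import Groth.Agent.Lib.Helper15.AlgSpDiag
import Groth.Agent.S10086
import Groth.Agent.S10174
import Groth.Agent.S10179
import Groth.Agent.S10180

/-!
# Affine étale charts covering a quasi-compact image (helper5)
-/

set_option autoImplicit false
universe u
open CategoryTheory CategoryTheory.Limits AlgebraicGeometry

namespace Groth.Agent.Lib.helper5.ImmLim

open AlgSp

variable {S : Scheme.{u}}

/-- For a morphism `y : Y ⟶ X` of algebraic spaces with `Y` quasi-compact there is an affine scheme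
`V` with an étale map to `X` whose image contains the image of `y`. -/
theorem exists_affine_etale_cover_range {X Y : Space S} (y : Y.obj ⟶ X.obj)
    (hYqc : IsQuasiCompactSp Y.obj) :
    ∃ (V : Over S) (g : (yon S).obj V ⟶ X.obj), IsAffine V.left ∧ RepWith @Etale g ∧
      Set.range (Points.map y) ⊆ Set.range (Points.map g) := by
  classical
  haveI : CompactSpace (Points Y.obj) := (Groth.Agent.S10174.result Y).1 hYqc
  have hK : IsCompact (Set.range (Points.map y)) := isCompact_range (Points.continuous_map y)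
  choose Vx hVo hVc hxV _ using fun x : Points X.obj =>
    Groth.Agent.S10179.result X x Set.univ isOpen_univ (Set.mem_univ x)
  obtain ⟨t, -, ht⟩ := hK.elim_nhds_subcover Vx (fun x _ => (hVo x).mem_nhds (hxV x))
  obtain ⟨Ω, hΩdef⟩ : ∃ Ω : Set (Points X.obj), Ω = ⋃ x ∈ t, Vx x := ⟨_, rfl⟩
  have hΩo : IsOpen Ω := by
    rw [hΩdef]; exact isOpen_biUnion fun x _ => hVo x
  have hΩc : IsCompact Ω := by
    rw [hΩdef]; exact t.isCompact_biUnion fun x _ => hVc x
  have hKΩ : Set.range (Points.map y) ⊆ Ω := by rw [hΩdef]; exact ht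
  have hqc : IsQuasiCompactSp (OpenSub.sub X.obj Ω) :=
    Groth.Agent.S10086.isQuasiCompactSp_sub X.property hΩo hΩc
  obtain ⟨V, p', hV, hp'e, hp's⟩ :=
    (Groth.Agent.S10180.result ⟨OpenSub.sub X.obj Ω, OpenSub.isAlgSpace_sub X.property hΩo⟩).1 hqc
  refine ⟨V, p' ≫ OpenSub.ι X.obj Ω, hV, ?_, ?_⟩
  · exact (RepWith (S := S) @Etale).comp_mem _ _ hp'e
      (Groth.Agent.Lib.helper15.AlgSpDiag.repWith_mono_iff_le
        (fun _ _ f hf => by haveI : IsOpenImmersion f := hf; exact (inferInstance : Etale f))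
        (OpenSub.repWith_ι X.obj hΩo))
  · intro ω hω
    have hω' : ω ∈ Set.range (Points.map (OpenSub.ι X.obj Ω)) := by
      rw [OpenSub.range_map_ι]; exact hKΩ hω
    obtain ⟨x', rfl⟩ := hω'
    obtain ⟨v, rfl⟩ := Groth.Agent.Lib.helper5.surjective_map_of_repWith_surjective p' hp's x'
    exact ⟨v, Points.map_comp _ _ _⟩

end Groth.Agent.Lib.helper5.ImmLim
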