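/-
helper5: closed points of ind-constructible subsets of Jacobson spaces.

* `nonempty_inter_closedPoints_of_isLocallyConstructible` (after helper26 `AnPtsMore`): a nonempty locally constructible
  subset of a Jacobson space contains a closed point.
* `exists_isLocallyConstructible_of_mem`: a point of an ind-constructible set lies in a locally constructible subset
  (of an open neighbourhood) contained in it.
* `exists_closedPoint_of_indConstructible`: a point in the intersection of two ind-constructible sets and a locally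
  constructible set of a Jacobson space ⇒ there is a closed point in that intersection.
-/
import Mathlib
import Groth.Prelude.Def_ProCons

set_option autoImplicit false
open Topology TopologicalSpace

namespace Groth.Agent.Lib.helper5.IndConsPt

variable {T : Type*} [TopologicalSpace T]

/-- A set is a finite union of locally closed sets (helper26). -/
def FinUnionLC (s : Set T) : Prop :=
  ∃ F : Set (Set T), F.Finite ∧ (∀ Z ∈ F, IsLocallyClosed Z) ∧ s = ⋃₀ F

lemma FinUnionLC.union {s t : Set T} (hs : FinUnionLC s) (ht : FinUnionLC t) :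
    FinUnionLC (s ∪ t) := by
  obtain ⟨F, hF, hFl, rfl⟩ := hs
  obtain ⟨G, hG, hGl, rfl⟩ := ht
  refine ⟨F ∪ G, hF.union hG, ?_, (Set.sUnion_union F G).symm⟩
  rintro Z (hZ | hZ)
  · exact hFl Z hZ
  · exact hGl Z hZ

lemma FinUnionLC.inter {s t : Set T} (hs : FinUnionLC s) (ht : FinUnionLC t) :
    FinUnionLC (s ∩ t) := by
  obtain ⟨F, hF, hFl, rfl⟩ := hs
  obtain ⟨G, hG, hGl, rfl⟩ := ht
  refine ⟨Set.image2 (· ∩ ·) F G, hF.image2 _ hG, ?_, ?_⟩
  · rintro _ ⟨A, hA, B, hB, rfl⟩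
    exact (hFl A hA).inter (hGl B hB)
  · ext x
    constructor
    · rintro ⟨⟨A, hA, hxA⟩, ⟨B, hB, hxB⟩⟩
      exact ⟨A ∩ B, ⟨A, hA, B, hB, rfl⟩, hxA, hxB⟩
    · rintro ⟨_, ⟨A, hA, B, hB, rfl⟩, hxA, hxB⟩
      exact ⟨⟨A, hA, hxA⟩, ⟨B, hB, hxB⟩⟩

lemma FinUnionLC.of_isLocallyClosed {s : Set T} (hs : IsLocallyClosed s) : FinUnionLC s :=
  ⟨{s}, Set.finite_singleton s, by rintro _ rfl; exact hs, (Set.sUnion_singleton s).symm⟩

lemma finUnionLC_and_compl {s : Set T} (hs : IsConstructible s) :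
    FinUnionLC s ∧ FinUnionLC sᶜ := by
  induction hs using IsConstructible.empty_union_induction with
  | open_retrocompact U hU _ =>
    exact ⟨.of_isLocallyClosed hU.isLocallyClosed,
      .of_isLocallyClosed hU.isClosed_compl.isLocallyClosed⟩
  | union s _ t _ hs ht =>
    refine ⟨hs.1.union ht.1, ?_⟩
    rw [Set.compl_union]
    exact hs.2.inter ht.2
  | compl s _ hs =>
    refine ⟨hs.2, ?_⟩
    rw [compl_compl]
    exact hs.1

/-- A nonempty constructible set contains a nonempty locally closed subset (helper26). -/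
lemma exists_isLocallyClosed_subset {s : Set T} (hs : IsConstructible s)
    (hne : s.Nonempty) : ∃ Z ⊆ s, Z.Nonempty ∧ IsLocallyClosed Z := by
  obtain ⟨F, -, hFl, rfl⟩ := (finUnionLC_and_compl hs).1
  obtain ⟨x, Z, hZ, hxZ⟩ := hne
  exact ⟨Z, Set.subset_sUnion_of_mem hZ, ⟨x, hxZ⟩, hFl Z hZ⟩

/-- In a Jacobson space, a nonempty locally constructible set contains a closed point (helper26). -/
lemma nonempty_inter_closedPoints_of_isLocallyConstructible [JacobsonSpace T] {s : Set T}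
    (hs : IsLocallyConstructible s) (hne : s.Nonempty) : (s ∩ closedPoints T).Nonempty := by
  obtain ⟨y, hy⟩ := hne
  obtain ⟨U, hyU, hU, hc⟩ := hs y
  have hne' : (Subtype.val ⁻¹' s : Set U).Nonempty := ⟨⟨y, mem_of_mem_nhds hyU⟩, hy⟩
  obtain ⟨Z, hZs, hZne, hZl⟩ := exists_isLocallyClosed_subset hc hne'
  have hZ' : IsLocallyClosed (Subtype.val '' Z : Set T) :=
    hZl.image IsInducing.subtypeVal (by rw [Subtype.range_val]; exact hU.isLocallyClosed)
  obtain ⟨q, hqZ, hqc⟩ := _root_.nonempty_inter_closedPoints (hZne.image _) hZ'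
  obtain ⟨⟨q', hq'U⟩, hq'Z, rfl⟩ := hqZ
  exact ⟨q', hZs hq'Z, hqc⟩

/-- a point of an ind-constructible set lies in a locally constructible subset of an open neighbourhood -/
lemma exists_isLocallyConstructible_of_mem {E : Set T} (hE : ProCons.IsIndConstructible E) (x : T)
    (hx : x ∈ E) : ∃ (U : Set T) (_ : IsOpen U) (hxU : x ∈ U) (C : Set ↥U),
      IsLocallyConstructible C ∧ (⟨x, hxU⟩ : ↥U) ∈ C ∧ C ⊆ Subtype.val ⁻¹' E := by
  obtain ⟨U, hU, hxU, S, hS, hES⟩ := hE x
  have hxE : (⟨x, hxU⟩ : ↥U) ∈ (Subtype.val ⁻¹' E : Set ↥U) := hx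
  rw [hES] at hxE
  obtain ⟨C, hCS, hxC⟩ := hxE
  refine ⟨U, hU, hxU, C, hS C hCS, hxC, ?_⟩
  rw [hES]
  exact Set.subset_sUnion_of_mem hCS

/-- in a Jacobson space, if two ind-constructible sets and a locally constructible set have a common point,
they have a common closed point -/
theorem exists_closedPoint_of_indConstructible [JacobsonSpace T] {E₁ E₂ F : Set T}
    (h₁ : ProCons.IsIndConstructible E₁) (h₂ : ProCons.IsIndConstructible E₂)
    (hF : IsLocallyConstructible F) (x : T) (hx₁ : x ∈ E₁) (hx₂ : x ∈ E₂) (hxF : x ∈ F) :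
    ∃ y : T, IsClosed ({y} : Set T) ∧ y ∈ E₁ ∧ y ∈ E₂ ∧ y ∈ F := by
  obtain ⟨U₁, hU₁, hxU₁, C₁, hC₁, hxC₁, hCE₁⟩ := exists_isLocallyConstructible_of_mem h₁ x hx₁
  obtain ⟨U₂, hU₂, hxU₂, C₂, hC₂, hxC₂, hCE₂⟩ := exists_isLocallyConstructible_of_mem h₂ x hx₂
  let U : Set T := U₁ ∩ U₂
  have hU : IsOpen U := hU₁.inter hU₂
  let j₁ : ↥U → ↥U₁ := Set.inclusion Set.inter_subset_left
  let j₂ : ↥U → ↥U₂ := Set.inclusion Set.inter_subset_right
  have hj₁ : IsOpenEmbedding j₁ := by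
    refine IsOpenEmbedding.of_comp (f := j₁) (g := Subtype.val) hU₁.isOpenEmbedding_subtypeVal ?_
    exact hU.isOpenEmbedding_subtypeVal
  have hj₂ : IsOpenEmbedding j₂ := by
    refine IsOpenEmbedding.of_comp (f := j₂) (g := Subtype.val) hU₂.isOpenEmbedding_subtypeVal ?_
    exact hU.isOpenEmbedding_subtypeVal
  have hjU : IsOpenEmbedding (Subtype.val : ↥U → T) := hU.isOpenEmbedding_subtypeVal
  haveI : JacobsonSpace ↥U := JacobsonSpace.of_isOpenEmbedding hjU
  have hC : IsLocallyConstructible (j₁ ⁻¹' C₁ ∩ j₂ ⁻¹' C₂ ∩ Subtype.val ⁻¹' F : Set ↥U) :=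
    ((hC₁.preimage_of_isOpenEmbedding hj₁).inter (hC₂.preimage_of_isOpenEmbedding hj₂)).inter
      (hF.preimage_of_isOpenEmbedding hjU)
  obtain ⟨u, ⟨⟨hu₁, hu₂⟩, huF⟩, huc⟩ := nonempty_inter_closedPoints_of_isLocallyConstructible hC
    ⟨⟨x, hxU₁, hxU₂⟩, ⟨hxC₁, hxC₂⟩, hxF⟩
  have huc' : u ∈ (Subtype.val : ↥U → T) ⁻¹' closedPoints T := by
    rw [hjU.preimage_closedPoints]; exact huc
  exact ⟨u.1, huc', hCE₁ hu₁, hCE₂ hu₂, huF⟩

end Groth.Agent.Lib.helper5.IndConsPt
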