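import Groth.Prelude
import Groth.Agent.Lib.Helper8.LocalFlat
import Groth.Agent.Lib.Helper18.PullbackFlat

/-!
# Flatness at points over `V(I)` from flatness over all infinitesimal neighbourhoods (helper5)

* `flat_tensor_localization`: `R' ⊗[R] B` flat over `R'` ⇒ `R' ⊗[R] B_q` flat over `R'`.
* `flat_quot_tensor`: if `X ×_S V(I) ⟶ V(I)` is flat then for affine opens `V ⊆ f⁻¹ W`,
  `(R/J) ⊗[R] B` is flat over `R/J` (`R = Γ(S,W)`, `B = Γ(X,V)`, `J = I(W)`).
* `flat_stalkMap_of_flat_pow`: local criterion of flatness, scheme form.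
-/

set_option autoImplicit false
universe u

namespace Groth.Agent.Lib.helper5.InfFlat

open AlgebraicGeometry CategoryTheory Limits TensorProduct

theorem flat_tensor_localization {R R' B : Type u} [CommRing R] [CommRing R'] [CommRing B]
    [Algebra R R'] [Algebra R B] (q : Ideal B) [q.IsPrime] [Module.Flat R' (R' ⊗[R] B)] :
    Module.Flat R' (R' ⊗[R] Localization.AtPrime q) := by
  let Bq := Localization.AtPrime q
  let φ : R' ⊗[R] B →ₐ[R'] R' ⊗[R] Bq :=
    Algebra.TensorProduct.map (AlgHom.id R' R') (IsScalarTower.toAlgHom R B Bq)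
  let _ : Algebra (R' ⊗[R] B) (R' ⊗[R] Bq) := φ.toRingHom.toAlgebra
  have : IsScalarTower R' (R' ⊗[R] B) (R' ⊗[R] Bq) :=
    .of_algebraMap_eq' φ.comp_algebraMap.symm
  have hloc : IsLocalization
      (q.primeCompl.map (Algebra.TensorProduct.includeRight (R := R) (A := R'))) (R' ⊗[R] Bq) :=
    IsLocalization.tensorProduct_tensorProduct_right R R' q.primeCompl Bq (by
      ext b
      change φ ((1 : R') ⊗ₜ[R] b) = (1 : R') ⊗ₜ[R] (algebraMap B Bq b)
      simp [φ])
  have : Module.Flat (R' ⊗[R] B) (R' ⊗[R] Bq) := IsLocalization.flat _ (q.primeCompl.map (Algebra.TensorProduct.includeRight (R := R) (A := R')))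
  exact Module.Flat.trans R' (R' ⊗[R] B) (R' ⊗[R] Bq)

theorem flat_quot_tensor {X S : Scheme.{u}} (f : X ⟶ S) (I : S.IdealSheafData)
    (hfl : Flat (pullback.snd f I.subschemeι))
    (W : S.Opens) (hW : IsAffineOpen W) (V : X.Opens) (hV : IsAffineOpen V) (e : V ≤ f ⁻¹ᵁ W) :
    letI := (f.appLE W V e).hom.toAlgebra
    Module.Flat (Γ(S, W) ⧸ I.ideal ⟨W, hW⟩) ((Γ(S, W) ⧸ I.ideal ⟨W, hW⟩) ⊗[Γ(S, W)] Γ(X, V)) := by
  let _ : Algebra Γ(S, W) Γ(X, V) := (f.appLE W V e).hom.toAlgebra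
  let R := Γ(S, W)
  let B := Γ(X, V)
  let J := I.ideal ⟨W, hW⟩
  let a : Spec (.of (R ⧸ J)) ⟶ I.subscheme := I.subschemeCover.f ⟨W, hW⟩
  have ha : IsOpenImmersion a := I.subschemeCover.map_prop ⟨W, hW⟩
  have e₁ : Spec.map (CommRingCat.ofHom (algebraMap R (R ⧸ J))) ≫ hW.fromSpec =
      a ≫ I.subschemeι :=
    ((I.subschemeCover_map_subschemeι ⟨W, hW⟩).trans (I.glueDataObjι_ι ⟨W, hW⟩)).symm
  have e₂ : Spec.map (CommRingCat.ofHom (algebraMap R B)) ≫ hW.fromSpec = hV.fromSpec ≫ f :=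
    IsAffineOpen.SpecMap_appLE_fromSpec f hW hV e
  let m := pullback.map _ _ I.subschemeι f a hV.fromSpec hW.fromSpec e₁ e₂
  have hm : m ≫ pullback.fst _ _ = pullback.fst _ _ ≫ a := pullback.lift_fst _ _ _
  have h1 : Flat (pullback.fst I.subschemeι f) := by
    rw [← pullbackSymmetry_hom_comp_snd]; infer_instance
  have h2 : Flat (pullback.fst (Spec.map (CommRingCat.ofHom (algebraMap R (R ⧸ J))))
      (Spec.map (CommRingCat.ofHom (algebraMap R B))) ≫ a) := by
    have : Flat (m ≫ pullback.fst I.subschemeι f) := inferInstance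
    exact hm ▸ this
  have h3 : Flat (pullback.fst (Spec.map (CommRingCat.ofHom (algebraMap R (R ⧸ J))))
      (Spec.map (CommRingCat.ofHom (algebraMap R B)))) :=
    MorphismProperty.of_postcomp (W := @Flat) (W' := @IsOpenImmersion) _ a ha h2
  have h4 : Flat (Spec.map (CommRingCat.ofHom (algebraMap (R ⧸ J) ((R ⧸ J) ⊗[R] B)))) := by
    rw [← pullbackSpecIso_inv_fst']; infer_instance
  rw [HasRingHomProperty.Spec_iff (P := @Flat)] at h4
  exact (RingHom.flat_algebraMap_iff).mp h4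

theorem flat_stalkMap_of_flat_pow {X S : Scheme.{u}} (f : X ⟶ S) [IsLocallyNoetherian X]
    [IsLocallyNoetherian S] (I : S.IdealSheafData)
    (h : ∀ n : ℕ, Flat (pullback.snd f (I ^ (n + 1)).subschemeι)) (x : X)
    (hx : f x ∈ I.support) : (f.stalkMap x).hom.Flat := by
  obtain ⟨_, ⟨W, hW, rfl⟩, hfxW, -⟩ := S.isBasis_affineOpens.exists_subset_of_mem_open
    (Set.mem_univ (f x)) isOpen_univ
  obtain ⟨_, ⟨V, hV, rfl⟩, hxV, hVW⟩ := X.isBasis_affineOpens.exists_subset_of_mem_open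
    (show x ∈ ((f ⁻¹ᵁ W : X.Opens) : Set X) from hfxW) (f ⁻¹ᵁ W).isOpen
  have e : V ≤ f ⁻¹ᵁ W := hVW
  rw [Groth.Agent.Lib.Helper18.PullbackStalk.flat_stalkMap_iff' W hW V hV e hxV]
  let _ : Algebra Γ(S, W) Γ(X, V) := (f.appLE W V e).hom.toAlgebra
  let R := Γ(S, W)
  let B := Γ(X, V)
  have : IsNoetherianRing R := IsLocallyNoetherian.component_noetherian ⟨W, hW⟩
  have : IsNoetherianRing B := IsLocallyNoetherian.component_noetherian ⟨V, hV⟩
  let q := (hV.primeIdealOf ⟨x, hxV⟩).asIdeal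
  let Bq := Localization.AtPrime q
  have : IsNoetherianRing Bq := IsLocalization.isNoetherianRing q.primeCompl Bq inferInstance
  let J := I.ideal ⟨W, hW⟩
  refine Groth.Agent.Lib.helper8.LocalFlat.flat_of_forall_flat_quotient_pow (R := R) (S := Bq)
    (M := Bq) J ?_ ?_
  · rw [IsLocalRing.jacobson_eq_maximalIdeal ⊥ bot_ne_top, Ideal.map_le_iff_le_comap]
    intro r hr
    rw [Ideal.mem_comap, IsScalarTower.algebraMap_apply R B Bq,
      IsLocalization.AtPrime.to_map_mem_maximal_iff Bq q]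
    have hcomap := IsAffineOpen.comap_primeIdealOf_appLE W hW V hV e hxV
    change r ∈ ((hV.primeIdealOf ⟨x, hxV⟩).comap (f.appLE W V e).hom).asIdeal
    rw [hcomap]
    have hz : f x ∈ S.zeroLocus (U := W) (J : Set _) :=
      (Scheme.IdealSheafData.mem_support_iff_of_mem (U := ⟨W, hW⟩) hfxW).mp hx
    have hmem : (hW.primeIdealOf ⟨f x, e hxV⟩ : ↥(Spec Γ(S, W))) ∈
        hW.fromSpec ⁻¹' S.zeroLocus (U := W) (J : Set _) := by
      show hW.fromSpec (hW.primeIdealOf ⟨f x, e hxV⟩) ∈ S.zeroLocus (U := W) (J : Set _)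
      rw [hW.fromSpec_primeIdealOf]
      exact hz
    rw [hW.fromSpec_preimage_zeroLocus] at hmem
    exact hmem hr
  · intro k hk
    obtain ⟨n, rfl⟩ : ∃ n, k = n + 1 := ⟨k - 1, by omega⟩
    have h1 : Module.Flat (R ⧸ J ^ (n + 1)) ((R ⧸ J ^ (n + 1)) ⊗[R] B) :=
      flat_quot_tensor f (I ^ (n + 1)) (h n) W hW V hV e
    exact flat_tensor_localization q

end Groth.Agent.Lib.helper5.InfFlat
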