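import Groth.Prelude.Def_BigSite
import Groth.Agent.Lib.Helper5.FinSplit1
import Groth.Agent.Lib.Helper13.WT6
import Groth.Agent.Lib.Helper13.EL8

/-!
# A separated locally quasi-finite morphism satisfies condition (A) (helper5)

`propA_of_separated_lqf`.
-/

set_option autoImplicit false

namespace Groth.Agent.Lib.helper5.FinSplit

open AlgebraicGeometry CategoryTheory Limits
open Groth.Agent.Lib.helper13

universe u

theorem propA_of_separated_lqf {X Y : Scheme.{u}} (f : X ⟶ Y) [IsSeparated f]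
    [LocallyQuasiFinite f] [LocallyOfFiniteType f] : BigSite.PropA f := by
  intro U g _ u
  classical
  have hlqf : LocallyQuasiFinite g := UR.locallyQuasiFinite_of_formallyUnramified g
  have hqf : (g ≫ f).QuasiFiniteAt u := Scheme.Hom.quasiFiniteAt _ _
  obtain ⟨V, v, v₀, hv, hvy, J, hJ, T, t, hgood, hPI, -, hexh⟩ :=
    EL.exists_etale_nbhd_purelyInseparable (f := g ≫ f) ((g ≫ f) u) (fun _ : Unit => u)
      (fun _ => rfl) (fun _ => hqf)
  obtain ⟨w₀, hw1, hw2⟩ := Scheme.Pullback.exists_preimage_pullback (f := g ≫ f) (g := v) u v₀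
    hvy.symm
  obtain ⟨j, -⟩ := hexh w₀ () hw2 hw1
  let p : pullback f v ⟶ V := pullback.snd f v
  let Φ : pullback (g ≫ f) v ⟶ pullback f v := WT.mapComp g f v
  have hΦet : Etale Φ :=
    MorphismProperty.of_isPullback (P := @Etale) (WT.isPullback_mapComp g f v) inferInstance
  have hΦp : Φ ≫ p = pullback.snd (g ≫ f) v := WT.mapComp_snd g f v
  have hΦp' : ∀ w, p (Φ w) = pullback.snd (g ≫ f) v w := WT.mapComp_snd_apply g f v
  have hG := hgood () j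
  have hfinT : IsFinite ((T () j).ι ≫ Φ ≫ p) := by
    rw [hΦp]; exact hG.finite
  have hunT : ∀ w, w ∈ T () j → p (Φ w) = v₀ → w = t () j := by
    intro w hw hwy
    rw [hΦp'] at hwy
    exact hG.uniq w hw hwy
  have hyT : p (Φ (t () j)) = v₀ := by
    rw [hΦp']; exact hG.snd_eq
  have hPIT : ((Φ ≫ p).residueFieldMap (t () j)).hom.IsPurelyInseparable := by
    rw [hΦp]; exact hPI () j
  obtain ⟨O, hOt, σ, hσ, hσT, hσpt, -⟩ :=
    exists_local_section Φ p (T () j) (t () j) hG.mem hfinT v₀ hunT hyT hPIT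
  -- the closed image
  have hfinπ : IsFinite ((T () j).ι ≫ Φ) := by
    have : IsFinite (((T () j).ι ≫ Φ) ≫ p) := by
      rw [Category.assoc]; exact hfinT
    exact IsFinite.of_comp ((T () j).ι ≫ Φ) p
  let C : Set ↑(pullback f v) := Set.range ((T () j).ι ≫ Φ)
  have hCcl : IsClosed C := ((T () j).ι ≫ Φ).isClosedMap.isClosed_range
  have hOC : ∀ c, c ∈ O → c ∈ C := by
    intro c hc
    have h1 : Φ (σ ⟨c, hc⟩) = c := by
      rw [← Scheme.Hom.comp_apply, hσ]; rfl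
    exact ⟨⟨σ ⟨c, hc⟩, hσT _⟩, h1⟩
  -- the bad locus
  have hDcl : IsClosed (p '' (C ∩ (O : Set ↑(pullback f v))ᶜ)) := by
    have h : p '' (C ∩ (O : Set ↑(pullback f v))ᶜ) =
        ((T () j).ι ≫ Φ ≫ p) '' (((T () j).ι ≫ Φ) ⁻¹' (O : Set ↑(pullback f v))ᶜ) := by
      ext q
      constructor
      · rintro ⟨c, ⟨⟨w, rfl⟩, hcO⟩, rfl⟩
        exact ⟨w, hcO, rfl⟩
      · rintro ⟨w, hw, rfl⟩
        exact ⟨((T () j).ι ≫ Φ) w, ⟨⟨w, rfl⟩, hw⟩, rfl⟩
    rw [h]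
    exact ((T () j).ι ≫ Φ ≫ p).isClosedMap _
      (O.2.isClosed_compl.preimage ((T () j).ι ≫ Φ).continuous)
  let V₁ : V.Opens := ⟨(p '' (C ∩ (O : Set ↑(pullback f v))ᶜ))ᶜ, hDcl.isOpen_compl⟩
  have hv₀ : v₀ ∈ V₁ := by
    rintro ⟨c, ⟨⟨w, rfl⟩, hcO⟩, hc⟩
    apply hcO
    have : w.1 = t () j := hunT w.1 w.2 hc
    show Φ w.1 ∈ O
    rw [this]; exact hOt
  have hV₁et : Etale (V₁.ι ≫ v) := inferInstance
  let r : pullback f (V₁.ι ≫ v) ⟶ pullback f v := UR.resMap f v V₁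
  let W : (pullback f (V₁.ι ≫ v)).Opens := r ⁻¹ᵁ O
  have hWcl : IsClosed (W : Set ↑(pullback f (V₁.ι ≫ v))) := by
    have h : (W : Set ↑(pullback f (V₁.ι ≫ v))) = r ⁻¹' C := by
      ext q
      constructor
      · intro hq
        exact hOC _ hq
      · intro hq
        by_contra hqO
        have h1 : p (r q) ∈ V₁ := UR.resMap_snd_mem V₁ q
        exact h1 ⟨r q, ⟨hq, hqO⟩, rfl⟩
    rw [h]
    exact hCcl.preimage r.continuous
  let h : (W : Scheme.{u}) ⟶ U := (r ∣_ O) ≫ σ ≫ pullback.fst (g ≫ f) v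
  refine ⟨V₁, V₁.ι ≫ v, hV₁et, W, hWcl, h, ?_, ?_⟩
  · have e1 : pullback.fst (g ≫ f) v ≫ g = Φ ≫ pullback.fst f v := (WT.mapComp_fst g f v).symm
    have e2 : (r ∣_ O) ≫ O.ι = W.ι ≫ r := morphismRestrict_ι r O
    have e3 : r ≫ pullback.fst f v = pullback.fst f (V₁.ι ≫ v) :=
      EL.refineMap_fst f v V₁.ι (V₁.ι ≫ v) rfl
    calc h ≫ g = (r ∣_ O) ≫ σ ≫ (pullback.fst (g ≫ f) v ≫ g) := by
          simp only [h, Category.assoc]
      _ = (r ∣_ O) ≫ (σ ≫ Φ) ≫ pullback.fst f v := by rw [e1]; simp only [Category.assoc]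
      _ = ((r ∣_ O) ≫ O.ι) ≫ pullback.fst f v := by rw [hσ]; simp only [Category.assoc]
      _ = W.ι ≫ pullback.fst f (V₁.ι ≫ v) := by rw [e2, Category.assoc, e3]
  · -- the point
    obtain ⟨q₀, hq1, hq2⟩ := WT.exists_preimage_of_isPullback
      (EL.isPullback_refineMap f v V₁.ι (V₁.ι ≫ v) rfl) (Φ (t () j)) (⟨v₀, hv₀⟩ : ↥V₁) hyT
    have hq1' : r q₀ = Φ (t () j) := hq1
    have hq₀W : q₀ ∈ W := by
      show r q₀ ∈ O
      rw [hq1']; exact hOt
    refine ⟨⟨q₀, hq₀W⟩, ?_⟩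
    have e2 : (r ∣_ O) ≫ O.ι = W.ι ≫ r := morphismRestrict_ι r O
    have h1 : O.ι ((r ∣_ O) ⟨q₀, hq₀W⟩) = Φ (t () j) := by
      rw [← Scheme.Hom.comp_apply, e2, Scheme.Hom.comp_apply]
      exact hq1'
    have h2 : σ ((r ∣_ O) ⟨q₀, hq₀W⟩) = t () j := hσpt _ h1
    show h ⟨q₀, hq₀W⟩ = u
    simp only [h, Scheme.Hom.comp_apply]
    rw [h2]
    exact hG.fst_eq

end Groth.Agent.Lib.helper5.FinSplit
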