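import Mathlib
import Groth.Prelude.Def_BigSite
import Groth.Agent.Lib.Helper5.IntSplit
import Groth.Agent.Lib.Helper5.PropALqf

/-!
# Integral morphisms satisfy condition (A) (helper5)
-/

set_option autoImplicit false

namespace Groth.Agent.Lib.helper5.IntSplit

open AlgebraicGeometry CategoryTheory Limits
open Groth.Agent.Lib.helper13

universe u

/-- Condition (A) for `f : X ⟶ Y` and an étale `g : U ⟶ X` at the point `u`. -/
def PropAAt {X Y U : Scheme.{u}} (f : X ⟶ Y) (g : U ⟶ X) (u : U) : Prop :=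
  ∃ (V : Scheme.{u}) (v : V ⟶ Y) (_ : Etale v) (W : (pullback f v).Opens)
    (_ : IsClosed (W : Set ↥(pullback f v))) (h : (W : Scheme.{u}) ⟶ U),
    h ≫ g = W.ι ≫ pullback.fst f v ∧ u ∈ Set.range h.base

theorem transport_pair' {B : Type u} [CommRing B] {U : Scheme.{u}} (g : U ⟶ Spec (.of B))
    (P P' : StandardEtalePair B) (h : P' = P) (j : Spec (.of P.Ring) ⟶ U)
    (hj : j ≫ g = Spec.map (CommRingCat.ofHom (algebraMap B P.Ring))) :
    ∃ j' : Spec (.of P'.Ring) ⟶ U,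
      j' ≫ g = Spec.map (CommRingCat.ofHom (algebraMap B P'.Ring)) ∧
      Set.range j' = Set.range j := by
  subst h
  exact ⟨j, hj, rfl⟩

lemma isPullback_map_of_eq {X X₀ Y V : Scheme.{u}} (f : X ⟶ Y) (π : X ⟶ X₀) (f₀ : X₀ ⟶ Y)
    (v : V ⟶ Y) (hf : f = π ≫ f₀) :
    IsPullback (pullback.fst f v)
      (pullback.map f v f₀ v π (𝟙 _) (𝟙 _) (by rw [Category.comp_id, hf]) (by simp)) π
      (pullback.fst f₀ v) := by
  subst hf
  exact WT.isPullback_mapComp π f₀ v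

variable {X Y U : Scheme.{u}} (f : X ⟶ Y) (g : U ⟶ X)

/-- Reduction along an étale base change of the target. -/
theorem propAAt_of_baseChange {Y' : Scheme.{u}} (j : Y' ⟶ Y) [Etale j]
    (u' : ↑(pullback g (pullback.fst f j)))
    (H : PropAAt (pullback.snd f j) (pullback.snd g (pullback.fst f j)) u') :
    PropAAt f g (pullback.fst g (pullback.fst f j) u') := by
  obtain ⟨V, v, hv, W, hWcl, h, hh, w, hw⟩ := H
  let θ := pullbackLeftPullbackSndIso f j v
  have hθfst : θ.hom ≫ pullback.fst f (v ≫ j) =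
      pullback.fst (pullback.snd f j) v ≫ pullback.fst f j :=
    pullbackLeftPullbackSndIso_hom_fst f j v
  refine ⟨V, v ≫ j, inferInstance, θ.hom ''ᵁ W, ?_,
    (θ.hom.isoImage W).inv ≫ h ≫ pullback.fst g (pullback.fst f j), ?_, ?_⟩
  · exact (θ.hom.homeomorph.isClosed_image).mpr hWcl
  · have h1 : (h ≫ pullback.fst g (pullback.fst f j)) ≫ g =
        W.ι ≫ θ.hom ≫ pullback.fst f (v ≫ j) := by
      rw [Category.assoc, pullback.condition, ← Category.assoc, hh, Category.assoc, hθfst]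
    rw [Category.assoc, Category.assoc, ← Category.assoc h, h1, ← Category.assoc W.ι,
      ← Category.assoc]
    congr 1
    exact Scheme.Hom.isoImage_inv_ι _ _
  · have : IsIso (θ.hom.isoImage W).inv := inferInstance
    obtain ⟨w', hw'⟩ := ((θ.hom.isoImage W).inv).surjective w
    refine ⟨w', ?_⟩
    show ((θ.hom.isoImage W).inv ≫ h ≫ pullback.fst g (pullback.fst f j)) w' = _
    rw [Scheme.Hom.comp_apply, hw', Scheme.Hom.comp_apply]
    exact congrArg _ hw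

/-- Reduction along an isomorphism of the source. -/
theorem propAAt_of_iso {X'' : Scheme.{u}} (a : X ≅ X'') (f'' : X'' ⟶ Y) (hf : f = a.hom ≫ f'')
    (u : U) (H : PropAAt f'' (g ≫ a.hom) u) : PropAAt f g u := by
  obtain ⟨V, v, hv, W, hWcl, h, hh, w, hw⟩ := H
  let μ : pullback f v ⟶ pullback f'' v :=
    pullback.map f v f'' v a.hom (𝟙 _) (𝟙 _) (by rw [Category.comp_id, hf]) (by simp)
  have hμfst : μ ≫ pullback.fst f'' v = pullback.fst f v ≫ a.hom := pullback.lift_fst _ _ _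
  have hμiso : IsIso μ := by
    dsimp only [μ]
    infer_instance
  refine ⟨V, v, hv, μ ⁻¹ᵁ W, hWcl.preimage μ.continuous, (μ ∣_ W) ≫ h, ?_, ?_⟩
  · rw [← cancel_mono a.hom, Category.assoc, Category.assoc, Category.assoc, ← hμfst,
      ← Category.assoc (μ ⁻¹ᵁ W).ι, ← morphismRestrict_ι, Category.assoc, ← hh]
  · obtain ⟨w', hw'⟩ := (μ ∣_ W).surjective w
    refine ⟨w', ?_⟩
    show ((μ ∣_ W) ≫ h) w' = u
    rw [Scheme.Hom.comp_apply, hw']
    exact hw

theorem propAAt_affine {A B : Type u} [CommRing A] [CommRing B] [Algebra A B]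
    [Algebra.IsIntegral A B] {U : Scheme.{u}} (g : U ⟶ Spec (.of B)) [Etale g] (u : U) :
    PropAAt (Spec.map (CommRingCat.ofHom (algebraMap A B))) g u := by
  classical
  set f := Spec.map (CommRingCat.ofHom (algebraMap A B)) with hf
  obtain ⟨P, j, hj, w', hw'⟩ := exists_standardEtale_over_Spec g u
  obtain ⟨B₀, hB₀fin, hP₀⟩ := exists_finite_subalgebra A (fun _ : Unit => P)
  obtain ⟨P₀, hP₀⟩ := hP₀ ()
  obtain ⟨j', hj', hrange⟩ := transport_pair' g P (P₀.map (algebraMap B₀ B)) hP₀ j hj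
  obtain ⟨w'', hw''⟩ : u ∈ Set.range j' := by
    rw [hrange]; exact ⟨w', hw'⟩
  let f₀ : Spec (.of B₀) ⟶ Spec (.of A) := Spec.map (CommRingCat.ofHom (algebraMap A B₀))
  let π : Spec (.of B) ⟶ Spec (.of B₀) := Spec.map (CommRingCat.ofHom (algebraMap B₀ B))
  have hfπ : f = π ≫ f₀ := by
    rw [hf, ← Spec.map_comp]
    rfl
  have hf₀fin : IsFinite f₀ := (IsFinite.SpecMap_iff _).2 (RingHom.finite_algebraMap.2 hB₀fin)
  let g₀ : Spec (.of P₀.Ring) ⟶ Spec (.of B₀) :=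
    Spec.map (CommRingCat.ofHom (algebraMap B₀ P₀.Ring))
  have hg₀ : Etale g₀ :=
    (HasRingHomProperty.Spec_iff (P := @Etale)).mpr (RingHom.etale_algebraMap.mpr inferInstance)
  obtain ⟨m, hmiso, hm⟩ := exists_map_pullback (B := B) P₀
  let q : ↑(pullback π g₀) := (inv m) w''
  have hA : BigSite.PropA f₀ := FinSplit.propA_of_separated_lqf f₀
  obtain ⟨V, v, hv, W₀, hW₀cl, h₀, hh₀, w₀, hw₀⟩ := hA _ g₀ ((pullback.snd π g₀) q)
  let π₁ : pullback f v ⟶ pullback f₀ v :=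
    pullback.map f v f₀ v π (𝟙 _) (𝟙 _) (by rw [Category.comp_id, hfπ]) (by simp)
  have hπ₁fst : π₁ ≫ pullback.fst f₀ v = pullback.fst f v ≫ π := pullback.lift_fst _ _ _
  have sq1 : IsPullback (pullback.fst f v) π₁ π (pullback.fst f₀ v) :=
    isPullback_map_of_eq f π f₀ v hfπ
  let W : (pullback f v).Opens := π₁ ⁻¹ᵁ W₀
  have sq2 : IsPullback (π₁ ∣_ W₀) W.ι W₀.ι π₁ := isPullback_morphismRestrict π₁ W₀
  have sq3 : IsPullback (W.ι ≫ pullback.fst f v) (π₁ ∣_ W₀) π (W₀.ι ≫ pullback.fst f₀ v) :=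
    (sq2.paste_vert sq1.flip).flip
  have hr : (π₁ ∣_ W₀) ≫ W₀.ι = W.ι ≫ π₁ := morphismRestrict_ι π₁ W₀
  have hcompat : (W.ι ≫ pullback.fst f v) ≫ π = ((π₁ ∣_ W₀) ≫ h₀) ≫ g₀ := by
    rw [Category.assoc, Category.assoc, hh₀, ← Category.assoc (π₁ ∣_ W₀), hr, Category.assoc,
      hπ₁fst]
  let ℓ : (W : Scheme.{u}) ⟶ pullback π g₀ :=
    pullback.lift (W.ι ≫ pullback.fst f v) ((π₁ ∣_ W₀) ≫ h₀) hcompat
  have hℓfst : ℓ ≫ pullback.fst π g₀ = W.ι ≫ pullback.fst f v := pullback.lift_fst _ _ _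
  have hℓsnd : ℓ ≫ pullback.snd π g₀ = (π₁ ∣_ W₀) ≫ h₀ := pullback.lift_snd _ _ _
  have sqL : IsPullback ℓ (π₁ ∣_ W₀) (pullback.snd π g₀) h₀ := by
    refine IsPullback.of_right (h₁₂ := pullback.fst π g₀) (h₂₂ := g₀) (v₁₃ := π) ?_ hℓsnd
      (IsPullback.of_hasPullback π g₀)
    rw [hℓfst, hh₀]
    exact sq3
  obtain ⟨w, hw1, -⟩ := WT.exists_preimage_of_isPullback sqL q w₀ hw₀.symm
  refine ⟨V, v, hv, W, hW₀cl.preimage π₁.continuous, ℓ ≫ m ≫ j', ?_, w, ?_⟩
  · rw [Category.assoc, Category.assoc, hj', hm]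
    exact hℓfst
  · show (ℓ ≫ m ≫ j') w = u
    rw [Scheme.Hom.comp_apply, Scheme.Hom.comp_apply, hw1]
    have : m q = w'' := by
      show m ((inv m) w'') = w''
      rw [← Scheme.Hom.comp_apply, IsIso.inv_hom_id]
      rfl
    rw [this, hw'']

/-- Integral morphisms satisfy condition (A). -/
theorem propA_of_isIntegralHom {X Y : Scheme.{u}} (f : X ⟶ Y) [IsIntegralHom f] :
    BigSite.PropA f := by
  intro U g _ u
  suffices H : PropAAt f g u from H
  obtain ⟨Y₀, hY₀, hyY₀, -⟩ := exists_isAffineOpen_mem_and_subset (x := f (g u)) (U := ⊤) trivial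
  let j : Spec Γ(Y, Y₀) ⟶ Y := hY₀.fromSpec
  let y' : Spec Γ(Y, Y₀) := hY₀.primeIdealOf ⟨f (g u), hyY₀⟩
  have hjy : j y' = f (g u) := hY₀.fromSpec_primeIdealOf ⟨f (g u), hyY₀⟩
  obtain ⟨x', hx'1, -⟩ := Scheme.Pullback.exists_preimage_pullback (f := f) (g := j) (g u) y'
    hjy.symm
  obtain ⟨u', hu'1, -⟩ := Scheme.Pullback.exists_preimage_pullback (f := g)
    (g := pullback.fst f j) u x' hx'1.symm
  rw [← hu'1]
  apply propAAt_of_baseChange
  let f' : pullback f j ⟶ Spec Γ(Y, Y₀) := pullback.snd f j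
  let g' : pullback g (pullback.fst f j) ⟶ pullback f j := pullback.snd g (pullback.fst f j)
  have hf' : IsIntegralHom f' := inferInstance
  have hX' : IsAffine (pullback f j) := isAffine_of_isAffineHom f'
  let a : pullback f j ≅ Spec Γ(pullback f j, ⊤) := (pullback f j).isoSpec
  let ψ : Γ(Y, Y₀) ⟶ Γ(pullback f j, ⊤) := Spec.preimage (a.inv ≫ f')
  have hψ : Spec.map ψ = a.inv ≫ f' := Spec.map_preimage _
  apply propAAt_of_iso f' g' a (Spec.map ψ) (by rw [hψ, Iso.hom_inv_id_assoc]) u'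
  have hint : IsIntegralHom (Spec.map ψ) := by rw [hψ]; infer_instance
  have hψint : ψ.hom.IsIntegral := IsIntegralHom.SpecMap_iff.1 hint
  algebraize [ψ.hom]
  exact propAAt_affine (A := Γ(Y, Y₀)) (B := Γ(pullback f j, ⊤)) (g' ≫ a.hom) u'

end Groth.Agent.Lib.helper5.IntSplit
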