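import Mathlib
import Groth.Prelude.Def_BigSite
import Groth.Agent.Lib.Helper5.IntSplit
import Groth.Agent.Lib.Helper13.UR2

/-!
# Integral closed topological embeddings satisfy condition (C) (helper5)
-/

set_option autoImplicit false

namespace Groth.Agent.Lib.helper5.IntSplit

open AlgebraicGeometry CategoryTheory Limits

universe u

/-- Gluing morphisms along an open cover with pairwise disjoint members. -/
theorem exists_glue_of_disjoint {P U : Scheme.{u}} (𝒰 : P.OpenCover)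
    (hdisj : ∀ i j, i ≠ j → Disjoint (Set.range (𝒰.f i)) (Set.range (𝒰.f j)))
    (h : ∀ i, 𝒰.X i ⟶ U) : ∃ H : P ⟶ U, ∀ i, 𝒰.f i ≫ H = h i := by
  classical
  refine ⟨𝒰.glueMorphisms h ?_, fun i => 𝒰.ι_glueMorphisms h _ i⟩
  intro i j
  by_cases hij : i = j
  · subst hij
    rw [fst_eq_snd_of_mono_eq]
  · have : IsEmpty ↑(pullback (𝒰.f i) (𝒰.f j)) := by
      constructor
      intro p
      have h1 : (pullback.fst (𝒰.f i) (𝒰.f j) ≫ 𝒰.f i) p = (pullback.snd (𝒰.f i) (𝒰.f j) ≫ 𝒰.f j) p := by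
        rw [pullback.condition]
      exact (Set.disjoint_left.1 (hdisj i j hij)) ⟨_, rfl⟩ ⟨_, h1.symm⟩
    exact isInitialOfIsEmpty.hom_ext _ _

/-- Gluing maps `X ×_Y V_i ⟶ U` over a coproduct `∐ V_i`. -/
theorem exists_glue_sigma {X Y U : Scheme.{u}} (f : X ⟶ Y) (g : U ⟶ X) {ι : Type u}
    (V : ι → Scheme.{u}) (v : ∀ i, V i ⟶ Y) (h : ∀ i, pullback f (v i) ⟶ U)
    (hh : ∀ i, h i ≫ g = pullback.fst f (v i)) :
    ∃ H : pullback f (Sigma.desc v) ⟶ U, H ≫ g = pullback.fst f (Sigma.desc v) ∧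
      ∀ i, Set.range (h i) ⊆ Set.range H := by
  let 𝒰 := Scheme.Pullback.openCoverOfRight (sigmaOpenCover V) f (Sigma.desc v)
  have hι : ∀ i, Sigma.ι V i ≫ Sigma.desc v = v i := fun i => Sigma.ι_desc _ _
  let c : ∀ i, pullback f (Sigma.ι V i ≫ Sigma.desc v) ≅ pullback f (v i) := fun i =>
    pullback.congrHom rfl (hι i)
  have hcfst : ∀ i, (c i).hom ≫ pullback.fst f (v i) =
      pullback.fst f (Sigma.ι V i ≫ Sigma.desc v) := fun i =>
    (pullback.lift_fst _ _ _).trans (Category.comp_id _)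
  have h𝒰snd : ∀ i, 𝒰.f i ≫ pullback.snd f (Sigma.desc v) =
      pullback.snd f (Sigma.ι V i ≫ Sigma.desc v) ≫ Sigma.ι V i := fun i =>
    pullback.lift_snd _ _ _
  have h𝒰fst : ∀ i, 𝒰.f i ≫ pullback.fst f (Sigma.desc v) =
      pullback.fst f (Sigma.ι V i ≫ Sigma.desc v) := fun i =>
    (pullback.lift_fst _ _ _).trans (Category.comp_id _)
  have h𝒰f : ∀ i, 𝒰.f i = pullback.map f (Sigma.ι V i ≫ Sigma.desc v) f (Sigma.desc v) (𝟙 _)
      (Sigma.ι V i) (𝟙 _) (by simp) (Category.comp_id _) := fun i => rfl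
  have hdisj : ∀ i j, i ≠ j → Disjoint (Set.range (𝒰.f i)) (Set.range (𝒰.f j)) := by
    intro i j hij
    rw [Set.disjoint_left]
    rintro _ ⟨p, rfl⟩ ⟨q, hq⟩
    have h1 : (𝒰.f i ≫ pullback.snd f (Sigma.desc v)) p =
        (𝒰.f j ≫ pullback.snd f (Sigma.desc v)) q := by
      rw [Scheme.Hom.comp_apply, Scheme.Hom.comp_apply, hq]
    rw [h𝒰snd, h𝒰snd] at h1
    have h2 := disjoint_opensRange_sigmaι V i j hij
    rw [disjoint_iff, eq_bot_iff] at h2
    exact (h2 ⟨⟨_, rfl⟩, ⟨_, h1.symm⟩⟩).elim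
  obtain ⟨H, hH⟩ := exists_glue_of_disjoint 𝒰 hdisj (fun i => (c i).hom ≫ h i)
  refine ⟨H, ?_, ?_⟩
  · apply 𝒰.hom_ext
    intro i
    have e1 : 𝒰.f i ≫ H ≫ g = ((c i).hom ≫ h i) ≫ g := by
      rw [← Category.assoc]; exact congrArg (· ≫ g) (hH i)
    have e2 : ((c i).hom ≫ h i) ≫ g = pullback.fst f (Sigma.ι V i ≫ Sigma.desc v) := by
      rw [Category.assoc, hh i]; exact hcfst i
    exact e1.trans (e2.trans (h𝒰fst i).symm)
  · rintro i _ ⟨p, rfl⟩
    refine ⟨𝒰.f i ((c i).inv p), ?_⟩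
    have e1 : H (𝒰.f i ((c i).inv p)) = ((c i).hom ≫ h i) ((c i).inv p) := by
      have := congrArg (fun φ : 𝒰.X i ⟶ U => φ ((c i).inv p)) (hH i)
      exact this
    have e2 : (c i).hom ((c i).inv p) = p := by
      have := congrArg (fun φ : pullback f (v i) ⟶ pullback f (v i) => φ p) (c i).inv_hom_id
      exact this
    rw [e1, Scheme.Hom.comp_apply, e2]


open Groth.Agent.Lib.helper13 in
/-- The pointwise form of condition (C) for an integral morphism that is a topological embedding. -/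
theorem exists_pointwise_propC {X Y U : Scheme.{u}} (f : X ⟶ Y) [IsIntegralHom f]
    (hf : Topology.IsInducing f.base) (g : U ⟶ X) [Etale g] (u : U) :
    ∃ (V : Scheme.{u}) (v : V ⟶ Y) (_ : Etale v) (h : pullback f v ⟶ U),
      h ≫ g = pullback.fst f v ∧ u ∈ Set.range h := by
  classical
  have hlqf : LocallyQuasiFinite g := UR.locallyQuasiFinite_of_formallyUnramified g
  obtain ⟨s, hs, hsu⟩ := (isDiscrete_iff_forall_mem_exists_isOpen.1
    (g.isDiscrete_preimage_singleton (g u))) u rfl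
  let U' : U.Opens := ⟨s, hs⟩
  have hU'u : u ∈ U' := by
    have : u ∈ s ∩ g ⁻¹' {g u} := by rw [hsu]; rfl
    exact this.1
  have hU'uniq : ∀ w, w ∈ U' → g w = g u → w = u := by
    intro w hw hwu
    have : w ∈ s ∩ g ⁻¹' {g u} := ⟨hw, hwu⟩
    rw [hsu] at this
    exact this
  -- the image
  have hO : IsOpen (g '' s) := g.isOpenMap _ hs
  obtain ⟨t, ht, hts⟩ := hf.isOpen_iff.1 hO
  let V₀ : Y.Opens := ⟨t, ht⟩
  have hmem : ∀ x : X, f x ∈ V₀ ↔ x ∈ g '' s := by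
    intro x
    rw [← hts]
    rfl
  have hrange : Set.range (U'.ι ≫ g ≫ f) ⊆ Set.range V₀.ι := by
    rintro _ ⟨w, rfl⟩
    rw [Scheme.Opens.range_ι]
    exact (hmem _).2 ⟨w.1, w.2, rfl⟩
  let q : (U' : Scheme.{u}) ⟶ V₀ := IsOpenImmersion.lift V₀.ι (U'.ι ≫ g ≫ f) hrange
  have hq : q ≫ V₀.ι = U'.ι ≫ g ≫ f := IsOpenImmersion.lift_fac _ _ _
  let g' : (U' : Scheme.{u}) ⟶ pullback f V₀.ι :=
    pullback.lift (U'.ι ≫ g) q (by rw [Category.assoc, hq])
  have hg'fst : g' ≫ pullback.fst f V₀.ι = U'.ι ≫ g := pullback.lift_fst _ _ _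
  have hg'et : Etale g' := by
    have h3 : Etale (g' ≫ pullback.fst f V₀.ι) := by rw [hg'fst]; infer_instance
    exact MorphismProperty.of_postcomp (W := @Etale) (W' := @Etale) g' (pullback.fst f V₀.ι)
      inferInstance h3
  have hg'surj : ∀ x : ↥(pullback f V₀.ι), ∃ i : PUnit.{u+1}, x ∈ Set.range (g').base := by
    intro x
    refine ⟨PUnit.unit, ?_⟩
    have h1 : f (pullback.fst f V₀.ι x) ∈ V₀ := by
      rw [← Scheme.Hom.comp_apply, pullback.condition, Scheme.Hom.comp_apply]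
      exact (pullback.snd f V₀.ι x).2
    obtain ⟨w, hw, hwx⟩ := (hmem _).1 h1
    refine ⟨⟨w, hw⟩, ?_⟩
    apply (pullback.fst f V₀.ι).injective
    show (g' ≫ pullback.fst f V₀.ι) ⟨w, hw⟩ = _
    rw [hg'fst]
    exact hwx
  obtain ⟨κ, V', v', hv'et, hv'cov, hsplit⟩ := propB_of_isIntegralHom f V₀ V₀.ι PUnit.{u+1}
    (fun _ => U') (fun _ => g') (fun _ => hg'et) hg'surj
  -- choose the member through `f (g u)`
  have hfu : f (g u) ∈ V₀ := (hmem _).2 ⟨u, hU'u, rfl⟩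
  obtain ⟨j, y', hy'⟩ := hv'cov ⟨f (g u), hfu⟩
  have := hv'et j
  obtain ⟨μ, W, hWdisj, hWtop, hW⟩ := hsplit j
  choose i₀ h hh using hW
  refine ⟨V' j, v' j ≫ V₀.ι, inferInstance, ?_⟩
  let 𝒰 := (pullback f (v' j ≫ V₀.ι)).openCoverOfIsOpenCover W hWtop
  have hdisj : ∀ a b, a ≠ b → Disjoint (Set.range (𝒰.f a)) (Set.range (𝒰.f b)) := by
    intro a b hab
    show Disjoint (Set.range (W a).ι) (Set.range (W b).ι)
    rw [Scheme.Opens.range_ι, Scheme.Opens.range_ι]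
    have h1 := hWdisj a b hab
    rw [Set.disjoint_left]
    intro w hwa hwb
    have h2 : w ∈ W a ⊓ W b := ⟨hwa, hwb⟩
    rw [disjoint_iff.1 h1] at h2
    exact h2
  obtain ⟨H, hH⟩ := exists_glue_of_disjoint 𝒰 hdisj (fun a => h a ≫ U'.ι)
  have hHg : H ≫ g = pullback.fst f (v' j ≫ V₀.ι) := by
    apply 𝒰.hom_ext
    intro a
    have e1 : 𝒰.f a ≫ H ≫ g = (h a ≫ U'.ι) ≫ g := by
      rw [← Category.assoc]; exact congrArg (· ≫ g) (hH a)
    have e2 : (h a ≫ U'.ι) ≫ g = (h a ≫ g') ≫ pullback.fst f V₀.ι := by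
      rw [Category.assoc, Category.assoc, hg'fst]
    have e3 : (h a ≫ g') ≫ pullback.fst f V₀.ι = (W a).ι ≫ pullback.fst f (v' j ≫ V₀.ι) := by
      rw [hh a, Category.assoc, pullback.lift_fst, Category.comp_id]
    exact e1.trans (e2.trans e3)
  refine ⟨H, hHg, ?_⟩
  -- the point over `g u`
  obtain ⟨p, hp1, hp2⟩ := Scheme.Pullback.exists_preimage_pullback (f := f) (g := v' j ≫ V₀.ι)
    (g u) y' (by
      rw [Scheme.Hom.comp_apply]
      have := congrArg Subtype.val hy'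
      exact this.symm)
  refine ⟨p, ?_⟩
  have hpW : p ∈ ⨆ a, W a := by rw [hWtop]; trivial
  rw [TopologicalSpace.Opens.mem_iSup] at hpW
  obtain ⟨a, hpa⟩ := hpW
  have e1 : H p = (h a ≫ U'.ι) ⟨p, hpa⟩ := by
    have := congrArg (fun φ : (W a : Scheme.{u}) ⟶ U => φ ⟨p, hpa⟩) (hH a)
    exact this
  apply hU'uniq
  · rw [e1, Scheme.Hom.comp_apply]
    exact (h a ⟨p, hpa⟩).2
  · rw [← Scheme.Hom.comp_apply, hHg, hp1]

/-- Condition (C) for integral morphisms that are topological embeddings. -/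
theorem propC_of_isIntegralHom_of_isInducing {X Y : Scheme.{u}} (f : X ⟶ Y) [IsIntegralHom f]
    (hf : Topology.IsInducing f.base) : BigSite.PropC f := by
  intro U g _
  choose V v hv h hh hu using fun u : U => exists_pointwise_propC f hf g u
  obtain ⟨H, hH, hHr⟩ := exists_glue_sigma f g V v h hh
  refine ⟨∐ V, Sigma.desc v, ?_, H, hH, ?_⟩
  · exact IsZariskiLocalAtSource.sigmaDesc (P := @Etale) hv
  · constructor
    intro w
    exact hHr w (hu w)

end Groth.Agent.Lib.helper5.IntSplit
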