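import Mathlib
import Groth.Agent.Lib.Helper5.QFRefine3

/-!
# Descent of the Jacobson property along fppf ring maps (helper5)

* `exists_prime_maximally_disjoint` : a prime containing `I`, maximal among ideals disjoint from `S`.
* `isJacobsonRing_of_faithfullyFlat_quasiFinite` : `A → B` faithfully flat and quasi-finite, `B` Jacobson
  ⟹ `A` Jacobson (going down + no inclusions in quasi-finite fibres).
* `isJacobsonRing_of_faithfullyFlat_finitePresentation` (= S1147), via the quasi-finite refinement
  `QFRefine.main`.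
-/

set_option autoImplicit false
universe u

namespace Groth.Agent.Lib.helper5.JacobsonDescent

theorem exists_prime_maximally_disjoint {α : Type*} [CommRing α] (I : Ideal α) (S : Submonoid α)
    (disjoint : Disjoint (I : Set α) S) :
    ∃ p : Ideal α, p.IsPrime ∧ I ≤ p ∧ Disjoint (p : Set α) S ∧
      ∀ J : Ideal α, p < J → ¬ Disjoint (J : Set α) S := by
  have ⟨p, hIp, hp⟩ := zorn_le_nonempty₀ {p : Ideal α | Disjoint (p : Set α) S}
    (fun c hc hc' x hx ↦ ?_) I disjoint
  · exact ⟨p, Ideal.isPrime_of_maximally_disjoint _ _ hp.1 (fun _ ↦ hp.not_prop_of_gt), hIp, hp.1,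
      fun _ ↦ hp.not_prop_of_gt⟩
  cases isEmpty_or_nonempty c
  · exact ⟨I, disjoint, fun J hJ ↦ isEmptyElim (⟨J, hJ⟩ : c)⟩
  refine ⟨sSup c, Set.disjoint_left.mpr fun x hx ↦ ?_, fun _ ↦ le_sSup⟩
  have ⟨p, hp⟩ := (Submodule.mem_iSup_of_directed _ hc'.directed).mp (sSup_eq_iSup' c ▸ hx)
  exact Set.disjoint_left.mp (hc p.2) hp

/-- **Descent of the Jacobson property along faithfully flat quasi-finite ring maps.** -/
theorem isJacobsonRing_of_faithfullyFlat_quasiFinite (A B : Type*) [CommRing A] [CommRing B]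
    [Algebra A B] [Module.FaithfullyFlat A B] [Algebra.QuasiFinite A B] [IsJacobsonRing B] :
    IsJacobsonRing A := by
  rw [isJacobsonRing_iff_prime_eq]
  intro P hP
  refine le_antisymm ?_ Ideal.le_jacobson
  intro x hx
  by_contra hxP
  -- a prime `p ⊇ P` maximal among ideals avoiding the powers of `x`
  have hdisj : Disjoint (P : Set A) (Submonoid.powers x) := by
    rw [Set.disjoint_right]
    rintro _ ⟨n, rfl⟩ hn
    exact hxP (hP.mem_of_pow_mem n hn)
  obtain ⟨p, hp, hPp, hpx, hpmax⟩ := exists_prime_maximally_disjoint P (Submonoid.powers x) hdisj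
  have hxp : x ∉ p := fun h => Set.disjoint_left.mp hpx h (Submonoid.mem_powers x)
  -- primes containing `p` and avoiding `x` are equal to `p`
  have hkey : ∀ p₁ : Ideal A, p₁.IsPrime → p ≤ p₁ → x ∉ p₁ → p₁ = p := by
    intro p₁ hp₁ hle hx₁
    by_contra hne
    have hlt : p < p₁ := lt_of_le_of_ne hle (Ne.symm hne)
    apply hpmax p₁ hlt
    rw [Set.disjoint_right]
    rintro _ ⟨n, rfl⟩ hn
    exact hx₁ (hp₁.mem_of_pow_mem n hn)
  -- `p` is maximal
  have hpM : p.IsMaximal := by
    obtain ⟨m, hm, hpm⟩ := Ideal.exists_le_maximal p hp.ne_top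
    by_contra hnot
    have hne : m ≠ p := fun h => hnot (h ▸ hm)
    haveI := hm.isPrime
    obtain ⟨n'', hn''⟩ := PrimeSpectrum.comap_surjective_of_faithfullyFlat (A := A) (B := B)
      ⟨m, hm.isPrime⟩
    haveI : n''.asIdeal.LiesOver m := ⟨(congrArg PrimeSpectrum.asIdeal hn'').symm⟩
    obtain ⟨n', hle, hn'prime, hn'over⟩ :=
      Ideal.exists_ideal_le_liesOver_of_le (p := p) (q := m) n''.asIdeal hpm
    -- a maximal ideal `N ⊇ n'` avoiding `x`
    have hxn' : algebraMap A B x ∉ n' := by
      intro h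
      apply hxp
      rw [hn'over.over]
      exact h
    have hJ : n'.jacobson = n' := (isJacobsonRing_iff_prime_eq.mp inferInstance) n' hn'prime
    have : ∃ N : Ideal B, N.IsMaximal ∧ n' ≤ N ∧ algebraMap A B x ∉ N := by
      by_contra hcon
      push Not at hcon
      apply hxn'
      rw [← hJ, Ideal.jacobson, Ideal.mem_sInf]
      rintro N ⟨hN1, hN2⟩
      exact hcon N hN2 hN1
    obtain ⟨N, hNmax, hn'N, hxN⟩ := this
    haveI := hNmax.isPrime
    have hNp : N.under A = p := by
      apply hkey _ inferInstance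
      · rw [hn'over.over]
        exact Ideal.comap_mono hn'N
      · exact hxN
    have hn'N' : n' = N :=
      Algebra.QuasiFinite.eq_of_le_of_under_eq (R := A) n' N hn'N (by rw [hNp]; exact hn'over.over.symm)
    have hNn'' : N = n''.asIdeal := hNmax.eq_of_le n''.2.ne_top (hn'N' ▸ hle)
    apply hne
    have h1 : m = n''.asIdeal.under A := (congrArg PrimeSpectrum.asIdeal hn'').symm
    rw [h1, ← hNn'', hNp]
  -- contradiction
  have : x ∈ p := by
    rw [Ideal.jacobson, Ideal.mem_sInf] at hx
    exact hx ⟨hPp, hpM⟩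
  exact hxp this

/-- **Descent of the Jacobson property along fppf ring maps** (= S1147). -/
theorem isJacobsonRing_of_faithfullyFlat_finitePresentation (A B : Type u) [CommRing A]
    [CommRing B] [Algebra A B] [Module.FaithfullyFlat A B] [Algebra.FinitePresentation A B]
    [IsJacobsonRing B] : IsJacobsonRing A := by
  obtain ⟨B', _, _, hqf, hft, hff, -, ⟨ψ⟩⟩ := Groth.Agent.Lib.helper5.QFRefine.main A B
  letI : Algebra B B' := ψ.toRingHom.toAlgebra
  haveI : IsScalarTower A B B' := IsScalarTower.of_algebraMap_eq (fun a => (ψ.commutes a).symm)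
  haveI : Algebra.FiniteType B B' := Algebra.FiniteType.of_restrictScalars_finiteType A B B'
  haveI : IsJacobsonRing B' := isJacobsonRing_of_finiteType (A := B)
  exact isJacobsonRing_of_faithfullyFlat_quasiFinite A B'

end Groth.Agent.Lib.helper5.JacobsonDescent
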