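import Mathlib
import Groth.Agent.Lib.Helper3.FTFieldClosureDim
import Groth.Agent.Lib.Helper3.FTFieldLocalDim
import Groth.Agent.Lib.Helper3.TopDim
import Groth.Agent.Lib.Helper3.DimIneqSch
import Groth.Agent.Lib.Helper3.FTFieldDim
import Groth.Agent.Lib.Helper3.FibreField

/-!
# Krull's height theorem for components of zero loci in schemes of finite type over a field (helper5)

* `height_map_le_of_minimal` : ring form: if `p` is minimal among the primes containing `q` and
  `f₁, …, f_c`, then the height of `p/q` in `A/q` is at most `c`.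
* `dim_closure_inter_open` : `dim (cl{ξ} ∩ O) = trdeg κ(ξ)` for `O` open containing `ξ`.
* `trdeg_add_length_ge` : for `η ⤳ ξ` in an affine open `V`, `ξ` maximal among the points of
  `cl{η} ∩ V(f₁..f_c)` specializing to it: `trdeg κ(η) ≤ trdeg κ(ξ) + c`.
-/

set_option autoImplicit false
universe u
open CategoryTheory AlgebraicGeometry Function

namespace Groth.Agent.Lib.helper5.KrullComp

theorem height_map_le_of_minimal {A : Type u} [CommRing A] [IsNoetherianRing A] (q p : Ideal A)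
    [q.IsPrime] [p.IsPrime] (fs : List A) (hqp : q ≤ p) (hf : ∀ f ∈ fs, f ∈ p)
    (hmin : ∀ p' : Ideal A, p'.IsPrime → q ≤ p' → (∀ f ∈ fs, f ∈ p') → p' ≤ p → p' = p) :
    (p.map (Ideal.Quotient.mk q)).height ≤ (fs.length : ℕ∞) := by
  classical
  have hsurj : Surjective (Ideal.Quotient.mk q) := Ideal.Quotient.mk_surjective
  have hker : RingHom.ker (Ideal.Quotient.mk q) ≤ p := by rw [Ideal.mk_ker]; exact hqp
  haveI hpbar : (p.map (Ideal.Quotient.mk q)).IsPrime :=
    Ideal.map_isPrime_of_surjective hsurj hker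
  have hcomap : (p.map (Ideal.Quotient.mk q)).comap (Ideal.Quotient.mk q) = p :=
    Ideal.comap_map_of_surjective' _ hsurj p |>.trans (sup_eq_left.mpr hker)
  set s : Finset (A ⧸ q) := (fs.map (Ideal.Quotient.mk q)).toFinset with hs
  have hmem : p.map (Ideal.Quotient.mk q) ∈ (Ideal.span (s : Set (A ⧸ q))).minimalPrimes := by
    refine ⟨⟨hpbar, ?_⟩, ?_⟩
    · rw [Ideal.span_le]
      intro x hx
      rw [hs, Finset.mem_coe, List.mem_toFinset, List.mem_map] at hx
      obtain ⟨f, hf', rfl⟩ := hx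
      exact Ideal.mem_map_of_mem _ (hf f hf')
    · rintro J ⟨hJp, hJ⟩ hJle
      haveI := hJp
      have h1 : J.comap (Ideal.Quotient.mk q) = p := by
        apply hmin _ (Ideal.comap_isPrime _ _)
        · intro a ha
          rw [Ideal.mem_comap, Ideal.Quotient.eq_zero_iff_mem.mpr ha]
          exact J.zero_mem
        · intro f hf'
          rw [Ideal.mem_comap]
          apply hJ
          apply Ideal.subset_span
          rw [hs, Finset.mem_coe, List.mem_toFinset, List.mem_map]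
          exact ⟨f, hf', rfl⟩
        · rw [← hcomap]
          exact Ideal.comap_mono hJle
      rw [← h1, Ideal.map_comap_of_surjective _ hsurj]
  refine le_trans (Ideal.height_le_card_of_mem_minimalPrimes_span_finset hmem) ?_
  have : s.card ≤ fs.length := by
    rw [hs]
    exact (List.toFinset_card_le _).trans (by rw [List.length_map])
  exact_mod_cast this

open Groth.Agent.Lib.helper3.DimIneq Groth.Agent.Lib.helper3.FTField

theorem mem_primeIdealOf_iff {X : Scheme.{u}} {V : X.Opens} (hV : IsAffineOpen V) (x : X)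
    (hx : x ∈ V) (f : Γ(X, V)) :
    f ∈ (hV.primeIdealOf ⟨x, hx⟩).asIdeal ↔ x ∉ X.basicOpen f := by
  rw [← ker_evaluation hV x hx, RingHom.mem_ker]
  change (X.evaluation V x hx) f = 0 ↔ _
  rw [Scheme.evaluation_eq_zero_iff_notMem_basicOpen]

section

variable (k : Type u) [Field k] (X : Scheme.{u}) [X.Over (Spec (CommRingCat.of k))]
  [LocallyOfFiniteType (X ↘ Spec (CommRingCat.of k))]

/-- Krull's height theorem, geometric form. -/
theorem trdeg_le_trdeg_add_length {V : X.Opens} (hV : IsAffineOpen V) (η ξ : X) (hη : η ∈ V)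
    (hξ : ξ ∈ V) (hηξ : η ⤳ ξ) (fs : List Γ(X, V)) (hf : ∀ f ∈ fs, ξ ∉ X.basicOpen f)
    (hmax : ∀ ζ : X, ζ ∈ V → η ⤳ ζ → ζ ⤳ ξ → (∀ f ∈ fs, ζ ∉ X.basicOpen f) → ζ = ξ)
    (n m : ℕ) (hn : @Algebra.trdeg k (X.residueField η) _ _ (Curv2.resAlgebra k X η) = n)
    (hm : @Algebra.trdeg k (X.residueField ξ) _ _ (Curv2.resAlgebra k X ξ) = m) :
    n ≤ m + fs.length := by
  classical
  haveI := isNoetherianRing_of_isAffineOpen k X hV
  have hqp : (hV.primeIdealOf ⟨η, hη⟩).asIdeal ≤ (hV.primeIdealOf ⟨ξ, hξ⟩).asIdeal :=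
    (specializes_iff_primeIdealOf_le hV η ξ hη hξ).1 hηξ
  have hK := height_map_le_of_minimal (hV.primeIdealOf ⟨η, hη⟩).asIdeal
    (hV.primeIdealOf ⟨ξ, hξ⟩).asIdeal fs hqp
    (fun f hf' => (mem_primeIdealOf_iff hV ξ hξ f).2 (hf f hf')) (by
      intro p' hp' hqp' hfp' hp'p
      haveI := hp'
      obtain ⟨ζ, hζV, hζ⟩ := exists_point_of_prime hV p'
      have h1 : η ⤳ ζ := (specializes_iff_primeIdealOf_le hV η ζ hη hζV).2 (by rw [hζ]; exact hqp')
      have h2 : ζ ⤳ ξ := (specializes_iff_primeIdealOf_le hV ζ ξ hζV hξ).2 (by rw [hζ]; exact hp'p)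
      have h3 : ∀ f ∈ fs, ζ ∉ X.basicOpen f := fun f hf' =>
        (mem_primeIdealOf_iff hV ζ hζV f).1 (by rw [hζ]; exact hfp' f hf')
      have := hmax ζ hζV h1 h2 h3
      subst this
      exact hζ.symm)
  have key := height_map_add_trdeg_residueField k X hV η ξ hη hξ hqp
  obtain ⟨h₀, hh₀⟩ : ∃ h₀ : ℕ, ((hV.primeIdealOf ⟨ξ, hξ⟩).asIdeal.map
      (Ideal.Quotient.mk (hV.primeIdealOf ⟨η, hη⟩).asIdeal)).height = (h₀ : ℕ∞) :=
    ENat.ne_top_iff_exists.mp (ne_top_of_le_ne_top (ENat.natCast_ne_top _) hK) |>.imp fun _ h => h.symm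
  rw [hh₀] at hK key
  rw [hn, hm] at key
  have h1 : h₀ ≤ fs.length := by exact_mod_cast hK
  have h2 : h₀ + m = n := by
    have : ((h₀ + m : ℕ) : Cardinal.{u}) = (n : Cardinal.{u}) := by
      rw [← key]
      push_cast
      rfl
    exact_mod_cast this
  omega

/-- `dim (cl{ξ} ∩ O) = trdeg κ(ξ)` for an open `O ∋ ξ`. -/
theorem dim_closure_inter_open (ξ : X) (O : X.Opens) (hξ : ξ ∈ O) (n : ℕ)
    (hn : @Algebra.trdeg k (X.residueField ξ) _ _ (Curv2.resAlgebra k X ξ) = n) :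
    topologicalKrullDim ↥(closure ({ξ} : Set X) ∩ (O : Set X)) = (n : WithBot ℕ∞) := by
  apply le_antisymm
  · rw [← dim_closure_eq_trdeg k X ξ n hn]
    exact Groth.Agent.Lib.helper3.TopDim.dim_mono Set.inter_subset_left
  · letI : (O : Scheme.{u}).Over (Spec (CommRingCat.of k)) :=
      ⟨O.ι ≫ (X ↘ Spec (CommRingCat.of k))⟩
    haveI : LocallyOfFiniteType ((O : Scheme.{u}) ↘ Spec (CommRingCat.of k)) :=
      inferInstanceAs (LocallyOfFiniteType (O.ι ≫ (X ↘ Spec (CommRingCat.of k))))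
    have hn' : @Algebra.trdeg k ((O : Scheme.{u}).residueField ⟨ξ, hξ⟩) _ _
        (Curv2.resAlgebra k (O : Scheme.{u}) ⟨ξ, hξ⟩) = n := by
      change td (Curv2.resMap k (O : Scheme.{u}) ⟨ξ, hξ⟩) = n
      rw [resMap_comp k (X ↘ Spec (CommRingCat.of k)) (O.ι ≫ (X ↘ Spec (CommRingCat.of k)))
        O.ι rfl ⟨ξ, hξ⟩]
      rw [Groth.Agent.Lib.helper3.FibreField.td_comp_right _ _
        (Groth.Agent.Lib.helper3.FibreField.residueFieldMap_surjective _ _)]
      exact hn
    rw [← dim_closure_eq_trdeg k (O : Scheme.{u}) ⟨ξ, hξ⟩ n hn']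
    refine Groth.Agent.Lib.helper3.TopDim.dim_le_of_range_subset
      (f := fun z : ↥(closure ({(⟨ξ, hξ⟩ : ↥O)} : Set ↥O)) => O.ι z.1)
      (g := (Subtype.val : ↥(closure ({ξ} : Set X) ∩ (O : Set X)) → X))
      (O.ι.isOpenEmbedding.isInducing.comp Topology.IsInducing.subtypeVal) Topology.IsInducing.subtypeVal ?_
    rintro _ ⟨z, rfl⟩
    rw [Subtype.range_coe]
    refine ⟨?_, z.1.2⟩
    have h1 := image_closure_subset_closure_image O.ι.continuous
      (s := ({(⟨ξ, hξ⟩ : ↥O)} : Set ↥O)) ⟨z.1, z.2, rfl⟩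
    rwa [Set.image_singleton] at h1

end

end Groth.Agent.Lib.helper5.KrullComp
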