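import Mathlib
import Groth.Agent.S7383
import Groth.Agent.S0591
import Groth.Agent.S9192
import Groth.Agent.S2581
import Groth.Agent.S9186

/-!
# Finitely presented affine approximation of an affine scheme over a quasi-separated base (helper5)

* `exists_compact_open_factor`: a morphism from a quasi-compact scheme factors through a quasi-compact open.
* `exists_affine_fp_system`: an affine scheme `T` over a quasi-separated scheme `S` is a cofiltered limit (in schemes) of
  affine schemes of finite presentation over `S`, compatibly with the maps to `S`.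
-/

set_option autoImplicit false
universe u
open CategoryTheory CategoryTheory.Limits AlgebraicGeometry

namespace Groth.Agent.Lib.helper5.LimAff

theorem exists_compact_open_factor {S T : Scheme.{u}} [CompactSpace T] (f : T ⟶ S) :
    ∃ (S' : S.Opens), IsCompact (S' : Set S) ∧ ∃ f' : T ⟶ S'.toScheme, f' ≫ S'.ι = f := by
  have hK : IsCompact (Set.range f) := isCompact_range f.continuous
  obtain ⟨W, hWc, hWo, hKW, -⟩ :=
    PrespectralSpace.exists_isCompact_and_isOpen_between hK isOpen_univ (Set.subset_univ _)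
  refine ⟨⟨W, hWo⟩, hWc, ?_⟩
  have hr : Set.range f ⊆ Set.range (Scheme.Opens.ι (⟨W, hWo⟩ : S.Opens)) := by
    rw [Scheme.Opens.range_ι]
    exact hKW
  exact ⟨IsOpenImmersion.lift (Scheme.Opens.ι (⟨W, hWo⟩ : S.Opens)) f hr,
    IsOpenImmersion.lift_fac _ _ _⟩

section stage

variable {I : Type u} [SmallCategory I] (K : I ⥤ Scheme.{u}) {i₀ : I} {X₀ : Scheme.{u}}
  (f₀ : X₀ ⟶ K.obj i₀)

/-- From the general form of the scheme-level descent rows to the canonical base change. -/
theorem stage_canonical (P : MorphismProperty Scheme.{u}) [P.RespectsIso]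
    (h : ∃ (i : I) (φ : i ⟶ i₀) (Xi Yi : Scheme.{u}) (fi : Xi ⟶ Yi) (gi : Yi ⟶ K.obj i)
      (pY : Yi ⟶ K.obj i₀) (pX : Xi ⟶ X₀),
      IsPullback pY gi (𝟙 (K.obj i₀)) (K.map φ) ∧ IsPullback pX fi f₀ pY ∧ P fi) :
    ∃ (i : I) (φ : i ⟶ i₀), P (pullback.snd f₀ (K.map φ)) := by
  obtain ⟨i, φ, Xi, Yi, fi, gi, pY, pX, h1, h2, h3⟩ := h
  haveI : IsIso gi := h1.isIso_snd_of_isIso
  have sq : IsPullback pX (fi ≫ gi) f₀ (K.map φ) := by
    have := h2.paste_vert h1
    rwa [Category.comp_id] at this
  have hP : P (fi ≫ gi) := (P.cancel_right_of_respectsIso fi gi).2 h3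
  refine ⟨i, φ, ?_⟩
  have e := (IsPullback.of_hasPullback f₀ (K.map φ)).isoIsPullback _ _ sq
  have he : ((IsPullback.of_hasPullback f₀ (K.map φ)).isoIsPullback _ _ sq).hom ≫ (fi ≫ gi) =
      pullback.snd f₀ (K.map φ) := IsPullback.isoIsPullback_hom_snd _ _ _ _
  rw [← he]
  exact (P.cancel_left_of_respectsIso _ _).2 hP

/-- Monotonicity of the canonical base changes. -/
theorem stage_mono' (P : MorphismProperty Scheme.{u}) [P.IsStableUnderBaseChange]
    {i j : I} (φ : i ⟶ i₀) (ψ : j ⟶ i) (h : P (pullback.snd f₀ (K.map φ))) :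
    P (pullback.snd f₀ (K.map (ψ ≫ φ))) := by
  have hc : pullback.fst f₀ (K.map (ψ ≫ φ)) ≫ f₀ =
      (pullback.snd f₀ (K.map (ψ ≫ φ)) ≫ K.map ψ) ≫ K.map φ := by
    rw [Category.assoc, ← K.map_comp]; exact pullback.condition
  have sq' : IsPullback (pullback.lift _ _ hc) (pullback.snd f₀ (K.map (ψ ≫ φ)))
      (pullback.snd f₀ (K.map φ)) (K.map ψ) := by
    refine IsPullback.of_right ?_ (pullback.lift_snd _ _ hc) (IsPullback.of_hasPullback f₀ (K.map φ))
    rw [pullback.lift_fst, ← K.map_comp]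
    exact IsPullback.of_hasPullback f₀ (K.map (ψ ≫ φ))
  exact MorphismProperty.of_isPullback sq' h

end stage

end Groth.Agent.Lib.helper5.LimAff
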