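import Mathlib
import Groth.Agent.Lib.Helper5.LimAffA

/-!
# Descending an étale cover of an affine scheme to a finitely presented affine approximation (helper5)

`exists_approx`: for an affine scheme `T` over a quasi-separated scheme `S` and an étale surjective morphism `w : W ⟶ T`
from an affine scheme, there are an affine scheme `Z` locally of finite presentation over `S`, a morphism `q : T ⟶ Z`
over `S`, and an étale surjective morphism `v : V ⟶ Z` from an affine scheme whose base change along `q` is `w`.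
-/

set_option autoImplicit false
universe u
open CategoryTheory CategoryTheory.Limits AlgebraicGeometry

namespace Groth.Agent.Lib.helper5.LimAff

theorem exists_approx {S : Scheme.{u}} [QuasiSeparatedSpace S] {T W : Scheme.{u}} [IsAffine T]
    [IsAffine W] (t : T ⟶ S) (w : W ⟶ T) [Etale w] [Surjective w] :
    ∃ (Z V : Scheme.{u}) (z : Z ⟶ S) (q : T ⟶ Z) (v : V ⟶ Z) (β : W ⟶ V),
      IsAffine Z ∧ IsAffine V ∧ LocallyOfFinitePresentation z ∧ q ≫ z = t ∧ Etale v ∧ Surjective v ∧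
      IsPullback β w v q := by
  -- a quasi-compact open of `S` through which `t` factors
  obtain ⟨S', hS'c, t', ht'⟩ := exists_compact_open_factor t
  haveI : CompactSpace S'.toScheme := isCompact_iff_compactSpace.mp hS'c
  haveI : QuasiSeparatedSpace S'.toScheme :=
    QuasiSeparatedSpace.of_isOpenEmbedding S'.ι.isOpenEmbedding
  -- the approximation
  obtain ⟨J, _, _, _, D, c, hc, hprops, haff, ⟨e⟩⟩ := Groth.Agent.S7383.result t'
  haveI : IsCofiltered Jᵒᵖ := inferInstance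
  haveI : IsConnected Jᵒᵖ := IsCofiltered.isConnected _
  obtain ⟨cK, eT, ⟨hcK⟩, hfac⟩ : ∃ (cK : Cone (D ⋙ Over.forget S'.toScheme)) (eT : cK.pt ≅ T),
      Nonempty (IsLimit cK) ∧ ∀ μ, eT.inv ≫ cK.π.app μ ≫ (D.obj μ).hom = t' := by
    refine ⟨(Over.forget S'.toScheme).mapCone c, (Over.forget S'.toScheme).mapIso e,
      ⟨isLimitOfPreserves (Over.forget S'.toScheme) hc⟩, fun μ => ?_⟩
    have h1 : (c.π.app μ).left ≫ (D.obj μ).hom = c.pt.hom := Over.w (c.π.app μ)
    have h2 : e.inv.left ≫ c.pt.hom = t' := Over.w e.inv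
    show e.inv.left ≫ (c.π.app μ).left ≫ (D.obj μ).hom = t'
    rw [h1, h2]
  haveI hKaff : ∀ (i j : Jᵒᵖ) (f : i ⟶ j), IsAffineHom ((D ⋙ Over.forget S'.toScheme).map f) :=
    fun i j f => haff i j f
  haveI hKc : ∀ i, CompactSpace ((D ⋙ Over.forget S'.toScheme).obj i) := fun i => by
    have h : QuasiCompact (D.obj i).hom := (hprops i).2.1
    exact @QuasiCompact.compactSpace_of_compactSpace _ _ (D.obj i).hom h
      (inferInstanceAs (CompactSpace S'.toScheme))
  haveI hKqs : ∀ i, QuasiSeparatedSpace ((D ⋙ Over.forget S'.toScheme).obj i) := fun i => by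
    have h : QuasiSeparated (D.obj i).hom := (hprops i).2.2
    exact @quasiSeparatedSpace_of_quasiSeparated _ _ (D.obj i).hom
      (inferInstanceAs (QuasiSeparatedSpace S'.toScheme)) h
  -- the limit is `T`
  haveI : IsAffine cK.pt := IsAffine.of_isIso eT.hom
  obtain ⟨μ₀, hμ₀⟩ := Scheme.exists_isAffine_of_isLimit (D ⋙ Over.forget S'.toScheme) cK hcK
  -- descend `w`
  obtain ⟨f, hf⟩ : ∃ f : W ⟶ cK.pt, f = w ≫ eT.inv := ⟨_, rfl⟩
  haveI : Etale f := by rw [hf]; infer_instance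
  haveI : Surjective f := by rw [hf]; infer_instance
  haveI : IsAffineHom f := by rw [hf]; infer_instance
  obtain ⟨μ₁, W₁, f₁, g, hlfp, hqc, hqs, sq⟩ :=
    Groth.Agent.S0591.result (D ⋙ Over.forget S'.toScheme) cK hcK W f
  haveI := hlfp
  haveI := hqc
  haveI := hqs
  haveI : CompactSpace W₁ := QuasiCompact.compactSpace_of_compactSpace f₁
  haveI : QuasiSeparatedSpace W₁ := quasiSeparatedSpace_of_quasiSeparated f₁
  have hY : IsPullback (cK.π.app μ₁) (𝟙 cK.pt) (𝟙 ((D ⋙ Over.forget S'.toScheme).obj μ₁))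
      (cK.π.app μ₁) := IsPullback.of_id_snd
  -- descend étaleness, surjectivity and affineness of `f` to a stage
  obtain ⟨ia, φa, hEt⟩ := stage_canonical (D ⋙ Over.forget S'.toScheme) f₁ @Etale
    (Groth.Agent.S9192.result (D ⋙ Over.forget S'.toScheme) cK hcK μ₁ f₁ (𝟙 _) f (𝟙 _)
      (cK.π.app μ₁) g hY sq)
  obtain ⟨ib, φb, hSurj⟩ := stage_canonical (D ⋙ Over.forget S'.toScheme) f₁ @Surjective
    (Groth.Agent.S2581.result (D ⋙ Over.forget S'.toScheme) cK hcK μ₁ f₁ (𝟙 _) f (𝟙 _)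
      (cK.π.app μ₁) g hY sq)
  obtain ⟨ic, φc, hAff⟩ := stage_canonical (D ⋙ Over.forget S'.toScheme) f₁ @IsAffineHom
    (Groth.Agent.S9186.result (D ⋙ Over.forget S'.toScheme) cK hcK μ₁ f₁ (𝟙 _) f (𝟙 _)
      (cK.π.app μ₁) g hY sq)
  -- a common index
  obtain ⟨μ, ψa, ψb, ψc, ψ₀⟩ : ∃ (μ : Jᵒᵖ), Nonempty (μ ⟶ ia) ∧ Nonempty (μ ⟶ ib) ∧
      Nonempty (μ ⟶ ic) ∧ Nonempty (μ ⟶ μ₀) := by
    refine ⟨IsCofiltered.min (IsCofiltered.min (IsCofiltered.min ia ib) ic) μ₀,
      ⟨IsCofiltered.minToLeft _ _ ≫ IsCofiltered.minToLeft _ _ ≫ IsCofiltered.minToLeft _ _⟩,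
      ⟨IsCofiltered.minToLeft _ _ ≫ IsCofiltered.minToLeft _ _ ≫ IsCofiltered.minToRight _ _⟩,
      ⟨IsCofiltered.minToLeft _ _ ≫ IsCofiltered.minToRight _ _⟩,
      ⟨IsCofiltered.minToRight _ _⟩⟩
  obtain ⟨ψa⟩ := ψa
  obtain ⟨ψb⟩ := ψb
  obtain ⟨ψc⟩ := ψc
  obtain ⟨ψ₀⟩ := ψ₀
  obtain ⟨φ, hφ⟩ : ∃ φ : μ ⟶ μ₁, φ = ψa ≫ φa := ⟨_, rfl⟩
  have hφb : φ = ψb ≫ φb := Subsingleton.elim _ _
  have hφc : φ = ψc ≫ φc := Subsingleton.elim _ _
  haveI hEt' : Etale (pullback.snd f₁ ((D ⋙ Over.forget S'.toScheme).map φ)) := by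
    rw [hφ]; exact stage_mono' _ f₁ @Etale φa ψa hEt
  haveI hSurj' : Surjective (pullback.snd f₁ ((D ⋙ Over.forget S'.toScheme).map φ)) := by
    rw [hφb]; exact stage_mono' _ f₁ @Surjective φb ψb hSurj
  haveI hAff' : IsAffineHom (pullback.snd f₁ ((D ⋙ Over.forget S'.toScheme).map φ)) := by
    rw [hφc]; exact stage_mono' _ f₁ @IsAffineHom φc ψc hAff
  haveI hZaff : IsAffine ((D ⋙ Over.forget S'.toScheme).obj μ) :=
    isAffine_of_isAffineHom ((D ⋙ Over.forget S'.toScheme).map ψ₀)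
  haveI hVaff : IsAffine (pullback f₁ ((D ⋙ Over.forget S'.toScheme).map φ)) :=
    isAffine_of_isAffineHom (pullback.snd f₁ ((D ⋙ Over.forget S'.toScheme).map φ))
  have hcomm : g ≫ f₁ = (f ≫ cK.π.app μ) ≫ (D ⋙ Over.forget S'.toScheme).map φ := by
    rw [Category.assoc, cK.w φ]; exact sq.w
  have hlfpz : LocallyOfFinitePresentation ((D.obj μ).hom ≫ S'.ι) := by
    haveI : LocallyOfFinitePresentation (D.obj μ).hom := (hprops μ).1
    infer_instance
  refine ⟨(D ⋙ Over.forget S'.toScheme).obj μ, pullback f₁ ((D ⋙ Over.forget S'.toScheme).map φ),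
    (D.obj μ).hom ≫ S'.ι, eT.inv ≫ cK.π.app μ,
    pullback.snd f₁ ((D ⋙ Over.forget S'.toScheme).map φ),
    pullback.lift g (f ≫ cK.π.app μ) hcomm, hZaff, hVaff, hlfpz, ?_, hEt', hSurj', ?_⟩
  · rw [← ht', ← hfac μ]
    simp only [Category.assoc]
  · have hbig : IsPullback (pullback.lift g (f ≫ cK.π.app μ) hcomm ≫ pullback.fst f₁ _) f f₁
        (cK.π.app μ ≫ (D ⋙ Over.forget S'.toScheme).map φ) := by
      rw [pullback.lift_fst, cK.w φ]; exact sq
    have hleft : IsPullback (pullback.lift g (f ≫ cK.π.app μ) hcomm) f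
        (pullback.snd f₁ ((D ⋙ Over.forget S'.toScheme).map φ)) (cK.π.app μ) :=
      IsPullback.of_right hbig (pullback.lift_snd _ _ hcomm) (IsPullback.of_hasPullback f₁ _)
    refine IsPullback.of_iso hleft (Iso.refl _) (Iso.refl _) eT (Iso.refl _) ?_ ?_ ?_ ?_
    · simp
    · rw [hf]; simp
    · simp
    · simp

end Groth.Agent.Lib.helper5.LimAff
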