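import Groth.Prelude
import Groth.Agent.Lib.Helper5.LimSpC

/-!
# Morphisms between representing schemes of pullback squares, and kernel pairs of charts (helper5)

* `exists_map_of_isPullback`, `map_ext_of_isPullback`: for two pullback squares `P = A ×_B h_Z`, `P' = A ×_B h_{Z'}` represented
  by schemes and a morphism `r : Z' ⟶ Z` compatible with the maps to `B`, the induced morphism `P' ⟶ P`, and its uniqueness.
* `isPullback_kernelPair`: if `R ⇉ U` is the kernel pair of a chart `u : h_U ⟶ B`, then `A ×_B h_R ⇉ A ×_B h_U` is the kernel pair of the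
  base change `A ×_B h_U ⟶ A` of `u`.
-/

set_option autoImplicit false
universe u
open CategoryTheory CategoryTheory.Limits AlgebraicGeometry Opposite

namespace Groth.Agent.Lib.helper5.LimAff

open AlgSp

variable {S : Scheme.{u}}

theorem exists_map_of_isPullback {A B : Sp S} (π : A ⟶ B) {Z Z' : Over S}
    (g : (yon S).obj Z ⟶ B) (g' : (yon S).obj Z' ⟶ B) (r : Z' ⟶ Z) (hr : (yon S).map r ≫ g = g')
    {P P' : Over S} (f : (yon S).obj P ⟶ A) (s : P ⟶ Z) (sq : IsPullback f ((yon S).map s) π g)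
    (f' : (yon S).obj P' ⟶ A) (s' : P' ⟶ Z') (sq' : IsPullback f' ((yon S).map s') π g') :
    ∃ ρ : P' ⟶ P, (yon S).map ρ ≫ f = f' ∧ ρ ≫ s = s' ≫ r := by
  have hcomm : f' ≫ π = (yon S).map (s' ≫ r) ≫ g := by
    rw [Functor.map_comp, Category.assoc, hr]; exact sq'.w
  obtain ⟨ρ, hρ⟩ := (yon S).map_surjective (sq.lift f' ((yon S).map (s' ≫ r)) hcomm)
  refine ⟨ρ, ?_, ?_⟩
  · rw [hρ]; exact sq.lift_fst _ _ _
  · apply (yon S).map_injective
    rw [Functor.map_comp, hρ]; exact sq.lift_snd _ _ _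

theorem map_ext_of_isPullback {A B : Sp S} {π : A ⟶ B} {Z : Over S}
    {g : (yon S).obj Z ⟶ B} {P : Over S} {f : (yon S).obj P ⟶ A} {s : P ⟶ Z}
    (sq : IsPullback f ((yon S).map s) π g) {Q : Over S} (a b : Q ⟶ P)
    (h1 : (yon S).map a ≫ f = (yon S).map b ≫ f) (h2 : a ≫ s = b ≫ s) : a = b := by
  apply (yon S).map_injective
  apply sq.hom_ext h1
  rw [← Functor.map_comp, ← Functor.map_comp, h2]

theorem isPullback_kernelPair {A B : Sp S} (π : A ⟶ B) {U R : Over S} (u : (yon S).obj U ⟶ B)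
    (r₁ r₂ : R ⟶ U) (hR : IsPullback ((yon S).map r₁) ((yon S).map r₂) u u)
    {P P' : Over S} (f : (yon S).obj P ⟶ A) (s : P ⟶ U) (sq : IsPullback f ((yon S).map s) π u)
    (f' : (yon S).obj P' ⟶ A) (s' : P' ⟶ R)
    (sq' : IsPullback f' ((yon S).map s') π ((yon S).map r₁ ≫ u))
    (ρ₁ ρ₂ : P' ⟶ P) (h11 : (yon S).map ρ₁ ≫ f = f') (h12 : ρ₁ ≫ s = s' ≫ r₁)
    (h21 : (yon S).map ρ₂ ≫ f = f') (h22 : ρ₂ ≫ s = s' ≫ r₂) :
    IsPullback ((yon S).map ρ₁) ((yon S).map ρ₂) f f := by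
  have h12' : (yon S).map ρ₁ ≫ (yon S).map s = (yon S).map s' ≫ (yon S).map r₁ := by
    rw [← Functor.map_comp, ← Functor.map_comp, h12]
  have h22' : (yon S).map ρ₂ ≫ (yon S).map s = (yon S).map s' ≫ (yon S).map r₂ := by
    rw [← Functor.map_comp, ← Functor.map_comp, h22]
  have key : ∀ t : PullbackCone f f, ∃ δ : t.pt ⟶ (yon S).obj P',
      δ ≫ (yon S).map ρ₁ = t.fst ∧ δ ≫ (yon S).map ρ₂ = t.snd ∧
      ∀ m : t.pt ⟶ (yon S).obj P', m ≫ (yon S).map ρ₁ = t.fst → m ≫ (yon S).map ρ₂ = t.snd →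
        m = δ := by
    intro t
    have hc1 : (t.fst ≫ (yon S).map s) ≫ u = (t.snd ≫ (yon S).map s) ≫ u := by
      rw [Category.assoc, Category.assoc, ← sq.w, ← Category.assoc, ← Category.assoc, t.condition]
    obtain ⟨γ, hγ⟩ : ∃ γ, γ = hR.lift (t.fst ≫ (yon S).map s) (t.snd ≫ (yon S).map s) hc1 := ⟨_, rfl⟩
    have hγ1 : γ ≫ (yon S).map r₁ = t.fst ≫ (yon S).map s := by rw [hγ]; exact hR.lift_fst _ _ _
    have hγ2 : γ ≫ (yon S).map r₂ = t.snd ≫ (yon S).map s := by rw [hγ]; exact hR.lift_snd _ _ _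
    have hc2 : (t.fst ≫ f) ≫ π = γ ≫ (yon S).map r₁ ≫ u := by
      rw [← Category.assoc γ, hγ1, Category.assoc, Category.assoc, sq.w]
    obtain ⟨δ, hδ⟩ : ∃ δ, δ = sq'.lift (t.fst ≫ f) γ hc2 := ⟨_, rfl⟩
    have hδ1 : δ ≫ f' = t.fst ≫ f := by rw [hδ]; exact sq'.lift_fst _ _ _
    have hδ2 : δ ≫ (yon S).map s' = γ := by rw [hδ]; exact sq'.lift_snd _ _ _
    refine ⟨δ, ?_, ?_, fun m hm1 hm2 => ?_⟩
    · apply sq.hom_ext
      · rw [Category.assoc, h11, hδ1]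
      · rw [Category.assoc, h12', ← Category.assoc, hδ2, hγ1]
    · apply sq.hom_ext
      · rw [Category.assoc, h21, hδ1, t.condition]
      · rw [Category.assoc, h22', ← Category.assoc, hδ2, hγ2]
    · apply sq'.hom_ext
      · rw [hδ1, ← h11, ← Category.assoc, hm1]
      · rw [hδ2]
        apply hR.hom_ext
        · rw [Category.assoc, ← h12', ← Category.assoc, hm1, hγ1]
        · rw [Category.assoc, ← h22', ← Category.assoc, hm2, hγ2]
  choose δ hδ1 hδ2 hδ3 using key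
  exact ⟨⟨h11.trans h21.symm⟩, ⟨PullbackCone.IsLimit.mk _ δ hδ1 hδ2
    (fun t m hm1 hm2 => hδ3 t m hm1 hm2)⟩⟩

end Groth.Agent.Lib.helper5.LimAff
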