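import Groth.Prelude
import Groth.Agent.Lib.Helper5.LimAffC
import Groth.Agent.Lib.Helper5.AlgSpAffDesc
import Groth.Agent.Lib.Helper5.AlgSpInf3
import Groth.Agent.S10185

/-!
# Descending a morphism from a chart of a stage to the stage (helper5)

`exists_desc_stage`: let `X = lim X_i` be a cofiltered limit of algebraic spaces with affine transition maps, `u₀ : h_{U₀} ⟶ X_{i₀}` an
affine étale chart of a quasi-separated stage and `W_j = U₀ ×_{X_{i₀}} X_j` the induced charts of the stages, with limit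
`L = U₀ ×_{X_{i₀}} X`.  If `Z` is a scheme locally of finite type over `S`, `m : X ⟶ h_Z` is a morphism and `a : W_j ⟶ Z` induces
`L ⟶ X ⟶ h_Z`, then for some `k ⟶ j` the morphism `W_k ⟶ W_j ⟶ Z` descends to `h : X_k ⟶ h_Z`, and `h` induces `m`.
-/

set_option autoImplicit false
universe u
open CategoryTheory CategoryTheory.Limits AlgebraicGeometry Opposite

namespace Groth.Agent.Lib.helper5.LimAff

open AlgSp Groth.Agent.Lib.helper5.LimSp

variable {S : Scheme.{u}} [QuasiSeparatedSpace S] {I : Type u} [SmallCategory I] [IsCofiltered I]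

theorem exists_desc_stage (D : I ⥤ Sp S) (hD : ∀ i, IsAlgSpace (D.obj i))
    (hDa : ∀ (i j : I) (φ : i ⟶ j), IsAffineMor (D.map φ)) (c : Cone D) (hc : IsLimit c) (i₀ : I)
    (hqs : IsQuasiSeparatedSp (D.obj i₀))
    {U₀ : Over S} [IsAffine U₀.left] (u₀ : (yon S).obj U₀ ⟶ D.obj i₀)
    (hu₀e : RepWith @Etale u₀) (hu₀s : RepWith @Surjective u₀)
    (W : Over i₀ → Over S) (s : ∀ j, W j ⟶ U₀)
    (f : ∀ j : Over i₀, (yon S).obj (W j) ⟶ D.obj j.left)
    (sq : ∀ j : Over i₀, IsPullback (f j) ((yon S).map (s j)) (D.map j.hom) u₀)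
    (L : Cone (repDiag D i₀ u₀ W s f sq)) (p : ∀ j, L.pt ⟶ W j) (hp : ∀ j, p j = L.π.app j)
    (sL : L.pt ⟶ U₀) (fL : (yon S).obj L.pt ⟶ c.pt)
    (hpb : IsPullback fL ((yon S).map sL) (c.π.app i₀) u₀)
    (h1 : ∀ j, p j ≫ s j = sL)
    (h2 : ∀ j : Over i₀, (yon S).map (p j) ≫ f j = fL ≫ c.π.app j.left)
    {Z : Over S} [LocallyOfFiniteType Z.hom] (m : c.pt ⟶ (yon S).obj Z) (j : Over i₀) (a : W j ⟶ Z)
    (ha : (yon S).map (p j ≫ a) = fL ≫ m) :
    ∃ (k : Over i₀) (φ : k ⟶ j) (h : D.obj k.left ⟶ (yon S).obj Z),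
      f k ≫ h = (yon S).map ((repDiag D i₀ u₀ W s f sq).map φ ≫ a) ∧ c.π.app k.left ≫ h = m := by
  -- the kernel pair of the chart
  obtain ⟨R₀, r₂, fst, sqR⟩ := hu₀e.rep u₀
  obtain ⟨r₁, rfl⟩ := (yon S).map_surjective fst
  haveI : CompactSpace R₀.left :=
    Groth.Agent.S10185.result ⟨D.obj i₀, hD i₀⟩ hqs U₀ U₀ R₀ u₀ u₀ r₁ r₂ sqR
  -- the charts of the stages induced by `R₀`
  obtain ⟨W', s', f', sq', L', hL', p', hp', sL', fL', hpb', h1', h2', h3', h4', h5', ⟨h6'⟩⟩ :=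
    exists_chart_limit D c hc i₀ ((yon S).map r₁ ≫ u₀) hDa
  have hr₂ : (yon S).map r₂ ≫ u₀ = (yon S).map r₁ ≫ u₀ := sqR.w.symm
  choose ρ₁ hρ₁f hρ₁s using fun k : Over i₀ =>
    exists_map_of_isPullback (D.map k.hom) u₀ ((yon S).map r₁ ≫ u₀) r₁ rfl (f k) (s k) (sq k)
      (f' k) (s' k) (sq' k)
  choose ρ₂ hρ₂f hρ₂s using fun k : Over i₀ =>
    exists_map_of_isPullback (D.map k.hom) u₀ ((yon S).map r₁ ≫ u₀) r₂ hr₂ (f k) (s k) (sq k)
      (f' k) (s' k) (sq' k)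
  obtain ⟨ρL₁, hρL₁f, hρL₁s⟩ :=
    exists_map_of_isPullback (c.π.app i₀) u₀ ((yon S).map r₁ ≫ u₀) r₁ rfl fL sL hpb fL' sL' hpb'
  obtain ⟨ρL₂, hρL₂f, hρL₂s⟩ :=
    exists_map_of_isPullback (c.π.app i₀) u₀ ((yon S).map r₁ ≫ u₀) r₂ hr₂ fL sL hpb fL' sL' hpb'
  -- compatibility with the projections from the limit
  have hcompat₁ : ∀ k, ρL₁ ≫ p k = p' k ≫ ρ₁ k := fun k => by
    refine map_ext_of_isPullback (sq k) _ _ ?_ ?_
    · rw [Functor.map_comp, Functor.map_comp, Category.assoc, Category.assoc, h2 k, hρ₁f k, h2' k,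
        ← Category.assoc, hρL₁f]
    · rw [Category.assoc, Category.assoc, h1 k, hρ₁s k, ← Category.assoc, h1' k, hρL₁s]
  have hcompat₂ : ∀ k, ρL₂ ≫ p k = p' k ≫ ρ₂ k := fun k => by
    refine map_ext_of_isPullback (sq k) _ _ ?_ ?_
    · rw [Functor.map_comp, Functor.map_comp, Category.assoc, Category.assoc, h2 k, hρ₂f k, h2' k,
        ← Category.assoc, hρL₂f]
    · rw [Category.assoc, Category.assoc, h1 k, hρ₂s k, ← Category.assoc, h1' k, hρL₂s]
  -- the transition maps, with their syntactic types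
  obtain ⟨τ, hτ⟩ : ∃ τ : ∀ {k l : Over i₀} (_ : k ⟶ l), W k ⟶ W l,
      ∀ {k l : Over i₀} (φ : k ⟶ l), τ φ = (repDiag D i₀ u₀ W s f sq).map φ :=
    ⟨fun φ => (repDiag D i₀ u₀ W s f sq).map φ, fun φ => rfl⟩
  obtain ⟨τ', hτ'⟩ : ∃ τ' : ∀ {k l : Over i₀} (_ : k ⟶ l), W' k ⟶ W' l,
      ∀ {k l : Over i₀} (φ : k ⟶ l),
        τ' φ = (repDiag D i₀ ((yon S).map r₁ ≫ u₀) W' s' f' sq').map φ :=
    ⟨fun φ => (repDiag D i₀ ((yon S).map r₁ ≫ u₀) W' s' f' sq').map φ, fun φ => rfl⟩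
  have hτs : ∀ {k l : Over i₀} (φ : k ⟶ l), τ φ ≫ s l = s k := fun φ => by
    rw [hτ φ]; exact repDiag_map_s D i₀ u₀ W s f sq φ
  have hτf : ∀ {k l : Over i₀} (φ : k ⟶ l), (yon S).map (τ φ) ≫ f l = f k ≫ D.map φ.left :=
    fun φ => by rw [hτ φ]; exact repDiag_map_f D i₀ u₀ W s f sq φ
  have hτ's : ∀ {k l : Over i₀} (φ : k ⟶ l), τ' φ ≫ s' l = s' k := fun φ => by
    rw [hτ' φ]; exact repDiag_map_s D i₀ _ W' s' f' sq' φ
  have hτ'f : ∀ {k l : Over i₀} (φ : k ⟶ l), (yon S).map (τ' φ) ≫ f' l = f' k ≫ D.map φ.left :=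
    fun φ => by rw [hτ' φ]; exact repDiag_map_f D i₀ _ W' s' f' sq' φ
  have hpτ : ∀ {k l : Over i₀} (φ : k ⟶ l), p k ≫ τ φ = p l := fun φ => by
    rw [hτ φ, hp, hp]; exact L.w φ
  -- naturality in the stage
  have hnat₁ : ∀ {k l : Over i₀} (φ : k ⟶ l), τ' φ ≫ ρ₁ l = ρ₁ k ≫ τ φ := fun {k l} φ => by
    refine map_ext_of_isPullback (sq l) _ _ ?_ ?_
    · rw [Functor.map_comp, Functor.map_comp, Category.assoc, Category.assoc, hρ₁f l,
        hτ'f, hτf, ← Category.assoc, hρ₁f k]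
    · rw [Category.assoc, Category.assoc, hρ₁s l, ← Category.assoc, hτ's, hτs, hρ₁s k]
  have hnat₂ : ∀ {k l : Over i₀} (φ : k ⟶ l), τ' φ ≫ ρ₂ l = ρ₂ k ≫ τ φ := fun {k l} φ => by
    refine map_ext_of_isPullback (sq l) _ _ ?_ ?_
    · rw [Functor.map_comp, Functor.map_comp, Category.assoc, Category.assoc, hρ₂f l,
        hτ'f, hτf, ← Category.assoc, hρ₂f k]
    · rw [Category.assoc, Category.assoc, hρ₂s l, ← Category.assoc, hτ's, hτs, hρ₂s k]
  -- the two composites agree on the limit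
  have hlim : p' j ≫ ρ₁ j ≫ a = p' j ≫ ρ₂ j ≫ a := by
    apply (yon S).map_injective
    rw [← Category.assoc, ← hcompat₁ j, ← Category.assoc (p' j), ← hcompat₂ j, Category.assoc,
      Category.assoc, Functor.map_comp, ha, Functor.map_comp (yon S) ρL₂, ha, ← Category.assoc,
      hρL₁f, ← Category.assoc, hρL₂f]
  -- the scheme-level diagram of the `W' k`
  let E' : Over i₀ ⥤ Scheme.{u} :=
    repDiag D i₀ ((yon S).map r₁ ≫ u₀) W' s' f' sq' ⋙ Over.forget S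
  let t' : E' ⟶ (Functor.const (Over i₀)).obj S :=
    { app := fun k => (W' k).hom
      naturality := fun k l φ => by
        have := Over.w ((repDiag D i₀ ((yon S).map r₁ ≫ u₀) W' s' f' sq').map φ)
        simp [E'] }
  haveI : ∀ {k l : Over i₀} (φ : k ⟶ l), IsAffineHom (E'.map φ) := fun φ => h4' φ
  haveI : ∀ k, CompactSpace (E'.obj k) := fun k => by
    haveI hh5 : IsAffineHom (s' k).left := h5' k
    have hc : CompactSpace (W' k).left := QuasiCompact.compactSpace_of_compactSpace (s' k).left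
    exact hc
  have hab : ((Over.forget S).mapCone L').π.app j ≫ (ρ₁ j ≫ a).left =
      ((Over.forget S).mapCone L').π.app j ≫ (ρ₂ j ≫ a).left := by
    have := congrArg (fun m => m.left) hlim
    rw [hp' j] at this
    exact this
  obtain ⟨k, φ, hk⟩ := Scheme.exists_hom_comp_eq_comp_of_locallyOfFiniteType E' t' Z.hom
    ((Over.forget S).mapCone L') h6' (i := j) (ρ₁ j ≫ a).left (ρ₂ j ≫ a).left
    (Over.w (ρ₁ j ≫ a)).symm (Over.w (ρ₂ j ≫ a)).symm hab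
  have hk' : τ' φ ≫ ρ₁ j ≫ a = τ' φ ≫ ρ₂ j ≫ a := by
    apply Over.OverMorphism.ext
    rw [hτ' φ]
    exact hk
  have heq : ρ₁ k ≫ τ φ ≫ a = ρ₂ k ≫ τ φ ≫ a := by
    rw [← Category.assoc, ← hnat₁, Category.assoc, hk', ← Category.assoc, hnat₂, Category.assoc]
  -- descent along the chart of `X_k`
  have hK : IsPullback ((yon S).map (ρ₁ k)) ((yon S).map (ρ₂ k)) (f k) (f k) :=
    isPullback_kernelPair (D.map k.hom) u₀ r₁ r₂ sqR (f k) (s k) (sq k) (f' k) (s' k) (sq' k)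
      (ρ₁ k) (ρ₂ k) (hρ₁f k) (hρ₁s k) (hρ₂f k) (hρ₂s k)
  haveI : Epi (f k) := Groth.Agent.Lib.helper5.epi_of_etale_surjective (f k)
    ((RepWith (S := S) @Etale).of_isPullback (sq k).flip hu₀e)
    ((RepWith (S := S) @Surjective).of_isPullback (sq k).flip hu₀s)
  obtain ⟨h, hh⟩ := Groth.Agent.Lib.helper5.AffDesc.exists_desc_of_epi (f k) hK
    ((yon S).map (τ φ ≫ a)) (by rw [← Functor.map_comp, ← Functor.map_comp, heq])
  haveI : Epi fL := Groth.Agent.Lib.helper5.epi_of_etale_surjective fL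
    ((RepWith (S := S) @Etale).of_isPullback hpb.flip hu₀e)
    ((RepWith (S := S) @Surjective).of_isPullback hpb.flip hu₀s)
  refine ⟨k, φ, h, by rw [hh, hτ φ]; rfl, ?_⟩
  rw [← cancel_epi fL, ← Category.assoc, ← h2 k, Category.assoc, hh, ← Functor.map_comp,
    ← Category.assoc, hpτ φ, ha]

end Groth.Agent.Lib.helper5.LimAff
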