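import Mathlib.CategoryTheory.Limits.Shapes.Diagonal
import Mathlib.CategoryTheory.Limits.Shapes.Pullback.Pasting

/-!
# The diagonal of a base change (helper5)

For a pullback square `X' = X₀ ×_{Y₀} Y'` (`f'` the base change of `f₀` along `pY`), the fibre square
`X' ×_{Y'} X'` is the base change of `X₀ ×_{Y₀} X₀` along `pY`, and the diagonal of `f'` is the base change of the
diagonal of `f₀`.
-/

set_option autoImplicit false
universe v u
open CategoryTheory CategoryTheory.Limits

namespace Groth.Agent.Lib.helper5.LimDesc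

variable {C : Type u} [Category.{v} C] [HasPullbacks C]
  {X' Y' X₀ Y₀ : C} {pX : X' ⟶ X₀} {f' : X' ⟶ Y'} {f₀ : X₀ ⟶ Y₀} {pY : Y' ⟶ Y₀}

/-- the map `X' ×_{Y'} X' ⟶ X₀ ×_{Y₀} X₀` -/
noncomputable def diagMap (hX : IsPullback pX f' f₀ pY) : pullback f' f' ⟶ pullback f₀ f₀ :=
  pullback.map f' f' f₀ f₀ pX pX pY hX.w.symm hX.w.symm

@[reassoc]
lemma diagMap_fst (hX : IsPullback pX f' f₀ pY) :
    diagMap hX ≫ pullback.fst f₀ f₀ = pullback.fst f' f' ≫ pX := by
  unfold diagMap pullback.map
  exact pullback.lift_fst _ _ _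

@[reassoc]
lemma diagMap_snd (hX : IsPullback pX f' f₀ pY) :
    diagMap hX ≫ pullback.snd f₀ f₀ = pullback.snd f' f' ≫ pX := by
  unfold diagMap pullback.map
  exact pullback.lift_snd _ _ _

theorem isPullback_diagMap_fst (hX : IsPullback pX f' f₀ pY) :
    IsPullback (diagMap hX) (pullback.fst f' f') (pullback.fst f₀ f₀) pX := by
  have sqZ' : IsPullback (pullback.snd f' f') (pullback.fst f' f') f' f' :=
    (IsPullback.of_hasPullback f' f').flip
  have sqZ₀ : IsPullback (pullback.snd f₀ f₀) (pullback.fst f₀ f₀) f₀ f₀ :=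
    (IsPullback.of_hasPullback f₀ f₀).flip
  have big : IsPullback (pullback.snd f' f' ≫ pX) (pullback.fst f' f') f₀ (f' ≫ pY) :=
    sqZ'.paste_horiz hX
  refine IsPullback.of_right ?_ (diagMap_fst hX) sqZ₀
  rw [diagMap_snd, hX.w]
  exact big

theorem isPullback_diagMap (hX : IsPullback pX f' f₀ pY) :
    IsPullback (diagMap hX) (pullback.fst f' f' ≫ f') (pullback.fst f₀ f₀ ≫ f₀) pY :=
  (isPullback_diagMap_fst hX).paste_vert hX

theorem diagonal_diagMap (hX : IsPullback pX f' f₀ pY) :
    pullback.diagonal f' ≫ diagMap hX = pX ≫ pullback.diagonal f₀ := by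
  apply pullback.hom_ext
  · rw [Category.assoc, diagMap_fst, pullback.diagonal_fst_assoc, Category.assoc,
      pullback.diagonal_fst, Category.comp_id]
  · rw [Category.assoc, diagMap_snd, pullback.diagonal_snd_assoc, Category.assoc,
      pullback.diagonal_snd, Category.comp_id]

theorem isPullback_diagonal (hX : IsPullback pX f' f₀ pY) :
    IsPullback pX (pullback.diagonal f') (pullback.diagonal f₀) (diagMap hX) := by
  refine (IsPullback.of_right ?_ (diagonal_diagMap hX) (isPullback_diagMap hX).flip).flip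
  rw [pullback.diagonal_fst_assoc, pullback.diagonal_fst_assoc]
  exact hX.flip

end Groth.Agent.Lib.helper5.LimDesc
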