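import Groth.Prelude
import Groth.Agent.Lib.Helper5.LimDescE
import Groth.Agent.Lib.Helper5.AlgSpWhereIso
import Groth.Agent.Lib.Helper15.AlgSpDiag
import Groth.Agent.Lib.Helper10.AlgSpPoints
import Groth.Agent.Lib.Helper5.AlgSpFibreProduct

/-!
# Auxiliary lemmas for the descent of diagonal properties through limits (helper5)

* `isQuasiCompactSp_of_iso`, `isQuasiCompactSp_pullback_diagonal` (the fibre products `X ×_{X ×_Y X} h_V`, `V` affine, are
  quasi-compact when `X` is quasi-separated).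
* `isSurjectiveMor_diagonal_of_univInjective`, `isUnivInjectiveMor_of_diagonal_surjective`.
* `stage_mono`: a property of the base changes `f_i` stable under base change passes to further indices.
-/

set_option autoImplicit false
universe u
open CategoryTheory CategoryTheory.Limits AlgebraicGeometry Opposite

namespace Groth.Agent.Lib.helper5.LimDesc

open AlgSp

variable {S : Scheme.{u}}

theorem repWith_surjective_of_isIso {F G : Sp S} (f : F ⟶ G) [IsIso f] : RepWith @Surjective f := by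
  have h1 : RepWith @Surjective (𝟙 G) := (RepWith (S := S) @Surjective).id_mem G
  have sq : IsPullback f f (𝟙 G) (𝟙 G) := IsPullback.of_vert_isIso ⟨by simp⟩
  exact (RepWith (S := S) @Surjective).of_isPullback sq.flip h1

theorem isQuasiCompactSp_of_iso {F G : Sp S} (e : F ≅ G) (h : IsQuasiCompactSp F) :
    IsQuasiCompactSp G := by
  obtain ⟨U, p, hpe, hps, hU⟩ := h
  exact ⟨U, p ≫ e.hom,
    (RepWith (S := S) @Etale).comp_mem _ _ hpe (AlgSpWhereIso.repWith_etale_of_isIso e.hom),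
    (RepWith (S := S) @Surjective).comp_mem _ _ hps (repWith_surjective_of_isIso e.hom), hU⟩

/-- The fibre products `X ×_{X ×_Y X} h_V` (`V` affine) are quasi-compact when `X` is quasi-separated. -/
theorem isQuasiCompactSp_pullback_diagonal {X Y : Sp S} (f : X ⟶ Y) (hXqs : IsQuasiSeparatedSp X)
    (V : Over S) (v : (yon S).obj V ⟶ pullback f f) (hV : IsAffine V.left) :
    IsQuasiCompactSp (pullback (pullback.diagonal f) v) := by
  have hδ : RepWith @QuasiCompact (pullback.diagonal f) :=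
    (repWith_isStableUnderBaseChange (S := S) @QuasiCompact).of_isPullback
      (Groth.Agent.Lib.helper15.AlgSpDiag.isPullback_diagonal_diag f) hXqs
  obtain ⟨E, snd, fst, sq⟩ := hδ.rep v
  haveI : QuasiCompact snd.left := hδ.property v fst snd sq
  haveI : CompactSpace V.left := inferInstance
  haveI : CompactSpace E.left := QuasiCompact.compactSpace_of_compactSpace snd.left
  exact isQuasiCompactSp_of_iso sq.isoPullback
    ⟨E, 𝟙 _, (RepWith (S := S) @Etale).id_mem _, (RepWith (S := S) @Surjective).id_mem _,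
      inferInstance⟩

/-- The diagonal of a universally injective morphism (from an algebraic space) is surjective. -/
theorem isSurjectiveMor_diagonal_of_univInjective {X Y : Sp S} (hX : IsAlgSpace X) (f : X ⟶ Y)
    (hf : IsUnivInjectiveMor f) : IsSurjectiveMor (pullback.diagonal f) := by
  intro z
  have hinj : Function.Injective (Points.map (pullback.snd f f)) :=
    hf hX f (pullback.fst f f) (pullback.snd f f) (IsPullback.of_hasPullback f f)
  refine ⟨Points.map (pullback.snd f f) z, hinj ?_⟩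
  rw [← Points.map_comp, pullback.diagonal_snd, Points.map_id]

/-- A morphism whose diagonal is surjective is universally injective. -/
theorem isUnivInjectiveMor_of_diagonal_surjective {X Y : Sp S} (f : X ⟶ Y)
    (hf : IsSurjectiveMor (pullback.diagonal f)) : IsUnivInjectiveMor f := by
  intro Z Z' _ g fst snd sq x₁ x₂ h
  have sqK : IsPullback (pullback.fst snd snd) (pullback.snd snd snd) snd snd :=
    IsPullback.of_hasPullback snd snd
  obtain ⟨w, hw1, hw2⟩ := Groth.Agent.Lib.helper10.exists_point_of_isPullback sqK x₁ x₂ h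
  obtain ⟨x, hx⟩ := hf (Points.map (diagMap sq) w)
  obtain ⟨v, -, hv⟩ := Groth.Agent.Lib.helper10.exists_point_of_isPullback (isPullback_diagonal sq) x w hx
  have e1 : x₁ = v := by
    rw [← hw1, ← hv, ← Points.map_comp, pullback.diagonal_fst, Points.map_id]
  have e2 : x₂ = v := by
    rw [← hw2, ← hv, ← Points.map_comp, pullback.diagonal_snd, Points.map_id]
  rw [e1, e2]

/-- A property of the base changes `f_i`, stable under base change (of morphisms of algebraic spaces), passes to further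
indices. -/
theorem stage_mono {I : Type*} [Category I] (D : I ⥤ Sp S) (hD : ∀ i, IsAlgSpace (D.obj i))
    {i₀ i i' : I} (φ : i ⟶ i₀) (ψ : i' ⟶ i)
    {X₀ Y₀ : Sp S} (hX₀ : IsAlgSpace X₀) (hY₀ : IsAlgSpace Y₀) (f₀ : X₀ ⟶ Y₀) (b₀ : Y₀ ⟶ D.obj i₀)
    (Q : MorphismProperty (Sp S))
    (hQ : ∀ {A B A' B' : Sp S} {f : A ⟶ B} {g : B' ⟶ B} {fst : A' ⟶ A} {snd : A' ⟶ B'},
      IsAlgSpace A → IsAlgSpace B → IsAlgSpace B' → IsPullback fst snd f g → Q f → Q snd)
    (H : ∀ (Xi Yi : Sp S) (fi : Xi ⟶ Yi) (pYi : Yi ⟶ Y₀) (qYi : Yi ⟶ D.obj i)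
      (_ : IsPullback pYi qYi b₀ (D.map φ)) (pXi : Xi ⟶ X₀) (_ : IsPullback pXi fi f₀ pYi), Q fi) :
    ∀ (Xi Yi : Sp S) (fi : Xi ⟶ Yi) (pYi : Yi ⟶ Y₀) (qYi : Yi ⟶ D.obj i')
      (_ : IsPullback pYi qYi b₀ (D.map (ψ ≫ φ))) (pXi : Xi ⟶ X₀) (_ : IsPullback pXi fi f₀ pYi),
      Q fi := by
  intro Xi Yi fi pYi qYi hYi pXi hXi
  have sqY₁ := IsPullback.of_hasPullback b₀ (D.map φ)
  have sqX₁ := IsPullback.of_hasPullback f₀ (pullback.fst b₀ (D.map φ))
  have hY₁ : IsAlgSpace (pullback b₀ (D.map φ)) :=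
    isAlgSpace_of_isPullback (hD i₀).diag hY₀ (hD i) sqY₁
  have hX₁ : IsAlgSpace (pullback f₀ (pullback.fst b₀ (D.map φ))) :=
    isAlgSpace_of_isPullback hY₀.diag hX₀ hY₁ sqX₁
  have hYi' : IsAlgSpace Yi := isAlgSpace_of_isPullback (hD i₀).diag hY₀ (hD i') hYi
  have hQ₁ : Q (pullback.snd f₀ (pullback.fst b₀ (D.map φ))) := H _ _ _ _ _ sqY₁ _ sqX₁
  have hc : pYi ≫ b₀ = (qYi ≫ D.map ψ) ≫ D.map φ := by
    rw [Category.assoc, ← D.map_comp]; exact hYi.w
  obtain ⟨t, ht1, -⟩ : ∃ t : Yi ⟶ pullback b₀ (D.map φ), t ≫ pullback.fst b₀ (D.map φ) = pYi ∧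
      t ≫ pullback.snd b₀ (D.map φ) = qYi ≫ D.map ψ :=
    ⟨pullback.lift _ _ hc, pullback.lift_fst _ _ _, pullback.lift_snd _ _ _⟩
  have hc' : pXi ≫ f₀ = (fi ≫ t) ≫ pullback.fst b₀ (D.map φ) := by
    rw [Category.assoc, ht1]; exact hXi.w
  obtain ⟨s, hs1, hs2⟩ : ∃ s : Xi ⟶ pullback f₀ (pullback.fst b₀ (D.map φ)),
      s ≫ pullback.fst f₀ (pullback.fst b₀ (D.map φ)) = pXi ∧
      s ≫ pullback.snd f₀ (pullback.fst b₀ (D.map φ)) = fi ≫ t :=
    ⟨pullback.lift _ _ hc', pullback.lift_fst _ _ _, pullback.lift_snd _ _ _⟩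
  have sq : IsPullback s fi (pullback.snd f₀ (pullback.fst b₀ (D.map φ))) t := by
    refine IsPullback.of_right ?_ hs2 sqX₁
    rw [hs1, ht1]
    exact hXi
  exact hQ hX₁ hY₁ hYi' sq hQ₁

end Groth.Agent.Lib.helper5.LimDesc
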