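import Groth.Prelude
import Groth.Agent.Lib.Helper5.AlgSpCoprod5
import Groth.Agent.Lib.Helper5.AlgSpProperSurj
import Groth.Agent.Lib.Helper1.BootE

/-!
# Limits of closed immersions of fppf sheaves (helper5)

* `exists_isPullback_limMap`: for a morphism `τ : DX ⟶ DY` of diagrams of fppf sheaves all of whose components are closed
  immersions, the induced morphism of limits `g : lim DX ⟶ lim DY` is, after base change to a scheme `T`, the closed
  subscheme of `T` cut out by the sum of the ideals of the base changes of the `τ k`.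
* `repWith_closedImmersion_limMap`: `g` is a closed immersion.
* `fg_ker_of_lfp`: the ideal of a closed immersion locally of finite presentation into an affine scheme is finitely
  generated.
-/

set_option autoImplicit false
universe v w u
open CategoryTheory CategoryTheory.Limits AlgebraicGeometry Opposite

namespace Groth.Agent.Lib.helper5.LimClImm

open AlgSp

variable {S : Scheme.{u}}

/-- The closed subscheme of `T` cut out by an ideal sheaf, as an object over `S`. -/
noncomputable abbrev subOver (T : Over S) (J : T.left.IdealSheafData) : Over S :=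
  Over.mk (J.subschemeι ≫ T.hom)

/-- The inclusion of the closed subscheme cut out by an ideal sheaf. -/
noncomputable abbrev subι (T : Over S) (J : T.left.IdealSheafData) : subOver T J ⟶ T :=
  Over.homMk J.subschemeι rfl

theorem exists_isPullback_limMap {K : Type v} [Category.{w} K]
    (DX DY : K ⥤ Sp S) (τ : DX ⟶ DY) (hτ : ∀ k, RepWith @IsClosedImmersion (τ.app k))
    (cX : Cone DX) (hcX : IsLimit cX) (cY : Cone DY) (hcY : IsLimit cY)
    (g : cX.pt ⟶ cY.pt) (hg : ∀ k, g ≫ cY.π.app k = cX.π.app k ≫ τ.app k)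
    (T : Over S) (t : (yon S).obj T ⟶ cY.pt)
    (W : K → Over S) (s : ∀ k, W k ⟶ T) (f : ∀ k, (yon S).obj (W k) ⟶ DX.obj k)
    (sq : ∀ k, IsPullback (f k) ((yon S).map (s k)) (τ.app k) (t ≫ cY.π.app k)) :
    ∃ fst : (yon S).obj (subOver T (⨆ k, (s k).left.ker)) ⟶ cX.pt,
      IsPullback fst ((yon S).map (subι T (⨆ k, (s k).left.ker))) g t ∧
      ∀ k, ∃ l : subOver T (⨆ k, (s k).left.ker) ⟶ W k,
        l ≫ s k = subι T (⨆ k, (s k).left.ker) ∧ fst ≫ cX.π.app k = (yon S).map l ≫ f k := by
  classical
  have hτm : ∀ k, Mono (τ.app k) := fun k => ProperSurj.mono_of_closedImmersion (hτ k)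
  haveI : Mono g := ⟨fun a b hab => hcX.hom_ext (fun k => by
    haveI := hτm k
    rw [← cancel_mono (τ.app k), Category.assoc, Category.assoc, ← hg, ← Category.assoc,
      ← Category.assoc, hab])⟩
  have hs : ∀ k, IsClosedImmersion (s k).left := fun k => (hτ k).2 _ _ _ (sq k)
  obtain ⟨J, hJ⟩ : ∃ J : T.left.IdealSheafData, J = ⨆ k, (s k).left.ker := ⟨_, rfl⟩
  rw [← hJ]
  let Wo : Over S := subOver T J
  let snd : Wo ⟶ T := subι T J
  have hsndker : snd.left.ker = J := Scheme.IdealSheafData.ker_subschemeι J
  haveI hsndci : IsClosedImmersion snd.left := inferInstanceAs (IsClosedImmersion J.subschemeι)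
  have hle : ∀ k, (s k).left.ker ≤ snd.left.ker := fun k => by
    rw [hsndker, hJ]
    exact le_iSup (fun k => (s k).left.ker) k
  let l : ∀ k, Wo ⟶ W k := fun k =>
    haveI := hs k
    Over.homMk (IsClosedImmersion.lift (s k).left snd.left (hle k)) (by
      rw [← Over.w (s k), ← Category.assoc, IsClosedImmersion.lift_fac]
      rfl)
  have hl : ∀ k, l k ≫ s k = snd := fun k => by
    haveI := hs k
    apply Over.OverMorphism.ext
    exact IsClosedImmersion.lift_fac _ _ _
  have key : ∀ k, ((yon S).map (l k) ≫ f k) ≫ τ.app k = (yon S).map snd ≫ t ≫ cY.π.app k := fun k => by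
    rw [Category.assoc, (sq k).w, ← Category.assoc, ← Functor.map_comp, hl]
  let cn : Cone DX :=
    { pt := (yon S).obj Wo
      π :=
        { app := fun k => (yon S).map (l k) ≫ f k
          naturality := fun i j φ => by
            haveI := hτm j
            rw [← cancel_mono (τ.app j)]
            change (𝟙 _ ≫ (yon S).map (l j) ≫ f j) ≫ τ.app j =
              (((yon S).map (l i) ≫ f i) ≫ DX.map φ) ≫ τ.app j
            rw [Category.id_comp, key, Category.assoc, τ.naturality φ,
              ← Category.assoc ((yon S).map (l i) ≫ f i), key, Category.assoc, Category.assoc,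
              cY.w φ] } }
  have hfst : ∀ k, hcX.lift cn ≫ cX.π.app k = (yon S).map (l k) ≫ f k := fun k => hcX.fac cn k
  have comm : hcX.lift cn ≫ g = (yon S).map snd ≫ t := by
    refine hcY.hom_ext (fun k => ?_)
    rw [Category.assoc, hg, ← Category.assoc, hfst, key, Category.assoc]
  haveI : Mono ((yon S).map snd) :=
    ProperSurj.mono_of_closedImmersion ((repWith_yon_map_iff @IsClosedImmersion snd).2 hsndci)
  refine ⟨hcX.lift cn, ?_, fun k => ⟨l k, hl k, hfst k⟩⟩
  refine Groth.Agent.H1.Boot.isPullback_of_mono_of_yon g t (hcX.lift cn) ((yon S).map snd) comm ?_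
  intro U x y hxy
  obtain ⟨β, rfl⟩ := (yon S).map_surjective y
  have hc : ∀ k, ∃ c : U ⟶ W k, c ≫ s k = β := fun k => by
    have hw : (x ≫ cX.π.app k) ≫ τ.app k = (yon S).map β ≫ t ≫ cY.π.app k := by
      rw [Category.assoc, ← hg, ← Category.assoc, hxy, Category.assoc]
    obtain ⟨c, hc⟩ := (yon S).map_surjective ((sq k).lift _ _ hw)
    refine ⟨c, (yon S).map_injective ?_⟩
    rw [Functor.map_comp, hc]
    exact (sq k).lift_snd _ _ _
  have hβ : snd.left.ker ≤ β.left.ker := by
    rw [hsndker, hJ]
    refine iSup_le (fun k => ?_)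
    obtain ⟨c, hc⟩ := hc k
    rw [← hc, Over.comp_left]
    exact Scheme.Hom.le_ker_comp _ _
  refine ⟨(yon S).map (Over.homMk (IsClosedImmersion.lift snd.left β.left hβ) ?_ : U ⟶ Wo), ?_⟩
  · change IsClosedImmersion.lift snd.left β.left hβ ≫ J.subschemeι ≫ T.hom = U.hom
    rw [← Over.w β, ← Category.assoc]
    congr 1
    exact IsClosedImmersion.lift_fac snd.left β.left hβ
  · rw [← Functor.map_comp]
    congr 1
    apply Over.OverMorphism.ext
    exact IsClosedImmersion.lift_fac snd.left β.left hβ

/-- The morphism of limits induced by a morphism of diagrams whose components are closed immersions is a closed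
immersion. -/
theorem repWith_closedImmersion_limMap {K : Type v} [Category.{w} K]
    (DX DY : K ⥤ Sp S) (τ : DX ⟶ DY) (hτ : ∀ k, RepWith @IsClosedImmersion (τ.app k))
    (cX : Cone DX) (hcX : IsLimit cX) (cY : Cone DY) (hcY : IsLimit cY)
    (g : cX.pt ⟶ cY.pt) (hg : ∀ k, g ≫ cY.π.app k = cX.π.app k ≫ τ.app k) :
    RepWith @IsClosedImmersion g := by
  refine Coprod.repWith_of_forall_exists @IsClosedImmersion g (fun T t => ?_)
  choose W s f sq using fun k => (hτ k).rep (t ≫ cY.π.app k)
  obtain ⟨fst, sqZ, -⟩ := exists_isPullback_limMap DX DY τ hτ cX hcX cY hcY g hg T t W s f sq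
  exact ⟨_, _, fst, sqZ, inferInstanceAs (IsClosedImmersion (⨆ k, (s k).left.ker).subschemeι)⟩

/-- The ideal of a closed immersion locally of finite presentation into an affine scheme is finitely generated. -/
theorem fg_ker_of_lfp {Z U : Scheme.{u}} [IsAffine U] (h : Z ⟶ U) [IsClosedImmersion h]
    [LocallyOfFinitePresentation h] : (h.ker.ideal ⟨⊤, isAffineOpen_top U⟩).FG := by
  obtain ⟨hZ, hsurj⟩ := IsClosedImmersion.isAffine_surjective_of_isAffine h
  haveI := hZ
  have hfp : RingHom.FinitePresentation h.appTop.hom :=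
    HasRingHomProperty.appTop @LocallyOfFinitePresentation h inferInstance
  rw [Scheme.Hom.ker_apply]
  change (RingHom.ker h.appTop.hom).FG
  algebraize [h.appTop.hom]
  have := Algebra.FinitePresentation.ker_fG_of_surjective (Algebra.ofId Γ(U, ⊤) Γ(Z, ⊤)) hsurj
  exact this

end Groth.Agent.Lib.helper5.LimClImm
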