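import Groth.Prelude
import Groth.Agent.Lib.Helper5.LimSpD
import Groth.Agent.Lib.Helper5.LimClImmA
import Groth.Agent.S10193
import Groth.Agent.Lib.Helper5.AlgSpFibreProduct

/-!
# Closures of points in a cofiltered limit of algebraic spaces (helper5)

* `exists_open_preimage_subset`: every open neighbourhood of a point of `|lim X_i|` contains the preimage of an open
  neighbourhood of its image in some `|X_i|`.
* `closure_point_limit`: the closure of a point of `|lim X_i|` is the set of points whose images lie in the closures of the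
  images of the point.
* `isPullback_of_comp_mono`, `repWith_of_comp_mono`: cancellation of a monomorphism.
* `isLimit_redInduced`: the reduced induced closed subspace on the closure of a point of the limit is the limit of the reduced
  induced closed subspaces on the closures of its images.
-/

set_option autoImplicit false
universe u
open CategoryTheory CategoryTheory.Limits AlgebraicGeometry Opposite Topology

namespace Groth.Agent.Lib.helper5.LimSp

open AlgSp

variable {S : Scheme.{u}} {I : Type u} [SmallCategory I] [IsCofiltered I] (D : I ⥤ Sp S)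
  (c : Cone D) (hc : IsLimit c)

include hc in
theorem exists_open_preimage_subset (hD : ∀ i, IsAlgSpace (D.obj i))
    (hDa : ∀ (i j : I) (φ : i ⟶ j), IsAffineMor (D.map φ))
    (Wset : Set (Points c.pt)) (hW : IsOpen Wset) (x : Points c.pt) (hx : x ∈ Wset) :
    ∃ (i : I) (O : Set (Points (D.obj i))), IsOpen O ∧ x ∈ Points.map (c.π.app i) ⁻¹' O ∧
      Points.map (c.π.app i) ⁻¹' O ⊆ Wset := by
  obtain ⟨i₀⟩ := IsCofiltered.nonempty (C := I)
  obtain ⟨Z, g, hge, hgs⟩ := (hD i₀).atlas
  obtain ⟨W, s, f, sq, L, hL, p, hp, sL, fL, hpb, h1, h2, h3, h4, h5, ⟨h6⟩⟩ :=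
    exists_chart_limit D c hc i₀ g hDa
  have hfe : ∀ j, RepWith @Etale (f j) := fun j =>
    (RepWith (S := S) @Etale).of_isPullback (sq j).flip hge
  have hfLs : RepWith @Surjective fL := (RepWith (S := S) @Surjective).of_isPullback hpb.flip hgs
  have hsqj : ∀ j : Over i₀, IsPullback fL ((yon S).map (p j)) (c.π.app j.left) (f j) := by
    intro j
    refine IsPullback.of_bot ?_ (h2 j).symm (sq j)
    have e1 : (yon S).map (p j) ≫ (yon S).map (s j) = (yon S).map sL := by
      rw [← Functor.map_comp, h1 j]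
    have e2 : c.π.app j.left ≫ D.map j.hom = c.π.app i₀ := c.w j.hom
    rw [e1, e2]
    exact hpb
  obtain ⟨l₀, rfl⟩ := Groth.Agent.Lib.helper11.surjective_ofPt fL hfLs x
  let OL : L.pt.left.Opens := ⟨Points.ofPt fL ⁻¹' Wset, hW.preimage (Points.continuous_ofPt fL)⟩
  haveI : ∀ {j k : Over i₀} (φ : j ⟶ k),
      IsAffineHom ((repDiag D i₀ g W s f sq ⋙ Over.forget S).map φ) := fun φ => h4 φ
  have hbasis := isBasis_preimage_isAffineOpen (repDiag D i₀ g W s f sq ⋙ Over.forget S) _ h6
  obtain ⟨_, ⟨j, V, hV, rfl⟩, hl₀V, hVO⟩ :=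
    TopologicalSpace.Opens.isBasis_iff_nbhd.mp hbasis (U := OL) (x := l₀) hx
  have hπ : ((Over.forget S).mapCone L).π.app j = (p j).left := by
    rw [hp j]; rfl
  obtain ⟨V', hV'⟩ : ∃ V' : (W j).left.Opens, V' = V := ⟨V, rfl⟩
  refine ⟨j.left, Points.ofPt (f j) '' (V' : Set _),
    Groth.Agent.Lib.helper11.isOpenMap_ofPt (f j) (hfe j) _ V'.2, ?_, ?_⟩
  · refine ⟨(p j).left l₀, ?_, ?_⟩
    · have : ((Over.forget S).mapCone L).π.app j l₀ ∈ V := hl₀V
      rw [hπ, ← hV'] at this
      exact this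
    · rw [Points.map_ofPt, ← h2 j, Groth.Agent.Lib.helper11.ofPt_yon_map_comp]
  · rintro y ⟨v, hvV, hvy⟩
    obtain ⟨l, hl1, hl2⟩ := Groth.Agent.Lib.helper11.exists_of_isPullback_scheme (hsqj j) y v hvy.symm
    have hlV' : (p j).left l ∈ V' := by rw [hl2]; exact hvV
    have hlO : l ∈ OL := hVO (by
      change ((Over.forget S).mapCone L).π.app j l ∈ V
      rw [hπ]; exact hV' ▸ hlV')
    rw [← hl1]
    exact hlO

include hc in
theorem closure_point_limit (hD : ∀ i, IsAlgSpace (D.obj i))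
    (hDa : ∀ (i j : I) (φ : i ⟶ j), IsAffineMor (D.map φ)) (x : Points c.pt) :
    closure {x} =
      {x' | ∀ i, Points.map (c.π.app i) x' ∈ closure {Points.map (c.π.app i) x}} := by
  ext x'
  constructor
  · intro hx' i
    refine map_mem_closure (Points.continuous_map (c.π.app i)) hx' ?_
    rintro y rfl
    rfl
  · intro hx'
    rw [mem_closure_iff]
    intro o ho hx'o
    obtain ⟨i, O, hO, hxO, hOo⟩ := exists_open_preimage_subset D c hc hD hDa o ho x' hx'o
    obtain ⟨y, hyO, hy⟩ := mem_closure_iff.mp (hx' i) O hO hxO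
    rw [Set.mem_singleton_iff] at hy
    subst hy
    exact ⟨x, hOo hyO, rfl⟩

omit [IsCofiltered I] in
/-- `f` is a base change of `f ≫ g` when `g` is a monomorphism. -/
theorem isPullback_of_comp_mono {C : Type*} [Category C] {X Y Z : C} (f : X ⟶ Y) (g : Y ⟶ Z)
    [Mono g] : IsPullback (𝟙 X) f (f ≫ g) g :=
  isPullback_of_exists_lift (by simp)
    (fun a b h => ⟨a, by simp, by rw [← cancel_mono g, Category.assoc, h]⟩)
    (fun l l' h _ => by simpa using h)

omit [IsCofiltered I] in
/-- A representable affine morphism is affine. -/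
theorem isAffineMor_of_repWith' {F G : Sp S} (f : F ⟶ G) (h : RepWith @IsAffineHom f) :
    IsAffineMor f := by
  intro Z hZ g
  obtain ⟨W, i, fst, sq⟩ := h.rep g
  haveI : IsAffineHom i.left := h.property _ _ _ sq
  haveI : IsAffine Z.left := hZ
  exact ⟨W, i, fst, sq, isAffine_of_isAffineHom i.left⟩

include hc in
/-- The reduced induced closed subspace on the closure of a point of the limit is the limit of the reduced induced closed
subspaces on the closures of its images. -/
theorem isLimit_redInduced (hD : ∀ i, IsAlgSpace (D.obj i))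
    (hDa : ∀ (i j : I) (φ : i ⟶ j), IsAffineMor (D.map φ)) (x : Points c.pt)
    (Z : Sp S) (hZ : IsAlgSpace Z) (zι : Z ⟶ c.pt) (hzι : IsRedInduced (closure {x}) zι)
    (DZ : I ⥤ Sp S) (hDZ : ∀ i, IsAlgSpace (DZ.obj i)) (ι : DZ ⟶ D)
    (hι : ∀ i, IsRedInduced (closure {Points.map (c.π.app i) x}) (ι.app i))
    (ξ : (Functor.const I).obj Z ⟶ DZ) (hξ : ∀ i, ξ.app i ≫ ι.app i = zι ≫ c.π.app i) :
    Nonempty (IsLimit (Cone.mk Z ξ)) := by
  haveI : HasLimit DZ := inferInstance
  obtain ⟨cZ, hcZ⟩ : ∃ cZ : Cone DZ, Nonempty (IsLimit cZ) := ⟨limit.cone DZ, ⟨limit.isLimit DZ⟩⟩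
  obtain ⟨hcZ⟩ := hcZ
  have hιci : ∀ i, RepWith @IsClosedImmersion (ι.app i) := fun i => (hι i).1
  let cn : Cone D :=
    { pt := cZ.pt
      π := { app := fun i => cZ.π.app i ≫ ι.app i
             naturality := fun i j φ => by
              refine (Category.id_comp _).trans ?_
              rw [Category.assoc, ← ι.naturality φ, ← Category.assoc, cZ.w φ] } }
  obtain ⟨g, hg⟩ : ∃ g : cZ.pt ⟶ c.pt, ∀ i, g ≫ c.π.app i = cZ.π.app i ≫ ι.app i :=
    ⟨hc.lift cn, fun i => hc.fac cn i⟩
  have hgci : RepWith @IsClosedImmersion g :=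
    LimClImm.repWith_closedImmersion_limMap DZ D ι hιci cZ hcZ c hc g hg
  have hX : IsAlgSpace c.pt := isAlgSpace_limit D c hD hDa hc
  have hcZsp : IsAlgSpace cZ.pt := GrpLocus.isAlgSpace_of_representable g hgci.rep hX
  have hDZa : ∀ (i j : I) (φ : i ⟶ j), IsAffineMor (DZ.map φ) := by
    intro i j φ
    haveI : Mono (ι.app j) := ProperSurj.mono_of_closedImmersion (hιci j)
    have h1 : RepWith @IsAffineHom (DZ.map φ ≫ ι.app j) := by
      rw [ι.naturality φ]
      refine (repWith_isMultiplicative (S := S) @IsAffineHom).comp_mem _ _ ?_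
        (Groth.Agent.S9941.main _ (hDa i j φ))
      exact Groth.Agent.S10194.repWith_mono (fun _ _ f hf => by
        haveI : IsClosedImmersion f := hf
        exact inferInstanceAs (IsAffineHom f)) (hιci i)
    exact isAffineMor_of_repWith' _ ((RepWith (S := S) @IsAffineHom).of_isPullback
      (isPullback_of_comp_mono (DZ.map φ) (ι.app j)) h1)
  have hcZred : IsReducedSp cZ.pt := isReducedSp_limit DZ cZ hcZ hDZa (fun i => (hι i).2.2)
  obtain ⟨m, hm⟩ : ∃ m : Z ⟶ cZ.pt, ∀ i, m ≫ cZ.π.app i = ξ.app i :=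
    ⟨hcZ.lift (Cone.mk Z ξ), fun i => hcZ.fac (Cone.mk Z ξ) i⟩
  have hmg : m ≫ g = zι := hc.hom_ext (fun i => by
    rw [Category.assoc, hg i, ← Category.assoc, hm i, hξ i])
  have hrange : Set.range (Points.map g) ⊆ Set.range (Points.map zι) := by
    rw [hzι.2.1, closure_point_limit D c hc hD hDa x]
    rintro _ ⟨y, rfl⟩ i
    rw [← Points.map_comp, hg i, Points.map_comp]
    have h : Points.map (ι.app i) (Points.map (cZ.π.app i) y) ∈
        Set.range (Points.map (ι.app i)) := ⟨_, rfl⟩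
    rw [(hι i).2.1] at h
    exact h
  obtain ⟨n, hn⟩ := (Groth.Agent.S10193.result (X := ⟨c.pt, hX⟩) (Y := ⟨cZ.pt, hcZsp⟩)
    (Z := ⟨Z, hZ⟩) (ObjectProperty.homMk zι) hzι.1 hcZred (ObjectProperty.homMk g)).2 hrange
  have hn' : n.hom ≫ zι = g := congrArg (fun t => t.hom) hn
  haveI : Mono zι := ProperSurj.mono_of_closedImmersion hzι.1
  haveI : Mono g := ProperSurj.mono_of_closedImmersion hgci
  have h1 : m ≫ n.hom = 𝟙 Z := by
    rw [← cancel_mono zι, Category.assoc, hn', hmg, Category.id_comp]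
  have h2 : n.hom ≫ m = 𝟙 cZ.pt := by
    rw [← cancel_mono g, Category.assoc, hmg, hn', Category.id_comp]
  exact ⟨IsLimit.ofIsoLimit hcZ
    (Cone.ext (⟨m, n.hom, h1, h2⟩ : (Cone.mk Z ξ).pt ≅ cZ.pt) (fun i => (hm i).symm)).symm⟩

end Groth.Agent.Lib.helper5.LimSp
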