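import Groth.Agent.S9941
import Groth.Agent.Lib.Helper15.AlgSpDiag
import Groth.Agent.Lib.Helper5.LimSpF
import Groth.Agent.Lib.Helper5.AlgSpFibreProduct
import Groth.Agent.Lib.Helper5.LimDescF
import Groth.Agent.Lib.Helper5.LimSpB
import Mathlib

/-!
# The kernel-pair system of a morphism into a limit (helper5)

For a cone `c` over `D : I ⥤ Sp S` and `y : Y ⟶ c.pt` we consider the system
`Z_i = Y ×_{X_i} Y`.  When `y` is a monomorphism and `c` is a limit cone (with `I` cofiltered),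
`Y` is the limit of the `Z_i` via the diagonals.  The transition maps are base changes of diagonals
of the transition maps of `D`, hence closed immersions when the latter are affine.
-/

set_option autoImplicit false
universe u
open CategoryTheory CategoryTheory.Limits AlgebraicGeometry

namespace Groth.Agent.Lib.helper5.LimMono

open AlgSp

section cat

variable {C : Type*} [Category C] [HasPullbacks C] {I : Type*} [Category I]
  (D : I ⥤ C) (c : Cone D) {Y : C} (y : Y ⟶ c.pt)

omit [HasPullbacks C] in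
lemma map_fst' {W X Y Z S T : C} (f₁ : W ⟶ S) (f₂ : X ⟶ S) [HasPullback f₁ f₂] (g₁ : Y ⟶ T)
    (g₂ : Z ⟶ T) [HasPullback g₁ g₂] (i₁ : W ⟶ Y) (i₂ : X ⟶ Z) (i₃ : S ⟶ T)
    (eq₁ : f₁ ≫ i₃ = i₁ ≫ g₁) (eq₂ : f₂ ≫ i₃ = i₂ ≫ g₂) :
    pullback.map f₁ f₂ g₁ g₂ i₁ i₂ i₃ eq₁ eq₂ ≫ pullback.fst g₁ g₂ = pullback.fst f₁ f₂ ≫ i₁ :=
  pullback.lift_fst _ _ _

omit [HasPullbacks C] in
lemma map_snd' {W X Y Z S T : C} (f₁ : W ⟶ S) (f₂ : X ⟶ S) [HasPullback f₁ f₂] (g₁ : Y ⟶ T)
    (g₂ : Z ⟶ T) [HasPullback g₁ g₂] (i₁ : W ⟶ Y) (i₂ : X ⟶ Z) (i₃ : S ⟶ T)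
    (eq₁ : f₁ ≫ i₃ = i₁ ≫ g₁) (eq₂ : f₂ ≫ i₃ = i₂ ≫ g₂) :
    pullback.map f₁ f₂ g₁ g₂ i₁ i₂ i₃ eq₁ eq₂ ≫ pullback.snd g₁ g₂ = pullback.snd f₁ f₂ ≫ i₂ :=
  pullback.lift_snd _ _ _

/-- The transition maps `Y ×_{X_i} Y ⟶ Y ×_{X_j} Y`. -/
noncomputable def kerMap {i j : I} (φ : i ⟶ j) :
    pullback (y ≫ c.π.app i) (y ≫ c.π.app i) ⟶ pullback (y ≫ c.π.app j) (y ≫ c.π.app j) :=
  pullback.map (y ≫ c.π.app i) (y ≫ c.π.app i) (y ≫ c.π.app j) (y ≫ c.π.app j)
    (𝟙 _) (𝟙 _) (D.map φ)
    (by rw [Category.id_comp, Category.assoc, c.w]) (by rw [Category.id_comp, Category.assoc, c.w])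

lemma kerMap_fst {i j : I} (φ : i ⟶ j) :
    kerMap D c y φ ≫ pullback.fst (y ≫ c.π.app j) (y ≫ c.π.app j) =
      pullback.fst (y ≫ c.π.app i) (y ≫ c.π.app i) := by
  unfold kerMap
  rw [map_fst', Category.comp_id]

lemma kerMap_snd {i j : I} (φ : i ⟶ j) :
    kerMap D c y φ ≫ pullback.snd (y ≫ c.π.app j) (y ≫ c.π.app j) =
      pullback.snd (y ≫ c.π.app i) (y ≫ c.π.app i) := by
  unfold kerMap
  rw [map_snd', Category.comp_id]

/-- The system `i ↦ Y ×_{X_i} Y`. -/
noncomputable def kerDiag : I ⥤ C where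
  obj i := pullback (y ≫ c.π.app i) (y ≫ c.π.app i)
  map {i j} φ := kerMap D c y φ
  map_id i := by
    apply pullback.hom_ext
    · rw [kerMap_fst, Category.id_comp]
    · rw [kerMap_snd, Category.id_comp]
  map_comp φ ψ := by
    apply pullback.hom_ext
    · rw [kerMap_fst, Category.assoc, kerMap_fst, kerMap_fst]
    · rw [kerMap_snd, Category.assoc, kerMap_snd, kerMap_snd]

/-- The first projection `Z_i ⟶ Y`. -/
noncomputable def kfst (i : I) : (kerDiag D c y).obj i ⟶ Y :=
  pullback.fst (y ≫ c.π.app i) (y ≫ c.π.app i)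

/-- The second projection `Z_i ⟶ Y`. -/
noncomputable def ksnd (i : I) : (kerDiag D c y).obj i ⟶ Y :=
  pullback.snd (y ≫ c.π.app i) (y ≫ c.π.app i)

/-- The diagonal `Y ⟶ Z_i`. -/
noncomputable def kdiag (i : I) : Y ⟶ (kerDiag D c y).obj i :=
  pullback.diagonal (y ≫ c.π.app i)

lemma isPullback_k (i : I) :
    IsPullback (kfst D c y i) (ksnd D c y i) (y ≫ c.π.app i) (y ≫ c.π.app i) :=
  IsPullback.of_hasPullback _ _

lemma k_cond (i : I) : kfst D c y i ≫ y ≫ c.π.app i = ksnd D c y i ≫ y ≫ c.π.app i :=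
  (isPullback_k D c y i).w

lemma k_ext {T : C} {i : I} (a b : T ⟶ (kerDiag D c y).obj i)
    (h1 : a ≫ kfst D c y i = b ≫ kfst D c y i) (h2 : a ≫ ksnd D c y i = b ≫ ksnd D c y i) :
    a = b :=
  (isPullback_k D c y i).hom_ext h1 h2

@[reassoc]
lemma map_kfst {i j : I} (φ : i ⟶ j) : (kerDiag D c y).map φ ≫ kfst D c y j = kfst D c y i :=
  kerMap_fst D c y φ

@[reassoc]
lemma map_ksnd {i j : I} (φ : i ⟶ j) : (kerDiag D c y).map φ ≫ ksnd D c y j = ksnd D c y i :=
  kerMap_snd D c y φ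

@[reassoc]
lemma kdiag_kfst (i : I) : kdiag D c y i ≫ kfst D c y i = 𝟙 Y :=
  pullback.diagonal_fst _

@[reassoc]
lemma kdiag_ksnd (i : I) : kdiag D c y i ≫ ksnd D c y i = 𝟙 Y :=
  pullback.diagonal_snd _

instance mono_kerDiag_map {i j : I} (φ : i ⟶ j) : Mono ((kerDiag D c y).map φ) := by
  constructor
  intro T a b h
  apply k_ext
  · rw [← map_kfst D c y φ, ← Category.assoc, h, Category.assoc]
  · rw [← map_ksnd D c y φ, ← Category.assoc, h, Category.assoc]

instance mono_kdiag (i : I) : Mono (kdiag D c y i) :=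
  mono_of_mono_fac (kdiag_kfst D c y i)

@[reassoc]
lemma kdiag_map {i j : I} (φ : i ⟶ j) :
    kdiag D c y i ≫ (kerDiag D c y).map φ = kdiag D c y j := by
  apply k_ext
  · rw [Category.assoc, map_kfst, kdiag_kfst, kdiag_kfst]
  · rw [Category.assoc, map_ksnd, kdiag_ksnd, kdiag_ksnd]

/-- The cone over the kernel-pair system given by the diagonals. -/
noncomputable def kerCone : Cone (kerDiag D c y) where
  pt := Y
  π :=
    { app := fun i => kdiag D c y i
      naturality := fun i j φ => (Category.id_comp _).trans (kdiag_map D c y φ).symm }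

lemma kerCone_π_app (i : I) : (kerCone D c y).π.app i = kdiag D c y i := rfl

/-- When `y` is a monomorphism into the limit of a cofiltered system, `Y` is the limit of the
kernel-pair system. -/
noncomputable def isLimitKerCone [IsCofiltered I] (hc : IsLimit c) [Mono y] (i₁ : I) :
    IsLimit (kerCone D c y) := by
  have hfst : ∀ (s : Cone (kerDiag D c y)) (i : I),
      s.π.app i ≫ kfst D c y i = s.π.app i₁ ≫ kfst D c y i₁ := by
    intro s i
    have e1 := s.w (IsCofiltered.minToLeft i i₁)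
    have e2 := s.w (IsCofiltered.minToRight i i₁)
    rw [← e1, ← e2, Category.assoc, Category.assoc, map_kfst, map_kfst]
  have hsnd : ∀ (s : Cone (kerDiag D c y)) (i : I),
      s.π.app i ≫ ksnd D c y i = s.π.app i₁ ≫ ksnd D c y i₁ := by
    intro s i
    have e1 := s.w (IsCofiltered.minToLeft i i₁)
    have e2 := s.w (IsCofiltered.minToRight i i₁)
    rw [← e1, ← e2, Category.assoc, Category.assoc, map_ksnd, map_ksnd]
  have heq : ∀ (s : Cone (kerDiag D c y)),
      s.π.app i₁ ≫ kfst D c y i₁ = s.π.app i₁ ≫ ksnd D c y i₁ := by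
    intro s
    rw [← cancel_mono y]
    apply hc.hom_ext
    intro i
    have e1 : (s.π.app i₁ ≫ kfst D c y i₁) ≫ y ≫ c.π.app i =
        (s.π.app i₁ ≫ ksnd D c y i₁) ≫ y ≫ c.π.app i := by
      rw [← hfst s i, ← hsnd s i, Category.assoc, Category.assoc, k_cond]
    simpa only [Category.assoc] using e1
  refine
    { lift := fun s => s.π.app i₁ ≫ kfst D c y i₁
      fac := fun s i => ?_
      uniq := fun s m hm => ?_ }
  · show (s.π.app i₁ ≫ kfst D c y i₁) ≫ kdiag D c y i = s.π.app i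
    apply k_ext
    · rw [Category.assoc, kdiag_kfst, Category.comp_id, hfst s i]
    · rw [Category.assoc, kdiag_ksnd, Category.comp_id, hsnd s i, heq s]
  · obtain ⟨m', hm'def⟩ : ∃ m' : s.pt ⟶ Y, m' = m := ⟨m, rfl⟩
    have hm' : m' ≫ kdiag D c y i₁ = s.π.app i₁ := by rw [hm'def]; exact hm i₁
    show m = s.π.app i₁ ≫ kfst D c y i₁
    rw [← hm', Category.assoc, kdiag_kfst, Category.comp_id, hm'def]

/-- If the diagonal `Y ⟶ Z_i` is an isomorphism, then `Y ⟶ X_i` is a monomorphism. -/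
lemma mono_of_isIso_kdiag (i : I) [IsIso (kdiag D c y i)] : Mono (y ≫ c.π.app i) :=
  (pullback.isIso_diagonal_iff (y ≫ c.π.app i)).1 ‹_›

end cat

section algsp

variable {S : Scheme.{u}}

/-- The diagonal of an affine morphism of sheaves is a closed immersion. -/
theorem repWith_isClosedImmersion_diagonal_of_isAffineMor {F G : Sp S} (f : F ⟶ G)
    (hf : IsAffineMor f) : RepWith @IsClosedImmersion (pullback.diagonal f) := by
  have h := Groth.Agent.S9941.main f hf
  rw [Groth.Agent.Lib.helper15.AlgSpDiag.repWith_diagonal_iff @IsClosedImmersion f h.1]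
  intro U V c p g sq
  haveI : IsAffineHom g.left := h.property c p g sq
  infer_instance

/-- `A ×_T A' ⟶ A ×_{T'} A'` is affine (a closed immersion) when `T ⟶ T'` is affine. -/
theorem repWith_isClosedImmersion_pullback_map {A A' T T' : Sp S} (f : A ⟶ T) (g : A' ⟶ T)
    (i : T ⟶ T') (hi : IsAffineMor i) (f' : A ⟶ T') (g' : A' ⟶ T')
    (hf : f ≫ i = 𝟙 _ ≫ f') (hg : g ≫ i = 𝟙 _ ≫ g') :
    RepWith @IsClosedImmersion (pullback.map f g f' g' (𝟙 _) (𝟙 _) i hf hg) := by
  have hf' : f' = f ≫ i := by rw [hf, Category.id_comp]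
  have hg' : g' = g ≫ i := by rw [hg, Category.id_comp]
  subst hf' hg'
  exact (RepWith (S := S) @IsClosedImmersion).of_isPullback (pullback_map_diagonal_isPullback f g i)
    (repWith_isClosedImmersion_diagonal_of_isAffineMor i hi)

variable {I : Type u} [SmallCategory I] (D : I ⥤ Sp S) (c : Cone D) {Y : Sp S} (y : Y ⟶ c.pt)

theorem repWith_isClosedImmersion_kerDiag_map
    (hDa : ∀ (i j : I) (φ : i ⟶ j), IsAffineMor (D.map φ)) {i j : I} (φ : i ⟶ j) :
    RepWith @IsClosedImmersion ((kerDiag D c y).map φ) :=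
  repWith_isClosedImmersion_pullback_map _ _ _ (hDa i j φ) _ _
    (by rw [Category.id_comp, Category.assoc, c.w]) (by rw [Category.id_comp, Category.assoc, c.w])

theorem isAffineMor_kerDiag_map
    (hDa : ∀ (i j : I) (φ : i ⟶ j), IsAffineMor (D.map φ)) {i j : I} (φ : i ⟶ j) :
    IsAffineMor ((kerDiag D c y).map φ) :=
  Groth.Agent.Lib.helper5.LimSp.isAffineMor_of_repWith' _
    (Groth.Agent.Lib.helper15.AlgSpDiag.repWith_mono_iff_le
      (fun _ _ f hf => by haveI : IsClosedImmersion f := hf; exact (inferInstance : IsAffineHom f))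
      (repWith_isClosedImmersion_kerDiag_map D c y hDa φ))

theorem isAlgSpace_kerDiag_obj (hD : ∀ i, IsAlgSpace (D.obj i)) (hY : IsAlgSpace Y) (i : I) :
    IsAlgSpace ((kerDiag D c y).obj i) :=
  Groth.Agent.Lib.helper5.isAlgSpace_of_isPullback (hD i).diag hY hY (isPullback_k D c y i)

theorem repWith_isClosedImmersion_of_isIso {F G : Sp S} (f : F ⟶ G) [IsIso f] :
    RepWith @IsClosedImmersion f := by
  have h1 : RepWith @IsClosedImmersion (𝟙 G) := (RepWith (S := S) @IsClosedImmersion).id_mem G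
  have sq : IsPullback f f (𝟙 G) (𝟙 G) := IsPullback.of_vert_isIso ⟨by simp⟩
  exact (RepWith (S := S) @IsClosedImmersion).of_isPullback sq.flip h1

/-- When `y` is a monomorphism into the limit of a system with affine transition maps, the diagonal
`Y ⟶ Y ×_{X_i} Y` is a closed immersion. -/
theorem repWith_isClosedImmersion_kdiag [IsCofiltered I] (hc : IsLimit c) [Mono y]
    (hDa : ∀ (i j : I) (φ : i ⟶ j), IsAffineMor (D.map φ)) (i : I) :
    RepWith @IsClosedImmersion (kdiag D c y i) := by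
  have hπ : IsAffineMor (c.π.app i) := Groth.Agent.Lib.helper5.LimSp.isAffineMor_π D c hDa hc i
  have e : kdiag D c y i = pullback.diagonal y ≫ (pullbackDiagonalMapIdIso y y (c.π.app i)).inv ≫
      pullback.snd _ _ := pullback.diagonal_comp y (c.π.app i)
  rw [e]
  haveI : IsIso (pullback.diagonal y) := (pullback.isIso_diagonal_iff y).2 inferInstance
  have h3 : RepWith @IsClosedImmersion
      (pullback.snd (pullback.diagonal (c.π.app i))
        (pullback.map (y ≫ c.π.app i) (y ≫ c.π.app i) (c.π.app i) (c.π.app i) y y (𝟙 _)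
          (Category.comp_id _) (Category.comp_id _))) :=
    (RepWith (S := S) @IsClosedImmersion).of_isPullback (IsPullback.of_hasPullback _ _)
      (repWith_isClosedImmersion_diagonal_of_isAffineMor _ hπ)
  exact (RepWith (S := S) @IsClosedImmersion).comp_mem _ _
    (repWith_isClosedImmersion_of_isIso _)
    ((RepWith (S := S) @IsClosedImmersion).comp_mem _ _ (repWith_isClosedImmersion_of_isIso _) h3)

/-- The fibres over affine schemes of a representable quasi-compact morphism are quasi-compact. -/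
theorem isQuasiCompactSp_pullback_of_repWith {F G : Sp S} (δ : F ⟶ G)
    (hδ : RepWith @QuasiCompact δ) (V : Over S) (v : (yon S).obj V ⟶ G) (hV : IsAffine V.left) :
    IsQuasiCompactSp (pullback δ v) := by
  obtain ⟨E, snd, fst, sq⟩ := hδ.rep v
  haveI : QuasiCompact snd.left := hδ.property v fst snd sq
  haveI : CompactSpace V.left := inferInstance
  haveI : CompactSpace E.left := QuasiCompact.compactSpace_of_compactSpace snd.left
  exact Groth.Agent.Lib.helper5.LimDesc.isQuasiCompactSp_of_iso sq.isoPullback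
    ⟨E, 𝟙 _, (RepWith (S := S) @Etale).id_mem _, (RepWith (S := S) @Surjective).id_mem _,
      inferInstance⟩

end algsp

end Groth.Agent.Lib.helper5.LimMono
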