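import Groth.Prelude
import Groth.Agent.Lib.Helper5.LimSpC

/-!
# Chart diagrams for base changes (helper5)

`chartLift`: given a morphism `f₀ : X₀ ⟶ Y₀` over `B₀` with a chart diagram `h₀ : U₀ ⟶ V₀`
(`v₀ : h_{V₀} ⟶ Y₀` étale surjective, `h_{U₀} ⟶ X₀ ×_{Y₀} h_{V₀}` étale surjective), and a base change
`f' : X' ⟶ Y'` of `f₀` along `β : B' ⟶ B₀`, a scheme `W'` representing `h_{V₀} ×_{B₀} B'` and
`U' = U₀ ×_{V₀} W'` give a chart diagram `u : U' ⟶ W'` of `f'` of the same kind.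
-/

set_option autoImplicit false
universe u
open CategoryTheory CategoryTheory.Limits AlgebraicGeometry Opposite

namespace Groth.Agent.Lib.helper5.LimDesc

open AlgSp

variable {S : Scheme.{u}}

theorem chartLift {B' B₀ X₀ Y₀ X' Y' : Sp S} (β : B' ⟶ B₀) (b₀ : Y₀ ⟶ B₀) (f₀ : X₀ ⟶ Y₀)
    {pY : Y' ⟶ Y₀} {qY : Y' ⟶ B'} (hY : IsPullback pY qY b₀ β)
    {pX : X' ⟶ X₀} {f' : X' ⟶ Y'} (hX : IsPullback pX f' f₀ pY)
    {V₀ U₀ : Over S} (v₀ : (yon S).obj V₀ ⟶ Y₀) (hv₀e : RepWith @Etale v₀)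
    (hv₀s : RepWith @Surjective v₀)
    (a₀ : (yon S).obj U₀ ⟶ X₀) (h₀ : U₀ ⟶ V₀) (comm₀ : a₀ ≫ f₀ = (yon S).map h₀ ≫ v₀)
    (hm₀e : RepWith @Etale (pullback.lift a₀ ((yon S).map h₀) comm₀))
    (hm₀s : RepWith @Surjective (pullback.lift a₀ ((yon S).map h₀) comm₀))
    {W' U' : Over S} (fW : (yon S).obj W' ⟶ B') (sW : W' ⟶ V₀)
    (sqW : IsPullback fW ((yon S).map sW) β (v₀ ≫ b₀))
    (r : U' ⟶ U₀) (u : U' ⟶ W') (sqU : IsPullback r u h₀ sW) :
    ∃ (a : (yon S).obj U' ⟶ X') (b : (yon S).obj W' ⟶ Y') (comm : a ≫ f' = (yon S).map u ≫ b),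
      RepWith @Etale a ∧ RepWith @Surjective a ∧ RepWith @Etale b ∧ RepWith @Surjective b ∧
      RepWith @Etale (pullback.lift a ((yon S).map u) comm) ∧
      RepWith @Surjective (pullback.lift a ((yon S).map u) comm) ∧
      b ≫ pY = (yon S).map sW ≫ v₀ ∧ b ≫ qY = fW ∧ a ≫ pX = (yon S).map r ≫ a₀ := by
  -- the chart of `Y'`
  obtain ⟨b, hb1, hb2⟩ : ∃ b : (yon S).obj W' ⟶ Y', b ≫ pY = (yon S).map sW ≫ v₀ ∧ b ≫ qY = fW :=
    ⟨hY.lift ((yon S).map sW ≫ v₀) fW (by rw [Category.assoc]; exact sqW.w.symm),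
      hY.lift_fst _ _ _, hY.lift_snd _ _ _⟩
  have sqA : IsPullback b ((yon S).map sW) pY v₀ := by
    refine IsPullback.of_right ?_ hb1 hY.flip
    rw [hb2]
    exact sqW
  have hbe : RepWith @Etale b := (RepWith (S := S) @Etale).of_isPullback sqA.flip hv₀e
  have hbs : RepWith @Surjective b := (RepWith (S := S) @Surjective).of_isPullback sqA.flip hv₀s
  -- the chart of `X'`
  have hcomm : ((yon S).map r ≫ a₀) ≫ f₀ = ((yon S).map u ≫ b) ≫ pY := by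
    rw [Category.assoc, comm₀, ← Category.assoc, ← Functor.map_comp, sqU.w, Functor.map_comp,
      Category.assoc, Category.assoc, hb1]
  obtain ⟨a, ha1, ha2⟩ : ∃ a : (yon S).obj U' ⟶ X', a ≫ pX = (yon S).map r ≫ a₀ ∧
      a ≫ f' = (yon S).map u ≫ b :=
    ⟨hX.lift _ _ hcomm, hX.lift_fst _ _ _, hX.lift_snd _ _ _⟩
  -- `P = X' ×_{Y'} h_{W'}` and `X₀' = X₀ ×_{Y₀} h_{V₀}`
  have sqP : IsPullback (pullback.fst f' b) (pullback.snd f' b) f' b := IsPullback.of_hasPullback _ _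
  have sqX₀ : IsPullback (pullback.fst f₀ v₀) (pullback.snd f₀ v₀) f₀ v₀ :=
    IsPullback.of_hasPullback _ _
  have hθc : (pullback.fst f' b ≫ pX) ≫ f₀ = (pullback.snd f' b ≫ (yon S).map sW) ≫ v₀ := by
    rw [Category.assoc, hX.w, ← Category.assoc, sqP.w, Category.assoc, hb1, Category.assoc]
  obtain ⟨θ, hθ1, hθ2⟩ : ∃ θ : pullback f' b ⟶ pullback f₀ v₀,
      θ ≫ pullback.fst f₀ v₀ = pullback.fst f' b ≫ pX ∧
      θ ≫ pullback.snd f₀ v₀ = pullback.snd f' b ≫ (yon S).map sW :=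
    ⟨pullback.lift _ _ hθc, pullback.lift_fst _ _ _, pullback.lift_snd _ _ _⟩
  have sqB : IsPullback θ (pullback.snd f' b) (pullback.snd f₀ v₀) ((yon S).map sW) := by
    refine IsPullback.of_right ?_ hθ2 sqX₀
    rw [hθ1, ← hb1]
    exact sqP.paste_horiz hX
  -- the lift `ã`
  obtain ⟨ã, hã⟩ : ∃ ã : (yon S).obj U' ⟶ pullback f' b, ã = pullback.lift a ((yon S).map u) ha2 :=
    ⟨_, rfl⟩
  have hã1 : ã ≫ pullback.fst f' b = a := by rw [hã]; exact pullback.lift_fst _ _ _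
  have hã2 : ã ≫ pullback.snd f' b = (yon S).map u := by rw [hã]; exact pullback.lift_snd _ _ _
  obtain ⟨m₀, hm₀⟩ : ∃ m₀ : (yon S).obj U₀ ⟶ pullback f₀ v₀,
      m₀ = pullback.lift a₀ ((yon S).map h₀) comm₀ := ⟨_, rfl⟩
  have hm₀1 : m₀ ≫ pullback.fst f₀ v₀ = a₀ := by rw [hm₀]; exact pullback.lift_fst _ _ _
  have hm₀2 : m₀ ≫ pullback.snd f₀ v₀ = (yon S).map h₀ := by rw [hm₀]; exact pullback.lift_snd _ _ _
  have hp : ã ≫ θ = (yon S).map r ≫ m₀ := by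
    apply pullback.hom_ext
    · rw [Category.assoc, hθ1, ← Category.assoc, hã1, ha1, Category.assoc, hm₀1]
    · rw [Category.assoc, hθ2, ← Category.assoc, hã2, ← Functor.map_comp, ← sqU.w, Functor.map_comp,
        Category.assoc, hm₀2]
  have sqC : IsPullback ã ((yon S).map r) θ m₀ := by
    refine IsPullback.of_right ?_ hp sqB.flip
    rw [hã2, hm₀2]
    exact (sqU.map (yon S)).flip
  rw [← hm₀] at hm₀e hm₀s
  have hãe : RepWith @Etale ã := (RepWith (S := S) @Etale).of_isPullback sqC.flip hm₀e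
  have hãs : RepWith @Surjective ã := (RepWith (S := S) @Surjective).of_isPullback sqC.flip hm₀s
  have hπe : RepWith @Etale (pullback.fst f' b) :=
    (RepWith (S := S) @Etale).of_isPullback sqP.flip hbe
  have hπs : RepWith @Surjective (pullback.fst f' b) :=
    (RepWith (S := S) @Surjective).of_isPullback sqP.flip hbs
  refine ⟨a, b, ha2, ?_, ?_, hbe, hbs, ?_, ?_, hb1, hb2, ha1⟩
  · rw [← hã1]; exact (RepWith (S := S) @Etale).comp_mem _ _ hãe hπe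
  · rw [← hã1]; exact (RepWith (S := S) @Surjective).comp_mem _ _ hãs hπs
  · rw [← hã]; exact hãe
  · rw [← hã]; exact hãs

end Groth.Agent.Lib.helper5.LimDesc
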