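import Groth.Prelude
import Groth.Agent.Lib.Helper5.LimDescA
import Groth.Agent.Lib.Helper5.AlgSpFibreProduct
import Groth.Agent.S10180
import Groth.Agent.S9920

/-!
# Descent of properties through cofiltered limits of algebraic spaces: reduction to schemes (helper5)

* `SchDescent P`: the scheme-level statement (affine chart form): for a cofiltered limit `lim E_j` of schemes with affine
  transition maps, an affine stage `E_{j₀}` and a morphism `k₀ : A₀ ⟶ E_{j₀}` locally of finite presentation from an affine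
  scheme, if the base change of `k₀` to the limit has `P` then the base change to some stage has `P`.
* `descend_charts`: the reduction.  In the situation of the rows `AlgSp.descend_*_limit`, if `P` holds for every (good) chart
  diagram of the base change `f` to the limit, then for some stage `i ⟶ i₀` every base change `f_i` has a good chart diagram
  with `P`.
-/

set_option autoImplicit false
universe u
open CategoryTheory CategoryTheory.Limits AlgebraicGeometry Opposite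

namespace Groth.Agent.Lib.helper5.LimDesc

open AlgSp Groth.Agent.Lib.helper5.LimSp

/-- scheme-level descent statement, affine chart form -/
def SchDescent (P : MorphismProperty Scheme.{u}) : Prop :=
  ∀ {J : Type u} [SmallCategory J] [IsCofiltered J] (E : J ⥤ Scheme.{u}) (cE : Cone E) (_ : IsLimit cE)
    [∀ (i j : J) (f : i ⟶ j), IsAffineHom (E.map f)] (j₀ : J) [IsAffine (E.obj j₀)]
    {A₀ : Scheme.{u}} [IsAffine A₀] (k₀ : A₀ ⟶ E.obj j₀) [LocallyOfFinitePresentation k₀]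
    {A : Scheme.{u}} (k : A ⟶ cE.pt) (qA : A ⟶ A₀) (_ : IsPullback qA k k₀ (cE.π.app j₀)), P k →
    ∃ (j : J) (φ : j ⟶ j₀) (Aj : Scheme.{u}) (kj : Aj ⟶ E.obj j) (pA : Aj ⟶ A₀),
      IsPullback pA kj k₀ (E.map φ) ∧ P kj

variable {S : Scheme.{u}}

/-- A good chart diagram of `f` with `P`. -/
def GoodChart (P : MorphismProperty Scheme.{u}) {X Y : Sp S} (f : X ⟶ Y) : Prop :=
  ∃ (U W : Over S) (a : (yon S).obj U ⟶ X) (b : (yon S).obj W ⟶ Y) (u : U ⟶ W)
    (comm : a ≫ f = (yon S).map u ≫ b),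
    RepWith @Etale a ∧ RepWith @Surjective a ∧ RepWith @Etale b ∧ RepWith @Surjective b ∧
    RepWith @Etale (pullback.lift a ((yon S).map u) comm) ∧
    RepWith @Surjective (pullback.lift a ((yon S).map u) comm) ∧ P u.left

theorem isQuasiCompactSp_yon_of_isAffine (V : Over S) [IsAffine V.left] :
    IsQuasiCompactSp ((yon S).obj V) :=
  ⟨V, 𝟙 _, (RepWith (S := S) @Etale).id_mem _, (RepWith (S := S) @Surjective).id_mem _,
    inferInstance⟩

theorem descend_charts [QuasiSeparatedSpace S] {I : Type u} [SmallCategory I] [IsCofiltered I]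
    (D : I ⥤ Sp S) (hDa : ∀ (i j : I) (φ : i ⟶ j), IsAffineMor (D.map φ))
    (c : Cone D) (hc : IsLimit c) (i₀ : I)
    (X₀ Y₀ : Space S) (f₀ : X₀.obj ⟶ Y₀.obj) (b₀ : Y₀.obj ⟶ D.obj i₀)
    (hXqc : IsQuasiCompactSp X₀.obj) (hYqc : IsQuasiCompactSp Y₀.obj) (hYqs : IsQuasiSeparatedSp Y₀.obj)
    (hf₀ : LocP @LocallyOfFinitePresentation f₀)
    (X Y : Sp S) (f : X ⟶ Y) (pY : Y ⟶ Y₀.obj) (qY : Y ⟶ c.pt)
    (hY : IsPullback pY qY b₀ (c.π.app i₀)) (pX : X ⟶ X₀.obj) (hX : IsPullback pX f f₀ pY)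
    (P : MorphismProperty Scheme.{u}) [P.RespectsIso] (hdesc : SchDescent P)
    (Ptop : ∀ {U W : Over S} (a : (yon S).obj U ⟶ X) (b : (yon S).obj W ⟶ Y) (u : U ⟶ W)
      (comm : a ≫ f = (yon S).map u ≫ b), RepWith @Etale a → RepWith @Surjective a →
      RepWith @Etale b → RepWith @Surjective b →
      RepWith @Etale (pullback.lift a ((yon S).map u) comm) →
      RepWith @Surjective (pullback.lift a ((yon S).map u) comm) → P u.left) :
    ∃ (i : I) (φ : i ⟶ i₀), ∀ (Xi Yi : Sp S) (fi : Xi ⟶ Yi) (pYi : Yi ⟶ Y₀.obj) (qYi : Yi ⟶ D.obj i)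
      (_ : IsPullback pYi qYi b₀ (D.map φ)) (pXi : Xi ⟶ X₀.obj) (_ : IsPullback pXi fi f₀ pYi),
      GoodChart P fi := by
  -- an affine chart of `Y₀`
  obtain ⟨V₀, v₀, hV₀, hv₀e, hv₀s⟩ := (Groth.Agent.S10180.result Y₀).1 hYqc
  haveI := hV₀
  have hv₀qc : IsQuasiCompactMor v₀ :=
    Groth.Agent.S9920.result (X := ⟨(yon S).obj V₀, IsAlgSpace.yon_obj V₀⟩) (Y := Y₀)
      (ObjectProperty.homMk v₀) (isQuasiCompactSp_yon_of_isAffine V₀) hYqs
  -- `X₀' = X₀ ×_{Y₀} h_{V₀}`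
  have sqX₀ : IsPullback (pullback.fst f₀ v₀) (pullback.snd f₀ v₀) f₀ v₀ :=
    IsPullback.of_hasPullback _ _
  have hX₀' : IsAlgSpace (pullback f₀ v₀) :=
    isAlgSpace_of_isPullback Y₀.property.diag X₀.property (IsAlgSpace.yon_obj V₀) sqX₀
  have hX₀'qc : IsQuasiCompactSp (pullback f₀ v₀) :=
    hv₀qc X₀.property hXqc f₀ (pullback.snd f₀ v₀) (pullback.fst f₀ v₀) sqX₀.flip
  obtain ⟨U₀, m₀, hU₀, hm₀e, hm₀s⟩ :=
    (Groth.Agent.S10180.result ⟨pullback f₀ v₀, hX₀'⟩).1 hX₀'qc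
  haveI := hU₀
  obtain ⟨h₀, hh₀⟩ := (yon S).map_surjective (m₀ ≫ pullback.snd f₀ v₀)
  obtain ⟨a₀, ha₀⟩ : ∃ a₀ : (yon S).obj U₀ ⟶ X₀.obj, a₀ = m₀ ≫ pullback.fst f₀ v₀ := ⟨_, rfl⟩
  have comm₀ : a₀ ≫ f₀ = (yon S).map h₀ ≫ v₀ := by
    rw [ha₀, hh₀, Category.assoc, Category.assoc, pullback.condition]
  have hm₀eq : pullback.lift a₀ ((yon S).map h₀) comm₀ = m₀ := by
    apply pullback.hom_ext
    · rw [pullback.lift_fst, ha₀]
    · rw [pullback.lift_snd, hh₀]
  have hfste : RepWith @Etale (pullback.fst f₀ v₀) :=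
    (RepWith (S := S) @Etale).of_isPullback sqX₀.flip hv₀e
  have ha₀e : RepWith @Etale a₀ := by
    rw [ha₀]; exact (RepWith (S := S) @Etale).comp_mem _ _ hm₀e hfste
  haveI hh₀lfp : LocallyOfFinitePresentation h₀.left := hf₀ a₀ v₀ h₀ ha₀e hv₀e comm₀
  -- the charts of the limit
  obtain ⟨W, s, f', sq, L, hL, p, hp, sL, fL, hpb, h1, h2, h3, h4, h5, ⟨h6⟩⟩ :=
    exists_chart_limit D c hc i₀ (v₀ ≫ b₀) hDa
  obtain ⟨j₀, hj₀⟩ : ∃ j₀ : Over i₀, j₀ = Over.mk (𝟙 i₀) := ⟨_, rfl⟩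
  haveI hsiso : IsIso (s j₀) := by
    haveI : IsIso (D.map j₀.hom) := by
      subst hj₀
      show IsIso (D.map (𝟙 i₀))
      rw [D.map_id]; infer_instance
    haveI : IsIso ((yon S).map (s j₀)) := (sq j₀).isIso_snd_of_isIso
    exact isIso_of_fully_faithful (yon S) (s j₀)
  -- the terminal maps
  have hterm : ∀ j : Over i₀, ∃ φ : j ⟶ j₀, ∀ ψ : j ⟶ j₀, ψ = φ := by
    intro j
    subst hj₀
    exact ⟨Over.mkIdTerminal.from j, fun ψ => Over.mkIdTerminal.hom_ext _ _⟩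
  choose φt hφt using hterm
  -- the scheme-level diagram
  haveI haffW : ∀ j, IsAffine (W j).left := fun j => by
    haveI := h5 j
    exact isAffine_of_isAffineHom (s j).left
  obtain ⟨k₀, hk₀⟩ : ∃ k₀ : U₀ ⟶ W j₀, k₀ = h₀ ≫ inv (s j₀) := ⟨_, rfl⟩
  have hk₀s : k₀ ≫ s j₀ = h₀ := by rw [hk₀, Category.assoc, IsIso.inv_hom_id, Category.comp_id]
  haveI hk₀lfp : LocallyOfFinitePresentation k₀.left := by
    have : k₀.left = h₀.left ≫ (inv (s j₀)).left := by rw [hk₀]; rfl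
    rw [this]
    haveI : IsIso (inv (s j₀)).left := (Over.forget S).map_isIso (inv (s j₀))
    infer_instance
  -- the squares at the finite levels
  have sqlev : ∀ j : Over i₀, IsPullback (pullback.fst h₀ (s j)).left (pullback.snd h₀ (s j)).left
      k₀.left ((repDiag D i₀ (v₀ ≫ b₀) W s f' sq).map (φt j)).left := by
    intro j
    have e := IsPullback.of_hasPullback h₀ (s j)
    have e1 : IsPullback (pullback.fst h₀ (s j)) (pullback.snd h₀ (s j)) (k₀ ≫ s j₀)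
        ((repDiag D i₀ (v₀ ≫ b₀) W s f' sq).map (φt j) ≫ s j₀) := by
      rw [hk₀s]
      exact (congrArg (fun t => IsPullback (pullback.fst h₀ (s j)) (pullback.snd h₀ (s j)) h₀ t)
        (repDiag_map_s D i₀ (v₀ ≫ b₀) W s f' sq (φt j))).mpr e
    exact ((Groth.Agent.S9888.isPullback_comp_mono_iff (s j₀)).1 e1).map (Over.forget S)
  have sqlim : IsPullback (pullback.fst h₀ sL).left (pullback.snd h₀ sL).left k₀.left (p j₀).left := by
    have e := IsPullback.of_hasPullback h₀ sL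
    have e1 : IsPullback (pullback.fst h₀ sL) (pullback.snd h₀ sL) (k₀ ≫ s j₀) (p j₀ ≫ s j₀) := by
      rw [hk₀s, h1 j₀]
      exact e
    exact ((Groth.Agent.S9888.isPullback_comp_mono_iff (s j₀)).1 e1).map (Over.forget S)
  -- `P` at the limit
  have hPlim : P (pullback.snd h₀ sL).left := by
    obtain ⟨a, b, comm, hae, has, hbe, hbs, hle, hls, -, -, -⟩ :=
      chartLift (c.π.app i₀) b₀ f₀ hY hX v₀ hv₀e hv₀s a₀ h₀ comm₀ (by rw [hm₀eq]; exact hm₀e)
        (by rw [hm₀eq]; exact hm₀s) fL sL hpb (pullback.fst h₀ sL) (pullback.snd h₀ sL)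
        (IsPullback.of_hasPullback h₀ sL)
    exact Ptop a b _ comm hae has hbe hbs hle hls
  -- descent for schemes
  haveI : ∀ (i j : Over i₀) (φ : i ⟶ j),
      IsAffineHom ((repDiag D i₀ (v₀ ≫ b₀) W s f' sq ⋙ Over.forget S).map φ) := fun i j φ => h4 φ
  haveI : IsAffine ((repDiag D i₀ (v₀ ≫ b₀) W s f' sq ⋙ Over.forget S).obj j₀) := haffW j₀
  have sqlim' : IsPullback (pullback.fst h₀ sL).left (pullback.snd h₀ sL).left k₀.left
      (((Over.forget S).mapCone L).π.app j₀) := by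
    have : ((Over.forget S).mapCone L).π.app j₀ = (p j₀).left := by
      rw [hp j₀]; rfl
    rw [this]
    exact sqlim
  haveI : @LocallyOfFinitePresentation U₀.left
      ((repDiag D i₀ (v₀ ≫ b₀) W s f' sq ⋙ Over.forget S).obj j₀) k₀.left := hk₀lfp
  obtain ⟨j, φ, Aj, kj, pA, hsqj, hPj⟩ :=
    hdesc (repDiag D i₀ (v₀ ≫ b₀) W s f' sq ⋙ Over.forget S) ((Over.forget S).mapCone L) h6 j₀
      (A₀ := U₀.left) (k₀.left : U₀.left ⟶ (repDiag D i₀ (v₀ ≫ b₀) W s f' sq ⋙ Over.forget S).obj j₀)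
      (pullback.snd h₀ sL).left (pullback.fst h₀ sL).left sqlim' hPlim
  have hφ : φ = φt j := hφt j φ
  have hPlev : P (pullback.snd h₀ (s j)).left := by
    have hsqj' : IsPullback pA kj k₀.left ((repDiag D i₀ (v₀ ≫ b₀) W s f' sq).map (φt j)).left := by
      rw [← hφ]; exact hsqj
    have e := (sqlev j).isoIsPullback _ _ hsqj'
    have he : ((sqlev j).isoIsPullback _ _ hsqj').hom ≫ kj = (pullback.snd h₀ (s j)).left :=
      IsPullback.isoIsPullback_hom_snd _ _ _ _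
    rw [← he]
    exact (P.cancel_left_of_respectsIso _ _).2 hPj
  refine ⟨j.left, j.hom, ?_⟩
  intro Xi Yi fi pYi qYi hYi pXi hXi
  obtain ⟨a, b, comm, hae, has, hbe, hbs, hle, hls, -, -, -⟩ :=
    chartLift (D.map j.hom) b₀ f₀ hYi hXi v₀ hv₀e hv₀s a₀ h₀ comm₀ (by rw [hm₀eq]; exact hm₀e)
      (by rw [hm₀eq]; exact hm₀s) (f' j) (s j) (sq j) (pullback.fst h₀ (s j)) (pullback.snd h₀ (s j))
      (IsPullback.of_hasPullback h₀ (s j))
  exact ⟨_, _, a, b, _, comm, hae, has, hbe, hbs, hle, hls, hPlev⟩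

end Groth.Agent.Lib.helper5.LimDesc
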