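import Groth.Prelude
import Groth.Agent.Lib.Helper5.LimDescB
import Groth.Agent.Lib.Helper5.AlgSpEtFpqc
import Groth.Agent.S9189
import Groth.Agent.S10534

/-!
# Descent of properties of representable morphisms through cofiltered limits of algebraic spaces (helper5)

* `chartLiftPB`: the pullback form of `chartLift`: when the chart of `f₀` is a pullback square
  (`T₀ = X₀ ×_{Y₀} V₀`), so is the induced chart of every base change.
* `SchDescentFT P`: scheme-level descent statement for morphisms locally of finite type from a quasi-compact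
  quasi-separated scheme to an affine stage.
* `descend_rep`: in the situation of the rows `AlgSp.descend_*_limit`, with `f₀` representable, quasi-compact,
  quasi-separated and locally of finite type: if the base change `f` to the limit has `P` then for some stage
  every base change `f_i` has, after base change to an étale surjective chart, the property `P`.
* `descend_rep_closedImmersion`: the case of closed immersions.
-/

set_option autoImplicit false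
universe u
open CategoryTheory CategoryTheory.Limits AlgebraicGeometry Opposite

namespace Groth.Agent.Lib.helper5.LimDesc

open AlgSp Groth.Agent.Lib.helper5.LimSp

variable {S : Scheme.{u}}

theorem chartLiftPB {B' B₀ X₀ Y₀ X' Y' : Sp S} (β : B' ⟶ B₀) (b₀ : Y₀ ⟶ B₀) (f₀ : X₀ ⟶ Y₀)
    {pY : Y' ⟶ Y₀} {qY : Y' ⟶ B'} (hY : IsPullback pY qY b₀ β)
    {pX : X' ⟶ X₀} {f' : X' ⟶ Y'} (hX : IsPullback pX f' f₀ pY)
    {V₀ T₀ : Over S} (v₀ : (yon S).obj V₀ ⟶ Y₀) (hv₀e : RepWith @Etale v₀)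
    (hv₀s : RepWith @Surjective v₀)
    (a₀ : (yon S).obj T₀ ⟶ X₀) (h₀ : T₀ ⟶ V₀) (sq₀ : IsPullback a₀ ((yon S).map h₀) f₀ v₀)
    {W' U' : Over S} (fW : (yon S).obj W' ⟶ B') (sW : W' ⟶ V₀)
    (sqW : IsPullback fW ((yon S).map sW) β (v₀ ≫ b₀))
    (r : U' ⟶ T₀) (u : U' ⟶ W') (sqU : IsPullback r u h₀ sW) :
    ∃ (a : (yon S).obj U' ⟶ X') (b : (yon S).obj W' ⟶ Y'),
      IsPullback a ((yon S).map u) f' b ∧ RepWith @Etale b ∧ RepWith @Surjective b := by
  obtain ⟨b, hb1, hb2⟩ : ∃ b : (yon S).obj W' ⟶ Y', b ≫ pY = (yon S).map sW ≫ v₀ ∧ b ≫ qY = fW :=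
    ⟨hY.lift ((yon S).map sW ≫ v₀) fW (by rw [Category.assoc]; exact sqW.w.symm),
      hY.lift_fst _ _ _, hY.lift_snd _ _ _⟩
  have sqA : IsPullback b ((yon S).map sW) pY v₀ := by
    refine IsPullback.of_right ?_ hb1 hY.flip
    rw [hb2]
    exact sqW
  have hbe : RepWith @Etale b := (RepWith (S := S) @Etale).of_isPullback sqA.flip hv₀e
  have hbs : RepWith @Surjective b := (RepWith (S := S) @Surjective).of_isPullback sqA.flip hv₀s
  have hcomm : ((yon S).map r ≫ a₀) ≫ f₀ = ((yon S).map u ≫ b) ≫ pY := by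
    rw [Category.assoc, sq₀.w, ← Category.assoc, ← Functor.map_comp, sqU.w, Functor.map_comp,
      Category.assoc, Category.assoc, hb1]
  obtain ⟨a, ha1, ha2⟩ : ∃ a : (yon S).obj U' ⟶ X', a ≫ pX = (yon S).map r ≫ a₀ ∧
      a ≫ f' = (yon S).map u ≫ b :=
    ⟨hX.lift _ _ hcomm, hX.lift_fst _ _ _, hX.lift_snd _ _ _⟩
  refine ⟨a, b, ?_, hbe, hbs⟩
  refine IsPullback.of_right ?_ ha2 hX
  rw [ha1, hb1]
  exact (sqU.map (yon S)).paste_horiz sq₀

/-- scheme-level descent statement, finite type form -/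
def SchDescentFT (P : MorphismProperty Scheme.{u}) : Prop :=
  ∀ {J : Type u} [SmallCategory J] [IsCofiltered J] (E : J ⥤ Scheme.{u}) (cE : Cone E) (_ : IsLimit cE)
    [∀ (i j : J) (f : i ⟶ j), IsAffineHom (E.map f)] (j₀ : J) [IsAffine (E.obj j₀)]
    {A₀ : Scheme.{u}} [CompactSpace A₀] [QuasiSeparatedSpace A₀] (k₀ : A₀ ⟶ E.obj j₀)
    [LocallyOfFiniteType k₀]
    {A : Scheme.{u}} (k : A ⟶ cE.pt) (qA : A ⟶ A₀) (_ : IsPullback qA k k₀ (cE.π.app j₀)), P k →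
    ∃ (j : J) (φ : j ⟶ j₀) (Aj : Scheme.{u}) (kj : Aj ⟶ E.obj j) (pA : Aj ⟶ A₀),
      IsPullback pA kj k₀ (E.map φ) ∧ P kj

theorem schDescentFT_isClosedImmersion : SchDescentFT.{u} @IsClosedImmersion := by
  intro J _ _ E cE hcE _ j₀ _ A₀ _ _ k₀ _ A k qA hA hPk
  have hY : IsPullback (cE.π.app j₀) (𝟙 cE.pt) (𝟙 (E.obj j₀)) (cE.π.app j₀) :=
    IsPullback.of_id_snd
  haveI : IsClosedImmersion k := hPk
  obtain ⟨i, φ, Xi, Yi, fi, gi, pY, pX, h1, h2, h3⟩ :=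
    Groth.Agent.S9189.result E cE hcE j₀ k₀ (𝟙 _) k (𝟙 _) (cE.π.app j₀) qA hY hA
  haveI : IsIso gi := h1.isIso_snd_of_isIso
  refine ⟨i, φ, Xi, fi ≫ gi, pX, ?_,
    (MorphismProperty.cancel_right_of_respectsIso @IsClosedImmersion fi gi).2 h3⟩
  have := h2.paste_vert h1
  rwa [Category.comp_id] at this

theorem descend_rep {I : Type u} [SmallCategory I] [IsCofiltered I]
    (D : I ⥤ Sp S) (hDa : ∀ (i j : I) (φ : i ⟶ j), IsAffineMor (D.map φ))
    (c : Cone D) (hc : IsLimit c) (i₀ : I)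
    (X₀ Y₀ : Space S) (f₀ : X₀.obj ⟶ Y₀.obj) (b₀ : Y₀.obj ⟶ D.obj i₀)
    (hYqc : IsQuasiCompactSp Y₀.obj)
    (hf₀qc : RepWith @QuasiCompact f₀) (hf₀qs : RepWith @QuasiSeparated f₀)
    (hf₀lft : RepWith @LocallyOfFiniteType f₀)
    (X Y : Sp S) (f : X ⟶ Y) (pY : Y ⟶ Y₀.obj) (qY : Y ⟶ c.pt)
    (hY : IsPullback pY qY b₀ (c.π.app i₀)) (pX : X ⟶ X₀.obj) (hX : IsPullback pX f f₀ pY)
    (P : MorphismProperty Scheme.{u}) [P.RespectsIso] (hdesc : SchDescentFT P)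
    (hf : RepWith P f) :
    ∃ (i : I) (φ : i ⟶ i₀), ∀ (Xi Yi : Sp S) (fi : Xi ⟶ Yi) (pYi : Yi ⟶ Y₀.obj) (qYi : Yi ⟶ D.obj i)
      (_ : IsPullback pYi qYi b₀ (D.map φ)) (pXi : Xi ⟶ X₀.obj) (_ : IsPullback pXi fi f₀ pYi),
      ∃ (W T : Over S) (b : (yon S).obj W ⟶ Yi) (a : (yon S).obj T ⟶ Xi) (u : T ⟶ W),
        IsPullback a ((yon S).map u) fi b ∧ RepWith @Etale b ∧ RepWith @Surjective b ∧ P u.left := by
  -- an affine chart of `Y₀`
  obtain ⟨V₀, v₀, hV₀, hv₀e, hv₀s⟩ := (Groth.Agent.S10180.result Y₀).1 hYqc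
  haveI := hV₀
  -- `T₀ = X₀ ×_{Y₀} h_{V₀}`
  obtain ⟨T₀, h₀, a₀, sq₀⟩ := hf₀qc.rep v₀
  haveI hh₀qc : QuasiCompact h₀.left := hf₀qc.property v₀ a₀ h₀ sq₀
  haveI hh₀qs : QuasiSeparated h₀.left := hf₀qs.property v₀ a₀ h₀ sq₀
  haveI hh₀lft : LocallyOfFiniteType h₀.left := hf₀lft.property v₀ a₀ h₀ sq₀
  haveI : CompactSpace V₀.left := inferInstance
  haveI hT₀c : CompactSpace T₀.left := QuasiCompact.compactSpace_of_compactSpace h₀.left
  haveI hT₀qs : QuasiSeparatedSpace T₀.left := quasiSeparatedSpace_of_quasiSeparated h₀.left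
  -- the charts of the limit
  obtain ⟨W, s, f', sq, L, hL, p, hp, sL, fL, hpb, h1, h2, h3, h4, h5, ⟨h6⟩⟩ :=
    exists_chart_limit D c hc i₀ (v₀ ≫ b₀) hDa
  obtain ⟨j₀, hj₀⟩ : ∃ j₀ : Over i₀, j₀ = Over.mk (𝟙 i₀) := ⟨_, rfl⟩
  haveI hsiso : IsIso (s j₀) := by
    haveI : IsIso (D.map j₀.hom) := by
      subst hj₀
      show IsIso (D.map (𝟙 i₀))
      rw [D.map_id]; infer_instance
    haveI : IsIso ((yon S).map (s j₀)) := (sq j₀).isIso_snd_of_isIso
    exact isIso_of_fully_faithful (yon S) (s j₀)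
  -- the terminal maps
  have hterm : ∀ j : Over i₀, ∃ φ : j ⟶ j₀, ∀ ψ : j ⟶ j₀, ψ = φ := by
    intro j
    subst hj₀
    exact ⟨Over.mkIdTerminal.from j, fun ψ => Over.mkIdTerminal.hom_ext _ _⟩
  choose φt hφt using hterm
  -- the scheme-level diagram
  haveI haffW : ∀ j, IsAffine (W j).left := fun j => by
    haveI := h5 j
    exact isAffine_of_isAffineHom (s j).left
  obtain ⟨k₀, hk₀⟩ : ∃ k₀ : T₀ ⟶ W j₀, k₀ = h₀ ≫ inv (s j₀) := ⟨_, rfl⟩
  have hk₀s : k₀ ≫ s j₀ = h₀ := by rw [hk₀, Category.assoc, IsIso.inv_hom_id, Category.comp_id]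
  haveI hk₀lft : LocallyOfFiniteType k₀.left := by
    have : k₀.left = h₀.left ≫ (inv (s j₀)).left := by rw [hk₀]; rfl
    rw [this]
    haveI : IsIso (inv (s j₀)).left := (Over.forget S).map_isIso (inv (s j₀))
    infer_instance
  -- the squares at the finite levels
  have sqlev : ∀ j : Over i₀, IsPullback (pullback.fst h₀ (s j)).left (pullback.snd h₀ (s j)).left
      k₀.left ((repDiag D i₀ (v₀ ≫ b₀) W s f' sq).map (φt j)).left := by
    intro j
    have e := IsPullback.of_hasPullback h₀ (s j)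
    have e1 : IsPullback (pullback.fst h₀ (s j)) (pullback.snd h₀ (s j)) (k₀ ≫ s j₀)
        ((repDiag D i₀ (v₀ ≫ b₀) W s f' sq).map (φt j) ≫ s j₀) := by
      rw [hk₀s]
      exact (congrArg (fun t => IsPullback (pullback.fst h₀ (s j)) (pullback.snd h₀ (s j)) h₀ t)
        (repDiag_map_s D i₀ (v₀ ≫ b₀) W s f' sq (φt j))).mpr e
    exact ((Groth.Agent.S9888.isPullback_comp_mono_iff (s j₀)).1 e1).map (Over.forget S)
  have sqlim : IsPullback (pullback.fst h₀ sL).left (pullback.snd h₀ sL).left k₀.left (p j₀).left := by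
    have e := IsPullback.of_hasPullback h₀ sL
    have e1 : IsPullback (pullback.fst h₀ sL) (pullback.snd h₀ sL) (k₀ ≫ s j₀) (p j₀ ≫ s j₀) := by
      rw [hk₀s, h1 j₀]
      exact e
    exact ((Groth.Agent.S9888.isPullback_comp_mono_iff (s j₀)).1 e1).map (Over.forget S)
  -- `P` at the limit
  have hPlim : P (pullback.snd h₀ sL).left := by
    obtain ⟨a, b, sqab, -, -⟩ :=
      chartLiftPB (c.π.app i₀) b₀ f₀ hY hX v₀ hv₀e hv₀s a₀ h₀ sq₀ fL sL hpb
        (pullback.fst h₀ sL) (pullback.snd h₀ sL) (IsPullback.of_hasPullback h₀ sL)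
    exact hf.property b a _ sqab
  -- descent for schemes
  haveI : ∀ (i j : Over i₀) (φ : i ⟶ j),
      IsAffineHom ((repDiag D i₀ (v₀ ≫ b₀) W s f' sq ⋙ Over.forget S).map φ) := fun i j φ => h4 φ
  haveI : IsAffine ((repDiag D i₀ (v₀ ≫ b₀) W s f' sq ⋙ Over.forget S).obj j₀) := haffW j₀
  have sqlim' : IsPullback (pullback.fst h₀ sL).left (pullback.snd h₀ sL).left k₀.left
      (((Over.forget S).mapCone L).π.app j₀) := by
    have : ((Over.forget S).mapCone L).π.app j₀ = (p j₀).left := by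
      rw [hp j₀]; rfl
    rw [this]
    exact sqlim
  haveI : @LocallyOfFiniteType T₀.left
      ((repDiag D i₀ (v₀ ≫ b₀) W s f' sq ⋙ Over.forget S).obj j₀) k₀.left := hk₀lft
  obtain ⟨j, φ, Aj, kj, pA, hsqj, hPj⟩ :=
    hdesc (repDiag D i₀ (v₀ ≫ b₀) W s f' sq ⋙ Over.forget S) ((Over.forget S).mapCone L) h6 j₀
      (A₀ := T₀.left) (k₀.left : T₀.left ⟶ (repDiag D i₀ (v₀ ≫ b₀) W s f' sq ⋙ Over.forget S).obj j₀)
      (pullback.snd h₀ sL).left (pullback.fst h₀ sL).left sqlim' hPlim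
  have hφ : φ = φt j := hφt j φ
  have hPlev : P (pullback.snd h₀ (s j)).left := by
    have hsqj' : IsPullback pA kj k₀.left ((repDiag D i₀ (v₀ ≫ b₀) W s f' sq).map (φt j)).left := by
      rw [← hφ]; exact hsqj
    have e := (sqlev j).isoIsPullback _ _ hsqj'
    have he : ((sqlev j).isoIsPullback _ _ hsqj').hom ≫ kj = (pullback.snd h₀ (s j)).left :=
      IsPullback.isoIsPullback_hom_snd _ _ _ _
    rw [← he]
    exact (P.cancel_left_of_respectsIso _ _).2 hPj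
  refine ⟨j.left, j.hom, ?_⟩
  intro Xi Yi fi pYi qYi hYi pXi hXi
  obtain ⟨a, b, sqab, hbe, hbs⟩ :=
    chartLiftPB (D.map j.hom) b₀ f₀ hYi hXi v₀ hv₀e hv₀s a₀ h₀ sq₀ (f' j) (s j) (sq j)
      (pullback.fst h₀ (s j)) (pullback.snd h₀ (s j)) (IsPullback.of_hasPullback h₀ (s j))
  exact ⟨_, _, b, a, _, sqab, hbe, hbs, hPlev⟩

/-- Closed immersions descend through cofiltered limits of algebraic spaces with affine transition maps, for
representable morphisms `f₀` which are quasi-compact, quasi-separated and locally of finite type. -/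
theorem descend_rep_closedImmersion {I : Type u} [SmallCategory I] [IsCofiltered I]
    (D : I ⥤ Sp S) (hD : ∀ i, IsAlgSpace (D.obj i))
    (hDa : ∀ (i j : I) (φ : i ⟶ j), IsAffineMor (D.map φ))
    (c : Cone D) (hc : IsLimit c) (i₀ : I)
    (X₀ Y₀ : Space S) (f₀ : X₀.obj ⟶ Y₀.obj) (b₀ : Y₀.obj ⟶ D.obj i₀)
    (hYqc : IsQuasiCompactSp Y₀.obj)
    (hf₀qc : RepWith @QuasiCompact f₀) (hf₀qs : RepWith @QuasiSeparated f₀)
    (hf₀lft : RepWith @LocallyOfFiniteType f₀)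
    (X Y : Sp S) (f : X ⟶ Y) (pY : Y ⟶ Y₀.obj) (qY : Y ⟶ c.pt)
    (hY : IsPullback pY qY b₀ (c.π.app i₀)) (pX : X ⟶ X₀.obj) (hX : IsPullback pX f f₀ pY)
    (hf : RepWith @IsClosedImmersion f) :
    ∃ (i : I) (φ : i ⟶ i₀), ∀ (Xi Yi : Sp S) (fi : Xi ⟶ Yi) (pYi : Yi ⟶ Y₀.obj) (qYi : Yi ⟶ D.obj i)
      (_ : IsPullback pYi qYi b₀ (D.map φ)) (pXi : Xi ⟶ X₀.obj) (_ : IsPullback pXi fi f₀ pYi),
      RepWith @IsClosedImmersion fi := by
  obtain ⟨i, φ, h⟩ := descend_rep D hDa c hc i₀ X₀ Y₀ f₀ b₀ hYqc hf₀qc hf₀qs hf₀lft X Y f pY qY hY pX hX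
    @IsClosedImmersion schDescentFT_isClosedImmersion hf
  refine ⟨i, φ, fun Xi Yi fi pYi qYi hYi pXi hXi => ?_⟩
  obtain ⟨W, T, b, a, u, sqab, hbe, hbs, hu⟩ := h Xi Yi fi pYi qYi hYi pXi hXi
  have hYi' : IsAlgSpace Yi :=
    Groth.Agent.Lib.helper5.isAlgSpace_of_isPullback (hD i₀).diag Y₀.property (hD i) hYi
  have hXi' : IsAlgSpace Xi :=
    Groth.Agent.Lib.helper5.isAlgSpace_of_isPullback Y₀.property.diag X₀.property hYi' hXi
  have hcov := Groth.Agent.Lib.helper5.EtFpqc.isFpqcCover_of_chart hYi' W b hbe hbs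
  exact (Groth.Agent.S10534.result S (ι := PUnit.{u + 1})
    (fun _ => (yon S).obj W) (fun _ => b)
    hYi' (fun _ => IsAlgSpace.yon_obj _) hcov fi hXi'
    (fun _ => (yon S).obj T) (fun _ => (yon S).map u)
    (fun _ => a) (fun _ => IsAlgSpace.yon_obj T) (fun _ => sqab)).2
    (fun _ => (repWith_yon_map_iff @IsClosedImmersion _).2 hu)

end Groth.Agent.Lib.helper5.LimDesc
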