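import Mathlib

/-!
# The base change of a system over `Y` along `g : X ⟶ Y` (helper5)

For `D : I ⥤ C` with `t : D ⟶ const Y` and `g : X ⟶ Y`: the system `i ↦ D i ×_Y X` (`bcDiag`), its cone
`bcCone` over a cone `c` of `D` (with apex `c.pt ×_Y X`), which is a limit cone when `c` is and `I` is cofiltered.
Also category-level lemmas on graphs and diagonals used for separatedness in limits.
-/

set_option autoImplicit false
universe v u
open CategoryTheory CategoryTheory.Limits

namespace Groth.Agent.Lib.helper5.LimSep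

section cat

variable {C : Type u} [Category.{v} C] [HasPullbacks C] {I : Type*} [Category I]
  (D : I ⥤ C) {Y X : C} (t : D ⟶ (Functor.const I).obj Y) (g : X ⟶ Y)

/-- The diagram `i ↦ D i ×_Y X`. -/
noncomputable abbrev bcDiag : I ⥤ C := Over.lift D t ⋙ Over.pullback g ⋙ Over.forget X

lemma bcDiag_obj (i : I) : (bcDiag D t g).obj i = pullback (t.app i) g := rfl

/-- first projection of `D i ×_Y X` -/
noncomputable def bcFst (i : I) : (bcDiag D t g).obj i ⟶ D.obj i := pullback.fst (t.app i) g

/-- second projection of `D i ×_Y X` -/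
noncomputable def bcSnd (i : I) : (bcDiag D t g).obj i ⟶ X := pullback.snd (t.app i) g

lemma isPullback_bc (i : I) : IsPullback (bcFst D t g i) (bcSnd D t g i) (t.app i) g :=
  IsPullback.of_hasPullback _ _

lemma bc_ext {T : C} {i : I} (a b : T ⟶ (bcDiag D t g).obj i)
    (h1 : a ≫ bcFst D t g i = b ≫ bcFst D t g i) (h2 : a ≫ bcSnd D t g i = b ≫ bcSnd D t g i) :
    a = b :=
  (isPullback_bc D t g i).hom_ext h1 h2

@[reassoc]
lemma bcDiag_map_fst {i j : I} (φ : i ⟶ j) :
    (bcDiag D t g).map φ ≫ bcFst D t g j = bcFst D t g i ≫ D.map φ := by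
  simp only [bcDiag, Over.pullback, Functor.comp_map, Over.forget_map, Over.homMk_left]
  exact pullback.lift_fst _ _ _

@[reassoc]
lemma bcDiag_map_snd {i j : I} (φ : i ⟶ j) :
    (bcDiag D t g).map φ ≫ bcSnd D t g j = bcSnd D t g i := by
  simp only [bcDiag, Over.pullback, Functor.comp_map, Over.forget_map, Over.homMk_left]
  exact pullback.lift_snd _ _ _

/-- the transition maps of `bcDiag` are base changes of those of `D` -/
lemma isPullback_bcDiag_map {i j : I} (φ : i ⟶ j) :
    IsPullback ((bcDiag D t g).map φ) (bcFst D t g i) (bcFst D t g j) (D.map φ) := by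
  refine IsPullback.of_right ?_ (bcDiag_map_fst D t g φ) (isPullback_bc D t g j).flip
  rw [bcDiag_map_snd]
  have e : D.map φ ≫ t.app j = t.app i := by
    have := t.naturality φ
    simp only [Functor.const_obj_obj, Functor.const_obj_map, Category.comp_id] at this
    exact this
  rw [e]
  exact (isPullback_bc D t g i).flip

/-- the natural transformation `bcDiag ⟶ const X` -/
noncomputable def bcNat : bcDiag D t g ⟶ (Functor.const I).obj X where
  app i := bcSnd D t g i
  naturality i j φ := by
    rw [bcDiag_map_snd]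
    simp

lemma bcNat_app (i : I) : (bcNat D t g).app i = bcSnd D t g i := rfl

variable (c : Cone D) (p : c.pt ⟶ Y) (hp : ∀ j, c.π.app j ≫ t.app j = p)

/-- The cone over `bcDiag` with apex `c.pt ×_Y X`. -/
noncomputable abbrev bcCone : Cone (bcDiag D t g) :=
  (Over.forget X).mapCone ((Over.pullback g).mapCone (Over.liftCone D t c p hp))

lemma bcCone_pt : (bcCone D t g c p hp).pt = pullback p g := rfl

/-- For a limit cone `c`, the cone `bcCone` is a limit cone. -/
noncomputable def bcConeIsLimit [IsCofiltered I] (hc : IsLimit c) : IsLimit (bcCone D t g c p hp) := by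
  haveI : IsConnected I := IsCofiltered.isConnected _
  haveI : Nonempty I := IsCofiltered.nonempty
  haveI : PreservesLimitsOfSize.{u, u} (Over.pullback g) :=
    (Over.mapPullbackAdj g).rightAdjoint_preservesLimits
  exact isLimitOfPreserves (Over.forget X)
    (isLimitOfPreserves (Over.pullback g) (Over.isLimitLiftCone D t c p hp hc))

@[reassoc]
lemma bcCone_π_fst (i : I) :
    (bcCone D t g c p hp).π.app i ≫ bcFst D t g i = pullback.fst p g ≫ c.π.app i := by
  simp only [bcCone, Over.pullback, Functor.mapCone_π_app, Over.forget_map, Over.homMk_left]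
  exact pullback.lift_fst _ _ _

@[reassoc]
lemma bcCone_π_snd (i : I) :
    (bcCone D t g c p hp).π.app i ≫ bcSnd D t g i = pullback.snd p g := by
  simp only [bcCone, Over.pullback, Functor.mapCone_π_app, Over.forget_map, Over.homMk_left]
  exact pullback.lift_snd _ _ _

/-- the projections of `bcCone`, as morphisms between the chosen pullbacks -/
noncomputable def bcπ (i : I) : pullback p g ⟶ pullback (t.app i) g :=
  (bcCone D t g c p hp).π.app i

lemma bcCone_π_app (i : I) : (bcCone D t g c p hp).π.app i = bcπ D t g c p hp i := rfl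

@[reassoc]
lemma bcπ_fst (i : I) :
    bcπ D t g c p hp i ≫ pullback.fst (t.app i) g = pullback.fst p g ≫ c.π.app i :=
  bcCone_π_fst D t g c p hp i

@[reassoc]
lemma bcπ_snd (i : I) :
    bcπ D t g c p hp i ≫ pullback.snd (t.app i) g = pullback.snd p g :=
  bcCone_π_snd D t g c p hp i

end cat

section graph

variable {C : Type u} [Category.{v} C] [HasPullbacks C] {A B Y : C} (φ : A ⟶ B) (tB : B ⟶ Y)

/-- the graph `A ⟶ B ×_Y A` of `φ : A ⟶ B` over `Y` -/
noncomputable def graph : A ⟶ pullback tB (φ ≫ tB) :=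
  pullback.lift φ (𝟙 A) (by rw [Category.id_comp])

@[reassoc]
lemma graph_fst : graph φ tB ≫ pullback.fst tB (φ ≫ tB) = φ := pullback.lift_fst _ _ _

@[reassoc]
lemma graph_snd : graph φ tB ≫ pullback.snd tB (φ ≫ tB) = 𝟙 A := pullback.lift_snd _ _ _

/-- `B ×_Y A ⟶ B ×_Y B` -/
noncomputable def prodMapR : pullback tB (φ ≫ tB) ⟶ pullback tB tB :=
  pullback.map tB (φ ≫ tB) tB tB (𝟙 _) φ (𝟙 _) (by rw [Category.comp_id, Category.id_comp])
    (by rw [Category.comp_id])

@[reassoc]
lemma prodMapR_fst : prodMapR φ tB ≫ pullback.fst tB tB = pullback.fst tB (φ ≫ tB) := by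
  unfold prodMapR pullback.map
  rw [pullback.lift_fst, Category.comp_id]

@[reassoc]
lemma prodMapR_snd : prodMapR φ tB ≫ pullback.snd tB tB = pullback.snd tB (φ ≫ tB) ≫ φ := by
  unfold prodMapR pullback.map
  rw [pullback.lift_snd]

lemma isPullback_prodMapR_snd :
    IsPullback (prodMapR φ tB) (pullback.snd tB (φ ≫ tB)) (pullback.snd tB tB) φ := by
  refine IsPullback.of_right ?_ (prodMapR_snd φ tB) (IsPullback.of_hasPullback tB tB)
  rw [prodMapR_fst]
  exact IsPullback.of_hasPullback tB (φ ≫ tB)

lemma isPullback_graph :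
    IsPullback φ (graph φ tB) (pullback.diagonal tB) (prodMapR φ tB) := by
  have comm : φ ≫ pullback.diagonal tB = graph φ tB ≫ prodMapR φ tB := by
    apply pullback.hom_ext
    · simp only [Category.assoc, prodMapR_fst, graph_fst, pullback.diagonal_fst, Category.comp_id]
    · simp only [Category.assoc, prodMapR_snd, graph_snd_assoc, pullback.diagonal_snd,
        Category.comp_id]
  refine IsPullback.of_bot ?_ comm (isPullback_prodMapR_snd φ tB)
  rw [graph_snd, pullback.diagonal_snd]
  exact IsPullback.of_vert_isIso ⟨by simp⟩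

/-- `A ×_B A ⟶ A ×_Y A` -/
noncomputable def kerIncl : pullback φ φ ⟶ pullback (φ ≫ tB) (φ ≫ tB) :=
  pullback.map φ φ (φ ≫ tB) (φ ≫ tB) (𝟙 _) (𝟙 _) tB (by rw [Category.id_comp])
    (by rw [Category.id_comp])

@[reassoc]
lemma kerIncl_fst : kerIncl φ tB ≫ pullback.fst (φ ≫ tB) (φ ≫ tB) = pullback.fst φ φ := by
  unfold kerIncl pullback.map
  rw [pullback.lift_fst, Category.comp_id]

@[reassoc]
lemma kerIncl_snd : kerIncl φ tB ≫ pullback.snd (φ ≫ tB) (φ ≫ tB) = pullback.snd φ φ := by
  unfold kerIncl pullback.map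
  rw [pullback.lift_snd, Category.comp_id]

/-- `A ×_Y A ⟶ B ×_Y A` -/
noncomputable def prodMapL : pullback (φ ≫ tB) (φ ≫ tB) ⟶ pullback tB (φ ≫ tB) :=
  pullback.map (φ ≫ tB) (φ ≫ tB) tB (φ ≫ tB) φ (𝟙 _) (𝟙 _) (by rw [Category.comp_id])
    (by rw [Category.comp_id, Category.id_comp])

@[reassoc]
lemma prodMapL_fst :
    prodMapL φ tB ≫ pullback.fst tB (φ ≫ tB) = pullback.fst (φ ≫ tB) (φ ≫ tB) ≫ φ := by
  unfold prodMapL pullback.map
  rw [pullback.lift_fst]

@[reassoc]
lemma prodMapL_snd :
    prodMapL φ tB ≫ pullback.snd tB (φ ≫ tB) = pullback.snd (φ ≫ tB) (φ ≫ tB) := by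
  unfold prodMapL pullback.map
  rw [pullback.lift_snd, Category.comp_id]

lemma isPullback_prodMapL_fst :
    IsPullback (pullback.fst (φ ≫ tB) (φ ≫ tB)) (prodMapL φ tB) φ (pullback.fst tB (φ ≫ tB)) := by
  refine IsPullback.of_bot ?_ (prodMapL_fst φ tB).symm (IsPullback.of_hasPullback tB (φ ≫ tB))
  rw [prodMapL_snd]
  exact IsPullback.of_hasPullback (φ ≫ tB) (φ ≫ tB)

lemma isPullback_kerIncl :
    IsPullback (pullback.snd φ φ) (kerIncl φ tB) (graph φ tB) (prodMapL φ tB) := by
  have comm : pullback.snd φ φ ≫ graph φ tB = kerIncl φ tB ≫ prodMapL φ tB := by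
    apply pullback.hom_ext
    · simp only [Category.assoc, prodMapL_fst, kerIncl_fst_assoc, graph_fst, pullback.condition]
    · simp only [Category.assoc, prodMapL_snd, kerIncl_snd, graph_snd, Category.comp_id]
  refine IsPullback.of_bot ?_ comm (isPullback_prodMapL_fst φ tB).flip
  rw [kerIncl_fst, graph_fst]
  exact (IsPullback.of_hasPullback φ φ).flip

lemma diagonal_eq : pullback.diagonal (φ ≫ tB) = pullback.diagonal φ ≫ kerIncl φ tB := by
  apply pullback.hom_ext
  · rw [pullback.diagonal_fst, Category.assoc, kerIncl_fst, pullback.diagonal_fst]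
  · rw [pullback.diagonal_snd, Category.assoc, kerIncl_snd, pullback.diagonal_snd]

end graph

end Groth.Agent.Lib.helper5.LimSep
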