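import Groth.Prelude
import Groth.Agent.Lib.Helper5.LimSepA
import Groth.Agent.Lib.Helper5.LimRepA
import Groth.Agent.Lib.Helper5.LimMonoA
import Groth.Agent.Lib.Helper1.Diagonal
import Groth.Agent.S10009
import Groth.Agent.S10271
import Groth.Agent.S9920

/-!
# Separatedness in cofiltered limits of algebraic spaces (helper5)

* `isAffineMor_of_isPullback`: affine morphisms of sheaves are stable under base change.
* `isSeparatedMor_of_graph`: for `φ : A ⟶ B` affine and `t_B : B ⟶ Y`, if the graph `A ⟶ B ×_Y A` is a closed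
  immersion then `A ⟶ Y` is separated.
* `isSeparatedMor_comp_of_isAffineMor`: affine followed by separated is separated.
* `exists_graph_closedImmersion`: for `X = lim X_i` over `Y` with `X ⟶ Y` separated, the graph `X ⟶ X_i ×_Y X` is a
  closed immersion for large `i`.
* `exists_isSeparatedMor_stage`: then `X_j ⟶ Y` is separated for some `j`.
-/

set_option autoImplicit false
universe u
open CategoryTheory CategoryTheory.Limits AlgebraicGeometry Opposite

namespace Groth.Agent.Lib.helper5.LimSep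

open AlgSp Groth.Agent.Lib.helper5.LimSp

variable {S : Scheme.{u}}

/-- Affine morphisms of sheaves are stable under base change. -/
theorem isAffineMor_of_isPullback {F G F' G' : Sp S} {f' : F' ⟶ G'} {p : F' ⟶ F} {q : G' ⟶ G}
    {f : F ⟶ G} (sq : IsPullback p f' f q) (hf : IsAffineMor f) : IsAffineMor f' :=
  isAffineMor_of_repWith' f'
    ((RepWith (S := S) @IsAffineHom).of_isPullback sq (Groth.Agent.S9941.main f hf))

/-- If the graph of an affine `φ : A ⟶ B` over `Y` is a closed immersion, then `A ⟶ Y` is separated. -/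
theorem isSeparatedMor_of_graph {A B Y : Sp S} (φ : A ⟶ B) (tB : B ⟶ Y) (hφ : IsAffineMor φ)
    (hΓ : RepWith @IsClosedImmersion (graph φ tB)) : IsSeparatedMor (φ ≫ tB) := by
  unfold IsSeparatedMor
  rw [diagonal_eq φ tB]
  exact (RepWith (S := S) @IsClosedImmersion).comp_mem _ _
    (Groth.Agent.Lib.helper5.LimMono.repWith_isClosedImmersion_diagonal_of_isAffineMor φ hφ)
    ((RepWith (S := S) @IsClosedImmersion).of_isPullback (isPullback_kerIncl φ tB) hΓ)

/-- An affine morphism followed by a separated morphism is separated. -/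
theorem isSeparatedMor_comp_of_isAffineMor {A B Y : Sp S} (φ : A ⟶ B) (tB : B ⟶ Y)
    (hφ : IsAffineMor φ) (h : IsSeparatedMor tB) : IsSeparatedMor (φ ≫ tB) := by
  unfold IsSeparatedMor
  rw [diagonal_eq φ tB]
  refine (RepWith (S := S) @IsClosedImmersion).comp_mem _ _
    (Groth.Agent.Lib.helper5.LimMono.repWith_isClosedImmersion_diagonal_of_isAffineMor φ hφ) ?_
  exact (RepWith (S := S) @IsClosedImmersion).of_isPullback (pullback_map_diagonal_isPullback φ φ tB) h

/-- A limit of quasi-compact algebraic spaces with affine transition maps is quasi-compact. -/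
theorem isQuasiCompactSp_limit {I : Type u} [SmallCategory I] [IsCofiltered I]
    (D : I ⥤ Sp S) (hD : ∀ i, IsAlgSpace (D.obj i))
    (hDa : ∀ (i j : I) (φ : i ⟶ j), IsAffineMor (D.map φ))
    (c : Cone D) (hc : IsLimit c) (i₁ : I) (hqc : IsQuasiCompactSp (D.obj i₁)) :
    IsQuasiCompactSp c.pt := by
  have hcpt : IsAlgSpace c.pt := isAlgSpace_limit D c hD hDa hc
  have hπ : IsAffineMor (c.π.app i₁) := isAffineMor_π D c hDa hc i₁
  have hπqc : IsQuasiCompactMor (c.π.app i₁) :=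
    Groth.Agent.S10271.isQuasiCompactMor_of_isAffineMor (X := ⟨c.pt, hcpt⟩) (Y := ⟨D.obj i₁, hD i₁⟩)
      (ObjectProperty.homMk (c.π.app i₁)) hπ
  exact hπqc (hD i₁) hqc (𝟙 _) (𝟙 _) (c.π.app i₁) (IsPullback.of_horiz_isIso ⟨by simp⟩)

/-- For `X = lim X_i` over `Y` with `X ⟶ Y` separated, the graph `X ⟶ X_i ×_Y X` is a closed immersion for
large `i`. -/
theorem exists_graph_closedImmersion [QuasiSeparatedSpace S] {I : Type u} [SmallCategory I]
    [IsCofiltered I] (Y : Space S) (D : I ⥤ Sp S) (hD : ∀ i, IsAlgSpace (D.obj i))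
    (t : D ⟶ (Functor.const I).obj Y.obj)
    (hDa : ∀ (i j : I) (φ : i ⟶ j), IsAffineMor (D.map φ))
    (c : Cone D) (hc : IsLimit c)
    (hqc : ∀ i, IsQuasiCompactSp (D.obj i)) (hYqs : IsQuasiSeparatedSp Y.obj) (i₁ : I)
    (hX : IsSeparatedMor (c.π.app i₁ ≫ t.app i₁)) :
    ∃ i₀ : I, RepWith @IsClosedImmersion (graph (c.π.app i₀) (t.app i₀)) := by
  obtain ⟨g, hgdef⟩ : ∃ g : c.pt ⟶ Y.obj, g = c.π.app i₁ ≫ t.app i₁ := ⟨_, rfl⟩
  have hg : ∀ i, c.π.app i ≫ t.app i = g := by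
    intro i
    rw [hgdef]
    have e1 := t.naturality (IsCofiltered.minToLeft i i₁)
    have e2 := t.naturality (IsCofiltered.minToRight i i₁)
    simp only [Functor.const_obj_obj, Functor.const_obj_map, Category.comp_id] at e1 e2
    rw [← c.w (IsCofiltered.minToLeft i i₁), ← c.w (IsCofiltered.minToRight i i₁), Category.assoc,
      Category.assoc, e1, e2]
  rw [← hgdef] at hX
  have hcpt : IsAlgSpace c.pt := isAlgSpace_limit D c hD hDa hc
  have hcptqc : IsQuasiCompactSp c.pt := isQuasiCompactSp_limit D hD hDa c hc i₁ (hqc i₁)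
  -- the base-changed system
  have hD' : ∀ i, IsAlgSpace ((bcDiag D t g).obj i) := fun i =>
    Groth.Agent.Lib.helper5.isAlgSpace_of_isPullback Y.property.diag (hD i) hcpt (isPullback_bc D t g i)
  have hDa' : ∀ (i j : I) (φ : i ⟶ j), IsAffineMor ((bcDiag D t g).map φ) := fun i j φ =>
    isAffineMor_of_isPullback (isPullback_bcDiag_map D t g φ).flip (hDa i j φ)
  have hqc' : ∀ i, IsQuasiCompactSp ((bcDiag D t g).obj i) := by
    intro i
    have hti : IsQuasiCompactMor (t.app i) :=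
      Groth.Agent.S9920.main (hD i) Y.property (t.app i) (hqc i) hYqs
    exact hti hcpt hcptqc g (bcFst D t g i) (bcSnd D t g i) (isPullback_bc D t g i)
  have hlim : IsLimit (bcCone D t g c g hg) := bcConeIsLimit D t g c g hg hc
  -- the diagonal
  have e : pullback.diagonal g ≫ bcπ D t g c g hg i₁ ≫ pullback.snd (t.app i₁) g = 𝟙 c.pt := by
    rw [bcπ_snd, pullback.diagonal_snd]
  have hYB : LocP @LocallyOfFiniteType
      (pullback.diagonal g ≫ bcπ D t g c g hg i₁ ≫ pullback.snd (t.app i₁) g) := by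
    rw [e]
    exact Groth.Agent.H1.Diagonal.locP_id_of_etale
      (fun f hf => by have := hf; exact (inferInstance : LocallyOfFiniteType f)) c.pt
  obtain ⟨i₀, hi₀⟩ := Groth.Agent.S10009.result S ⟨c.pt, hcpt⟩ (bcDiag D t g) hD' (bcNat D t g) hDa'
    (bcCone D t g c g hg) hlim hqc' ⟨c.pt, hcpt⟩ (pullback.diagonal g) hX i₁ hYB
  refine ⟨i₀, ?_⟩
  have h : RepWith @IsClosedImmersion (pullback.diagonal g ≫ bcπ D t g c g hg i₀) := hi₀ i₀ (𝟙 _)
  have hg₀ := hg i₀
  subst hg₀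
  have e' : pullback.diagonal (c.π.app i₀ ≫ t.app i₀) ≫
      bcπ D t (c.π.app i₀ ≫ t.app i₀) c (c.π.app i₀ ≫ t.app i₀) hg i₀ =
        graph (c.π.app i₀) (t.app i₀) := by
    apply pullback.hom_ext
    · rw [Category.assoc, bcπ_fst, pullback.diagonal_fst_assoc]
      exact (graph_fst _ _).symm
    · rw [Category.assoc, bcπ_snd, pullback.diagonal_snd]
      exact (graph_snd _ _).symm
  rw [← e']
  exact h

/-- If the graph `X ⟶ X_{i₁} ×_Y X` is a closed immersion, then `X_j ⟶ Y` is separated for some `j ⟶ i₁`. -/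
theorem exists_isSeparatedMor_of_graph [QuasiSeparatedSpace S] {I : Type u} [SmallCategory I]
    [IsCofiltered I] (Y : Space S) (D : I ⥤ Sp S) (hD : ∀ i, IsAlgSpace (D.obj i))
    (t : D ⟶ (Functor.const I).obj Y.obj)
    (hDa : ∀ (i j : I) (φ : i ⟶ j), IsAffineMor (D.map φ))
    (c : Cone D) (hc : IsLimit c) (hYqs : IsQuasiSeparatedSp Y.obj) (i₁ : I)
    (hqc : IsQuasiCompactSp (D.obj i₁)) (hqs : IsQuasiSeparatedSp (D.obj i₁))
    (hΓ : RepWith @IsClosedImmersion (graph (c.π.app i₁) (t.app i₁))) :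
    ∃ (j : I) (φ : j ⟶ i₁), IsSeparatedMor (D.map φ ≫ t.app i₁) := by
  obtain ⟨t₁, ht₁⟩ : ∃ t₁ : D.obj i₁ ⟶ Y.obj, t₁ = t.app i₁ := ⟨_, rfl⟩
  rw [← ht₁] at hΓ
  have sqZ₀ : IsPullback (pullback.fst t₁ t₁) (pullback.snd t₁ t₁) t₁ t₁ := IsPullback.of_hasPullback _ _
  have hZ₀ : IsAlgSpace (pullback t₁ t₁) :=
    Groth.Agent.Lib.helper5.isAlgSpace_of_isPullback Y.property.diag (hD i₁) (hD i₁) sqZ₀
  have ht₁qc : IsQuasiCompactMor t₁ :=
    Groth.Agent.S9920.main (hD i₁) Y.property t₁ hqc hYqs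
  have hZ₀qc : IsQuasiCompactSp (pullback t₁ t₁) :=
    ht₁qc (hD i₁) hqc t₁ (pullback.fst t₁ t₁) (pullback.snd t₁ t₁) sqZ₀
  have hδqc : RepWith @QuasiCompact (pullback.diagonal t₁) :=
    (repWith_isStableUnderBaseChange (S := S) @QuasiCompact).of_isPullback
      (Groth.Agent.Lib.helper15.AlgSpDiag.isPullback_diagonal_diag t₁) hqs
  obtain ⟨-, hδlft, -, hδsep, -⟩ :=
    Groth.Agent.Lib.helper15.AlgSpDiag.repWith_diagonal_properties (hD i₁) t₁
  have hδqs : RepWith @QuasiSeparated (pullback.diagonal t₁) :=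
    Groth.Agent.Lib.helper15.AlgSpDiag.repWith_mono_iff_le
      (fun _ _ f hf => by haveI : IsSeparated f := hf; exact (inferInstance : QuasiSeparated f)) hδsep
  obtain ⟨j, φ, h⟩ := Groth.Agent.Lib.helper5.LimDesc.descend_rep_closedImmersion D hD hDa c hc i₁
    ⟨D.obj i₁, hD i₁⟩ ⟨pullback t₁ t₁, hZ₀⟩ (pullback.diagonal t₁) (pullback.snd t₁ t₁) hZ₀qc hδqc hδqs
    hδlft c.pt (pullback t₁ (c.π.app i₁ ≫ t₁)) (graph (c.π.app i₁) t₁) (prodMapR (c.π.app i₁) t₁)
    (pullback.snd t₁ (c.π.app i₁ ≫ t₁)) (isPullback_prodMapR_snd (c.π.app i₁) t₁) (c.π.app i₁)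
    (isPullback_graph (c.π.app i₁) t₁) hΓ
  refine ⟨j, φ, ?_⟩
  have hΓj : RepWith @IsClosedImmersion (graph (D.map φ) t₁) :=
    h (D.obj j) (pullback t₁ (D.map φ ≫ t₁)) (graph (D.map φ) t₁) (prodMapR (D.map φ) t₁)
      (pullback.snd t₁ (D.map φ ≫ t₁)) (isPullback_prodMapR_snd (D.map φ) t₁) (D.map φ)
      (isPullback_graph (D.map φ) t₁)
  rw [← ht₁]
  exact isSeparatedMor_of_graph (D.map φ) t₁ (hDa _ _ φ) hΓj

/-- **Separatedness in limits**: for `X = lim X_i` over `Y` (quasi-separated) with `X_i` quasi-compact and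
quasi-separated, affine transition maps and `X ⟶ Y` separated, `X_i ⟶ Y` is separated for all `i` mapping to some
`i₀`. -/
theorem eventually_isSeparatedMor [QuasiSeparatedSpace S] {I : Type u} [SmallCategory I]
    [IsCofiltered I] (Y : Space S) (D : I ⥤ Sp S) (hD : ∀ i, IsAlgSpace (D.obj i))
    (t : D ⟶ (Functor.const I).obj Y.obj)
    (hDa : ∀ (i j : I) (φ : i ⟶ j), IsAffineMor (D.map φ))
    (c : Cone D) (hc : IsLimit c) (g : c.pt ⟶ Y.obj) (hg : ∀ i, c.π.app i ≫ t.app i = g)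
    (hqc : ∀ i, IsQuasiCompactSp (D.obj i)) (hqs : ∀ i, IsQuasiSeparatedSp (D.obj i))
    (hYqs : IsQuasiSeparatedSp Y.obj) (hX : IsSeparatedMor g) :
    ∃ i₀ : I, ∀ (i : I) (_ : i ⟶ i₀), IsSeparatedMor (t.app i) := by
  haveI : Nonempty I := IsCofiltered.nonempty
  obtain ⟨i₂⟩ := ‹Nonempty I›
  have hX' : IsSeparatedMor (c.π.app i₂ ≫ t.app i₂) := by rw [hg i₂]; exact hX
  obtain ⟨i₁, hΓ⟩ := exists_graph_closedImmersion Y D hD t hDa c hc hqc hYqs i₂ hX'
  obtain ⟨j, φ, hj⟩ := exists_isSeparatedMor_of_graph Y D hD t hDa c hc hYqs i₁ (hqc i₁) (hqs i₁) hΓ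
  refine ⟨j, fun i ψ => ?_⟩
  have e1 := t.naturality φ
  have e2 := t.naturality ψ
  simp only [Functor.const_obj_obj, Functor.const_obj_map, Category.comp_id] at e1 e2
  rw [e1] at hj
  rw [← e2]
  exact isSeparatedMor_comp_of_isAffineMor (D.map ψ) (t.app j) (hDa _ _ ψ) hj

end Groth.Agent.Lib.helper5.LimSep
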