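import Groth.Agent.S10184
import Groth.Agent.S10185
import Groth.Agent.S10271
import Groth.Agent.Lib.Helper5.AlgSpFibreProduct
import Groth.Agent.Lib.Helper5.LimSepB

/-!
# Quasi-separatedness and quasi-compactness along affine morphisms (helper5)

* `isQuasiSeparatedSp_of_isQuasiSeparatedMor`: an algebraic space with a quasi-separated morphism to a quasi-separated algebraic
  space is quasi-separated (over a quasi-separated base scheme).
* `isQuasiSeparatedSp_of_isAffineMor`, `isQuasiCompactSp_of_isAffineMor`: the source of an affine morphism to a quasi-separated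
  (quasi-compact) algebraic space is quasi-separated (quasi-compact).
* `isAffineMor_yon_map_of_isAffineHom`.
-/

set_option autoImplicit false
universe u
open CategoryTheory CategoryTheory.Limits AlgebraicGeometry AlgSp Opposite

namespace Groth.Agent.Lib.helper5.LimAff

variable {S : Scheme.{u}}

/-- An algebraic space with a quasi-separated morphism to a quasi-separated algebraic space is quasi-separated. -/
theorem isQuasiSeparatedSp_of_isQuasiSeparatedMor [QuasiSeparatedSpace S] {P Y : Sp S}
    (hP : IsAlgSpace P) (hY : IsAlgSpace Y) (hYqs : IsQuasiSeparatedSp Y) (i : P ⟶ Y)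
    (hi : IsQuasiSeparatedMor i) : IsQuasiSeparatedSp P := by
  refine Groth.Agent.S10184.result ⟨P, hP⟩ ?_
  intro U V W a b fst snd hU hV sq
  change (yon S).obj U ⟶ P at a
  change (yon S).obj V ⟶ P at b
  haveI := hU
  haveI := hV
  -- the map `pullback a b ⟶ pullback (a ≫ i) (b ≫ i)` is quasi-compact
  have hm : RepWith @QuasiCompact (pullback.map a b (a ≫ i) (b ≫ i) (𝟙 _) (𝟙 _) i
      (Category.id_comp _).symm (Category.id_comp _).symm) :=
    (repWith_isStableUnderBaseChange (S := S) @QuasiCompact).of_isPullback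
      (pullback_map_diagonal_isPullback a b i) hi
  -- `E₀ = U ×_Y V`
  obtain ⟨E₀, sndE, fstE', sqE'⟩ := hY.representable_from_yon (a ≫ i) (b ≫ i)
  obtain ⟨fstE, rfl⟩ := (yon S).map_surjective fstE'
  have sqE : IsPullback ((yon S).map fstE) ((yon S).map sndE) (a ≫ i) (b ≫ i) := sqE'
  haveI : CompactSpace E₀.left :=
    Groth.Agent.S10185.result ⟨Y, hY⟩ hYqs U V E₀ (a ≫ i) (b ≫ i) fstE sndE sqE
  -- `e : W ⟶ E₀`
  have hw : (yon S).map fst ≫ a ≫ i = (yon S).map snd ≫ b ≫ i := by
    rw [← Category.assoc, ← Category.assoc, sq.w]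
  obtain ⟨e, he⟩ := (yon S).map_surjective (sqE.lift _ _ hw)
  have he1 : (yon S).map e ≫ (yon S).map fstE = (yon S).map fst := by
    rw [he]; exact sqE.lift_fst _ _ _
  have he2 : (yon S).map e ≫ (yon S).map sndE = (yon S).map snd := by
    rw [he]; exact sqE.lift_snd _ _ _
  have sqM : IsPullback sq.isoPullback.hom ((yon S).map e)
      (pullback.map a b (a ≫ i) (b ≫ i) (𝟙 _) (𝟙 _) i (Category.id_comp _).symm (Category.id_comp _).symm)
      sqE.isoPullback.hom := by
    refine IsPullback.of_horiz_isIso ⟨?_⟩
    apply pullback.hom_ext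
    · rw [Category.assoc, Category.assoc, pullback.lift_fst, IsPullback.isoPullback_hom_fst,
        ← Category.assoc, IsPullback.isoPullback_hom_fst, he1, Category.comp_id]
    · rw [Category.assoc, Category.assoc, pullback.lift_snd, IsPullback.isoPullback_hom_snd,
        ← Category.assoc, IsPullback.isoPullback_hom_snd, he2, Category.comp_id]
  have hqc : QuasiCompact e.left := hm.2 _ _ _ sqM
  exact QuasiCompact.compactSpace_of_compactSpace e.left

/-- The source of an affine morphism to a quasi-separated algebraic space is quasi-separated. -/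
theorem isQuasiSeparatedSp_of_isAffineMor [QuasiSeparatedSpace S] {P Y : Sp S}
    (hP : IsAlgSpace P) (hY : IsAlgSpace Y) (hYqs : IsQuasiSeparatedSp Y) (i : P ⟶ Y)
    (hi : IsAffineMor i) : IsQuasiSeparatedSp P := by
  have hsep : IsSeparatedMor i := Groth.Agent.S10271.isSeparatedMor_of_isAffineMor hP i hi
  refine isQuasiSeparatedSp_of_isQuasiSeparatedMor hP hY hYqs i ⟨hsep.rep, ?_⟩
  intro A B g fst snd sqg
  haveI : IsClosedImmersion snd.left := hsep.2 g fst snd sqg
  exact (inferInstance : QuasiCompact snd.left)

/-- The source of an affine morphism to a quasi-compact algebraic space is quasi-compact. -/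
theorem isQuasiCompactSp_of_isAffineMor {P Y : Sp S}
    (hP : IsAlgSpace P) (hY : IsAlgSpace Y) (hYqc : IsQuasiCompactSp Y) (i : P ⟶ Y)
    (hi : IsAffineMor i) : IsQuasiCompactSp P := by
  have hqc : IsQuasiCompactMor i :=
    Groth.Agent.S10271.isQuasiCompactMor_of_isAffineMor (X := ⟨P, hP⟩) (Y := ⟨Y, hY⟩)
      (ObjectProperty.homMk i) hi
  exact hqc hY hYqc (𝟙 Y) (𝟙 P) i (IsPullback.of_horiz_isIso ⟨by simp⟩)

/-- `h_w` is an affine morphism of sheaves if `w` is an affine morphism of schemes. -/
theorem isAffineMor_yon_map_of_isAffineHom {W V : Over S} (w : W ⟶ V)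
    (hw : IsAffineHom w.left) : IsAffineMor ((yon S).map w) := by
  intro Z hZ g
  obtain ⟨g', rfl⟩ := (yon S).map_surjective g
  have sq0 : IsPullback (pullback.fst w g') (pullback.snd w g') w g' := IsPullback.of_hasPullback _ _
  have sq0l : IsPullback (pullback.fst w g').left (pullback.snd w g').left w.left g'.left :=
    sq0.map (Over.forget S)
  have h1 : IsAffineHom (pullback.snd w g').left :=
    MorphismProperty.of_isPullback (P := @IsAffineHom) sq0l hw
  have : IsAffine Z.left := hZ
  exact ⟨pullback w g', pullback.snd w g', _, sq0.map (yon S),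
    isAffine_of_isAffineHom (pullback.snd w g').left⟩

end Groth.Agent.Lib.helper5.LimAff
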