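import Groth.Prelude
import Groth.Agent.Lib.Helper5.LimDescB
import Groth.Agent.Lib.Helper5.AlgSpLocPFam

/-!
# Descent of `LocP P` through cofiltered limits of algebraic spaces (helper5)

* `schDescent_of_general`: the affine chart form `SchDescent P` from the general form of the scheme-level descent rows.
* `locP_of_goodChart`: a good chart diagram with `P` gives `LocP P`.
* `descend_locP`: `LocP P` descends through cofiltered limits of algebraic spaces with affine transition maps.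
-/

set_option autoImplicit false
universe u
open CategoryTheory CategoryTheory.Limits AlgebraicGeometry Opposite

namespace Groth.Agent.Lib.helper5.LimDesc

open AlgSp Groth.Agent.Lib.helper5.LimSp Groth.Agent.Lib.helper5.LocPBC

/-- The affine chart form from the general form of the scheme-level rows. -/
theorem schDescent_of_general (P : MorphismProperty Scheme.{u}) [P.RespectsIso]
    (H : ∀ {J : Type u} [SmallCategory J] [IsCofiltered J] (E : J ⥤ Scheme.{u}) (cE : Cone E)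
      (_ : IsLimit cE) [∀ (i j : J) (f : i ⟶ j), IsAffineHom (E.map f)] (j₀ : J)
      [CompactSpace (E.obj j₀)] [QuasiSeparatedSpace (E.obj j₀)] {X₀ Y₀ : Scheme.{u}} (f₀ : X₀ ⟶ Y₀)
      (g₀ : Y₀ ⟶ E.obj j₀) [CompactSpace X₀] [QuasiSeparatedSpace X₀] [CompactSpace Y₀]
      [QuasiSeparatedSpace Y₀] [LocallyOfFinitePresentation f₀] {X Y : Scheme.{u}} (f : X ⟶ Y)
      (g : Y ⟶ cE.pt) (qY : Y ⟶ Y₀) (qX : X ⟶ X₀) (_ : IsPullback qY g g₀ (cE.π.app j₀))
      (_ : IsPullback qX f f₀ qY), P f →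
      ∃ (i : J) (φ : i ⟶ j₀) (Xi Yi : Scheme.{u}) (fi : Xi ⟶ Yi) (gi : Yi ⟶ E.obj i) (pY : Yi ⟶ Y₀)
        (pX : Xi ⟶ X₀), IsPullback pY gi g₀ (E.map φ) ∧ IsPullback pX fi f₀ pY ∧ P fi) :
    SchDescent P := by
  intro J _ _ E cE hcE _ j₀ _ A₀ _ k₀ _ A k qA hA hPk
  have hY : IsPullback (cE.π.app j₀) (𝟙 cE.pt) (𝟙 (E.obj j₀)) (cE.π.app j₀) :=
    IsPullback.of_id_snd
  obtain ⟨i, φ, Xi, Yi, fi, gi, pY, pX, h1, h2, h3⟩ :=
    H E cE hcE j₀ k₀ (𝟙 _) k (𝟙 _) (cE.π.app j₀) qA hY hA hPk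
  haveI : IsIso gi := h1.isIso_snd_of_isIso
  refine ⟨i, φ, Xi, fi ≫ gi, pX, ?_, (P.cancel_right_of_respectsIso fi gi).2 h3⟩
  have := h2.paste_vert h1
  rwa [Category.comp_id] at this

variable {S : Scheme.{u}}

/-- A good chart diagram with `P` gives `LocP P`. -/
theorem locP_of_goodChart {P : MorphismProperty Scheme.{u}} (hP : LocPData P)
    [IsZariskiLocalAtSource P] {X Y : Sp S} (f : X ⟶ Y) (h : GoodChart P f) : LocP P f := by
  obtain ⟨U, W, a, b, u, comm, hae, has, hbe, hbs, -, -, hPu⟩ := h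
  refine LocPFam.locP_of_chart_family hP f (ι := PUnit.{1}) (fun _ => U) (fun _ => W) (fun _ => a)
    (fun _ => b) (fun _ => u) (fun _ => hae) (fun _ => hbe) (fun _ => comm) (fun _ => hPu) ?_
  intro x
  obtain ⟨t, ht⟩ := Groth.Agent.Lib.helper11.surjective_ofPt a has x
  exact ⟨PUnit.unit, t, ht⟩

/-- `LocP P` descends through cofiltered limits of algebraic spaces with affine transition maps. -/
theorem descend_locP [QuasiSeparatedSpace S] {I : Type u} [SmallCategory I] [IsCofiltered I]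
    (D : I ⥤ Sp S) (hDa : ∀ (i j : I) (φ : i ⟶ j), IsAffineMor (D.map φ))
    (c : Cone D) (hc : IsLimit c) (i₀ : I)
    (X₀ Y₀ : Space S) (f₀ : X₀.obj ⟶ Y₀.obj) (b₀ : Y₀.obj ⟶ D.obj i₀)
    (hXqc : IsQuasiCompactSp X₀.obj) (hYqc : IsQuasiCompactSp Y₀.obj) (hYqs : IsQuasiSeparatedSp Y₀.obj)
    (hf₀ : LocP @LocallyOfFinitePresentation f₀)
    (X Y : Sp S) (f : X ⟶ Y) (pY : Y ⟶ Y₀.obj) (qY : Y ⟶ c.pt)
    (hY : IsPullback pY qY b₀ (c.π.app i₀)) (pX : X ⟶ X₀.obj) (hX : IsPullback pX f f₀ pY)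
    (P : MorphismProperty Scheme.{u}) (hP : LocPData P) [IsZariskiLocalAtSource P]
    (hdesc : SchDescent P) (hf : LocP P f) :
    ∃ (i : I) (φ : i ⟶ i₀), ∀ (Xi Yi : Sp S) (fi : Xi ⟶ Yi) (pYi : Yi ⟶ Y₀.obj) (qYi : Yi ⟶ D.obj i)
      (_ : IsPullback pYi qYi b₀ (D.map φ)) (pXi : Xi ⟶ X₀.obj) (_ : IsPullback pXi fi f₀ pYi),
      LocP P fi := by
  obtain ⟨i, φ, h⟩ := descend_charts D hDa c hc i₀ X₀ Y₀ f₀ b₀ hXqc hYqc hYqs hf₀ X Y f pY qY hY pX hX
    P hdesc (fun a b u comm hae _ hbe _ _ _ => hf a b u hae hbe comm)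
  exact ⟨i, φ, fun Xi Yi fi pYi qYi hYi pXi hXi =>
    locP_of_goodChart hP fi (h Xi Yi fi pYi qYi hYi pXi hXi)⟩

end Groth.Agent.Lib.helper5.LimDesc
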