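import Groth.Prelude
import Groth.Agent.Lib.Helper5.LimDescC
import Groth.Agent.Lib.Helper5.LimDescD
import Groth.Agent.Lib.Helper5.LimDescF
import Groth.Agent.Lib.Helper5.AlgSpImmDesc
import Groth.Agent.S2581
import Groth.Agent.S9960

/-!
# Descent of diagonal properties through cofiltered limits of algebraic spaces (helper5)

* `surjective_chart_of_isSurjectiveMor`, `isSurjectiveMor_of_goodChart`.
* `SchDescent.inf`, `schDescent_surjective`.
* `descend_diag_charts`: the reduction `descend_charts'` applied to the diagonal of `f₀`.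
-/

set_option autoImplicit false
universe u
open CategoryTheory CategoryTheory.Limits AlgebraicGeometry Opposite

namespace Groth.Agent.Lib.helper5.LimDesc

open AlgSp Groth.Agent.Lib.helper5.LimSp

variable {S : Scheme.{u}}

/-- the chart of a surjective morphism in a good chart diagram is surjective -/
theorem surjective_chart_of_isSurjectiveMor {X Y : Sp S} (f : X ⟶ Y) (hf : IsSurjectiveMor f)
    {U W : Over S} (a : (yon S).obj U ⟶ X) (b : (yon S).obj W ⟶ Y) (u : U ⟶ W)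
    (comm : a ≫ f = (yon S).map u ≫ b)
    (hls : RepWith @Surjective (pullback.lift a ((yon S).map u) comm)) : Surjective u.left := by
  refine ⟨fun w => ?_⟩
  obtain ⟨x, hx⟩ := hf (Points.ofPt b w)
  have sqP : IsPullback (pullback.fst f b) (pullback.snd f b) f b := IsPullback.of_hasPullback _ _
  rw [Points.ofPt_eq_map_ofScheme] at hx
  obtain ⟨z, -, hz⟩ := Groth.Agent.Lib.helper10.exists_point_of_isPullback sqP x _ hx
  obtain ⟨t, ht⟩ := Groth.Agent.Lib.helper11.surjective_ofPt _ hls z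
  refine ⟨t, ?_⟩
  apply Groth.Agent.Lib.helper5.ImmDesc.ofScheme_injective W
  rw [← hz, ← ht, Points.map_ofPt, pullback.lift_snd, Groth.Agent.Lib.helper11.ofPt_yon_map]

theorem goodChart_mono {P Q : MorphismProperty Scheme.{u}} (h : P ≤ Q) {X Y : Sp S} {f : X ⟶ Y}
    (hf : GoodChart P f) : GoodChart Q f := by
  obtain ⟨U, W, a, b, u, comm, h1, h2, h3, h4, h5, h6, h7⟩ := hf
  exact ⟨U, W, a, b, u, comm, h1, h2, h3, h4, h5, h6, h _ h7⟩

theorem isSurjectiveMor_of_goodChart {X Y : Sp S} {f : X ⟶ Y} (hf : GoodChart @Surjective f) :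
    IsSurjectiveMor f := by
  obtain ⟨U, W, a, b, u, comm, -, -, -, hbs, -, -, hu⟩ := hf
  intro y
  obtain ⟨w, rfl⟩ := Groth.Agent.Lib.helper11.surjective_ofPt b hbs y
  obtain ⟨t, rfl⟩ := hu.surj w
  refine ⟨Points.ofPt a t, ?_⟩
  rw [Points.map_ofPt, comm, Groth.Agent.Lib.helper11.ofPt_yon_map_comp]

/-- scheme-level descent of surjectivity, affine chart form -/
theorem schDescent_surjective : SchDescent.{u} @Surjective := by
  intro J _ _ E cE hcE _ j₀ _ A₀ _ k₀ _ A k qA hA hPk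
  have hY' : IsPullback (cE.π.app j₀) (𝟙 cE.pt) (𝟙 (E.obj j₀)) (cE.π.app j₀) :=
    IsPullback.of_id_snd
  haveI : Surjective k := hPk
  haveI : LocallyOfFinitePresentation (k₀ ≫ 𝟙 (E.obj j₀)) := by
    rw [Category.comp_id]; infer_instance
  haveI : QuasiCompact (k₀ ≫ 𝟙 (E.obj j₀)) := by
    rw [Category.comp_id]; infer_instance
  haveI : QuasiSeparated (k₀ ≫ 𝟙 (E.obj j₀)) := by
    rw [Category.comp_id]; infer_instance
  obtain ⟨i, φ, Xi, Yi, fi, gi, pY', pX', h1, h2, h3⟩ :=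
    Groth.Agent.S2581.result E cE hcE j₀ k₀ (𝟙 _) k (𝟙 _) (cE.π.app j₀) qA hY' hA
  haveI : IsIso gi := h1.isIso_snd_of_isIso
  refine ⟨i, φ, Xi, fi ≫ gi, pX', ?_,
    (MorphismProperty.cancel_right_of_respectsIso @Surjective fi gi).2 h3⟩
  have := h2.paste_vert h1
  rwa [Category.comp_id] at this

/-- scheme-level descent of a conjunction -/
theorem SchDescent.inf {P Q : MorphismProperty Scheme.{u}} [P.IsStableUnderBaseChange]
    [Q.IsStableUnderBaseChange] (hP : SchDescent P) (hQ : SchDescent Q) : SchDescent (P ⊓ Q) := by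
  intro J _ _ E cE hcE _ j₀ _ A₀ _ k₀ _ A k qA hA hk
  obtain ⟨j₁, φ₁, A₁, k₁, p₁, sq₁, hk₁⟩ := hP E cE hcE j₀ k₀ k qA hA hk.1
  obtain ⟨j₂, φ₂, A₂, k₂, p₂, sq₂, hk₂⟩ := hQ E cE hcE j₀ k₀ k qA hA hk.2
  obtain ⟨j, ψ₁, ψ₂, hψ⟩ := IsCofiltered.cospan φ₁ φ₂
  have sq := IsPullback.of_hasPullback k₀ (E.map (ψ₁ ≫ φ₁))
  refine ⟨j, ψ₁ ≫ φ₁, pullback k₀ (E.map (ψ₁ ≫ φ₁)), pullback.snd _ _, pullback.fst _ _, sq, ?_, ?_⟩
  · have hc : pullback.fst k₀ (E.map (ψ₁ ≫ φ₁)) ≫ k₀ =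
        (pullback.snd k₀ (E.map (ψ₁ ≫ φ₁)) ≫ E.map ψ₁) ≫ E.map φ₁ := by
      rw [Category.assoc, ← E.map_comp]; exact sq.w
    have e1 : sq₁.lift _ _ hc ≫ p₁ = pullback.fst _ _ := sq₁.lift_fst _ _ _
    have e2 : sq₁.lift _ _ hc ≫ k₁ = pullback.snd _ _ ≫ E.map ψ₁ := sq₁.lift_snd _ _ _
    have sq' : IsPullback (sq₁.lift _ _ hc) (pullback.snd k₀ (E.map (ψ₁ ≫ φ₁))) k₁ (E.map ψ₁) := by
      refine IsPullback.of_right ?_ e2 sq₁
      rw [e1, ← E.map_comp]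
      exact sq
    exact MorphismProperty.of_isPullback sq' hk₁
  · have hc : pullback.fst k₀ (E.map (ψ₁ ≫ φ₁)) ≫ k₀ =
        (pullback.snd k₀ (E.map (ψ₁ ≫ φ₁)) ≫ E.map ψ₂) ≫ E.map φ₂ := by
      rw [Category.assoc, ← E.map_comp, ← hψ]; exact sq.w
    have e1 : sq₂.lift _ _ hc ≫ p₂ = pullback.fst _ _ := sq₂.lift_fst _ _ _
    have e2 : sq₂.lift _ _ hc ≫ k₂ = pullback.snd _ _ ≫ E.map ψ₂ := sq₂.lift_snd _ _ _
    have sq' : IsPullback (sq₂.lift _ _ hc) (pullback.snd k₀ (E.map (ψ₁ ≫ φ₁))) k₂ (E.map ψ₂) := by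
      refine IsPullback.of_right ?_ e2 sq₂
      rw [e1, ← E.map_comp, ← hψ]
      exact sq
    exact MorphismProperty.of_isPullback sq' hk₂

/-- The reduction applied to the diagonal. -/
theorem descend_diag_charts [QuasiSeparatedSpace S] {I : Type u} [SmallCategory I] [IsCofiltered I]
    (D : I ⥤ Sp S) (hDa : ∀ (i j : I) (φ : i ⟶ j), IsAffineMor (D.map φ))
    (c : Cone D) (hc : IsLimit c) (i₀ : I)
    (X₀ Y₀ : Space S) (f₀ : X₀.obj ⟶ Y₀.obj) (b₀ : Y₀.obj ⟶ D.obj i₀)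
    (hXqc : IsQuasiCompactSp X₀.obj) (hXqs : IsQuasiSeparatedSp X₀.obj)
    (hYqs : IsQuasiSeparatedSp Y₀.obj)
    (hf₀ : LocP @LocallyOfFiniteType f₀)
    (X Y : Sp S) (f : X ⟶ Y) (pY : Y ⟶ Y₀.obj) (qY : Y ⟶ c.pt)
    (hY : IsPullback pY qY b₀ (c.π.app i₀)) (pX : X ⟶ X₀.obj) (hX : IsPullback pX f f₀ pY)
    (P : MorphismProperty Scheme.{u}) [P.RespectsIso] (hdesc : SchDescent P)
    (Ptop : ∀ {U W : Over S} (a : (yon S).obj U ⟶ X) (b : (yon S).obj W ⟶ pullback f f) (u : U ⟶ W)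
      (comm : a ≫ pullback.diagonal f = (yon S).map u ≫ b), RepWith @Etale a → RepWith @Surjective a →
      RepWith @Etale b → RepWith @Surjective b →
      RepWith @Etale (pullback.lift a ((yon S).map u) comm) →
      RepWith @Surjective (pullback.lift a ((yon S).map u) comm) → P u.left) :
    ∃ (i : I) (φ : i ⟶ i₀), ∀ (Xi Yi : Sp S) (fi : Xi ⟶ Yi) (pYi : Yi ⟶ Y₀.obj) (qYi : Yi ⟶ D.obj i)
      (_ : IsPullback pYi qYi b₀ (D.map φ)) (pXi : Xi ⟶ X₀.obj) (_ : IsPullback pXi fi f₀ pYi),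
      GoodChart P (pullback.diagonal fi) := by
  have sqZ₀ : IsPullback (pullback.fst f₀ f₀) (pullback.snd f₀ f₀) f₀ f₀ := IsPullback.of_hasPullback _ _
  have hZ₀ : IsAlgSpace (pullback f₀ f₀) :=
    isAlgSpace_of_isPullback Y₀.property.diag X₀.property X₀.property sqZ₀
  have hf₀qc : IsQuasiCompactMor f₀ :=
    Groth.Agent.S9920.result (X := X₀) (Y := Y₀) (ObjectProperty.homMk f₀) hXqc hYqs
  have hZ₀qc : IsQuasiCompactSp (pullback f₀ f₀) :=
    hf₀qc X₀.property hXqc f₀ (pullback.fst f₀ f₀) (pullback.snd f₀ f₀) sqZ₀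
  have hδ₀ : LocP @LocallyOfFinitePresentation (pullback.diagonal f₀) :=
    (Groth.Agent.S9960.result (X := X₀) (Y := Y₀) (ObjectProperty.homMk f₀) hf₀).1
  have hYnew : IsPullback (diagMap hX) (pullback.fst f f ≫ f ≫ qY)
      (pullback.fst f₀ f₀ ≫ f₀ ≫ b₀) (c.π.app i₀) := by
    have := (isPullback_diagMap hX).paste_vert hY
    simpa only [Category.assoc] using this
  obtain ⟨i, φ, h⟩ := descend_charts' D hDa c hc i₀ X₀ ⟨pullback f₀ f₀, hZ₀⟩ (pullback.diagonal f₀)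
    (pullback.fst f₀ f₀ ≫ f₀ ≫ b₀) hZ₀qc
    (fun V₀ v₀ hV₀ => isQuasiCompactSp_pullback_diagonal f₀ hXqs V₀ v₀ hV₀) hδ₀
    X (pullback f f) (pullback.diagonal f) (diagMap hX) (pullback.fst f f ≫ f ≫ qY) hYnew pX
    (isPullback_diagonal hX) P hdesc Ptop
  refine ⟨i, φ, fun Xi Yi fi pYi qYi hYi pXi hXi => ?_⟩
  have hYnew' : IsPullback (diagMap hXi) (pullback.fst fi fi ≫ fi ≫ qYi)
      (pullback.fst f₀ f₀ ≫ f₀ ≫ b₀) (D.map φ) := by
    have := (isPullback_diagMap hXi).paste_vert hYi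
    simpa only [Category.assoc] using this
  exact h Xi (pullback fi fi) (pullback.diagonal fi) (diagMap hXi) (pullback.fst fi fi ≫ fi ≫ qYi)
    hYnew' pXi (isPullback_diagonal hXi)

end Groth.Agent.Lib.helper5.LimDesc
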