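import Groth.Prelude
import Groth.Agent.Lib.Helper5.LimAffB
import Groth.Agent.Lib.Helper5.LimAffD
import Groth.Agent.Lib.Helper5.LimAffE
import Groth.Agent.Lib.Helper5.LimDescB
import Groth.Agent.Lib.Helper5.AlgSpEtFpqc
import Groth.Agent.Lib.Helper1.QFib
import Groth.Agent.S10180
import Groth.Agent.S10021
import Groth.Agent.S10533

/-!
# A cofiltered limit of algebraic spaces is affine only if some stage is (helper5)
-/

set_option autoImplicit false
universe u
open CategoryTheory CategoryTheory.Limits AlgebraicGeometry Opposite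

namespace Groth.Agent.Lib.helper5.LimAff

open AlgSp Groth.Agent.Lib.helper5.LimSp

variable {S : Scheme.{u}}

theorem isQuasiSeparatedSp_yon_of_isAffine (W : Over S) [IsAffine W.left] :
    IsQuasiSeparatedSp ((yon S).obj W) :=
  (repWith_diag_yon_iff @QuasiCompact W).2 (inferInstance : QuasiCompact (pullback.diagonal W.hom))

theorem exists_approx_over [QuasiSeparatedSpace S] {T L : Over S} [IsAffine T.left]
    [IsAffine L.left] (w : L ⟶ T) [Etale w.left] [Surjective w.left] :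
    ∃ (Z V : Over S) (q : T ⟶ Z) (v : V ⟶ Z) (β : L ⟶ V), IsAffine Z.left ∧ IsAffine V.left ∧
      LocallyOfFinitePresentation Z.hom ∧ Etale v.left ∧ Surjective v.left ∧ IsPullback β w v q := by
  obtain ⟨Z₀, V₀, z, q, v, β, hZ₀, hV₀, hz, hqz, hve, hvs, sqβ⟩ := exists_approx T.hom w.left
  have hβ : β ≫ v ≫ z = L.hom := by
    rw [← Category.assoc, sqβ.w, Category.assoc, hqz]; exact Over.w w
  refine ⟨Over.mk z, Over.mk (v ≫ z), Over.homMk q hqz, Over.homMk v rfl, Over.homMk β hβ,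
    hZ₀, hV₀, hz, hve, hvs, ?_⟩
  exact IsPullback.of_map_of_faithful (F := Over.forget S) sqβ

theorem exists_affine_stage [QuasiSeparatedSpace S] {I : Type u} [SmallCategory I] [IsCofiltered I]
    (D : I ⥤ Sp S) (hD : ∀ i, IsAlgSpace (D.obj i))
    (hDa : ∀ (i j : I) (φ : i ⟶ j), IsAffineMor (D.map φ))
    (hqc : ∀ i, IsQuasiCompactSp (D.obj i)) (hqs : ∀ i, IsQuasiSeparatedSp (D.obj i))
    (c : Cone D) (hc : IsLimit c)
    (T : Over S) (hT : IsAffine T.left) (e : (yon S).obj T ≅ c.pt) :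
    ∃ (i : I) (T' : Over S), IsAffine T'.left ∧ Nonempty ((yon S).obj T' ≅ D.obj i) := by
  classical
  haveI := hT
  obtain ⟨i₀⟩ := IsCofiltered.nonempty (C := I)
  -- an affine chart of `X_{i₀}` and the induced charts
  obtain ⟨U₀, u₀, hU₀, hu₀e, hu₀s⟩ := (Groth.Agent.S10180.result ⟨D.obj i₀, hD i₀⟩).1 (hqc i₀)
  haveI := hU₀
  obtain ⟨W, s, f, sq, L, hL, p, hp, sL, fL, hpb, h1, h2, h3, h4, h5, ⟨h6⟩⟩ :=
    exists_chart_limit D c hc i₀ u₀ hDa
  have hfe : ∀ j, RepWith @Etale (f j) := fun j =>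
    (RepWith (S := S) @Etale).of_isPullback (sq j).flip hu₀e
  have hfs : ∀ j, RepWith @Surjective (f j) := fun j =>
    (RepWith (S := S) @Surjective).of_isPullback (sq j).flip hu₀s
  have hfLe : RepWith @Etale fL := (RepWith (S := S) @Etale).of_isPullback hpb.flip hu₀e
  have hfLs : RepWith @Surjective fL := (RepWith (S := S) @Surjective).of_isPullback hpb.flip hu₀s
  haveI haffW : ∀ j, IsAffine (W j).left := fun j => by
    haveI := h5 j
    exact isAffine_of_isAffineHom (s j).left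
  haveI haffL : IsAffine L.pt.left := by
    haveI := h3 (Over.mk (𝟙 i₀))
    exact isAffine_of_isAffineHom (p (Over.mk (𝟙 i₀))).left
  have hsqj : ∀ j : Over i₀, IsPullback fL ((yon S).map (p j)) (c.π.app j.left) (f j) := by
    intro j
    refine IsPullback.of_bot ?_ (h2 j).symm (sq j)
    have e1 : (yon S).map (p j) ≫ (yon S).map (s j) = (yon S).map sL := by
      rw [← Functor.map_comp, h1 j]
    have e2 : c.π.app j.left ≫ D.map j.hom = c.π.app i₀ := c.w j.hom
    rw [e1, e2]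
    exact hpb
  -- the transition maps, with their syntactic types
  obtain ⟨τ, hτ⟩ : ∃ τ : ∀ {k l : Over i₀} (_ : k ⟶ l), W k ⟶ W l,
      ∀ {k l : Over i₀} (φ : k ⟶ l), τ φ = (repDiag D i₀ u₀ W s f sq).map φ :=
    ⟨fun φ => (repDiag D i₀ u₀ W s f sq).map φ, fun φ => rfl⟩
  have hτf : ∀ {k l : Over i₀} (φ : k ⟶ l), (yon S).map (τ φ) ≫ f l = f k ≫ D.map φ.left :=
    fun φ => by rw [hτ φ]; exact repDiag_map_f D i₀ u₀ W s f sq φ
  have hpτ : ∀ {k l : Over i₀} (φ : k ⟶ l), p k ≫ τ φ = p l := fun φ => by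
    rw [hτ φ, hp, hp]; exact L.w φ
  have hτpb : ∀ {k l : Over i₀} (φ : k ⟶ l),
      IsPullback (f k) ((yon S).map (τ φ)) (D.map φ.left) (f l) := fun φ => by
    rw [hτ φ]; exact isPullback_repDiag_map D i₀ u₀ W s f sq φ
  -- the étale cover `w : L ⟶ T`
  obtain ⟨w, hw⟩ := (yon S).map_surjective (fL ≫ e.inv)
  haveI hwe : Etale w.left := (repWith_yon_map_iff @Etale w).1 (by
    rw [hw]
    exact (MorphismProperty.cancel_right_of_respectsIso (RepWith (S := S) @Etale) fL e.inv).2 hfLe)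
  haveI hws : Surjective w.left := (repWith_yon_map_iff @Surjective w).1 (by
    rw [hw]
    exact (MorphismProperty.cancel_right_of_respectsIso (RepWith (S := S) @Surjective) fL
      e.inv).2 hfLs)
  -- the approximation
  obtain ⟨Z, V, q, v, β, hZ, hV, hZlfp, hve, hvs, sqβ⟩ := exists_approx_over w
  haveI := hZ
  haveI := hV
  haveI := hZlfp
  haveI := hve
  haveI := hvs
  obtain ⟨m, hm⟩ : ∃ m : c.pt ⟶ (yon S).obj Z, m = e.inv ≫ (yon S).map q := ⟨_, rfl⟩
  have hfLm : fL ≫ m = (yon S).map (β ≫ v) := by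
    rw [hm, ← Category.assoc, ← hw, ← Functor.map_comp, sqβ.w]
  -- `β` factors through a stage
  haveI hVlfp : LocallyOfFinitePresentation V.hom := by
    have : V.hom = v.left ≫ Z.hom := (Over.w v).symm
    rw [this]; infer_instance
  let E : Over i₀ ⥤ Scheme.{u} := repDiag D i₀ u₀ W s f sq ⋙ Over.forget S
  let tE : E ⟶ (Functor.const (Over i₀)).obj S :=
    { app := fun k => (W k).hom
      naturality := fun k l φ => by
        have := Over.w ((repDiag D i₀ u₀ W s f sq).map φ)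
        simp [E] }
  haveI : ∀ {k l : Over i₀} (φ : k ⟶ l), IsAffineHom (E.map φ) := fun φ => h4 φ
  haveI : ∀ k, CompactSpace (E.obj k) := fun k => by
    have hc : CompactSpace (W k).left := inferInstance
    exact hc
  haveI : ∀ k, QuasiSeparatedSpace (E.obj k) := fun k => by
    have hc : QuasiSeparatedSpace (W k).left := inferInstance
    exact hc
  obtain ⟨j, βj, hβj1, hβj2⟩ := Scheme.exists_π_app_comp_eq_of_locallyOfFinitePresentation E tE
    V.hom ((Over.forget S).mapCone L) h6 β.left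
    (by ext k; exact (Over.w (L.π.app k)).trans (Over.w β).symm)
  obtain ⟨β', hβ'⟩ : ∃ β' : W j ⟶ V, β'.left = βj := ⟨Over.homMk βj hβj2, rfl⟩
  have hpβ' : p j ≫ β' = β := by
    apply Over.OverMorphism.ext
    rw [hp j]
    show (L.π.app j).left ≫ β'.left = β.left
    rw [hβ']
    exact hβj1
  have ha : (yon S).map (p j ≫ β' ≫ v) = fL ≫ m := by
    rw [hfLm, ← Category.assoc, hpβ']
  -- descend `W_j ⟶ V ⟶ Z` to a stage
  obtain ⟨k, φ, h, hfh, hch⟩ := exists_desc_stage D hD hDa c hc i₀ (hqs i₀) u₀ hu₀e hu₀s W s f sq L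
    p hp sL fL hpb h1 h2 m j (β' ≫ v) ha
  obtain ⟨βk, hβk⟩ : ∃ βk : W k ⟶ V, βk = τ φ ≫ β' := ⟨_, rfl⟩
  have hfh' : f k ≫ h = (yon S).map βk ≫ (yon S).map v := by
    rw [hfh, ← Functor.map_comp, hβk, Category.assoc, hτ φ]
    rfl
  have hpβk : p k ≫ βk = β := by rw [hβk, ← Category.assoc, hpτ φ, hpβ']
  -- `E = X_k ×_Z V` and the comparison `θ : W_k ⟶ E`
  have sqE : IsPullback (pullback.fst h ((yon S).map v)) (pullback.snd h ((yon S).map v)) h
      ((yon S).map v) := IsPullback.of_hasPullback _ _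
  have hE : IsAlgSpace (pullback h ((yon S).map v)) :=
    isAlgSpace_of_isPullback (IsAlgSpace.yon_obj Z).diag (hD k.left) (IsAlgSpace.yon_obj V) sqE
  have hvaff : IsAffineMor ((yon S).map v) :=
    isAffineMor_yon_map_of_isAffineHom v inferInstance
  have hb₀aff : IsAffineMor (pullback.fst h ((yon S).map v)) :=
    Groth.Agent.Lib.helper5.LimSep.isAffineMor_of_isPullback sqE.flip hvaff
  have hEqc : IsQuasiCompactSp (pullback h ((yon S).map v)) :=
    isQuasiCompactSp_of_isAffineMor hE (hD k.left) (hqc k.left) _ hb₀aff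
  have hEqs : IsQuasiSeparatedSp (pullback h ((yon S).map v)) :=
    isQuasiSeparatedSp_of_isAffineMor hE (hD k.left) (hqs k.left) _ hb₀aff
  have hve' : RepWith @Etale ((yon S).map v) := (repWith_yon_map_iff @Etale v).2 hve
  have hvs' : RepWith @Surjective ((yon S).map v) := (repWith_yon_map_iff @Surjective v).2 hvs
  have hb₀e : RepWith @Etale (pullback.fst h ((yon S).map v)) :=
    (RepWith (S := S) @Etale).of_isPullback sqE.flip hve'
  obtain ⟨θ, hθ⟩ : ∃ θ : (yon S).obj (W k) ⟶ pullback h ((yon S).map v),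
      θ = pullback.lift (f k) ((yon S).map βk) hfh' := ⟨_, rfl⟩
  have hθ1 : θ ≫ pullback.fst h ((yon S).map v) = f k := by rw [hθ]; exact pullback.lift_fst _ _ _
  have hθ2 : θ ≫ pullback.snd h ((yon S).map v) = (yon S).map βk := by
    rw [hθ]; exact pullback.lift_snd _ _ _
  have hθe : RepWith @Etale θ :=
    Groth.Agent.H1.QFib.repWith_etale_of_comp hE θ _
      (Groth.Agent.H1.QFib.isEtaleMor_of_repWith _ hb₀e) (by rw [hθ1]; exact hfe k)
  have hθlfp : LocP @LocallyOfFinitePresentation θ :=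
    Groth.Agent.S10265.locP_mono (fun X Y g hg => by
      have : Etale g := hg
      exact inferInstanceAs (LocallyOfFinitePresentation g))
      (Groth.Agent.S10265.locP_etale_of_isEtaleMor θ
        (Groth.Agent.H1.QFib.isEtaleMor_of_repWith _ hθe))
  -- the base change of `θ` to the limit is an isomorphism
  have hcommY : (fL ≫ c.π.app k.left) ≫ h = (yon S).map β ≫ (yon S).map v := by
    rw [Category.assoc, hch, hfLm, Functor.map_comp]
  obtain ⟨pY, hpY⟩ : ∃ pY : (yon S).obj L.pt ⟶ pullback h ((yon S).map v),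
      pY = pullback.lift (fL ≫ c.π.app k.left) ((yon S).map β) hcommY := ⟨_, rfl⟩
  have hpY1 : pY ≫ pullback.fst h ((yon S).map v) = fL ≫ c.π.app k.left := by
    rw [hpY]; exact pullback.lift_fst _ _ _
  have hpY2 : pY ≫ pullback.snd h ((yon S).map v) = (yon S).map β := by
    rw [hpY]; exact pullback.lift_snd _ _ _
  have hbig : IsPullback ((yon S).map β) fL ((yon S).map v) m := by
    have h0 : IsPullback ((yon S).map β) ((yon S).map w) ((yon S).map v) ((yon S).map q) :=
      sqβ.map (yon S)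
    refine IsPullback.of_iso h0 (Iso.refl _) (Iso.refl _) e (Iso.refl _) ?_ ?_ ?_ ?_
    · simp
    · rw [hw]; simp
    · simp
    · rw [hm]; simp
  have hY : IsPullback pY fL (pullback.fst h ((yon S).map v)) (c.π.app k.left) := by
    refine IsPullback.of_right ?_ hpY1 sqE.flip
    rw [hpY2, hch]
    exact hbig
  have hcommX : (yon S).map (p k) ≫ θ = 𝟙 _ ≫ pY := by
    rw [Category.id_comp]
    apply pullback.hom_ext
    · rw [Category.assoc, hθ1, hpY1, h2 k]
    · rw [Category.assoc, hθ2, hpY2, ← Functor.map_comp, hpβk]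
  have hX : IsPullback ((yon S).map (p k)) (𝟙 ((yon S).obj L.pt)) θ pY := by
    refine IsPullback.of_bot ?_ hcommX hY
    rw [Category.id_comp, hθ1]
    exact (hsqj k).flip
  obtain ⟨i, ψ, hiso⟩ := Groth.Agent.S10021.result S D hD hDa c hc k.left (hqc k.left) (hqs k.left)
    ⟨(yon S).obj (W k), IsAlgSpace.yon_obj _⟩ ⟨pullback h ((yon S).map v), hE⟩ θ
    (pullback.fst h ((yon S).map v))
    (Groth.Agent.Lib.helper5.LimDesc.isQuasiCompactSp_yon_of_isAffine (W k))
    (isQuasiSeparatedSp_yon_of_isAffine (W k)) hEqc hEqs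
    ((yon S).obj L.pt) ((yon S).obj L.pt) (𝟙 _) pY fL hY ((yon S).map (p k)) hX hθlfp
  -- the stage `i`
  obtain ⟨k', hk'⟩ : ∃ k' : Over i₀, k' = Over.mk (ψ ≫ k.hom) := ⟨_, rfl⟩
  subst hk'
  let φ' : Over.mk (ψ ≫ k.hom) ⟶ k := Over.homMk ψ
  have hφ'left : φ'.left = ψ := rfl
  have sqEi : IsPullback (pullback.fst (pullback.fst h ((yon S).map v)) (D.map ψ))
      (pullback.snd (pullback.fst h ((yon S).map v)) (D.map ψ))
      (pullback.fst h ((yon S).map v)) (D.map ψ) := IsPullback.of_hasPullback _ _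
  have hcommi : ((yon S).map (τ φ') ≫ θ) ≫ pullback.fst h ((yon S).map v) =
      f (Over.mk (ψ ≫ k.hom)) ≫ D.map ψ := by
    rw [Category.assoc, hθ1, hτf φ', hφ'left]
  obtain ⟨fi, hfi⟩ : ∃ fi : (yon S).obj (W (Over.mk (ψ ≫ k.hom))) ⟶
      pullback (pullback.fst h ((yon S).map v)) (D.map ψ),
      fi = pullback.lift ((yon S).map (τ φ') ≫ θ) (f (Over.mk (ψ ≫ k.hom))) hcommi := ⟨_, rfl⟩
  have hfi1 : fi ≫ pullback.fst (pullback.fst h ((yon S).map v)) (D.map ψ) =
      (yon S).map (τ φ') ≫ θ := by rw [hfi]; exact pullback.lift_fst _ _ _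
  have hfi2 : fi ≫ pullback.snd (pullback.fst h ((yon S).map v)) (D.map ψ) =
      f (Over.mk (ψ ≫ k.hom)) := by rw [hfi]; exact pullback.lift_snd _ _ _
  have hXi : IsPullback ((yon S).map (τ φ')) fi θ
      (pullback.fst (pullback.fst h ((yon S).map v)) (D.map ψ)) := by
    refine IsPullback.of_bot ?_ hfi1.symm sqEi
    rw [hfi2, hθ1]
    exact (hτpb φ').flip
  haveI : IsIso fi := hiso _ _ fi _ _ sqEi _ hXi
  -- the square over `V ⟶ Z`
  obtain ⟨βi, hβi⟩ : ∃ βi : W (Over.mk (ψ ≫ k.hom)) ⟶ V, βi = τ φ' ≫ βk := ⟨_, rfl⟩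
  have sqfin : IsPullback (f (Over.mk (ψ ≫ k.hom))) ((yon S).map βi) (D.map ψ ≫ h)
      ((yon S).map v) := by
    have hp1 := (sqEi.paste_horiz sqE.flip).flip
    refine IsPullback.of_iso hp1 (asIso fi).symm (Iso.refl _) (Iso.refl _) (Iso.refl _) ?_ ?_ ?_ ?_
    · simp only [Iso.symm_hom, asIso_inv, Iso.refl_hom, Category.comp_id, IsIso.eq_inv_comp]
      exact hfi2
    · simp only [Iso.symm_hom, asIso_inv, Iso.refl_hom, Category.comp_id, IsIso.eq_inv_comp]
      rw [← Category.assoc, hfi1, Category.assoc, hθ2, ← Functor.map_comp, hβi]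
    · simp
    · simp
  -- `X_i ⟶ Z` is affine
  have hcov := Groth.Agent.Lib.helper5.EtFpqc.isFpqcCover_of_chart (IsAlgSpace.yon_obj Z) V
    ((yon S).map v) hve' hvs'
  have haffi : IsAffineMor (D.map ψ ≫ h) :=
    (Groth.Agent.S10533.result S (ι := PUnit.{u + 1}) (fun _ => (yon S).obj V)
      (fun _ => (yon S).map v) (IsAlgSpace.yon_obj Z) (fun _ => IsAlgSpace.yon_obj V) hcov
      (D.map ψ ≫ h) (hD i) (fun _ => (yon S).obj (W (Over.mk (ψ ≫ k.hom))))
      (fun _ => (yon S).map βi) (fun _ => f (Over.mk (ψ ≫ k.hom)))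
      (fun _ => IsAlgSpace.yon_obj _) (fun _ => sqfin)).2
      (fun _ => isAffineMor_yon_map_of_isAffineHom βi inferInstance)
  obtain ⟨T', s', fst', sq', hT'⟩ := haffi hZ (𝟙 _)
  haveI : IsIso fst' := sq'.isIso_fst_of_isIso
  exact ⟨i, T', hT', ⟨asIso fst'⟩⟩

end Groth.Agent.Lib.helper5.LimAff
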