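import Groth.Prelude
import Groth.Agent.Lib.Helper5.LimAffF
import Groth.Agent.Lib.Helper5.LimSepA
import Groth.Agent.Lib.Helper1.CodimZeroSch
import Groth.Agent.Lib.Helper4.AlgStDiagComp2
import Groth.Agent.S9920

/-!
# Affineness over a base in cofiltered limits of algebraic spaces (helper5)

`eventually_isAffineMor`: for `X = lim X_i` over `Y` (quasi-compact and quasi-separated) with `X_i` quasi-compact and
quasi-separated, affine transition maps and `X ⟶ Y` affine, `X_i ⟶ Y` is affine for all `i` mapping to some `i₀`.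
-/

set_option autoImplicit false
universe u
open CategoryTheory CategoryTheory.Limits AlgebraicGeometry Opposite

namespace Groth.Agent.Lib.helper5.LimAff

open AlgSp Groth.Agent.Lib.helper5.LimSep

variable {S : Scheme.{u}}

/-- An affine morphism to (a sheaf isomorphic to) an affine scheme has affine source. -/
theorem exists_affine_iso_of_isAffineMor {F G : Sp S} (a : F ⟶ G) (ha : IsAffineMor a) {T : Over S}
    (hT : IsAffine T.left) (e : (yon S).obj T ≅ G) :
    ∃ (T' : Over S) (e' : (yon S).obj T' ≅ F), IsAffine T'.left := by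
  obtain ⟨T', s', fst', sq', hT'⟩ := ha hT e.hom
  haveI : IsIso fst' := sq'.isIso_fst_of_isIso
  exact ⟨T', asIso fst', hT'⟩

theorem eventually_isAffineMor [QuasiSeparatedSpace S] {I : Type u} [SmallCategory I]
    [IsCofiltered I] (Y : Space S) (D : I ⥤ Sp S) (hD : ∀ i, IsAlgSpace (D.obj i))
    (t : D ⟶ (Functor.const I).obj Y.obj)
    (hDa : ∀ (i j : I) (φ : i ⟶ j), IsAffineMor (D.map φ))
    (c : Cone D) (hc : IsLimit c) (g : c.pt ⟶ Y.obj) (hg : ∀ i, c.π.app i ≫ t.app i = g)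
    (hqc : ∀ i, IsQuasiCompactSp (D.obj i)) (hqs : ∀ i, IsQuasiSeparatedSp (D.obj i))
    (hYqc : IsQuasiCompactSp Y.obj) (hYqs : IsQuasiSeparatedSp Y.obj) (hX : IsAffineMor g) :
    ∃ i₀ : I, ∀ (i : I) (_ : i ⟶ i₀), IsAffineMor (t.app i) := by
  -- an affine chart of `Y`
  obtain ⟨V₀, v₀, hV₀, hv₀e, hv₀s⟩ := (Groth.Agent.S10180.result Y).1 hYqc
  haveI := hV₀
  have hv₀qc : IsQuasiCompactMor v₀ :=
    Groth.Agent.S9920.result (X := ⟨(yon S).obj V₀, IsAlgSpace.yon_obj V₀⟩) (Y := Y)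
      (ObjectProperty.homMk v₀)
      (Groth.Agent.Lib.helper5.LimDesc.isQuasiCompactSp_yon_of_isAffine V₀) hYqs
  have hv₀qs : IsQuasiSeparatedMor v₀ :=
    Groth.Agent.H1.CodimZeroSch.isQuasiSeparatedMor_of_affine Y.property v₀
  -- the base change of the system
  have hD' : ∀ i, IsAlgSpace ((bcDiag D t v₀).obj i) := fun i =>
    isAlgSpace_of_isPullback Y.property.diag (hD i) (IsAlgSpace.yon_obj V₀) (isPullback_bc D t v₀ i)
  have hDa' : ∀ (i j : I) (φ : i ⟶ j), IsAffineMor ((bcDiag D t v₀).map φ) := fun i j φ =>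
    isAffineMor_of_isPullback (isPullback_bcDiag_map D t v₀ φ).flip (hDa i j φ)
  have hqc' : ∀ i, IsQuasiCompactSp ((bcDiag D t v₀).obj i) := fun i =>
    hv₀qc (hD i) (hqc i) (t.app i) (bcSnd D t v₀ i) (bcFst D t v₀ i) (isPullback_bc D t v₀ i).flip
  have hqs' : ∀ i, IsQuasiSeparatedSp ((bcDiag D t v₀).obj i) := fun i =>
    isQuasiSeparatedSp_of_isQuasiSeparatedMor (hD' i) (hD i) (hqs i) (bcFst D t v₀ i)
      (Groth.Agent.Lib.helper4.AlgStDiagComp.isQuasiSeparatedMor_of_isPullback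
        (isPullback_bc D t v₀ i).flip hv₀qs)
  -- the limit is affine
  obtain ⟨T, a, fst, sqT, hT⟩ := hX hV₀ v₀
  have eT : (yon S).obj T ≅ (bcCone D t v₀ c g hg).pt :=
    sqT.isoPullback
  obtain ⟨i₀, T₀, hT₀, ⟨e₀⟩⟩ := exists_affine_stage (bcDiag D t v₀) hD' hDa' hqc' hqs'
    (bcCone D t v₀ c g hg) (bcConeIsLimit D t v₀ c g hg hc) T hT eT
  refine ⟨i₀, fun i φ => ?_⟩
  obtain ⟨Ti, ei, hTi⟩ := exists_affine_iso_of_isAffineMor _ (hDa' i i₀ φ) hT₀ e₀
  haveI := hTi
  obtain ⟨pi, hpi⟩ := (yon S).map_surjective (ei.hom ≫ bcSnd D t v₀ i)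
  have sqfin : IsPullback (ei.hom ≫ bcFst D t v₀ i) ((yon S).map pi) (t.app i) v₀ := by
    rw [hpi]
    exact IsPullback.of_iso (isPullback_bc D t v₀ i) ei.symm (Iso.refl _) (Iso.refl _) (Iso.refl _)
      (by simp) (by simp) (by simp) (by simp)
  have hcov := Groth.Agent.Lib.helper5.EtFpqc.isFpqcCover_of_chart Y.property V₀ v₀ hv₀e hv₀s
  exact (Groth.Agent.S10533.result S (ι := PUnit.{u + 1}) (fun _ => (yon S).obj V₀)
    (fun _ => v₀) Y.property (fun _ => IsAlgSpace.yon_obj V₀) hcov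
    (t.app i) (hD i) (fun _ => (yon S).obj Ti) (fun _ => (yon S).map pi)
    (fun _ => ei.hom ≫ bcFst D t v₀ i) (fun _ => IsAlgSpace.yon_obj _) (fun _ => sqfin)).2
    (fun _ => isAffineMor_yon_map_of_isAffineHom pi inferInstance)

end Groth.Agent.Lib.helper5.LimAff
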