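import Groth.Prelude
import Groth.Agent.Lib.Helper5.LimAffG

/-!
# Descent of affineness of a morphism through cofiltered limits of algebraic spaces (helper5)

* `chartLiftPB_cat`: category-level form of `LimDesc.chartLiftPB`.
* `isPullback_pbDiag_map`: the transition maps of `pbDiag` are base changes of those of `D`.
* `descend_isAffineMor`: in the situation of the rows `AlgSp.descend_*_limit`, if the base change `f` of `f₀` to the limit is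
  affine then for some stage every base change `f_i` is affine.
-/

set_option autoImplicit false
universe v u
open CategoryTheory CategoryTheory.Limits AlgebraicGeometry Opposite

namespace Groth.Agent.Lib.helper5.LimAff

section cat

variable {C : Type u} [Category.{v} C]

theorem chartLiftPB_cat {B' B₀ X₀ Y₀ X' Y' V T₀ W' U' : C} (β : B' ⟶ B₀) (b₀ : Y₀ ⟶ B₀)
    (f₀ : X₀ ⟶ Y₀) {pY : Y' ⟶ Y₀} {qY : Y' ⟶ B'} (hY : IsPullback pY qY b₀ β)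
    {pX : X' ⟶ X₀} {f' : X' ⟶ Y'} (hX : IsPullback pX f' f₀ pY)
    (v₀ : V ⟶ Y₀) (a₀ : T₀ ⟶ X₀) (h₀ : T₀ ⟶ V) (sq₀ : IsPullback a₀ h₀ f₀ v₀)
    (fW : W' ⟶ B') (sW : W' ⟶ V) (sqW : IsPullback fW sW β (v₀ ≫ b₀))
    (r : U' ⟶ T₀) (u : U' ⟶ W') (sqU : IsPullback r u h₀ sW) :
    ∃ (a : U' ⟶ X') (b : W' ⟶ Y'), IsPullback a u f' b ∧ IsPullback b sW pY v₀ ∧
      b ≫ qY = fW ∧ a ≫ pX = r ≫ a₀ := by
  obtain ⟨b, hb1, hb2⟩ : ∃ b : W' ⟶ Y', b ≫ pY = sW ≫ v₀ ∧ b ≫ qY = fW :=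
    ⟨hY.lift (sW ≫ v₀) fW (by rw [Category.assoc]; exact sqW.w.symm),
      hY.lift_fst _ _ _, hY.lift_snd _ _ _⟩
  have sqA : IsPullback b sW pY v₀ := by
    refine IsPullback.of_right ?_ hb1 hY.flip
    rw [hb2]
    exact sqW
  have hcomm : (r ≫ a₀) ≫ f₀ = (u ≫ b) ≫ pY := by
    rw [Category.assoc, sq₀.w, ← Category.assoc, sqU.w, Category.assoc, Category.assoc, hb1]
  obtain ⟨a, ha1, ha2⟩ : ∃ a : U' ⟶ X', a ≫ pX = r ≫ a₀ ∧ a ≫ f' = u ≫ b :=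
    ⟨hX.lift _ _ hcomm, hX.lift_fst _ _ _, hX.lift_snd _ _ _⟩
  refine ⟨a, b, ?_, sqA, hb2, ha1⟩
  refine IsPullback.of_right ?_ ha2 hX
  rw [ha1, hb1]
  exact sqU.paste_horiz sq₀

end cat

open AlgSp Groth.Agent.Lib.helper5.LimSp

variable {S : Scheme.{u}}

theorem isPullback_pbDiag_map {I : Type u} [SmallCategory I] (D : I ⥤ Sp S) (i : I) {T : Sp S}
    (g : T ⟶ D.obj i) {j k : Over i} (φ : j ⟶ k) :
    IsPullback ((pbDiag D i g).map φ) (pbFst D i g j) (pbFst D i g k) (D.map φ.left) := by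
  refine IsPullback.of_right ?_ (pbDiag_map_fst D i g φ) (isPullback_pbDiag D i g k).flip
  rw [pbDiag_map_snd]
  have e : D.map φ.left ≫ D.map k.hom = D.map j.hom := by rw [← D.map_comp, Over.w φ]
  rw [e]
  exact (isPullback_pbDiag D i g j).flip

theorem descend_isAffineMor [QuasiSeparatedSpace S] {I : Type u} [SmallCategory I] [IsCofiltered I]
    (D : I ⥤ Sp S) (hD : ∀ i, IsAlgSpace (D.obj i))
    (hDa : ∀ (i j : I) (φ : i ⟶ j), IsAffineMor (D.map φ))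
    (c : Cone D) (hc : IsLimit c) (i₀ : I)
    (X₀ Y₀ : Space S) (f₀ : X₀.obj ⟶ Y₀.obj) (b₀ : Y₀.obj ⟶ D.obj i₀)
    (hXqc : IsQuasiCompactSp X₀.obj) (hXqs : IsQuasiSeparatedSp X₀.obj)
    (hYqc : IsQuasiCompactSp Y₀.obj) (hYqs : IsQuasiSeparatedSp Y₀.obj)
    (X Y : Sp S) (f : X ⟶ Y) (pY : Y ⟶ Y₀.obj) (qY : Y ⟶ c.pt)
    (hY : IsPullback pY qY b₀ (c.π.app i₀)) (pX : X ⟶ X₀.obj) (hX : IsPullback pX f f₀ pY)
    (hf : IsAffineMor f) :
    ∃ (i : I) (φ : i ⟶ i₀), ∀ (Xi Yi : Sp S) (fi : Xi ⟶ Yi) (pYi : Yi ⟶ Y₀.obj) (qYi : Yi ⟶ D.obj i)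
      (_ : IsPullback pYi qYi b₀ (D.map φ)) (pXi : Xi ⟶ X₀.obj) (_ : IsPullback pXi fi f₀ pYi),
      IsAffineMor fi := by
  -- an affine chart of `Y₀`
  obtain ⟨V₀, v₀, hV₀, hv₀e, hv₀s⟩ := (Groth.Agent.S10180.result Y₀).1 hYqc
  haveI := hV₀
  have hv₀qc : IsQuasiCompactMor v₀ :=
    Groth.Agent.S9920.result (X := ⟨(yon S).obj V₀, IsAlgSpace.yon_obj V₀⟩) (Y := Y₀)
      (ObjectProperty.homMk v₀)
      (Groth.Agent.Lib.helper5.LimDesc.isQuasiCompactSp_yon_of_isAffine V₀) hYqs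
  have hv₀qs : IsQuasiSeparatedMor v₀ :=
    Groth.Agent.H1.CodimZeroSch.isQuasiSeparatedMor_of_affine Y₀.property v₀
  -- `X₀' = X₀ ×_{Y₀} h_{V₀}`
  have sqX₀ : IsPullback (pullback.fst f₀ v₀) (pullback.snd f₀ v₀) f₀ v₀ :=
    IsPullback.of_hasPullback _ _
  have hX₀' : IsAlgSpace (pullback f₀ v₀) :=
    isAlgSpace_of_isPullback Y₀.property.diag X₀.property (IsAlgSpace.yon_obj V₀) sqX₀
  have hX₀'qc : IsQuasiCompactSp (pullback f₀ v₀) :=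
    hv₀qc X₀.property hXqc f₀ (pullback.snd f₀ v₀) (pullback.fst f₀ v₀) sqX₀.flip
  have hX₀'qs : IsQuasiSeparatedSp (pullback f₀ v₀) :=
    isQuasiSeparatedSp_of_isQuasiSeparatedMor hX₀' X₀.property hXqs (pullback.fst f₀ v₀)
      (Groth.Agent.Lib.helper4.AlgStDiagComp.isQuasiSeparatedMor_of_isPullback sqX₀.flip hv₀qs)
  -- the system `B_j ×_{B_{i₀}} X₀'`
  obtain ⟨g', hg'⟩ : ∃ g' : pullback f₀ v₀ ⟶ D.obj i₀, g' = pullback.snd f₀ v₀ ≫ v₀ ≫ b₀ :=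
    ⟨_, rfl⟩
  have hD' : ∀ j, IsAlgSpace ((pbDiag D i₀ g').obj j) := fun j =>
    isAlgSpace_of_isPullback (hD i₀).diag (hD j.left) hX₀' (isPullback_pbDiag D i₀ g' j)
  have hsnda : ∀ j, IsAffineMor (pbSnd D i₀ g' j) := fun j =>
    Groth.Agent.Lib.helper5.LimSep.isAffineMor_of_isPullback (isPullback_pbDiag D i₀ g' j)
      (hDa _ _ j.hom)
  have hDa' : ∀ (j k : Over i₀) (φ : j ⟶ k), IsAffineMor ((pbDiag D i₀ g').map φ) := fun j k φ =>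
    Groth.Agent.Lib.helper5.LimSep.isAffineMor_of_isPullback (isPullback_pbDiag_map D i₀ g' φ).flip
      (hDa _ _ φ.left)
  have hqc' : ∀ j, IsQuasiCompactSp ((pbDiag D i₀ g').obj j) := fun j =>
    isQuasiCompactSp_of_isAffineMor (hD' j) hX₀' hX₀'qc _ (hsnda j)
  have hqs' : ∀ j, IsQuasiSeparatedSp ((pbDiag D i₀ g').obj j) := fun j =>
    isQuasiSeparatedSp_of_isAffineMor (hD' j) hX₀' hX₀'qs _ (hsnda j)
  -- the limit of the system is affine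
  have hπa : IsAffineMor (c.π.app i₀) := isAffineMor_π D c hDa hc i₀
  obtain ⟨WV, sV, fV, sqV, hWV⟩ := hπa hV₀ (v₀ ≫ b₀)
  have hcommU : pbConeFst D c i₀ g' ≫ c.π.app i₀ =
      (pbConeSnd D c i₀ g' ≫ pullback.snd f₀ v₀) ≫ v₀ ≫ b₀ := by
    rw [(isPullback_pbCone D c i₀ g').w, hg', Category.assoc]
  obtain ⟨u, hu1, hu2⟩ : ∃ u : (pbCone D c i₀ g').pt ⟶ (yon S).obj WV,
      u ≫ fV = pbConeFst D c i₀ g' ∧
      u ≫ (yon S).map sV = pbConeSnd D c i₀ g' ≫ pullback.snd f₀ v₀ :=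
    ⟨sqV.lift _ _ hcommU, sqV.lift_fst _ _ _, sqV.lift_snd _ _ _⟩
  have sqU : IsPullback (pbConeSnd D c i₀ g') u (pullback.snd f₀ v₀) ((yon S).map sV) := by
    refine (IsPullback.of_right ?_ hu2 sqV).flip
    rw [hu1, ← hg']
    exact isPullback_pbCone D c i₀ g'
  obtain ⟨a, b, sqab, sqb, -, -⟩ := chartLiftPB_cat (c.π.app i₀) b₀ f₀ hY hX v₀
    (pullback.fst f₀ v₀) (pullback.snd f₀ v₀) sqX₀ fV ((yon S).map sV) sqV
    (pbConeSnd D c i₀ g') u sqU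
  obtain ⟨T, iT, fstT, sqT, hT⟩ := hf hWV b
  have eT : (yon S).obj T ≅ (pbCone D c i₀ g').pt := sqT.isoIsPullback _ _ sqab
  obtain ⟨j, T', hT', ⟨e'⟩⟩ := exists_affine_stage (pbDiag D i₀ g') hD' hDa' hqc' hqs'
    (pbCone D c i₀ g') (pbConeIsLimit D c i₀ g' hc) T hT eT
  haveI := hT'
  refine ⟨j.left, j.hom, fun Xi Yi fi pYi qYi hYi pXi hXi => ?_⟩
  -- the chart of `Y_i`
  obtain ⟨Wi, si, fWi, sqWi, hWi⟩ := hDa _ _ j.hom hV₀ (v₀ ≫ b₀)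
  haveI := hWi
  have hcommi : pbFst D i₀ g' j ≫ D.map j.hom =
      (pbSnd D i₀ g' j ≫ pullback.snd f₀ v₀) ≫ v₀ ≫ b₀ := by
    rw [(isPullback_pbDiag D i₀ g' j).w, hg', Category.assoc]
  obtain ⟨ui, hui1, hui2⟩ : ∃ ui : (pbDiag D i₀ g').obj j ⟶ (yon S).obj Wi,
      ui ≫ fWi = pbFst D i₀ g' j ∧
      ui ≫ (yon S).map si = pbSnd D i₀ g' j ≫ pullback.snd f₀ v₀ :=
    ⟨sqWi.lift _ _ hcommi, sqWi.lift_fst _ _ _, sqWi.lift_snd _ _ _⟩
  have sqUi : IsPullback (pbSnd D i₀ g' j) ui (pullback.snd f₀ v₀) ((yon S).map si) := by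
    refine (IsPullback.of_right ?_ hui2 sqWi).flip
    rw [hui1, ← hg']
    exact isPullback_pbDiag D i₀ g' j
  obtain ⟨ai, bi, sqabi, sqbi, -, -⟩ := chartLiftPB_cat (D.map j.hom) b₀ f₀ hYi hXi v₀
    (pullback.fst f₀ v₀) (pullback.snd f₀ v₀) sqX₀ fWi ((yon S).map si) sqWi
    (pbSnd D i₀ g' j) ui sqUi
  have hbie : RepWith @Etale bi := (RepWith (S := S) @Etale).of_isPullback sqbi.flip hv₀e
  have hbis : RepWith @Surjective bi := (RepWith (S := S) @Surjective).of_isPullback sqbi.flip hv₀s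
  have hYi' : IsAlgSpace Yi :=
    isAlgSpace_of_isPullback (hD i₀).diag Y₀.property (hD j.left) hYi
  have hXi' : IsAlgSpace Xi :=
    isAlgSpace_of_isPullback Y₀.property.diag X₀.property hYi' hXi
  obtain ⟨pi, hpi⟩ := (yon S).map_surjective (e'.hom ≫ ui)
  have sqfin : IsPullback (e'.hom ≫ ai) ((yon S).map pi) fi bi := by
    rw [hpi]
    exact IsPullback.of_iso sqabi e'.symm (Iso.refl _) (Iso.refl _) (Iso.refl _)
      (by simp) (by simp) (by simp) (by simp)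
  have hcov := Groth.Agent.Lib.helper5.EtFpqc.isFpqcCover_of_chart hYi' Wi bi hbie hbis
  exact (Groth.Agent.S10533.result S (ι := PUnit.{u + 1}) (fun _ => (yon S).obj Wi)
    (fun _ => bi) hYi' (fun _ => IsAlgSpace.yon_obj Wi) hcov
    fi hXi' (fun _ => (yon S).obj T') (fun _ => (yon S).map pi)
    (fun _ => e'.hom ≫ ai) (fun _ => IsAlgSpace.yon_obj _) (fun _ => sqfin)).2
    (fun _ => isAffineMor_yon_map_of_isAffineHom pi inferInstance)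

end Groth.Agent.Lib.helper5.LimAff
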