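import Groth.Prelude
import Groth.Agent.Lib.Helper5.LimRepA
import Groth.Agent.Lib.Helper5.LimAffH
import Groth.Agent.Lib.Helper1.SevenProps
import Groth.Agent.S9187
import Groth.Agent.S10540

/-!
# Descent of finiteness and closed immersions through cofiltered limits of algebraic spaces (helper5)

* `descend_rep'`: variant of `LimDesc.descend_rep` where the property of the limit morphism is only required over affine bases.
* `rebase`: re-basing the pullback squares of the rows `AlgSp.descend_*_limit` to a later stage.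
* `descend_affine_rep`: descent of a property `P` of affine morphisms (`f₀` locally of finite type).
-/

set_option autoImplicit false
universe v u
open CategoryTheory CategoryTheory.Limits AlgebraicGeometry Opposite

namespace Groth.Agent.Lib.helper5.LimDesc

open AlgSp Groth.Agent.Lib.helper5.LimSp

variable {S : Scheme.{u}}

theorem descend_rep' {I : Type u} [SmallCategory I] [IsCofiltered I]
    (D : I ⥤ Sp S) (hDa : ∀ (i j : I) (φ : i ⟶ j), IsAffineMor (D.map φ))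
    (c : Cone D) (hc : IsLimit c) (i₀ : I)
    (X₀ Y₀ : Space S) (f₀ : X₀.obj ⟶ Y₀.obj) (b₀ : Y₀.obj ⟶ D.obj i₀)
    (hYqc : IsQuasiCompactSp Y₀.obj)
    (hf₀qc : RepWith @QuasiCompact f₀) (hf₀qs : RepWith @QuasiSeparated f₀)
    (hf₀lft : RepWith @LocallyOfFiniteType f₀)
    (X Y : Sp S) (f : X ⟶ Y) (pY : Y ⟶ Y₀.obj) (qY : Y ⟶ c.pt)
    (hY : IsPullback pY qY b₀ (c.π.app i₀)) (pX : X ⟶ X₀.obj) (hX : IsPullback pX f f₀ pY)
    (P : MorphismProperty Scheme.{u}) [P.RespectsIso] (hdesc : SchDescentFT P)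
    (hf : ∀ {Z T : Over S}, IsAffine Z.left → ∀ (b : (yon S).obj Z ⟶ Y) (a : (yon S).obj T ⟶ X)
      (u : T ⟶ Z), IsPullback a ((yon S).map u) f b → P u.left) :
    ∃ (i : I) (φ : i ⟶ i₀), ∀ (Xi Yi : Sp S) (fi : Xi ⟶ Yi) (pYi : Yi ⟶ Y₀.obj) (qYi : Yi ⟶ D.obj i)
      (_ : IsPullback pYi qYi b₀ (D.map φ)) (pXi : Xi ⟶ X₀.obj) (_ : IsPullback pXi fi f₀ pYi),
      ∃ (W T : Over S) (b : (yon S).obj W ⟶ Yi) (a : (yon S).obj T ⟶ Xi) (u : T ⟶ W),
        IsPullback a ((yon S).map u) fi b ∧ RepWith @Etale b ∧ RepWith @Surjective b ∧ P u.left := by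
  -- an affine chart of `Y₀`
  obtain ⟨V₀, v₀, hV₀, hv₀e, hv₀s⟩ := (Groth.Agent.S10180.result Y₀).1 hYqc
  haveI := hV₀
  -- `T₀ = X₀ ×_{Y₀} h_{V₀}`
  obtain ⟨T₀, h₀, a₀, sq₀⟩ := hf₀qc.rep v₀
  haveI hh₀qc : QuasiCompact h₀.left := hf₀qc.property v₀ a₀ h₀ sq₀
  haveI hh₀qs : QuasiSeparated h₀.left := hf₀qs.property v₀ a₀ h₀ sq₀
  haveI hh₀lft : LocallyOfFiniteType h₀.left := hf₀lft.property v₀ a₀ h₀ sq₀
  haveI : CompactSpace V₀.left := inferInstance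
  haveI hT₀c : CompactSpace T₀.left := QuasiCompact.compactSpace_of_compactSpace h₀.left
  haveI hT₀qs : QuasiSeparatedSpace T₀.left := quasiSeparatedSpace_of_quasiSeparated h₀.left
  -- the charts of the limit
  obtain ⟨W, s, f', sq, L, hL, p, hp, sL, fL, hpb, h1, h2, h3, h4, h5, ⟨h6⟩⟩ :=
    exists_chart_limit D c hc i₀ (v₀ ≫ b₀) hDa
  obtain ⟨j₀, hj₀⟩ : ∃ j₀ : Over i₀, j₀ = Over.mk (𝟙 i₀) := ⟨_, rfl⟩
  haveI hsiso : IsIso (s j₀) := by
    haveI : IsIso (D.map j₀.hom) := by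
      subst hj₀
      show IsIso (D.map (𝟙 i₀))
      rw [D.map_id]; infer_instance
    haveI : IsIso ((yon S).map (s j₀)) := (sq j₀).isIso_snd_of_isIso
    exact isIso_of_fully_faithful (yon S) (s j₀)
  -- the terminal maps
  have hterm : ∀ j : Over i₀, ∃ φ : j ⟶ j₀, ∀ ψ : j ⟶ j₀, ψ = φ := by
    intro j
    subst hj₀
    exact ⟨Over.mkIdTerminal.from j, fun ψ => Over.mkIdTerminal.hom_ext _ _⟩
  choose φt hφt using hterm
  -- the scheme-level diagram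
  haveI haffW : ∀ j, IsAffine (W j).left := fun j => by
    haveI := h5 j
    exact isAffine_of_isAffineHom (s j).left
  obtain ⟨k₀, hk₀⟩ : ∃ k₀ : T₀ ⟶ W j₀, k₀ = h₀ ≫ inv (s j₀) := ⟨_, rfl⟩
  have hk₀s : k₀ ≫ s j₀ = h₀ := by rw [hk₀, Category.assoc, IsIso.inv_hom_id, Category.comp_id]
  haveI hk₀lft : LocallyOfFiniteType k₀.left := by
    have : k₀.left = h₀.left ≫ (inv (s j₀)).left := by rw [hk₀]; rfl
    rw [this]
    haveI : IsIso (inv (s j₀)).left := (Over.forget S).map_isIso (inv (s j₀))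
    infer_instance
  -- the squares at the finite levels
  have sqlev : ∀ j : Over i₀, IsPullback (pullback.fst h₀ (s j)).left (pullback.snd h₀ (s j)).left
      k₀.left ((repDiag D i₀ (v₀ ≫ b₀) W s f' sq).map (φt j)).left := by
    intro j
    have e := IsPullback.of_hasPullback h₀ (s j)
    have e1 : IsPullback (pullback.fst h₀ (s j)) (pullback.snd h₀ (s j)) (k₀ ≫ s j₀)
        ((repDiag D i₀ (v₀ ≫ b₀) W s f' sq).map (φt j) ≫ s j₀) := by
      rw [hk₀s]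
      exact (congrArg (fun t => IsPullback (pullback.fst h₀ (s j)) (pullback.snd h₀ (s j)) h₀ t)
        (repDiag_map_s D i₀ (v₀ ≫ b₀) W s f' sq (φt j))).mpr e
    exact ((Groth.Agent.S9888.isPullback_comp_mono_iff (s j₀)).1 e1).map (Over.forget S)
  have sqlim : IsPullback (pullback.fst h₀ sL).left (pullback.snd h₀ sL).left k₀.left (p j₀).left := by
    have e := IsPullback.of_hasPullback h₀ sL
    have e1 : IsPullback (pullback.fst h₀ sL) (pullback.snd h₀ sL) (k₀ ≫ s j₀) (p j₀ ≫ s j₀) := by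
      rw [hk₀s, h1 j₀]
      exact e
    exact ((Groth.Agent.S9888.isPullback_comp_mono_iff (s j₀)).1 e1).map (Over.forget S)
  -- `P` at the limit
  have hPlim : P (pullback.snd h₀ sL).left := by
    obtain ⟨a, b, sqab, -, -⟩ :=
      chartLiftPB (c.π.app i₀) b₀ f₀ hY hX v₀ hv₀e hv₀s a₀ h₀ sq₀ fL sL hpb
        (pullback.fst h₀ sL) (pullback.snd h₀ sL) (IsPullback.of_hasPullback h₀ sL)
    haveI haffL : IsAffine L.pt.left := by
      haveI := h3 j₀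
      exact isAffine_of_isAffineHom (p j₀).left
    exact hf haffL b a _ sqab
  -- descent for schemes
  haveI : ∀ (i j : Over i₀) (φ : i ⟶ j),
      IsAffineHom ((repDiag D i₀ (v₀ ≫ b₀) W s f' sq ⋙ Over.forget S).map φ) := fun i j φ => h4 φ
  haveI : IsAffine ((repDiag D i₀ (v₀ ≫ b₀) W s f' sq ⋙ Over.forget S).obj j₀) := haffW j₀
  have sqlim' : IsPullback (pullback.fst h₀ sL).left (pullback.snd h₀ sL).left k₀.left
      (((Over.forget S).mapCone L).π.app j₀) := by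
    have : ((Over.forget S).mapCone L).π.app j₀ = (p j₀).left := by
      rw [hp j₀]; rfl
    rw [this]
    exact sqlim
  haveI : @LocallyOfFiniteType T₀.left
      ((repDiag D i₀ (v₀ ≫ b₀) W s f' sq ⋙ Over.forget S).obj j₀) k₀.left := hk₀lft
  obtain ⟨j, φ, Aj, kj, pA, hsqj, hPj⟩ :=
    hdesc (repDiag D i₀ (v₀ ≫ b₀) W s f' sq ⋙ Over.forget S) ((Over.forget S).mapCone L) h6 j₀
      (A₀ := T₀.left) (k₀.left : T₀.left ⟶ (repDiag D i₀ (v₀ ≫ b₀) W s f' sq ⋙ Over.forget S).obj j₀)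
      (pullback.snd h₀ sL).left (pullback.fst h₀ sL).left sqlim' hPlim
  have hφ : φ = φt j := hφt j φ
  have hPlev : P (pullback.snd h₀ (s j)).left := by
    have hsqj' : IsPullback pA kj k₀.left ((repDiag D i₀ (v₀ ≫ b₀) W s f' sq).map (φt j)).left := by
      rw [← hφ]; exact hsqj
    have e := (sqlev j).isoIsPullback _ _ hsqj'
    have he : ((sqlev j).isoIsPullback _ _ hsqj').hom ≫ kj = (pullback.snd h₀ (s j)).left :=
      IsPullback.isoIsPullback_hom_snd _ _ _ _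
    rw [← he]
    exact (P.cancel_left_of_respectsIso _ _).2 hPj
  refine ⟨j.left, j.hom, ?_⟩
  intro Xi Yi fi pYi qYi hYi pXi hXi
  obtain ⟨a, b, sqab, hbe, hbs⟩ :=
    chartLiftPB (D.map j.hom) b₀ f₀ hYi hXi v₀ hv₀e hv₀s a₀ h₀ sq₀ (f' j) (s j) (sq j)
      (pullback.fst h₀ (s j)) (pullback.snd h₀ (s j)) (IsPullback.of_hasPullback h₀ (s j))
  exact ⟨_, _, b, a, _, sqab, hbe, hbs, hPlev⟩


section cat

variable {C : Type u} [Category.{v} C] [HasPullbacks C]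

/-- Re-basing the two pullback squares of a base change along `γ ≫ β₁` to squares over the intermediate stage. -/
theorem rebase {B' B₁ B₀ X₀ Y₀ X' Y' : C} (γ : B' ⟶ B₁) (β₁ : B₁ ⟶ B₀) (b₀ : Y₀ ⟶ B₀)
    (f₀ : X₀ ⟶ Y₀) {pY : Y' ⟶ Y₀} {qY : Y' ⟶ B'} (hY : IsPullback pY qY b₀ (γ ≫ β₁))
    {pX : X' ⟶ X₀} {f' : X' ⟶ Y'} (hX : IsPullback pX f' f₀ pY) :
    ∃ (pY' : Y' ⟶ pullback b₀ β₁) (pX' : X' ⟶ pullback f₀ (pullback.fst b₀ β₁)),
      IsPullback pY' qY (pullback.snd b₀ β₁) γ ∧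
      IsPullback pX' f' (pullback.snd f₀ (pullback.fst b₀ β₁)) pY' := by
  have hc1 : pY ≫ b₀ = (qY ≫ γ) ≫ β₁ := by rw [Category.assoc]; exact hY.w
  obtain ⟨pY', h1, h2⟩ : ∃ pY' : Y' ⟶ pullback b₀ β₁,
      pY' ≫ pullback.fst b₀ β₁ = pY ∧ pY' ≫ pullback.snd b₀ β₁ = qY ≫ γ :=
    ⟨pullback.lift pY (qY ≫ γ) hc1, pullback.lift_fst _ _ _, pullback.lift_snd _ _ _⟩
  have sqY' : IsPullback pY' qY (pullback.snd b₀ β₁) γ := by
    refine IsPullback.of_right ?_ h2 (IsPullback.of_hasPullback b₀ β₁)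
    rw [h1]
    exact hY
  have hc2 : pX ≫ f₀ = (f' ≫ pY') ≫ pullback.fst b₀ β₁ := by
    rw [Category.assoc, h1]; exact hX.w
  obtain ⟨pX', h3, h4⟩ : ∃ pX' : X' ⟶ pullback f₀ (pullback.fst b₀ β₁),
      pX' ≫ pullback.fst f₀ (pullback.fst b₀ β₁) = pX ∧
      pX' ≫ pullback.snd f₀ (pullback.fst b₀ β₁) = f' ≫ pY' :=
    ⟨pullback.lift pX (f' ≫ pY') hc2, pullback.lift_fst _ _ _, pullback.lift_snd _ _ _⟩
  refine ⟨pY', pX', sqY', ?_⟩
  refine IsPullback.of_right ?_ h4 (IsPullback.of_hasPullback f₀ (pullback.fst b₀ β₁))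
  rw [h3, h1]
  exact hX

end cat

/-- Descent of a property `P` of affine morphisms: if the base change `f` of `f₀` (locally of finite type) to the limit is affine and
has `P` over affine bases, then for some stage every base change `f_i` has `P` after base change to an étale surjective chart. -/
theorem descend_affine_rep [QuasiSeparatedSpace S] {I : Type u} [SmallCategory I] [IsCofiltered I]
    (D : I ⥤ Sp S) (hD : ∀ i, IsAlgSpace (D.obj i))
    (hDa : ∀ (i j : I) (φ : i ⟶ j), IsAffineMor (D.map φ))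
    (c : Cone D) (hc : IsLimit c) (i₀ : I)
    (X₀ Y₀ : Space S) (f₀ : X₀.obj ⟶ Y₀.obj) (b₀ : Y₀.obj ⟶ D.obj i₀)
    (hXqc : IsQuasiCompactSp X₀.obj) (hXqs : IsQuasiSeparatedSp X₀.obj)
    (hYqc : IsQuasiCompactSp Y₀.obj) (hYqs : IsQuasiSeparatedSp Y₀.obj)
    (X Y : Sp S) (f : X ⟶ Y) (pY : Y ⟶ Y₀.obj) (qY : Y ⟶ c.pt)
    (hY : IsPullback pY qY b₀ (c.π.app i₀)) (pX : X ⟶ X₀.obj) (hX : IsPullback pX f f₀ pY)
    (hf₀ : LocP @LocallyOfFiniteType f₀) (hfa : IsAffineMor f)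
    (P : MorphismProperty Scheme.{u}) [P.RespectsIso] (hdesc : SchDescentFT P)
    (hf : ∀ {Z T : Over S}, IsAffine Z.left → ∀ (b : (yon S).obj Z ⟶ Y) (a : (yon S).obj T ⟶ X)
      (u : T ⟶ Z), IsPullback a ((yon S).map u) f b → P u.left) :
    ∃ (i : I) (φ : i ⟶ i₀), ∀ (Xi Yi : Sp S) (fi : Xi ⟶ Yi) (pYi : Yi ⟶ Y₀.obj) (qYi : Yi ⟶ D.obj i)
      (_ : IsPullback pYi qYi b₀ (D.map φ)) (pXi : Xi ⟶ X₀.obj) (_ : IsPullback pXi fi f₀ pYi),
      ∃ (W T : Over S) (b : (yon S).obj W ⟶ Yi) (a : (yon S).obj T ⟶ Xi) (u : T ⟶ W),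
        IsPullback a ((yon S).map u) fi b ∧ RepWith @Etale b ∧ RepWith @Surjective b ∧ P u.left := by
  obtain ⟨i₁, φ₁, h₁⟩ := Groth.Agent.Lib.helper5.LimAff.descend_isAffineMor D hD hDa c hc i₀ X₀ Y₀ f₀ b₀
    hXqc hXqs hYqc hYqs X Y f pY qY hY pX hX hfa
  -- the stage `i₁`
  have sqY₁ : IsPullback (pullback.fst b₀ (D.map φ₁)) (pullback.snd b₀ (D.map φ₁)) b₀ (D.map φ₁) :=
    IsPullback.of_hasPullback _ _
  have sqX₁ : IsPullback (pullback.fst f₀ (pullback.fst b₀ (D.map φ₁)))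
      (pullback.snd f₀ (pullback.fst b₀ (D.map φ₁))) f₀ (pullback.fst b₀ (D.map φ₁)) :=
    IsPullback.of_hasPullback _ _
  have hY₁ : IsAlgSpace (pullback b₀ (D.map φ₁)) :=
    isAlgSpace_of_isPullback (hD i₀).diag Y₀.property (hD i₁) sqY₁
  have hX₁ : IsAlgSpace (pullback f₀ (pullback.fst b₀ (D.map φ₁))) :=
    isAlgSpace_of_isPullback Y₀.property.diag X₀.property hY₁ sqX₁
  have hf₁a : IsAffineMor (pullback.snd f₀ (pullback.fst b₀ (D.map φ₁))) :=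
    h₁ _ _ _ _ _ sqY₁ _ sqX₁
  have hf₁rep : RepWith @IsAffineHom (pullback.snd f₀ (pullback.fst b₀ (D.map φ₁))) :=
    Groth.Agent.S9941.main _ hf₁a
  have hf₁qc : RepWith @QuasiCompact (pullback.snd f₀ (pullback.fst b₀ (D.map φ₁))) :=
    ⟨hf₁rep.rep, fun _ _ g fst snd sq => by
      haveI : IsAffineHom snd.left := hf₁rep.2 g fst snd sq
      exact (inferInstance : QuasiCompact snd.left)⟩
  have hf₁qs : RepWith @QuasiSeparated (pullback.snd f₀ (pullback.fst b₀ (D.map φ₁))) :=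
    ⟨hf₁rep.rep, fun _ _ g fst snd sq => by
      haveI : IsAffineHom snd.left := hf₁rep.2 g fst snd sq
      exact (inferInstance : QuasiSeparated snd.left)⟩
  have hf₁lft : RepWith @LocallyOfFiniteType (pullback.snd f₀ (pullback.fst b₀ (D.map φ₁))) :=
    (Groth.Agent.H1.Seven.locP_iff_repWith Groth.Agent.Lib.helper5.LocPBC.locPData_lft hX₁ hY₁ _
      hf₁rep.rep).1
      (Groth.Agent.Lib.helper5.LocPBC.locP_of_isPullback Groth.Agent.Lib.helper5.LocPBC.locPData_lft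
        X₀.property Y₀.property hY₁ sqX₁ hf₀)
  have hY₁qc : IsQuasiCompactSp (pullback b₀ (D.map φ₁)) :=
    Groth.Agent.Lib.helper5.LimAff.isQuasiCompactSp_of_isAffineMor hY₁ Y₀.property hYqc
      (pullback.fst b₀ (D.map φ₁))
      (Groth.Agent.Lib.helper5.LimSep.isAffineMor_of_isPullback sqY₁.flip (hDa _ _ φ₁))
  -- re-base the limit data
  have hw : c.π.app i₁ ≫ D.map φ₁ = c.π.app i₀ := c.w φ₁
  have hY' : IsPullback pY qY b₀ (c.π.app i₁ ≫ D.map φ₁) := by rw [hw]; exact hY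
  obtain ⟨pY', pX', hY₁', hX₁'⟩ := rebase (c.π.app i₁) (D.map φ₁) b₀ f₀ hY' hX
  obtain ⟨i, φ, h⟩ := descend_rep' D hDa c hc i₁
    ⟨pullback f₀ (pullback.fst b₀ (D.map φ₁)), hX₁⟩ ⟨pullback b₀ (D.map φ₁), hY₁⟩
    (pullback.snd f₀ (pullback.fst b₀ (D.map φ₁))) (pullback.snd b₀ (D.map φ₁)) hY₁qc hf₁qc hf₁qs
    hf₁lft X Y f pY' qY hY₁' pX' hX₁' P hdesc hf
  refine ⟨i, φ ≫ φ₁, fun Xi Yi fi pYi qYi hYi pXi hXi => ?_⟩
  have hYi' : IsPullback pYi qYi b₀ (D.map φ ≫ D.map φ₁) := by rw [← D.map_comp]; exact hYi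
  obtain ⟨pYi', pXi', hYi₁, hXi₁⟩ := rebase (D.map φ) (D.map φ₁) b₀ f₀ hYi' hXi
  exact h Xi Yi fi pYi' qYi hYi₁ pXi' hXi₁

theorem schDescentFT_isFinite : SchDescentFT.{u} @IsFinite := by
  intro J _ _ E cE hcE _ j₀ _ A₀ _ _ k₀ _ A k qA hA hPk
  have hY : IsPullback (cE.π.app j₀) (𝟙 cE.pt) (𝟙 (E.obj j₀)) (cE.π.app j₀) :=
    IsPullback.of_id_snd
  haveI : IsFinite k := hPk
  obtain ⟨i, φ, Xi, Yi, fi, gi, pY, pX, h1, h2, h3⟩ :=
    Groth.Agent.S9187.result E cE hcE j₀ k₀ (𝟙 _) k (𝟙 _) (cE.π.app j₀) qA hY hA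
  haveI : IsIso gi := h1.isIso_snd_of_isIso
  refine ⟨i, φ, Xi, fi ≫ gi, pX, ?_,
    (MorphismProperty.cancel_right_of_respectsIso @IsFinite fi gi).2 h3⟩
  have := h2.paste_vert h1
  rwa [Category.comp_id] at this

/-- `h_m` is finite if `m` is. -/
theorem isFiniteMor_yon_map {A B : Over S} (m : A ⟶ B) (hm : IsFinite m.left) :
    IsFiniteMor ((yon S).map m) := by
  intro Z hZ g
  obtain ⟨ζ, rfl⟩ := (yon S).map_surjective g
  have sq0 : IsPullback (pullback.fst m ζ) (pullback.snd m ζ) m ζ := IsPullback.of_hasPullback m ζ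
  have sqL := sq0.map (Over.forget S)
  have hfin : IsFinite (pullback.snd m ζ).left :=
    MorphismProperty.of_isPullback (P := @IsFinite) sqL hm
  haveI : IsAffine Z.left := hZ
  refine ⟨pullback m ζ, pullback.snd m ζ, (yon S).map (pullback.fst m ζ), sq0.map (yon S), ?_, hfin⟩
  exact isAffine_of_isAffineHom (pullback.snd m ζ).left

/-- Finite morphisms descend through cofiltered limits of algebraic spaces with affine transition maps. -/
theorem descend_isFiniteMor [QuasiSeparatedSpace S] {I : Type u} [SmallCategory I] [IsCofiltered I]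
    (D : I ⥤ Sp S) (hD : ∀ i, IsAlgSpace (D.obj i))
    (hDa : ∀ (i j : I) (φ : i ⟶ j), IsAffineMor (D.map φ))
    (c : Cone D) (hc : IsLimit c) (i₀ : I)
    (X₀ Y₀ : Space S) (f₀ : X₀.obj ⟶ Y₀.obj) (b₀ : Y₀.obj ⟶ D.obj i₀)
    (hXqc : IsQuasiCompactSp X₀.obj) (hXqs : IsQuasiSeparatedSp X₀.obj)
    (hYqc : IsQuasiCompactSp Y₀.obj) (hYqs : IsQuasiSeparatedSp Y₀.obj)
    (X Y : Sp S) (f : X ⟶ Y) (pY : Y ⟶ Y₀.obj) (qY : Y ⟶ c.pt)
    (hY : IsPullback pY qY b₀ (c.π.app i₀)) (pX : X ⟶ X₀.obj) (hX : IsPullback pX f f₀ pY)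
    (hf : IsFiniteMor f) (hf₀ : LocP @LocallyOfFiniteType f₀) :
    ∃ (i : I) (φ : i ⟶ i₀), ∀ (Xi Yi : Sp S) (fi : Xi ⟶ Yi) (pYi : Yi ⟶ Y₀.obj) (qYi : Yi ⟶ D.obj i)
      (_ : IsPullback pYi qYi b₀ (D.map φ)) (pXi : Xi ⟶ X₀.obj) (_ : IsPullback pXi fi f₀ pYi),
      IsFiniteMor fi := by
  have hfa : IsAffineMor f := fun Z hZ g => by
    obtain ⟨W, i, fst, sq, hW, -⟩ := hf hZ g
    exact ⟨W, i, fst, sq, hW⟩
  obtain ⟨i, φ, h⟩ := descend_affine_rep D hD hDa c hc i₀ X₀ Y₀ f₀ b₀ hXqc hXqs hYqc hYqs X Y f pY qY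
    hY pX hX hf₀ hfa @IsFinite schDescentFT_isFinite (fun {Z T} hZ b a u sq => by
      obtain ⟨W, i, fst, sq', hW, hfin⟩ := hf hZ b
      obtain ⟨ε, hε⟩ := (yon S).map_surjective (sq.isoIsPullback _ _ sq').hom
      haveI : IsIso ((yon S).map ε) := by rw [hε]; infer_instance
      haveI : IsIso ε := isIso_of_fully_faithful (yon S) ε
      have hu : ε ≫ i = u := by
        apply (yon S).map_injective
        rw [Functor.map_comp, hε]
        exact IsPullback.isoIsPullback_hom_snd _ _ _ _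
      have hul : u.left = ε.left ≫ i.left := by rw [← hu]; rfl
      haveI : IsIso ε.left := (Over.forget S).map_isIso ε
      show IsFinite u.left
      rw [hul]
      infer_instance)
  refine ⟨i, φ, fun Xi Yi fi pYi qYi hYi pXi hXi => ?_⟩
  obtain ⟨W, T, b, a, u, sqab, hbe, hbs, hu⟩ := h Xi Yi fi pYi qYi hYi pXi hXi
  have hYi' : IsAlgSpace Yi :=
    Groth.Agent.Lib.helper5.isAlgSpace_of_isPullback (hD i₀).diag Y₀.property (hD i) hYi
  have hXi' : IsAlgSpace Xi :=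
    Groth.Agent.Lib.helper5.isAlgSpace_of_isPullback Y₀.property.diag X₀.property hYi' hXi
  have hcov := Groth.Agent.Lib.helper5.EtFpqc.isFpqcCover_of_chart hYi' W b hbe hbs
  exact (Groth.Agent.S10540.result S (ι := PUnit.{u + 1})
    (fun _ => (yon S).obj W) (fun _ => b)
    hYi' (fun _ => IsAlgSpace.yon_obj _) hcov fi hXi'
    (fun _ => (yon S).obj T) (fun _ => (yon S).map u)
    (fun _ => a) (fun _ => IsAlgSpace.yon_obj T) (fun _ => sqab)).2
    (fun _ => isFiniteMor_yon_map u hu)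

/-- Closed immersions descend through cofiltered limits of algebraic spaces with affine transition maps. -/
theorem descend_closedImmersion [QuasiSeparatedSpace S] {I : Type u} [SmallCategory I] [IsCofiltered I]
    (D : I ⥤ Sp S) (hD : ∀ i, IsAlgSpace (D.obj i))
    (hDa : ∀ (i j : I) (φ : i ⟶ j), IsAffineMor (D.map φ))
    (c : Cone D) (hc : IsLimit c) (i₀ : I)
    (X₀ Y₀ : Space S) (f₀ : X₀.obj ⟶ Y₀.obj) (b₀ : Y₀.obj ⟶ D.obj i₀)
    (hXqc : IsQuasiCompactSp X₀.obj) (hXqs : IsQuasiSeparatedSp X₀.obj)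
    (hYqc : IsQuasiCompactSp Y₀.obj) (hYqs : IsQuasiSeparatedSp Y₀.obj)
    (X Y : Sp S) (f : X ⟶ Y) (pY : Y ⟶ Y₀.obj) (qY : Y ⟶ c.pt)
    (hY : IsPullback pY qY b₀ (c.π.app i₀)) (pX : X ⟶ X₀.obj) (hX : IsPullback pX f f₀ pY)
    (hf : RepWith @IsClosedImmersion f) (hf₀ : LocP @LocallyOfFiniteType f₀) :
    ∃ (i : I) (φ : i ⟶ i₀), ∀ (Xi Yi : Sp S) (fi : Xi ⟶ Yi) (pYi : Yi ⟶ Y₀.obj) (qYi : Yi ⟶ D.obj i)
      (_ : IsPullback pYi qYi b₀ (D.map φ)) (pXi : Xi ⟶ X₀.obj) (_ : IsPullback pXi fi f₀ pYi),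
      RepWith @IsClosedImmersion fi := by
  have hfa : IsAffineMor f := Groth.Agent.Lib.helper5.LimSp.isAffineMor_of_repWith' f
    ⟨hf.rep, fun _ _ g fst snd sq => by
      haveI : IsClosedImmersion snd.left := hf.2 g fst snd sq
      exact (inferInstance : IsAffineHom snd.left)⟩
  obtain ⟨i, φ, h⟩ := descend_affine_rep D hD hDa c hc i₀ X₀ Y₀ f₀ b₀ hXqc hXqs hYqc hYqs X Y f pY qY
    hY pX hX hf₀ hfa @IsClosedImmersion schDescentFT_isClosedImmersion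
    (fun {Z T} _ b a u sq => hf.2 b a u sq)
  refine ⟨i, φ, fun Xi Yi fi pYi qYi hYi pXi hXi => ?_⟩
  obtain ⟨W, T, b, a, u, sqab, hbe, hbs, hu⟩ := h Xi Yi fi pYi qYi hYi pXi hXi
  have hYi' : IsAlgSpace Yi :=
    Groth.Agent.Lib.helper5.isAlgSpace_of_isPullback (hD i₀).diag Y₀.property (hD i) hYi
  have hXi' : IsAlgSpace Xi :=
    Groth.Agent.Lib.helper5.isAlgSpace_of_isPullback Y₀.property.diag X₀.property hYi' hXi
  have hcov := Groth.Agent.Lib.helper5.EtFpqc.isFpqcCover_of_chart hYi' W b hbe hbs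
  exact (Groth.Agent.S10534.result S (ι := PUnit.{u + 1})
    (fun _ => (yon S).obj W) (fun _ => b)
    hYi' (fun _ => IsAlgSpace.yon_obj _) hcov fi hXi'
    (fun _ => (yon S).obj T) (fun _ => (yon S).map u)
    (fun _ => a) (fun _ => IsAlgSpace.yon_obj T) (fun _ => sqab)).2
    (fun _ => (repWith_yon_map_iff @IsClosedImmersion u).2 hu)

end Groth.Agent.Lib.helper5.LimDesc
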