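import Groth.Prelude
import Groth.Agent.Lib.Helper5.LimAffG
import Groth.Agent.Lib.Helper5.LimSpF
import Groth.Agent.S0594
import Groth.Agent.S10534

/-!
# Closed immersions to a base in cofiltered limits of algebraic spaces (helper5)

`eventually_closedImmersion_to_base`: for `X = lim X_i` over `Y` (quasi-compact and quasi-separated) with `X_i` quasi-compact,
quasi-separated and locally of finite type over `Y`, transition maps closed immersions and `X ⟶ Y` a closed immersion,
`X_i ⟶ Y` is a closed immersion for all `i` mapping to some `i₀`.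
-/

set_option autoImplicit false
universe u
open CategoryTheory CategoryTheory.Limits AlgebraicGeometry Opposite

namespace Groth.Agent.Lib.helper5.LimAff

open AlgSp Groth.Agent.Lib.helper5.LimSp

variable {S : Scheme.{u}}

theorem isAffineMor_of_closedImmersion {F G : Sp S} (f : F ⟶ G) (hf : RepWith @IsClosedImmersion f) :
    IsAffineMor f :=
  isAffineMor_of_repWith' f ⟨hf.rep, fun _ _ g fst snd sq => by
    haveI : IsClosedImmersion snd.left := hf.2 g fst snd sq
    exact (inferInstance : IsAffineHom snd.left)⟩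

theorem eventually_closedImmersion_to_base [QuasiSeparatedSpace S] {I : Type u} [SmallCategory I]
    [IsCofiltered I] (Y : Space S) (D : I ⥤ Sp S) (hD : ∀ i, IsAlgSpace (D.obj i))
    (t : D ⟶ (Functor.const I).obj Y.obj)
    (hDc : ∀ (i j : I) (φ : i ⟶ j), RepWith @IsClosedImmersion (D.map φ))
    (c : Cone D) (hc : IsLimit c) (g : c.pt ⟶ Y.obj) (hg : ∀ i, c.π.app i ≫ t.app i = g)
    (hqc : ∀ i, IsQuasiCompactSp (D.obj i)) (hqs : ∀ i, IsQuasiSeparatedSp (D.obj i))
    (hYqc : IsQuasiCompactSp Y.obj) (hYqs : IsQuasiSeparatedSp Y.obj)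
    (hft : ∀ i, LocP @LocallyOfFiniteType (t.app i)) (hX : RepWith @IsClosedImmersion g) :
    ∃ i₀ : I, ∀ (i : I) (_ : i ⟶ i₀), RepWith @IsClosedImmersion (t.app i) := by
  have hDa : ∀ (i j : I) (φ : i ⟶ j), IsAffineMor (D.map φ) := fun i j φ =>
    isAffineMor_of_closedImmersion _ (hDc i j φ)
  obtain ⟨i₀, hi₀⟩ := eventually_isAffineMor Y D hD t hDa c hc g hg hqc hqs hYqc hYqs
    (isAffineMor_of_closedImmersion g hX)
  have hta : IsAffineMor (t.app i₀) := hi₀ i₀ (𝟙 i₀)
  have htnat : ∀ {i j : I} (φ : i ⟶ j), D.map φ ≫ t.app j = t.app i := fun φ => by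
    have := t.naturality φ
    simp only [Functor.const_obj_obj, Functor.const_obj_map, Category.comp_id] at this
    exact this
  -- an affine chart of `Y` and its base change to `X_{i₀}`
  obtain ⟨V₀, v₀, hV₀, hv₀e, hv₀s⟩ := (Groth.Agent.S10180.result Y).1 hYqc
  haveI := hV₀
  obtain ⟨W₀, a₀, fst₀, sq₀, hW₀⟩ := hta hV₀ v₀
  haveI := hW₀
  have hfst₀e : RepWith @Etale fst₀ := (RepWith (S := S) @Etale).of_isPullback sq₀.flip hv₀e
  -- the charts of the stages
  obtain ⟨W, s, f, sq, L, hL, p, hp, sL, fL, hpb, h1, h2, h3, h4, h5, ⟨h6⟩⟩ :=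
    exists_chart_limit D c hc i₀ fst₀ hDa
  haveI haffW : ∀ j, IsAffine (W j).left := fun j => by
    haveI := h5 j
    exact isAffine_of_isAffineHom (s j).left
  have hfe : ∀ j, RepWith @Etale (f j) := fun j =>
    (RepWith (S := S) @Etale).of_isPullback (sq j).flip hfst₀e
  have sqj : ∀ j : Over i₀, IsPullback (f j) ((yon S).map (s j ≫ a₀)) (t.app j.left) v₀ := fun j => by
    have := (sq j).paste_vert sq₀
    rwa [htnat j.hom, ← Functor.map_comp] at this
  have sqL : IsPullback fL ((yon S).map (sL ≫ a₀)) g v₀ := by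
    have := hpb.paste_vert sq₀
    rwa [hg i₀, ← Functor.map_comp] at this
  -- the scheme-level diagram over `V₀`
  let E : Over i₀ ⥤ Scheme.{u} := repDiag D i₀ fst₀ W s f sq ⋙ Over.forget S
  let tE : E ⟶ (Functor.const (Over i₀)).obj V₀.left :=
    { app := fun j => (s j ≫ a₀).left
      naturality := fun j k φ => by
        have h0 := congrArg (fun m => (m ≫ a₀).left) (repDiag_map_s D i₀ fst₀ W s f sq φ)
        simpa [E] using h0 }
  haveI : ∀ (j k : Over i₀) (φ : j ⟶ k), IsClosedImmersion (E.map φ) := fun j k φ =>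
    (hDc _ _ φ.left).2 _ _ _ (isPullback_repDiag_map D i₀ fst₀ W s f sq φ)
  haveI : ∀ j, CompactSpace (E.obj j) := fun j => by
    have hc : CompactSpace (W j).left := inferInstance
    exact hc
  haveI : ∀ j, QuasiSeparatedSpace (E.obj j) := fun j => by
    have hc : QuasiSeparatedSpace (W j).left := inferInstance
    exact hc
  haveI : ∀ j, LocallyOfFiniteType (tE.app j) := fun j =>
    hft j.left (f j) v₀ (s j ≫ a₀) (hfe j) hv₀e (sqj j).w
  obtain ⟨j₀, hj₀⟩ : ∃ j₀ : Over i₀, j₀ = Over.mk (𝟙 i₀) := ⟨_, rfl⟩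
  haveI : IsClosedImmersion (((Over.forget S).mapCone L).π.app j₀ ≫ tE.app j₀) := by
    have h0 : IsClosedImmersion (sL ≫ a₀).left := hX.2 _ _ _ sqL
    have e : ((Over.forget S).mapCone L).π.app j₀ ≫ tE.app j₀ = (sL ≫ a₀).left := by
      have h0' : L.π.app j₀ ≫ s j₀ = sL := by rw [← hp j₀]; exact h1 j₀
      have h0 := congrArg (fun m => (m ≫ a₀).left) h0'
      simpa [E, tE] using h0
    rw [e]
    exact h0
  obtain ⟨j, hj⟩ := Groth.Agent.S0594.result V₀.left E tE ((Over.forget S).mapCone L) h6 j₀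
  have hcov := Groth.Agent.Lib.helper5.EtFpqc.isFpqcCover_of_chart Y.property V₀ v₀ hv₀e hv₀s
  have hj' : RepWith @IsClosedImmersion (t.app j.left) :=
    (Groth.Agent.S10534.result S (ι := PUnit.{u + 1}) (fun _ => (yon S).obj V₀)
      (fun _ => v₀) Y.property (fun _ => IsAlgSpace.yon_obj V₀) hcov
      (t.app j.left) (hD j.left) (fun _ => (yon S).obj (W j)) (fun _ => (yon S).map (s j ≫ a₀))
      (fun _ => f j) (fun _ => IsAlgSpace.yon_obj _) (fun _ => sqj j)).2
      (fun _ => (repWith_yon_map_iff @IsClosedImmersion (s j ≫ a₀)).2 hj)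
  refine ⟨j.left, fun i ψ => ?_⟩
  rw [← htnat ψ]
  exact (RepWith (S := S) @IsClosedImmersion).comp_mem _ _ (hDc _ _ ψ) hj'

end Groth.Agent.Lib.helper5.LimAff
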