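import Groth.Prelude
import Groth.Agent.Lib.Helper5.LimAffI
import Groth.Agent.Lib.Helper5.LimAffJ
import Groth.Agent.S2154

/-!
# Finiteness over a base in cofiltered limits of algebraic spaces (helper5)

`eventually_isFiniteMor`: for `X = lim X_i` over `Y` (quasi-compact and quasi-separated) with `X_i` quasi-compact, quasi-separated
and locally of finite type over `Y`, finite transition maps and `X ⟶ Y` integral, `X_i ⟶ Y` is finite for all `i` mapping to some
`i₀`.
-/

set_option autoImplicit false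
universe u
open CategoryTheory CategoryTheory.Limits AlgebraicGeometry Opposite

namespace Groth.Agent.Lib.helper5.LimAff

open AlgSp Groth.Agent.Lib.helper5.LimSp

variable {S : Scheme.{u}}

/-- Any scheme representing the base change of a finite morphism to an affine scheme is finite over it. -/
theorem isFinite_of_isFiniteMor {F G : Sp S} (f : F ⟶ G) (hf : IsFiniteMor f) {Z T : Over S}
    (hZ : IsAffine Z.left) (b : (yon S).obj Z ⟶ G) (a : (yon S).obj T ⟶ F) (u : T ⟶ Z)
    (sq : IsPullback a ((yon S).map u) f b) : IsFinite u.left := by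
  obtain ⟨W, i, fst, sq', hW, hfin⟩ := hf hZ b
  obtain ⟨ε, hε⟩ := (yon S).map_surjective (sq.isoIsPullback _ _ sq').hom
  haveI : IsIso ((yon S).map ε) := by rw [hε]; infer_instance
  haveI : IsIso ε := isIso_of_fully_faithful (yon S) ε
  have hu : ε ≫ i = u := by
    apply (yon S).map_injective
    rw [Functor.map_comp, hε]
    exact IsPullback.isoIsPullback_hom_snd _ _ _ _
  have hul : u.left = ε.left ≫ i.left := by rw [← hu]; rfl
  haveI : IsIso ε.left := (Over.forget S).map_isIso ε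
  rw [hul]
  infer_instance

/-- Any scheme representing the base change of an integral morphism to an affine scheme is integral over it. -/
theorem isIntegralHom_of_isIntegralMor {F G : Sp S} (f : F ⟶ G) (hf : IsIntegralMor f) {Z T : Over S}
    (hZ : IsAffine Z.left) (b : (yon S).obj Z ⟶ G) (a : (yon S).obj T ⟶ F) (u : T ⟶ Z)
    (sq : IsPullback a ((yon S).map u) f b) : IsIntegralHom u.left := by
  obtain ⟨W, i, fst, sq', hW, hfin⟩ := hf hZ b
  obtain ⟨ε, hε⟩ := (yon S).map_surjective (sq.isoIsPullback _ _ sq').hom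
  haveI : IsIso ((yon S).map ε) := by rw [hε]; infer_instance
  haveI : IsIso ε := isIso_of_fully_faithful (yon S) ε
  have hu : ε ≫ i = u := by
    apply (yon S).map_injective
    rw [Functor.map_comp, hε]
    exact IsPullback.isoIsPullback_hom_snd _ _ _ _
  have hul : u.left = ε.left ≫ i.left := by rw [← hu]; rfl
  haveI : IsIso ε.left := (Over.forget S).map_isIso ε
  rw [hul]
  infer_instance

theorem eventually_isFiniteMor [QuasiSeparatedSpace S] {I : Type u} [SmallCategory I]
    [IsCofiltered I] (Y : Space S) (D : I ⥤ Sp S) (hD : ∀ i, IsAlgSpace (D.obj i))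
    (t : D ⟶ (Functor.const I).obj Y.obj)
    (hDf : ∀ (i j : I) (φ : i ⟶ j), IsFiniteMor (D.map φ))
    (c : Cone D) (hc : IsLimit c) (g : c.pt ⟶ Y.obj) (hg : ∀ i, c.π.app i ≫ t.app i = g)
    (hqc : ∀ i, IsQuasiCompactSp (D.obj i)) (hqs : ∀ i, IsQuasiSeparatedSp (D.obj i))
    (hYqc : IsQuasiCompactSp Y.obj) (hYqs : IsQuasiSeparatedSp Y.obj)
    (hft : ∀ i, LocP @LocallyOfFiniteType (t.app i)) (hX : IsIntegralMor g) :
    ∃ i₀ : I, ∀ (i : I) (_ : i ⟶ i₀), IsFiniteMor (t.app i) := by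
  have hDa : ∀ (i j : I) (φ : i ⟶ j), IsAffineMor (D.map φ) := fun i j φ Z hZ g => by
    obtain ⟨W, i, fst, sq, hW, -⟩ := hDf i j φ hZ g
    exact ⟨W, i, fst, sq, hW⟩
  have hga : IsAffineMor g := fun Z hZ b => by
    obtain ⟨W, i, fst, sq, hW, -⟩ := hX hZ b
    exact ⟨W, i, fst, sq, hW⟩
  obtain ⟨i₀, hi₀⟩ := eventually_isAffineMor Y D hD t hDa c hc g hg hqc hqs hYqc hYqs hga
  have hta : IsAffineMor (t.app i₀) := hi₀ i₀ (𝟙 i₀)
  have htnat : ∀ {i j : I} (φ : i ⟶ j), D.map φ ≫ t.app j = t.app i := fun φ => by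
    have := t.naturality φ
    simp only [Functor.const_obj_obj, Functor.const_obj_map, Category.comp_id] at this
    exact this
  -- an affine chart of `Y` and its base change to `X_{i₀}`
  obtain ⟨V₀, v₀, hV₀, hv₀e, hv₀s⟩ := (Groth.Agent.S10180.result Y).1 hYqc
  haveI := hV₀
  obtain ⟨W₀, a₀, fst₀, sq₀, hW₀⟩ := hta hV₀ v₀
  haveI := hW₀
  have hfst₀e : RepWith @Etale fst₀ := (RepWith (S := S) @Etale).of_isPullback sq₀.flip hv₀e
  -- the charts of the stages
  obtain ⟨W, s, f, sq, L, hL, p, hp, sL, fL, hpb, h1, h2, h3, h4, h5, ⟨h6⟩⟩ :=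
    exists_chart_limit D c hc i₀ fst₀ hDa
  haveI haffW : ∀ j, IsAffine (W j).left := fun j => by
    haveI := h5 j
    exact isAffine_of_isAffineHom (s j).left
  have hfe : ∀ j, RepWith @Etale (f j) := fun j =>
    (RepWith (S := S) @Etale).of_isPullback (sq j).flip hfst₀e
  have sqj : ∀ j : Over i₀, IsPullback (f j) ((yon S).map (s j ≫ a₀)) (t.app j.left) v₀ := fun j => by
    have := (sq j).paste_vert sq₀
    rwa [htnat j.hom, ← Functor.map_comp] at this
  have sqL : IsPullback fL ((yon S).map (sL ≫ a₀)) g v₀ := by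
    have := hpb.paste_vert sq₀
    rwa [hg i₀, ← Functor.map_comp] at this
  -- the scheme-level diagram over `V₀`
  let E : Over i₀ ⥤ Scheme.{u} := repDiag D i₀ fst₀ W s f sq ⋙ Over.forget S
  let tE : E ⟶ (Functor.const (Over i₀)).obj V₀.left :=
    { app := fun j => (s j ≫ a₀).left
      naturality := fun j k φ => by
        have h0 := congrArg (fun m => (m ≫ a₀).left) (repDiag_map_s D i₀ fst₀ W s f sq φ)
        simpa [E] using h0 }
  have hpL : ∀ j, ((Over.forget S).mapCone L).π.app j ≫ tE.app j = (sL ≫ a₀).left := by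
    intro j
    have h0' : L.π.app j ≫ s j = sL := by rw [← hp j]; exact h1 j
    have h0 := congrArg (fun m => (m ≫ a₀).left) h0'
    simpa [E, tE] using h0
  haveI : Nonempty (Over i₀) := ⟨Over.mk (𝟙 i₀)⟩
  have hlim := Over.isLimitLiftCone E tE ((Over.forget S).mapCone L) (sL ≫ a₀).left hpL h6
  haveI : ∀ (j k : Over i₀) (φ : j ⟶ k), IsFinite ((Over.lift E tE).map φ).left := fun j k φ =>
    isFinite_of_isFiniteMor _ (hDf _ _ φ.left) (haffW k) _ _ _
      (isPullback_repDiag_map D i₀ fst₀ W s f sq φ)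
  haveI : ∀ j, CompactSpace ((Over.lift E tE).obj j).left := fun j =>
    inferInstanceAs (CompactSpace (W j).left)
  haveI : ∀ j, QuasiSeparatedSpace ((Over.lift E tE).obj j).left := fun j =>
    inferInstanceAs (QuasiSeparatedSpace (W j).left)
  haveI : ∀ j, LocallyOfFiniteType ((Over.lift E tE).obj j).hom := fun j =>
    hft j.left (f j) v₀ (s j ≫ a₀) (hfe j) hv₀e (sqj j).w
  haveI : IsIntegralHom
      (Over.liftCone E tE ((Over.forget S).mapCone L) (sL ≫ a₀).left hpL).pt.hom :=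
    isIntegralHom_of_isIntegralMor g hX hV₀ v₀ fL (sL ≫ a₀) sqL
  obtain ⟨j₀, hj₀⟩ := Groth.Agent.S2154.result V₀.left (Over.lift E tE)
    (Over.liftCone E tE ((Over.forget S).mapCone L) (sL ≫ a₀).left hpL) hlim
  have hcov := Groth.Agent.Lib.helper5.EtFpqc.isFpqcCover_of_chart Y.property V₀ v₀ hv₀e hv₀s
  refine ⟨j₀.left, fun i ψ => ?_⟩
  have hfin : IsFinite (s (Over.mk (ψ ≫ j₀.hom)) ≫ a₀).left :=
    hj₀ (Over.mk (ψ ≫ j₀.hom)) (Over.homMk ψ rfl)
  exact (Groth.Agent.S10540.result S (ι := PUnit.{u + 1}) (fun _ => (yon S).obj V₀)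
    (fun _ => v₀) Y.property (fun _ => IsAlgSpace.yon_obj V₀) hcov
    (t.app i) (hD i) (fun _ => (yon S).obj (W (Over.mk (ψ ≫ j₀.hom))))
    (fun _ => (yon S).map (s (Over.mk (ψ ≫ j₀.hom)) ≫ a₀))
    (fun _ => f (Over.mk (ψ ≫ j₀.hom))) (fun _ => IsAlgSpace.yon_obj _)
    (fun _ => sqj (Over.mk (ψ ≫ j₀.hom)))).2
    (fun _ => Groth.Agent.Lib.helper5.LimDesc.isFiniteMor_yon_map _ hfin)

end Groth.Agent.Lib.helper5.LimAff
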