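import Groth.Agent.Lib.Helper5.LimClImmA
import Groth.Agent.Lib.Helper5.AlgSpGrpLocus
import Groth.Agent.Lib.Helper2.AlgSpCancel
import Groth.Agent.Lib.Helper5.ThickFlatScheme2
import Groth.Agent.Lib.Helper5.AlgSpLocPBC
import Groth.Agent.Lib.Helper5.AlgSpLocPInst
import Groth.Agent.Lib.Helper7.AlgSpQC
import Groth.Agent.Lib.Helper7.AlgSpFibre
import Groth.Agent.Lib.Helper11.AlgSpBasic
import Groth.Agent.Lib.Helper18.AlgSp
import Groth.Agent.S9885

/-!
# Limits of closed immersions: stabilisation (helper5)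

`eventually_isIso`: let `X = lim X_i` be a cofiltered limit of quasi-compact algebraic spaces locally of finite type over `B`
with closed immersions as transition maps. If `X` is locally of finite presentation over `B` then `X ⟶ X_i` is an
isomorphism for all `i` mapping to some `i₀`.
-/

set_option autoImplicit false
universe u
open CategoryTheory CategoryTheory.Limits AlgebraicGeometry Opposite

namespace Groth.Agent.Lib.helper5.LimClImm

open AlgSp Groth.Agent.Lib.helper11 Groth.Agent.Lib.helper7.AlgSpQC Groth.Agent.Lib.helper7.AlgSpFibre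

variable {S : Scheme.{u}}

theorem isLocallySurjective_of_etale_surjective {F G : Sp S} (e : F ⟶ G) (hee : RepWith @Etale e)
    (hes : RepWith @Surjective e) : Sheaf.IsLocallySurjective e :=
  Groth.Agent.S9885.result S _ _ e
    (Groth.Agent.Lib.helper18.repWith_mono (fun _ _ g hg => by
      have : Etale g := hg
      exact (inferInstance : Flat g)) hee)
    (Groth.Agent.Lib.helper18.repWith_mono (fun _ _ g hg => by
      have : Etale g := hg
      exact (inferInstance : LocallyOfFinitePresentation g)) hee) hes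

theorem eventually_isIso {I : Type u} [SmallCategory I] [IsCofiltered I]
    {B : Sp S} (hB : IsAlgSpace B) (D : I ⥤ Sp S) (hD : ∀ i, IsAlgSpace (D.obj i))
    (t : D ⟶ (Functor.const I).obj B)
    (hDc : ∀ (i j : I) (φ : i ⟶ j), RepWith @IsClosedImmersion (D.map φ))
    (c : Cone D) (hc : IsLimit c)
    (hqc : ∀ i, IsQuasiCompactSp (D.obj i)) (hft : ∀ i, LocP @LocallyOfFiniteType (t.app i)) (i₁ : I)
    (hX : LocP @LocallyOfFinitePresentation (c.π.app i₁ ≫ t.app i₁)) :
    ∃ i₀ : I, ∀ (i : I) (_ : i ⟶ i₀), IsIso (c.π.app i) := by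
  classical
  have hm : ∀ (i j : I) (φ : i ⟶ j), Mono (D.map φ) :=
    fun i j φ => ProperSurj.mono_of_closedImmersion (hDc i j φ)
  -- the projections are monomorphisms
  have hπm : ∀ i, Mono (c.π.app i) := fun i => ⟨fun a b hab => hc.hom_ext (fun j => by
    haveI := hm (IsCofiltered.min i j) i (IsCofiltered.minToLeft i j)
    have h1 : a ≫ c.π.app (IsCofiltered.min i j) = b ≫ c.π.app (IsCofiltered.min i j) := by
      rw [← cancel_mono (D.map (IsCofiltered.minToLeft i j)), Category.assoc, Category.assoc, c.w, hab]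
    rw [← c.w (IsCofiltered.minToRight i j), ← Category.assoc, h1, Category.assoc])⟩
  -- an affine chart of `X_{i₁}`
  have hq := hqc i₁
  haveI := compactSpace_of_isQuasiCompactSp hq
  obtain ⟨U₀, p₀, hp₀e, hp₀s, -⟩ := hq
  obtain ⟨U, e₁, hUaff, he₁e, he₁s⟩ := exists_affine_chart_of_compactSpace p₀ hp₀e hp₀s
  haveI : IsAffine U.left := hUaff
  -- the diagrams over `Over i₁`
  let DX : Over i₁ ⥤ Sp S := Over.forget i₁ ⋙ D
  let DY : Over i₁ ⥤ Sp S := (Functor.const (Over i₁)).obj (D.obj i₁)
  let τ : DX ⟶ DY :=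
    { app := fun k => D.map k.hom
      naturality := fun k k' a => by
        change D.map a.left ≫ D.map k'.hom = D.map k.hom ≫ 𝟙 _
        rw [Category.comp_id, ← D.map_comp, Over.w] }
  let cX : Cone DX := c.whisker (Over.forget i₁)
  have hcX : IsLimit cX := (Functor.Initial.isLimitWhiskerEquiv (Over.forget i₁) c).symm hc
  let cY : Cone DY := { pt := D.obj i₁, π := 𝟙 _ }
  have hcY : IsLimit cY :=
    { lift := fun s => s.π.app (Over.mk (𝟙 i₁))
      fac := fun s k => by
        have := s.w (Over.homMk k.hom : k ⟶ Over.mk (𝟙 i₁))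
        change s.π.app (Over.mk (𝟙 i₁)) ≫ 𝟙 _ = s.π.app k
        rw [Category.comp_id, ← this]
        exact (Category.comp_id _)
      uniq := fun s m hm => by
        have := hm (Over.mk (𝟙 i₁))
        change m ≫ 𝟙 _ = _ at this
        rwa [Category.comp_id] at this }
  have hτ : ∀ k, RepWith @IsClosedImmersion (τ.app k) := fun k => hDc _ _ k.hom
  have hg : ∀ k, c.π.app i₁ ≫ cY.π.app k = cX.π.app k ≫ τ.app k := fun k => by
    change c.π.app i₁ ≫ 𝟙 _ = c.π.app k.left ≫ D.map k.hom
    rw [Category.comp_id, c.w]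
  have hcYπ : ∀ k, e₁ ≫ cY.π.app k = e₁ := fun k => Category.comp_id _
  choose W s f sq using fun k : Over i₁ => (hτ k).rep (e₁ ≫ cY.π.app k)
  have hs : ∀ k, IsClosedImmersion (s k).left := fun k => (hτ k).2 _ _ _ (sq k)
  obtain ⟨fst, sqZ, hl⟩ :=
    exists_isPullback_limMap DX DY τ hτ cX hcX cY hcY (c.π.app i₁) hg U e₁ W s f sq
  -- `X` is an algebraic space, locally of finite presentation over `X_{i₁}`
  have hclX : RepWith @IsClosedImmersion (c.π.app i₁) :=
    repWith_closedImmersion_limMap DX DY τ hτ cX hcX cY hcY _ hg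
  have hXalg : IsAlgSpace c.pt := GrpLocus.isAlgSpace_of_representable (c.π.app i₁) hclX.rep (hD i₁)
  have hπlfp : LocP @LocallyOfFinitePresentation (c.π.app i₁) :=
    Groth.Agent.Lib.helper2.AlgSpCancel.locP_of_comp @LocallyOfFinitePresentation
      @LocallyOfFiniteType (fun A B C u v hv huv => by
        haveI : LocallyOfFiniteType v := hv
        haveI : LocallyOfFinitePresentation (u ≫ v) := huv
        exact ThickFlat.lfp_of_comp u v)
      (X := ⟨c.pt, hXalg⟩) (Y := ⟨D.obj i₁, hD i₁⟩) (Z := ⟨B, hB⟩)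
      (ObjectProperty.homMk (c.π.app i₁)) (ObjectProperty.homMk (t.app i₁)) (hft i₁) hX
  have hsndlfp : LocP @LocallyOfFinitePresentation ((yon S).map (subι U (⨆ k, (s k).left.ker))) :=
    LocPBC.locP_of_isPullback LocPBC.locPData_lfp hXalg (hD i₁) (IsAlgSpace.yon_obj U) sqZ hπlfp
  haveI hlfpS : LocallyOfFinitePresentation (⨆ k, (s k).left.ker).subschemeι :=
    locP_yon_map hsndlfp
  -- finite generation
  let top : U.left.affineOpens := ⟨⊤, isAffineOpen_top _⟩
  have hfg : ((⨆ k, (s k).left.ker).ideal top).FG := by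
    have := fg_ker_of_lfp (⨆ k, (s k).left.ker).subschemeι
    rwa [Scheme.IdealSheafData.ker_subschemeι] at this
  -- monotonicity
  have hmono : ∀ {k k' : Over i₁} (a : k ⟶ k'), (s k').left.ker ≤ (s k).left.ker := by
    intro k k' a
    have hw : (f k ≫ D.map a.left) ≫ τ.app k' = (yon S).map (s k) ≫ e₁ ≫ cY.π.app k' := by
      have e : D.map a.left ≫ D.map k'.hom = D.map k.hom := by rw [← D.map_comp, Over.w]
      exact (Category.assoc (f k) (D.map a.left) (D.map k'.hom)).trans
        ((congrArg (fun m => f k ≫ m) e).trans (sq k).w)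
    obtain ⟨cc, hcc⟩ := (yon S).map_surjective ((sq k').lift _ _ hw)
    have hcs : cc ≫ s k' = s k := by
      apply (yon S).map_injective
      rw [Functor.map_comp, hcc]
      exact (sq k').lift_snd _ _ _
    rw [← hcs, Over.comp_left]
    exact Scheme.Hom.le_ker_comp _ _
  -- directedness
  have hdir : Directed (· ≤ ·) (fun k : Over i₁ => (s k).left.ker.ideal top) := by
    intro k k'
    obtain ⟨m, g, g', hgg'⟩ := IsCofiltered.cospan k.hom k'.hom
    refine ⟨Over.mk (g ≫ k.hom), hmono (Over.homMk g rfl : Over.mk (g ≫ k.hom) ⟶ k) top,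
      hmono (Over.homMk g' hgg'.symm : Over.mk (g ≫ k.hom) ⟶ k') top⟩
  have hcomp := (Submodule.fg_iff_compact _).1 hfg
  rw [CompleteLattice.isCompactElement_iff_le_of_directed_sSup_le] at hcomp
  obtain ⟨x, ⟨k₀, rfl⟩, hk₀⟩ := hcomp (Set.range fun k : Over i₁ => (s k).left.ker.ideal top)
    ⟨_, ⟨Over.mk (𝟙 i₁), rfl⟩⟩ (directedOn_range.2 hdir) (by
      rw [sSup_range, Scheme.IdealSheafData.ideal_iSup, iSup_apply])
  have hJle : (⨆ k, (s k).left.ker) ≤ (s k₀).left.ker :=
    Scheme.IdealSheafData.le_of_iSup_eq_top (fun _ : Unit => top) (by simp [top]) (fun _ => hk₀)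
  refine ⟨k₀.left, fun i a => ?_⟩
  let k : Over i₁ := Over.mk (a ≫ k₀.hom)
  have hker : (⨆ k, (s k).left.ker) = (s k).left.ker :=
    le_antisymm (hJle.trans (hmono (Over.homMk a rfl : k ⟶ k₀))) (le_iSup (fun k => (s k).left.ker) k)
  obtain ⟨l, hl1, hl2⟩ := hl k
  haveI := hs k
  haveI hliso : IsIso l.left := by
    refine IsClosedImmersion.isIso_of_ker_eq (⨆ k, (s k).left.ker).subschemeι (s k).left l.left ?_ ?_
    · have := congrArg (fun m => m.left) hl1
      exact this
    · rw [Scheme.IdealSheafData.ker_subschemeι]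
      exact hker
  haveI : IsIso ((Over.forget S).map l) := hliso
  haveI : IsIso l := isIso_of_reflects_iso l (Over.forget S)
  -- `f k` is an epimorphism
  have hfke : RepWith @Etale (f k) :=
    MorphismProperty.of_isPullback (sq k).flip (by rw [hcYπ]; exact he₁e)
  have hfks : RepWith @Surjective (f k) :=
    MorphismProperty.of_isPullback (sq k).flip (by rw [hcYπ]; exact he₁s)
  have hls : Sheaf.IsLocallySurjective (f k) := isLocallySurjective_of_etale_surjective (f k) hfke hfks
  have hepik : Epi (f k) := (Sheaf.isLocallySurjective_iff_epi (f k)).1 hls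
  have hfac : (inv ((yon S).map l) ≫ fst) ≫ c.π.app i = f k := by
    have : fst ≫ c.π.app i = (yon S).map l ≫ f k := hl2
    rw [Category.assoc, this]
    exact IsIso.inv_hom_id_assoc _ _
  haveI : Epi (c.π.app i) := @epi_of_epi_fac _ _ _ _ _ _ _ _ hepik hfac
  haveI := hπm i
  exact isIso_of_mono_of_epi (c.π.app i)

end Groth.Agent.Lib.helper5.LimClImm
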