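import Groth.Prelude
import Groth.Agent.Lib.Helper21.MonoField

/-!
# Field valued points factoring through a monomorphic point (helper5)

* `FieldPt.ofHom`: the field valued point defined by a morphism `h_{Spec K} ⟶ F`.
* `exists_common_ext`: two field valued points with the same class agree over a common extension.
* `exists_factor_of_mono`: if `p` is a field valued point of `F` with `p.toHom` a representable monomorphism, every field
  valued point in the class of `p` factors through `p`.
* `mk_eq_of_factor`: a field valued point factoring through `p` has the class of `p`.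
* `isField_of_isColimit`: a filtered colimit of fields is a field.
-/

set_option autoImplicit false
universe u
open CategoryTheory CategoryTheory.Limits AlgebraicGeometry Opposite

namespace Groth.Agent.Lib.helper5.LimSpPt

open AlgSp

variable {S : Scheme.{u}} {F : Sp S}

/-- The field valued point defined by a morphism `h_{Spec K} ⟶ F`. -/
noncomputable def ofHom (K : Type u) [Field K] (str : Spec (CommRingCat.of K) ⟶ S)
    (g : (yon S).obj (Over.mk str) ⟶ F) : FieldPt F :=
  ⟨K, str, (J S).uliftYonedaEquiv g⟩

theorem toHom_ofHom (K : Type u) [Field K] (str : Spec (CommRingCat.of K) ⟶ S)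
    (g : (yon S).obj (Over.mk str) ⟶ F) : (ofHom K str g).toHom = g := by
  unfold FieldPt.toHom ofHom
  exact Equiv.symm_apply_apply _ _

/-- Two field valued points with the same class agree over a common field extension, as morphisms. -/
theorem exists_common_ext (q p : FieldPt F) (h : Points.mk q = Points.mk p) :
    ∃ (Ω : Type u) (_ : Field Ω) (w : Spec (CommRingCat.of Ω) ⟶ S) (α : Over.mk w ⟶ q.pt)
      (β : Over.mk w ⟶ p.pt), (yon S).map α ≫ q.toHom = (yon S).map β ≫ p.toHom := by
  obtain ⟨Ω, hΩ, w, α, β, hαβ⟩ := Points.mk_eq_mk_iff.mp h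
  refine ⟨Ω, hΩ, w, α, β, ?_⟩
  apply (J S).uliftYonedaEquiv.injective
  rw [← GrothendieckTopology.uliftYonedaEquiv_naturality,
    ← GrothendieckTopology.uliftYonedaEquiv_naturality, FieldPt.uliftYonedaEquiv_toHom,
    FieldPt.uliftYonedaEquiv_toHom]
  exact hαβ

/-- A field valued point factoring through `p` has the class of `p`. -/
theorem mk_eq_of_factor (q p : FieldPt F) (a : q.pt ⟶ p.pt)
    (h : (yon S).map a ≫ p.toHom = q.toHom) : Points.mk q = Points.mk p := by
  refine Points.sound ⟨q.K, q.field, q.str, 𝟙 _, a, ?_⟩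
  have h1 : (J S).uliftYonedaEquiv ((yon S).map a ≫ p.toHom) = (J S).uliftYonedaEquiv q.toHom := by
    rw [h]
  rw [← GrothendieckTopology.uliftYonedaEquiv_naturality, FieldPt.uliftYonedaEquiv_toHom,
    FieldPt.uliftYonedaEquiv_toHom] at h1
  rw [op_id, Functor.map_id_apply]
  exact h1.symm

/-- Morphisms to a monomorphic point are determined by the composite. -/
theorem eq_of_comp_eq (p : FieldPt F) (hm : Mono p.toHom) {T : Over S} (b b' : T ⟶ p.pt)
    (h : (yon S).map b ≫ p.toHom = (yon S).map b' ≫ p.toHom) : b = b' :=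
  (yon S).map_injective ((cancel_mono p.toHom).1 h)

/-- If `p.toHom` is a representable monomorphism, every field valued point in the class of `p` factors through `p`. -/
theorem exists_factor_of_mono (p q : FieldPt F) (hm : Mono p.toHom) (hr : Representable p.toHom)
    (h : Points.mk q = Points.mk p) : ∃ a : q.pt ⟶ p.pt, (yon S).map a ≫ p.toHom = q.toHom := by
  obtain ⟨Ω, hΩ, w, α, β, hαβ⟩ := exists_common_ext q p h
  obtain ⟨V, snd, fst, sq⟩ := hr q.toHom
  obtain ⟨v, rfl⟩ := (yon S).map_surjective fst
  -- `snd : V ⟶ q.pt` is a monomorphism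
  haveI : Mono ((yon S).map snd) := by
    constructor
    intro Z a b hab
    apply sq.hom_ext _ hab
    rw [← cancel_mono p.toHom, Category.assoc, Category.assoc, sq.w, ← Category.assoc,
      ← Category.assoc, hab]
  haveI : Mono snd := (yon S).mono_of_mono_map inferInstance
  haveI : Mono snd.left := by
    constructor
    intro Z a b hab
    have hZ : a ≫ V.hom = b ≫ V.hom := by
      rw [← Over.w snd, ← Category.assoc, ← Category.assoc, hab]
    have : (Over.homMk a rfl : Over.mk (a ≫ V.hom) ⟶ V) = Over.homMk b hZ.symm := by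
      rw [← cancel_mono snd]
      exact Over.OverMorphism.ext hab
    exact congrArg (fun t => t.left) this
  -- `V` is nonempty
  obtain ⟨l, hl1, hl2⟩ := sq.exists_lift ((yon S).map β) ((yon S).map α) hαβ.symm
  obtain ⟨l, rfl⟩ := (yon S).map_surjective l
  haveI : Nonempty (Spec (CommRingCat.of Ω)) := inferInstance
  haveI : Nonempty V.left := ⟨l.left (Classical.arbitrary (Spec (CommRingCat.of Ω)))⟩
  haveI : IsIso snd.left := Groth.Agent.Lib.helper21.MonoField.isIso_of_mono_field snd.left
  haveI : IsIso ((Over.forget S).map snd) := ‹IsIso snd.left›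
  haveI : IsIso snd := isIso_of_reflects_iso snd (Over.forget S)
  refine ⟨inv snd ≫ v, ?_⟩
  rw [Functor.map_comp, Category.assoc, sq.w, ← Category.assoc, ← Functor.map_comp,
    IsIso.inv_hom_id]
  erw [(yon S).map_id]
  exact Category.id_comp _

/-- A filtered colimit of fields is a field. -/
theorem isField_of_isColimit {J : Type u} [SmallCategory J] [IsFiltered J]
    (G : J ⥤ CommRingCat.{u}) (t : Cocone G) (ht : IsColimit t)
    (h : ∀ j, IsField (G.obj j)) : IsField t.pt := by
  obtain ⟨j₀⟩ := IsFiltered.nonempty (C := J)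
  refine ⟨⟨0, 1, ?_⟩, mul_comm, ?_⟩
  · intro h01
    have h0 : t.ι.app j₀ (0 : G.obj j₀) = t.ι.app j₀ (1 : G.obj j₀) := by
      rw [map_zero, map_one]; exact h01
    obtain ⟨k, f, g, hfg⟩ := Concrete.isColimit_exists_of_rep_eq G ht _ _ h0
    rw [map_zero, map_one] at hfg
    exact (h k).nontrivial.exists_pair_ne.elim (fun a ⟨b, hab⟩ => hab (by
      rw [← mul_one a, ← mul_one b, ← hfg, mul_zero, mul_zero]))
  · intro x hx
    obtain ⟨j, y, rfl⟩ := Concrete.isColimit_exists_rep G ht x
    have hy : y ≠ 0 := fun hy0 => hx (by rw [hy0, map_zero])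
    obtain ⟨z, hz⟩ := (h j).mul_inv_cancel hy
    exact ⟨t.ι.app j z, by rw [← map_mul, hz, map_one]⟩

end Groth.Agent.Lib.helper5.LimSpPt
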