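import Groth.Prelude
import Groth.Agent.Lib.Helper5.LimSpPtA

/-!
# Points of a cofiltered limit of sheaves with monomorphic representatives (helper5)

`exists_limit_point`: let `c` be a limit cone of `D : I ⥤ Sp S` (`I` cofiltered) and `p i` field valued points of `D i`
with `(p i).toHom` representable monomorphisms, whose classes are compatible under the transition maps.  Then there is a field
valued point `x` of the limit with images in the classes of the `p i`, and every field valued point of the limit with this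
property has the class of `x`.
-/

set_option autoImplicit false
universe u
open CategoryTheory CategoryTheory.Limits AlgebraicGeometry Opposite

namespace Groth.Agent.Lib.helper5.LimSpPt

open AlgSp

variable {S : Scheme.{u}} {I : Type u} [SmallCategory I] (D : I ⥤ Sp S)
  (p : ∀ i, FieldPt (D.obj i)) (hm : ∀ i, Mono (p i).toHom) (hr : ∀ i, Representable (p i).toHom)
  (hcompat : ∀ ⦃i j : I⦄ (φ : i ⟶ j), Points.mk ((p i).map (D.map φ)) = Points.mk (p j))

/-- The transition maps between the representing points. -/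
noncomputable def tr {i j : I} (φ : i ⟶ j) : (p i).pt ⟶ (p j).pt :=
  (exists_factor_of_mono (p j) ((p i).map (D.map φ)) (hm j) (hr j) (hcompat φ)).choose

lemma tr_spec {i j : I} (φ : i ⟶ j) :
    (yon S).map (tr D p hm hr hcompat φ) ≫ (p j).toHom = (p i).toHom ≫ D.map φ := by
  have h := (exists_factor_of_mono (p j) ((p i).map (D.map φ)) (hm j) (hr j) (hcompat φ)).choose_spec
  exact h.trans (FieldPt.toHom_map (D.map φ) (p i))

lemma tr_id (i : I) : tr D p hm hr hcompat (𝟙 i) = 𝟙 _ := by
  apply eq_of_comp_eq (p i) (hm i)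
  rw [tr_spec, D.map_id, Category.comp_id]
  erw [(yon S).map_id]
  exact (Category.id_comp _).symm

lemma tr_comp {i j k : I} (φ : i ⟶ j) (ψ : j ⟶ k) :
    tr D p hm hr hcompat (φ ≫ ψ) = tr D p hm hr hcompat φ ≫ tr D p hm hr hcompat ψ := by
  apply eq_of_comp_eq (p k) (hm k)
  rw [tr_spec, (yon S).map_comp, Category.assoc, tr_spec, ← Category.assoc, tr_spec,
    Category.assoc, ← D.map_comp]

/-- The diagram of fields. -/
noncomputable def G : Iᵒᵖ ⥤ CommRingCat.{u} where
  obj i := CommRingCat.of (p i.unop).K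
  map {i j} φ := Spec.preimage (tr D p hm hr hcompat φ.unop).left
  map_id i := by
    apply Spec.map_injective
    rw [Spec.map_preimage, Spec.map_id]
    exact congrArg (fun t => t.left) (tr_id D p hm hr hcompat i.unop)
  map_comp {i j k} φ ψ := by
    apply Spec.map_injective
    rw [Spec.map_preimage, Spec.map_comp, Spec.map_preimage, Spec.map_preimage]
    exact congrArg (fun t => t.left) (tr_comp D p hm hr hcompat ψ.unop φ.unop)

theorem exists_field_colimit [IsCofiltered I] :
    ∃ (K : Type u) (_ : Field K) (ι : ∀ i, CommRingCat.of (p i).K ⟶ CommRingCat.of K),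
      (∀ ⦃i j : I⦄ (φ : i ⟶ j), Spec.preimage (tr D p hm hr hcompat φ).left ≫ ι i = ι j) ∧
      ∀ (L : CommRingCat.{u}) (δ : ∀ i, CommRingCat.of (p i).K ⟶ L),
        (∀ ⦃i j : I⦄ (φ : i ⟶ j), Spec.preimage (tr D p hm hr hcompat φ).left ≫ δ i = δ j) →
        ∃ d : CommRingCat.of K ⟶ L, ∀ i, ι i ≫ d = δ i := by
  let R : CommRingCat.{u} := colimit (G D p hm hr hcompat)
  have hF : IsField R := isField_of_isColimit (G D p hm hr hcompat) _ (colimit.isColimit _)
    (fun j => Field.toIsField (p j.unop).K)
  letI : Field R := hF.toField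
  refine ⟨R, inferInstance, fun i => colimit.ι (G D p hm hr hcompat) (op i), ?_, ?_⟩
  · intro i j φ
    exact colimit.w (G D p hm hr hcompat) φ.op
  · intro L δ hδ
    let t : Cocone (G D p hm hr hcompat) :=
      { pt := L
        ι := { app := fun i => δ i.unop
               naturality := fun i j φ => (hδ φ.unop).trans (Category.comp_id _).symm } }
    exact ⟨colimit.desc (G D p hm hr hcompat) t, fun i => colimit.ι_desc t (op i)⟩

variable (c : Cone D) (hc : IsLimit c)

include hm hr hcompat hc in
theorem exists_limit_point [IsCofiltered I] :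
    ∃ x : FieldPt c.pt, (∀ i, Points.mk (x.map (c.π.app i)) = Points.mk (p i)) ∧
      ∀ q : FieldPt c.pt, (∀ i, Points.mk (q.map (c.π.app i)) = Points.mk (p i)) →
        Points.mk q = Points.mk x := by
  obtain ⟨K, _, ι, hι, hdesc⟩ := exists_field_colimit D p hm hr hcompat
  obtain ⟨i₀⟩ := IsCofiltered.nonempty (C := I)
  -- the structure morphism of `Spec K`
  have hιleft : ∀ ⦃i j : I⦄ (φ : i ⟶ j),
      Spec.map (ι i) ≫ (tr D p hm hr hcompat φ).left = Spec.map (ι j) := by
    intro i j φ
    rw [← hι φ, Spec.map_comp, Spec.map_preimage]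
  have hstr' : ∀ ⦃i j : I⦄ (φ : i ⟶ j),
      Spec.map (ι i) ≫ (p i).str = Spec.map (ι j) ≫ (p j).str := by
    intro i j φ
    rw [← hιleft φ, Category.assoc]
    congr 1
    exact (Over.w (tr D p hm hr hcompat φ)).symm
  have hstr : ∀ i, Spec.map (ι i) ≫ (p i).str = Spec.map (ι i₀) ≫ (p i₀).str := by
    intro i
    obtain ⟨k, φ, ψ, -⟩ := IsCofilteredOrEmpty.cone_objs i i₀
    rw [← hstr' φ, ← hstr' ψ]
  obtain ⟨str, hstrdef⟩ : ∃ str : Spec (CommRingCat.of K) ⟶ S,
      str = Spec.map (ι i₀) ≫ (p i₀).str := ⟨_, rfl⟩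
  let T : Over S := Over.mk str
  let b : ∀ i, T ⟶ (p i).pt := fun i => Over.homMk (Spec.map (ι i)) (by
    show Spec.map (ι i) ≫ (p i).str = str
    rw [hstrdef]; exact hstr i)
  have hb : ∀ ⦃i j : I⦄ (φ : i ⟶ j), b i ≫ tr D p hm hr hcompat φ = b j := by
    intro i j φ
    apply Over.OverMorphism.ext
    exact hιleft φ
  let cn : Cone D :=
    { pt := (yon S).obj T
      π := { app := fun i => (yon S).map (b i) ≫ (p i).toHom
             naturality := fun i j φ => by
              refine (Category.id_comp _).trans ?_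
              rw [Category.assoc, ← tr_spec D p hm hr hcompat φ, ← Category.assoc,
                ← Functor.map_comp, hb φ] } }
  have hx : ∀ i, hc.lift cn ≫ c.π.app i = (yon S).map (b i) ≫ (p i).toHom := fun i => hc.fac cn i
  let X : FieldPt c.pt := ofHom K str (hc.lift cn)
  have hX : X.toHom = hc.lift cn := toHom_ofHom K str _
  refine ⟨X, ?_, ?_⟩
  · intro i
    refine mk_eq_of_factor (X.map (c.π.app i)) (p i) (b i) ?_
    exact ((FieldPt.toHom_map (c.π.app i) X).trans
      ((congrArg (· ≫ c.π.app i) hX).trans (hx i))).symm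
  · intro q hq
    obtain ⟨d, hd'⟩ : ∃ d : ∀ i, q.pt ⟶ (p i).pt,
        ∀ i, (yon S).map (d i) ≫ (p i).toHom = q.toHom ≫ c.π.app i :=
      ⟨fun i => (exists_factor_of_mono (p i) (q.map (c.π.app i)) (hm i) (hr i) (hq i)).choose,
        fun i => (exists_factor_of_mono (p i) (q.map (c.π.app i)) (hm i) (hr i)
          (hq i)).choose_spec.trans (FieldPt.toHom_map (c.π.app i) q)⟩
    have hdtr : ∀ ⦃i j : I⦄ (φ : i ⟶ j), d i ≫ tr D p hm hr hcompat φ = d j := by
      intro i j φ
      apply eq_of_comp_eq (p j) (hm j)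
      rw [Functor.map_comp, Category.assoc, tr_spec, ← Category.assoc, hd' i, Category.assoc,
        c.w φ, hd' j]
    obtain ⟨δ, hδ⟩ := hdesc (CommRingCat.of q.K) (fun i => Spec.preimage (d i).left) (by
      intro i j φ
      apply Spec.map_injective
      rw [Spec.map_comp, Spec.map_preimage, Spec.map_preimage, Spec.map_preimage]
      exact congrArg (fun t => t.left) (hdtr φ))
    have hδ' : ∀ i, Spec.map δ ≫ Spec.map (ι i) = (d i).left := fun i => by
      rw [← Spec.map_comp, hδ i, Spec.map_preimage]
    let dd : q.pt ⟶ T := Over.homMk (Spec.map δ) (by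
      change Spec.map δ ≫ str = q.str
      rw [hstrdef, ← Category.assoc, hδ' i₀]
      exact Over.w (d i₀))
    have hddb : ∀ i, dd ≫ b i = d i := fun i => Over.OverMorphism.ext (hδ' i)
    refine mk_eq_of_factor q X dd ?_
    have key : (yon S).map dd ≫ hc.lift cn = q.toHom := by
      apply hc.hom_ext
      intro i
      rw [Category.assoc, hx i, ← Category.assoc, ← Functor.map_comp, hddb i, hd' i]
    exact (congrArg ((yon S).map dd ≫ ·) hX).trans key

end Groth.Agent.Lib.helper5.LimSpPt
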