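import Groth.Prelude.Def_W4stk3spdivLocPr
import Mathlib.AlgebraicGeometry.Morphisms.Affine

/-!
The complement of a locally principal closed subscheme is affine over the ambient scheme (helper5).
-/

set_option autoImplicit false
universe u
open CategoryTheory CategoryTheory.Limits AlgebraicGeometry Opposite

namespace Groth.Agent.Lib.helper5.LocPrincipal

theorem isAffineHom_of_range_eq_compl_support {V W' : Scheme.{u}} (w : W' ⟶ V) [IsOpenImmersion w]
    (I : V.IdealSheafData) (hI : Curv2.IsLocPrincipal I)
    (hr : Set.range w = ((I.support : Set V))ᶜ) : IsAffineHom w := by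
  apply isAffineHom_of_forall_exists_isAffineOpen
  intro x
  by_cases hx : x ∈ I.support
  · obtain ⟨U, hxU, f, hf⟩ := hI x hx
    refine ⟨U.1, hxU, U.2, ?_⟩
    rw [← w.isAffineOpen_iff_of_isOpenImmersion, w.image_preimage_eq_opensRange_inf]
    have : w.opensRange ⊓ U.1 = V.basicOpen f := by
      ext y
      simp only [TopologicalSpace.Opens.coe_inf, Set.mem_inter_iff, SetLike.mem_coe]
      constructor
      · rintro ⟨hy1, hy2⟩
        have hy1' : y ∉ I.support := by
          have : y ∈ Set.range w := hy1
          rw [hr] at this
          exact this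
        rw [← Scheme.IdealSheafData.mem_supportSet_iff_mem_support,
          Scheme.IdealSheafData.mem_supportSet_iff_of_mem hy2, hf, Scheme.zeroLocus_span,
          Scheme.zeroLocus_singleton] at hy1'
        simpa using hy1'
      · intro hy
        have hy2 : y ∈ U.1 := V.basicOpen_le f hy
        refine ⟨?_, hy2⟩
        show y ∈ Set.range w
        rw [hr]
        show y ∉ I.support
        rw [← Scheme.IdealSheafData.mem_supportSet_iff_mem_support,
          Scheme.IdealSheafData.mem_supportSet_iff_of_mem hy2, hf, Scheme.zeroLocus_span,
          Scheme.zeroLocus_singleton]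
        simpa using hy
    rw [this]
    exact U.2.basicOpen f
  · have hxr : x ∈ w.opensRange := by
      show x ∈ Set.range w
      rw [hr]; exact hx
    obtain ⟨_, ⟨U, hU, rfl⟩, hxU, hUr⟩ :=
      (V.isBasis_affineOpens).exists_subset_of_mem_open hxr w.opensRange.isOpen
    exact ⟨U, hxU, hU, hU.preimage_of_isOpenImmersion w hUr⟩

end Groth.Agent.Lib.helper5.LocPrincipal
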