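import Groth.Agent.Lib.Helper5.LocSepGen
import Groth.Agent.Lib.Helper5.FieldQuotQS

/-!
# Locally separated algebraic spaces: finiteness of lifts of a field-valued point (helper5)

`finite_lifts`: for a locally separated algebraic space `X`, an etale chart `φ : h_U ⟶ X` with `U` affine and a field `Ω`, any
family of pairwise distinct `Ω`-points of `U` with the same image in `X` is finite.
-/

set_option autoImplicit false
universe u
open CategoryTheory CategoryTheory.Limits AlgebraicGeometry AlgSp Opposite Topology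

namespace Groth.Agent.Lib.helper5.LocSepAlgSp

open Groth.Agent.Lib.helper5.LocSepScheme Groth.Agent.Lib.helper5.LocSepGen

variable {S : Scheme.{u}}

/-- For a locally separated sheaf, the relation of a chart embeds into the product by an immersion. -/
theorem exists_immersion_of_locallySeparated {X : Sp S} (hls : IsLocallySeparatedSp X) {U R : Over S}
    (φ : (yon S).obj U ⟶ X) (s t : R ⟶ U) (sqR : IsPullback ((yon S).map t) ((yon S).map s) φ φ) :
    ∃ j₀ : R ⟶ U ⨯ U, IsImmersion j₀.left ∧ j₀ ≫ prod.fst = t ∧ j₀ ≫ prod.snd = s := by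
  obtain ⟨E, gE, fstE, sqE⟩ := hls.rep (prodComparison (yon S) U U ≫ prod.map φ φ)
  have himm : IsImmersion gE.left := hls.2 _ fstE gE sqE
  have sq' : IsPullback fstE ((yon S).map gE ≫ prodComparison (yon S) U U) (Limits.diag X)
      (prod.map φ φ) :=
    sqE.of_iso (Iso.refl _) (Iso.refl _) (asIso (prodComparison (yon S) U U)) (Iso.refl _)
      (by simp) (by simp) (by simp) (by simp)
  have sq'' := Groth.Agent.Lib.helper15.AlgSpDiag.isPullback_of_isPullback_diag sq'
  have e1 : ((yon S).map gE ≫ prodComparison (yon S) U U) ≫ prod.fst =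
      (yon S).map (gE ≫ prod.fst) := by
    rw [Category.assoc, prodComparison_fst, Functor.map_comp]
  have e2 : ((yon S).map gE ≫ prodComparison (yon S) U U) ≫ prod.snd =
      (yon S).map (gE ≫ prod.snd) := by
    rw [Category.assoc, prodComparison_snd, Functor.map_comp]
  rw [e1, e2] at sq''
  let e : (yon S).obj R ≅ (yon S).obj E := sqR.isoIsPullback _ _ sq''
  let e' : R ≅ E := (yon S).preimageIso e
  have he1 : e'.hom ≫ gE ≫ prod.fst = t := by
    apply (yon S).map_injective
    rw [Functor.map_comp, Functor.preimageIso_hom, Functor.map_preimage]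
    exact sqR.isoIsPullback_hom_fst _ _ sq''
  have he2 : e'.hom ≫ gE ≫ prod.snd = s := by
    apply (yon S).map_injective
    rw [Functor.map_comp, Functor.preimageIso_hom, Functor.map_preimage]
    exact sqR.isoIsPullback_hom_snd _ _ sq''
  refine ⟨e'.hom ≫ gE, ?_, by rw [Category.assoc, he1], by rw [Category.assoc, he2]⟩
  rw [Over.comp_left]
  infer_instance

theorem finite_lifts {X : Sp S} (hls : IsLocallySeparatedSp X)
    {U : Over S} [IsAffine U.left] (φ : (yon S).obj U ⟶ X) (hφ : RepWith @Etale φ)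
    {Ω : Type u} [Field Ω] (w : Spec (CommRingCat.of Ω) ⟶ S)
    {ι : Type*} (z : ι → (Over.mk w ⟶ U)) (hz : Function.Injective z)
    (hξ : ∀ n m, (yon S).map (z n) ≫ φ = (yon S).map (z m) ≫ φ) : Finite ι := by
  obtain ⟨R, s, fst, sqR⟩ := hφ.1 φ
  obtain ⟨t, rfl⟩ := (yon S).map_surjective fst
  have hset : Etale s.left := hφ.2 φ _ s sqR
  -- the diagonal section
  obtain ⟨d', hd1, hd2⟩ := sqR.exists_lift (𝟙 ((yon S).obj U)) (𝟙 _) rfl
  obtain ⟨d, rfl⟩ := (yon S).map_surjective d'
  have hdt : d ≫ t = 𝟙 U := (yon S).map_injective (by rw [Functor.map_comp, hd1, CategoryTheory.Functor.map_id])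
  have hds : d ≫ s = 𝟙 U := (yon S).map_injective (by rw [Functor.map_comp, hd2, CategoryTheory.Functor.map_id])
  -- the lifts of pairs
  have hρ : ∀ n m, ∃ ρ : Over.mk w ⟶ R, ρ ≫ t = z n ∧ ρ ≫ s = z m := by
    intro n m
    obtain ⟨ρ', h1, h2⟩ := sqR.exists_lift ((yon S).map (z n)) ((yon S).map (z m)) (hξ n m)
    obtain ⟨ρ, rfl⟩ := (yon S).map_surjective ρ'
    exact ⟨ρ, (yon S).map_injective (by rw [Functor.map_comp, h1]),
      (yon S).map_injective (by rw [Functor.map_comp, h2])⟩
  choose ρ hρt hρs using hρ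
  -- the immersion into the product over `S`
  obtain ⟨j₀, hj₀, hj₀1, hj₀2⟩ := exists_immersion_of_locallySeparated hls φ s t sqR
  -- the absolute product
  let c : S ⟶ ⊤_ Scheme.{u} := terminal.from S
  let g : U.left ⟶ ⊤_ Scheme.{u} := U.hom ≫ c
  let i : pullback U.hom U.hom ⟶ pullback g g :=
    pullback.map U.hom U.hom (U.hom ≫ c) (U.hom ≫ c) (𝟙 _) (𝟙 _) c (Category.id_comp _).symm
      (Category.id_comp _).symm
  have hi : IsImmersion i :=
    MorphismProperty.of_isPullback (P := @IsImmersion) (pullback_map_diagonal_isPullback U.hom U.hom c)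
      (inferInstance : IsImmersion (pullback.diagonal c))
  let j : R.left ⟶ pullback g g := j₀.left ≫ (Over.prodLeftIsoPullback U U).hom ≫ i
  have hjimm : IsImmersion j := inferInstance
  have hj1 : j ≫ pullback.fst g g = t.left := by
    change (j₀.left ≫ (Over.prodLeftIsoPullback U U).hom ≫ i) ≫ pullback.fst g g = _
    rw [Category.assoc, Category.assoc]
    change j₀.left ≫ (Over.prodLeftIsoPullback U U).hom ≫ pullback.map _ _ _ _ _ _ _ _ _ ≫ pullback.fst _ _ = _
    rw [pullback.lift_fst, Category.comp_id, Over.prodLeftIsoPullback_hom_fst, ← Over.comp_left, hj₀1]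
  have hj2 : j ≫ pullback.snd g g = s.left := by
    change (j₀.left ≫ (Over.prodLeftIsoPullback U U).hom ≫ i) ≫ pullback.snd g g = _
    rw [Category.assoc, Category.assoc]
    change j₀.left ≫ (Over.prodLeftIsoPullback U U).hom ≫ pullback.map _ _ _ _ _ _ _ _ _ ≫ pullback.snd _ _ = _
    rw [pullback.lift_snd, Category.comp_id, Over.prodLeftIsoPullback_hom_snd, ← Over.comp_left, hj₀2]
  have hdsl : d.left ≫ s.left = 𝟙 U.left := by rw [← Over.comp_left, hds]; rfl
  have hdtl : d.left ≫ t.left = 𝟙 U.left := by rw [← Over.comp_left, hdt]; rfl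
  have hδ : IsClosedImmersion (d.left ≫ j) := by
    have h1 : (d.left ≫ j) ≫ pullback.fst g g = 𝟙 U.left := by rw [Category.assoc, hj1, hdtl]
    have : IsClosedImmersion ((d.left ≫ j) ≫ pullback.fst g g) := by rw [h1]; infer_instance
    exact IsClosedImmersion.of_comp (d.left ≫ j) (pullback.fst g g)
  have hZ : ∀ {T : Scheme.{u}} (a b : T ⟶ ⊤_ Scheme.{u}), a = b := fun a b => Subsingleton.elim a b
  refine finite_of_embedding (Ω := Ω) (pullback.fst g g) (pullback.snd g g) s.left t.left d.left j hdsl hdtl hj1 hj2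
    j.isEmbedding (fun a b h1 h2 => pullback.hom_ext h1 h2) (gen_pullback g hZ)
    (fun n => (z n).left) ?_ (fun n m => (ρ n m).left) ?_ ?_
  · intro n m h
    exact hz (Over.OverMorphism.ext h)
  · intro n m
    rw [← Over.comp_left, hρt]
  · intro n m
    rw [← Over.comp_left, hρs]

end Groth.Agent.Lib.helper5.LocSepAlgSp
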