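import Groth.Agent.Lib.Helper5.FieldQuotChart
import Groth.Agent.S9929

/-!
# Monomorphisms to discrete reduced schemes (helper5)

* `isOpenImmersion_fromSpecResidueField_of_discrete`: for a discrete reduced scheme `B`, `Spec κ(t) ⟶ B` is an open immersion.
* `isOpenImmersion_of_mono_discrete`: a monomorphism of schemes over `S` to a discrete reduced scheme is an open immersion.
-/

set_option autoImplicit false
universe u
open CategoryTheory CategoryTheory.Limits AlgebraicGeometry AlgSp Opposite

namespace Groth.Agent.Lib.helper5.MonoDiscrete

open Groth.Agent.Lib.helper5.FieldQuot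

theorem isOpenImmersion_fromSpecResidueField_of_discrete (B : Scheme.{u}) [DiscreteTopology B] [IsReduced B]
    (t : B) : IsOpenImmersion (B.fromSpecResidueField t) := by
  have sqI : IsPullback (B.fromSpecResidueField t) (𝟙 _) (𝟙 B) (B.fromSpecResidueField t) :=
    IsPullback.of_vert_isIso ⟨by simp⟩
  exact isOpenImmersion_fst_of_discrete (𝟙 B) t _ _ sqI

variable {S : Scheme.{u}}

/-- A monomorphism of schemes over `S` to a discrete reduced scheme is an open immersion. -/
theorem isOpenImmersion_of_mono_discrete {A B : Over S} (m : A ⟶ B) [Mono m] [DiscreteTopology ↥B.left]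
    [IsReduced B.left] : IsOpenImmersion m.left := by
  have hml : Mono m.left := inferInstance
  have hinj : Function.Injective m.left := m.left.injective
  refine IsOpenImmersion.of_forall_source_exists m.left hinj ?_
  intro a
  let φ : (yon S).obj B ⟶ (yon S).obj B := 𝟙 _
  let t : ↥B.left := m.left a
  have hoit : IsOpenImmersion (ptι φ t).left := isOpenImmersion_fromSpecResidueField_of_discrete B.left t
  have sqL : IsPullback (pullback.fst m (ptι φ t)).left (pullback.snd m (ptι φ t)).left m.left (ptι φ t).left :=
    (IsPullback.of_hasPullback m (ptι φ t)).map (Over.forget S)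
  have h1 : IsOpenImmersion (pullback.fst m (ptι φ t)).left := MorphismProperty.of_isPullback sqL.flip hoit
  -- the point over `a`
  let s0 : ↥(Spec (B.left.residueField t)) := IsLocalRing.closedPoint (B.left.residueField t)
  obtain ⟨τ, hτ, -⟩ := Scheme.Pullback.exists_preimage_pullback (f := m.left)
    (g := B.left.fromSpecResidueField t) a s0 (Scheme.fromSpecResidueField_apply _ _).symm
  have ha : a ∈ (pullback.fst m (ptι φ t)).left.opensRange := by
    refine ⟨(sqL.isoPullback.inv) τ, ?_⟩
    rw [← Scheme.Hom.comp_apply, IsPullback.isoPullback_inv_fst]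
    exact hτ
  refine ⟨(pullback m (ptι φ t)).left, (pullback.fst m (ptι φ t)).left, h1, ha, ?_⟩
  -- the second projection is an isomorphism
  have hmono2 : Mono (pullback.snd m (ptι φ t)) := inferInstance
  have hmono2' : Mono ((yon S).map (pullback.snd m (ptι φ t))) := inferInstance
  have hmono2'' : Mono ((ofScheme S).map (pullback.snd m (ptι φ t))).hom := hmono2'
  have hiso : IsIso ((ofScheme S).map (pullback.snd m (ptι φ t))) := by
    rcases Groth.Agent.S9929.result (k := (FieldPt.ofPt φ t).K) (FieldPt.ofPt φ t).str
      ((ofScheme S).obj (pullback m (ptι φ t))) ((ofScheme S).map (pullback.snd m (ptι φ t))) with h | h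
    · exfalso
      exact h.false (Points.ofScheme _ ((sqL.isoPullback.inv) τ))
    · exact h
  have hiso' : IsIso (pullback.snd m (ptι φ t)) := isIso_of_fully_faithful (ofScheme S) _
  have hiso'' : IsIso (pullback.snd m (ptι φ t)).left := (Over.forget S).map_isIso _
  have e : (pullback.fst m (ptι φ t)).left ≫ m.left = (pullback.snd m (ptι φ t)).left ≫ (ptι φ t).left := sqL.w
  rw [e]
  infer_instance

end Groth.Agent.Lib.helper5.MonoDiscrete
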