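import Groth.Agent.Lib.Helper5.LocSepAlgSp
import Groth.Agent.Lib.Helper5.MonoDiscrete
import Groth.Agent.Lib.Helper24.EtaleReduced

/-!
# Locally separated algebraic spaces: finiteness of fibres of field points (helper5)

`finite_of_etale_over_fieldPt`: for a locally separated algebraic space `X`, an affine etale chart `φ : h_U ⟶ X`, a field point
`q` and a scheme `T` with `a : T ⟶ Spec K` etale and `b : T ⟶ U` jointly monomorphic with `h_a ≫ q = h_b ≫ φ`, the scheme
`T` has finitely many points.
-/

set_option autoImplicit false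
universe u
open CategoryTheory CategoryTheory.Limits AlgebraicGeometry AlgSp Opposite Topology

namespace Groth.Agent.Lib.helper5.LocSepFin

open Groth.Agent.Lib.helper5.LocSepAlgSp Groth.Agent.Lib.helper5.FieldQuot Groth.Agent.Lib.helper5.MonoDiscrete

variable {S : Scheme.{u}}

theorem finite_of_etale_over_fieldPt {X : Sp S} (hls : IsLocallySeparatedSp X)
    {U : Over S} [IsAffine U.left] (φ : (yon S).obj U ⟶ X) (hφ : RepWith @Etale φ)
    (q : FieldPt X) {T : Over S} (a : T ⟶ q.pt) [Etale a.left] (b : T ⟶ U)
    (hab : (yon S).map a ≫ q.toHom = (yon S).map b ≫ φ)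
    (hmono : ∀ {W : Over S} (y y' : W ⟶ T), y ≫ a = y' ≫ a → y ≫ b = y' ≫ b → y = y') :
    Finite ↥T.left := by
  have hlqf : LocallyQuasiFinite a.left := lqf_of_etale a.left
  have hart : IsLocallyArtinian q.pt.left := inferInstanceAs (IsLocallyArtinian (Spec (CommRingCat.of q.K)))
  have hart' : IsLocallyArtinian T.left := IsLocallyArtinian.of_locallyQuasiFinite a.left
  have hred : IsReduced q.pt.left := inferInstanceAs (IsReduced (Spec (CommRingCat.of q.K)))
  have hred' : IsReduced T.left := Groth.Agent.H1.EtaleReduced.isReduced_of_etale a.left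
  have hdisc : DiscreteTopology ↥T.left := inferInstance
  let Ω : Type u := AlgebraicClosure q.K
  let w : Spec (CommRingCat.of Ω) ⟶ S := Spec.map (CommRingCat.ofHom (algebraMap q.K Ω)) ≫ q.str
  let τ₀ : Over.mk w ⟶ q.pt := Over.homMk (Spec.map (CommRingCat.ofHom (algebraMap q.K Ω))) rfl
  have hy : ∀ v : ↥T.left, ∃ y : Over.mk w ⟶ T, y ≫ a = τ₀ ∧ y.left (IsLocalRing.closedPoint Ω) = v := by
    intro v
    have hoi : IsOpenImmersion (T.left.fromSpecResidueField v) :=
      isOpenImmersion_fromSpecResidueField_of_discrete T.left v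
    have hqc : QuasiCompact (T.left.fromSpecResidueField v ≫ a.left) := quasiCompact_of_field _
    have hfin : IsFinite (T.left.fromSpecResidueField v ≫ a.left) :=
      isFinite_of_etale_qc (K := q.K) (T.left.fromSpecResidueField v ≫ a.left)
    obtain ⟨e, he⟩ := Spec.map_surjective (T.left.fromSpecResidueField v ≫ a.left)
    have hefin : e.hom.Finite := by
      rw [← IsFinite.SpecMap_iff, he]; exact hfin
    obtain ⟨σc, hσ⟩ : ∃ σc : T.left.residueField v ⟶ CommRingCat.of Ω,
        e ≫ σc = CommRingCat.ofHom (algebraMap q.K Ω) := by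
      let _ : Algebra q.K (T.left.residueField v) := e.hom.toAlgebra
      have : Module.Finite q.K (T.left.residueField v) := hefin
      have : Algebra.IsAlgebraic q.K (T.left.residueField v) := Algebra.IsAlgebraic.of_finite _ _
      let σ : (T.left.residueField v) →ₐ[q.K] Ω := IsAlgClosed.lift
      refine ⟨CommRingCat.ofHom σ.toRingHom, ?_⟩
      ext k
      exact σ.commutes k
    have hw : (Spec.map σc ≫ T.left.fromSpecResidueField v) ≫ T.hom = w := by
      have h1 : T.hom = a.left ≫ q.str := (Over.w a).symm
      rw [h1, Category.assoc, ← Category.assoc (T.left.fromSpecResidueField v), ← he, ← Category.assoc,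
        ← Spec.map_comp, hσ]
    refine ⟨Over.homMk (Spec.map σc ≫ T.left.fromSpecResidueField v) hw, ?_, ?_⟩
    · apply Over.OverMorphism.ext
      rw [Over.comp_left]
      change (Spec.map σc ≫ T.left.fromSpecResidueField v) ≫ a.left = _
      rw [Category.assoc, ← he, ← Spec.map_comp, hσ]
      rfl
    · change (Spec.map σc ≫ T.left.fromSpecResidueField v) _ = v
      rw [Scheme.Hom.comp_apply]
      exact Scheme.fromSpecResidueField_apply _ _
  choose y hya hyv using hy
  refine finite_lifts hls φ hφ w (fun v => y v ≫ b) ?_ ?_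
  · intro v v' h
    have h1 : y v = y v' := hmono _ _ ((hya v).trans (hya v').symm) h
    rw [← hyv v, ← hyv v', h1]
  · intro v v'
    rw [Functor.map_comp, Functor.map_comp, Category.assoc, Category.assoc, ← hab, ← Category.assoc,
      ← Category.assoc, ← Functor.map_comp, ← Functor.map_comp, hya, hya]

end Groth.Agent.Lib.helper5.LocSepFin
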