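import Groth.Agent.Lib.Helper5.LocSepScheme

/-!
# Functions on the absolute self-product of an affine scheme (helper5)

`gen_pullback`: for an affine scheme `U` and `g : U ⟶ Z` with `Z` "terminal" (any two morphisms to `Z` agree), every global
function on `pullback g g` is a finite sum of products `pr₁^* a · pr₂^* b`.
-/

set_option autoImplicit false
universe u
open CategoryTheory CategoryTheory.Limits AlgebraicGeometry Opposite Topology TensorProduct

namespace Groth.Agent.Lib.helper5.LocSepGen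

theorem exists_sum_of_tensor {A B : Type u} [CommRing A] [CommRing B] (p₁ p₂ : A →+* B)
    (τ : A ⊗[ℤ] A) :
    ∃ (κ : Type) (_ : Fintype κ) (a b : κ → A),
      (Algebra.TensorProduct.productMap p₁.toIntAlgHom p₂.toIntAlgHom) τ = ∑ i, p₁ (a i) * p₂ (b i) := by
  induction τ using TensorProduct.induction_on with
  | zero => exact ⟨Empty, inferInstance, Empty.elim, Empty.elim, by simp⟩
  | tmul a b =>
    refine ⟨Unit, inferInstance, fun _ => a, fun _ => b, ?_⟩
    rw [Algebra.TensorProduct.productMap_apply_tmul]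
    simp
  | add x y hx hy =>
    obtain ⟨κ₁, _, a₁, b₁, h₁⟩ := hx
    obtain ⟨κ₂, _, a₂, b₂, h₂⟩ := hy
    refine ⟨κ₁ ⊕ κ₂, inferInstance, Sum.elim a₁ a₂, Sum.elim b₁ b₂, ?_⟩
    rw [map_add, h₁, h₂, Fintype.sum_sum_type]
    simp

theorem gen_pullback {U Z : Scheme.{u}} [IsAffine U] (g : U ⟶ Z)
    (hZ : ∀ {T : Scheme.{u}} (a b : T ⟶ Z), a = b) (f : Γ(pullback g g, ⊤)) :
    ∃ (κ : Type) (_ : Fintype κ) (a b : κ → Γ(U, ⊤)),
      f = ∑ i, (pullback.fst g g).appTop.hom (a i) * (pullback.snd g g).appTop.hom (b i) := by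
  let Q : Scheme.{u} := pullback g g
  let A : Type u := Γ(U, ⊤)
  let μ : A ⊗[ℤ] A →+* Γ(Q, ⊤) :=
    (Algebra.TensorProduct.productMap (pullback.fst g g).appTop.hom.toIntAlgHom
      (pullback.snd g g).appTop.hom.toIntAlgHom).toRingHom
  let inl' : Γ(U, ⊤) ⟶ CommRingCat.of (A ⊗[ℤ] A) :=
    CommRingCat.ofHom (Algebra.TensorProduct.includeLeftRingHom)
  let inr' : Γ(U, ⊤) ⟶ CommRingCat.of (A ⊗[ℤ] A) :=
    CommRingCat.ofHom (Algebra.TensorProduct.includeRight (R := ℤ) (A := A) (B := A)).toRingHom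
  let p₁' : Spec (CommRingCat.of (A ⊗[ℤ] A)) ⟶ U := Spec.map inl' ≫ U.isoSpec.inv
  let p₂' : Spec (CommRingCat.of (A ⊗[ℤ] A)) ⟶ U := Spec.map inr' ≫ U.isoSpec.inv
  let k : Spec (CommRingCat.of (A ⊗[ℤ] A)) ⟶ Q := pullback.lift p₁' p₂' (hZ _ _)
  let m : Q ⟶ Spec (CommRingCat.of (A ⊗[ℤ] A)) := Q.toSpecΓ ≫ Spec.map (CommRingCat.ofHom μ)
  have hl : inl' ≫ CommRingCat.ofHom μ = (pullback.fst g g).appTop := by
    ext a
    change (Algebra.TensorProduct.productMap _ _) (a ⊗ₜ[ℤ] (1 : A)) = _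
    rw [Algebra.TensorProduct.productMap_apply_tmul]
    simp
  have hr : inr' ≫ CommRingCat.ofHom μ = (pullback.snd g g).appTop := by
    ext a
    change (Algebra.TensorProduct.productMap _ _) ((1 : A) ⊗ₜ[ℤ] a) = _
    rw [Algebra.TensorProduct.productMap_apply_tmul]
    simp
  have hiso : U.toSpecΓ ≫ U.isoSpec.inv = 𝟙 U := U.isoSpec.hom_inv_id
  have hmk : m ≫ k = 𝟙 Q := by
    apply pullback.hom_ext
    · rw [Category.assoc, pullback.lift_fst, Category.id_comp]
      change (Q.toSpecΓ ≫ Spec.map (CommRingCat.ofHom μ)) ≫ Spec.map inl' ≫ U.isoSpec.inv = _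
      rw [Category.assoc, ← Category.assoc (Spec.map _), ← Spec.map_comp, hl, ← Category.assoc,
        ← Scheme.toSpecΓ_naturality, Category.assoc, hiso, Category.comp_id]
    · rw [Category.assoc, pullback.lift_snd, Category.id_comp]
      change (Q.toSpecΓ ≫ Spec.map (CommRingCat.ofHom μ)) ≫ Spec.map inr' ≫ U.isoSpec.inv = _
      rw [Category.assoc, ← Category.assoc (Spec.map _), ← Spec.map_comp, hr, ← Category.assoc,
        ← Scheme.toSpecΓ_naturality, Category.assoc, hiso, Category.comp_id]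
  have hmapp : m.appTop = (Scheme.ΓSpecIso (CommRingCat.of (A ⊗[ℤ] A))).hom ≫ CommRingCat.ofHom μ := by
    change (Q.toSpecΓ ≫ Spec.map (CommRingCat.ofHom μ)).appTop = _
    rw [Scheme.Hom.comp_appTop, Scheme.toSpecΓ_appTop, Scheme.ΓSpecIso_naturality]
  have hf : f = μ ((Scheme.ΓSpecIso (CommRingCat.of (A ⊗[ℤ] A))).hom.hom (k.appTop.hom f)) := by
    have h1 : (m ≫ k).appTop.hom f = f := by rw [hmk]; simp
    rw [Scheme.Hom.comp_appTop, hmapp] at h1
    exact h1.symm
  obtain ⟨κ, hκ, a, b, hab⟩ := exists_sum_of_tensor (pullback.fst g g).appTop.hom (pullback.snd g g).appTop.hom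
    ((Scheme.ΓSpecIso (CommRingCat.of (A ⊗[ℤ] A))).hom.hom (k.appTop.hom f))
  exact ⟨κ, hκ, a, b, hf.trans hab⟩

end Groth.Agent.Lib.helper5.LocSepGen
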