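import Mathlib

/-!
# A rank argument for pairs of field-valued points (helper5)

* `finite_of_dual_family`: if `B` is generated by two copies of `A`, `f : B` and a family of ring maps `ζ n m : B → Ω` built from
  `z n, z m : A → Ω` satisfy `ζ n m f = δ_{nm}`, then the family is finite.
* `exists_separating`: a closed subset of `Spec B` disjoint from `V(ker m)` is separated from it by a function.
-/

set_option autoImplicit false
universe u v w
open TensorProduct

namespace Groth.Agent.Lib.helper5.LocSepRank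

theorem finite_of_dual_family {A : Type u} {B : Type v} {Ω : Type w} [CommRing A] [CommRing B] [Field Ω]
    (p₁ p₂ : A →+* B) {ι : Type*} (z : ι → A →+* Ω) (ζ : ι → ι → B →+* Ω)
    (h1 : ∀ n m, (ζ n m).comp p₁ = z n) (h2 : ∀ n m, (ζ n m).comp p₂ = z m)
    (f : B) (hgen : ∃ (κ : Type) (_ : Fintype κ) (a b : κ → A), f = ∑ i, p₁ (a i) * p₂ (b i))
    (hf0 : ∀ n m, n ≠ m → ζ n m f = 0) (hf1 : ∀ n, ζ n n f = 1) : Finite ι := by
  obtain ⟨κ, _, a, b, hab⟩ := hgen
  by_contra hinf
  rw [not_finite_iff_infinite] at hinf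
  obtain ⟨e⟩ : Nonempty (Fin (Fintype.card κ + 1) ↪ ι) :=
    ⟨⟨fun i => Infinite.natEmbedding ι i.val, fun i j h => Fin.ext ((Infinite.natEmbedding ι).injective h)⟩⟩
  have hval : ∀ n m, ζ n m f = ∑ i, z n (a i) * z m (b i) := by
    intro n m
    rw [hab, map_sum]
    refine Finset.sum_congr rfl fun i _ => ?_
    rw [map_mul, ← h1 n m, ← h2 n m]
    rfl
  let M : Matrix (Fin (Fintype.card κ + 1)) κ Ω := fun n i => z (e n) (a i)
  let N : Matrix κ (Fin (Fintype.card κ + 1)) Ω := fun i m => z (e m) (b i)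
  have hMN : M * N = 1 := by
    ext n m
    rw [Matrix.mul_apply, Matrix.one_apply]
    change ∑ i, z (e n) (a i) * z (e m) (b i) = _
    rw [← hval]
    split_ifs with hnm
    · rw [hnm]; exact hf1 _
    · exact hf0 _ _ fun h => hnm (e.injective h)
  have hrank : (M * N).rank ≤ Fintype.card κ :=
    (Matrix.rank_mul_le_left M N).trans (Matrix.rank_le_card_width M)
  rw [hMN, Matrix.rank_one, Fintype.card_fin] at hrank
  omega

theorem exists_separating {A : Type u} {B : Type v} [CommRing A] [CommRing B] (m : B →+* A)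
    (C : Set (PrimeSpectrum B)) (hC : IsClosed C)
    (hdisj : C ∩ PrimeSpectrum.zeroLocus (RingHom.ker m : Set B) = ∅) :
    ∃ f : B, f ∈ PrimeSpectrum.vanishingIdeal C ∧ m f = 1 := by
  have hCz : PrimeSpectrum.zeroLocus (PrimeSpectrum.vanishingIdeal C : Set B) = C := by
    rw [PrimeSpectrum.zeroLocus_vanishingIdeal_eq_closure, hC.closure_eq]
  have htop : PrimeSpectrum.vanishingIdeal C ⊔ RingHom.ker m = ⊤ := by
    rw [← PrimeSpectrum.zeroLocus_empty_iff_eq_top, PrimeSpectrum.zeroLocus_sup, hCz]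
    exact hdisj
  have h1 : (1 : B) ∈ PrimeSpectrum.vanishingIdeal C ⊔ RingHom.ker m := by rw [htop]; trivial
  obtain ⟨f, hf, g, hg, hfg⟩ := Submodule.mem_sup.1 h1
  refine ⟨f, hf, ?_⟩
  have : m f + m g = 1 := by rw [← map_add, hfg, map_one]
  rw [RingHom.mem_ker] at hg
  rwa [hg, add_zero] at this

end Groth.Agent.Lib.helper5.LocSepRank
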