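import Groth.Agent.Lib.Helper5.LocSepRank

/-!
# Finiteness of families of field-valued points for an embedded relation (helper5)

`finite_of_embedding`: let `U`, `Q` be affine schemes with `Q` a "product" of `U` with itself (two projections, jointly
monomorphic, generating the functions on `Q`), `s, t : R ⟶ U` with `s` etale and a common section `d`, and `j : R ⟶ Q` a
topological embedding compatible with the projections such that `d ≫ j` is a closed immersion.  Then any family of pairwise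
distinct `Ω`-points `z n` of `U`, all pairs of which lift to `R`, is finite.
-/

set_option autoImplicit false
universe u
open CategoryTheory CategoryTheory.Limits AlgebraicGeometry Opposite Topology

namespace Groth.Agent.Lib.helper5.LocSepScheme

open Groth.Agent.Lib.helper5.LocSepRank

variable {Ω : Type u} [Field Ω]

/-- The value of functions at a field-valued point. -/
noncomputable def evalHom {Q : Scheme.{u}} (ζ : Spec (CommRingCat.of Ω) ⟶ Q) : Γ(Q, ⊤) →+* Ω :=
  (Scheme.ΓSpecIso (CommRingCat.of Ω)).hom.hom.comp ζ.appTop.hom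

theorem evalHom_comp {Q U : Scheme.{u}} (ζ : Spec (CommRingCat.of Ω) ⟶ Q) (π : Q ⟶ U) :
    (evalHom ζ).comp π.appTop.hom = evalHom (ζ ≫ π) := by
  unfold evalHom
  rw [Scheme.Hom.comp_appTop, CommRingCat.hom_comp, RingHom.comp_assoc]

theorem comp_toSpecΓ {Q : Scheme.{u}} (ζ : Spec (CommRingCat.of Ω) ⟶ Q) :
    ζ ≫ Q.toSpecΓ = Spec.map (CommRingCat.ofHom (evalHom ζ)) := by
  rw [Scheme.toSpecΓ_naturality, ← SpecMap_ΓSpecIso_hom, ← Spec.map_comp]
  rfl

theorem evalHom_eq_zero_of_mem {Q : Scheme.{u}} (ζ : Spec (CommRingCat.of Ω) ⟶ Q) (f : Γ(Q, ⊤))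
    (hf : f ∈ (Q.toSpecΓ (ζ (IsLocalRing.closedPoint Ω))).asIdeal) : evalHom ζ f = 0 := by
  rw [← Scheme.Hom.comp_apply, comp_toSpecΓ] at hf
  have h2 : evalHom ζ f ∈ IsLocalRing.maximalIdeal Ω := hf
  rw [IsLocalRing.maximalIdeal_eq_bot] at h2
  exact h2

theorem finite_of_embedding {U Q R : Scheme.{u}} [IsAffine U] [IsAffine Q]
    (π₁ π₂ : Q ⟶ U) (s t : R ⟶ U) (d : U ⟶ R) (j : R ⟶ Q) [Etale s]
    (hds : d ≫ s = 𝟙 U) (hdt : d ≫ t = 𝟙 U) (hj₁ : j ≫ π₁ = t) (hj₂ : j ≫ π₂ = s)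
    (hjemb : IsEmbedding j) [IsClosedImmersion (d ≫ j)]
    (hmono : ∀ {T : Scheme.{u}} (a b : T ⟶ Q), a ≫ π₁ = b ≫ π₁ → a ≫ π₂ = b ≫ π₂ → a = b)
    (hgen : ∀ f : Γ(Q, ⊤), ∃ (κ : Type) (_ : Fintype κ) (a b : κ → Γ(U, ⊤)),
      f = ∑ i, π₁.appTop.hom (a i) * π₂.appTop.hom (b i))
    {ι : Type*} (z : ι → (Spec (CommRingCat.of Ω) ⟶ U)) (hz : Function.Injective z)
    (ρ : ι → ι → (Spec (CommRingCat.of Ω) ⟶ R)) (hρt : ∀ n m, ρ n m ≫ t = z n)
    (hρs : ∀ n m, ρ n m ≫ s = z m) : Finite ι := by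
  -- `d` is an open immersion
  have hdmono : Mono d := mono_of_mono_fac hds
  have hdet : Etale d := by
    have : Etale (d ≫ s) := by rw [hds]; infer_instance
    exact Etale.of_comp d s
  have hdoi : IsOpenImmersion d := IsOpenImmersion.of_flat_of_mono d
  -- the closed complement
  have hR'cl : IsClosed (Set.range d)ᶜ := d.isOpenEmbedding.isOpen_range.isClosed_compl
  have hdisj : closure (j '' (Set.range d)ᶜ) ∩ Set.range (d ≫ j) = ∅ := by
    rw [Set.eq_empty_iff_forall_notMem]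
    rintro q ⟨hqC, u, rfl⟩
    have h1 : d u ∈ closure (Set.range d)ᶜ := by
      rw [hjemb.isInducing.closure_eq_preimage_closure_image]
      rw [Scheme.Hom.comp_apply] at hqC
      exact hqC
    rw [hR'cl.closure_eq] at h1
    exact h1 ⟨u, rfl⟩
  have hQiso : IsIso Q.toSpecΓ := IsAffine.affine
  have hUiso : IsIso U.toSpecΓ := IsAffine.affine
  have hC'cl : IsClosed (Q.toSpecΓ '' closure (j '' (Set.range d)ᶜ)) :=
    (Q.toSpecΓ.homeomorph).isClosedMap _ isClosed_closure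
  have hmsurj : Function.Surjective (d ≫ j).appTop.hom :=
    ((HasAffineProperty.iff_of_isAffine (P := @IsClosedImmersion)).1 ‹_›).2
  have hdisj' : (Q.toSpecΓ '' closure (j '' (Set.range d)ᶜ)) ∩
      PrimeSpectrum.zeroLocus (RingHom.ker (d ≫ j).appTop.hom : Set Γ(Q, ⊤)) = ∅ := by
    rw [Set.eq_empty_iff_forall_notMem]
    rintro 𝔮 ⟨⟨c, hc, rfl⟩, h𝔮⟩
    rw [← range_comap_of_surjective _ _ hmsurj] at h𝔮
    obtain ⟨𝔭, h𝔭⟩ := h𝔮
    obtain ⟨u, rfl⟩ := (U.toSpecΓ.homeomorph).surjective 𝔭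
    have h3 : Q.toSpecΓ ((d ≫ j) u) = Q.toSpecΓ c := by
      rw [← h𝔭, ← Scheme.Hom.comp_apply, Scheme.toSpecΓ_naturality, Scheme.Hom.comp_apply]
      rfl
    have h4 : (d ≫ j) u = c := (Q.toSpecΓ.homeomorph).injective h3
    have : c ∈ closure (j '' (Set.range d)ᶜ) ∩ Set.range (d ≫ j) := ⟨hc, u, h4⟩
    rw [hdisj] at this
    exact this
  obtain ⟨f, hfC, hf1⟩ := exists_separating (d ≫ j).appTop.hom _ hC'cl hdisj'
  refine finite_of_dual_family π₁.appTop.hom π₂.appTop.hom (fun n => evalHom (z n))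
    (fun n m => evalHom (ρ n m ≫ j)) ?_ ?_ f (hgen f) ?_ ?_
  · intro n m
    rw [evalHom_comp, Category.assoc, hj₁, hρt]
  · intro n m
    rw [evalHom_comp, Category.assoc, hj₂, hρs]
  · intro n m hnm
    refine evalHom_eq_zero_of_mem _ f ?_
    rw [PrimeSpectrum.mem_vanishingIdeal] at hfC
    refine hfC _ ⟨_, subset_closure ⟨ρ n m (IsLocalRing.closedPoint Ω), ?_, ?_⟩, rfl⟩
    · rintro ⟨u, hu⟩
      have hsub : Subsingleton ↥(Spec (CommRingCat.of Ω)) := inferInstanceAs (Subsingleton (PrimeSpectrum Ω))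
      have hrange : Set.range (ρ n m) ⊆ Set.range d := by
        rintro _ ⟨w, rfl⟩
        rw [Subsingleton.elim w (IsLocalRing.closedPoint Ω)]
        exact ⟨u, hu⟩
      obtain ⟨l, hl⟩ : ∃ l, l ≫ d = ρ n m := ⟨_, IsOpenImmersion.lift_fac d (ρ n m) hrange⟩
      have e1 : z n = l := by
        rw [← hρt n m, ← hl, Category.assoc, hdt, Category.comp_id]
      have e2 : z m = l := by
        rw [← hρs n m, ← hl, Category.assoc, hds, Category.comp_id]
      exact hnm (hz (e1.trans e2.symm))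
    · rw [Scheme.Hom.comp_apply]
  · intro n
    have e : ρ n n ≫ j = z n ≫ (d ≫ j) := by
      apply hmono
      · rw [Category.assoc, hj₁, hρt, Category.assoc, Category.assoc, hj₁, hdt, Category.comp_id]
      · rw [Category.assoc, hj₂, hρs, Category.assoc, Category.assoc, hj₂, hds, Category.comp_id]
    change evalHom (ρ n n ≫ j) f = 1
    rw [e, ← evalHom_comp, RingHom.comp_apply, hf1, map_one]

end Groth.Agent.Lib.helper5.LocSepScheme
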