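import Groth.Agent.Lib.Helper5.MaxOpenFppf1
import Groth.Agent.Lib.Helper28.MaxOpenSrc

/-!
# The maximal open of the source of a homomorphism of group schemes on which `u` has `P`
is an open subgroup, for `P` descending along fppf base change (helper5)

Generic form of SGA3 VI_B 2.? for `P` = flat+lfp / smooth / étale.
-/

set_option autoImplicit false
universe u
open CategoryTheory CategoryTheory.Limits MonoidalCategory CartesianMonoidalCategory MonObj GrpObj
  AlgebraicGeometry

namespace Groth.Agent.Lib.helper5.MaxOpenFppf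

open Groth.Agent.Lib.helper28.MaxOpenSrc

theorem core (S : Scheme.{u}) (G H : Over S) [GrpObj G] [GrpObj H]
    (u : G ⟶ H) [IsMonHom u]
    (hfl : Flat G.hom ∨ Flat H.hom)
    (hfp : LocallyOfFinitePresentation G.hom ∨ LocallyOfFinitePresentation H.hom)
    (P : MorphismProperty Scheme.{u}) [P.RespectsIso] [P.IsStableUnderBaseChange]
    (hPfl : ∀ {X Y : Scheme.{u}} (f : X ⟶ Y), P f → Flat f)
    (hPfp : ∀ {X Y : Scheme.{u}} (f : X ⟶ Y), P f → LocallyOfFinitePresentation f)
    (hPdesc : ∀ {Pb X Y Y' N₀ : Scheme.{u}} {a : Pb ⟶ X} {b : Pb ⟶ Y'} {f : X ⟶ Y} {g : Y' ⟶ Y}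
      (_ : IsPullback a b f g) [Flat g] [LocallyOfFinitePresentation g] (j : N₀ ⟶ Pb)
      [IsOpenImmersion j] (_ : Function.Surjective (j ≫ a)), P (j ≫ b) → P f)
    (V : G.left.Opens) (hV : P (V.ι ≫ u.left))
    (hmax : ∀ W : G.left.Opens, P (W.ι ≫ u.left) → W ≤ V) :
    IsOpen (G.hom.base '' (V : Set G.left)) ∧
    (∀ g ∈ V, ∀ p : ↥(𝟙_ (Over S)).left, (𝟙_ (Over S)).hom.base p = G.hom.base g →
      η[G].left.base p ∈ V) ∧
    (∀ g ∈ V, ι[G].left.base g ∈ V) ∧
    (∀ z : ↥(G ⊗ G).left, (fst G G).left.base z ∈ V → (snd G G).left.base z ∈ V →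
      μ[G].left.base z ∈ V) := by
  classical
  set T : Over S := Over.mk (V.ι ≫ G.hom) with hTdef
  set g : T ⟶ G := Over.homMk V.ι rfl with hgdef
  have hgl : g.left = V.ι := rfl
  have hTw : V.ι ≫ G.hom = (V.ι ≫ u.left) ≫ H.hom := by rw [Category.assoc, Over.w u]
  haveI hVfl : Flat (V.ι ≫ u.left) := hPfl _ hV
  haveI hVfp : LocallyOfFinitePresentation (V.ι ≫ u.left) := hPfp _ hV
  haveI hTfl : Flat T.hom := by
    show Flat (V.ι ≫ G.hom)
    rcases hfl with hG | hH
    · infer_instance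
    · rw [hTw]; infer_instance
  haveI hTfp : LocallyOfFinitePresentation T.hom := by
    show LocallyOfFinitePresentation (V.ι ≫ G.hom)
    rcases hfp with hG | hH
    · infer_instance
    · rw [hTw]; infer_instance
  haveI hT : UniversallyOpen T.hom := inferInstance
  haveI hsG : UniversallyOpen (snd T G).left := by rw [Over.snd_left]; infer_instance
  haveI hsHfl : Flat (snd T H).left := by rw [Over.snd_left]; infer_instance
  haveI hsHfp : LocallyOfFinitePresentation (snd T H).left := by rw [Over.snd_left]; infer_instance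
  have hpr : IsOpenMap (snd T G).left := (snd T G).left.isOpenMap
  have hdesc : ∀ N' : (T ⊗ G).left.Opens, P (N'.ι ≫ (T ◁ u).left) →
      P ((imgOpen (snd T G).left hpr N').ι ≫ u.left) := by
    intro N' hN'
    set N : G.left.Opens := imgOpen (snd T G).left hpr N' with hN
    set M : (T ⊗ G).left.Opens := (snd T G).left ⁻¹ᵁ N with hM
    have sq0 : IsPullback M.ι ((snd T G).left ∣_ N) (snd T G).left N.ι :=
      (isPullback_morphismRestrict _ _).flip
    have sq1 := isPullback_snd_whiskerLeft T u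
    have sq : IsPullback ((snd T G).left ∣_ N) (M.ι ≫ (T ◁ u).left) (N.ι ≫ u.left)
        (snd T H).left := sq0.flip.paste_vert sq1
    have hle : N' ≤ M := by
      intro x hx
      exact ⟨x, hx, rfl⟩
    have hrange : Set.range N'.ι ⊆ Set.range M.ι := by
      rw [Scheme.Opens.range_ι, Scheme.Opens.range_ι]
      exact hle
    set j : (N' : Scheme.{u}) ⟶ (M : Scheme.{u}) := IsOpenImmersion.lift M.ι N'.ι hrange with hj
    have hjι : j ≫ M.ι = N'.ι := IsOpenImmersion.lift_fac _ _ _
    haveI : IsOpenImmersion j := by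
      have : IsOpenImmersion (j ≫ M.ι) := by rw [hjι]; infer_instance
      exact IsOpenImmersion.of_comp j M.ι
    have hsurj : Function.Surjective (j ≫ ((snd T G).left ∣_ N)) := by
      intro y
      obtain ⟨x, hxN, hx⟩ := y.2
      refine ⟨⟨x, hxN⟩, ?_⟩
      apply Subtype.ext
      have e1 : (j ≫ ((snd T G).left ∣_ N)) ≫ N.ι = N'.ι ≫ (snd T G).left := by
        rw [Category.assoc, morphismRestrict_ι, ← Category.assoc, hjι]
      have := congrArg (fun m => m.base ⟨x, hxN⟩) e1
      simpa using this.trans hx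
    have e2 : j ≫ M.ι ≫ (T ◁ u).left = N'.ι ≫ (T ◁ u).left := by
      rw [← Category.assoc, hjι]
    exact hPdesc sq j hsurj (by rw [e2]; exact hN')
  have tm : ∀ (a : T ⟶ G) (w : (T ⊗ G).left), (snd T G).left w ∈ V →
      ((fst T G ≫ a) * snd T G).left w ∈ V := fun a w hw =>
    translate_mem P u T hpr a V hV hmax hdesc w hw
  -- the unit step
  have hunit : ∀ v : T.left, (toUnit T ≫ η[G]).left v ∈ V := by
    intro v
    have hw : (snd T G).left ((lift (𝟙 T) g).left v) ∈ V := by
      have : (snd T G).left ((lift (𝟙 T) g).left v) = g.left v :=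
        congrArg (fun m : T ⟶ G => m.left v) (lift_snd (𝟙 T) g)
      rw [this, hgl]
      exact v.2
    have h1 := tm g⁻¹ _ hw
    have e : lift (𝟙 T) g ≫ ((fst T G ≫ g⁻¹) * snd T G) = toUnit T ≫ η[G] := by
      rw [MonObj.comp_mul, lift_fst_assoc, lift_snd, Category.id_comp, inv_mul_cancel, Hom.one_def]
    have h2 : ((fst T G ≫ g⁻¹) * snd T G).left ((lift (𝟙 T) g).left v) = (toUnit T ≫ η[G]).left v :=
      congrArg (fun m : T ⟶ G => m.left v) e
    rw [← h2]
    exact h1
  refine ⟨?_, ?_, ?_, ?_⟩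
  · haveI hT' : UniversallyOpen (V.ι ≫ G.hom) := hT
    have h1 : IsOpen (Set.range (V.ι ≫ G.hom)) := (V.ι ≫ G.hom).isOpenMap.isOpen_range
    have h2 : Set.range (V.ι ≫ G.hom) = G.hom.base '' (V : Set G.left) := by
      rw [Scheme.Hom.comp_base, TopCat.coe_comp, Set.range_comp]
      congr 1
      exact V.range_ι
    rw [← h2]
    exact h1
  · intro x hx p hp
    have h1 := hunit ⟨x, hx⟩
    have hpe : (toUnit T).left ⟨x, hx⟩ = p := by
      have h2 : (𝟙_ (Over S)).hom ((toUnit T).left ⟨x, hx⟩) = T.hom ⟨x, hx⟩ := by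
        rw [← Scheme.Hom.comp_apply, Over.w]
      have h3 : (𝟙_ (Over S)).hom = 𝟙 S := rfl
      have h5 : T.hom ⟨x, hx⟩ = G.hom x := rfl
      have h4 := (h2.trans h5).trans hp.symm
      rw [h3] at h4
      exact h4
    have h6 : (toUnit T ≫ η[G]).left ⟨x, hx⟩ = η[G].left ((toUnit T).left ⟨x, hx⟩) := rfl
    rw [h6, hpe] at h1
    exact h1
  · intro x hx
    set v : T.left := ⟨x, hx⟩ with hv
    have hw : (snd T G).left ((lift (𝟙 T) (toUnit T ≫ η[G])).left v) ∈ V := by
      have : (snd T G).left ((lift (𝟙 T) (toUnit T ≫ η[G])).left v) = (toUnit T ≫ η[G]).left v :=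
        congrArg (fun m : T ⟶ G => m.left v) (lift_snd (𝟙 T) (toUnit T ≫ η[G]))
      rw [this]
      exact hunit v
    have h1 := tm g⁻¹ _ hw
    have e : lift (𝟙 T) (toUnit T ≫ η[G]) ≫ ((fst T G ≫ g⁻¹) * snd T G) = g ≫ ι[G] := by
      rw [MonObj.comp_mul, lift_fst_assoc, lift_snd, Category.id_comp, ← Hom.one_def, _root_.mul_one,
        Hom.inv_def]
    have h2 : ((fst T G ≫ g⁻¹) * snd T G).left ((lift (𝟙 T) (toUnit T ≫ η[G])).left v) =
        (g ≫ ι[G]).left v := congrArg (fun m : T ⟶ G => m.left v) e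
    rw [h2] at h1
    exact h1
  · intro z hz1 hz2
    set v : T.left := ⟨(fst G G).left z, hz1⟩ with hv
    have hpb := isPullback_fst_whiskerRight g G
    obtain ⟨w₀, hw₀1, hw₀2⟩ := Scheme.Pullback.exists_preimage_pullback
      (f := (fst G G).left) (g := g.left) z v rfl
    set w : (T ⊗ G).left := hpb.isoPullback.inv w₀ with hw
    have hwz : (g ▷ G).left w = z := by
      rw [hw, ← Scheme.Hom.comp_apply, hpb.isoPullback_inv_fst]
      exact hw₀1
    have hws : (snd T G).left w ∈ V := by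
      have : (snd T G).left w = (snd G G).left ((g ▷ G).left w) :=
        (congrArg (fun m : T ⊗ G ⟶ G => m.left w) (whiskerRight_snd g G)).symm
      rw [this, hwz]
      exact hz2
    have h1 := tm g w hws
    have e : (fst T G ≫ g) * snd T G = (g ▷ G) ≫ μ[G] := by
      rw [MonObj.mul_eq_mul, MonObj.comp_mul, whiskerRight_fst, whiskerRight_snd]
    have h2 : ((fst T G ≫ g) * snd T G).left w = μ[G].left ((g ▷ G).left w) :=
      congrArg (fun m : T ⊗ G ⟶ G => m.left w) e
    rw [h2, hwz] at h1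
    exact h1

end Groth.Agent.Lib.helper5.MaxOpenFppf
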