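import Mathlib

/-!
# Flatness descends along universally injective (pure) ring maps

`R → S` a ring map such that `χ ↦ χ ⊗ 1 : C(R) → C(R) ⊗_R S` is injective for the character module
`C(R)` of `R` (this holds when `R → S` is universally injective).  If `S ⊗_R M` is flat over `S`
then `M` is flat over `R`.  (Stacks 08XD (c).)
-/

set_option autoImplicit false
universe u
open TensorProduct

namespace Groth.Agent.Lib.helper5.PureFlat

variable {R S : Type u} [CommRing R] [CommRing S] [Algebra R S]

/-- A section of `C(S) → C(R)`. -/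
theorem exists_section
    (hpure : Function.Injective ((Algebra.linearMap R S).lTensor (CharacterModule R))) :
    ∃ τ : CharacterModule R →ₗ[R] CharacterModule S,
      ∀ (χ : CharacterModule R) (r : R), τ χ (algebraMap R S r) = χ r := by
  obtain ⟨c₁, hc₁⟩ := CharacterModule.dual_surjective_of_injective _ hpure
    (CharacterModule.homEquiv (R := R) (A := CharacterModule R) (B := R) LinearMap.id)
  refine ⟨CharacterModule.homEquiv.symm c₁, fun χ r => ?_⟩
  have := congrArg (fun c => c (χ ⊗ₜ[R] r)) hc₁
  exact this

/-- The character `n ↦ (r ↦ χ (r • n))`. -/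
noncomputable def toR (N : Type u) [AddCommGroup N] [Module R N] :
    CharacterModule N →ₗ[R] (N →ₗ[R] CharacterModule R) :=
  CharacterModule.curry ∘ₗ CharacterModule.dual (TensorProduct.rid R N).toLinearMap

theorem toR_apply (N : Type u) [AddCommGroup N] [Module R N] (χ : CharacterModule N) (n : N) (r : R) :
    toR N χ n r = χ (r • n) := by
  change χ ((TensorProduct.rid R N) (n ⊗ₜ[R] r)) = _
  rw [TensorProduct.rid_tmul]

/-- The natural section `C(N) → C(S ⊗ N)` built from `τ`. -/
noncomputable def sec (τ : CharacterModule R →ₗ[R] CharacterModule S)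
    (N : Type u) [AddCommGroup N] [Module R N] :
    CharacterModule N →ₗ[R] CharacterModule (S ⊗[R] N) :=
  CharacterModule.dual (TensorProduct.comm R S N).toLinearMap ∘ₗ CharacterModule.uncurry ∘ₗ
    LinearMap.compRight R τ ∘ₗ toR N

theorem sec_apply (τ : CharacterModule R →ₗ[R] CharacterModule S)
    (N : Type u) [AddCommGroup N] [Module R N] (χ : CharacterModule N) (s : S) (n : N) :
    sec τ N χ (s ⊗ₜ[R] n) = τ (toR N χ n) s := by
  rfl

/-- Naturality of `sec`. -/
theorem sec_natural (τ : CharacterModule R →ₗ[R] CharacterModule S)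
    {N N' : Type u} [AddCommGroup N] [Module R N] [AddCommGroup N'] [Module R N']
    (g : N →ₗ[R] N') (χ : CharacterModule N') :
    sec τ N (CharacterModule.dual g χ) = CharacterModule.dual (g.lTensor S) (sec τ N' χ) := by
  ext x
  induction x using TensorProduct.induction_on with
  | zero => simp
  | add x y hx hy => rw [map_add, map_add, hx, hy]
  | tmul s n =>
    change sec τ N (CharacterModule.dual g χ) (s ⊗ₜ[R] n) = sec τ N' χ (s ⊗ₜ[R] g n)
    rw [sec_apply, sec_apply]
    congr 2
    ext r
    rw [toR_apply, toR_apply]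
    change χ (g (r • n)) = _
    rw [map_smul]

/-- `sec` is a section of restriction along `n ↦ 1 ⊗ n`. -/
theorem sec_one (τ : CharacterModule R →ₗ[R] CharacterModule S)
    (hτ : ∀ (χ : CharacterModule R) (r : R), τ χ (algebraMap R S r) = χ r)
    (N : Type u) [AddCommGroup N] [Module R N] (χ : CharacterModule N) (n : N) :
    sec τ N χ ((1 : S) ⊗ₜ[R] n) = χ n := by
  rw [sec_apply, ← map_one (algebraMap R S), hτ, toR_apply, one_smul]

/-- **Flatness descends along pure ring maps.** -/
theorem flat_of_pure
    (hpure : Function.Injective ((Algebra.linearMap R S).lTensor (CharacterModule R)))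
    (M : Type u) [AddCommGroup M] [Module R M] [Module.Flat S (S ⊗[R] M)] : Module.Flat R M := by
  obtain ⟨τ, hτ⟩ := exists_section hpure
  let π : (M →₀ R) →ₗ[R] M := Finsupp.linearCombination R id
  have hπ : Function.Surjective π := Finsupp.linearCombination_id_surjective R M
  let πS : S ⊗[R] (M →₀ R) →ₗ[S] S ⊗[R] M := π.baseChange S
  have hπS : Function.Surjective πS := by
    have : (πS : S ⊗[R] (M →₀ R) → S ⊗[R] M) = π.lTensor S := LinearMap.baseChange_eq_ltensor π
    rw [this]
    exact LinearMap.lTensor_surjective S hπ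
  have hB : Module.Baer S (CharacterModule (S ⊗[R] M)) :=
    Module.Flat.iff_characterModule_baer.1 inferInstance
  obtain ⟨ρ, hρ⟩ := hB.extension_property (CharacterModule.dual πS)
    (CharacterModule.dual_injective_of_surjective _ hπS) LinearMap.id
  have hsm : ∀ (r : R) (c : CharacterModule (S ⊗[R] (M →₀ R))), r • c = (algebraMap R S r) • c := by
    intro r c
    ext x
    rw [CharacterModule.smul_apply, CharacterModule.smul_apply, algebraMap_smul]
  have hsm' : ∀ (r : R) (c : CharacterModule (S ⊗[R] M)), r • c = (algebraMap R S r) • c := by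
    intro r c
    ext x
    rw [CharacterModule.smul_apply, CharacterModule.smul_apply, algebraMap_smul]
  let ρR : CharacterModule (S ⊗[R] (M →₀ R)) →ₗ[R] CharacterModule (S ⊗[R] M) :=
    { toFun := ρ
      map_add' := ρ.map_add
      map_smul' := fun r c => by
        rw [hsm, ρ.map_smul, ← hsm']
        rfl }
  let rr : CharacterModule (M →₀ R) →ₗ[R] CharacterModule M :=
    CharacterModule.dual (TensorProduct.mk R S M 1) ∘ₗ ρR ∘ₗ sec τ (M →₀ R)
  have hrr : ∀ χ : CharacterModule M, rr (CharacterModule.dual π χ) = χ := by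
    intro χ
    change CharacterModule.dual (TensorProduct.mk R S M 1) (ρ (sec τ (M →₀ R) (CharacterModule.dual π χ))) = χ
    rw [sec_natural]
    have h1 : CharacterModule.dual (π.lTensor S) (sec τ M χ) = CharacterModule.dual πS (sec τ M χ) := by
      ext x
      change sec τ M χ (π.lTensor S x) = sec τ M χ (πS x)
      rw [← LinearMap.baseChange_eq_ltensor]
    rw [h1]
    have h2 := congrArg (fun l => l (sec τ M χ)) hρ
    change ρ (CharacterModule.dual πS (sec τ M χ)) = sec τ M χ at h2
    rw [h2]
    ext m
    exact sec_one τ hτ M χ m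
  rw [Module.Flat.iff_characterModule_baer]
  have hBF : Module.Baer R (CharacterModule (M →₀ R)) :=
    Module.Flat.iff_characterModule_baer.1 inferInstance
  intro I g
  obtain ⟨g', hg'⟩ := hBF I (CharacterModule.dual π ∘ₗ g)
  refine ⟨rr ∘ₗ g', fun x mem => ?_⟩
  rw [LinearMap.comp_apply, hg' x mem]
  exact hrr (g ⟨x, mem⟩)

/-- Variant with the purity hypothesis in elementwise form. -/
theorem flat_of_pure'
    (hpure : ∀ (N : Type u) [AddCommGroup N] [Module R N] (n : N), n ⊗ₜ[R] (1 : S) = 0 → n = 0)
    (M : Type u) [AddCommGroup M] [Module R M] [Module.Flat S (S ⊗[R] M)] : Module.Flat R M := by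
  refine flat_of_pure (S := S) ?_ M
  rw [injective_iff_map_eq_zero]
  intro x hx
  obtain ⟨χ, rfl⟩ := (TensorProduct.rid R (CharacterModule R)).symm.surjective x
  have : χ ⊗ₜ[R] (1 : S) = 0 := by
    rw [← hx, TensorProduct.rid_symm_apply, LinearMap.lTensor_tmul, Algebra.linearMap_apply, map_one]
  rw [hpure _ χ this, map_zero]

/-- Pure and flat implies faithfully flat. -/
theorem faithfullyFlat_of_pure
    (hpure : ∀ (N : Type u) [AddCommGroup N] [Module R N] (n : N), n ⊗ₜ[R] (1 : S) = 0 → n = 0)
    [Module.Flat R S] : Module.FaithfullyFlat R S := by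
  rw [Module.FaithfullyFlat.iff_flat_and_rTensor_faithful]
  refine ⟨inferInstance, fun N _ _ hN => ?_⟩
  obtain ⟨n, hn⟩ := exists_ne (0 : N)
  exact ⟨⟨n ⊗ₜ[R] (1 : S), 0, fun h => hn (hpure N n h)⟩⟩

end Groth.Agent.Lib.helper5.PureFlat
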