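import Mathlib
import Groth.Agent.Lib.Helper5.PureFlat

/-!
# Helper lemmas for S10606 (quasi-compact universally schematically dominant monomorphisms): scheme and algebra parts
-/

set_option autoImplicit false
universe u
open CategoryTheory CategoryTheory.Limits AlgebraicGeometry TopologicalSpace TensorProduct

namespace Groth.Agent.Lib.helper5.MonoIso

/-- A flat surjective morphism of schemes is injective on global sections. -/
theorem injective_appTop_of_flat_surjective {X Y : Scheme.{u}} (f : X ⟶ Y) [Flat f] [Surjective f] :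
    Function.Injective f.appTop := by
  rw [injective_iff_map_eq_zero]
  intro s hs
  apply TopCat.Presheaf.section_ext Y.sheaf ⊤ s 0
  intro y hy
  change (Y.presheaf.germ ⊤ y hy) s = (Y.presheaf.germ ⊤ y hy) 0
  rw [map_zero]
  obtain ⟨x, rfl⟩ := f.surjective y
  have hinj : Function.Injective (f.stalkMap x) := by
    algebraize [(f.stalkMap x).hom]
    have : Module.FaithfullyFlat (Y.presheaf.stalk (f x)) (X.presheaf.stalk x) :=
      @Module.FaithfullyFlat.of_flat_of_isLocalHom _ _ _ _ _ _ _
        (Flat.stalkMap f x) (f.toLRSHom.prop x)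
    exact ‹RingHom.FaithfullyFlat _›.injective
  apply hinj
  rw [map_zero, Scheme.Hom.germ_stalkMap_apply]
  change X.presheaf.germ _ x _ (f.appTop s) = 0
  rw [hs, map_zero]

/-- The algebraic heart of the purity argument: a ring map out of a trivial square-zero extension
which is compatible with a ring map out of `B` kills `inr n` whenever `n ⊗ 1 = 0` in `N ⊗ B`. -/
theorem tsze_kill {A B C : Type u} [CommRing A] [CommRing B] [CommRing C] [Algebra A B]
    (N : Type u) [AddCommGroup N] [Module A N] [Module Aᵐᵒᵖ N] [IsCentralScalar A N]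
    (α : TrivSqZeroExt A N →+* C) (β : B →+* C)
    (h : ∀ a, α (TrivSqZeroExt.inl a) = β (algebraMap A B a)) (n : N)
    (hn : n ⊗ₜ[A] (1 : B) = 0) : α (TrivSqZeroExt.inr n) = 0 := by
  letI : Algebra A C := (β.comp (algebraMap A B)).toAlgebra
  have hsm : ∀ (a : A) (c : C), a • c = β (algebraMap A B a) * c := fun a c => rfl
  let bil : N →ₗ[A] B →ₗ[A] C := LinearMap.mk₂ A (fun n b => α (TrivSqZeroExt.inr n) * β b)
    (fun n₁ n₂ b => by rw [TrivSqZeroExt.inr_add, map_add, add_mul])
    (fun a n b => by
      rw [hsm, ← h, ← mul_assoc, ← map_mul, TrivSqZeroExt.inl_mul_inr])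
    (fun n b₁ b₂ => by rw [map_add, mul_add])
    (fun a n b => by
      rw [hsm, Algebra.smul_def, map_mul]
      ring)
  have := congrArg (TensorProduct.lift bil) hn
  rw [TensorProduct.lift.tmul, map_zero] at this
  change α (TrivSqZeroExt.inr n) * β 1 = 0 at this
  rwa [map_one, mul_one] at this

end Groth.Agent.Lib.helper5.MonoIso
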