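import Mathlib
import Groth.Agent.Lib.Helper5.MonoIsoA

/-!
# Helper lemmas for S10606, part B: affine scheme lemmas
-/

set_option autoImplicit false
universe u
open CategoryTheory CategoryTheory.Limits AlgebraicGeometry TopologicalSpace TensorProduct

namespace Groth.Agent.Lib.helper5.MonoIso

theorem isoSpec_inv_appTop (V : Scheme.{u}) [IsAffine V] :
    V.isoSpec.inv.appTop = (Scheme.ΓSpecIso Γ(V, ⊤)).inv := by
  have h1 : V.isoSpec.inv.appTop ≫ V.isoSpec.hom.appTop = 𝟙 _ := by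
    rw [← Scheme.Hom.comp_appTop, Iso.hom_inv_id]
    rfl
  have h2 : V.isoSpec.hom.appTop = (Scheme.ΓSpecIso Γ(V, ⊤)).hom := Scheme.toSpecΓ_appTop V
  rw [h2] at h1
  rw [← cancel_mono (Scheme.ΓSpecIso Γ(V, ⊤)).hom, h1, Iso.inv_hom_id]

theorem appTop_SpecMap_isoSpec_inv {V : Scheme.{u}} [IsAffine V] {R : CommRingCat.{u}}
    (ι : Γ(V, ⊤) ⟶ R) :
    (Spec.map ι ≫ V.isoSpec.inv).appTop = ι ≫ (Scheme.ΓSpecIso R).inv := by
  rw [Scheme.Hom.comp_appTop, isoSpec_inv_appTop, Scheme.ΓSpecIso_inv_naturality]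

/-- If the first projection of the self fibre product of `p : U ⟶ V` (affine schemes) is flat, then
`B ⊗_A B` is flat over `B` (left structure). -/
theorem flat_tensor_of_isPullback {U V W : Scheme.{u}} [IsAffine U] [IsAffine V] (p : U ⟶ V)
    (r₁ r₂ : W ⟶ U) (h : IsPullback r₁ r₂ p p) [Flat r₁] :
    letI := p.appTop.hom.toAlgebra
    Module.Flat Γ(U, ⊤) (Γ(U, ⊤) ⊗[Γ(V, ⊤)] Γ(U, ⊤)) := by
  letI := p.appTop.hom.toAlgebra
  haveI : IsAffine W := IsAffine.of_isPullback h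
  have hpo : IsPushout p.appTop p.appTop r₁.appTop r₂.appTop := isPushout_appTop_of_isPullback h
  have hpo' := CommRingCat.isPushout_tensorProduct Γ(V, ⊤) Γ(U, ⊤) Γ(U, ⊤)
  have e1 : CommRingCat.ofHom (algebraMap Γ(V, ⊤) Γ(U, ⊤)) = p.appTop := rfl
  rw [e1] at hpo'
  let e := hpo.isoIsPushout _ _ hpo'
  have he : r₁.appTop ≫ e.hom =
      CommRingCat.ofHom (Algebra.TensorProduct.includeLeftRingHom (R := Γ(V, ⊤))
        (A := Γ(U, ⊤)) (B := Γ(U, ⊤))) :=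
    hpo.inl_isoIsPushout_hom _ _ hpo'
  have hfl : r₁.appTop.hom.Flat := Scheme.Hom.flat_appTop r₁
  have hfl2 : (r₁.appTop ≫ e.hom).hom.Flat := by
    rw [CommRingCat.hom_comp]
    exact RingHom.Flat.comp hfl (RingHom.Flat.of_bijective (ConcreteCategory.bijective_of_isIso e.hom))
  rw [he] at hfl2
  have : (algebraMap Γ(U, ⊤) (Γ(U, ⊤) ⊗[Γ(V, ⊤)] Γ(U, ⊤))).Flat := hfl2
  exact (RingHom.flat_algebraMap_iff).1 this

end Groth.Agent.Lib.helper5.MonoIso
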