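import Groth.Agent.Lib.Helper5.MonoIsoB
import Groth.Agent.Lib.Helper5.FpqcSpD
import Groth.Agent.Lib.Helper5.AlgSpFibreProduct
import Groth.Agent.Lib.Helper7.AlgSpQC
import Groth.Agent.Lib.Helper7.AlgSpFibre
import Groth.Agent.Lib.Helper11.AlgSpBasic

/-!
# Helper lemmas for S10606, part C: purity of the chart ring map
-/

set_option autoImplicit false
universe u
open CategoryTheory CategoryTheory.Limits AlgebraicGeometry TopologicalSpace TensorProduct

namespace Groth.Agent.Lib.helper5.MonoIso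

open AlgSp

variable {S : Scheme.{u}}

/-- The sections-injectivity hypothesis of S10606. -/
def SecInj {X Y : Sp S} (f : X ⟶ Y) : Prop :=
  ∀ (T : Over S) (g : (yon S).obj T ⟶ Y) (P : Sp S) (fst : P ⟶ X)
    (snd : P ⟶ (yon S).obj T), IsPullback fst snd f g →
    ∀ s : Γ(T.left, ⊤),
      (∀ (W : Over S) (a : (yon S).obj W ⟶ P) (c : W ⟶ T),
        a ≫ snd = (yon S).map c → c.left.appTop s = 0) → s = 0

section

variable {X Y : Sp S} {f : X ⟶ Y} (hinj : SecInj f) {U V : Over S} [IsAffine U.left]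
  [IsAffine V.left] {g : (yon S).obj V ⟶ Y} {P : Sp S} {fst : P ⟶ X} {snd : P ⟶ (yon S).obj V}
  (sq : IsPullback fst snd f g) {q : (yon S).obj U ⟶ P} (hqe : RepWith @Etale q)
  (hqs : RepWith @Surjective q) {p : U ⟶ V} (hp : (yon S).map p = q ≫ snd)

include hinj sq hqe hqs hp

omit [IsAffine U.left] in
theorem pure_of_secInj :
    letI := p.left.appTop.hom.toAlgebra
    ∀ (N : Type u) [AddCommGroup N] [Module Γ(V.left, ⊤) N] (n : N),
      n ⊗ₜ[Γ(V.left, ⊤)] (1 : Γ(U.left, ⊤)) = 0 → n = 0 := by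
  letI := p.left.appTop.hom.toAlgebra
  intro N _ _ n hn
  letI : Module (Γ(V.left, ⊤))ᵐᵒᵖ N :=
    Module.compHom N ((RingHom.id Γ(V.left, ⊤)).fromOpposite (fun a b => mul_comm a b))
  haveI : IsCentralScalar Γ(V.left, ⊤) N := ⟨fun a n => rfl⟩
  let A' : CommRingCat.{u} := CommRingCat.of (TrivSqZeroExt Γ(V.left, ⊤) N)
  let ι : Γ(V.left, ⊤) ⟶ A' := CommRingCat.ofHom (TrivSqZeroExt.inlHom Γ(V.left, ⊤) N)
  let t : Spec A' ⟶ V.left := Spec.map ι ≫ V.left.isoSpec.inv
  let T' : Over S := Over.mk (t ≫ V.hom)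
  let c₀ : T' ⟶ V := Over.homMk t rfl
  let g' : (yon S).obj T' ⟶ Y := (yon S).map c₀ ≫ g
  have sq' : IsPullback (pullback.fst f g') (pullback.snd f g') f g' := IsPullback.of_hasPullback f g'
  let s : Γ(T'.left, ⊤) := (Scheme.ΓSpecIso A').inv (TrivSqZeroExt.inr n)
  have hs : s = 0 := by
    refine hinj T' g' _ _ _ sq' s (fun W a c hac => ?_)
    obtain ⟨w, hw1, hw2⟩ := sq.exists_lift (a ≫ pullback.fst f g') ((yon S).map (c ≫ c₀)) (by
      rw [Category.assoc, sq'.w, ← Category.assoc, hac, Functor.map_comp, Category.assoc])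
    obtain ⟨W', e, d', sqW⟩ := hqe.rep w
    obtain ⟨d, rfl⟩ := (yon S).map_surjective d'
    have he : Etale e.left := hqe.2 w _ e sqW
    have hes : Surjective e.left := hqs.2 w _ e sqW
    have hcomm : d ≫ p = e ≫ c ≫ c₀ := by
      apply (yon S).map_injective
      rw [Functor.map_comp, hp, ← Category.assoc, sqW.w, Category.assoc, hw2, ← Functor.map_comp]
    have hcommL : d.left ≫ p.left = e.left ≫ c.left ≫ t := congrArg (fun m => m.left) hcomm
    apply injective_appTop_of_flat_surjective e.left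
    rw [map_zero]
    let α : TrivSqZeroExt Γ(V.left, ⊤) N →+* Γ(W'.left, ⊤) :=
      ((Scheme.ΓSpecIso A').inv ≫ c.left.appTop ≫ e.left.appTop).hom
    let β : Γ(U.left, ⊤) →+* Γ(W'.left, ⊤) := d.left.appTop.hom
    have hαβ : ∀ a, α (TrivSqZeroExt.inl a) = β (algebraMap Γ(V.left, ⊤) Γ(U.left, ⊤) a) := by
      intro a
      have h1 : (d.left ≫ p.left).appTop = (e.left ≫ c.left ≫ t).appTop := by rw [hcommL]
      rw [Scheme.Hom.comp_appTop, Scheme.Hom.comp_appTop, Scheme.Hom.comp_appTop,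
        appTop_SpecMap_isoSpec_inv] at h1
      have h2 := congrArg (fun m => m.hom a) h1
      exact h2.symm
    exact tsze_kill N α β hαβ n hn
  have h3 : (Scheme.ΓSpecIso A').hom s = 0 := by rw [hs, map_zero]
  have h4 : (Scheme.ΓSpecIso A').hom s = TrivSqZeroExt.inr n := by
    change ((Scheme.ΓSpecIso A').inv ≫ (Scheme.ΓSpecIso A').hom) (TrivSqZeroExt.inr n) = _
    rw [Iso.inv_hom_id]
    rfl
  rw [h4] at h3
  exact TrivSqZeroExt.inr_injective (h3.trans (TrivSqZeroExt.inr_zero (R := Γ(V.left, ⊤)) (M := N)).symm)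

end

theorem isPullback_comp_mono {C : Type*} [Category C] {W U P V : C} {a b : W ⟶ U} {q : U ⟶ P}
    (h : IsPullback a b q q) (m : P ⟶ V) [Mono m] : IsPullback a b (q ≫ m) (q ≫ m) := by
  refine Groth.Agent.Lib.helper5.isPullback_of_exists_lift
    (by rw [← Category.assoc, h.w, Category.assoc]) (fun x y hxy => ?_) (fun l l' h1 h2 => h.hom_ext h1 h2)
  exact h.exists_lift x y (by rw [← cancel_mono m, Category.assoc, Category.assoc, hxy])

open Groth.Agent.Lib.helper5.FpqcSp Groth.Agent.Lib.helper7.AlgSpQC Groth.Agent.Lib.helper7.AlgSpFibre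
  Groth.Agent.Lib.helper11 in
/-- Local sections of a quasi-compact monomorphism with the sections-injectivity property. -/
theorem exists_section_of_affine {X Y : Sp S} (hX : IsAlgSpace X) (hY : IsAlgSpace Y) (f : X ⟶ Y)
    [Mono f] (hqc : IsQuasiCompactMor f) (hinj : SecInj f) (V : Over S) [IsAffine V.left]
    (g : (yon S).obj V ⟶ Y) : ∃ ξ : (yon S).obj V ⟶ X, ξ ≫ f = g := by
  have sq : IsPullback (pullback.fst f g) (pullback.snd f g) f g := IsPullback.of_hasPullback f g
  have hVa : IsAlgSpace ((yon S).obj V) := IsAlgSpace.yon_obj V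
  have hP : IsAlgSpace (pullback f g) := isAlgSpace_of_isPullback hY.diag hX hVa sq
  have hPqc : IsQuasiCompactSp (pullback f g) := hqc hVa (isQuasiCompactSp_yon V) g _ _ sq
  haveI := compactSpace_of_isQuasiCompactSp hPqc
  obtain ⟨U₀, q₀, hq₀e, hq₀s, -⟩ := hPqc
  obtain ⟨U, q, hU, hqe, hqs⟩ := exists_affine_chart_of_compactSpace q₀ hq₀e hq₀s
  obtain ⟨p, hp⟩ := (yon S).map_surjective (q ≫ pullback.snd f g)
  haveI : Mono (pullback.snd f g) := inferInstance
  -- the self fibre product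
  obtain ⟨W, r₂, r₁', sqW⟩ := hqe.rep q
  obtain ⟨r₁, rfl⟩ := (yon S).map_surjective r₁'
  have hr₁ : Etale r₁.left := hqe.2 q _ r₁ sqW.flip
  have sqW2 : IsPullback ((yon S).map r₁) ((yon S).map r₂) ((yon S).map p) ((yon S).map p) := by
    rw [hp]
    exact isPullback_comp_mono sqW (pullback.snd f g)
  have sqW3 : IsPullback r₁ r₂ p p := IsPullback.of_map (yon S)
    ((yon S).map_injective (by rw [Functor.map_comp, Functor.map_comp, sqW2.w])) sqW2
  have sqW4 : IsPullback r₁.left r₂.left p.left p.left := sqW3.map (Over.forget S)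
  -- algebra
  letI := p.left.appTop.hom.toAlgebra
  have hpure := pure_of_secInj hinj sq hqe hqs hp
  haveI : Flat r₁.left := inferInstance
  haveI : Module.Flat Γ(U.left, ⊤) (Γ(U.left, ⊤) ⊗[Γ(V.left, ⊤)] Γ(U.left, ⊤)) :=
    flat_tensor_of_isPullback p.left r₁.left r₂.left sqW4
  haveI : Module.Flat Γ(V.left, ⊤) Γ(U.left, ⊤) := PureFlat.flat_of_pure' hpure _
  have hff : Module.FaithfullyFlat Γ(V.left, ⊤) Γ(U.left, ⊤) := PureFlat.faithfullyFlat_of_pure hpure
  have hff' : p.left.appTop.hom.FaithfullyFlat := hff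
  obtain ⟨hfl, hsurj⟩ := (Flat.flat_and_surjective_iff_faithfullyFlat_of_isAffine (f := p.left)).2 hff'
  have hfp : IsFpqcHom p := ⟨hfl, hsurj, inferInstance⟩
  have hc : Compat p (q ≫ pullback.fst f g) := by
    intro Z z1 z2 hz
    have : (yon S).map z1 ≫ q = (yon S).map z2 ≫ q := by
      rw [← cancel_mono (pullback.snd f g), Category.assoc, Category.assoc, ← hp,
        ← Functor.map_comp, ← Functor.map_comp, hz]
    rw [← Category.assoc, this, Category.assoc]
  obtain ⟨ξ, hξ⟩ := glue hX hfp hc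
  refine ⟨ξ, sep hY hfp _ _ ?_⟩
  rw [← Category.assoc, hξ, Category.assoc, sq.w, ← Category.assoc, ← hp]

end Groth.Agent.Lib.helper5.MonoIso
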