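import Mathlib
import Groth.Agent.S0400
import Groth.Agent.S4358

/-!
# Fibrewise flatness along a nilpotent thickening of the base: ring level (helper5)

`R → S → T` rings, `R → R₀` surjective with nilpotent kernel, `S₀ = R₀ ⊗[R] S`, `T₀ = S₀ ⊗[S] T`
(given as `Algebra.IsPushout`s).

* `surjective_and_ker_of_isPushout`: `S → S₀` is surjective with kernel `I S`.
* `flat_of_isPushout_nilpotent`: if `T` is flat over `R` and `T₀` is flat over `S₀`, then `T` is flat
  over `S`.
* `flat_atPrime_comap_of_flat`: if `T` is flat over `R` and over `S`, then `S_q` is flat over `R`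
  for every prime `q` of `S` in the image of `Spec T`.
-/

set_option autoImplicit false
universe u

namespace Groth.Agent.Lib.helper5.NilFlatRing

open TensorProduct

section Ker

variable {R R₀ S S₀ : Type u} [CommRing R] [CommRing R₀] [CommRing S] [CommRing S₀]
  [Algebra R R₀] [Algebra R S] [Algebra R₀ S₀] [Algebra S S₀] [Algebra R S₀]
  [IsScalarTower R R₀ S₀] [IsScalarTower R S S₀]

/-- In a pushout square `S₀ = S ⊗[R] R₀` with `R → R₀` surjective, `S ⧸ I S ≃ S₀`. -/
noncomputable def quotEquivOfIsPushout [Algebra.IsPushout R S R₀ S₀]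
    (hsurj : Function.Surjective (algebraMap R R₀)) :
    (S ⧸ (RingHom.ker (algebraMap R R₀)).map (algebraMap R S)) ≃ₐ[S] S₀ :=
  let I := RingHom.ker (algebraMap R R₀)
  let e₁ : (S ⧸ I.map (algebraMap R S)) ≃ₐ[S] S ⊗[R] (R ⧸ I) :=
    Algebra.TensorProduct.quotIdealMapEquivTensorQuot S I
  let e₂ : (R ⧸ I) ≃ₐ[R] R₀ := Ideal.quotientKerAlgEquivOfSurjective (f := Algebra.ofId R R₀) hsurj
  let e₃ : S ⊗[R] (R ⧸ I) ≃ₐ[S] S ⊗[R] R₀ := Algebra.TensorProduct.congr AlgEquiv.refl e₂
  let e₄ : S ⊗[R] R₀ ≃ₐ[S] S₀ := Algebra.IsPushout.equiv R S R₀ S₀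
  (e₁.trans e₃).trans e₄

theorem surjective_of_isPushout [Algebra.IsPushout R S R₀ S₀]
    (hsurj : Function.Surjective (algebraMap R R₀)) :
    Function.Surjective (algebraMap S S₀) := by
  intro y
  obtain ⟨x, rfl⟩ := (quotEquivOfIsPushout (R := R) (R₀ := R₀) (S := S) (S₀ := S₀) hsurj).surjective y
  obtain ⟨s, rfl⟩ := Ideal.Quotient.mk_surjective x
  exact ⟨s, ((quotEquivOfIsPushout (R := R) (R₀ := R₀) (S := S) (S₀ := S₀) hsurj).commutes s).symm⟩

theorem ker_of_isPushout [Algebra.IsPushout R S R₀ S₀]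
    (hsurj : Function.Surjective (algebraMap R R₀)) :
    RingHom.ker (algebraMap S S₀) = (RingHom.ker (algebraMap R R₀)).map (algebraMap R S) := by
  let e := quotEquivOfIsPushout (R := R) (R₀ := R₀) (S := S) (S₀ := S₀) hsurj
  ext s
  rw [RingHom.mem_ker, ← Ideal.Quotient.eq_zero_iff_mem]
  have h : algebraMap S S₀ s = e (Ideal.Quotient.mk _ s) := (e.commutes s).symm
  rw [h]
  exact e.map_eq_zero_iff

end Ker

section Main

variable {R R₀ S S₀ T T₀ : Type u} [CommRing R] [CommRing R₀] [CommRing S] [CommRing S₀]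
  [CommRing T] [CommRing T₀]
  [Algebra R R₀] [Algebra R S] [Algebra R₀ S₀] [Algebra S S₀] [Algebra R S₀]
  [IsScalarTower R R₀ S₀] [IsScalarTower R S S₀]
  [Algebra S T] [Algebra R T] [IsScalarTower R S T]
  [Algebra S₀ T₀] [Algebra T T₀] [Algebra S T₀] [IsScalarTower S S₀ T₀] [IsScalarTower S T T₀]

/-- Fibrewise criterion along a nilpotent thickening, pushout form. -/
theorem flat_of_isPushout_nilpotent [Algebra.IsPushout R S R₀ S₀] [Algebra.IsPushout S S₀ T T₀]
    (hsurj : Function.Surjective (algebraMap R R₀))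
    (hnil : IsNilpotent (RingHom.ker (algebraMap R R₀)))
    [Module.Flat R T] [Module.Flat S₀ T₀] : Module.Flat S T := by
  let I := RingHom.ker (algebraMap R R₀)
  let J := I.map (algebraMap R S)
  let e := quotEquivOfIsPushout (R := R) (R₀ := R₀) (S := S) (S₀ := S₀) hsurj
  refine Groth.Agent.S0400.result (R := R) (S := S) (M := T) I hnil ?_
  -- `T₀ ≃ S₀ ⊗[S] T ≃ (S ⧸ J) ⊗[S] T`
  let f₁ : T₀ ≃ₗ[S] S₀ ⊗[S] T :=
    ((Algebra.IsPushout.equiv S S₀ T T₀).toLinearEquiv.restrictScalars S).symm
  let f₂ : S₀ ⊗[S] T ≃ₗ[S] (S ⧸ J) ⊗[S] T :=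
    TensorProduct.congr e.symm.toLinearEquiv (LinearEquiv.refl S T)
  have h₁ : Function.Surjective (algebraMap S S₀) := surjective_of_isPushout hsurj
  have h₂ : Function.Surjective (algebraMap S (S ⧸ J)) := Ideal.Quotient.mk_surjective
  have hker : RingHom.ker (algebraMap S S₀) ≤ RingHom.ker (algebraMap S (S ⧸ J)) := by
    rw [ker_of_isPushout hsurj]
    intro x hx
    rw [RingHom.mem_ker]
    exact Ideal.Quotient.eq_zero_iff_mem.mpr hx
  exact Groth.Agent.Lib.helper8.LocalFlat.flat_of_linearEquiv_of_surjective h₁ h₂ hker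
    (f₁.trans f₂)

end Main

/-- If `T` is flat over `R` and over `S` (with `R → S → T`), then `S` is flat over `R` at every
prime in the image of `Spec T`. -/
theorem flat_atPrime_comap_of_flat {R S T : Type u} [CommRing R] [CommRing S] [CommRing T]
    [Algebra R S] [Algebra S T] [Algebra R T] [IsScalarTower R S T]
    [Module.Flat R T] [Module.Flat S T] (p : Ideal T) [p.IsPrime] :
    Module.Flat R (Localization.AtPrime (p.comap (algebraMap S T))) := by
  let q : Ideal S := p.comap (algebraMap S T)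
  have : p.LiesOver q := ⟨rfl⟩
  let _ : Algebra (Localization.AtPrime q) (Localization.AtPrime p) :=
    Localization.AtPrime.algebraOfLiesOver q p
  have hS : Module.Flat S (Localization.AtPrime p) := Module.Flat.trans S T (Localization.AtPrime p)
  have hR : Module.Flat R (Localization.AtPrime p) := Module.Flat.trans R T (Localization.AtPrime p)
  have : Module.Flat (Localization.AtPrime q) (Localization.AtPrime p) :=
    (Module.flat_iff_of_isLocalization (Localization.AtPrime q) q.primeCompl _).mpr hS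
  have : Module.FaithfullyFlat (Localization.AtPrime q) (Localization.AtPrime p) :=
    Module.FaithfullyFlat.of_flat_of_isLocalHom
  exact Groth.Agent.S4358.flat_of_faithfullyFlat_of_flat (A := R) (C := Localization.AtPrime q)
    (M := Localization.AtPrime p)

end Groth.Agent.Lib.helper5.NilFlatRing
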