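import Groth.Agent.Lib.Helper5.NilFlatRing
import Groth.Agent.Lib.Helper18.PullbackFlat

/-!
# Fibrewise flatness along a nilpotent thickening of the base: affine schemes (helper5)

`h : U ⟶ V`, `k : V ⟶ W` morphisms of affine schemes, `lam : W₀ ⟶ W` a closed immersion whose kernel on
global sections is nilpotent, `V₀ = V ×_W W₀`, `U₀ = U ×_V V₀`.  If `U` is flat over `W` and `U₀` is flat
over `V₀`, then `h` is flat and `k` is flat at every point of the image of `h`.
-/

set_option autoImplicit false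
universe u

namespace Groth.Agent.Lib.helper5.NilFlatScheme

open AlgebraicGeometry CategoryTheory Limits

theorem flat_of_nilpotent_affine {U V W U₀ V₀ W₀ : Scheme.{u}} [IsAffine U] [IsAffine V] [IsAffine W]
    (h : U ⟶ V) (k : V ⟶ W) (lam : W₀ ⟶ W) (κ : V₀ ⟶ V) (ι : U₀ ⟶ U) (h₀ : U₀ ⟶ V₀) (k₀ : V₀ ⟶ W₀)
    [IsClosedImmersion lam] (hnil : IsNilpotent (RingHom.ker lam.appTop.hom))
    (sqV : IsPullback κ k₀ k lam) (sqU : IsPullback ι h₀ h κ)
    (hfl : Flat (h ≫ k)) (hfl₀ : Flat h₀) :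
    Flat h ∧ ∀ u : U, (k.stalkMap (h u)).hom.Flat := by
  have hκ : IsClosedImmersion κ := MorphismProperty.of_isPullback sqV.flip inferInstance
  have hι : IsClosedImmersion ι := MorphismProperty.of_isPullback sqU.flip hκ
  have : IsAffine W₀ := isAffine_of_isAffineHom lam
  have : IsAffine V₀ := isAffine_of_isAffineHom κ
  have : IsAffine U₀ := isAffine_of_isAffineHom ι
  -- the rings
  let R := Γ(W, ⊤)
  let S := Γ(V, ⊤)
  let T := Γ(U, ⊤)
  let R₀ := Γ(W₀, ⊤)
  let S₀ := Γ(V₀, ⊤)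
  let T₀ := Γ(U₀, ⊤)
  let _ : Algebra R S := (k.appLE ⊤ ⊤ le_top).hom.toAlgebra
  let _ : Algebra S T := (h.appLE ⊤ ⊤ le_top).hom.toAlgebra
  let _ : Algebra R T := ((h ≫ k).appLE ⊤ ⊤ le_top).hom.toAlgebra
  let _ : Algebra R R₀ := lam.appTop.hom.toAlgebra
  let _ : Algebra R₀ S₀ := k₀.appTop.hom.toAlgebra
  let _ : Algebra S S₀ := κ.appTop.hom.toAlgebra
  let _ : Algebra R S₀ := (k.appTop ≫ κ.appTop).hom.toAlgebra
  let _ : Algebra S₀ T₀ := h₀.appTop.hom.toAlgebra
  let _ : Algebra T T₀ := ι.appTop.hom.toAlgebra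
  let _ : Algebra S T₀ := (h.appTop ≫ ι.appTop).hom.toAlgebra
  have ek : k.appLE ⊤ ⊤ le_top = k.appTop := Scheme.Hom.appLE_eq_app k
  have eh : h.appLE ⊤ ⊤ le_top = h.appTop := Scheme.Hom.appLE_eq_app h
  have ehk : (h ≫ k).appLE ⊤ ⊤ le_top = k.appTop ≫ h.appTop :=
    (Scheme.Hom.appLE_eq_app (h ≫ k)).trans (Scheme.Hom.comp_appTop h k)
  have t1 : IsScalarTower R S T := IsScalarTower.of_algebraMap_eq' (by
    change ((h ≫ k).appLE ⊤ ⊤ le_top).hom = (h.appLE ⊤ ⊤ le_top).hom.comp (k.appLE ⊤ ⊤ le_top).hom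
    rw [ehk, ek, eh]; rfl)
  have t2 : IsScalarTower R S S₀ := IsScalarTower.of_algebraMap_eq' (by
    change (k.appTop ≫ κ.appTop).hom = κ.appTop.hom.comp (k.appLE ⊤ ⊤ le_top).hom
    rw [ek]; rfl)
  have t3 : IsScalarTower R R₀ S₀ := IsScalarTower.of_algebraMap_eq' (by
    change (k.appTop ≫ κ.appTop).hom = k₀.appTop.hom.comp lam.appTop.hom
    have := (isPushout_appTop_of_isPullback sqV).w
    rw [this]; rfl)
  have t4 : IsScalarTower S T T₀ := IsScalarTower.of_algebraMap_eq' (by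
    change (h.appTop ≫ ι.appTop).hom = ι.appTop.hom.comp (h.appLE ⊤ ⊤ le_top).hom
    rw [eh]; rfl)
  have t5 : IsScalarTower S S₀ T₀ := IsScalarTower.of_algebraMap_eq' (by
    change (h.appTop ≫ ι.appTop).hom = h₀.appTop.hom.comp κ.appTop.hom
    have := (isPushout_appTop_of_isPullback sqU).w
    rw [this]; rfl)
  have p1 : Algebra.IsPushout R S R₀ S₀ := by
    refine CommRingCat.isPushout_iff_isPushout.mp ?_
    have := isPushout_appTop_of_isPullback sqV
    rw [← ek] at this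
    exact this
  have p2 : Algebra.IsPushout S S₀ T T₀ := by
    refine Algebra.IsPushout.symm (CommRingCat.isPushout_iff_isPushout.mp ?_)
    have := isPushout_appTop_of_isPullback sqU
    rw [← eh] at this
    exact this
  have hsurj : Function.Surjective (algebraMap R R₀) :=
    IsClosedImmersion.isAffine_surjective_of_isAffine lam |>.2
  have f1 : Module.Flat R T := by
    have := (HasRingHomProperty.iff_of_isAffine (P := @Flat) (f := h ≫ k)).mp hfl
    have e : (h ≫ k).appTop = (h ≫ k).appLE ⊤ ⊤ le_top := (Scheme.Hom.appLE_eq_app (h ≫ k)).symm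
    rw [e] at this
    exact this
  have f2 : Module.Flat S₀ T₀ :=
    (HasRingHomProperty.iff_of_isAffine (P := @Flat) (f := h₀)).mp hfl₀
  have f3 : Module.Flat S T :=
    NilFlatRing.flat_of_isPushout_nilpotent (R := R) (R₀ := R₀) (S := S) (S₀ := S₀) (T := T)
      (T₀ := T₀) hsurj hnil
  refine ⟨?_, fun u => ?_⟩
  · rw [HasRingHomProperty.iff_of_isAffine (P := @Flat)]
    have : RingHom.Flat (h.appLE ⊤ ⊤ le_top).hom := f3
    rwa [eh] at this
  · rw [Groth.Agent.Lib.Helper18.PullbackStalk.flat_stalkMap_iff' (f := k) ⊤ (isAffineOpen_top W) ⊤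
      (isAffineOpen_top V) le_top (Set.mem_univ _)]
    have e1 := IsAffineOpen.comap_primeIdealOf_appLE (f := h) ⊤ (isAffineOpen_top V) ⊤
      (isAffineOpen_top U) le_top (Set.mem_univ u)
    have := NilFlatRing.flat_atPrime_comap_of_flat (R := R) (S := S) (T := T)
      ((isAffineOpen_top U).primeIdealOf ⟨u, Set.mem_univ u⟩).asIdeal
    exact (Groth.Agent.Lib.Helper18.PullbackStalk.flat_congr (R := R) congr($(e1).asIdeal)).mp this

end Groth.Agent.Lib.helper5.NilFlatScheme
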