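import Groth.Agent.Lib.Helper5.OrbitLC

/-!
# Closed orbits over an algebraically closed field (helper5)

* `exists_orbit_subset` : a nonempty closed stable subset contains the orbit of a rational point.
* `isClosed_range_orbitMap_of_minimal` : an orbit of minimal dimension is closed.
* `exists_isClosed_range_orbitMap` : closed orbits exist.
-/

set_option autoImplicit false
universe u
open CategoryTheory MonoidalCategory CartesianMonoidalCategory MonObj GrpObj AlgebraicGeometry

namespace Groth.Agent.Lib.helper5.OrbitClosed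

open Groth.Agent.Lib.helper22 Groth.Agent.Lib.helper5.OrbitDim Groth.Agent.Lib.helper5.OrbitLC

variable {k : Type u} [Field k] [IsAlgClosed k] {G X : Over (Spec (CommRingCat.of k))} [GrpObj G]
  [LocallyOfFiniteType G.hom] [QuasiCompact G.hom] [LocallyOfFiniteType X.hom] [QuasiCompact X.hom]
  (a : AlgGrp.Action G X)

omit [LocallyOfFiniteType G.hom] [QuasiCompact G.hom] [QuasiCompact X.hom] in
/-- A nonempty closed stable subset contains the orbit of a rational point. -/
theorem exists_orbit_subset {W : Set X.left} (hW : IsClosed W) (hne : W.Nonempty)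
    (hst : Stable a W) :
    ∃ y : 𝟙_ (Over (Spec (CommRingCat.of k))) ⟶ X, Set.range (a.orbitMap y).left ⊆ W := by
  haveI : JacobsonSpace ↥X.left := LocallyOfFiniteType.jacobsonSpace X.hom
  have h1 : (W ∩ closedPoints ↥X.left).Nonempty := by
    by_contra h
    rw [Set.not_nonempty_iff_eq_empty] at h
    have h2 := JacobsonSpace.closure_inter_closedPoints hW
    rw [h, closure_empty] at h2
    obtain ⟨w, hw⟩ := hne
    rw [← h2] at hw
    exact hw
  obtain ⟨y₀, hy₀W, hy₀⟩ := h1
  let y : 𝟙_ (Over (Spec (CommRingCat.of k))) ⟶ X :=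
    Over.homMk (pointOfClosedPoint X.hom y₀ hy₀) (by simp)
  refine ⟨y, range_subset_of_stable a y hst ?_⟩
  obtain ⟨pt⟩ : Nonempty ↥(Spec (CommRingCat.of k)) := inferInstance
  refine ⟨y₀, hy₀W, η[G].left pt, ?_⟩
  change (η[G].left ≫ (a.orbitMap y).left) pt = y₀
  rw [← Over.comp_left, unit_comp_orbitMap]
  exact pointOfClosedPoint_apply X.hom y₀ hy₀ pt

/-- An orbit of minimal dimension is closed. -/
theorem isClosed_range_orbitMap_of_minimal (x : 𝟙_ (Over (Spec (CommRingCat.of k))) ⟶ X)
    (hmin : ∀ y : 𝟙_ (Over (Spec (CommRingCat.of k))) ⟶ X,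
      topologicalKrullDim ↥(Set.range (a.orbitMap x).left) ≤
        topologicalKrullDim ↥(Set.range (a.orbitMap y).left)) :
    IsClosed (Set.range (a.orbitMap x).left) := by
  classical
  haveI : CompactSpace ↥G.left := (quasiCompact_iff_compactSpace (f := G.hom)).1 inferInstance
  haveI : CompactSpace ↥X.left := (quasiCompact_iff_compactSpace (f := X.hom)).1 inferInstance
  haveI : LocallyOfFiniteType ((a.orbitMap x).left ≫ X.hom) := by
    rw [Over.w]; infer_instance
  haveI : LocallyOfFiniteType (a.orbitMap x).left :=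
    locallyOfFiniteType_of_comp (a.orbitMap x).left X.hom
  obtain ⟨pt⟩ : Nonempty ↥(Spec (CommRingCat.of k)) := inferInstance
  haveI : Nonempty ↥G.left := ⟨η[G].left pt⟩
  have hE := stable_range_orbitMap a x
  have heq := range_orbitMap_eq a x
  -- the boundary
  have hWeq : closure (Set.range (a.orbitMap x).left) \ Set.range (a.orbitMap x).left =
      closure (Set.range (a.orbitMap x).left) ∩
        closure (closure (Set.range (a.orbitMap x).left) \ Set.range (a.orbitMap x).left) := by
    ext z
    constructor
    · rintro ⟨hz1, hz2⟩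
      exact ⟨hz1, subset_closure ⟨hz1, hz2⟩⟩
    · rintro ⟨hz1, hz2⟩
      refine ⟨hz1, fun hzE => ?_⟩
      rw [heq] at hzE
      exact hzE.2 hz2
  have hWcl : IsClosed (closure (Set.range (a.orbitMap x).left) \ Set.range (a.orbitMap x).left) := by
    rw [hWeq]
    exact isClosed_closure.inter isClosed_closure
  have hWst : Stable a (closure (Set.range (a.orbitMap x).left) \ Set.range (a.orbitMap x).left) :=
    (hE.closure a).diff a hE
  by_cases hne : (closure (Set.range (a.orbitMap x).left) \ Set.range (a.orbitMap x).left).Nonempty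
  · exfalso
    obtain ⟨y, hy⟩ := exists_orbit_subset a hWcl hne hWst
    obtain ⟨s, hs1, -, hs3⟩ := Groth.Agent.Lib.helper5.RangeDim.exists_nat_dim_range k G.left
      X.left X.hom (a.orbitMap x).left
    have h1 := (hmin y).trans (Groth.Agent.Lib.helper3.TopDim.dim_mono hy)
    rw [hs1] at h1
    generalize topologicalKrullDim ↥(closure (Set.range (a.orbitMap x).left) \
      Set.range (a.orbitMap x).left) = A at h1 hs3
    induction A using WithBot.recBotCoe with
    | bot => exact absurd h1 (by simp)
    | coe A =>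
      induction A using ENat.recTopCoe with
      | top =>
        have : ((⊤ : ℕ∞) : WithBot ℕ∞) + 1 = ((⊤ : ℕ∞) : WithBot ℕ∞) := rfl
        rw [this] at hs3
        have h' : (⊤ : ℕ∞) ≤ ((s : ℕ) : ℕ∞) := by exact_mod_cast hs3
        exact absurd h' (by simp)
      | coe A =>
        have h' : A + 1 ≤ s := by exact_mod_cast hs3
        have h'' : s ≤ A := by exact_mod_cast h1
        omega
  · rw [Set.not_nonempty_iff_eq_empty, Set.sdiff_eq_empty] at hne
    have : Set.range (a.orbitMap x).left = closure (Set.range (a.orbitMap x).left) :=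
      Set.Subset.antisymm subset_closure hne
    rw [this]
    exact isClosed_closure

/-- There is a closed orbit. -/
theorem exists_isClosed_range_orbitMap [Nonempty ↥X.left] :
    ∃ x : 𝟙_ (Over (Spec (CommRingCat.of k))) ⟶ X, IsClosed (Set.range (a.orbitMap x).left) := by
  have hst : Stable a (Set.univ : Set X.left) := by
    unfold Stable
    rw [Set.preimage_univ, Set.preimage_univ]
  obtain ⟨y₀, -⟩ := exists_orbit_subset a isClosed_univ Set.univ_nonempty hst
  obtain ⟨m, ⟨x, rfl⟩, hm⟩ := WellFounded.has_min (wellFounded_lt (α := WithBot ℕ∞))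
    (Set.range fun y : 𝟙_ (Over (Spec (CommRingCat.of k))) ⟶ X =>
      topologicalKrullDim ↥(Set.range (a.orbitMap y).left)) ⟨_, ⟨y₀, rfl⟩⟩
  exact ⟨x, isClosed_range_orbitMap_of_minimal a x fun y => not_lt.1 (hm _ ⟨y, rfl⟩)⟩

end Groth.Agent.Lib.helper5.OrbitClosed
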