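import Groth.Agent.Lib.Helper5.OrbitDim
import Groth.Agent.Lib.Helper5.FibreDimGE
import Groth.Agent.Lib.Helper5.GrpHomog

/-!
# Orbit dimension: numerical data and semicontinuity (helper5)

* `isPullback_orbitMap` : the orbit map of `x` is the base change of `(g, y) ↦ (g y, y)`.
* `exists_nat_orbit_data` : `dim cl(G x) = dim G x = s`, `d = dim_e (orbit map fibre)`,
  `dim G = s + d`.
* `exists_isClosed_orbitDim_le` : `{x | dim cl(G x) ≤ r}` is (the set of rational points of) a
  closed subset.
-/

set_option autoImplicit false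
universe u
open CategoryTheory MonoidalCategory CartesianMonoidalCategory MonObj GrpObj AlgebraicGeometry

namespace Groth.Agent.Lib.helper5.OrbitDim

open Groth.Agent.Lib.helper22

variable {k : Type u} [Field k] {G X : Over (Spec (CommRingCat.of k))} [GrpObj G]

/-- the orbit map of `x` is the base change of `(g, y) ↦ (g y, y)` along `y ↦ (y, x)`. -/
theorem isPullback_orbitMap (a : AlgGrp.Action G X)
    (x : 𝟙_ (Over (Spec (CommRingCat.of k))) ⟶ X) :
    IsPullback (lift (𝟙 G) (toUnit G ≫ x)) (a.orbitMap x) (lift a.act (snd G X))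
      (lift (𝟙 X) (toUnit X ≫ x)) := by
  apply isPullback_of_points
  · apply CartesianMonoidalCategory.hom_ext
    · simp [AlgGrp.Action.orbitMap]
    · simp only [Category.assoc, lift_snd]
      rw [← Category.assoc]
      congr 1
      exact toUnit_unique _ _
  · intro T s t hst
    have h1 : s ≫ a.act = t := by
      have := congrArg (· ≫ fst X X) hst
      simpa using this
    have h2 : s ≫ snd G X = toUnit T ≫ x := by
      have := congrArg (· ≫ snd X X) hst
      simp only [Category.assoc, lift_snd] at this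
      rw [this, ← Category.assoc]
      congr 1
      exact toUnit_unique _ _
    have h3 : (s ≫ fst G X) ≫ lift (𝟙 G) (toUnit G ≫ x) = s := by
      apply CartesianMonoidalCategory.hom_ext
      · simp
      · simp only [Category.assoc, lift_snd]
        rw [h2, ← Category.assoc, ← Category.assoc]
        congr 1
        exact toUnit_unique _ _
    refine ⟨s ≫ fst G X, h3, ?_⟩
    rw [AlgGrp.Action.orbitMap, ← Category.assoc, h3, h1]
  · intro T l l' h1 _
    have := congrArg (· ≫ fst G X) h1
    simpa using this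

variable [LocallyOfFiniteType G.hom] [QuasiCompact G.hom] [LocallyOfFiniteType X.hom]
  [QuasiCompact X.hom]

/-- numerical data of an orbit: `dim cl(G x) = dim G x = s`, the local fibre dimension `d` of the
orbit map at the unit, and `dim G = s + d`. -/
theorem exists_nat_orbit_data (a : AlgGrp.Action G X)
    (x : 𝟙_ (Over (Spec (CommRingCat.of k))) ⟶ X) (pt : ↥(Spec (CommRingCat.of k))) :
    ∃ s d : ℕ, topologicalKrullDim ↥(closure (Set.range (a.orbitMap x).left)) = (s : WithBot ℕ∞) ∧
      topologicalKrullDim ↥(Set.range (a.orbitMap x).left) = (s : WithBot ℕ∞) ∧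
      FlatMor.fibreDimAt (a.orbitMap x).left (η[G].left pt) = (d : WithBot ℕ∞) ∧
      topologicalKrullDim ↥G.left = ((s + d : ℕ) : WithBot ℕ∞) := by
  classical
  haveI : CompactSpace ↥G.left := (quasiCompact_iff_compactSpace (f := G.hom)).1 inferInstance
  haveI : CompactSpace ↥X.left := (quasiCompact_iff_compactSpace (f := X.hom)).1 inferInstance
  haveI : LocallyOfFiniteType ((a.orbitMap x).left ≫ X.hom) := by
    rw [Over.w]; infer_instance
  haveI : LocallyOfFiniteType (a.orbitMap x).left :=
    locallyOfFiniteType_of_comp (a.orbitMap x).left X.hom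
  haveI : Nonempty ↥G.left := ⟨η[G].left pt⟩
  obtain ⟨d, hd⟩ := Groth.Agent.Lib.helper3.DimFibre.exists_nat_fibreDimAt
    (a.orbitMap x).left (η[G].left pt)
  have hconst : ∀ g : G.left, FlatMor.fibreDimAt (a.orbitMap x).left g = (d : WithBot ℕ∞) := by
    intro g
    rw [fibreDimAt_orbitMap_eq a x g,
      show G.hom g = pt from Subsingleton.elim (α := PrimeSpectrum k) _ _]
    exact hd
  obtain ⟨s, hs1, hs2, -⟩ := Groth.Agent.Lib.helper5.RangeDim.exists_nat_dim_range k G.left
    X.left X.hom (a.orbitMap x).left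
  have hdimP : topologicalKrullDim ↥(Limits.pullback (a.orbitMap x).left x.left) =
      (d : WithBot ℕ∞) := by
    rw [Groth.Agent.Lib.helper5.FieldBC.dim_eq_iSup_localDim]
    have hpt : (a.orbitMap x).left (η[G].left pt) = x.left pt := by
      change (η[G].left ≫ (a.orbitMap x).left) pt = _
      rw [← Over.comp_left, unit_comp_orbitMap]
    obtain ⟨p, -, -⟩ := Scheme.Pullback.exists_preimage_pullback (η[G].left pt) pt hpt
    haveI : Nonempty ↥(Limits.pullback (a.orbitMap x).left x.left) := ⟨p⟩
    have hloc : ∀ p' : ↥(Limits.pullback (a.orbitMap x).left x.left),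
        FlatMor.localDim ↥(Limits.pullback (a.orbitMap x).left x.left) p' = (d : WithBot ℕ∞) := by
      intro p'
      rw [← Groth.Agent.Lib.helper5.FieldBC.fibreDimAt_toSpec_field k
        (Limits.pullback.snd (a.orbitMap x).left x.left) p',
        Groth.Agent.Lib.helper5.FieldBC.fibreDimAt_eq_of_isPullback
          (IsPullback.of_hasPullback (a.orbitMap x).left x.left) p']
      exact hconst _
    simp_rw [hloc]
    rw [iSup_const]
  refine ⟨s, d, hs2, hs1, hd, ?_⟩
  rw [dim_eq_dim_range_add a x, hdimP]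
  change topologicalKrullDim ↥(Set.range (a.orbitMap x).left) + _ = _
  rw [hs1]
  push_cast
  rfl

/-- the set of points whose orbit closure has dimension `≤ r` is closed (on rational points). -/
theorem exists_isClosed_orbitDim_le (a : AlgGrp.Action G X) (r : ℕ) :
    ∃ Z : Set ↥X.left, IsClosed Z ∧
      ∀ x : 𝟙_ (Over (Spec (CommRingCat.of k))) ⟶ X,
        topologicalKrullDim ↥(closure (Set.range (a.orbitMap x).left)) ≤ (r : WithBot ℕ∞) ↔
          Set.range x.left ⊆ Z := by
  classical
  obtain ⟨pt⟩ : Nonempty ↥(Spec (CommRingCat.of k)) := inferInstance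
  -- `dim G` is a natural number
  obtain ⟨nG, hnG⟩ : ∃ nG : ℕ, topologicalKrullDim ↥G.left = (nG : WithBot ℕ∞) := by
    letI : G.left.Over (Spec (CommRingCat.of k)) := ⟨G.hom⟩
    haveI : LocallyOfFiniteType (G.left ↘ Spec (CommRingCat.of k)) :=
      inferInstanceAs (LocallyOfFiniteType G.hom)
    obtain ⟨a', b', -, -, hab⟩ :=
      Groth.Agent.Lib.helper3.IrredDim.localDim_eq_trdeg_add_stalk k G.left (η[G].left pt)
    exact ⟨a' + b', by rw [← Groth.Agent.Lib.helper5.GrpHomog.localDim_eq_dim k G (η[G].left pt), hab]⟩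
  -- the map `(g, y) ↦ (g y, y)`
  haveI : LocallyOfFiniteType (G ⊗ X).hom := by
    rw [Over.tensorObj_hom]; infer_instance
  haveI : LocallyOfFiniteType (X ⊗ X).hom := by
    rw [Over.tensorObj_hom]; infer_instance
  haveI : LocallyOfFiniteType ((lift a.act (snd G X)).left ≫ (X ⊗ X).hom) := by
    rw [Over.w]; infer_instance
  haveI : LocallyOfFiniteType (lift a.act (snd G X)).left :=
    locallyOfFiniteType_of_comp (lift a.act (snd G X)).left (X ⊗ X).hom
  refine ⟨(lift (toUnit X ≫ η[G]) (𝟙 X)).left ⁻¹'
    {z | ((nG - r : ℕ) : WithBot ℕ∞) ≤ FlatMor.fibreDimAt (lift a.act (snd G X)).left z},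
    (Groth.Agent.Lib.helper5.FibreDimGE.isClosed_setOf_le_fibreDimAt _ _).preimage
      (lift (toUnit X ≫ η[G]) (𝟙 X)).left.continuous, ?_⟩
  intro x
  obtain ⟨s, d, hs, -, hd, hG⟩ := exists_nat_orbit_data a x pt
  have hrange : Set.range x.left = {x.left pt} := by
    ext z
    constructor
    · rintro ⟨p, rfl⟩
      rw [Subsingleton.elim (α := PrimeSpectrum k) p pt]
      rfl
    · rintro rfl
      exact ⟨pt, rfl⟩
  rw [hs, hrange, Set.singleton_subset_iff, Set.mem_preimage, Set.mem_ofPred_eq]
  -- identify the fibre dimension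
  have sq : IsPullback (lift (𝟙 G) (toUnit G ≫ x)).left (a.orbitMap x).left
      (lift a.act (snd G X)).left (lift (𝟙 X) (toUnit X ≫ x)).left :=
    (isPullback_orbitMap a x).map (Over.forget _)
  have h1 := Groth.Agent.Lib.helper5.FieldBC.fibreDimAt_eq_of_isPullback sq (η[G].left pt)
  have h2 : (lift (𝟙 G) (toUnit G ≫ x)).left (η[G].left pt) =
      (lift (toUnit X ≫ η[G]) (𝟙 X)).left (x.left pt) := by
    have hcat : η[G] ≫ lift (𝟙 G) (toUnit G ≫ x) = x ≫ lift (toUnit X ≫ η[G]) (𝟙 X) := by
      apply CartesianMonoidalCategory.hom_ext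
      · simp only [Category.assoc, lift_fst, Category.comp_id]
        rw [← Category.assoc, toUnit_unique (x ≫ toUnit X) (𝟙 _), Category.id_comp]
      · simp only [Category.assoc, lift_snd, Category.comp_id]
        rw [← Category.assoc, toUnit_unique (η[G] ≫ toUnit G) (𝟙 _), Category.id_comp]
    change (η[G].left ≫ (lift (𝟙 G) (toUnit G ≫ x)).left) pt =
      (x.left ≫ (lift (toUnit X ≫ η[G]) (𝟙 X)).left) pt
    rw [← Over.comp_left, ← Over.comp_left, hcat]
  rw [hd] at h1
  change _ ↔ ((nG - r : ℕ) : WithBot ℕ∞) ≤ FlatMor.fibreDimAt (lift a.act (snd G X)).left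
    ((lift (toUnit X ≫ η[G]) (𝟙 X)).left (x.left pt))
  rw [← h2, ← h1]
  have hnG' : nG = s + d := by
    rw [hnG] at hG
    exact_mod_cast hG
  constructor
  · intro h
    have h' : s ≤ r := by exact_mod_cast h
    have : nG - r ≤ d := by omega
    exact_mod_cast this
  · intro h
    have h' : nG - r ≤ d := by exact_mod_cast h
    have : s ≤ r := by omega
    exact_mod_cast this

end Groth.Agent.Lib.helper5.OrbitDim
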