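import Groth.Agent.Lib.Helper5.OverField2
import Groth.Agent.Lib.Helper5.ArtinFibreRank

/-!
# Finite schemes over a field: composition with a morphism with finite fibres of bounded degree (helper5)
-/

set_option autoImplicit false
universe u
open CategoryTheory CategoryTheory.Limits AlgebraicGeometry Opposite Topology TensorProduct

namespace Groth.Agent.Lib.helper5.OverField

open Groth.Agent.Lib.helper5.ArtinFibreRank

theorem finrank_SpecMap_field {κ C : Type u} [Field κ] [CommRing C] [Algebra κ C] [Module.Finite κ C]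
    (s : ↥(Spec (CommRingCat.of κ))) :
    (Spec.map (CommRingCat.ofHom (algebraMap κ C))).finrank s = Module.finrank κ C := by
  rw [Scheme.Hom.finrank_SpecMap_algebraMap, Module.rankAtStalk_eq_finrank_of_free]
  rfl

/-- A finite dimensional vector space of dimension at most `m` is spanned by `m` vectors. -/
theorem exists_fin_span_of_finrank_le {κ C : Type u} [Field κ] [AddCommGroup C] [Module κ C]
    [Module.Finite κ C] (m : ℕ) (h : Module.finrank κ C ≤ m) :
    ∃ s : Fin m → C, Submodule.span κ (Set.range s) = ⊤ := by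
  let b := Module.finBasis κ C
  refine ⟨fun j => if hj : (j : ℕ) < Module.finrank κ C then b ⟨j, hj⟩ else 0, ?_⟩
  rw [eq_top_iff, ← b.span_eq]
  refine Submodule.span_mono ?_
  rintro _ ⟨i, rfl⟩
  refine ⟨⟨i, lt_of_lt_of_le i.2 h⟩, ?_⟩
  simp

/-- ring-level core -/
theorem finite_comp_of_fibres {K : Type u} [Field K] {A B : CommRingCat.{u}} (φ : CommRingCat.of K ⟶ A)
    (ψ : A ⟶ B) (hφ : φ.hom.Finite) (m : ℕ)
    (H : ∀ (κ : Type u) [Field κ] (x : Spec (CommRingCat.of κ) ⟶ Spec A) (F : Scheme.{u})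
      (e : F ⟶ Spec (CommRingCat.of κ)) (g : F ⟶ Spec B),
        IsPullback e g x (Spec.map ψ) → IsFinite e ∧ ∀ s, e.finrank s ≤ m) :
    (φ ≫ ψ).hom.Finite ∧ @Module.finrank K B _ _ (φ ≫ ψ).hom.toAlgebra.toModule ≤
      m * @Module.finrank K A _ _ φ.hom.toAlgebra.toModule := by
  obtain ⟨f, hf⟩ : ∃ f : K →+* A, f = φ.hom := ⟨_, rfl⟩
  obtain ⟨g, hg⟩ : ∃ g : A →+* B, g = ψ.hom := ⟨_, rfl⟩
  have hcomp : (φ ≫ ψ).hom = g.comp f := by rw [hf, hg]; rfl
  rw [hcomp, ← hf]
  rw [← hf] at hφ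
  algebraize [f, g, g.comp f]
  have hA : Module.Finite K A := hφ
  have key := finrank_le_of_fibres (K := K) (A := A) (M := B) m ?_
  · exact key
  intro 𝔪 hmax
  let _ : Field (A ⧸ 𝔪) := Ideal.Quotient.field 𝔪
  have hpo := CommRingCat.isPushout_tensorProduct A (A ⧸ 𝔪) B
  have hpb := isPullback_SpecMap_of_isPushout _ _ _ _ hpo
  have hψ : CommRingCat.ofHom (algebraMap A B) = ψ := by
    rw [RingHom.algebraMap_toAlgebra, hg]; rfl
  rw [hψ] at hpb
  obtain ⟨hfin, hrank⟩ := H (A ⧸ 𝔪) _ _ _ _ hpb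
  have hfin' : Module.Finite (A ⧸ 𝔪) ((A ⧸ 𝔪) ⊗[A] B) := by
    have h0 := (IsFinite.SpecMap_iff _).1 hfin
    rw [← RingHom.finite_algebraMap]
    have h1 : algebraMap (A ⧸ 𝔪) ((A ⧸ 𝔪) ⊗[A] B) = Algebra.TensorProduct.includeLeftRingHom :=
      RingHom.ext fun x => by simp [Algebra.TensorProduct.algebraMap_apply]
    rw [h1]
    exact h0
  have hrank' : Module.finrank (A ⧸ 𝔪) ((A ⧸ 𝔪) ⊗[A] B) ≤ m := by
    have h1 := hrank (IsLocalRing.closedPoint (A ⧸ 𝔪))
    have h2 := finrank_SpecMap_field (κ := A ⧸ 𝔪) (C := (A ⧸ 𝔪) ⊗[A] B) (IsLocalRing.closedPoint (A ⧸ 𝔪))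
    rw [← h2]
    exact h1
  obtain ⟨s', hs'⟩ := exists_fin_span_of_finrank_le (κ := A ⧸ 𝔪) m hrank'
  have hs'A : Submodule.span A (Set.range s') = ⊤ := by
    rw [← Submodule.restrictScalars_span A (A ⧸ 𝔪) Ideal.Quotient.mk_surjective, hs']
    rfl
  let Φ := TensorProduct.quotTensorEquivQuotSMul B 𝔪
  have hlift : ∀ j, ∃ b : B, (𝔪 • ⊤ : Submodule A B).mkQ b = Φ (s' j) :=
    fun j => Submodule.mkQ_surjective _ _
  choose s hs using hlift
  refine ⟨s, ?_⟩
  rw [sup_comm, ← Submodule.map_mkQ_eq_top, Submodule.map_span, ← Set.range_comp]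
  have : (⇑(𝔪 • ⊤ : Submodule A B).mkQ ∘ s) = (⇑Φ ∘ s') := funext hs
  rw [this, Set.range_comp]
  have h2 : Submodule.span A (⇑Φ '' Set.range s') =
      (Submodule.span A (Set.range s')).map Φ.toLinearMap := by
    rw [Submodule.map_span]; rfl
  rw [h2, hs'A, Submodule.map_top, LinearMap.range_eq_top]
  exact Φ.surjective

theorem isLocallyArtinian_spec_field (K : Type u) [Field K] : IsLocallyArtinian (Spec (CommRingCat.of K)) :=
  Scheme.isLocallyArtinianScheme_Spec.2 (inferInstanceAs (IsArtinianRing K))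

theorem finite_discrete_of_isFinite_field {κ : Type u} [Field κ] {F : Scheme.{u}}
    (e : F ⟶ Spec (CommRingCat.of κ)) [IsFinite e] : Finite ↥F ∧ DiscreteTopology ↥F := by
  have hart := isLocallyArtinian_spec_field κ
  have hart' : IsLocallyArtinian F := IsLocallyArtinian.of_locallyQuasiFinite e
  have hdisc : DiscreteTopology ↥F := inferInstance
  have haff : IsAffine F := isAffine_of_isAffineHom e
  exact ⟨finite_of_compact_of_discrete, hdisc⟩

/-- If `T` is finite over a field of rank at most `n` and all the fibres of `d : T' ⟶ T` are finite of rank at most `m`,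
then `T'` is finite over the field of rank at most `m * n`. -/
theorem isFinite_comp_of_fibres {K : Type u} [Field K] {T T' : Scheme.{u}}
    (c : T ⟶ Spec (CommRingCat.of K)) (d : T' ⟶ T) (hc : IsFinite c) (n m : ℕ)
    (hn : ∀ s, c.finrank s ≤ n)
    (H : ∀ (κ : Type u) [Field κ] (x : Spec (CommRingCat.of κ) ⟶ T) (F : Scheme.{u})
      (e : F ⟶ Spec (CommRingCat.of κ)) (g : F ⟶ T'),
        IsPullback e g x d → IsFinite e ∧ ∀ s, e.finrank s ≤ m) :
    IsFinite (d ≫ c) ∧ ∀ s, (d ≫ c).finrank s ≤ m * n := by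
  obtain ⟨hfinT, hdiscT⟩ := finite_discrete_of_isFinite_field c
  have hartK := isLocallyArtinian_spec_field K
  have hartT : IsLocallyArtinian T := IsLocallyArtinian.of_locallyQuasiFinite c
  have haffT : IsAffine T := isAffine_of_isAffineHom c
  have hfib : ∀ t : ↥T, IsFinite (d.fiberToSpecResidueField t) := fun t =>
    (H (T.residueField t) (T.fromSpecResidueField t) (d.fiber t) (d.fiberToSpecResidueField t)
      (d.fiberι t) (IsPullback.of_hasPullback d (T.fromSpecResidueField t)).flip).1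
  have hlqf : LocallyQuasiFinite d :=
    LocallyQuasiFinite.of_fiberToSpecResidueField d fun t => by
      have := hfib t
      infer_instance
  have hartT' : IsLocallyArtinian T' := IsLocallyArtinian.of_locallyQuasiFinite d
  have hdiscT' : DiscreteTopology ↥T' := inferInstance
  have hfinT' : Finite ↥T' := by
    rw [← Set.finite_univ_iff]
    refine Set.Finite.of_finite_fibers d (Set.toFinite _) fun t _ => ?_
    refine Set.Finite.subset ?_ Set.inter_subset_right
    rw [← Scheme.Hom.range_fiberι]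
    have := hfib t
    have := (finite_discrete_of_isFinite_field (κ := T.residueField t) (d.fiberToSpecResidueField t)).1
    exact Set.finite_range _
  have haffT' : IsAffine T' := inferInstance
  obtain ⟨φ, hφ⟩ := exists_ringHom_of_affine c
  have hφfin : φ.hom.Finite := (isFinite_iff_of_eq c φ hφ).1 hc
  have hdc : d ≫ c = T'.isoSpec.hom ≫ Spec.map (φ ≫ d.appTop) := by
    rw [Spec.map_comp, ← Category.assoc, Scheme.isoSpec_hom_naturality, Category.assoc, ← hφ]
  obtain ⟨h1, h2⟩ := finite_comp_of_fibres φ d.appTop hφfin m (by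
    intro κ _ x F e g hpb
    refine H κ (x ≫ T.isoSpec.inv) F e (g ≫ T'.isoSpec.inv) ?_
    refine IsPullback.of_iso hpb (Iso.refl _) (Iso.refl _) T'.isoSpec.symm T.isoSpec.symm ?_ ?_ ?_ ?_
    · simp
    · simp
    · simp
    · exact Scheme.isoSpec_inv_naturality d)
  refine ⟨(isFinite_iff_of_eq (d ≫ c) _ hdc).2 h1, fun s => ?_⟩
  rw [finrank_eq_finrank (d ≫ c) _ hdc h1 s]
  refine h2.trans (Nat.mul_le_mul_left m ?_)
  rw [← finrank_eq_finrank c φ hφ hφfin s]
  exact hn s

end Groth.Agent.Lib.helper5.OverField
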