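import Groth.Agent.Lib.Helper5.OverField3

/-!
# Fibres of standard etale algebras over fields; finite open unions (helper5)
-/

set_option autoImplicit false
universe u
open CategoryTheory CategoryTheory.Limits AlgebraicGeometry Opposite Topology TensorProduct

namespace Groth.Agent.Lib.helper5.OverField

/-- A standard etale algebra over a field is finite dimensional, of dimension at most the degree of the polynomial. -/
theorem stdEtale_field_finrank {K : Type u} [Field K] (P : StandardEtalePair K) :
    Module.Finite K P.Ring ∧ Module.finrank K P.Ring ≤ P.f.natDegree := by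
  have hfin : Module.Finite K (AdjoinRoot P.f) := P.monic_f.finite_adjoinRoot
  have hart : IsArtinianRing (AdjoinRoot P.f) := IsArtinianRing.of_finite K _
  have hsurj : Function.Surjective
      (algebraMap (AdjoinRoot P.f) (Localization.Away (AdjoinRoot.mk P.f P.g))) :=
    IsArtinianRing.localization_surjective (Submonoid.powers (AdjoinRoot.mk P.f P.g)) _
  let L : AdjoinRoot P.f →ₗ[K] P.Ring :=
    P.equivAwayAdjoinRoot.symm.toLinearMap ∘ₗ
      (IsScalarTower.toAlgHom K (AdjoinRoot P.f) (Localization.Away (AdjoinRoot.mk P.f P.g))).toLinearMap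
  have hL : Function.Surjective L := P.equivAwayAdjoinRoot.symm.surjective.comp hsurj
  refine ⟨Module.Finite.of_surjective L hL, ?_⟩
  calc Module.finrank K P.Ring ≤ Module.finrank K (AdjoinRoot P.f) :=
        LinearMap.finrank_le_finrank_of_surjective hL
    _ = P.f.natDegree := by rw [(AdjoinRoot.powerBasis' P.monic_f).finrank]; rfl

/-- The fibres of a standard etale morphism of affine schemes are finite of bounded degree. -/
theorem fibre_bound_of_standardEtale {R R' : Type u} [CommRing R] [CommRing R'] [Algebra R R']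
    (P : StandardEtalePresentation R R') (K : Type u) [Field K]
    (x : Spec (CommRingCat.of K) ⟶ Spec (CommRingCat.of R)) (F : Scheme.{u})
    (e : F ⟶ Spec (CommRingCat.of K)) (g : F ⟶ Spec (CommRingCat.of R'))
    (hpb : IsPullback e g x (Spec.map (CommRingCat.ofHom (algebraMap R R')))) :
    IsFinite e ∧ ∀ s, e.finrank s ≤ P.f.natDegree := by
  obtain ⟨χ, rfl⟩ := Spec.map_surjective x
  algebraize [χ.hom]
  have hpo := CommRingCat.isPushout_tensorProduct R K R'
  have hpb' := isPullback_SpecMap_of_isPushout _ _ _ _ hpo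
  have hχ : CommRingCat.ofHom (algebraMap R K) = χ := by
    rw [RingHom.algebraMap_toAlgebra]; rfl
  rw [hχ] at hpb'
  let ι := hpb.isoIsPullback _ _ hpb'
  have hι : ι.hom ≫ Spec.map (CommRingCat.ofHom
      (Algebra.TensorProduct.includeLeftRingHom : K →+* K ⊗[R] R')) = e :=
    hpb.isoIsPullback_hom_fst _ _ hpb'
  have h1 : algebraMap K (K ⊗[R] R') = Algebra.TensorProduct.includeLeftRingHom :=
    RingHom.ext fun x => by simp [Algebra.TensorProduct.algebraMap_apply]
  -- the base change is standard etale over `K`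
  let Q := P.baseChange (T := K)
  obtain ⟨hQfin, hQrank⟩ := stdEtale_field_finrank Q.P
  have hfinC : Module.Finite K (K ⊗[R] R') :=
    Module.Finite.of_surjective Q.equivRing.symm.toLinearMap Q.equivRing.symm.surjective
  have hrankC : Module.finrank K (K ⊗[R] R') ≤ P.f.natDegree := by
    rw [Q.equivRing.toLinearEquiv.finrank_eq]
    refine hQrank.trans ?_
    change (P.f.map (algebraMap R K)).natDegree ≤ _
    rw [P.monic_f.natDegree_map]
  rw [← hι, ← h1]
  have hfin2 : IsFinite (Spec.map (CommRingCat.ofHom (algebraMap K (K ⊗[R] R')))) := by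
    rw [IsFinite.SpecMap_iff]
    exact RingHom.finite_algebraMap.2 hfinC
  have hflat2 : Flat (Spec.map (CommRingCat.ofHom (algebraMap K (K ⊗[R] R')))) := flat_of_field _
  refine ⟨inferInstance, fun s => ?_⟩
  rw [Scheme.Hom.finrank_comp_left_of_isIso, finrank_SpecMap_field]
  exact hrankC

/-- ring-level: a ring with a jointly injective finite family of maps to finite dimensional algebras is finite dimensional -/
theorem finite_of_injective_pi {K B : Type u} {ι : Type*} [Fintype ι] {A : ι → Type u} [Field K]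
    [CommRing B] [∀ i, CommRing (A i)] (φ : K →+* B) (ψ : ∀ i, B →+* A i)
    (hinj : ∀ b, (∀ i, ψ i b = 0) → b = 0) (h : ∀ i, ((ψ i).comp φ).Finite) :
    φ.Finite ∧ @Module.finrank K B _ _ φ.toAlgebra.toModule ≤
      ∑ i, @Module.finrank K (A i) _ _ ((ψ i).comp φ).toAlgebra.toModule := by
  let _ := φ.toAlgebra
  let _ : ∀ i, Algebra K (A i) := fun i => ((ψ i).comp φ).toAlgebra
  have hA : ∀ i, Module.Finite K (A i) := h
  let Ψ : B →ₗ[K] (∀ i, A i) :=
    { toFun := fun b i => ψ i b
      map_add' := fun b b' => by ext i; simp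
      map_smul' := fun r b => by
        ext i
        simp only [Algebra.smul_def, map_mul, RingHom.id_apply, Pi.smul_apply]
        rfl }
  have hΨ : Function.Injective Ψ := by
    rw [← LinearMap.ker_eq_bot, eq_bot_iff]
    intro b hb
    exact hinj b fun i => congrFun hb i
  have hB : Module.Finite K B := Module.Finite.of_injective Ψ hΨ
  refine ⟨hB, ?_⟩
  have := LinearMap.finrank_le_finrank_of_injective hΨ
  rwa [Module.finrank_pi_fintype] at this

/-- A scheme over a field with a finite open cover by finite schemes is finite, with rank at most the sum of the ranks. -/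
theorem isFinite_of_finite_openCover {K : Type u} [Field K] {F : Scheme.{u}}
    (e : F ⟶ Spec (CommRingCat.of K)) {ι : Type*} [Fintype ι] (O : ι → F.Opens)
    (hcov : ∀ x : ↥F, ∃ i, x ∈ O i) (n : ι → ℕ)
    (h : ∀ i, IsFinite ((O i).ι ≫ e) ∧ ∀ s, ((O i).ι ≫ e).finrank s ≤ n i) :
    IsFinite e ∧ ∀ s, e.finrank s ≤ ∑ i, n i := by
  have hfd : ∀ i, Finite ↥(O i).toScheme ∧ DiscreteTopology ↥(O i).toScheme := fun i => by
    have := (h i).1
    exact finite_discrete_of_isFinite_field ((O i).ι ≫ e)
  have hfinF : Finite ↥F := by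
    rw [← Set.finite_univ_iff]
    refine Set.Finite.subset (Set.finite_iUnion fun i =>
      (@Set.finite_range _ _ (O i).ι (hfd i).1)) ?_
    intro x _
    obtain ⟨i, hi⟩ := hcov x
    exact Set.mem_iUnion.2 ⟨i, ⟨⟨x, hi⟩, rfl⟩⟩
  have hdiscF : DiscreteTopology ↥F := by
    rw [discreteTopology_iff_isOpen_singleton]
    intro x
    obtain ⟨i, hi⟩ := hcov x
    have := (hfd i).2
    have h1 := (O i).ι.isOpenEmbedding.isOpenMap _ (isOpen_discrete ({⟨x, hi⟩} : Set ↥(O i).toScheme))
    rwa [Set.image_singleton] at h1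
  have haffF : IsAffine F := inferInstance
  have haffO : ∀ i, IsAffine (O i).toScheme := fun i => by
    have := (h i).1
    exact isAffine_of_isAffineHom ((O i).ι ≫ e)
  obtain ⟨φ, hφ⟩ := exists_ringHom_of_affine e
  have hφi : ∀ i, (O i).ι ≫ e = (O i).toScheme.isoSpec.hom ≫ Spec.map (φ ≫ (O i).ι.appTop) := by
    intro i
    rw [Spec.map_comp, ← Category.assoc, Scheme.isoSpec_hom_naturality, Category.assoc, ← hφ]
  have hfin : ∀ i, ((O i).ι.appTop.hom.comp φ.hom).Finite := fun i => by
    have := (isFinite_iff_of_eq _ _ (hφi i)).1 (h i).1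
    exact this
  obtain ⟨h1, h2⟩ := finite_of_injective_pi φ.hom (fun i => (O i).ι.appTop.hom) (by
    intro b hb
    refine TopCat.Sheaf.eq_of_locally_eq' F.sheaf (fun i => (O i).ι ''ᵁ ⊤) ⊤ (fun i => homOfLE le_top) ?_ b 0 ?_
    · intro x _
      obtain ⟨i, hi⟩ := hcov x
      refine TopologicalSpace.Opens.mem_iSup.2 ⟨i, ?_⟩
      rw [Scheme.Opens.ι_image_top]
      exact hi
    · intro i
      rw [map_zero]
      exact hb i) hfin
  refine ⟨(isFinite_iff_of_eq e φ hφ).2 h1, fun s => ?_⟩
  rw [finrank_eq_finrank e φ hφ h1 s]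
  refine h2.trans (Finset.sum_le_sum fun i _ => ?_)
  have h3 := finrank_eq_finrank ((O i).ι ≫ e) _ (hφi i) (hfin i) s
  exact h3.symm.le.trans ((h i).2 s)

end Groth.Agent.Lib.helper5.OverField
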