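import Mathlib

/-!
# Pushforward along a functor with the "splitting property" preserves local surjectivity (helper5)

Abstract form of "condition (B) implies `f_*` preserves epimorphisms".
-/

set_option autoImplicit false

namespace Groth.Agent.Lib.helper5.PushEpi

open CategoryTheory Opposite

universe w t v₁ u₁ v₂ u₂ v' u'

variable {C : Type u₁} [Category.{v₁} C] {D : Type u₂} [Category.{v₂} D]
  (J : GrothendieckTopology D) (K : GrothendieckTopology C) (B : D ⥤ C)

/-- The splitting property of a functor `B : D ⥤ C` between sites: every covering sieve `S` of `B V` can be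
answered by a covering family `α j : V' j ⟶ V` such that each `B (V' j)` has a covering family of
monomorphisms `β a : W a ⟶ B (V' j)`, pairwise disjoint (anything mapping compatibly to two different pieces is
covered by the empty sieve), with all `β a ≫ B (α j)` in `S`. -/
def SplitProp : Prop :=
  ∀ (V : D) (S : Sieve (B.obj V)), S ∈ K (B.obj V) →
    ∃ (κ : Type t) (V' : κ → D) (α : ∀ j, V' j ⟶ V), Sieve.ofArrows V' α ∈ J V ∧
      ∀ j, ∃ (μ : Type t) (W : μ → C) (β : ∀ a, W a ⟶ B.obj (V' j)),
        Sieve.ofArrows W β ∈ K (B.obj (V' j)) ∧ (∀ a, Mono (β a)) ∧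
        (∀ a b, a ≠ b → ∀ (Z : C) (p : Z ⟶ W a) (q : Z ⟶ W b), p ≫ β a = q ≫ β b →
          (⊥ : Sieve Z) ∈ K Z) ∧
        ∀ a, S (β a ≫ B.map (α j))

variable {J K B}

theorem subsingleton_of_bot_mem {F : Cᵒᵖ ⥤ Type w} (hF : Presieve.IsSeparated K F) {Z : C}
    (hZ : (⊥ : Sieve Z) ∈ K Z) : Subsingleton (F.obj (op Z)) := by
  constructor
  intro t₁ t₂
  apply (hF _ hZ).ext
  intro Y f hf
  exact hf.elim

theorem isLocallySurjective_whiskerLeft (hB : SplitProp.{t} J K B) {F G : Cᵒᵖ ⥤ Type w}
    (hF : Presieve.IsSheaf K F) (hG : Presieve.IsSeparated K G) (φ : F ⟶ G)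
    [Presheaf.IsLocallySurjective K φ] :
    Presheaf.IsLocallySurjective J (Functor.whiskerLeft B.op φ) := by
  constructor
  intro V s
  change G.obj (op (B.obj V)) at s
  obtain ⟨κ, V', α, hcov, hsplit⟩ := hB V (Presheaf.imageSieve φ s)
    (Presheaf.imageSieve_mem K φ (U := op (B.obj V)) s)
  refine J.superset_covering ?_ hcov
  rw [Sieve.ofArrows, Sieve.generate_le_iff]
  rintro _ _ ⟨j⟩
  obtain ⟨μ, W, β, hβcov, hmono, hdisj, hS⟩ := hsplit j
  -- local preimages
  choose t ht using hS
  -- the family `t a` is compatible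
  have hcomp : Presieve.Arrows.Compatible F β t := by
    intro a b Z p q hpq
    by_cases hab : a = b
    · subst hab
      have := hmono a
      have : p = q := by rwa [cancel_mono] at hpq
      rw [this]
    · have := subsingleton_of_bot_mem hF.isSeparated (hdisj a b hab Z p q hpq)
      exact Subsingleton.elim _ _
  have hsheaf : Presieve.IsSheafFor F (Presieve.ofArrows W β) := by
    rw [Presieve.isSheafFor_iff_generate]
    exact hF _ hβcov
  obtain ⟨T, hT, -⟩ := (Presieve.isSheafFor_arrows_iff F β).1 hsheaf t hcomp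
  refine ⟨T, ?_⟩
  apply (hG _ hβcov).ext
  rintro _ _ ⟨Z, p, _, ⟨a⟩, rfl⟩
  change G.map (p ≫ β a).op (φ.app _ T) = G.map (p ≫ β a).op (G.map (B.map (α j)).op s)
  rw [op_comp, G.map_comp, ConcreteCategory.comp_apply, ConcreteCategory.comp_apply]
  congr 1
  have h1 : G.map (β a).op (φ.app _ T) = φ.app _ (F.map (β a).op T) :=
    (NatTrans.naturality_apply φ (β a).op T).symm
  rw [h1, hT a, ht a, op_comp, G.map_comp, ConcreteCategory.comp_apply]

end Groth.Agent.Lib.helper5.PushEpi
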