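import Groth.Prelude.Def_BigSite
import Groth.Prelude.Def_SGA4b
import Groth.Agent.Lib.Helper5.PushEpiAbs

/-!
# Condition (B) implies that direct image preserves local surjectivity (helper5)

* `splitProp_of_propB`: condition (B) for `f : X ⟶ Y` gives the abstract splitting property of
  `EtCoh.bc f : Y.Etale ⥤ X.Etale`.
* `isLocallySurjective_push`: for sheaves of types.
* `preservesEpimorphisms_pushSh`, `preservesEpimorphisms_push`.
-/

set_option autoImplicit false

namespace Groth.Agent.Lib.helper5.PushEpi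

open CategoryTheory CategoryTheory.Limits AlgebraicGeometry Opposite

universe u

variable {X Y : Scheme.{u}} (f : X ⟶ Y)

theorem bc_map_fst {U W : Y.Etale} (g : W ⟶ U) :
    ((EtCoh.bc f).map g).left ≫ pullback.fst U.hom f = pullback.fst W.hom f ≫ g.left :=
  (EtCoh.isPullback_bc_map f g).w

theorem bc_map_snd {U W : Y.Etale} (g : W ⟶ U) :
    ((EtCoh.bc f).map g).left ≫ pullback.snd U.hom f = pullback.snd W.hom f := by
  dsimp [EtCoh.bc]
  exact pullback.lift_snd _ _ _

/-- `(bc f V).left = V ×_Y X ≅ X ×_Y V`. -/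
noncomputable def bcIso (V : Y.Etale) : ((EtCoh.bc f).obj V).left ≅ pullback f V.hom :=
  pullbackSymmetry V.hom f

theorem bcIso_hom_fst (V : Y.Etale) :
    (bcIso f V).hom ≫ pullback.fst f V.hom = ((EtCoh.bc f).obj V).hom :=
  pullbackSymmetry_hom_comp_fst V.hom f

theorem bcIso_inv_hom (V : Y.Etale) :
    (bcIso f V).inv ≫ ((EtCoh.bc f).obj V).hom = pullback.fst f V.hom := by
  rw [← bcIso_hom_fst, Iso.inv_hom_id_assoc]

theorem bcIso_map {U W : Y.Etale} (g : W ⟶ U) :
    (bcIso f W).inv ≫ ((EtCoh.bc f).map g).left ≫ (bcIso f U).hom =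
      pullback.map f W.hom f U.hom (𝟙 X) g.left (𝟙 Y) (by simp)
        (by rw [Category.comp_id]; exact (MorphismProperty.Over.w g).symm) := by
  apply pullback.hom_ext
  · rw [pullback.lift_fst, Category.assoc, Category.assoc]
    have h1 : (bcIso f U).hom ≫ pullback.fst f U.hom = pullback.snd U.hom f :=
      pullbackSymmetry_hom_comp_fst U.hom f
    have h2 : (bcIso f W).inv ≫ pullback.snd W.hom f = pullback.fst f W.hom :=
      pullbackSymmetry_inv_comp_snd W.hom f
    rw [h1, bc_map_snd, h2, Category.comp_id]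
  · rw [pullback.lift_snd, Category.assoc, Category.assoc]
    have h1 : (bcIso f U).hom ≫ pullback.snd f U.hom = pullback.fst U.hom f :=
      pullbackSymmetry_hom_comp_snd U.hom f
    have h2 : (bcIso f W).inv ≫ pullback.fst W.hom f = pullback.snd f W.hom :=
      pullbackSymmetry_inv_comp_fst W.hom f
    rw [h1, bc_map_fst]
    exact (Category.assoc _ _ _).symm.trans (congrArg (· ≫ g.left) h2)

theorem bot_mem_of_isEmpty (Z : X.Etale) [IsEmpty Z.left] :
    (⊥ : Sieve Z) ∈ X.smallEtaleTopology Z := by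
  have eX : X.smallEtaleTopology =
      (X.smallPretopology (P := EtCoh.etaleMP) (Q := EtCoh.etaleMP)).toGrothendieck :=
    Scheme.smallGrothendieckTopology_eq_toGrothendieck_smallPretopology X le_rfl
  rw [eX]
  refine (Scheme.mem_toGrothendieck_smallPretopology Z _).2 ?_
  intro x
  exact (IsEmpty.false x).elim

theorem mono_of_mono_left {U V : X.Etale} (g : U ⟶ V) (hg : Mono g.left) : Mono g := by
  constructor
  intro Z p q hpq
  apply MorphismProperty.Over.Hom.ext
  have h : (p ≫ g).left = (q ≫ g).left := by rw [hpq]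
  change p.left ≫ g.left = q.left ≫ g.left at h
  rwa [cancel_mono] at h

theorem iUnion_range_eq_univ {P Q : Scheme.{u}} (e : Q ≅ P) {μ : Type u} (W : μ → P.Opens)
    (hW : (⨆ a, W a) = ⊤) : ⋃ a, Set.range ((W a).ι ≫ e.inv) = Set.univ := by
  ext x
  simp only [Set.mem_iUnion, Set.mem_univ, iff_true]
  have hx : e.hom x ∈ (⨆ a, W a : P.Opens) := by
    rw [hW]; trivial
  rw [TopologicalSpace.Opens.mem_iSup] at hx
  obtain ⟨a, ha⟩ := hx
  refine ⟨a, ⟨e.hom x, ha⟩, ?_⟩
  rw [Scheme.Hom.comp_apply]
  have : (W a).ι ⟨e.hom x, ha⟩ = e.hom x := rfl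
  rw [this, ← Scheme.Hom.comp_apply, Iso.hom_inv_id]
  rfl

theorem isEmpty_of_disjoint {P Q Z : Scheme.{u}} (e : Q ≅ P) (W₁ W₂ : P.Opens)
    (hd : Disjoint W₁ W₂) (p : Z ⟶ W₁) (q : Z ⟶ W₂)
    (h : p ≫ W₁.ι ≫ e.inv = q ≫ W₂.ι ≫ e.inv) : IsEmpty Z := by
  constructor
  intro zz
  rw [← Category.assoc, ← Category.assoc, cancel_mono] at h
  have h2 : W₁.ι (p zz) = W₂.ι (q zz) := by
    rw [← Scheme.Hom.comp_apply, ← Scheme.Hom.comp_apply, h]
  have h3 : W₁.ι (p zz) ∈ W₁ := (p zz).2
  have h4 : W₁.ι (p zz) ∈ W₂ := by rw [h2]; exact (q zz).2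
  exact (Set.disjoint_left.1 ((TopologicalSpace.Opens.coe_disjoint).2 hd)) h3 h4

set_option backward.isDefEq.respectTransparency.types false in
theorem splitProp_of_propB (hB : BigSite.PropB f) :
    SplitProp.{u} Y.smallEtaleTopology X.smallEtaleTopology (EtCoh.bc f) := by
  intro V S hS
  have eX : X.smallEtaleTopology =
      (X.smallPretopology (P := EtCoh.etaleMP) (Q := EtCoh.etaleMP)).toGrothendieck :=
    Scheme.smallGrothendieckTopology_eq_toGrothendieck_smallPretopology X le_rfl
  rw [eX] at hS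
  replace hS := (Scheme.mem_toGrothendieck_smallPretopology ((EtCoh.bc f).obj V) S).1 hS
  choose U ar z haS _ haz using hS
  have hVet : Etale V.hom := V.prop
  let e : ((EtCoh.bc f).obj V).left ≅ pullback f V.hom := bcIso f V
  have haet : ∀ x, Etale (ar x).left := fun x => inferInstance
  obtain ⟨κ, V', v', hv'et, hv'cov, hW⟩ := hB V.left V.hom ↥(pullback f V.hom : Scheme.{u})
    (fun x => (U (e.inv x)).left) (fun x => (ar (e.inv x)).left ≫ e.hom)
    (fun x => inferInstance)
    (fun x => ⟨x, z (e.inv x), by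
      have h1 : ((ar (e.inv x)).left ≫ e.hom) (z (e.inv x)) = e.hom ((ar (e.inv x)).left (z (e.inv x))) :=
        Scheme.Hom.comp_apply _ _ _
      have h2 : e.hom (e.inv x) = x := by
        rw [← Scheme.Hom.comp_apply, Iso.inv_hom_id]; rfl
      exact h1.trans ((congrArg e.hom (haz (e.inv x))).trans h2)⟩)
  choose μ W hdisj hcover i h hh using hW
  have hcomp : ∀ j, Etale (v' j ≫ V.hom) := fun j => by
    have := hv'et j
    infer_instance
  let V'o : κ → Y.Etale := fun j => Scheme.Etale.mk (v' j ≫ V.hom)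
  let α : ∀ j, V'o j ⟶ V := fun j => MorphismProperty.Over.homMk (v' j) rfl trivial
  refine ⟨κ, V'o, α, ?_, ?_⟩
  · rw [Scheme.ofArrows_mem_smallEtaleTopology_iff]
    ext y
    simp only [Set.mem_iUnion, Set.mem_univ, iff_true]
    exact hv'cov y
  intro j
  let e' : ((EtCoh.bc f).obj (V'o j)).left ≅ pullback f (v' j ≫ V.hom) := bcIso f (V'o j)
  have hfstet : Etale (pullback.fst f (v' j ≫ V.hom)) := inferInstance
  let Wo : μ j → X.Etale := fun a =>
    Scheme.Etale.mk ((W j a).ι ≫ pullback.fst f (v' j ≫ V.hom))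
  let β : ∀ a, Wo a ⟶ (EtCoh.bc f).obj (V'o j) := fun a =>
    MorphismProperty.Over.homMk ((W j a).ι ≫ e'.inv) (by
      have := bcIso_inv_hom f (V'o j)
      exact (Category.assoc _ _ _).trans (congrArg ((W j a).ι ≫ ·) this)) trivial
  refine ⟨μ j, Wo, β, ?_, ?_, ?_, ?_⟩
  · rw [Scheme.ofArrows_mem_smallEtaleTopology_iff]
    exact iUnion_range_eq_univ e' (W j) (hcover j)
  · intro a
    have : Mono ((W j a).ι ≫ e'.inv) := inferInstance
    exact mono_of_mono_left (β a) this
  · intro a b hab Z p q hpq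
    have h1 : (p ≫ β a).left = (q ≫ β b).left := by rw [hpq]
    have : IsEmpty Z.left :=
      isEmpty_of_disjoint e' (W j a) (W j b) (hdisj j a b hab) p.left q.left h1
    exact bot_mem_of_isEmpty Z
  · intro a
    -- the morphism `γ a : Wo a ⟶ U _`
    have hγ : h j a ≫ (U (e.inv (i j a))).hom =
        (W j a).ι ≫ pullback.fst f (v' j ≫ V.hom) := by
      have e1 : (U (e.inv (i j a))).hom =
          ((ar (e.inv (i j a))).left ≫ e.hom) ≫ pullback.fst f V.hom := by
        rw [Category.assoc, bcIso_hom_fst]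
        exact (MorphismProperty.Over.w (ar (e.inv (i j a)))).symm
      rw [e1, ← Category.assoc, hh j a, Category.assoc, pullback.lift_fst, Category.comp_id]
    let γ : Wo a ⟶ U (e.inv (i j a)) := MorphismProperty.Over.homMk (h j a) hγ trivial
    have key : γ ≫ ar (e.inv (i j a)) = β a ≫ (EtCoh.bc f).map (α j) := by
      apply MorphismProperty.Over.Hom.ext
      change h j a ≫ (ar (e.inv (i j a))).left =
        ((W j a).ι ≫ e'.inv) ≫ ((EtCoh.bc f).map (α j)).left
      rw [← cancel_mono e.hom, Category.assoc, hh j a, Category.assoc, Category.assoc]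
      congr 1
      exact (bcIso_map f (α j)).symm
    rw [← key]
    exact S.downward_closed (haS _) γ

/-- Condition (B): direct image of sheaves of sets preserves epimorphisms. -/
theorem preservesEpimorphisms_pushSh (hB : BigSite.PropB f) :
    (EtDesc.pushSh f).PreservesEpimorphisms := by
  constructor
  intro F G φ hφ
  have h1 : Sheaf.IsLocallySurjective φ := (Sheaf.isLocallySurjective_iff_epi φ).2 hφ
  have h1' : Presheaf.IsLocallySurjective X.smallEtaleTopology φ.hom := h1
  have h2 : Presheaf.IsLocallySurjective Y.smallEtaleTopology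
      (Functor.whiskerLeft (EtCoh.bc f).op φ.hom) :=
    isLocallySurjective_whiskerLeft (splitProp_of_propB f hB)
      ((isSheaf_iff_isSheaf_of_type _ _).1 F.2)
      ((isSheaf_iff_isSheaf_of_type _ _).1 G.2).isSeparated φ.hom
  have h3 : Sheaf.IsLocallySurjective ((EtDesc.pushSh f).map φ) := h2
  exact (Sheaf.isLocallySurjective_iff_epi _).1 h3

/-- Condition (B): direct image of abelian sheaves preserves epimorphisms. -/
theorem preservesEpimorphisms_push (hB : BigSite.PropB f) :
    (EtCoh.push f).PreservesEpimorphisms := by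
  constructor
  intro F G φ hφ
  have h1 : Sheaf.IsLocallySurjective φ := (Sheaf.isLocallySurjective_iff_epi' (φ := φ)).2 hφ
  have h1' : Presheaf.IsLocallySurjective X.smallEtaleTopology φ.hom := h1
  have h1'' : Presheaf.IsLocallySurjective X.smallEtaleTopology
      (Functor.whiskerRight φ.hom (forget AddCommGrpCat.{u + 1})) :=
    (Presheaf.isLocallySurjective_iff_whisker_forget _ φ.hom).1 h1'
  have h2 : Presheaf.IsLocallySurjective Y.smallEtaleTopology
      (Functor.whiskerLeft (EtCoh.bc f).op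
        (Functor.whiskerRight φ.hom (forget AddCommGrpCat.{u + 1}))) :=
    @isLocallySurjective_whiskerLeft _ _ _ _ _ _ _ (splitProp_of_propB f hB)
      (F.obj ⋙ forget AddCommGrpCat.{u + 1}) (G.obj ⋙ forget AddCommGrpCat.{u + 1})
      ((isSheaf_iff_isSheaf_of_type _ _).1
        ((sheafCompose X.smallEtaleTopology (forget AddCommGrpCat.{u + 1})).obj F).2)
      ((isSheaf_iff_isSheaf_of_type _ _).1
        ((sheafCompose X.smallEtaleTopology (forget AddCommGrpCat.{u + 1})).obj G).2).isSeparated
      (Functor.whiskerRight φ.hom (forget AddCommGrpCat.{u + 1})) h1''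
  have h3 : Presheaf.IsLocallySurjective Y.smallEtaleTopology
      (Functor.whiskerLeft (EtCoh.bc f).op φ.hom) :=
    (Presheaf.isLocallySurjective_iff_whisker_forget _ _).2 h2
  have h4 : Sheaf.IsLocallySurjective ((EtCoh.push f).map φ) := h3
  exact (Sheaf.isLocallySurjective_iff_epi' (φ := (EtCoh.push f).map φ)).1 h4

end Groth.Agent.Lib.helper5.PushEpi
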