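import Groth.Prelude.Def_BigSite
import Groth.Agent.Lib.Helper1.ClopenExt
import Groth.Agent.Lib.Helper5.PushEpi

/-!
# Condition (A): direct image reflects monos and epis, is faithful, counit is epi (helper5)
-/

set_option autoImplicit false

namespace Groth.Agent.Lib.helper5.PropAPush

open CategoryTheory CategoryTheory.Limits AlgebraicGeometry Opposite
open Groth.Agent.H1.ClopenExt Groth.Agent.H1.EtGerm Groth.Agent.H1.FinPushStalk

universe u

variable {X Y : Scheme.{u}} (f : X ⟶ Y)

theorem mem_smallEtaleTopology_iff {Y : Scheme.{u}} (V : Y.Etale) (R : Sieve V) :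
    R ∈ Y.smallEtaleTopology V ↔
      ∀ x : V.left, ∃ (W : Y.Etale) (f : W ⟶ V) (y : W.left), R f ∧ f.left.base y = x := by
  refine ⟨fun h => ?_, Groth.Agent.H1.ClosedDense.mem_smallEtaleTopology V R⟩
  have eY : Y.smallEtaleTopology =
      (Y.smallPretopology (P := EtCoh.etaleMP) (Q := EtCoh.etaleMP)).toGrothendieck :=
    Scheme.smallGrothendieckTopology_eq_toGrothendieck_smallPretopology Y le_rfl
  rw [eY] at h
  intro x
  obtain ⟨W, g, y, hg, -, hy⟩ := (Scheme.mem_toGrothendieck_smallPretopology V R).1 h x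
  exact ⟨W, g, y, hg, hy⟩

set_option backward.isDefEq.respectTransparency.types false in
/-- Condition (A) in terms of the small étale sites. -/
theorem exists_clopen_of_propA (hA : BigSite.PropA f) (U : X.Etale) (u : U.left) :
    ∃ (V : Y.Etale) (A : X.Etale) (a : A ⟶ (EtCoh.bc f).obj V) (_ : IsClopen a) (k : A ⟶ U),
      u ∈ Set.range k.left.base := by
  have : Etale U.hom := U.prop
  obtain ⟨V, v, hv, W, hWcl, h, hh, hu⟩ := hA U.left U.hom u
  let Vo : Y.Etale := Scheme.Etale.mk v
  let T : X.Etale := (EtCoh.bc f).obj Vo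
  let e : T.left ≅ pullback f v := PushEpi.bcIso f Vo
  let W' : T.left.Opens := e.hom ⁻¹ᵁ W
  let A : X.Etale := restrictOpen T W'
  let a : A ⟶ T := restrictOpenι T W'
  have ha : IsClopen a := by
    refine ⟨?_, ?_⟩
    · show IsOpenImmersion W'.ι
      infer_instance
    · show IsClosed (Set.range W'.ι.base)
      rw [Scheme.Opens.range_ι]
      exact hWcl.preimage e.hom.continuous
  have hk : ((e.hom ∣_ W) ≫ h) ≫ U.hom = A.hom := by
    have e1 : e.hom ≫ pullback.fst f v = T.hom := PushEpi.bcIso_hom_fst f Vo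
    have e2 : (e.hom ∣_ W) ≫ W.ι = W'.ι ≫ e.hom := morphismRestrict_ι e.hom W
    calc ((e.hom ∣_ W) ≫ h) ≫ U.hom = (e.hom ∣_ W) ≫ (h ≫ U.hom) := Category.assoc _ _ _
      _ = ((e.hom ∣_ W) ≫ W.ι) ≫ pullback.fst f v := by rw [hh, Category.assoc]
      _ = W'.ι ≫ T.hom := by rw [e2, Category.assoc, e1]
  let k : A ⟶ U := MorphismProperty.Over.homMk ((e.hom ∣_ W) ≫ h) hk trivial
  refine ⟨Vo, A, a, ha, k, ?_⟩
  obtain ⟨w, rfl⟩ := hu
  obtain ⟨w', rfl⟩ := (e.hom ∣_ W).surjective w
  exact ⟨w', rfl⟩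

theorem extZ_zero (F : EtCoh.Ab X) {T A : X.Etale} {a : A ⟶ T} (ha : IsClopen a) :
    extZ F ha 0 = 0 := by
  symm
  apply eq_extZ <;> rw [map_zero]

theorem injective_app_of_mono {F G : EtCoh.Ab X} (a : F ⟶ G) [Mono a] (T : X.Etale) :
    Function.Injective (a.hom.app (op T)) := by
  have h1 : Mono a.hom := inferInstance
  have h2 : Mono (a.hom.app (op T)) := inferInstance
  exact (AddCommGrpCat.mono_iff_injective _).1 h2

/-- Condition (A): `f_*` reflects monomorphisms. -/
theorem reflectsMonomorphisms_push (hA : BigSite.PropA f) :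
    (EtCoh.push f).ReflectsMonomorphisms := by
  constructor
  intro G F φ hφ
  apply Sheaf.mono_of_injective
  intro Uop
  rw [injective_iff_map_eq_zero]
  intro s hs
  apply eq_zero_of_locally G Uop.unop s
  intro u
  obtain ⟨V, A, a, ha, k, hu⟩ := exists_clopen_of_propA f hA Uop.unop u
  refine ⟨A, k, hu, ?_⟩
  have h1 : φ.hom.app (op ((EtCoh.bc f).obj V)) (extZ G ha (G.obj.map k.op s)) = 0 := by
    rw [app_extZ]
    have := NatTrans.naturality_apply φ.hom k.op s
    rw [this]
    have hs' : φ.hom.app (op Uop.unop) s = 0 := hs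
    rw [hs', map_zero, extZ_zero]
  have h2 : extZ G ha (G.obj.map k.op s) = 0 := by
    apply injective_app_of_mono ((EtCoh.push f).map φ) V
    exact h1.trans (map_zero (ConcreteCategory.hom (φ.hom.app (op ((EtCoh.bc f).obj V))))).symm
  rw [← map_extZ G ha (G.obj.map k.op s), h2, map_zero]

/-- Condition (A): `f_*` reflects epimorphisms. -/
theorem reflectsEpimorphisms_push (hA : BigSite.PropA f) :
    (EtCoh.push f).ReflectsEpimorphisms := by
  constructor
  intro G F φ hφ
  have h1 : Sheaf.IsLocallySurjective ((EtCoh.push f).map φ) :=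
    (Sheaf.isLocallySurjective_iff_epi' (φ := (EtCoh.push f).map φ)).2 hφ
  rw [← Sheaf.isLocallySurjective_iff_epi' (φ := φ)]
  constructor
  intro U s
  rw [mem_smallEtaleTopology_iff]
  intro u
  obtain ⟨V, A, a, ha, k, a₀, ha₀⟩ := exists_clopen_of_propA f hA U u
  let s' : F.obj.obj (op ((EtCoh.bc f).obj V)) := extZ F ha (F.obj.map k.op s)
  have h2 : Presheaf.imageSieve ((EtCoh.push f).map φ).hom (U := V) s' ∈ Y.smallEtaleTopology V :=
    Presheaf.imageSieve_mem Y.smallEtaleTopology ((EtCoh.push f).map φ).hom (U := op V) s'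
  have h3 := (EtCoh.coverPreserving_bc f).cover_preserve h2
  have h4 := X.smallEtaleTopology.pullback_stable a h3
  obtain ⟨N, n, z, hn, hz⟩ := (mem_smallEtaleTopology_iff _ _).1 h4 a₀
  refine ⟨N, n ≫ k, z, ?_, ?_⟩
  · obtain ⟨V', α, β, ⟨t, ht⟩, hfac⟩ := hn
    refine ⟨G.obj.map β.op t, ?_⟩
    have ht' : φ.hom.app (op ((EtCoh.bc f).obj V')) t = F.obj.map ((EtCoh.bc f).map α).op s' := ht
    have e1 := NatTrans.naturality_apply φ.hom β.op t
    rw [e1, ht']
    have e2 : F.obj.map β.op (F.obj.map ((EtCoh.bc f).map α).op s') =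
        F.obj.map (β ≫ (EtCoh.bc f).map α).op s' := by
      rw [op_comp, Functor.map_comp]; rfl
    rw [e2, ← hfac]
    have e3 : F.obj.map (n ≫ a).op s' = F.obj.map n.op (F.obj.map a.op s') := by
      rw [op_comp, Functor.map_comp]; rfl
    rw [e3, map_extZ]
    rw [op_comp, Functor.map_comp]; rfl
  · rw [← ha₀, ← hz]
    rfl

/-- Condition (A): the counit `f⁻¹ f_* F ⟶ F` is an epimorphism. -/
theorem epi_counit_app (hA : BigSite.PropA f) (F : EtCoh.Ab X) :
    Epi ((EtCoh.pullPushAdj f).counit.app F) := by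
  have := reflectsEpimorphisms_push f hA
  apply (EtCoh.push f).epi_of_epi_map
  have h := (EtCoh.pullPushAdj f).right_triangle_components F
  have : Epi (𝟙 ((EtCoh.push f).obj F)) := inferInstance
  exact epi_of_epi_fac h

/-- Condition (A): `f_*` is faithful. -/
theorem faithful_push (hA : BigSite.PropA f) : (EtCoh.push f).Faithful := by
  have : ∀ F, Epi ((EtCoh.pullPushAdj f).counit.app F) := epi_counit_app f hA
  exact (EtCoh.pullPushAdj f).faithful_R_of_epi_counit_app

end Groth.Agent.Lib.helper5.PropAPush
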