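import Groth.Prelude.Def_BigSite
import Groth.Agent.Lib.Helper5.PropAPush

/-!
# Condition (C) for all base changes + closedness ⇒ base change is almost cocontinuous (helper5)
-/

set_option autoImplicit false

namespace Groth.Agent.Lib.helper5.PropCAlmost

open CategoryTheory CategoryTheory.Limits AlgebraicGeometry Opposite
open Groth.Agent.Lib.helper5.PropAPush Groth.Agent.Lib.helper5.PushEpi

universe u

variable {X Y : Scheme.{u}} (f : X ⟶ Y)

/-- The sieve of `α : V' ⟶ V` such that `X ×_Y V'` is empty or `X ×_Y V' ⟶ X ×_Y V` is in `R`. -/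
def answerSieve {V : Y.Etale} (R : Sieve ((EtCoh.bc f).obj V)) : Sieve V where
  arrows V' α := IsEmpty ((EtCoh.bc f).obj V').left ∨ R ((EtCoh.bc f).map α)
  downward_closed := by
    rintro V' V'' α (h | h) β
    · left
      exact ⟨fun q => h.false (((EtCoh.bc f).map β).left q)⟩
    · right
      rw [Functor.map_comp]
      exact R.downward_closed h _

set_option backward.isDefEq.respectTransparency.types false in
theorem isAlmostCocontinuous_bc
    (hC : ∀ (V : Scheme.{u}) (v : V ⟶ Y) [Etale v], BigSite.PropC (pullback.snd f v))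
    (hcl : ∀ (V : Scheme.{u}) (v : V ⟶ Y) [Etale v], IsClosedMap (pullback.snd f v).base) :
    BigSite.IsAlmostCocontinuous (EtCoh.bc f) Y.smallEtaleTopology X.smallEtaleTopology := by
  intro V R hR
  refine ⟨answerSieve f R, ?_, ?_⟩
  swap
  · rintro V' α (h | h)
    · left
      exact bot_mem_of_isEmpty _
    · right
      exact h
  have hVet : Etale V.hom := V.prop
  let e : ((EtCoh.bc f).obj V).left ≅ pullback f V.hom := bcIso f V
  have hesnd : e.hom ≫ pullback.snd f V.hom = pullback.fst V.hom f :=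
    pullbackSymmetry_hom_comp_snd V.hom f
  rw [mem_smallEtaleTopology_iff]
  intro v
  by_cases hv : v ∈ Set.range (pullback.snd f V.hom).base
  · -- a point above `v`
    obtain ⟨x₀, hx₀⟩ := hv
    let x : ((EtCoh.bc f).obj V).left := e.inv x₀
    have hex : e.hom x = x₀ := by
      show e.hom (e.inv x₀) = x₀
      rw [← Scheme.Hom.comp_apply, Iso.inv_hom_id]; rfl
    obtain ⟨N, n, z, hRn, hz⟩ := (mem_smallEtaleTopology_iff _ _).1 hR x
    have hnet : Etale n.left := inferInstance
    let g : N.left ⟶ pullback f V.hom := n.left ≫ e.hom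
    obtain ⟨V', v', hv', h, hh, hsurj⟩ := hC V.left V.hom N.left g
    have hcomp : Etale (v' ≫ V.hom) := inferInstance
    let V'o : Y.Etale := Scheme.Etale.mk (v' ≫ V.hom)
    let α : V'o ⟶ V := MorphismProperty.Over.homMk v' rfl trivial
    let e' : ((EtCoh.bc f).obj V'o).left ≅ pullback f (v' ≫ V.hom) := bcIso f V'o
    let θ := pullbackLeftPullbackSndIso f V.hom v'
    let mm := pullback.map f (v' ≫ V.hom) f V.hom (𝟙 X) v' (𝟙 Y) (by simp) (by simp)
    have hθm : θ.hom ≫ mm = pullback.fst (pullback.snd f V.hom) v' := by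
      apply pullback.hom_ext
      · simp only [mm, θ, Category.assoc, pullback.map]
        rw [pullback.lift_fst, Category.comp_id, pullbackLeftPullbackSndIso_hom_fst]
      · simp only [mm, θ, Category.assoc, pullback.map]
        rw [pullback.lift_snd, ← Category.assoc, pullbackLeftPullbackSndIso_hom_snd,
          pullback.condition]
    have hNhom : N.hom = g ≫ pullback.fst f V.hom := by
      have h1 : n.left ≫ ((EtCoh.bc f).obj V).hom = N.hom := MorphismProperty.Over.w n
      rw [← h1, ← bcIso_hom_fst f V]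
      rfl
    have hmmfst : mm ≫ pullback.fst f V.hom = pullback.fst f (v' ≫ V.hom) := by
      simp only [mm, pullback.map]
      rw [pullback.lift_fst, Category.comp_id]
    have hκ : (e'.hom ≫ θ.inv ≫ h) ≫ N.hom = ((EtCoh.bc f).obj V'o).hom := by
      calc (e'.hom ≫ θ.inv ≫ h) ≫ N.hom
          = e'.hom ≫ θ.inv ≫ (h ≫ g) ≫ pullback.fst f V.hom := by
            rw [hNhom]; simp only [Category.assoc]
        _ = e'.hom ≫ (θ.inv ≫ θ.hom) ≫ mm ≫ pullback.fst f V.hom := by
            rw [hh, ← hθm]; simp only [Category.assoc]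
        _ = e'.hom ≫ pullback.fst f (v' ≫ V.hom) := by
            rw [Iso.inv_hom_id, Category.id_comp, hmmfst]
        _ = ((EtCoh.bc f).obj V'o).hom := bcIso_hom_fst f V'o
    let κ : (EtCoh.bc f).obj V'o ⟶ N := MorphismProperty.Over.homMk (e'.hom ≫ θ.inv ≫ h) hκ trivial
    have hfac : κ ≫ n = (EtCoh.bc f).map α := by
      apply MorphismProperty.Over.Hom.ext
      change (e'.hom ≫ θ.inv ≫ h) ≫ n.left = ((EtCoh.bc f).map α).left
      rw [← cancel_mono e.hom]
      have h2 := bcIso_map f α
      calc ((e'.hom ≫ θ.inv ≫ h) ≫ n.left) ≫ e.hom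
          = e'.hom ≫ θ.inv ≫ (h ≫ g) := by simp only [g, Category.assoc]
        _ = e'.hom ≫ (θ.inv ≫ θ.hom) ≫ mm := by rw [hh, ← hθm]; simp only [Category.assoc]
        _ = e'.hom ≫ mm := by rw [Iso.inv_hom_id, Category.id_comp]
        _ = ((EtCoh.bc f).map α).left ≫ e.hom := ((Iso.inv_comp_eq e').1 h2).symm
    -- the point
    obtain ⟨p, hp⟩ := hsurj.surj z
    refine ⟨V'o, α, (pullback.snd (pullback.snd f V.hom) v') p, Or.inr ?_, ?_⟩
    · rw [← hfac]
      exact R.downward_closed hRn κ
    · show v' ((pullback.snd (pullback.snd f V.hom) v') p) = v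
      have h3 : (pullback.snd (pullback.snd f V.hom) v' ≫ v') p =
          (pullback.fst (pullback.snd f V.hom) v' ≫ pullback.snd f V.hom) p := by
        rw [pullback.condition]
      have h3' : v' ((pullback.snd (pullback.snd f V.hom) v') p) =
          (pullback.snd f V.hom) ((pullback.fst (pullback.snd f V.hom) v') p) := h3
      rw [h3', ← hh]
      have h4 : (h ≫ g) p = e.hom (n.left (h p)) := rfl
      rw [h4, hp, hz, hex]
      exact hx₀
  · -- the open complement of the image
    have hclosed : IsClosed (Set.range (pullback.snd f V.hom).base) :=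
      (hcl V.left V.hom).isClosed_range
    let V₀ : V.left.Opens := ⟨(Set.range (pullback.snd f V.hom).base)ᶜ, hclosed.isOpen_compl⟩
    let V₀o : Y.Etale := Groth.Agent.H1.EtGerm.restrictOpen V V₀
    let ι₀ : V₀o ⟶ V := Groth.Agent.H1.EtGerm.restrictOpenι V V₀
    refine ⟨V₀o, ι₀, ⟨v, hv⟩, Or.inl ⟨fun q => ?_⟩, rfl⟩
    have h1 := bc_map_fst f ι₀
    have h2 : (pullback.fst V.hom f) (((EtCoh.bc f).map ι₀).left q) =
        ι₀.left ((pullback.fst V₀o.hom f) q) := by
      have := congrArg (fun φ : ((EtCoh.bc f).obj V₀o).left ⟶ V.left => φ q) h1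
      exact this
    have h3 : ι₀.left ((pullback.fst V₀o.hom f) q) ∈ V₀ := ((pullback.fst V₀o.hom f) q).2
    apply h3
    rw [← h2, ← hesnd]
    exact ⟨e.hom (((EtCoh.bc f).map ι₀).left q), rfl⟩

end Groth.Agent.Lib.helper5.PropCAlmost
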