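import Groth.Prelude.Def_BigSite
import Groth.Prelude.Def_SGA4b
import Groth.Agent.Lib.Helper5.PropAPush

/-!
# Condition (C): direct image of sheaves of sets reflects monos and epis (helper5)
-/

set_option autoImplicit false

namespace Groth.Agent.Lib.helper5.PropCPush

open CategoryTheory CategoryTheory.Limits AlgebraicGeometry Opposite
open Groth.Agent.Lib.helper5.PropAPush

universe u

variable {X Y : Scheme.{u}} (f : X ⟶ Y)

set_option backward.isDefEq.respectTransparency.types false in
/-- Condition (C) in terms of the small étale sites. -/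
theorem exists_surjective_of_propC (hC : BigSite.PropC f) (U : X.Etale) :
    ∃ (V : Y.Etale) (k : (EtCoh.bc f).obj V ⟶ U), Function.Surjective k.left.base := by
  have : Etale U.hom := U.prop
  obtain ⟨V, v, hv, h, hh, hsurj⟩ := hC U.left U.hom
  let Vo : Y.Etale := Scheme.Etale.mk v
  let e : ((EtCoh.bc f).obj Vo).left ≅ pullback f v := PushEpi.bcIso f Vo
  have hk : (e.hom ≫ h) ≫ U.hom = ((EtCoh.bc f).obj Vo).hom := by
    rw [Category.assoc, hh]
    exact PushEpi.bcIso_hom_fst f Vo
  refine ⟨Vo, MorphismProperty.Over.homMk (e.hom ≫ h) hk trivial, ?_⟩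
  intro u
  obtain ⟨p, rfl⟩ := hsurj.surj u
  obtain ⟨p', rfl⟩ := e.hom.surjective p
  exact ⟨p', rfl⟩

theorem injective_app_of_mono {F G : EtDesc.Sh X} (a : F ⟶ G) [Mono a] (T : X.Etale) :
    Function.Injective (a.hom.app (op T)) := by
  have h1 : Mono a.hom := inferInstance
  have h2 : Mono (a.hom.app (op T)) := inferInstance
  exact (mono_iff_injective _).1 h2

/-- Condition (C): `f_*` on sheaves of sets reflects monomorphisms. -/
theorem reflectsMonomorphisms_pushSh (hC : BigSite.PropC f) :
    (EtDesc.pushSh f).ReflectsMonomorphisms := by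
  constructor
  intro G F φ hφ
  apply Sheaf.mono_of_injective
  intro Uop s s' hs
  obtain ⟨V, k, hk⟩ := exists_surjective_of_propC f hC Uop.unop
  have h1 : φ.hom.app (op ((EtCoh.bc f).obj V)) (G.obj.map k.op s) =
      φ.hom.app (op ((EtCoh.bc f).obj V)) (G.obj.map k.op s') := by
    have e1 := NatTrans.naturality_apply φ.hom k.op s
    have e2 := NatTrans.naturality_apply φ.hom k.op s'
    rw [e1, e2]
    exact congrArg _ hs
  have h2 : G.obj.map k.op s = G.obj.map k.op s' :=
    injective_app_of_mono ((EtDesc.pushSh f).map φ) V h1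
  -- `k` is a covering
  have hcov : Sieve.generate (Presieve.singleton k) ∈ X.smallEtaleTopology Uop.unop := by
    rw [mem_smallEtaleTopology_iff]
    intro u
    obtain ⟨p, hp⟩ := hk u
    exact ⟨_, k, p, Sieve.le_generate _ _ _ (Presieve.singleton_self k), hp⟩
  refine (((isSheaf_iff_isSheaf_of_type _ _).1 G.2).isSeparated _ hcov).ext ?_
  rintro N n ⟨_, w, _, ⟨⟩, rfl⟩
  rw [op_comp, Functor.map_comp]
  exact congrArg (G.obj.map w.op) h2

/-- Condition (C): `f_*` on sheaves of sets reflects epimorphisms. -/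
theorem reflectsEpimorphisms_pushSh (hC : BigSite.PropC f) :
    (EtDesc.pushSh f).ReflectsEpimorphisms := by
  constructor
  intro G F φ hφ
  have h1 : Sheaf.IsLocallySurjective ((EtDesc.pushSh f).map φ) :=
    (Sheaf.isLocallySurjective_iff_epi _).2 hφ
  rw [← Sheaf.isLocallySurjective_iff_epi]
  constructor
  intro U s
  rw [mem_smallEtaleTopology_iff]
  intro u
  obtain ⟨V, k, hk⟩ := exists_surjective_of_propC f hC U
  obtain ⟨p, hp⟩ := hk u
  let s' : F.obj.obj (op ((EtCoh.bc f).obj V)) := F.obj.map k.op s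
  have h2 : Presheaf.imageSieve ((EtDesc.pushSh f).map φ).hom (U := V) s' ∈
      Y.smallEtaleTopology V :=
    Presheaf.imageSieve_mem Y.smallEtaleTopology ((EtDesc.pushSh f).map φ).hom (U := op V) s'
  have h3 := (EtCoh.coverPreserving_bc f).cover_preserve h2
  obtain ⟨N, n, z, hn, hz⟩ := (mem_smallEtaleTopology_iff _ _).1 h3 p
  refine ⟨N, n ≫ k, z, ?_, ?_⟩
  · obtain ⟨V', α, β, ⟨t, ht⟩, hfac⟩ := hn
    refine ⟨G.obj.map β.op t, ?_⟩
    have ht' : φ.hom.app (op ((EtCoh.bc f).obj V')) t = F.obj.map ((EtCoh.bc f).map α).op s' := ht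
    have e1 := NatTrans.naturality_apply φ.hom β.op t
    rw [e1, ht']
    have e2 : F.obj.map β.op (F.obj.map ((EtCoh.bc f).map α).op s') =
        F.obj.map (β ≫ (EtCoh.bc f).map α).op s' := by
      rw [op_comp, Functor.map_comp]; rfl
    rw [e2, ← hfac]
    show F.obj.map n.op (F.obj.map k.op s) = _
    rw [op_comp, Functor.map_comp]; rfl
  · rw [← hp, ← hz]
    rfl

end Groth.Agent.Lib.helper5.PropCPush
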