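import Groth.Agent.Lib.Helper5.QAffDescScheme
import Groth.Prelude.Def_MoreMor

/-!
Ind-quasi-affine morphisms descend along fpqc morphisms (helper5).
-/

set_option autoImplicit false
universe u
open CategoryTheory CategoryTheory.Limits AlgebraicGeometry Opposite
open AlgSp

namespace Groth.Agent.Lib.helper5.Bridge

/-- Composing the two lower maps of a pullback square with a monomorphism gives a pullback square. -/
theorem isPullback_comp_mono {C : Type*} [Category C] {P X Y Z Z' : C} {fst : P ⟶ X} {snd : P ⟶ Y} {f : X ⟶ Z}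
    {g : Y ⟶ Z} (h : IsPullback fst snd f g) (m : Z ⟶ Z') [Mono m] : IsPullback fst snd (f ≫ m) (g ≫ m) := by
  refine ⟨⟨by rw [← Category.assoc, h.w, Category.assoc]⟩, ⟨PullbackCone.IsLimit.mk _
    (fun s => h.lift s.fst s.snd (by
      have := s.condition
      rw [← Category.assoc, ← Category.assoc] at this
      exact (cancel_mono m).1 this)) (fun s => h.lift_fst _ _ _) (fun s => h.lift_snd _ _ _)
    (fun s l h1 h2 => h.hom_ext (by rw [h1, h.lift_fst]) (by rw [h2, h.lift_snd]))⟩⟩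

/-- A quasi-compact scheme openly immersed in an ind-quasi-affine scheme is quasi-affine. -/
theorem isQuasiAffine_of_openImmersion_of_isIndQuasiAffine {T Q : Scheme.{u}} (hT : MoreMor.IsIndQuasiAffine T)
    (j : Q ⟶ T) [IsOpenImmersion j] [CompactSpace Q] : Q.IsQuasiAffine := by
  have hc : IsCompact (j.opensRange : Set T) := by
    rw [Scheme.Hom.coe_opensRange]
    exact isCompact_range j.continuous
  have := hT j.opensRange hc
  exact Scheme.IsQuasiAffine.of_isAffineHom j.isoOpensRange.hom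

/-- Ind-quasi-affine morphisms descend along surjective flat quasi-compact morphisms. -/
theorem isIndQuasiAffineHom_of_isPullback {X S X' S' : Scheme.{u}} (f : X ⟶ S) (f' : X' ⟶ S') (g' : X' ⟶ X)
    (g : S' ⟶ S) [Flat g] [Surjective g] [QuasiCompact g] (hc : IsPullback g' f' f g)
    (hf' : MoreMor.IsIndQuasiAffineHom f') : MoreMor.IsIndQuasiAffineHom f := by
  intro V hV U hU
  have hVa : IsAffine (V : Scheme.{u}) := hV
  have hUc : CompactSpace ↥(U : Scheme.{u}) := isCompact_iff_compactSpace.1 hU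
  have hcg : CompactSpace ↥(g ⁻¹ᵁ V : Scheme.{u}) :=
    isCompact_iff_compactSpace.1 (g.isCompact_preimage hV.isCompact)
  let 𝒰 := (g ⁻¹ᵁ V : Scheme.{u}).affineCover.finiteSubcover
  have hfin : Finite 𝒰.I₀ := inferInstance
  have hWa : ∀ j, IsAffine (𝒰.X j) := fun j =>
    inferInstanceAs (IsAffine ((g ⁻¹ᵁ V : Scheme.{u}).affineCover.X _))
  let κ : ∀ j, 𝒰.X j ⟶ S' := fun j => 𝒰.f j ≫ (g ⁻¹ᵁ V).ι
  have hκ : ∀ j, IsOpenImmersion (κ j) := fun j => inferInstance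
  have hres : (g ∣_ V) ≫ V.ι = (g ⁻¹ᵁ V).ι ≫ g := (isPullback_morphismRestrict g V).w
  have hresf : (f ∣_ V) ≫ V.ι = (f ⁻¹ᵁ V).ι ≫ f := (isPullback_morphismRestrict f V).w
  let υ : (U : Scheme.{u}) ⟶ X := U.ι ≫ (f ⁻¹ᵁ V).ι
  have hυ : IsOpenImmersion υ := inferInstance
  refine isQuasiAffine_of_flat_family (U.ι ≫ (f ∣_ V)) (fun j => 𝒰.X j) (fun j => 𝒰.f j ≫ (g ∣_ V)) hWa
    (fun j => inferInstance) (fun v => ?_) (fun j => pullback (U.ι ≫ (f ∣_ V)) (𝒰.f j ≫ (g ∣_ V)))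
    (fun j => pullback.fst _ _) (fun j => pullback.snd _ _) (fun j => IsPullback.of_hasPullback _ _)
    (fun j => ?_)
  · obtain ⟨x, hx⟩ := g.surjective v.1
    have hxV : x ∈ g ⁻¹ᵁ V := by
      show g x ∈ V
      rw [hx]; exact v.2
    obtain ⟨j, y, hy⟩ := 𝒰.exists_eq (⟨x, hxV⟩ : ↥(g ⁻¹ᵁ V : Scheme.{u}))
    refine ⟨j, y, ?_⟩
    apply V.ι.injective
    rw [Scheme.Hom.comp_apply, hy, ← Scheme.Hom.comp_apply, hres, Scheme.Hom.comp_apply]
    exact hx
  · -- the pullback `P = U ×_V W`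
    have sq1 : IsPullback (pullback.fst (U.ι ≫ (f ∣_ V)) (𝒰.f j ≫ (g ∣_ V)))
        (pullback.snd (U.ι ≫ (f ∣_ V)) (𝒰.f j ≫ (g ∣_ V))) (U.ι ≫ (f ∣_ V)) (𝒰.f j ≫ (g ∣_ V)) :=
      IsPullback.of_hasPullback _ _
    have sq2 := isPullback_comp_mono sq1 V.ι
    have e1 : (U.ι ≫ (f ∣_ V)) ≫ V.ι = υ ≫ f := by
      rw [Category.assoc, hresf, ← Category.assoc]
    have e2 : (𝒰.f j ≫ (g ∣_ V)) ≫ V.ι = κ j ≫ g := by
      rw [Category.assoc, hres, ← Category.assoc]
    rw [e1, e2] at sq2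
    -- the pullback `X'_W = X' ×_{S'} W = X ×_S W`
    have sqW : IsPullback (pullback.fst f' (κ j)) (pullback.snd f' (κ j)) f' (κ j) :=
      IsPullback.of_hasPullback _ _
    have sqW2 : IsPullback (pullback.fst f' (κ j) ≫ g') (pullback.snd f' (κ j)) f (κ j ≫ g) :=
      sqW.paste_horiz hc
    -- the morphism `P ⟶ X'`
    have hw : (pullback.fst (U.ι ≫ (f ∣_ V)) (𝒰.f j ≫ (g ∣_ V)) ≫ υ) ≫ f =
        (pullback.snd (U.ι ≫ (f ∣_ V)) (𝒰.f j ≫ (g ∣_ V)) ≫ κ j) ≫ g := by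
      rw [Category.assoc, Category.assoc]
      exact sq2.w
    let ℓ' : pullback (U.ι ≫ (f ∣_ V)) (𝒰.f j ≫ (g ∣_ V)) ⟶ X' := hc.lift _ _ hw
    have hℓ1 : ℓ' ≫ g' = pullback.fst _ _ ≫ υ := hc.lift_fst _ _ _
    have hℓ2 : ℓ' ≫ f' = pullback.snd _ _ ≫ κ j := hc.lift_snd _ _ _
    let jj : pullback (U.ι ≫ (f ∣_ V)) (𝒰.f j ≫ (g ∣_ V)) ⟶ pullback f' (κ j) :=
      pullback.lift ℓ' (pullback.snd _ _) hℓ2
    have hj1 : jj ≫ pullback.fst f' (κ j) = ℓ' := pullback.lift_fst _ _ _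
    have hj2 : jj ≫ pullback.snd f' (κ j) = pullback.snd _ _ := pullback.lift_snd _ _ _
    have sq3 : IsPullback jj (pullback.fst (U.ι ≫ (f ∣_ V)) (𝒰.f j ≫ (g ∣_ V)))
        (pullback.fst f' (κ j) ≫ g') υ := by
      refine IsPullback.of_right ?_ ?_ sqW2.flip
      · rw [hj2]
        exact sq2.flip
      · rw [← Category.assoc, hj1, hℓ1]
    have hjoi : IsOpenImmersion jj := MorphismProperty.of_isPullback (P := @IsOpenImmersion) sq3.flip hυ
    -- `X'_W` is an open subscheme of `X'`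
    have ha : IsOpenImmersion (pullback.fst f' (κ j)) := inferInstance
    have hrange : Set.range (pullback.fst f' (κ j)) = Set.range (f' ⁻¹ᵁ (κ j).opensRange).ι := by
      rw [Scheme.Opens.range_ι]
      ext x
      constructor
      · rintro ⟨z, rfl⟩
        show f' (pullback.fst f' (κ j) z) ∈ Set.range (κ j)
        refine ⟨pullback.snd f' (κ j) z, ?_⟩
        rw [← Scheme.Hom.comp_apply, ← pullback.condition, Scheme.Hom.comp_apply]
      · rintro ⟨y, hy⟩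
        obtain ⟨z, hz1, -⟩ := AffDesc.exists_preimage_of_isPullback sqW x y hy.symm
        exact ⟨z, hz1⟩
    let e := IsOpenImmersion.isoOfRangeEq (pullback.fst f' (κ j)) (f' ⁻¹ᵁ (κ j).opensRange).ι hrange
    -- compactness
    have hqc : QuasiCompact (pullback.fst (U.ι ≫ (f ∣_ V)) (𝒰.f j ≫ (g ∣_ V))) := inferInstance
    have hPc : CompactSpace ↥(pullback (U.ι ≫ (f ∣_ V)) (𝒰.f j ≫ (g ∣_ V))) :=
      QuasiCompact.compactSpace_of_compactSpace (pullback.fst (U.ι ≫ (f ∣_ V)) (𝒰.f j ≫ (g ∣_ V)))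
    exact isQuasiAffine_of_openImmersion_of_isIndQuasiAffine (hf' _ (isAffineOpen_opensRange (κ j)))
      (jj ≫ e.hom)

end Groth.Agent.Lib.helper5.Bridge
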