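import Mathlib
import Groth.Agent.Lib.Helper5.QFRefineSch

/-!
# fppf sheaves via quasi-finite flat covers (helper5)

* `Pqf` : flat ⊓ locally of finite presentation ⊓ locally quasi-finite.
* `fppfTopology_le` : the fppf topology is contained in the quasi-compact topology of `Pqf`
  (every fppf covering is refined by a quasi-finite flat one, `QFRefineSch.exists_affine_refinement_at`).
* `isSheaf_fppf_iff` (= S5238) : a presheaf of types is an fppf sheaf iff it is a Zariski sheaf and satisfies
  the sheaf condition for single quasi-finite fppf morphisms of affine schemes.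
-/

set_option autoImplicit false
universe u w
open AlgebraicGeometry CategoryTheory Limits

namespace Groth.Agent.Lib.helper5.QFSheaf

open Groth.Agent.Lib.helper5

/-- flat, locally of finite presentation and locally quasi-finite. -/
abbrev Pqf : MorphismProperty Scheme.{u} :=
  (@Flat ⊓ @LocallyOfFinitePresentation) ⊓ @LocallyQuasiFinite

local instance : MorphismProperty.IsMultiplicative @LocallyOfFinitePresentation.{u} where
  id_mem _ := inferInstance

instance : (Pqf.{u}).IsStableUnderBaseChange := inferInstance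
instance : (Pqf.{u}).IsMultiplicative := inferInstance
instance : IsZariskiLocalAtSource (Pqf.{u}) := inferInstance

theorem isOpenMap_of_Pqf {X Y : Scheme.{u}} (f : X ⟶ Y) (hf : Pqf f) : IsOpenMap f := by
  obtain ⟨⟨h1, h2⟩, -⟩ := hf
  haveI : Flat f := h1
  haveI : LocallyOfFinitePresentation f := h2
  exact f.isOpenMap

/-- the fppf topology is coarser than the topology generated by quasi-compact families of flat,
lfp, locally quasi-finite morphisms. -/
theorem fppfTopology_le : Scheme.fppfTopology.{u} ≤ Scheme.propQCTopology Pqf.{u} := by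
  rw [Precoverage.toGrothendieck_le_iff_le_toPrecoverage]
  intro X R hR
  rw [GrothendieckTopology.mem_toPrecoverage_iff]
  -- for each point choose a member through it
  have hpt : ∀ x : X, ∃ (Y : Scheme.{u}) (f : Y ⟶ X), R f ∧ x ∈ Set.range f := by
    intro x
    obtain ⟨_, _, ⟨hf⟩, hx⟩ := hR.1 x
    exact ⟨_, _, hf, hx⟩
  have hprop : ∀ (Y : Scheme.{u}) (f : Y ⟶ X), R f → Flat f ∧ LocallyOfFinitePresentation f := by
    intro Y f hf
    exact hR.2 hf
  have hch : ∀ x : X, ∃ (A : CommRingCat.{u}) (g : Spec A ⟶ X), Pqf g ∧ x ∈ Set.range g ∧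
      (Sieve.generate R).arrows g := by
    intro x
    obtain ⟨Y, f, hf, y, rfl⟩ := hpt x
    obtain ⟨h1, h2⟩ := hprop Y f hf
    obtain ⟨A, g, h, hfac, hg1, hg2, hg3, hmem⟩ := QFRefineSch.exists_affine_refinement_at f y
    exact ⟨A, g, ⟨⟨hg1, hg2⟩, hg3⟩, hmem, ⟨Y, h, f, hf, hfac⟩⟩
  choose A g hP hmem hgen using hch
  have hcov : Presieve.ofArrows (fun x : X => Spec (A x)) g ∈ Scheme.propQCPrecoverage Pqf X := by
    have h1 : Presieve.ofArrows (fun x : X => Spec (A x)) g ∈ Scheme.precoverage Pqf X := by
      rw [Scheme.ofArrows_mem_precoverage_iff]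
      exact ⟨fun x => ⟨x, hmem x⟩, hP⟩
    exact ⟨Scheme.precoverage_le_qcPrecoverage_of_isOpenMap
      (fun X Y f hf => isOpenMap_of_Pqf f hf) _ h1, h1⟩
  refine (Scheme.propQCTopology Pqf).superset_covering ?_
    (Precoverage.generate_mem_toGrothendieck hcov)
  rw [Sieve.generate_le_iff]
  rintro Y f ⟨x⟩
  exact hgen x

/-- **fppf sheaves = Zariski sheaves + sheaf condition for quasi-finite fppf affine covers**
(= S5238). -/
theorem isSheaf_fppf_iff (F : Scheme.{u}ᵒᵖ ⥤ Type w) :
    Presheaf.IsSheaf Scheme.fppfTopology F ↔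
      Presheaf.IsSheaf Scheme.zariskiTopology F ∧
        ∀ (T S : Scheme.{u}) [IsAffine T] [IsAffine S] (f : T ⟶ S)
          [Flat f] [Surjective f] [LocallyOfFinitePresentation f] [LocallyQuasiFinite f],
          Presieve.IsSheafFor F (Presieve.singleton f) := by
  rw [isSheaf_iff_isSheaf_of_type, isSheaf_iff_isSheaf_of_type]
  constructor
  · intro hF
    refine ⟨Presieve.isSheaf_of_le _
      (Precoverage.toGrothendieck_mono Scheme.zariskiPrecoverage_le_fppfPrecoverage) hF, ?_⟩
    intro T S _ _ f _ _ _ _
    rw [Presieve.isSheafFor_iff_generate]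
    exact hF _ (Precoverage.generate_mem_toGrothendieck f.singleton_mem_fppfPrecoverage)
  · rintro ⟨hzar, hqf⟩
    apply Presieve.isSheaf_of_le _ fppfTopology_le
    rw [isSheaf_type_propQCTopology_iff]
    refine ⟨hzar, fun {R S} f hf hs => ?_⟩
    obtain ⟨⟨h1, h2⟩, h3⟩ := hf
    haveI : Flat (Spec.map f) := h1
    haveI : LocallyOfFinitePresentation (Spec.map f) := h2
    haveI : LocallyQuasiFinite (Spec.map f) := h3
    exact hqf (Spec S) (Spec R) (Spec.map f)

end Groth.Agent.Lib.helper5.QFSheaf
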