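import Groth.Agent.Lib.Helper5.KrullComp2
import Groth.Agent.Lib.Helper3.IrredDim
import Groth.Agent.Lib.Helper3.FibreIrred

/-!
# The dimension of the image of a morphism of schemes of finite type over a field (helper5)

* `trdeg_add_one_le_of_specializes` : a strict specialization `ξ ⤳ ζ` drops the residue
  transcendence degree.
* `exists_nat_dim_range` : for `α : G ⟶ X` of finite type over a field, `G ≠ ∅`, with image `E`:
  `dim E = dim cl(E) = s` is a natural number and `dim (cl(E) ∖ E) + 1 ≤ s`.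
-/

set_option autoImplicit false
universe u
open CategoryTheory AlgebraicGeometry Function Topology

namespace Groth.Agent.Lib.helper5.RangeDim

open Groth.Agent.Lib.helper3.FTField Groth.Agent.Lib.helper5.KrullComp
  Groth.Agent.Lib.helper5.KrullComp2

section

variable (k : Type u) [Field k] (X : Scheme.{u}) [X.Over (Spec (CommRingCat.of k))]
  [LocallyOfFiniteType (X ↘ Spec (CommRingCat.of k))]

theorem trdeg_add_one_le_of_specializes (ξ ζ : X) (h : ξ ⤳ ζ) (h' : ¬ ζ ⤳ ξ) (n r : ℕ)
    (hn : @Algebra.trdeg k (X.residueField ξ) _ _ (Curv2.resAlgebra k X ξ) = n)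
    (hr : @Algebra.trdeg k (X.residueField ζ) _ _ (Curv2.resAlgebra k X ζ) = r) :
    r + 1 ≤ n := by
  have hdim : (r : WithBot ℕ∞) ≤ topologicalKrullDim ↥(closure ({ζ} : Set X)) :=
    (dim_closure_eq_trdeg k X ζ r hr).ge
  obtain ⟨c, hc, hcY⟩ := exists_chain_of_le_dim (closure ({ζ} : Set X)) isClosed_closure r hdim
  have hζc : ζ ⤳ c 0 := specializes_iff_mem_closure.2 (hcY 0)
  refine length_le_trdeg_of_mem_closure k X ξ n hn (r + 1) (Fin.cons ξ c) ?_ ?_
  · intro i
    induction i using Fin.cases with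
    | zero =>
      change (Fin.cons ξ c : Fin (r + 2) → X) 0 ⤳ (Fin.cons ξ c : Fin (r + 2) → X) (Fin.succ 0) ∧
        ¬ ((Fin.cons ξ c : Fin (r + 2) → X) (Fin.succ 0) ⤳ (Fin.cons ξ c : Fin (r + 2) → X) 0)
      rw [Fin.cons_zero, Fin.cons_succ]
      exact ⟨h.trans hζc, fun h'' => h' (hζc.trans h'')⟩
    | succ j =>
      rw [← Fin.succ_castSucc, Fin.cons_succ, Fin.cons_succ]
      exact hc j
  · rw [Fin.cons_zero]

end

/-- The image of a morphism of finite type between schemes of finite type over a field. -/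
theorem exists_nat_dim_range (k : Type u) [Field k] (G X : Scheme.{u})
    (q : X ⟶ Spec (CommRingCat.of k)) [LocallyOfFiniteType q] [CompactSpace X]
    (α : G ⟶ X) [LocallyOfFiniteType α] [CompactSpace G] [Nonempty G] :
    ∃ s : ℕ, topologicalKrullDim ↥(Set.range α) = (s : WithBot ℕ∞) ∧
      topologicalKrullDim ↥(closure (Set.range α)) = (s : WithBot ℕ∞) ∧
      topologicalKrullDim ↥(closure (Set.range α) \ Set.range α) + 1 ≤ (s : WithBot ℕ∞) := by
  classical
  letI : X.Over (Spec (CommRingCat.of k)) := ⟨q⟩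
  haveI : LocallyOfFiniteType (X ↘ Spec (CommRingCat.of k)) :=
    inferInstanceAs (LocallyOfFiniteType q)
  haveI : LocallyOfFiniteType (α ≫ q) := inferInstance
  haveI : IsLocallyNoetherian X :=
    Groth.Agent.Lib.helper3.IrredDim.isLocallyNoetherian_of_lft k X
  haveI : IsNoetherian X := {}
  letI : G.Over (Spec (CommRingCat.of k)) := ⟨α ≫ q⟩
  haveI : LocallyOfFiniteType (G ↘ Spec (CommRingCat.of k)) :=
    inferInstanceAs (LocallyOfFiniteType (α ≫ q))
  haveI : IsLocallyNoetherian G :=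
    Groth.Agent.Lib.helper3.IrredDim.isLocallyNoetherian_of_lft k G
  haveI : IsNoetherian G := {}
  haveI : LocallyOfFinitePresentation α :=
    LocallyOfFinitePresentation.iff_locallyOfFiniteType.2 inferInstance
  have hE : IsConstructible (Set.range α) := by
    have := α.isConstructible_image IsConstructible.univ
    rwa [Set.image_univ] at this
  -- data attached to the irreducible components of `G`
  have hdata : ∀ P : irreducibleComponents (G : Type u), ∃ (ξ : X) (n : ℕ) (U : Set X),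
      ξ ∈ Set.range α ∧ α '' (P : Set G) ⊆ closure {ξ} ∧
      @Algebra.trdeg k (X.residueField ξ) _ _ (Curv2.resAlgebra k X ξ) = n ∧
      IsOpen U ∧ ξ ∈ U ∧ closure {ξ} ∩ U ⊆ Set.range α := by
    intro P
    obtain ⟨η, hη⟩ := QuasiSober.sober P.2.1 (isClosed_of_mem_irreducibleComponents _ P.2)
    obtain ⟨n, hn⟩ := exists_nat_trdeg_residueField k X (α η)
    have himg : α '' (P : Set G) ⊆ closure {α η} := by
      rw [← hη.def]
      refine (image_closure_subset_closure_image α.continuous).trans ?_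
      rw [Set.image_singleton]
    -- the generic point of `cl{ξ}` lies in every nonempty open
    have hgen : ∀ U' : Set ↥(closure ({α η} : Set X)), IsOpen U' → U'.Nonempty →
        (⟨α η, subset_closure rfl⟩ : ↥(closure ({α η} : Set X))) ∈ U' := by
      intro U' hU' hne
      obtain ⟨V, hV, rfl⟩ := isOpen_induced_iff.1 hU'
      obtain ⟨y, hy⟩ := hne
      exact (specializes_iff_mem_closure.2 y.2).mem_open hV hy
    have hcons : IsConstructible ((Subtype.val : ↥(closure ({α η} : Set X)) → X) ⁻¹'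
        Set.range α) :=
      hE.preimage_of_isClosedEmbedding isClosed_closure.isClosedEmbedding_subtypeVal
        (TopologicalSpace.NoetherianSpace.isCompact _)
    obtain ⟨U', hU', hξU', hU's⟩ :=
      (Groth.Agent.Lib.helper3.FibreIrred.exists_isOpen_subset_of_isConstructible
        (⟨α η, subset_closure rfl⟩ : ↥(closure ({α η} : Set X))) hgen hcons).1 ⟨η, rfl⟩
    obtain ⟨V, hV, rfl⟩ := isOpen_induced_iff.1 hU'
    refine ⟨α η, n, V, ⟨η, rfl⟩, himg, hn, hV, hξU', ?_⟩
    rintro y ⟨hy1, hy2⟩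
    exact hU's (show (⟨y, hy1⟩ : ↥(closure ({α η} : Set X))) ∈ Subtype.val ⁻¹' V from hy2)
  choose ξ n U h1 h2 h3 h4 h5 h6 using hdata
  have hfin : (irreducibleComponents (G : Type u)).Finite :=
    TopologicalSpace.NoetherianSpace.finite_irreducibleComponents
  haveI : Finite (irreducibleComponents (G : Type u)) := hfin
  haveI : Nonempty (irreducibleComponents (G : Type u)) := by
    obtain ⟨g⟩ := ‹Nonempty G›
    have : g ∈ ⋃₀ irreducibleComponents (G : Type u) := by
      rw [sUnion_irreducibleComponents]; trivial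
    obtain ⟨P, hP, -⟩ := this
    exact ⟨⟨P, hP⟩⟩
  have hcov : closure (Set.range α) ⊆ ⋃ P, closure {ξ P} := by
    refine closure_minimal ?_ (isClosed_iUnion_of_finite fun P => isClosed_closure)
    rintro _ ⟨g, rfl⟩
    have : g ∈ ⋃₀ irreducibleComponents (G : Type u) := by
      rw [sUnion_irreducibleComponents]; trivial
    obtain ⟨P, hP, hgP⟩ := this
    exact Set.mem_iUnion.2 ⟨⟨P, hP⟩, h2 ⟨P, hP⟩ ⟨g, hgP, rfl⟩⟩
  obtain ⟨P₀, hP₀⟩ := Finite.exists_max n
  refine ⟨n P₀, ?_⟩
  -- (i) `s ≤ dim E`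
  have hi : ((n P₀ : ℕ) : WithBot ℕ∞) ≤ topologicalKrullDim ↥(Set.range α) := by
    rw [← dim_closure_inter_open k X (ξ P₀) ⟨U P₀, h4 P₀⟩ (h5 P₀) (n P₀) (h3 P₀)]
    exact Groth.Agent.Lib.helper3.TopDim.dim_mono (h6 P₀)
  -- (ii) `dim cl(E) ≤ s`
  have hii : topologicalKrullDim ↥(closure (Set.range α)) ≤ ((n P₀ : ℕ) : WithBot ℕ∞) := by
    haveI : TopologicalSpace.NoetherianSpace ↥(closure (Set.range α)) :=
      Topology.IsInducing.subtypeVal.noetherianSpace
    apply dim_le_of_forall_irreducibleComponents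
    intro Q hQ
    obtain ⟨ζ, hζ, hQim, -⟩ := exists_generic_of_mem_irreducibleComponents'
      (closure (Set.range α)) Set.univ (closure (Set.range α)) (Set.univ_inter _).symm
      isOpen_univ isClosed_closure Q hQ
    obtain ⟨P, hP⟩ := Set.mem_iUnion.1 (hcov hζ)
    rw [dim_subtype_image, hQim]
    refine le_trans (Groth.Agent.Lib.helper3.TopDim.dim_mono
      (T := closure ({ξ P} : Set X)) ?_) ?_
    · rintro y ⟨hy, -⟩
      exact closure_minimal (Set.singleton_subset_iff.2 hP) isClosed_closure hy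
    · rw [dim_closure_eq_trdeg k X (ξ P) (n P) (h3 P)]
      exact_mod_cast hP₀ P
  have hiii : topologicalKrullDim ↥(Set.range α) ≤ topologicalKrullDim ↥(closure (Set.range α)) :=
    Groth.Agent.Lib.helper3.TopDim.dim_mono subset_closure
  refine ⟨le_antisymm (hiii.trans hii) hi, le_antisymm hii (hi.trans hiii), ?_⟩
  -- (iv) the boundary
  rw [show ((1 : WithBot ℕ∞)) = ((1 : ℕ) : WithBot ℕ∞) from rfl, add_le_iff_le_sub]
  have hF'cl : IsClosed (⋃ P, (closure {ξ P} \ U P)) :=
    isClosed_iUnion_of_finite fun P => isClosed_closure.sdiff (h4 P)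
  have hsub : closure (Set.range α) \ Set.range α ⊆ ⋃ P, (closure {ξ P} \ U P) := by
    rintro z ⟨hz1, hz2⟩
    obtain ⟨P, hP⟩ := Set.mem_iUnion.1 (hcov hz1)
    exact Set.mem_iUnion.2 ⟨P, hP, fun hzU => hz2 (h6 P ⟨hP, hzU⟩)⟩
  refine (Groth.Agent.Lib.helper3.TopDim.dim_mono hsub).trans ?_
  haveI : TopologicalSpace.NoetherianSpace ↥(⋃ P, (closure {ξ P} \ U P)) :=
    Topology.IsInducing.subtypeVal.noetherianSpace
  apply dim_le_of_forall_irreducibleComponents
  intro Q hQ
  obtain ⟨ζ, hζ, hQim, -⟩ := exists_generic_of_mem_irreducibleComponents'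
    (⋃ P, (closure {ξ P} \ U P)) Set.univ (⋃ P, (closure {ξ P} \ U P)) (Set.univ_inter _).symm
    isOpen_univ hF'cl Q hQ
  obtain ⟨P, hP1, hP2⟩ := Set.mem_iUnion.1 hζ
  obtain ⟨r, hr⟩ := exists_nat_trdeg_residueField k X ζ
  have hstrict : r + 1 ≤ n P :=
    trdeg_add_one_le_of_specializes k X (ξ P) ζ (specializes_iff_mem_closure.2 hP1)
      (fun h => hP2 (h.mem_open (h4 P) (h5 P))) (n P) r (h3 P) hr
  have hd : topologicalKrullDim ↥(closure ({ζ} : Set X) ∩ Set.univ) = (r : WithBot ℕ∞) :=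
    dim_closure_inter_open k X ζ ⊤ trivial r hr
  rw [← add_le_iff_le_sub, dim_subtype_image, hQim, hd]
  have := hP₀ P
  have h7 : r + 1 ≤ n P₀ := by omega
  exact_mod_cast h7

end Groth.Agent.Lib.helper5.RangeDim
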