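import Mathlib
import Groth.Agent.Lib.Helper5.FppfBoot6
import Groth.Agent.S10259
import Groth.Agent.S10535
import Groth.Agent.S10541
import Groth.Agent.S10505

/-!
# Descent of representability for separated locally quasi-finite maps (helper5)

* `props_of_fppf_base_change`, `repWith_of_fppf_base_change` (S10098).
-/

set_option autoImplicit false
universe u

open AlgebraicGeometry CategoryTheory CategoryTheory.Limits

namespace Groth.Agent.Lib.helper5.RepDescent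

open AlgSp Groth.Agent.Lib.helper5.FppfBoot

variable {S : Scheme.{u}}

/-- in the situation of S10098, every base change of `b` to a scheme is an algebraic space, separated and locally
quasi-finite over the scheme. -/
theorem props_of_fppf_base_change {E F G H : Sp S} (a : E ⟶ F) (f : E ⟶ H) (g : F ⟶ G) (b : H ⟶ G)
    (sq : IsPullback a f g b)
    (hg : ∀ ⦃U : Over S⦄ (ξ : (yon S).obj U ⟶ G) ⦃F' : Sp S⦄ (fst : F' ⟶ F)
      (snd : F' ⟶ (yon S).obj U), IsPullback fst snd g ξ → IsAlgSpace F' ∧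
        (IsSurjectiveMor ⊓ LocP @Flat ⊓ LocP @LocallyOfFinitePresentation) snd)
    (ha : ∀ ⦃U : Over S⦄ (ξ : (yon S).obj U ⟶ F) ⦃E' : Sp S⦄ (fst : E' ⟶ E)
      (snd : E' ⟶ (yon S).obj U), IsPullback fst snd a ξ → IsAlgSpace E' ∧
        (IsSeparatedMor ⊓ LocP (@LocallyQuasiFinite ⊓ @LocallyOfFiniteType)) snd)
    {T : Over S} (ξ : (yon S).obj T ⟶ G) {HT : Sp S} (h1 : HT ⟶ H) (h2 : HT ⟶ (yon S).obj T)
    (sqH : IsPullback h1 h2 b ξ) :
    IsAlgSpace HT ∧ IsSeparatedMor h2 ∧ LocP (@LocallyQuasiFinite ⊓ @LocallyOfFiniteType) h2 := by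
  obtain ⟨hFT, ⟨hsurj, hfl⟩, hlfp⟩ := hg ξ (pullback.fst g ξ) (pullback.snd g ξ)
    (IsPullback.of_hasPullback g ξ)
  obtain ⟨V, v, hve, hvs⟩ := hFT.atlas
  let γ : (yon S).obj V ⟶ (yon S).obj T := v ≫ pullback.snd g ξ
  let ζ : (yon S).obj V ⟶ F := v ≫ pullback.fst g ξ
  have hγζ : ζ ≫ g = γ ≫ ξ := by
    change (v ≫ pullback.fst g ξ) ≫ g = (v ≫ pullback.snd g ξ) ≫ ξ
    rw [Category.assoc, Category.assoc, pullback.condition]
  have hvf : LocP @Flat v := locP_of_repWith_etale @Flat (fun f hf => by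
    haveI := hf; exact (inferInstance : Flat f)) v hve
  have hvl : LocP @LocallyOfFinitePresentation v :=
    locP_of_repWith_etale @LocallyOfFinitePresentation (fun f hf => by
      haveI := hf; exact (inferInstance : LocallyOfFinitePresentation f)) v hve
  have hγf : LocP @Flat γ := locP_flat_comp hFT v _ hvf hfl
  have hγl : LocP @LocallyOfFinitePresentation γ := locP_lfp_comp hFT v _ hvl hlfp
  have hT : IsAlgSpace ((yon S).obj T) := IsAlgSpace.yon_obj T
  have hV : IsAlgSpace ((yon S).obj V) := IsAlgSpace.yon_obj V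
  have hcov : IsFppfCover (ι := PUnit.{u + 1}) (fun _ => (yon S).obj V) (fun _ => γ) := by
    refine ⟨fun _ => ⟨hγf, hγl⟩, fun x => ⟨PUnit.unit, ?_⟩⟩
    obtain ⟨y, hy⟩ := hsurj x
    obtain ⟨w, hw⟩ := Groth.Agent.Lib.helper11.surjective_ofPt v hvs y
    refine ⟨Points.ofScheme V w, ?_⟩
    rw [← Points.ofPt_eq_map_ofScheme]
    change Points.ofPt (v ≫ pullback.snd g ξ) w = x
    rw [← Points.map_ofPt, hw, hy]
  have key : ∀ (P : Sp S) (p1 : P ⟶ HT) (p2 : P ⟶ (yon S).obj V), IsPullback p1 p2 h2 γ →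
      IsAlgSpace P ∧ IsSeparatedMor p2 ∧ LocP (@LocallyQuasiFinite ⊓ @LocallyOfFiniteType) p2 := by
    intro P p1 p2 sqP
    have w : (p2 ≫ ζ) ≫ g = (p1 ≫ h1) ≫ b := by
      rw [Category.assoc, hγζ, ← Category.assoc, ← sqP.w, Category.assoc, Category.assoc, sqH.w]
    let e : P ⟶ E := sq.lift (p2 ≫ ζ) (p1 ≫ h1) w
    have he1 : e ≫ a = p2 ≫ ζ := sq.lift_fst _ _ _
    have he2 : e ≫ f = p1 ≫ h1 := sq.lift_snd _ _ _
    have outer : IsPullback (p1 ≫ h1) p2 b (γ ≫ ξ) := sqP.paste_horiz sqH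
    have left : IsPullback e p2 a ζ := by
      refine IsPullback.of_right ?_ he1 sq.flip
      rw [he2, hγζ]
      exact outer
    obtain ⟨h1', h2', h3'⟩ := ha ζ e p2 left
    exact ⟨h1', h2', h3'⟩
  have hHT : IsAlgSpace HT :=
    isAlgSpace_of_fppf_cover hT (fun _ : PUnit.{u + 1} => (yon S).obj V) (fun _ => hV) (fun _ => γ)
      hcov HT h2 (fun _ P fst snd sqP => (key P fst snd sqP).1)
  have hfpqc : IsFpqcCover (ι := PUnit.{u + 1}) (fun _ => (yon S).obj V) (fun _ => γ) :=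
    Groth.Agent.S10505.result (S := S) ⟨(yon S).obj T, hT⟩ (ι := PUnit.{u + 1})
      (fun _ => ⟨(yon S).obj V, hV⟩) (fun _ => ObjectProperty.homMk γ) hcov
  have sqP₀ : IsPullback (pullback.fst h2 γ) (pullback.snd h2 γ) h2 γ := IsPullback.of_hasPullback _ _
  obtain ⟨hP₀, hP₀s, hP₀q⟩ := key _ _ _ sqP₀
  refine ⟨hHT, ?_, ?_⟩
  · exact ((Groth.Agent.S10535.result S) (fun _ : PUnit.{u + 1} => (yon S).obj V) (fun _ => γ) hT
      (fun _ => hV) hfpqc h2 hHT (fun _ => pullback h2 γ) (fun _ => pullback.snd h2 γ)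
      (fun _ => pullback.fst h2 γ) (fun _ => hP₀) (fun _ => sqP₀)).2 (fun _ => hP₀s)
  · exact ((Groth.Agent.S10541.result S).1 (fun _ : PUnit.{u + 1} => (yon S).obj V) (fun _ => γ) hT
      (fun _ => hV) hfpqc h2 hHT (fun _ => pullback h2 γ) (fun _ => pullback.snd h2 γ)
      (fun _ => pullback.fst h2 γ) (fun _ => hP₀) (fun _ => sqP₀)).2 (fun _ => hP₀q)

/-- **S10098**. -/
theorem repWith_of_fppf_base_change {E F G H : Sp S} (a : E ⟶ F) (f : E ⟶ H) (g : F ⟶ G) (b : H ⟶ G)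
    (sq : IsPullback a f g b)
    (hg : ∀ ⦃U : Over S⦄ (ξ : (yon S).obj U ⟶ G) ⦃F' : Sp S⦄ (fst : F' ⟶ F)
      (snd : F' ⟶ (yon S).obj U), IsPullback fst snd g ξ → IsAlgSpace F' ∧
        (IsSurjectiveMor ⊓ LocP @Flat ⊓ LocP @LocallyOfFinitePresentation) snd)
    (ha : ∀ ⦃U : Over S⦄ (ξ : (yon S).obj U ⟶ F) ⦃E' : Sp S⦄ (fst : E' ⟶ E)
      (snd : E' ⟶ (yon S).obj U), IsPullback fst snd a ξ → IsAlgSpace E' ∧
        (IsSeparatedMor ⊓ LocP (@LocallyQuasiFinite ⊓ @LocallyOfFiniteType)) snd) :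
    RepWith @IsSeparated b ∧ RepWith (@LocallyQuasiFinite ⊓ @LocallyOfFiniteType) b := by
  have hrep : Representable b := by
    intro T ξ
    have sqH : IsPullback (pullback.fst b ξ) (pullback.snd b ξ) b ξ := IsPullback.of_hasPullback _ _
    obtain ⟨hHT, hsep, hqf⟩ := props_of_fppf_base_change a f g b sq hg ha ξ _ _ sqH
    have hr : (pullback b ξ).obj.IsRepresentable :=
      Groth.Agent.S10259.result T ⟨pullback b ξ, hHT⟩ (ObjectProperty.homMk (pullback.snd b ξ)) hqf hsep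
    obtain ⟨Y, ⟨r⟩⟩ := hr.has_representation
    let ε : (yon S).obj Y ≅ pullback b ξ := isoOfRepresentableBy r
    refine ⟨Y, (yon S).preimage (ε.hom ≫ pullback.snd b ξ), ε.hom ≫ pullback.fst b ξ, ?_⟩
    rw [Functor.map_preimage]
    exact IsPullback.of_iso sqH ε.symm (Iso.refl _) (Iso.refl _) (Iso.refl _) (by simp) (by simp)
      (by simp) (by simp)
  refine ⟨⟨hrep, ?_⟩, ⟨hrep, ?_⟩⟩
  · intro T V ξ fst snd sqH
    obtain ⟨-, hsep, -⟩ := props_of_fppf_base_change a f g b sq hg ha ξ _ _ sqH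
    exact (isSeparatedMor_yon_map_iff snd).1 hsep
  · intro T V ξ fst snd sqH
    obtain ⟨-, -, hqf⟩ := props_of_fppf_base_change a f g b sq hg ha ξ _ _ sqH
    exact locP_yon_map hqf

end Groth.Agent.Lib.helper5.RepDescent
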