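import Mathlib
import Groth.Agent.S10415
import Groth.Agent.S10366
import Groth.Agent.S10534
import Groth.Agent.S10505
import Groth.Agent.Lib.Helper1.EtaleReducedScheme
import Groth.Agent.Lib.Helper11.AlgSpBasic
import Groth.Agent.Lib.Helper5.AlgSpProperSurj
import Groth.Agent.Lib.Helper5.AlgSpInf3
import Groth.Agent.Lib.Helper5.FppfBoot2
import Groth.Agent.Lib.Helper14.RepSh4
import Groth.Agent.Lib.Helper5.AlgSpUniv3
import Groth.Agent.Lib.Helper5.AlgSpFibreProduct

/-!
# A point of a locally Noetherian algebraic space is closed iff its residual space is a closed subspace (helper5)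

`isClosed_singleton_iff_closedImmersion` (S10416).
-/

set_option autoImplicit false
universe u

open CategoryTheory CategoryTheory.Limits AlgebraicGeometry TopologicalSpace

namespace Groth.Agent.Lib.helper5.ResidualClosed

open AlgSp

section Scheme

variable {X : Scheme.{u}}

theorem ker_eq_vanishingIdeal_range {Z : Scheme.{u}} [IsReduced Z] (i : Z ⟶ X) :
    i.ker = Scheme.IdealSheafData.vanishingIdeal (.closure (Set.range i)) := by
  rw [← Scheme.IdealSheafData.map_bot, ← Scheme.nilradical_eq_bot,
    ← Scheme.IdealSheafData.vanishingIdeal_top, Scheme.IdealSheafData.map_vanishingIdeal]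
  congr 2
  simp

/-- A morphism from a reduced scheme with range in a closed subset factors through the reduced
induced closed subscheme. -/
theorem exists_lift_subscheme {T : Scheme.{u}} [IsReduced T] (l : T ⟶ X) (C : Closeds X)
    (h : Set.range l ⊆ (C : Set X)) :
    ∃ l' : T ⟶ (Scheme.IdealSheafData.vanishingIdeal C).subscheme,
      l' ≫ (Scheme.IdealSheafData.vanishingIdeal C).subschemeι = l := by
  have H : (Scheme.IdealSheafData.vanishingIdeal C).subschemeι.ker ≤ l.ker := by
    rw [Scheme.IdealSheafData.ker_subschemeι, ker_eq_vanishingIdeal_range]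
    apply Scheme.IdealSheafData.vanishingIdeal_antimono
    rw [Closeds.closure_le]
    exact h
  exact ⟨IsClosedImmersion.lift _ l H, IsClosedImmersion.lift_fac _ l H⟩

theorem isReduced_subscheme_vanishingIdeal (C : Closeds X) :
    IsReduced (Scheme.IdealSheafData.vanishingIdeal C).subscheme := by
  have : ∀ i, IsReduced ((Scheme.IdealSheafData.vanishingIdeal C).subschemeCover.openCover.X i) := by
    intro (U : X.affineOpens)
    have hrad : ((Scheme.IdealSheafData.vanishingIdeal C).ideal U).IsRadical := by
      rw [Scheme.IdealSheafData.vanishingIdeal_ideal]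
      exact PrimeSpectrum.isRadical_vanishingIdeal _
    have : _root_.IsReduced (Γ(X, U) ⧸ (Scheme.IdealSheafData.vanishingIdeal C).ideal U) :=
      (Ideal.isRadical_iff_quotient_reduced _).mp hrad
    change IsReduced (Spec (.of (Γ(X, U) ⧸ (Scheme.IdealSheafData.vanishingIdeal C).ideal U)))
    infer_instance
  exact IsReduced.of_openCover _ (Scheme.IdealSheafData.vanishingIdeal C).subschemeCover.openCover

theorem range_subschemeι_vanishingIdeal (C : Closeds X) :
    Set.range (Scheme.IdealSheafData.vanishingIdeal C).subschemeι = (C : Set X) := by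
  rw [Scheme.IdealSheafData.range_subschemeι, Scheme.IdealSheafData.coe_support_vanishingIdeal]

end Scheme


section Main

variable {S : Scheme.{u}}

open Groth.Agent.Lib.Helper14.RepSh

/-- an étale surjective chart is an fpqc covering. -/
theorem isFpqcCover_of_atlas {X : Sp S} (hX : IsAlgSpace X) {U : Over S} (a : (yon S).obj U ⟶ X)
    (hae : RepWith @Etale a) (has : RepWith @Surjective a) :
    IsFpqcCover (ι := PUnit.{u + 1}) (fun _ => (yon S).obj U) (fun _ => a) := by
  have hf : LocP @Flat a := Groth.Agent.Lib.helper5.FppfBoot.locP_of_repWith_etale @Flat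
    (fun f hf => by haveI := hf; exact (inferInstance : Flat f)) a hae
  have hp : LocP @LocallyOfFinitePresentation a :=
    Groth.Agent.Lib.helper5.FppfBoot.locP_of_repWith_etale @LocallyOfFinitePresentation
      (fun f hf => by haveI := hf; exact (inferInstance : LocallyOfFinitePresentation f)) a hae
  have hcov : IsFppfCover (ι := PUnit.{u + 1}) (fun _ => (yon S).obj U) (fun _ => a) := by
    refine ⟨fun _ => ⟨hf, hp⟩, fun x => ⟨PUnit.unit, ?_⟩⟩
    obtain ⟨w, hw⟩ := Groth.Agent.Lib.helper11.surjective_ofPt a has x
    exact ⟨Points.ofScheme U w, by rw [← Points.ofPt_eq_map_ofScheme]; exact hw⟩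
  exact Groth.Agent.S10505.result (S := S) ⟨X, hX⟩ (ι := PUnit.{u + 1})
    (fun _ => ⟨(yon S).obj U, IsAlgSpace.yon_obj U⟩) (fun _ => ObjectProperty.homMk a) hcov

/-- **S10416**. -/
theorem isClosed_singleton_iff_closedImmersion {X Z : AlgSp.Space S}
    (hX : AlgSp.IsLocNoethSp X.obj) (x : AlgSp.Points X.obj) (i : Z ⟶ X) [Mono i.hom]
    (hi : Set.range (AlgSp.Points.map i.hom) = {x})
    (hZ : ∃ (k : Type u) (_ : Field k) (str : Spec (CommRingCat.of k) ⟶ S)
      (p : (AlgSp.yon S).obj (Over.mk str) ⟶ Z.obj),
        AlgSp.LocP @LocallyOfFinitePresentation p ∧ AlgSp.LocP @Flat p ∧ AlgSp.IsSurjectiveMor p) :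
    IsClosed ({x} : Set (AlgSp.Points X.obj)) ↔ AlgSp.RepWith @IsClosedImmersion i.hom := by
  constructor
  · intro hx
    have hZred : EtaleLocally (fun U => IsReduced U) Z.obj := by
      obtain ⟨k, hk, str, p, -, hpf, hps⟩ := hZ
      exact ((Groth.Agent.S10366.result Z).2 ⟨k, hk, str, p, hpf, hps⟩).1
    obtain ⟨U, a, hae, has⟩ := X.property.atlas
    let T : Closeds ↥U.left := ⟨Points.ofPt a ⁻¹' {x}, hx.preimage (Points.continuous_ofPt a)⟩
    let I := Scheme.IdealSheafData.vanishingIdeal T
    haveI : IsReduced I.subscheme := isReduced_subscheme_vanishingIdeal T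
    let TS : Over S := Over.mk (I.subschemeι ≫ U.hom)
    let ι : TS ⟶ U := Over.homMk I.subschemeι rfl
    have hιmem : ∀ t : ↥TS.left, Points.ofPt a (ι.left t) = x := by
      intro t
      have : ι.left t ∈ (T : Set ↥U.left) := by
        rw [← range_subschemeι_vanishingIdeal T]; exact ⟨t, rfl⟩
      exact this
    let Y : AlgSp.Space S := ⟨(yon S).obj TS, IsAlgSpace.yon_obj TS⟩
    let f : Y ⟶ X := ObjectProperty.homMk ((yon S).map ι ≫ a)
    have hf : ∀ y : Points Y.obj, Points.map f.hom y = x := by
      intro y
      obtain ⟨t, rfl⟩ := (Points.schemeEquiv TS).surjective y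
      show Points.map ((yon S).map ι ≫ a) (Points.ofScheme TS t) = x
      rw [← Points.ofPt_eq_map_ofScheme, Groth.Agent.Lib.helper11.ofPt_yon_map_comp]
      exact hιmem t
    have hY : EtaleLocally (fun U => IsReduced U) Y.obj :=
      ⟨TS, 𝟙 _, repWith_id _ _, repWith_id _ _, (inferInstance : IsReduced I.subscheme)⟩
    obtain ⟨g, hg⟩ := Groth.Agent.S10415.result f x hf hY hX i hi hZ
    have hg' : g.hom ≫ i.hom = (yon S).map ι ≫ a := congrArg (fun k => k.hom) hg
    have hZU : IsAlgSpace (pullback i.hom a) :=
      Groth.Agent.Lib.helper5.isAlgSpace_of_isPullback X.property.diag Z.property (IsAlgSpace.yon_obj U)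
        (IsPullback.of_hasPullback _ _)
    let s : (yon S).obj TS ⟶ pullback i.hom a := pullback.lift g.hom ((yon S).map ι) hg'
    obtain ⟨W, b, hbe, hbs⟩ := hZU.atlas
    haveI : Epi b := epi_of_etale_surjective b hbe hbs
    have hfst : RepWith @Etale (pullback.fst i.hom a) :=
      MorphismProperty.of_isPullback (IsPullback.of_hasPullback i.hom a).flip hae
    have hW : IsReduced W.left := Groth.Agent.H1.EtaleReduced.isReduced_of_chart hZred
      (b ≫ pullback.fst i.hom a) ((RepWith (S := S) @Etale).comp_mem _ _ hbe hfst)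
    obtain ⟨ω, hω⟩ := (yon S).map_surjective (b ≫ pullback.snd i.hom a)
    have hrange : Set.range ω.left ⊆ (T : Set ↥U.left) := by
      rintro _ ⟨t, rfl⟩
      show Points.ofPt a (ω.left t) = x
      rw [← Groth.Agent.Lib.helper11.ofPt_yon_map_comp, hω, Category.assoc, ← pullback.condition,
        ← Category.assoc, ← Points.map_ofPt]
      have : Points.map i.hom (Points.ofPt (b ≫ pullback.fst i.hom a) t) ∈
          Set.range (Points.map i.hom) := ⟨_, rfl⟩
      rw [hi] at this
      exact this
    obtain ⟨l', hl'⟩ := exists_lift_subscheme ω.left T hrange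
    let l : W ⟶ TS := Over.homMk l' (by
      show l' ≫ I.subschemeι ≫ U.hom = W.hom
      rw [← Category.assoc, hl', Over.w ω])
    have hl : l ≫ ι = ω := by
      ext
      exact hl'
    haveI : Mono ι.left := inferInstanceAs (Mono I.subschemeι)
    haveI : Mono ι := Over.mono_of_mono_left ι
    haveI : Mono ((yon S).map ι) := inferInstance
    have hk : IsKernelPair b (pullback.fst b b) (pullback.snd b b) := IsPullback.of_hasPullback b b
    have key : pullback.fst b b ≫ (yon S).map l = pullback.snd b b ≫ (yon S).map l := by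
      rw [← cancel_mono ((yon S).map ι), Category.assoc, Category.assoc, ← Functor.map_comp, hl, hω,
        ← Category.assoc, ← Category.assoc, pullback.condition]
    have hcolim := isColimitOfEpiKernelPair b hk (𝟙 _) (Category.id_comp _) (Category.id_comp _)
      pullback.condition
    let r : pullback i.hom a ⟶ (yon S).obj TS := Cofork.IsColimit.desc hcolim ((yon S).map l) key
    have hr : b ≫ r = (yon S).map l := Cofork.IsColimit.π_desc' hcolim _ key
    have hrι : r ≫ (yon S).map ι = pullback.snd i.hom a := by
      rw [← cancel_epi b, ← Category.assoc, hr, ← Functor.map_comp, hl, hω]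
    have hsr : s ≫ r = 𝟙 _ := by
      rw [← cancel_mono ((yon S).map ι), Category.assoc, hrι, pullback.lift_snd, Category.id_comp]
    haveI : Mono (pullback.snd i.hom a) := inferInstance
    have hrs : r ≫ s = 𝟙 _ := by
      rw [← cancel_mono (pullback.snd i.hom a), Category.assoc, pullback.lift_snd, hrι, Category.id_comp]
    haveI : IsIso r := ⟨s, hrs, hsr⟩
    have hsnd : RepWith @IsClosedImmersion (pullback.snd i.hom a) := by
      rw [← hrι]
      exact MorphismProperty.RespectsIso.precomp _ r _
        ((repWith_yon_map_iff @IsClosedImmersion ι).2 (inferInstanceAs (IsClosedImmersion I.subschemeι)))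
    exact ((Groth.Agent.S10534.result S) (fun _ : PUnit.{u + 1} => (yon S).obj U) (fun _ => a) X.property
      (fun _ => IsAlgSpace.yon_obj U) (isFpqcCover_of_atlas X.property a hae has) i.hom Z.property
      (fun _ => pullback i.hom a) (fun _ => pullback.snd i.hom a) (fun _ => pullback.fst i.hom a)
      (fun _ => hZU) (fun _ => IsPullback.of_hasPullback i.hom a)).2 (fun _ => hsnd)
  · intro h
    rw [← hi]
    exact Groth.Agent.Lib.helper5.ProperSurj.isClosed_range_of_closedImmersion h

end Main

end Groth.Agent.Lib.helper5.ResidualClosed
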