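import Mathlib
import Groth.Agent.Lib.Helper5.ResidualSp1

/-!
# Residual spaces, chart version (helper5)

`exists_residualSpace_chart`: the residual space of a field point `q` whose self fibre product is a scheme etale over the
point, together with its etale surjective chart `z : h_{Spec K} ⟶ Z` and the monomorphism `i : Z ⟶ X`, `z ≫ i = q`.
-/

set_option autoImplicit false
universe u

open AlgebraicGeometry CategoryTheory CategoryTheory.Limits

namespace Groth.Agent.Lib.helper5.ResidualSp

open AlgSp Groth.Agent.Lib.Helper14.AlgSpQuot Groth.Agent.Lib.Helper14.RepSh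
open Groth.Agent.Lib.helper5.FppfBoot

variable {S : Scheme.{u}}

/-- The residual space of a field point whose self fibre product is a scheme etale over the point, with its chart. -/
theorem exists_residualSpace_chart {X : Sp S} (q : FieldPt X) {T : Over S} (s t : T ⟶ q.pt)
    (sq : IsPullback ((yon S).map t) ((yon S).map s) q.toHom q.toHom) (hs : Etale s.left) :
    ∃ (Z : Sp S) (_ : IsAlgSpace Z) (i : Z ⟶ X) (z : (yon S).obj q.pt ⟶ Z), Mono i ∧ z ≫ i = q.toHom ∧
      RepWith @Etale z ∧ RepWith @Surjective z := by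
  -- `t` is etale as well
  obtain ⟨σ, hσ1, hσ2⟩ := exists_swap sq
  have hσ' : ((yon S).preimageIso σ).hom ≫ s = t := by
    apply (yon S).map_injective
    rw [Functor.map_comp, Functor.preimageIso_hom, Functor.map_preimage]
    exact hσ2
  have ht : Etale t.left := by
    rw [← hσ', Over.comp_left]
    haveI : IsIso ((yon S).preimageIso σ).hom.left :=
      inferInstanceAs (IsIso ((Over.forget S).map ((yon S).preimageIso σ).hom))
    infer_instance
  have heqv : AlgSp.IsEqvRel s t := isEqvRel_of_isPullback_yon s t q.toHom sq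
  have hE : IsEtaleEqvRel s t := { toIsEqvRel := heqv, etale_left := hs, etale_right := ht }
  have hZ : IsAlgSpace (QuotSh.quot Scheme.fppfPrecoverage s t) := Groth.Agent.S9868.result S s t hE
  obtain ⟨i, hi, hmono⟩ := exists_mono_desc s t q.toHom sq
  have hsurj : Surjective t.left := by
    obtain ⟨r, hr1, hr2⟩ := (heqv.equivalence q.pt).refl (𝟙 q.pt)
    have e : r.left ≫ t.left = 𝟙 _ := by rw [← Over.comp_left, hr1, Over.id_left]
    refine ⟨fun x => ⟨r.left x, ?_⟩⟩
    rw [← Scheme.Hom.comp_apply, e]
    rfl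
  have hk := isPullback_quotMap heqv
  haveI : Etale t.left := ht
  haveI : LocallyOfFiniteType t.left := inferInstance
  have hrep : Representable (quotMap s t) :=
    Groth.Agent.H1.Boot.representable_of_kernelPair (quotMap s t) t s hk _
  have hpe : RepWith @Etale (quotMap s t) := repWith_of_kernelPair @Etale s t _ hrep hk ht
  have hps : RepWith @Surjective (quotMap s t) := repWith_of_kernelPair @Surjective s t _ hrep hk hsurj
  exact ⟨QuotSh.quot Scheme.fppfPrecoverage s t, hZ, i, quotMap s t, hmono, hi, hpe, hps⟩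

/-- The residual space of a point of an etale chart, with its chart. -/
theorem exists_residualSpace_of_chart {X : Sp S} {U : Over S} (φ : (yon S).obj U ⟶ X) (hφ : RepWith @Etale φ)
    (u : ↥U.left) :
    ∃ (Z : Sp S) (_ : IsAlgSpace Z) (i : Z ⟶ X) (z : (yon S).obj (FieldPt.ofPt φ u).pt ⟶ Z), Mono i ∧
      z ≫ i = (yon S).map (Groth.Agent.Lib.helper5.FieldQuot.ptι φ u) ≫ φ ∧
      RepWith @Etale z ∧ RepWith @Surjective z := by
  obtain ⟨T, s, t, sq, hs⟩ := Groth.Agent.Lib.helper5.FieldQuot.exists_chart_selfProduct φ hφ u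
  obtain ⟨Z, hZ, i, z, hm, hzi, hze, hzs⟩ := exists_residualSpace_chart (FieldPt.ofPt φ u) s t sq hs
  exact ⟨Z, hZ, i, z, hm, by rw [hzi, FieldPt.toHom_ofPt], hze, hzs⟩

end Groth.Agent.Lib.helper5.ResidualSp
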