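import Mathlib
import Groth.Agent.S3844
import Groth.Agent.S2879
import Groth.Agent.Lib.Helper7.AlgSpQC
import Groth.Agent.Lib.Helper5.FppfBoot5
import Groth.Agent.Lib.Helper5.AlgSpUniv3

/-!
# Factoring through an fppf surjection after factoring over a scheme theoretically dense open (helper5)

* `isSchematicallyDense_preimage_of_flat`: the preimage of a quasi-compact schematically dense open under a flat morphism
  of schemes is schematically dense.
* `eq_of_isSchematicallyDense_sp`: two morphisms from a scheme to a sheaf `Y` separated over `B` which agree over `B` and on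
  a schematically dense open agree.
* `exists_factor_of_factor_over_schDense` : the statement of S10129.
-/

set_option autoImplicit false
universe u

open AlgebraicGeometry CategoryTheory CategoryTheory.Limits

namespace Groth.Agent.Lib.helper5.SchDenseFactor

open AlgSp

/-- The preimage of a quasi-compact schematically dense open under a flat morphism is schematically dense. -/
theorem isSchematicallyDense_preimage_of_flat {X X' : Scheme.{u}} (f : X' ⟶ X) [Flat f]
    (V : X.Opens) [QuasiCompact V.ι] (hV : CInt.IsSchematicallyDense V) :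
    CInt.IsSchematicallyDense (f ⁻¹ᵁ V) := by
  haveI := Groth.Agent.S3844.dominant_of_dense V hV
  have hpb : IsPullback (f ∣_ V) (f ⁻¹ᵁ V).ι V.ι f := isPullback_morphismRestrict f V
  haveI : QuasiCompact (f ⁻¹ᵁ V).ι :=
    MorphismProperty.of_isPullback (P := @QuasiCompact) hpb inferInstance
  haveI : IsSchemeTheoreticallyDominant (f ⁻¹ᵁ V).ι :=
    IsSchemeTheoreticallyDominant.of_isPullback hpb
  exact Groth.Agent.S3844.dense_of_dominant _

variable {S : Scheme.{u}}

/-- The inclusion of an open subscheme, over `S`. -/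
abbrev opι (P : Over S) (W : P.left.Opens) : Over.mk (W.ι ≫ P.hom) ⟶ P := Over.homMk W.ι rfl

/-- Two morphisms from a scheme to a sheaf `Y` separated over `B` which agree over `B` and on a schematically dense open
agree. -/
theorem eq_of_isSchematicallyDense_sp {Y B : Sp S} (pY : Y ⟶ B) (hY : IsSeparatedMor pY) {P : Over S}
    (α β : (yon S).obj P ⟶ Y) (hαβ : α ≫ pY = β ≫ pY) (W : P.left.Opens)
    (hW : CInt.IsSchematicallyDense W)
    (h : (yon S).map (opι P W) ≫ α = (yon S).map (opι P W) ≫ β) : α = β := by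
  let δ : (yon S).obj P ⟶ pullback pY pY := pullback.lift α β hαβ
  obtain ⟨E, e, fstE, sq⟩ := hY.1 δ
  have he : IsClosedImmersion e.left := hY.2 _ _ _ sq
  have h1 : (yon S).map e ≫ α = fstE := by
    have := congrArg (fun m => m ≫ pullback.fst pY pY) sq.w
    simp only [Category.assoc, pullback.diagonal_fst, Category.comp_id] at this
    rw [this, pullback.lift_fst]
  have h2 : (yon S).map e ≫ β = fstE := by
    have := congrArg (fun m => m ≫ pullback.snd pY pY) sq.w
    simp only [Category.assoc, pullback.diagonal_snd, Category.comp_id] at this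
    rw [this, pullback.lift_snd]
  -- the open factors through `E`
  have hl : ((yon S).map (opι P W) ≫ α) ≫ pullback.diagonal pY = (yon S).map (opι P W) ≫ δ := by
    apply pullback.hom_ext
    · rw [Category.assoc, pullback.diagonal_fst, Category.comp_id, Category.assoc, pullback.lift_fst]
    · rw [Category.assoc, pullback.diagonal_snd, Category.comp_id, Category.assoc, pullback.lift_snd]
      exact h
  obtain ⟨l₀, hl₀⟩ := (yon S).map_surjective (sq.lift _ _ hl)
  have hl1 : l₀ ≫ e = opι P W := by
    apply (yon S).map_injective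
    rw [Functor.map_comp, hl₀, sq.lift_snd]
  have hl2 : l₀.left ≫ e.left = W.ι := by
    rw [← Over.comp_left, hl1]
    rfl
  have hker : e.left.ker = ⊥ := by
    have := Scheme.Hom.le_ker_comp l₀.left e.left
    rw [hl2, Groth.Agent.S2879.ker_ι_eq_bot_of_isSchematicallyDense W hW] at this
    exact le_bot_iff.1 this
  haveI hiso : IsIso e.left := IsClosedImmersion.isIso_iff_ker_eq_bot.2 hker
  haveI : IsIso ((Over.forget S).map e) := hiso
  haveI : IsIso e := isIso_of_reflects_iso e (Over.forget S)
  haveI : IsIso ((yon S).map e) := inferInstance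
  rw [← cancel_epi ((yon S).map e), h1, h2]

open Groth.Agent.Lib.helper5.FppfBoot Groth.Agent.Lib.Helper14.RepSh in
/-- A surjective, flat, locally finitely presented morphism of algebraic spaces is an epimorphism of sheaves. -/
theorem epi_of_fppf {X Z : Sp S} (hX : IsAlgSpace X) (hZ : IsAlgSpace Z) (g : X ⟶ Z)
    (hgs : IsSurjectiveMor g) (hgf : LocP @Flat g) (hgp : LocP @LocallyOfFinitePresentation g) : Epi g := by
  refine epi_of_repBySpWith_fppf g ?_
  intro T ξ F' fst snd sq
  have hT : IsAlgSpace ((yon S).obj T) := IsAlgSpace.yon_obj T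
  refine ⟨Groth.Agent.Lib.helper5.isAlgSpace_of_isPullback hZ.diag hX hT sq, ⟨?_, ?_⟩, ?_⟩
  · exact Groth.Agent.Lib.helper5.isSurjectiveMor_of_isPullback sq.flip hgs
  · exact locP_flat_of_isPullback hX hZ g ξ fst snd sq hgf
  · exact locP_lfp_of_isPullback hX hZ g ξ fst snd sq hgp

open Groth.Agent.Lib.helper5.FppfBoot Groth.Agent.Lib.Helper14.RepSh in
/-- **S10129.** -/
theorem exists_factor {B X Y Z : Sp S} (hX : IsAlgSpace X) (hZ : IsAlgSpace Z)
    (pX : X ⟶ B) (pY : Y ⟶ B) (pZ : Z ⟶ B)
    (f : X ⟶ Y) (g : X ⟶ Z) (hf : f ≫ pY = pX) (hg : g ≫ pZ = pX)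
    (hY : IsSeparatedMor pY)
    (hgs : IsSurjectiveMor g) (hgf : LocP @Flat g) (hgp : LocP @LocallyOfFinitePresentation g)
    (V : Sp S) (v : V ⟶ Z) (hv : IsSchDense v) (hvq : IsQuasiCompactMor v)
    (hfac : ∃ φ : V ⟶ Y, pullback.fst g v ≫ f = pullback.snd g v ≫ φ) :
    ∃ h : Z ⟶ Y, g ≫ h = f := by
  haveI : Epi g := epi_of_fppf hX hZ g hgs hgf hgp
  obtain ⟨φ', hφ'⟩ := hfac
  obtain ⟨hvo, V₀, φ, W, fstW, hφe, hφs, sqW, hWd⟩ := hv
  -- the kernel pair and its atlas
  have hk : IsKernelPair g (pullback.fst g g) (pullback.snd g g) := IsPullback.of_hasPullback g g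
  have hK : IsAlgSpace (pullback g g) :=
    Groth.Agent.Lib.helper5.isAlgSpace_of_isPullback hZ.diag hX hX hk
  obtain ⟨T, c, hce, hcs⟩ := hK.atlas
  haveI : Epi c := Groth.Agent.Lib.helper5.epi_of_etale_surjective c hce hcs
  have hw : pullback.fst g g ≫ g = pullback.snd g g ≫ g := pullback.condition
  have key : pullback.fst g g ≫ f = pullback.snd g g ≫ f := by
    rw [← cancel_epi c, ← Category.assoc, ← Category.assoc]
    have hab : (c ≫ pullback.fst g g) ≫ g = (c ≫ pullback.snd g g) ≫ g := by
      rw [Category.assoc, Category.assoc, hw]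
    generalize hadef : c ≫ pullback.fst g g = a at hab
    generalize hbdef : c ≫ pullback.snd g g = b at hab
    -- `a ≫ g` is flat
    have hk1 : LocP @Flat (pullback.fst g g) :=
      locP_flat_of_isPullback hX hZ g g (pullback.snd g g) (pullback.fst g g) hk.flip hgf
    have hcf : LocP @Flat c := locP_of_repWith_etale @Flat
      (fun f hf => by haveI : Etale f := hf; infer_instance) _ hce
    have haf : LocP @Flat a := by
      rw [← hadef]
      exact locP_flat_comp hK c _ hcf hk1
    have hζf : LocP @Flat (a ≫ g) := locP_flat_comp hX a g haf hgf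
    -- the chart of `Z` pulled back
    obtain ⟨T', r, ζ'', sqT⟩ := hφe.1 (a ≫ g)
    obtain ⟨ζ', rfl⟩ := (yon S).map_surjective ζ''
    have hr : Etale r.left := hφe.2 _ _ _ sqT
    have hrs : Surjective r.left := hφs.2 _ _ _ sqT
    have hre : RepWith @Etale ((yon S).map r) := (repWith_yon_map_iff @Etale r).2 hr
    have hrss : RepWith @Surjective ((yon S).map r) := (repWith_yon_map_iff @Surjective r).2 hrs
    haveI : Epi ((yon S).map r) := Groth.Agent.Lib.helper5.epi_of_etale_surjective _ hre hrss
    haveI hζ'f : Flat ζ'.left := hζf ((yon S).map r) φ ζ' hre hφe sqT.w.symm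
    haveI hWq : QuasiCompact W.ι :=
      (Groth.Agent.Lib.helper7.AlgSpQC.repWith_of_isQuasiCompactMor hvo.rep hvq).2 φ fstW
        (opι V₀ W) sqW
    have hW' : CInt.IsSchematicallyDense (ζ'.left ⁻¹ᵁ W) :=
      isSchematicallyDense_preimage_of_flat ζ'.left W hWd
    -- the two maps agree over `B`
    have hαβ : ((yon S).map r ≫ a ≫ f) ≫ pY = ((yon S).map r ≫ b ≫ f) ≫ pY := by
      simp only [Category.assoc]
      rw [hf, ← hg, ← Category.assoc a, ← Category.assoc b, hab]
    -- the two maps agree on the dense open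
    let w' : Over.mk ((ζ'.left ⁻¹ᵁ W).ι ≫ T'.hom) ⟶ Over.mk (W.ι ≫ V₀.hom) :=
      Over.homMk (ζ'.left ∣_ W) (by
        change (ζ'.left ∣_ W) ≫ W.ι ≫ V₀.hom = (ζ'.left ⁻¹ᵁ W).ι ≫ T'.hom
        rw [← Category.assoc, morphismRestrict_ι, Category.assoc, Over.w ζ'])
    have hw' : opι T' (ζ'.left ⁻¹ᵁ W) ≫ ζ' = w' ≫ opι V₀ W := by
      apply Over.OverMorphism.ext
      change (ζ'.left ⁻¹ᵁ W).ι ≫ ζ'.left = (ζ'.left ∣_ W) ≫ W.ι
      rw [morphismRestrict_ι]
    have hμ : ((yon S).map w' ≫ fstW) ≫ v =
        (yon S).map (opι T' (ζ'.left ⁻¹ᵁ W)) ≫ (yon S).map r ≫ a ≫ g := by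
      rw [Category.assoc, sqW.w, ← Category.assoc, ← Functor.map_comp, ← hw', Functor.map_comp,
        Category.assoc, sqT.w]
    have hagree : (yon S).map (opι T' (ζ'.left ⁻¹ᵁ W)) ≫ ((yon S).map r ≫ a ≫ f) =
        (yon S).map (opι T' (ζ'.left ⁻¹ᵁ W)) ≫ ((yon S).map r ≫ b ≫ f) := by
      have ha1 : ((yon S).map (opι T' (ζ'.left ⁻¹ᵁ W)) ≫ (yon S).map r ≫ a) ≫ g =
          ((yon S).map w' ≫ fstW) ≫ v := by
        rw [hμ]; simp only [Category.assoc]
      have hb1 : ((yon S).map (opι T' (ζ'.left ⁻¹ᵁ W)) ≫ (yon S).map r ≫ b) ≫ g =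
          ((yon S).map w' ≫ fstW) ≫ v := by
        rw [hμ]; simp only [Category.assoc]; rw [hab]
      have e1 : (yon S).map (opι T' (ζ'.left ⁻¹ᵁ W)) ≫ ((yon S).map r ≫ a ≫ f) =
          ((yon S).map w' ≫ fstW) ≫ φ' := by
        have := congrArg (fun m => pullback.lift _ _ ha1 ≫ m) hφ'
        simp only [← Category.assoc, pullback.lift_fst, pullback.lift_snd] at this
        simpa only [Category.assoc] using this
      have e2 : (yon S).map (opι T' (ζ'.left ⁻¹ᵁ W)) ≫ ((yon S).map r ≫ b ≫ f) =
          ((yon S).map w' ≫ fstW) ≫ φ' := by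
        have := congrArg (fun m => pullback.lift _ _ hb1 ≫ m) hφ'
        simp only [← Category.assoc, pullback.lift_fst, pullback.lift_snd] at this
        simpa only [Category.assoc] using this
      rw [e1, e2]
    have := eq_of_isSchematicallyDense_sp pY hY _ _ hαβ (ζ'.left ⁻¹ᵁ W) hW' hagree
    exact (cancel_epi ((yon S).map r)).1 this
  -- descend
  have hcolim := isColimitOfEpiKernelPair g hk (𝟙 _) (Category.id_comp _) (Category.id_comp _) hw
  exact ⟨Cofork.IsColimit.desc hcolim f key, Cofork.IsColimit.π_desc' hcolim f key⟩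

end Groth.Agent.Lib.helper5.SchDenseFactor
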