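import Mathlib
import Groth.Agent.Lib.Helper5.SchDenseFactor1

/-!
# Flat pullback of quasi-compact scheme theoretically dense opens of algebraic spaces (helper5)
-/

set_option autoImplicit false
universe u

open AlgebraicGeometry CategoryTheory CategoryTheory.Limits

namespace Groth.Agent.Lib.helper5.SchDenseFactor

open AlgSp

variable {S : Scheme.{u}}

/-- The inverse image of a quasi-compact scheme theoretically dense open under a flat morphism of algebraic spaces is
scheme theoretically dense. -/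
theorem isSchDense_of_isPullback_flat {X Y V V' : Sp S} (hX : IsAlgSpace X) (hY : IsAlgSpace Y) (f : X ⟶ Y)
    (hf : LocP @Flat f) (j : V ⟶ Y) (hj : IsSchDense j) (hjq : IsQuasiCompactMor j)
    (fst : V' ⟶ V) (jX : V' ⟶ X) (sq : IsPullback fst jX j f) : IsSchDense jX := by
  obtain ⟨hjo, V₀, φ, W, fstW, hφe, hφs, sqW, hWd⟩ := hj
  refine ⟨(repWith_isStableUnderBaseChange (S := S) @IsOpenImmersion).of_isPullback sq hjo, ?_⟩
  -- the chart `X ×_Y V₀` of `X`
  have sqX : IsPullback (pullback.fst f φ) (pullback.snd f φ) f φ := IsPullback.of_hasPullback f φ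
  have hX' : IsAlgSpace (pullback f φ) :=
    Groth.Agent.Lib.helper5.isAlgSpace_of_isPullback hY.diag hX (IsAlgSpace.yon_obj V₀) sqX
  have hp1e : RepWith @Etale (pullback.fst f φ) :=
    (repWith_isStableUnderBaseChange (S := S) @Etale).of_isPullback sqX.flip hφe
  have hp1s : RepWith @Surjective (pullback.fst f φ) :=
    (repWith_isStableUnderBaseChange (S := S) @Surjective).of_isPullback sqX.flip hφs
  obtain ⟨A, a, hae, has⟩ := hX'.atlas
  have hφ₁e : RepWith @Etale (a ≫ pullback.fst f φ) :=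
    (repWith_isMultiplicative (S := S) @Etale).comp_mem _ _ hae hp1e
  have hφ₁s : RepWith @Surjective (a ≫ pullback.fst f φ) :=
    (repWith_isMultiplicative (S := S) @Surjective).comp_mem _ _ has hp1s
  obtain ⟨ζ', hζ'⟩ := (yon S).map_surjective (a ≫ pullback.snd f φ)
  have hcomm : (a ≫ pullback.fst f φ) ≫ f = (yon S).map ζ' ≫ φ := by
    rw [Category.assoc, sqX.w, ← Category.assoc, hζ']
  haveI hζ'f : Flat ζ'.left := hf (a ≫ pullback.fst f φ) φ ζ' hφ₁e hφe hcomm
  haveI hWq : QuasiCompact W.ι :=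
    (Groth.Agent.Lib.helper7.AlgSpQC.repWith_of_isQuasiCompactMor hjo.rep hjq).2 φ fstW
      (opι V₀ W) sqW
  have hW' : CInt.IsSchematicallyDense (ζ'.left ⁻¹ᵁ W) :=
    isSchematicallyDense_preimage_of_flat ζ'.left W hWd
  let w' : Over.mk ((ζ'.left ⁻¹ᵁ W).ι ≫ A.hom) ⟶ Over.mk (W.ι ≫ V₀.hom) :=
    Over.homMk (ζ'.left ∣_ W) (by
      change (ζ'.left ∣_ W) ≫ W.ι ≫ V₀.hom = (ζ'.left ⁻¹ᵁ W).ι ≫ A.hom
      rw [← Category.assoc, morphismRestrict_ι, Category.assoc, Over.w ζ'])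
  have sq0 : IsPullback w' (opι A (ζ'.left ⁻¹ᵁ W)) (opι V₀ W) ζ' := by
    refine IsPullback.of_map (Over.forget S) ?_ ?_
    · apply Over.OverMorphism.ext
      change (ζ'.left ∣_ W) ≫ W.ι = (ζ'.left ⁻¹ᵁ W).ι ≫ ζ'.left
      rw [morphismRestrict_ι]
    · exact isPullback_morphismRestrict ζ'.left W
  have sq1 := (sq0.map (yon S)).paste_horiz sqW
  rw [← hcomm] at sq1
  have hl : ((yon S).map w' ≫ fstW) ≫ j =
      ((yon S).map (opι A (ζ'.left ⁻¹ᵁ W)) ≫ a ≫ pullback.fst f φ) ≫ f := by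
    rw [sq1.w]
    simp only [Category.assoc]
  refine ⟨A, a ≫ pullback.fst f φ, ζ'.left ⁻¹ᵁ W, sq.lift _ _ hl, hφ₁e, hφ₁s, ?_, hW'⟩
  refine IsPullback.of_right ?_ (sq.lift_snd _ _ hl) sq
  rw [sq.lift_fst]
  exact sq1

end Groth.Agent.Lib.helper5.SchDenseFactor
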