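import Groth.Agent.Lib.Helper5.AlgSpImmDesc2
import Groth.Agent.Lib.Helper5.AlgSpQAffDesc2

/-!
Bridging scheme-level descent statements and the algebraic-space descent library (helper5).
-/

set_option autoImplicit false
universe u
open CategoryTheory CategoryTheory.Limits AlgebraicGeometry Opposite
open AlgSp

namespace Groth.Agent.Lib.helper5.Bridge

variable {Z : Scheme.{u}}

/-- The terminal object of `Over Z`. -/
abbrev term (Z : Scheme.{u}) : Over Z := Over.mk (𝟙 Z)

/-- The structure morphism as a morphism to the terminal object. -/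
abbrev toTerm {X : Scheme.{u}} (f : X ⟶ Z) : Over.mk f ⟶ term Z := Over.homMk f (by simp)

/-- A pullback square of schemes over `Z` as a pullback square in `Over Z`. -/
theorem isPullback_over {A X Y : Scheme.{u}} {fst : A ⟶ X} {snd : A ⟶ Y} {f : X ⟶ Z} {g : Y ⟶ Z}
    (h : IsPullback fst snd f g) :
    IsPullback (Over.homMk fst rfl : Over.mk (fst ≫ f) ⟶ Over.mk f)
      (Over.homMk snd h.w.symm : Over.mk (fst ≫ f) ⟶ Over.mk g) (toTerm f) (toTerm g) := by
  refine IsPullback.of_map (Over.forget Z) ?_ ?_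
  · ext1
    simp only [Over.comp_left, Over.homMk_left]
    exact h.w
  · simpa using h

/-- The same square in sheaves. -/
theorem isPullback_yon {A X Y : Scheme.{u}} {fst : A ⟶ X} {snd : A ⟶ Y} {f : X ⟶ Z} {g : Y ⟶ Z}
    (h : IsPullback fst snd f g) :
    IsPullback ((yon Z).map (Over.homMk fst rfl : Over.mk (fst ≫ f) ⟶ Over.mk f))
      ((yon Z).map (Over.homMk snd h.w.symm : Over.mk (fst ≫ f) ⟶ Over.mk g))
      ((yon Z).map (toTerm f)) ((yon Z).map (toTerm g)) :=
  (isPullback_over h).map (yon Z)

/-- `LocP P` of a morphism of schemes with `P`. -/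
theorem locP_yon_map {P : MorphismProperty Scheme.{u}} (hP : LocPBC.LocPData.{u} P) {U V : Over Z} (g : U ⟶ V)
    (h : P g.left) : LocP P ((yon Z).map g) := by
  intro A B a b k ha hb hsq
  obtain ⟨a', rfl⟩ := (yon Z).map_surjective a
  obtain ⟨b', rfl⟩ := (yon Z).map_surjective b
  have ha' : Etale a'.left := (repWith_yon_map_iff @Etale a').1 ha
  have hb' : Etale b'.left := (repWith_yon_map_iff @Etale b').1 hb
  have e : a' ≫ g = k ≫ b' := (yon Z).map_injective (by simpa using hsq)
  have h1 : P (a'.left ≫ g.left) := hP.pre _ _ ha' h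
  have h2 : P (k.left ≫ b'.left) := by
    rw [← Over.comp_left, ← e]; exact h1
  exact hP.cancel _ _ hb' h2

/-- A surjective morphism of schemes gives a family jointly surjective on points. -/
theorem surjective_points_toTerm {X : Scheme.{u}} (f : X ⟶ Z) [Surjective f] (x : Points ((yon Z).obj (term Z))) :
    x ∈ Set.range (Points.map ((yon Z).map (toTerm f))) := by
  obtain ⟨z, rfl⟩ := (Points.schemeHomeo (term Z)).surjective x
  obtain ⟨x', hx'⟩ := f.surjective z
  refine ⟨Points.schemeHomeo (Over.mk f) x', ?_⟩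
  rw [Points.map_yon_map_apply]
  exact congrArg _ hx'

/-- A surjective flat morphism locally of finite presentation is an fppf covering of the terminal sheaf over its target. -/
theorem isFppfCover_of_hom {X : Scheme.{u}} (f : X ⟶ Z) [Surjective f] [Flat f] [LocallyOfFinitePresentation f] :
    IsFppfCover (S := Z) (ι := PUnit.{u + 1}) (fun _ => (yon Z).obj (Over.mk f))
      (fun _ => (yon Z).map (toTerm f)) :=
  ⟨fun _ => ⟨locP_yon_map LocPBC.locPData_flat (toTerm f) (inferInstanceAs (Flat f)),
    locP_yon_map LocPBC.locPData_lfp (toTerm f) (inferInstanceAs (LocallyOfFinitePresentation f))⟩,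
    fun x => ⟨PUnit.unit, surjective_points_toTerm f x⟩⟩

/-- Immersions descend along fppf morphisms of schemes. -/
theorem isImmersion_of_isPullback_fppf {A X Y : Scheme.{u}} {fst : A ⟶ X} {snd : A ⟶ Y} {f : X ⟶ Z} {g : Y ⟶ Z}
    (h : IsPullback fst snd f g) [Surjective f] [Flat f] [LocallyOfFinitePresentation f]
    (hfst : IsImmersion fst) : IsImmersion g := by
  have hloc := ImmDesc.isLocalOnBase_fppf_repWith_isImmersion (S := Z) (ι := PUnit.{u + 1})
    (fun _ => (yon Z).obj (Over.mk f)) (fun _ => (yon Z).map (toTerm f)) (IsAlgSpace.yon_obj _)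
    (fun _ => IsAlgSpace.yon_obj _) (isFppfCover_of_hom f) ((yon Z).map (toTerm g)) (IsAlgSpace.yon_obj _)
    (fun _ => (yon Z).obj (Over.mk (fst ≫ f)))
    (fun _ => (yon Z).map (Over.homMk fst rfl : Over.mk (fst ≫ f) ⟶ Over.mk f))
    (fun _ => (yon Z).map (Over.homMk snd h.w.symm : Over.mk (fst ≫ f) ⟶ Over.mk g))
    (fun _ => IsAlgSpace.yon_obj _) (fun _ => (isPullback_yon h).flip)
  have h1 := hloc.2 (fun _ => (repWith_yon_map_iff @IsImmersion _).2 hfst)
  exact (repWith_yon_map_iff @IsImmersion _).1 h1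

end Groth.Agent.Lib.helper5.Bridge
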