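import Mathlib

/-!
A finite coproduct of affine schemes finite over an affine scheme is finite over it (helper5).
-/

set_option autoImplicit false
universe u
open CategoryTheory CategoryTheory.Limits AlgebraicGeometry Opposite

namespace Groth.Agent.Lib.helper5.SigmaFinite

/-- Integrality can be checked after a jointly injective finite family of ring maps. -/
theorem isIntegral_of_jointly_injective {A B : Type*} [CommRing A] [CommRing B] (f : A →+* B)
    {κ : Type*} [Finite κ] (C : κ → Type*) [∀ k, CommRing (C k)] (e : ∀ k, B →+* C k)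
    (hinj : ∀ b : B, (∀ k, e k b = 0) → b = 0) (h : ∀ k, ((e k).comp f).IsIntegral) : f.IsIntegral := by
  classical
  have : Fintype κ := Fintype.ofFinite κ
  intro b
  choose p hp using fun k => h k (e k b)
  refine ⟨∏ k, p k, Polynomial.monic_prod_of_monic _ _ (fun k _ => (hp k).1), ?_⟩
  apply hinj
  intro k
  rw [Polynomial.hom_eval₂, Polynomial.eval₂_finsetProd]
  exact Finset.prod_eq_zero (Finset.mem_univ k) (hp k).2

theorem isFinite_sigmaDesc_of_isAffine {κ : Type u} [Finite κ] {T : Scheme.{u}} [IsAffine T]
    (X : κ → Scheme.{u}) [∀ k, IsAffine (X k)] (q : ∀ k, X k ⟶ T) (hq : ∀ k, IsFinite (q k)) :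
    IsFinite (Sigma.desc q) := by
  rw [IsFinite.iff_isIntegralHom_and_locallyOfFiniteType]
  refine ⟨?_, ?_⟩
  · rw [HasAffineProperty.iff_of_isAffine (P := @IsIntegralHom)]
    refine ⟨inferInstance, ?_⟩
    refine isIntegral_of_jointly_injective _ (fun k => Γ(X k, ⊤))
      (fun k => (Sigma.ι X k).appTop.hom) ?_ ?_
    · intro b hb
      exact Scheme.zero_of_zero_cover b (sigmaOpenCover X) (fun k => hb k)
    · intro k
      have h1 : IsIntegralHom (q k) :=
        ((IsFinite.iff_isIntegralHom_and_locallyOfFiniteType (q k)).1 (hq k)).1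
      have h2 := ((HasAffineProperty.iff_of_isAffine (P := @IsIntegralHom)).1 h1).2
      have h3 : (q k).appTop = (Sigma.desc q).appTop ≫ (Sigma.ι X k).appTop := by
        rw [← Scheme.Hom.comp_appTop, Sigma.ι_desc]
      have h2' : (q k).appTop.hom.IsIntegral := h2
      rw [h3] at h2'
      exact h2'
  · have : ∀ k, LocallyOfFiniteType (q k) := fun k =>
      ((IsFinite.iff_isIntegralHom_and_locallyOfFiniteType (q k)).1 (hq k)).2
    exact IsZariskiLocalAtSource.sigmaDesc (P := @LocallyOfFiniteType) (fun k => this k)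

end Groth.Agent.Lib.helper5.SigmaFinite
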