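import Mathlib
import Groth.Prelude.Def_Flat
import Groth.Agent.Lib.Helper5.SmoothFibreDim

/-!
# Local constancy of the fibre dimension of a smooth morphism (helper5)

* `fibreDimAt_of_etale_mvPolynomial`: if `Γ(Y,U) → Γ(X,V)` factors as `Γ(Y,U) → Γ(Y,U)[X₁..Xₙ] → Γ(X,V)` with the second
  map étale, then `fibreDimAt f x = n` for all `x ∈ V`.
* `exists_open_fibreDimAt_eq_of_smooth`: for `f` smooth and `x : X` there are an open `V ∋ x` and `n : ℕ` with
  `fibreDimAt f x' = n` for all `x' ∈ V`.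
-/

set_option autoImplicit false
universe u
open CategoryTheory CategoryTheory.Limits AlgebraicGeometry TensorProduct

namespace Groth.Agent.Lib.helper5.SmoothFibreDim

open FlatMor

theorem fibreDimAt_of_etale_mvPolynomial (n : ℕ) {X Y : Scheme.{u}} (f : X ⟶ Y) {U : Y.Opens}
    (hU : IsAffineOpen U) {V : X.Opens} (hV : IsAffineOpen V) (e : V ≤ f ⁻¹ᵁ U)
    (g : MvPolynomial (Fin n) Γ(Y, U) →+* Γ(X, V)) (hgC : g.comp MvPolynomial.C = (f.appLE U V e).hom)
    (hg : g.Etale) (x : X) (hxV : x ∈ V) : fibreDimAt f x = (n : WithBot ℕ∞) := by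
  obtain ⟨x', rfl⟩ : ∃ x' : Spec Γ(X, V), hV.fromSpec x' = x := by
    have : x ∈ Set.range hV.fromSpec := by rw [hV.range_fromSpec]; exact hxV
    exact this
  haveI : Etale (Spec.map (CommRingCat.ofHom g)) := by
    rw [HasRingHomProperty.Spec_iff (P := @Etale)]
    exact hg
  have hfac : Spec.map (f.appLE U V e) = Spec.map (CommRingCat.ofHom g) ≫
      Spec.map (CommRingCat.ofHom (MvPolynomial.C : Γ(Y, U) →+* MvPolynomial (Fin n) Γ(Y, U))) := by
    rw [← Spec.map_comp, ← CommRingCat.ofHom_comp, hgC]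
    rfl
  rw [← FibreDimLocal.fibreDimAt_comp_etale_left hV.fromSpec f x',
    ← IsAffineOpen.SpecMap_appLE_fromSpec f hU hV e,
    FibreDimLocal.fibreDimAt_comp_etale_right, hfac, FibreDimLocal.fibreDimAt_comp_etale_left,
    fibreDimAt_affineSpace]

/-- The local fibre dimension of a smooth morphism is locally constant (and finite). -/
theorem exists_open_fibreDimAt_eq_of_smooth {X Y : Scheme.{u}} (f : X ⟶ Y) [Smooth f] (x : X) :
    ∃ (V : X.Opens) (n : ℕ), x ∈ V ∧ ∀ x' ∈ V, fibreDimAt f x' = (n : WithBot ℕ∞) := by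
  obtain ⟨U, hU, V, hV, hxV, e, hf⟩ := Smooth.exists_isStandardSmooth f x
  obtain ⟨n, g, hgC, hg⟩ := hf.exists_etale_mvPolynomial
  exact ⟨V, n, hxV, fun x' hx' => fibreDimAt_of_etale_mvPolynomial n f hU hV e g hgC hg x' hx'⟩

end Groth.Agent.Lib.helper5.SmoothFibreDim
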