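import Mathlib.RingTheory.Henselian
import Mathlib.FieldTheory.IsSepClosed
import Mathlib.RingTheory.LocalRing.ResidueField.Basic
import Mathlib.RingTheory.Polynomial.Basic
import Mathlib.Algebra.Polynomial.Lifts

/-!
# An abstract criterion for a ring to be strictly henselian (helper5)

A ring `A` with a ring homomorphism `ev : A → K` to a separably closed field such that elements with nonzero value are
units, and such that simple roots in `K` of monic polynomials lift to roots in `A`, is a henselian local ring with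
separably closed residue field.
-/

set_option autoImplicit false
open Polynomial

namespace Groth.Agent.Lib.helper5.StrictHens

variable {A K : Type*} [CommRing A] [Field K] (ev : A →+* K)

theorem isLocalRing_of_ev (hL : ∀ a, ev a ≠ 0 → IsUnit a) : IsLocalRing A := by
  have : Nontrivial A := ev.domain_nontrivial
  refine IsLocalRing.of_isUnit_or_isUnit_one_sub_self fun a => ?_
  by_cases h : ev a = 0
  · right
    apply hL
    rw [map_sub, map_one, h, sub_zero]
    exact one_ne_zero
  · exact Or.inl (hL a h)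

theorem mem_maximalIdeal_iff [IsLocalRing A] (hL : ∀ a, ev a ≠ 0 → IsUnit a) (a : A) :
    a ∈ IsLocalRing.maximalIdeal A ↔ ev a = 0 := by
  rw [IsLocalRing.mem_maximalIdeal, mem_nonunits_iff]
  constructor
  · intro h
    by_contra h'
    exact h (hL a h')
  · intro h hu
    have := hu.map ev
    rw [h] at this
    exact not_isUnit_zero this

/-- the induced embedding of the residue field into `K` -/
noncomputable def resEmb [IsLocalRing A] (hL : ∀ a, ev a ≠ 0 → IsUnit a) : IsLocalRing.ResidueField A →+* K :=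
  Ideal.Quotient.lift _ ev (fun a ha => (mem_maximalIdeal_iff ev hL a).1 ha)

theorem resEmb_residue [IsLocalRing A] (hL : ∀ a, ev a ≠ 0 → IsUnit a) (a : A) :
    resEmb ev hL (IsLocalRing.residue A a) = ev a := rfl

theorem henselian_of_ev (hL : ∀ a, ev a ≠ 0 → IsUnit a)
    (hH : ∀ f : A[X], f.Monic → ∀ a₀ : K, (f.map ev).eval a₀ = 0 → (f.map ev).derivative.eval a₀ ≠ 0 →
      ∃ a, f.eval a = 0 ∧ ev a = a₀) : HenselianLocalRing A := by
  have hloc := isLocalRing_of_ev ev hL
  refine { hloc with is_henselian := ?_ }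
  intro f hf a₀ h1 h2
  have e1 : (f.map ev).eval (ev a₀) = 0 := by
    rw [eval_map_apply]
    exact (mem_maximalIdeal_iff ev hL _).1 h1
  have e2 : (f.map ev).derivative.eval (ev a₀) ≠ 0 := by
    rw [derivative_map, eval_map_apply]
    exact (h2.map ev).ne_zero
  obtain ⟨a, ha1, ha2⟩ := hH f hf (ev a₀) e1 e2
  refine ⟨a, ha1, ?_⟩
  rw [mem_maximalIdeal_iff ev hL, map_sub, ha2, sub_self]

theorem isSepClosed_residueField [IsSepClosed K] [IsLocalRing A] (hL : ∀ a, ev a ≠ 0 → IsUnit a)
    (hH : ∀ f : A[X], f.Monic → ∀ a₀ : K, (f.map ev).eval a₀ = 0 → (f.map ev).derivative.eval a₀ ≠ 0 →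
      ∃ a, f.eval a = 0 ∧ ev a = a₀) : IsSepClosed (IsLocalRing.ResidueField A) := by
  refine IsSepClosed.of_exists_root _ fun g hgm hgi hgs => ?_
  let ι := resEmb ev hL
  obtain ⟨f, hf1, -, hf2⟩ := Polynomial.lifts_and_degree_eq_and_monic
    ((Polynomial.mem_lifts g).2 (Polynomial.map_surjective _ (IsLocalRing.residue_surjective) g))
    hgm
  have hfι : f.map ev = g.map ι := by
    rw [← hf1, Polynomial.map_map]
    rfl
  have hsep : (g.map ι).Separable := hgs.map
  have hdeg : (g.map ι).degree ≠ 0 := by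
    rw [Polynomial.degree_map]
    exact fun h => hgi.not_isUnit (Polynomial.isUnit_iff_degree_eq_zero.2 h)
  obtain ⟨a₀, ha₀⟩ := IsSepClosed.exists_root (g.map ι) hdeg hsep
  have hder : (g.map ι).derivative.eval a₀ ≠ 0 := by
    have := hsep.eval₂_derivative_ne_zero (RingHom.id K) (x := a₀) (by rw [eval₂_id]; exact ha₀)
    rwa [eval₂_id] at this
  obtain ⟨a, ha1, -⟩ := hH f hf2 a₀ (by rw [hfι]; exact ha₀) (by rw [hfι]; exact hder)
  refine ⟨IsLocalRing.residue A a, ?_⟩
  rw [← hf1, eval_map_apply, ha1, map_zero]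

end Groth.Agent.Lib.helper5.StrictHens
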