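import Groth.Agent.Lib.Helper5.StrictHensAlg
import Mathlib.CategoryTheory.Sites.Point.Basic
import Mathlib.Algebra.Category.Ring.FilteredColimits

/-!
# Fibres of presheaves of rings at points of sites: a criterion to be strictly henselian (helper5)
-/

set_option autoImplicit false
universe w w' v u
open CategoryTheory CategoryTheory.Limits Opposite Polynomial

namespace Groth.Agent.Lib.helper5.StrictHens

variable {𝒞 : Type u} [Category.{v} 𝒞] {J : GrothendieckTopology 𝒞} (Φ : GrothendieckTopology.Point.{w} J)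
  [LocallySmall.{w} 𝒞] (P : 𝒞ᵒᵖ ⥤ CommRingCat.{w'}) [HasColimitsOfSize.{w, w} CommRingCat.{w'}]
  [PreservesFilteredColimitsOfSize.{w, w} (forget CommRingCat.{w'})]

/-- the germ map as a ring homomorphism -/
noncomputable abbrev germ (U : 𝒞) (x : Φ.fiber.obj U) : ↑(P.obj (op U)) →+* ↑(Φ.presheafFiber.obj P) :=
  (Φ.toPresheafFiber U x P).hom

theorem germ_comp {U V : 𝒞} (g : V ⟶ U) (y : Φ.fiber.obj V) :
    (germ Φ P V y).comp (P.map g.op).hom = germ Φ P U (Φ.fiber.map g y) := by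
  have := Φ.toPresheafFiber_w g y P
  exact congrArg CommRingCat.Hom.hom this

/-- polynomials of bounded degree over the fibre descend to some level -/
theorem exists_poly_lift (n : ℕ) (r : (↑(Φ.presheafFiber.obj P))[X]) (hr : r.degree < n) :
    ∃ (U : 𝒞) (x : Φ.fiber.obj U) (r' : (↑(P.obj (op U)))[X]),
      r'.degree < n ∧ r'.map (germ Φ P U x) = r := by
  induction n generalizing r with
  | zero =>
    have hr0 : r = 0 := by
      rw [← degree_eq_bot]
      exact (Nat.WithBot.lt_zero_iff).1 hr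
    obtain ⟨⟨U, x⟩⟩ := (IsCofiltered.nonempty : Nonempty Φ.fiber.Elements)
    exact ⟨U, x, 0, by simpa using hr, by rw [hr0, Polynomial.map_zero]⟩
  | succ n ih =>
    let c := r.coeff n
    let r₀ := r.erase n
    have hr₀ : r₀.degree < n := by
      rw [degree_lt_iff_coeff_zero]
      intro m hm
      rcases eq_or_lt_of_le hm with rfl | hm'
      · exact erase_same _ _
      · rw [erase_ne _ hm'.ne']
        exact coeff_eq_zero_of_degree_lt (lt_of_lt_of_le hr (by exact_mod_cast hm'))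
    have hsum : r = r₀ + C c * X ^ n := by
      rw [C_mul_X_pow_eq_monomial, add_comm]
      exact (monomial_add_erase r n).symm
    obtain ⟨U₁, x₁, r₁, hr₁, hr₁'⟩ := ih r₀ hr₀
    obtain ⟨U₂, x₂, c₂, hc₂⟩ := Φ.toPresheafFiber_jointly_surjective (P := P) c
    obtain ⟨⟨V, y⟩, ⟨(g₁ : V ⟶ U₁), (h₁ : Φ.fiber.map g₁ y = x₁)⟩,
      ⟨(g₂ : V ⟶ U₂), (h₂ : Φ.fiber.map g₂ y = x₂)⟩, -⟩ :=
      IsCofilteredOrEmpty.cone_objs (C := Φ.fiber.Elements) ⟨U₁, x₁⟩ ⟨U₂, x₂⟩
    refine ⟨V, y, r₁.map (P.map g₁.op).hom + C ((P.map g₂.op).hom c₂) * X ^ n, ?_, ?_⟩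
    · refine lt_of_le_of_lt (degree_add_le _ _) (max_lt ?_ ?_)
      · exact lt_of_le_of_lt (degree_map_le) (lt_trans hr₁ (by exact_mod_cast Nat.lt_succ_self n))
      · exact lt_of_le_of_lt (degree_C_mul_X_pow_le _ _) (by exact_mod_cast Nat.lt_succ_self n)
    · rw [Polynomial.map_add, Polynomial.map_map, germ_comp, h₁, hr₁', Polynomial.map_mul,
        Polynomial.map_C, Polynomial.map_pow, Polynomial.map_X, hsum]
      congr 3
      rw [← hc₂, ← h₂]
      exact (Φ.toPresheafFiber_w_apply g₂ y P c₂)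

theorem exists_monic_lift (f : (↑(Φ.presheafFiber.obj P))[X]) (hf : f.Monic) :
    ∃ (U : 𝒞) (x : Φ.fiber.obj U) (f' : (↑(P.obj (op U)))[X]),
      f'.Monic ∧ f'.map (germ Φ P U x) = f := by
  have : Nontrivial ↑(Φ.presheafFiber.obj P) ∨ Subsingleton ↑(Φ.presheafFiber.obj P) :=
    (subsingleton_or_nontrivial _).symm
  rcases this with hnt | hss
  · let n := f.natDegree
    have hdeg : (f - X ^ n).degree < (n : WithBot ℕ) := by
      have h1 : (X ^ n : (↑(Φ.presheafFiber.obj P))[X]).Monic := monic_X_pow n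
      have h2 : (X ^ n : (↑(Φ.presheafFiber.obj P))[X]).degree = n := degree_X_pow n
      have h3 : f.degree = n := degree_eq_natDegree hf.ne_zero
      rw [← h3]
      refine degree_sub_lt_left (by rw [h3, h2]) hf.ne_zero ?_
      rw [hf.leadingCoeff, h1.leadingCoeff]
    obtain ⟨U, x, r', hr', hr''⟩ := exists_poly_lift Φ P n (f - X ^ n) hdeg
    refine ⟨U, x, X ^ n + r', ?_, ?_⟩
    · exact monic_X_pow_add hr'
    · rw [Polynomial.map_add, Polynomial.map_pow, Polynomial.map_X, hr'']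
      ring
  · obtain ⟨⟨U, x⟩⟩ := (IsCofiltered.nonempty : Nonempty Φ.fiber.Elements)
    exact ⟨U, x, 1, monic_one, Subsingleton.elim _ _⟩

section Main

variable (K : Type w') [Field K]
  (e : ∀ (U : 𝒞) (_ : Φ.fiber.obj U), P.obj (op U) ⟶ CommRingCat.of K)
  (he : ∀ ⦃V U : 𝒞⦄ (g : V ⟶ U) (y : Φ.fiber.obj V), P.map g.op ≫ e V y = e U (Φ.fiber.map g y))

/-- the evaluation map on the fibre -/
noncomputable def evFiber : ↑(Φ.presheafFiber.obj P) →+* K :=
  (Φ.presheafFiberDesc e he).hom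

theorem evFiber_germ (U : 𝒞) (x : Φ.fiber.obj U) :
    (evFiber Φ P K e he).comp (germ Φ P U x) = (e U x).hom :=
  congrArg CommRingCat.Hom.hom (Φ.toPresheafFiber_presheafFiberDesc e he U x)

include he in
theorem strictlyHenselian_presheafFiber [IsSepClosed K]
    (h1 : ∀ (U : 𝒞) (x : Φ.fiber.obj U) (s : ↑(P.obj (op U))), (e U x).hom s ≠ 0 →
      ∃ (V : 𝒞) (g : V ⟶ U) (y : Φ.fiber.obj V), Φ.fiber.map g y = x ∧ IsUnit ((P.map g.op).hom s))
    (h2 : ∀ (U : 𝒞) (x : Φ.fiber.obj U) (f : (↑(P.obj (op U)))[X]), f.Monic → ∀ a₀ : K,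
      (f.map (e U x).hom).eval a₀ = 0 → (f.map (e U x).hom).derivative.eval a₀ ≠ 0 →
      ∃ (V : 𝒞) (g : V ⟶ U) (y : Φ.fiber.obj V), Φ.fiber.map g y = x ∧
        ∃ b : ↑(P.obj (op V)), (f.map (P.map g.op).hom).eval b = 0 ∧ (e V y).hom b = a₀) :
    ∃ _ : HenselianLocalRing ↑(Φ.presheafFiber.obj P),
      IsSepClosed (IsLocalRing.ResidueField ↑(Φ.presheafFiber.obj P)) := by
  let ev := evFiber Φ P K e he
  have hL : ∀ a, ev a ≠ 0 → IsUnit a := by
    intro a ha
    obtain ⟨U, x, s, rfl⟩ := Φ.toPresheafFiber_jointly_surjective (P := P) a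
    have h : (e U x).hom s ≠ 0 := by
      rw [← evFiber_germ Φ P K e he U x]
      exact ha
    obtain ⟨V, g, y, rfl, hu⟩ := h1 U x s h
    have := hu.map (germ Φ P V y)
    rw [← RingHom.comp_apply, germ_comp] at this
    exact this
  have hH : ∀ f : (↑(Φ.presheafFiber.obj P))[X], f.Monic → ∀ a₀ : K, (f.map ev).eval a₀ = 0 →
      (f.map ev).derivative.eval a₀ ≠ 0 → ∃ a, f.eval a = 0 ∧ ev a = a₀ := by
    intro f hf a₀ h0 h0'
    obtain ⟨U, x, f', hf', rfl⟩ := exists_monic_lift Φ P f hf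
    rw [Polynomial.map_map, evFiber_germ] at h0 h0'
    obtain ⟨V, g, y, rfl, b, hb1, hb2⟩ := h2 U x f' hf' a₀ h0 h0'
    refine ⟨germ Φ P V y b, ?_, ?_⟩
    · rw [← germ_comp, ← Polynomial.map_map, eval_map_apply, hb1, map_zero]
    · rw [← RingHom.comp_apply, evFiber_germ]
      exact hb2
  have hhens := henselian_of_ev ev hL hH
  exact ⟨hhens, isSepClosed_residueField ev hL hH⟩

end Main

end Groth.Agent.Lib.helper5.StrictHens
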