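import Groth.Agent.Lib.Helper5.StrictHensFiber
import Mathlib.AlgebraicGeometry.Morphisms.Etale
import Mathlib.RingTheory.Etale.StandardEtale
import Mathlib.RingTheory.RingHom.Etale

/-!
# Etale neighbourhoods of a field-valued point of a scheme: making functions invertible and adjoining simple roots (helper5)
-/

set_option autoImplicit false
universe u
open CategoryTheory CategoryTheory.Limits AlgebraicGeometry Opposite Polynomial

namespace Groth.Agent.Lib.helper5.StrictHens

/-- evaluation of global functions at a field-valued point -/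
noncomputable def evPt {U : Scheme.{u}} {Ω : Type u} [Field Ω] (x : Spec (CommRingCat.of Ω) ⟶ U) :
    Γ(U, ⊤) ⟶ CommRingCat.of Ω :=
  x.appTop ≫ (Scheme.ΓSpecIso (CommRingCat.of Ω)).hom

theorem evPt_comp {U V : Scheme.{u}} {Ω : Type u} [Field Ω] (y : Spec (CommRingCat.of Ω) ⟶ V) (g : V ⟶ U) :
    evPt (y ≫ g) = g.appTop ≫ evPt y := by
  simp [evPt]

theorem evPt_SpecMap {R : CommRingCat.{u}} {Ω : Type u} [Field Ω] (ψ : R ⟶ CommRingCat.of Ω) :
    evPt (Spec.map ψ) = (Scheme.ΓSpecIso R).hom ≫ ψ := by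
  rw [evPt, Scheme.ΓSpecIso_naturality]

/-- The scheme-theoretic input: around a field-valued point of a scheme `U`, an etale algebra over an affine neighbourhood
together with an extension of the point gives an etale neighbourhood. -/
theorem exists_etale_nbhd_of_alg {U : Scheme.{u}} {Ω : Type u} [Field Ω] (x : Spec (CommRingCat.of Ω) ⟶ U) :
    ∃ (R : CommRingCat.{u}) (res : Γ(U, ⊤) ⟶ R) (φ : R ⟶ CommRingCat.of Ω), res ≫ φ = evPt x ∧
      ∀ (R' : Type u) [CommRing R'] [Algebra R R'] [Algebra.Etale R R'] (ψ : R' →+* Ω),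
        ψ.comp (algebraMap R R') = φ.hom →
        ∃ (V : Scheme.{u}) (g : V ⟶ U) (_ : Etale g) (y : Spec (CommRingCat.of Ω) ⟶ V)
          (ρ : R' →+* Γ(V, ⊤)),
          y ≫ g = x ∧ g.appTop.hom = ρ.comp ((algebraMap R R').comp res.hom) ∧
            (evPt y).hom.comp ρ = ψ := by
  obtain ⟨R, j, hj, hyj, -⟩ := Scheme.exists_affine_mem_range_and_range_subset
    (x := x (default : ↥(Spec (CommRingCat.of Ω)))) (U := (⊤ : U.Opens)) trivial
  have hrange : Set.range x ⊆ Set.range j := by
    rintro _ ⟨a, rfl⟩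
    rw [Subsingleton.elim (α := PrimeSpectrum Ω) a (default : ↥(Spec (CommRingCat.of Ω)))]
    exact hyj
  let l' := IsOpenImmersion.lift j x hrange
  have hl' : l' ≫ j = x := IsOpenImmersion.lift_fac _ _ _
  let φ : R ⟶ CommRingCat.of Ω := Spec.preimage l'
  have hφ : Spec.map φ = l' := Spec.map_preimage l'
  refine ⟨R, j.appTop ≫ (Scheme.ΓSpecIso R).hom, φ, ?_, ?_⟩
  · rw [← hl', evPt_comp, ← hφ, evPt_SpecMap, Category.assoc]
  · intro R' _ _ _ ψ hψ
    let α : R ⟶ CommRingCat.of R' := CommRingCat.ofHom (algebraMap R R')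
    have hα : α.hom.Etale := RingHom.etale_algebraMap.mpr inferInstance
    have hα' : Etale (Spec.map α) := HasRingHomProperty.Spec_iff.mpr hα
    refine ⟨Spec (CommRingCat.of R'), Spec.map α ≫ j, inferInstance,
      Spec.map (CommRingCat.ofHom ψ), (Scheme.ΓSpecIso (CommRingCat.of R')).inv.hom, ?_, ?_, ?_⟩
    · rw [← Category.assoc, ← Spec.map_comp, ← hl', ← hφ]
      congr 2
      ext a
      exact congrFun (congrArg DFunLike.coe hψ) a
    · have : (Spec.map α ≫ j).appTop = (j.appTop ≫ (Scheme.ΓSpecIso R).hom) ≫ α ≫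
          (Scheme.ΓSpecIso (CommRingCat.of R')).inv := by
        rw [Scheme.Hom.comp_appTop, Category.assoc]
        congr 1
        rw [← Scheme.ΓSpecIso_naturality_assoc, Iso.hom_inv_id, Category.comp_id]
      rw [this]
      rfl
    · rw [evPt_SpecMap]
      ext a
      change ψ ((Scheme.ΓSpecIso (CommRingCat.of R')).hom.hom
        ((Scheme.ΓSpecIso (CommRingCat.of R')).inv.hom a)) = ψ a
      congr 1
      exact congrFun (congrArg (fun f : CommRingCat.of R' ⟶ CommRingCat.of R' => ⇑f.hom)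
        (Scheme.ΓSpecIso (CommRingCat.of R')).inv_hom_id) a

/-- (U1) shrinking so that a function not vanishing at the point becomes a unit -/
theorem exists_unit_nbhd {U : Scheme.{u}} {Ω : Type u} [Field Ω] (x : Spec (CommRingCat.of Ω) ⟶ U)
    (s : Γ(U, ⊤)) (hs : (evPt x).hom s ≠ 0) :
    ∃ (V : Scheme.{u}) (g : V ⟶ U) (_ : Etale g) (y : Spec (CommRingCat.of Ω) ⟶ V),
      y ≫ g = x ∧ IsUnit (g.appTop.hom s) := by
  obtain ⟨R, res, φ, h1, h2⟩ := exists_etale_nbhd_of_alg x
  have hu : IsUnit (φ.hom (res.hom s)) := by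
    have : φ.hom (res.hom s) = (evPt x).hom s := by rw [← h1]; rfl
    rw [this]
    exact isUnit_iff_ne_zero.2 hs
  obtain ⟨V, g, hg, y, ρ, hy, hg', -⟩ := h2 (Localization.Away (res.hom s))
    (IsLocalization.Away.lift (res.hom s) hu) (by
      ext a
      exact IsLocalization.Away.lift_eq (res.hom s) hu a)
  refine ⟨V, g, hg, y, hy, ?_⟩
  rw [hg']
  exact (IsLocalization.Away.algebraMap_isUnit (S := Localization.Away (res.hom s)) (res.hom s)).map ρ

/-- (U2) adjoining a simple root of a monic polynomial -/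
theorem exists_root_nbhd {U : Scheme.{u}} {Ω : Type u} [Field Ω] (x : Spec (CommRingCat.of Ω) ⟶ U)
    (f : (Γ(U, ⊤))[X]) (hf : f.Monic) (a₀ : Ω) (h0 : (f.map (evPt x).hom).eval a₀ = 0)
    (h0' : (f.map (evPt x).hom).derivative.eval a₀ ≠ 0) :
    ∃ (V : Scheme.{u}) (g : V ⟶ U) (_ : Etale g) (y : Spec (CommRingCat.of Ω) ⟶ V),
      y ≫ g = x ∧ ∃ b : Γ(V, ⊤), (f.map g.appTop.hom).eval b = 0 ∧ (evPt y).hom b = a₀ := by
  obtain ⟨R, res, φ, h1, h2⟩ := exists_etale_nbhd_of_alg x
  have hev : (evPt x).hom = φ.hom.comp res.hom := by rw [← h1]; rfl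
  let P : StandardEtalePair R := ⟨f.map res.hom, hf.map _, (f.map res.hom).derivative, ⟨1, 0, 1, by simp⟩⟩
  let _ : Algebra R Ω := φ.hom.toAlgebra
  have hmap : P.HasMap a₀ := by
    constructor
    · change aeval a₀ (f.map res.hom) = 0
      rw [aeval_def, eval₂_map]
      rw [hev, ← Polynomial.map_map, eval_map] at h0
      rw [eval₂_map] at h0
      exact h0
    · change IsUnit (aeval a₀ (f.map res.hom).derivative)
      rw [isUnit_iff_ne_zero, aeval_def]
      rw [hev, ← Polynomial.map_map, derivative_map, eval_map] at h0'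
      exact h0'
  obtain ⟨V, g, hg, y, ρ, hy, hg', hρ⟩ := h2 P.Ring (P.lift a₀ hmap).toRingHom (by
    ext a
    exact (P.lift a₀ hmap).commutes a)
  refine ⟨V, g, hg, y, hy, ρ P.X, ?_, ?_⟩
  · rw [hg', ← Polynomial.map_map, ← Polynomial.map_map, eval_map_apply, eval_map]
    have : eval₂ (algebraMap R P.Ring) P.X (f.map res.hom) = 0 := P.hasMap_X.1
    rw [this, map_zero]
  · have := congrFun (congrArg DFunLike.coe hρ) P.X
    refine this.trans ?_
    exact P.lift_X a₀ hmap

end Groth.Agent.Lib.helper5.StrictHens
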