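import Groth.Agent.Lib.Helper5.FibCrit12

/-!
# Flatness deforms along arbitrary thickenings (fibre criterion) (helper5)

* `flat_of_thickening` : `U ⟶ V ⟶ W`, `W₀ ⟶ W` surjective, base changes `U₀ ⟶ V₀ ⟶ W₀`;
  `U` flat lfp over `W`, `V` lft over `W`, `U₀ ⟶ V₀` flat. Then `U ⟶ V` is flat and `V ⟶ W` is flat
  along the image of `U`.
-/

set_option autoImplicit false
set_option backward.isDefEq.respectTransparency false
universe u
open CategoryTheory CategoryTheory.Limits AlgebraicGeometry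

namespace Groth.Agent.Lib.helper5.ThickFlat

open Groth.Agent.Lib.helper5.FibCrit

theorem flat_of_surjective_base {U V W U₀ V₀ W₀ : Scheme.{u}}
    (h : U ⟶ V) (k : V ⟶ W) (lam : W₀ ⟶ W) (κ : V₀ ⟶ V) (ι : U₀ ⟶ U) (h₀ : U₀ ⟶ V₀) (k₀ : V₀ ⟶ W₀)
    [Surjective lam] [LocallyOfFiniteType k] [LocallyOfFinitePresentation (h ≫ k)]
    (sqV : IsPullback κ k₀ k lam) (sqU : IsPullback ι h₀ h κ)
    (hfl : Flat (h ≫ k)) (hfl₀ : Flat h₀) :
    Flat h ∧ ∀ u : U, (k.stalkMap (h u)).hom.Flat := by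
  have sqbig : IsPullback ι (h₀ ≫ k₀) (h ≫ k) lam := sqU.paste_vert sqV
  haveI : Surjective ι := MorphismProperty.of_isPullback (P := @Surjective) sqbig.flip inferInstance
  have key : ∀ x : U, (h.stalkMap x).hom.Flat := by
    intro x
    obtain ⟨x₀, rfl⟩ := ι.surjective x
    exact (flat_stalkMap_iff_of_isPullback_base h k h₀ k₀ ι κ lam sqV sqU x₀
      (Flat.stalkMap (h ≫ k) (ι x₀))).mp (Flat.stalkMap h₀ x₀)
  refine ⟨(Flat.iff_flat_stalkMap h).mpr key, fun x => ?_⟩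
  exact H18Stalk.stalk_flat_descent k h x (key x) (Flat.stalkMap (h ≫ k) x)

end Groth.Agent.Lib.helper5.ThickFlat
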