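import Mathlib
import Groth.Agent.Lib.Helper5.NilFlatRing

/-!
# Finite type lifts along thickenings: the extended ideal nilpotent (helper5)

* `finiteType_of_comp_surjective_map_nilpotent`: `φ : A' → B'`, `π : B' → B` surjective with kernel `I B'` nilpotent,
  `π ∘ φ` of finite type; then `φ` is of finite type.  (Variant of helper18's
  `NilBase.finiteType_of_comp_surjective_nilpotent_base`, where `I` itself is nilpotent; same proof.)
* `locallyOfFiniteType_of_thick_affine`: affine schemes `U ⟶ V`, a closed immersion `κ : V₀ ⟶ V`,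
  `U₀ = U ×_V V₀` with nilpotent kernel on global sections, `U₀ ⟶ V₀` locally of finite type; then so is `U ⟶ V`.
-/

set_option autoImplicit false
universe u

namespace Groth.Agent.Lib.helper5.ThickStepLft

open AlgebraicGeometry CategoryTheory Limits

theorem finiteType_of_comp_surjective_map_nilpotent {A' B' B : Type*} [CommRing A'] [CommRing B']
    [CommRing B] (φ : A' →+* B') (π : B' →+* B) (hπ : Function.Surjective π) (I : Ideal A')
    (hI : IsNilpotent (I.map φ)) (hker : RingHom.ker π = I.map φ)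
    (h : (π.comp φ).FiniteType) : φ.FiniteType := by
  algebraize [φ, π.comp φ]
  let π' : B' →ₐ[A'] B := ⟨π, fun a => rfl⟩
  obtain ⟨s, hs⟩ := (Algebra.FiniteType.out : (⊤ : Subalgebra A' B).FG)
  have hlift : ∀ x : B, ∃ b : B', π b = x := hπ
  choose σ hσ using hlift
  classical
  let T : Finset B' := s.image σ
  let B'' : Subalgebra A' B' := Algebra.adjoin A' (T : Set B')
  have hTB' : ∀ x ∈ s, σ x ∈ B'' := fun x hx =>
    Algebra.subset_adjoin (Finset.mem_coe.mpr (Finset.mem_image_of_mem σ hx))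
  have claim1 : ∀ b : B', ∃ b' ∈ B'', b - b' ∈ I.map φ := by
    intro b
    have hb : π b ∈ Algebra.adjoin A' (s : Set B) := by rw [hs]; trivial
    have hle : Algebra.adjoin A' (s : Set B) ≤ B''.map π' := by
      rw [Algebra.adjoin_le_iff]
      intro x hx
      exact ⟨σ x, hTB' x hx, hσ x⟩
    obtain ⟨b', hb', hbb'⟩ := hle hb
    refine ⟨b', hb', ?_⟩
    rw [← hker, RingHom.mem_ker, map_sub, sub_eq_zero]
    exact hbb'.symm
  have claim2 : ∀ k : ℕ, ∀ b ∈ (I ^ k).map φ, ∃ b' ∈ B'', b - b' ∈ (I ^ (k + 1)).map φ := by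
    intro k b hb
    refine Submodule.span_induction (p := fun b _ => ∃ b' ∈ B'', b - b' ∈ (I ^ (k + 1)).map φ)
      ?_ ?_ ?_ ?_ hb
    · rintro _ ⟨i, hi, rfl⟩
      exact ⟨φ i, B''.algebraMap_mem i, by simp⟩
    · exact ⟨0, B''.zero_mem, by simp⟩
    · rintro x y _ _ ⟨x', hx', hxx'⟩ ⟨y', hy', hyy'⟩
      refine ⟨x' + y', B''.add_mem hx' hy', ?_⟩
      have : x + y - (x' + y') = (x - x') + (y - y') := by ring
      rw [this]
      exact Ideal.add_mem _ hxx' hyy'
    · intro r x hx ⟨x', hx', hxx'⟩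
      obtain ⟨r', hr', hrr'⟩ := claim1 r
      have hx'mem : x' ∈ (I ^ k).map φ := by
        have h1 : x - x' ∈ (I ^ k).map φ :=
          Ideal.map_mono (Ideal.pow_le_pow_right (Nat.le_succ k)) hxx'
        have : x' = x - (x - x') := by ring
        rw [this]
        exact Ideal.sub_mem _ hx h1
      refine ⟨r' * x', B''.mul_mem hr' hx', ?_⟩
      have : r • x - r' * x' = (r - r') * x' + r * (x - x') := by rw [smul_eq_mul]; ring
      rw [this]
      refine Ideal.add_mem _ ?_ (Ideal.mul_mem_left _ _ hxx')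
      rw [pow_succ', Ideal.map_mul]
      exact Ideal.mul_mem_mul hrr' hx'mem
  have claim3 : ∀ k : ℕ, ∀ b : B', ∃ b' ∈ B'', b - b' ∈ (I ^ k).map φ := by
    intro k
    induction k with
    | zero => intro b; exact ⟨0, B''.zero_mem, by simp [Ideal.one_eq_top, Ideal.map_top]⟩
    | succ k ih =>
      intro b
      obtain ⟨b₁, hb₁, hbb₁⟩ := ih b
      obtain ⟨b₂, hb₂, hbb₂⟩ := claim2 k _ hbb₁
      refine ⟨b₁ + b₂, B''.add_mem hb₁ hb₂, ?_⟩
      have : b - (b₁ + b₂) = b - b₁ - b₂ := by ring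
      rw [this]
      exact hbb₂
  obtain ⟨n, hn⟩ := hI
  have htop : B'' = ⊤ := by
    rw [eq_top_iff]
    intro b _
    obtain ⟨b', hb', hbb'⟩ := claim3 n b
    rw [Ideal.map_pow, hn, Ideal.zero_eq_bot] at hbb'
    have : b = b' := sub_eq_zero.mp ((Ideal.mem_bot (R := B')).mp hbb')
    rw [this]
    exact hb'
  show Algebra.FiniteType A' B'
  exact ⟨⟨T, htop⟩⟩

/-- kernel of `ι` on global sections in a cartesian square of affine schemes over a closed immersion. -/
theorem ker_appTop_of_isPullback {U V U₀ V₀ : Scheme.{u}} [IsAffine U] [IsAffine V]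
    (h1 : U ⟶ V) (κ : V₀ ⟶ V) (ι : U₀ ⟶ U) (h₀ : U₀ ⟶ V₀) [IsClosedImmersion κ]
    (sqU : IsPullback ι h₀ h1 κ) :
    RingHom.ker ι.appTop.hom = (RingHom.ker κ.appTop.hom).map h1.appTop.hom := by
  have hι : IsClosedImmersion ι := MorphismProperty.of_isPullback sqU.flip inferInstance
  have : IsAffine V₀ := isAffine_of_isAffineHom κ
  have : IsAffine U₀ := isAffine_of_isAffineHom ι
  let _ : Algebra Γ(V, ⊤) Γ(U, ⊤) := h1.appTop.hom.toAlgebra
  let _ : Algebra Γ(V, ⊤) Γ(V₀, ⊤) := κ.appTop.hom.toAlgebra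
  let _ : Algebra Γ(V₀, ⊤) Γ(U₀, ⊤) := h₀.appTop.hom.toAlgebra
  let _ : Algebra Γ(U, ⊤) Γ(U₀, ⊤) := ι.appTop.hom.toAlgebra
  let _ : Algebra Γ(V, ⊤) Γ(U₀, ⊤) := (h1.appTop ≫ ι.appTop).hom.toAlgebra
  have t1 : IsScalarTower Γ(V, ⊤) Γ(U, ⊤) Γ(U₀, ⊤) := IsScalarTower.of_algebraMap_eq' rfl
  have t2 : IsScalarTower Γ(V, ⊤) Γ(V₀, ⊤) Γ(U₀, ⊤) := IsScalarTower.of_algebraMap_eq' (by
    change (h1.appTop ≫ ι.appTop).hom = h₀.appTop.hom.comp κ.appTop.hom
    have := (isPushout_appTop_of_isPullback sqU).w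
    rw [this]; rfl)
  have p : Algebra.IsPushout Γ(V, ⊤) Γ(U, ⊤) Γ(V₀, ⊤) Γ(U₀, ⊤) :=
    CommRingCat.isPushout_iff_isPushout.mp (isPushout_appTop_of_isPullback sqU)
  have hsurj : Function.Surjective (algebraMap Γ(V, ⊤) Γ(V₀, ⊤)) :=
    IsClosedImmersion.isAffine_surjective_of_isAffine κ |>.2
  exact NilFlatRing.ker_of_isPushout (R := Γ(V, ⊤)) (R₀ := Γ(V₀, ⊤)) (S := Γ(U, ⊤))
    (S₀ := Γ(U₀, ⊤)) hsurj

theorem locallyOfFiniteType_of_thick_affine {U V U₀ V₀ : Scheme.{u}} [IsAffine U] [IsAffine V]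
    (h1 : U ⟶ V) (κ : V₀ ⟶ V) (ι : U₀ ⟶ U) (h₀ : U₀ ⟶ V₀) [IsClosedImmersion κ]
    (sqU : IsPullback ι h₀ h1 κ) (hnil : IsNilpotent (RingHom.ker ι.appTop.hom))
    [LocallyOfFiniteType h₀] : LocallyOfFiniteType h1 := by
  have hι : IsClosedImmersion ι := MorphismProperty.of_isPullback sqU.flip inferInstance
  have : IsAffine V₀ := isAffine_of_isAffineHom κ
  have : IsAffine U₀ := isAffine_of_isAffineHom ι
  have hker := ker_appTop_of_isPullback h1 κ ι h₀ sqU
  have hπ : Function.Surjective ι.appTop.hom :=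
    IsClosedImmersion.isAffine_surjective_of_isAffine ι |>.2
  have hκs : Function.Surjective κ.appTop.hom :=
    IsClosedImmersion.isAffine_surjective_of_isAffine κ |>.2
  have h0ft : h₀.appTop.hom.FiniteType :=
    (HasRingHomProperty.iff_of_isAffine (P := @LocallyOfFiniteType) (f := h₀)).mp inferInstance
  have hcomp : (ι.appTop.hom.comp h1.appTop.hom).FiniteType := by
    have e : ι.appTop.hom.comp h1.appTop.hom = h₀.appTop.hom.comp κ.appTop.hom := by
      have := (isPushout_appTop_of_isPullback sqU).w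
      exact congr(($this).hom)
    rw [e]
    exact RingHom.FiniteType.comp h0ft (RingHom.FiniteType.of_surjective _ hκs)
  rw [hker] at hnil
  have := finiteType_of_comp_surjective_map_nilpotent h1.appTop.hom ι.appTop.hom hπ
    (RingHom.ker κ.appTop.hom) hnil hker hcomp
  exact (HasRingHomProperty.iff_of_isAffine (P := @LocallyOfFiniteType) (f := h1)).mpr this

end Groth.Agent.Lib.helper5.ThickStepLft
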