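import Mathlib

/-!
Formally unramified / locally quasi-finite across a cartesian thickening of schemes (helper5).
-/

set_option autoImplicit false
universe u
open CategoryTheory CategoryTheory.Limits AlgebraicGeometry TensorProduct

namespace Groth.Agent.Lib.helper5.ThickUnram

section Ring

variable {A' A B' B : Type u} [CommRing A'] [CommRing A] [CommRing B'] [CommRing B]
  [Algebra A' A] [Algebra A' B'] [Algebra A B] [Algebra B' B] [Algebra A' B]
  [IsScalarTower A' A B] [IsScalarTower A' B' B]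

/-- If `A' → A` is surjective with nil kernel, `B'` is a finite type `A'`-algebra and `B = A ⊗_{A'} B'` is formally
unramified over `A`, then `B'` is formally unramified over `A'`. -/
theorem formallyUnramified_of_nil [Algebra.IsPushout A' A B' B]
    (hsurj : Function.Surjective (algebraMap A' A))
    (hnil : ∀ a : A', algebraMap A' A a = 0 → IsNilpotent a)
    [Algebra.FiniteType A' B'] [Algebra.FormallyUnramified A B] :
    Algebra.FormallyUnramified A' B' := by
  rw [Algebra.formallyUnramified_iff]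
  have hB : Subsingleton Ω[B⁄A] := (Algebra.formallyUnramified_iff A B).1 inferInstance
  have h1 : Subsingleton (A ⊗[A'] Ω[B'⁄A']) :=
    (KaehlerDifferential.tensorKaehlerEquivBase A' A B' B).toEquiv.subsingleton
  let J : Ideal A' := RingHom.ker (Algebra.ofId A' A)
  have hsurj' : Function.Surjective (Algebra.ofId A' A) := hsurj
  let e1 : (A' ⧸ J) ≃ₗ[A'] A := (Ideal.quotientKerAlgEquivOfSurjective hsurj').toLinearEquiv
  have h2 : Subsingleton ((A' ⧸ J) ⊗[A'] Ω[B'⁄A']) :=
    (TensorProduct.congr e1 (LinearEquiv.refl A' Ω[B'⁄A'])).toEquiv.subsingleton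
  have h3 : Subsingleton (Ω[B'⁄A'] ⧸ (J • (⊤ : Submodule A' Ω[B'⁄A']))) :=
    (TensorProduct.quotTensorEquivQuotSMul Ω[B'⁄A'] J).symm.toEquiv.subsingleton
  have h4 : (J • (⊤ : Submodule A' Ω[B'⁄A'])) = ⊤ := Submodule.Quotient.subsingleton_iff.1 h3
  have h5 : (⊤ : Submodule B' Ω[B'⁄A']) ≤ (J.map (algebraMap A' B')) • ⊤ := by
    intro m _
    have hm : m ∈ (J • (⊤ : Submodule A' Ω[B'⁄A'])) := by rw [h4]; exact Submodule.mem_top
    refine Submodule.smul_induction_on hm (fun r hr n _ => ?_) (fun x y hx hy => add_mem hx hy)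
    rw [← algebraMap_smul B' r n]
    exact Submodule.smul_mem_smul (Ideal.mem_map_of_mem _ hr) Submodule.mem_top
  have hfg : (⊤ : Submodule B' Ω[B'⁄A']).FG := Module.Finite.fg_top
  have hjac : J.map (algebraMap A' B') ≤ Ideal.jacobson ⊥ := by
    refine le_trans ?_ (Ideal.radical_le_jacobson)
    rw [Ideal.map_le_iff_le_comap]
    intro a ha
    have ha' : algebraMap A' A a = 0 := ha
    obtain ⟨n, hn⟩ := hnil a ha'
    refine ⟨n, ?_⟩
    show (algebraMap A' B' a) ^ n ∈ (⊥ : Ideal B')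
    rw [← map_pow, hn, map_zero]
    exact Ideal.zero_mem _
  have h6 := Submodule.eq_bot_of_le_smul_of_le_jacobson_bot _ _ hfg h5 hjac
  exact (Submodule.subsingleton_iff B').1 (subsingleton_of_bot_eq_top h6.symm)

end Ring

section Affine

variable {U V U' V' : Scheme.{u}}

/-- affine case -/
theorem formallyUnramified_of_isPullback_of_isAffine [IsAffine U'] [IsAffine V'] [IsAffine V]
    {ι : U ⟶ U'} {h : U ⟶ V} {h' : U' ⟶ V'} {κ : V ⟶ V'} (sq : IsPullback ι h h' κ)
    [IsClosedImmersion κ] [Surjective κ] [LocallyOfFiniteType h'] [FormallyUnramified h] :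
    FormallyUnramified h' := by
  have hU : IsAffine U := IsAffine.of_isPullback sq
  have hh : RingHom.FormallyUnramified h.appTop.hom :=
    (HasRingHomProperty.iff_of_isAffine (P := @FormallyUnramified)).1 inferInstance
  have hft : RingHom.FiniteType h'.appTop.hom :=
    (HasRingHomProperty.iff_of_isAffine (P := @LocallyOfFiniteType)).1 inferInstance
  rw [HasRingHomProperty.iff_of_isAffine (P := @FormallyUnramified)]
  have po := isPushout_appTop_of_isPullback sq
  algebraize [h'.appTop.hom, κ.appTop.hom, ι.appTop.hom, h.appTop.hom]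
  let _ : Algebra Γ(V', ⊤) Γ(U, ⊤) := (κ.appTop ≫ h.appTop).hom.toAlgebra
  have : IsScalarTower Γ(V', ⊤) Γ(V, ⊤) Γ(U, ⊤) := .of_algebraMap_eq' rfl
  have : IsScalarTower Γ(V', ⊤) Γ(U', ⊤) Γ(U, ⊤) := .of_algebraMap_eq' (by
    show (κ.appTop ≫ h.appTop).hom = (h'.appTop ≫ ι.appTop).hom
    rw [po.w])
  have hpo : Algebra.IsPushout Γ(V', ⊤) Γ(U', ⊤) Γ(V, ⊤) Γ(U, ⊤) :=
    CommRingCat.isPushout_iff_isPushout.1 po
  have : Algebra.IsPushout Γ(V', ⊤) Γ(V, ⊤) Γ(U', ⊤) Γ(U, ⊤) := hpo.symm
  have hsurj : Function.Surjective (algebraMap Γ(V', ⊤) Γ(V, ⊤)) :=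
    (IsClosedImmersion.isAffine_surjective_of_isAffine κ).2
  have hnil : ∀ a : Γ(V', ⊤), algebraMap Γ(V', ⊤) Γ(V, ⊤) a = 0 → IsNilpotent a := by
    intro a ha
    rw [Scheme.isNilpotent_iff_basicOpen_eq_bot]
    have h1 : κ ⁻¹ᵁ (V'.basicOpen a) = ⊥ := by
      rw [Scheme.preimage_basicOpen_top]
      have : κ.appTop.hom a = 0 := ha
      rw [this, Scheme.basicOpen_zero]
    ext x
    simp only [TopologicalSpace.Opens.coe_bot, Set.mem_empty_iff_false, iff_false]
    intro hx
    obtain ⟨y, rfl⟩ := κ.surjective x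
    have : y ∈ κ ⁻¹ᵁ (V'.basicOpen a) := hx
    rw [h1] at this
    exact this
  exact formallyUnramified_of_nil (A' := Γ(V', ⊤)) (A := Γ(V, ⊤)) (B' := Γ(U', ⊤)) (B := Γ(U, ⊤))
    hsurj hnil

end Affine

section General

variable {U V U' V' : Scheme.{u}}

/-- Formal unramifiedness ascends along a cartesian thickening, for morphisms locally of finite type. -/
theorem formallyUnramified_of_isPullback
    {ι : U ⟶ U'} {h : U ⟶ V} {h' : U' ⟶ V'} {κ : V ⟶ V'} (sq : IsPullback ι h h' κ)
    [IsClosedImmersion κ] [Surjective κ] [LocallyOfFiniteType h'] [FormallyUnramified h] :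
    FormallyUnramified h' := by
  have : MorphismProperty.RespectsRight @FormallyUnramified @IsOpenImmersion :=
    ⟨fun i hi f hf => by
      have : IsOpenImmersion i := hi
      have h2 : FormallyUnramified i := inferInstance
      exact MorphismProperty.comp_mem _ f i hf h2⟩
  rw [IsZariskiLocalAtSource.iff_exists_resLE (P := @FormallyUnramified)]
  intro x'
  obtain ⟨_, ⟨W', hW', rfl⟩, hxW', -⟩ :=
    V'.isBasis_affineOpens.exists_subset_of_mem_open (Set.mem_univ (h' x')) isOpen_univ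
  obtain ⟨_, ⟨W, hW, rfl⟩, hxW, hWW' : W ≤ h' ⁻¹ᵁ W'⟩ :=
    U'.isBasis_affineOpens.exists_subset_of_mem_open hxW' (h' ⁻¹ᵁ W').isOpen
  refine ⟨W', W, hxW, hWW', ?_⟩
  have hr : h'.resLE W' W hWW' ≫ (Scheme.Opens.ι W') = (Scheme.Opens.ι W) ≫ h' := Scheme.Hom.resLE_comp_ι _ _
  have sq1 : IsPullback (pullback.fst (Scheme.Opens.ι W) ι) (pullback.snd (Scheme.Opens.ι W) ι) (Scheme.Opens.ι W) ι :=
    IsPullback.of_hasPullback _ _
  have big : IsPullback (pullback.fst (Scheme.Opens.ι W) ι) (pullback.snd (Scheme.Opens.ι W) ι ≫ h) ((Scheme.Opens.ι W) ≫ h') κ :=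
    sq1.paste_vert sq
  have sq2 : IsPullback (pullback.fst (Scheme.Opens.ι W') κ) (pullback.snd (Scheme.Opens.ι W') κ) (Scheme.Opens.ι W') κ :=
    IsPullback.of_hasPullback _ _
  have hcomm : (pullback.fst (Scheme.Opens.ι W) ι ≫ h'.resLE W' W hWW') ≫ (Scheme.Opens.ι W') = (pullback.snd (Scheme.Opens.ι W) ι ≫ h) ≫ κ := by
    rw [Category.assoc, hr, ← Category.assoc, pullback.condition, Category.assoc, sq.w,
      Category.assoc]
  let ℓ : pullback (Scheme.Opens.ι W) ι ⟶ pullback (Scheme.Opens.ι W') κ := pullback.lift _ _ hcomm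
  have hℓ1 : ℓ ≫ pullback.fst (Scheme.Opens.ι W') κ = pullback.fst (Scheme.Opens.ι W) ι ≫ h'.resLE W' W hWW' :=
    pullback.lift_fst _ _ _
  have hℓ2 : ℓ ≫ pullback.snd (Scheme.Opens.ι W') κ = pullback.snd (Scheme.Opens.ι W) ι ≫ h := pullback.lift_snd _ _ _
  rw [← hr, ← hℓ2] at big
  have sq3 : IsPullback (pullback.fst (Scheme.Opens.ι W) ι) ℓ (h'.resLE W' W hWW') (pullback.fst (Scheme.Opens.ι W') κ) :=
    IsPullback.of_bot big hℓ1.symm sq2
  have : IsAffine (Scheme.Opens.toScheme W) := hW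
  have : IsAffine (Scheme.Opens.toScheme W') := hW'
  have : LocallyOfFiniteType (h'.resLE W' W hWW' ≫ (Scheme.Opens.ι W')) := by
    rw [hr]
    exact MorphismProperty.comp_mem _ _ _ inferInstance inferInstance
  have : LocallyOfFiniteType (h'.resLE W' W hWW') := locallyOfFiniteType_of_comp _ (Scheme.Opens.ι W')
  have : FormallyUnramified (ℓ ≫ pullback.snd (Scheme.Opens.ι W') κ) := by
    rw [hℓ2]
    have h1 : FormallyUnramified (pullback.snd (Scheme.Opens.ι W) ι) := inferInstance
    exact MorphismProperty.comp_mem _ _ _ h1 inferInstance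
  have : FormallyUnramified ℓ := FormallyUnramified.of_comp ℓ (pullback.snd (Scheme.Opens.ι W') κ)
  exact formallyUnramified_of_isPullback_of_isAffine sq3

/-- Local quasi-finiteness ascends along a morphism of thickenings, for morphisms locally of finite type. -/
theorem locallyQuasiFinite_of_comm
    {ι : U ⟶ U'} {h : U ⟶ V} {h' : U' ⟶ V'} {κ : V ⟶ V'} (w : ι ≫ h' = h ≫ κ)
    (hι : Function.Surjective ι) (hι' : Topology.IsInducing ι) (hκ : Function.Injective κ)
    (hκ' : Function.Surjective κ) [LocallyOfFiniteType h'] [LocallyQuasiFinite h] :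
    LocallyQuasiFinite h' := by
  rw [locallyQuasiFinite_iff_isDiscrete_preimage_singleton]
  intro y'
  obtain ⟨y, rfl⟩ := hκ' y'
  have heq : h' ⁻¹' {κ y} = ι '' (h ⁻¹' {y}) := by
    ext x'
    constructor
    · intro hx'
      obtain ⟨x, rfl⟩ := hι x'
      refine ⟨x, ?_, rfl⟩
      have h1 : h' (ι x) = κ y := hx'
      have h2 : h' (ι x) = κ (h x) := by
        rw [← Scheme.Hom.comp_apply, w, Scheme.Hom.comp_apply]
      exact hκ (h2.symm.trans h1)
    · rintro ⟨x, hx, rfl⟩
      have hx' : h x = y := hx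
      show h' (ι x) = κ y
      rw [← Scheme.Hom.comp_apply, w, Scheme.Hom.comp_apply, hx']
  rw [heq]
  exact (h.isDiscrete_preimage_singleton y).image hι'

end General

end Groth.Agent.Lib.helper5.ThickUnram
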