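import Mathlib

/-!
# Thickenings of affine schemes in algebraic spaces, algebra part A (helper5)

General module-theoretic lemmas on faithfully flat descent.

* `amitsur_step` (copied from helper14's `AdeqH1a`, to keep imports light): for a faithfully flat
  `R`-algebra `A` and ANY `R`-linear `d : X → A ⊗ X`, the kernel of `η - A ⊗ d : A ⊗ X → A ⊗ (A ⊗ X)` is
  contained in the range of `d`.
* `comodule_descent`: a module `N` over a flat `A`-algebra `B` with a coaction `a : N → B ⊗[A] N`
  (`B`-linear, counital, coassociative) is `B ⊗[A] M` for `M = {n | a n = 1 ⊗ n}`.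
* `mem_range_algebraMap_of_tmul_eq`: Amitsur exactness in degree zero for the ring.
-/

set_option autoImplicit false
universe u v w

namespace Groth.Agent.Lib.helper5.ThkAff

open TensorProduct

section monad
variable (R : Type u) [CommRing R] (A : Type u) [CommRing A] [Algebra R A]
variable (X : Type v) [AddCommGroup X] [Module R X] {Y : Type w} [AddCommGroup Y] [Module R Y]

/-- the multiplication of the monad `T = A ⊗ -` -/
noncomputable def muT : A ⊗[R] (A ⊗[R] X) →ₗ[R] A ⊗[R] X :=
  (LinearMap.mul' R A).rTensor X ∘ₗ (TensorProduct.assoc R A A X).symm.toLinearMap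

theorem muT_tmul (a b : A) (x : X) : muT R A X (a ⊗ₜ[R] (b ⊗ₜ[R] x)) = (a * b) ⊗ₜ[R] x := by
  simp only [muT, LinearMap.coe_comp, LinearEquiv.coe_coe, Function.comp_apply,
    TensorProduct.assoc_symm_tmul, LinearMap.rTensor_tmul, LinearMap.mul'_apply]

variable {X}

theorem muT_natural (f : X →ₗ[R] Y) (z : A ⊗[R] (A ⊗[R] X)) :
    muT R A Y (((f.lTensor A).lTensor A) z) = (f.lTensor A) (muT R A X z) := by
  induction z using TensorProduct.induction_on with
  | zero => simp only [map_zero]
  | tmul a w =>
    induction w using TensorProduct.induction_on with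
    | zero => simp only [TensorProduct.tmul_zero, map_zero]
    | tmul b x =>
      simp only [LinearMap.lTensor_tmul, muT_tmul]
    | add w w' hw hw' => simp only [TensorProduct.tmul_add, map_add, hw, hw']
  | add z z' hz hz' => simp only [map_add, hz, hz']

theorem muT_unit (w : A ⊗[R] X) :
    muT R A X (((TensorProduct.mk R A X 1).lTensor A) w) = w := by
  induction w using TensorProduct.induction_on with
  | zero => simp only [map_zero]
  | tmul a x =>
    simp only [LinearMap.lTensor_tmul, TensorProduct.mk_apply, muT_tmul, mul_one]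
  | add w w' hw hw' => simp only [map_add, hw, hw']

/-- the homotopy identity: on the kernel of `T(η - T d)`, `T d ∘ μ` is the identity -/
theorem amitsur_homotopy (d : X →ₗ[R] A ⊗[R] X) (z : A ⊗[R] (A ⊗[R] X))
    (hz : ((TensorProduct.mk R A (A ⊗[R] X) 1 - d.lTensor A).lTensor A) z = 0) :
    z = (d.lTensor A) (muT R A X z) := by
  have h1 := congrArg (muT R A (A ⊗[R] X)) hz
  rw [LinearMap.lTensor_sub, LinearMap.sub_apply, map_sub, muT_unit, muT_natural, map_zero,
    sub_eq_zero] at h1
  exact h1

/-- Amitsur exactness, general step (helper14): for any `R`-linear `d : X → A ⊗ X`, the kernel of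
`η - A ⊗ d : A ⊗ X → A ⊗ (A ⊗ X)` is contained in the range of `d`, if `A` is faithfully flat. -/
theorem amitsur_step [Module.FaithfullyFlat R A] (d : X →ₗ[R] A ⊗[R] X) (y : A ⊗[R] X)
    (hy : (TensorProduct.mk R A (A ⊗[R] X) 1 - d.lTensor A) y = 0) : ∃ x : X, d x = y := by
  let q := (LinearMap.range d).mkQ
  have hqd : q ∘ₗ d = 0 := LinearMap.range_mkQ_comp d
  have hz : ((TensorProduct.mk R A (A ⊗[R] X) 1 - d.lTensor A).lTensor A) ((1 : A) ⊗ₜ[R] y) = 0 := by
    rw [LinearMap.lTensor_tmul, hy, TensorProduct.tmul_zero]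
  have h1 := amitsur_homotopy R A d _ hz
  have h2 : (q.lTensor A) ((1 : A) ⊗ₜ[R] y) = 0 := by
    rw [h1, ← LinearMap.comp_apply, ← LinearMap.lTensor_comp, hqd, LinearMap.lTensor_zero,
      LinearMap.zero_apply]
  rw [LinearMap.lTensor_tmul] at h2
  have h3 : q y = 0 := by
    apply Module.FaithfullyFlat.tensorProduct_mk_injective (A := R) (B := A)
    rw [map_zero]
    exact h2
  have h4 : y ∈ LinearMap.range d := by
    rwa [Submodule.mkQ_apply, Submodule.Quotient.mk_eq_zero] at h3
  exact h4

end monad

section comodule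

variable {A : Type u} [CommRing A] {B : Type u} [CommRing B] [Algebra A B]
variable {N : Type u} [AddCommGroup N] [Module A N] [Module B N] [IsScalarTower A B N]

/-- the action map `B ⊗[A] N → N` -/
noncomputable def actMap : B ⊗[A] N →ₗ[A] N :=
  TensorProduct.lift ((Algebra.lsmul A A N).toLinearMap)

@[simp] theorem actMap_tmul (b : B) (n : N) : actMap (A := A) (b ⊗ₜ[A] n) = b • n := by
  simp [actMap]

/-- **Descent for comodules.** `B` flat over `A`, `N` a `B`-module with a coaction
`a : N → B ⊗[A] N` which is `B`-linear (`B` acting on the left factor), counital and coassociative. Then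
for the `A`-submodule `M = {n | a n = 1 ⊗ n}` the map `B ⊗[A] M → N` is bijective. -/
theorem comodule_descent [Module.Flat A B] (a : N →ₗ[A] B ⊗[A] N)
    (ha : ∀ (b : B) (n : N), a (b • n) = b • a n)
    (hcounit : ∀ n, actMap (a n) = n)
    (hcoassoc : ∀ n, (a.lTensor B) (a n) = ((TensorProduct.mk A B N 1).lTensor B) (a n)) :
    Function.Bijective
      (actMap ∘ₗ (LinearMap.ker (a - TensorProduct.mk A B N 1)).subtype.lTensor B) := by
  set φ : N →ₗ[A] B ⊗[A] N := a - TensorProduct.mk A B N 1 with hφ
  set M := LinearMap.ker φ with hM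
  have hex : Function.Exact M.subtype φ := LinearMap.exact_subtype_ker_map φ
  have hexB : Function.Exact (M.subtype.lTensor B) (φ.lTensor B) :=
    Module.Flat.lTensor_exact B hex
  have hinjB : Function.Injective (M.subtype.lTensor B) :=
    Module.Flat.lTensor_preserves_injective_linearMap _ M.injective_subtype
  -- `a (μ x) = x` for `x` in the image of `B ⊗ M`
  have hkey : ∀ y : B ⊗[A] M, a (actMap ((M.subtype.lTensor B) y)) = (M.subtype.lTensor B) y := by
    intro y
    induction y using TensorProduct.induction_on with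
    | zero => simp only [map_zero]
    | tmul b m =>
      rw [LinearMap.lTensor_tmul, Submodule.subtype_apply, actMap_tmul, ha]
      have hm : a (m : N) = (1 : B) ⊗ₜ[A] (m : N) := by
        have h0 : φ (m : N) = 0 := LinearMap.mem_ker.mp m.2
        rw [hφ, LinearMap.sub_apply, sub_eq_zero] at h0
        rw [h0, TensorProduct.mk_apply]
      rw [hm, TensorProduct.smul_tmul', smul_eq_mul, mul_one]
    | add y y' hy hy' => simp only [map_add, hy, hy']
  constructor
  · intro y y' h
    simp only [LinearMap.coe_comp, Function.comp_apply] at h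
    apply hinjB
    rw [← hkey y, ← hkey y', h]
  · intro n
    have h1 : (φ.lTensor B) (a n) = 0 := by
      rw [hφ, LinearMap.lTensor_sub, LinearMap.sub_apply, hcoassoc, sub_self]
    obtain ⟨y, hy⟩ := (hexB (a n)).1 h1
    refine ⟨y, ?_⟩
    simp only [LinearMap.coe_comp, Function.comp_apply]
    rw [hy, hcounit]

end comodule

section degzero

variable {A : Type u} [CommRing A] {B : Type u} [CommRing B] [Algebra A B]

/-- Amitsur exactness in degree zero: for `B` faithfully flat over `A`, an element `b` with
`b ⊗ 1 = 1 ⊗ b` in `B ⊗[A] B` comes from `A`. -/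
theorem mem_range_algebraMap_of_tmul_eq [Module.FaithfullyFlat A B] (b : B)
    (h : b ⊗ₜ[A] (1 : B) = (1 : B) ⊗ₜ[A] b) : b ∈ Set.range (algebraMap A B) := by
  let q := (LinearMap.range (Algebra.linearMap A B)).mkQ
  have h1 : (q.lTensor B) (b ⊗ₜ[A] (1 : B)) = 0 := by
    rw [LinearMap.lTensor_tmul]
    have : q (1 : B) = 0 := by
      rw [Submodule.mkQ_apply, Submodule.Quotient.mk_eq_zero]
      exact ⟨1, by simp⟩
    rw [this, TensorProduct.tmul_zero]
  rw [h, LinearMap.lTensor_tmul] at h1
  have h3 : q b = 0 := by
    apply Module.FaithfullyFlat.tensorProduct_mk_injective (A := A) (B := B)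
    rw [map_zero]
    exact h1
  rw [Submodule.mkQ_apply, Submodule.Quotient.mk_eq_zero] at h3
  obtain ⟨α, hα⟩ := h3
  exact ⟨α, hα⟩

end degzero

end Groth.Agent.Lib.helper5.ThkAff
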