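import Mathlib

/-!
# Thickenings of affine schemes in algebraic spaces, algebra part B (helper5)

`B' → B` a surjection of rings whose kernel is (the image of) a `B`-module `N` (so the kernel has square
zero), `B' → Q'` a flat ring map, `Q' → P ⊗[A] B` a surjection with kernel generated by the kernel of
`B' → B`.  Then the kernel of `Q' → P ⊗[A] B` is `P ⊗[A] N`: we construct an injective additive map
`Psi : P ⊗[A] N → Q'` with image the kernel, compatible with the multiplications.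
-/

set_option autoImplicit false
universe u

namespace Groth.Agent.Lib.helper5.ThkAff

open TensorProduct

/-- The setting of the kernel lemma. -/
structure GSetup (A P B B' Q' N : Type u) [CommRing A] [CommRing P] [CommRing B] [CommRing B']
    [CommRing Q'] [Algebra A P] [Algebra A B] [Algebra B' Q'] [AddCommGroup N] [Module B' N]
    [Module B N] [Module A N] where
  πB : B' →+* B
  πB_surj : Function.Surjective πB
  ι : N →ₗ[B'] B'
  ι_inj : Function.Injective ι
  range_ι : ∀ x : B', πB x = 0 ↔ x ∈ Set.range ι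
  compat : ∀ (x : B') (n : N), πB x • n = x • n
  πQ : Q' →+* P ⊗[A] B
  πQ_surj : Function.Surjective πQ
  ker_πQ : RingHom.ker πQ = (RingHom.ker πB).map (algebraMap B' Q')
  πQ_algebraMap : ∀ x : B', πQ (algebraMap B' Q' x) = (1 : P) ⊗ₜ[A] πB x

section act

variable (A P B N : Type u) [CommRing A] [CommRing P] [CommRing B] [Algebra A P] [Algebra A B]
  [AddCommGroup N] [Module B N] [Module A N] [IsScalarTower A B N]

/-- `B` acting on the right factor of `P ⊗[A] N`. -/
noncomputable def actB : B →ₐ[A] Module.End A (P ⊗[A] N) :=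
  (Module.End.lTensorAlgHom A N P).comp (Algebra.lsmul A A N)

theorem actB_tmul (b : B) (p : P) (n : N) : actB A P B N b (p ⊗ₜ[A] n) = p ⊗ₜ[A] (b • n) := by
  change (LinearMap.lTensor P ((Algebra.lsmul A A N) b)) (p ⊗ₜ[A] n) = _
  rw [LinearMap.lTensor_tmul]
  rfl

/-- The action of `P ⊗[A] B` on `P ⊗[A] N`. -/
noncomputable def act : P ⊗[A] B →ₐ[A] Module.End A (P ⊗[A] N) :=
  Algebra.TensorProduct.lift (Algebra.lsmul A A (P ⊗[A] N)) (actB A P B N) (by
    intro p b
    rw [commute_iff_eq]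
    apply LinearMap.ext
    intro z
    induction z using TensorProduct.induction_on with
    | zero => simp only [map_zero]
    | tmul x n =>
      rw [Module.End.mul_apply, Module.End.mul_apply, actB_tmul]
      change p • (x ⊗ₜ[A] (b • n)) = (actB A P B N) b (p • (x ⊗ₜ[A] n))
      rw [TensorProduct.smul_tmul', TensorProduct.smul_tmul', actB_tmul]
    | add z z' hz hz' => simp only [map_add, hz, hz'])

theorem act_tmul (p : P) (b : B) (x : P) (n : N) :
    act A P B N (p ⊗ₜ[A] b) (x ⊗ₜ[A] n) = (p * x) ⊗ₜ[A] (b • n) := by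
  rw [act, Algebra.TensorProduct.lift_tmul, Module.End.mul_apply, actB_tmul]
  change p • (x ⊗ₜ[A] (b • n)) = _
  rw [TensorProduct.smul_tmul', smul_eq_mul]

end act


namespace GSetup

variable {A P B B' Q' N : Type u} [CommRing A] [CommRing P] [CommRing B] [CommRing B']
  [CommRing Q'] [Algebra A P] [Algebra A B] [Algebra B' Q'] [AddCommGroup N] [Module B' N]
  [Module B N] [Module A N] (G : GSetup A P B B' Q' N)

include G in
theorem πB_ι (n : N) : G.πB (G.ι n) = 0 := (G.range_ι _).mpr ⟨n, rfl⟩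

include G in
/-- elements of the kernel of `B' → B` kill `N` -/
theorem smul_eq_zero_of_πB {x : B'} (hx : G.πB x = 0) (n : N) : x • n = 0 := by
  rw [← G.compat, hx, zero_smul]

include G in
theorem πQ_algebraMap_ι (n : N) : G.πQ (algebraMap B' Q' (G.ι n)) = 0 := by
  rw [G.πQ_algebraMap, G.πB_ι, TensorProduct.tmul_zero]

include G in
theorem map_tmul (k : Q') (hk' : k ∈ (RingHom.ker G.πB).map (algebraMap B' Q')) (n : N) :
    k ⊗ₜ[B'] n = 0 := by
  rw [Ideal.map] at hk'
  induction hk' using Submodule.span_induction with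
  | mem x hx =>
    obtain ⟨j, hj, rfl⟩ := hx
    have : algebraMap B' Q' j = j • (1 : Q') := by rw [Algebra.smul_def, mul_one]
    rw [this, TensorProduct.smul_tmul, G.smul_eq_zero_of_πB hj, TensorProduct.tmul_zero]
  | zero => rw [TensorProduct.zero_tmul]
  | add x y _ _ hx hy => rw [TensorProduct.add_tmul, hx, hy, add_zero]
  | smul c x _ hx =>
    rw [smul_eq_mul]
    have : (c * x) ⊗ₜ[B'] n = c • (x ⊗ₜ[B'] n) := by
      rw [TensorProduct.smul_tmul', smul_eq_mul]
    rw [this, hx, smul_zero]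

include G in
/-- elements of the kernel of `Q' → P ⊗ B` kill `Q' ⊗[B'] N` -/
theorem ker_tmul {k : Q'} (hk : G.πQ k = 0) (n : N) : k ⊗ₜ[B'] n = 0 := by
  apply G.map_tmul
  rw [← G.ker_πQ]
  exact hk

include G in
theorem tmul_congr {c c' : Q'} (h : G.πQ c = G.πQ c') (n : N) : c ⊗ₜ[B'] n = c' ⊗ₜ[B'] n := by
  have : (c - c') ⊗ₜ[B'] n = 0 := G.ker_tmul (by rw [map_sub, h, sub_self]) n
  rw [TensorProduct.sub_tmul, sub_eq_zero] at this
  exact this

/-- a set-theoretic section of `πQ` -/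
noncomputable def σ (w : P ⊗[A] B) : Q' := Function.surjInv G.πQ_surj w

theorem πQ_σ (w : P ⊗[A] B) : G.πQ (G.σ w) = w := Function.surjInv_eq G.πQ_surj w

/-- a set-theoretic section of `πB` -/
noncomputable def τ (b : B) : B' := Function.surjInv G.πB_surj b

theorem πB_τ (b : B) : G.πB (G.τ b) = b := Function.surjInv_eq G.πB_surj b

include G in
theorem smul_eq_τ_smul (b : B) (n : N) : b • n = G.τ b • n := by
  rw [← G.compat, G.πB_τ]

variable [IsScalarTower A B N]

/-- `lam : P ⊗[A] N → Q' ⊗[B'] N`, `p ⊗ n ↦ σ (p ⊗ 1) ⊗ n` -/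
noncomputable def lam : P ⊗[A] N →+ Q' ⊗[B'] N :=
  TensorProduct.liftAddHom
    (AddMonoidHom.mk' (fun p : P => AddMonoidHom.mk' (fun n : N => G.σ (p ⊗ₜ[A] (1 : B)) ⊗ₜ[B'] n)
      (fun n n' => TensorProduct.tmul_add _ n n'))
      (fun p p' => by
        ext n
        change G.σ ((p + p') ⊗ₜ[A] (1 : B)) ⊗ₜ[B'] n =
          G.σ (p ⊗ₜ[A] (1 : B)) ⊗ₜ[B'] n + G.σ (p' ⊗ₜ[A] (1 : B)) ⊗ₜ[B'] n
        rw [← TensorProduct.add_tmul]
        apply G.tmul_congr
        rw [map_add, G.πQ_σ, G.πQ_σ, G.πQ_σ, TensorProduct.add_tmul]))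
    (by
      intro α p n
      change G.σ ((α • p) ⊗ₜ[A] (1 : B)) ⊗ₜ[B'] n = G.σ (p ⊗ₜ[A] (1 : B)) ⊗ₜ[B'] (α • n)
      have h1 : α • n = G.τ (algebraMap A B α) • n := by
        rw [← G.smul_eq_τ_smul, algebraMap_smul]
      rw [h1, ← TensorProduct.smul_tmul]
      apply G.tmul_congr
      have h2 : G.τ (algebraMap A B α) • G.σ (p ⊗ₜ[A] (1 : B)) =
          algebraMap B' Q' (G.τ (algebraMap A B α)) * G.σ (p ⊗ₜ[A] (1 : B)) :=
        Algebra.smul_def _ _
      rw [G.πQ_σ, h2, map_mul, G.πQ_algebraMap, G.πB_τ, G.πQ_σ,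
        Algebra.TensorProduct.tmul_mul_tmul, one_mul, mul_one, Algebra.algebraMap_eq_smul_one,
        TensorProduct.smul_tmul])

theorem lam_tmul (p : P) (n : N) : G.lam (p ⊗ₜ[A] n) = G.σ (p ⊗ₜ[A] (1 : B)) ⊗ₜ[B'] n := rfl

/-- `nu : Q' ⊗[B'] N → P ⊗[A] N`, `c ⊗ n ↦ πQ c • (1 ⊗ n)` -/
noncomputable def nu : Q' ⊗[B'] N →+ P ⊗[A] N :=
  TensorProduct.liftAddHom
    (AddMonoidHom.mk' (fun c : Q' => AddMonoidHom.mk' (fun n : N => act A P B N (G.πQ c) ((1 : P) ⊗ₜ[A] n))
      (fun n n' => by rw [TensorProduct.tmul_add, map_add]))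
      (fun c c' => by
        ext n
        change act A P B N (G.πQ (c + c')) ((1 : P) ⊗ₜ[A] n) =
          act A P B N (G.πQ c) ((1 : P) ⊗ₜ[A] n) + act A P B N (G.πQ c') ((1 : P) ⊗ₜ[A] n)
        rw [map_add, map_add, LinearMap.add_apply]))
    (by
      intro x c n
      change act A P B N (G.πQ (x • c)) ((1 : P) ⊗ₜ[A] n) = act A P B N (G.πQ c) ((1 : P) ⊗ₜ[A] (x • n))
      rw [Algebra.smul_def, map_mul, G.πQ_algebraMap, mul_comm, map_mul, Module.End.mul_apply,
        act_tmul, one_mul, G.compat])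

theorem nu_tmul (c : Q') (n : N) : G.nu (c ⊗ₜ[B'] n) = act A P B N (G.πQ c) ((1 : P) ⊗ₜ[A] n) := rfl

theorem nu_lam (z : P ⊗[A] N) : G.nu (G.lam z) = z := by
  induction z using TensorProduct.induction_on with
  | zero => simp only [map_zero]
  | tmul p n => rw [lam_tmul, nu_tmul, G.πQ_σ, act_tmul, mul_one, one_smul]
  | add z z' hz hz' => simp only [map_add, hz, hz']

theorem lam_act (n : N) (w : P ⊗[A] B) :
    ∀ c : Q', G.πQ c = w → G.lam (act A P B N w ((1 : P) ⊗ₜ[A] n)) = c ⊗ₜ[B'] n := by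
  induction w using TensorProduct.induction_on with
  | zero =>
    intro c hc
    rw [map_zero, LinearMap.zero_apply, map_zero, G.ker_tmul hc]
  | tmul p b =>
    intro c hc
    rw [act_tmul, mul_one, lam_tmul, G.smul_eq_τ_smul, ← TensorProduct.smul_tmul]
    apply G.tmul_congr
    rw [Algebra.smul_def, map_mul, G.πQ_algebraMap, G.πB_τ, G.πQ_σ, hc,
      Algebra.TensorProduct.tmul_mul_tmul, one_mul, mul_one]
  | add w w' hw hw' =>
    intro c hc
    have h1 := hw (G.σ w) (G.πQ_σ w)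
    have h2 := hw' (c - G.σ w) (by rw [map_sub, hc, G.πQ_σ, add_sub_cancel_left])
    rw [map_add, LinearMap.add_apply, map_add, h1, h2, ← TensorProduct.add_tmul,
      add_sub_cancel]

theorem lam_nu (t : Q' ⊗[B'] N) : G.lam (G.nu t) = t := by
  induction t using TensorProduct.induction_on with
  | zero => simp only [map_zero]
  | tmul c n => rw [nu_tmul, G.lam_act n _ c rfl]
  | add t t' ht ht' => simp only [map_add, ht, ht']

theorem nu_smul (c : Q') (t : Q' ⊗[B'] N) : G.nu (c • t) = act A P B N (G.πQ c) (G.nu t) := by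
  induction t using TensorProduct.induction_on with
  | zero => simp only [smul_zero, map_zero]
  | tmul c₁ n =>
    rw [TensorProduct.smul_tmul', smul_eq_mul, nu_tmul, nu_tmul, map_mul, map_mul,
      Module.End.mul_apply]
  | add t t' ht ht' => simp only [smul_add, map_add, ht, ht']

/-- `rho : Q' ⊗[B'] N → Q'`, `c ⊗ n ↦ ι n • c` -/
noncomputable def rho : Q' ⊗[B'] N →ₗ[B'] Q' :=
  (TensorProduct.rid B' Q').toLinearMap ∘ₗ LinearMap.lTensor Q' G.ι

theorem rho_tmul (c : Q') (n : N) : G.rho (c ⊗ₜ[B'] n) = c * algebraMap B' Q' (G.ι n) := by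
  rw [rho, LinearMap.comp_apply, LinearMap.lTensor_tmul, LinearEquiv.coe_coe,
    TensorProduct.rid_tmul, Algebra.smul_def, mul_comm]

theorem rho_smul (c : Q') (t : Q' ⊗[B'] N) : G.rho (c • t) = c * G.rho t := by
  induction t using TensorProduct.induction_on with
  | zero => simp only [smul_zero, map_zero, mul_zero]
  | tmul c₁ n => rw [TensorProduct.smul_tmul', smul_eq_mul, rho_tmul, rho_tmul, mul_assoc]
  | add t t' ht ht' => simp only [smul_add, map_add, ht, ht', mul_add]

theorem rho_injective [Module.Flat B' Q'] : Function.Injective G.rho := by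
  rw [rho]
  exact (TensorProduct.rid B' Q').injective.comp
    (Module.Flat.lTensor_preserves_injective_linearMap _ G.ι_inj)

theorem πQ_rho (t : Q' ⊗[B'] N) : G.πQ (G.rho t) = 0 := by
  induction t using TensorProduct.induction_on with
  | zero => simp only [map_zero]
  | tmul c n => rw [rho_tmul, map_mul, G.πQ_algebraMap_ι, mul_zero]
  | add t t' ht ht' => simp only [map_add, ht, ht', add_zero]

/-- **The kernel map** `Psi : P ⊗[A] N → Q'`. -/
noncomputable def Psi : P ⊗[A] N →+ Q' := G.rho.toAddMonoidHom.comp G.lam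

theorem Psi_nu (t : Q' ⊗[B'] N) : G.Psi (G.nu t) = G.rho t := by
  change G.rho (G.lam (G.nu t)) = _
  rw [G.lam_nu]

theorem Psi_spec (c : Q') (n : N) :
    G.Psi (act A P B N (G.πQ c) ((1 : P) ⊗ₜ[A] n)) = c * algebraMap B' Q' (G.ι n) := by
  rw [← nu_tmul, Psi_nu, rho_tmul]

theorem Psi_tmul_of (y : Q') (p : P) (n : N) (hy : G.πQ y = p ⊗ₜ[A] (1 : B)) :
    G.Psi (p ⊗ₜ[A] n) = y * algebraMap B' Q' (G.ι n) := by
  rw [← G.Psi_spec y n, hy, act_tmul, mul_one, one_smul]

theorem Psi_mul (c : Q') (z : P ⊗[A] N) : G.Psi (act A P B N (G.πQ c) z) = c * G.Psi z := by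
  have hz : z = G.nu (G.lam z) := (G.nu_lam z).symm
  rw [hz, ← nu_smul, Psi_nu, Psi_nu, rho_smul]

theorem πQ_Psi (z : P ⊗[A] N) : G.πQ (G.Psi z) = 0 := G.πQ_rho _

theorem Psi_injective [Module.Flat B' Q'] : Function.Injective G.Psi := by
  intro z z' h
  have h1 : G.lam z = G.lam z' := G.rho_injective h
  rw [← G.nu_lam z, ← G.nu_lam z', h1]

theorem exists_Psi_eq_of_mem (k : Q') (hk' : k ∈ (RingHom.ker G.πB).map (algebraMap B' Q')) :
    ∃ z : P ⊗[A] N, G.Psi z = k := by
  rw [Ideal.map] at hk'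
  induction hk' using Submodule.span_induction with
  | mem x hx =>
    obtain ⟨j, hj, rfl⟩ := hx
    obtain ⟨n, rfl⟩ := (G.range_ι j).mp hj
    refine ⟨G.nu ((1 : Q') ⊗ₜ[B'] n), ?_⟩
    rw [Psi_nu, rho_tmul, one_mul]
  | zero => exact ⟨0, map_zero _⟩
  | add x y _ _ hx hy =>
    obtain ⟨z, hz⟩ := hx
    obtain ⟨z', hz'⟩ := hy
    exact ⟨z + z', by rw [map_add, hz, hz']⟩
  | smul c x _ hx =>
    obtain ⟨z, hz⟩ := hx
    exact ⟨act A P B N (G.πQ c) z, by rw [Psi_mul, hz, smul_eq_mul]⟩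

theorem exists_Psi_eq (k : Q') (hk : G.πQ k = 0) : ∃ z : P ⊗[A] N, G.Psi z = k := by
  apply G.exists_Psi_eq_of_mem
  rw [← G.ker_πQ]
  exact hk

end GSetup

end Groth.Agent.Lib.helper5.ThkAff
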