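import Mathlib
import Groth.Agent.Lib.Helper5.ThkAffA
import Groth.Agent.Lib.Helper5.ThkAffB

/-!
# Thickenings of affine schemes in algebraic spaces, algebra part C (helper5)

The first order core.  `A → B` faithfully flat; `B' → B` a square zero extension with kernel `N`;
`(B', C', D')` a (truncated) groupoid in rings thickening the Čech nerve `(B, B ⊗ B, B ⊗ B ⊗ B)` of `A → B`
(with `C'`, `D'` flat over `B'` via the last vertex, and kernels generated by `N`).  We construct the coaction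
`N → B ⊗[A] N`, prove that it is a comodule structure, deduce `B ⊗[A] M ≃ N` for `M` the invariants, and show
that `A' = eq(B' ⇉ C') → A` is surjective.
-/

set_option autoImplicit false
universe u

namespace Groth.Agent.Lib.helper5.ThkAff

open TensorProduct

/-- The first order core data. -/
structure Core (A B B' C' D' N : Type u) [CommRing A] [CommRing B] [Algebra A B] [CommRing B']
    [CommRing C'] [CommRing D'] [Algebra B' C'] [Algebra B' D'] [AddCommGroup N] [Module B' N]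
    [Module B N] [Module A N] where
  πB : B' →+* B
  πB_surj : Function.Surjective πB
  ι : N →ₗ[B'] B'
  ι_inj : Function.Injective ι
  range_ι : ∀ x : B', πB x = 0 ↔ x ∈ Set.range ι
  compat : ∀ (x : B') (n : N), πB x • n = x • n
  πC : C' →+* B ⊗[A] B
  πC_surj : Function.Surjective πC
  ker_πC : RingHom.ker πC = (RingHom.ker πB).map (algebraMap B' C')
  πC_t : ∀ x : B', πC (algebraMap B' C' x) = (1 : B) ⊗ₜ[A] πB x
  πD : D' →+* (B ⊗[A] B) ⊗[A] B
  πD_surj : Function.Surjective πD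
  ker_πD : RingHom.ker πD = (RingHom.ker πB).map (algebraMap B' D')
  πD_q3 : ∀ x : B', πD (algebraMap B' D' x) = (1 : B ⊗[A] B) ⊗ₜ[A] πB x
  s' : B' →+* C'
  e' : C' →+* B'
  p12' : C' →+* D'
  p13' : C' →+* D'
  p23' : C' →+* D'
  e_s : ∀ x, e' (s' x) = x
  e_t : ∀ x, e' (algebraMap B' C' x) = x
  h1 : ∀ x, p12' (s' x) = p13' (s' x)
  h2 : ∀ x, p12' (algebraMap B' C' x) = p23' (s' x)
  h3 : ∀ x, p13' (algebraMap B' C' x) = algebraMap B' D' x
  h3' : ∀ x, p23' (algebraMap B' C' x) = algebraMap B' D' x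
  πC_s : ∀ x, πC (s' x) = πB x ⊗ₜ[A] (1 : B)
  πD_12 : ∀ c, πD (p12' c) = πC c ⊗ₜ[A] (1 : B)

namespace Core

variable {A B B' C' D' N : Type u} [CommRing A] [CommRing B] [Algebra A B] [CommRing B']
  [CommRing C'] [CommRing D'] [Algebra B' C'] [Algebra B' D'] [AddCommGroup N] [Module B' N]
  [Module B N] [Module A N] (K : Core A B B' C' D' N)

/-- the kernel setup for `C'` -/
def GC : GSetup A B B B' C' N where
  πB := K.πB
  πB_surj := K.πB_surj
  ι := K.ι
  ι_inj := K.ι_inj
  range_ι := K.range_ι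
  compat := K.compat
  πQ := K.πC
  πQ_surj := K.πC_surj
  ker_πQ := K.ker_πC
  πQ_algebraMap := K.πC_t

/-- the kernel setup for `D'` -/
def GD : GSetup A (B ⊗[A] B) B B' D' N where
  πB := K.πB
  πB_surj := K.πB_surj
  ι := K.ι
  ι_inj := K.ι_inj
  range_ι := K.range_ι
  compat := K.compat
  πQ := K.πD
  πQ_surj := K.πD_surj
  ker_πQ := K.ker_πD
  πQ_algebraMap := K.πD_q3

include K in
theorem πB_ι (n : N) : K.πB (K.ι n) = 0 := (K.range_ι _).mpr ⟨n, rfl⟩

theorem πD_q1 (x : B') : K.πD (K.p13' (K.s' x)) = (K.πB x ⊗ₜ[A] (1 : B)) ⊗ₜ[A] (1 : B) := by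
  rw [← K.h1, K.πD_12, K.πC_s]

theorem πD_q2 (x : B') : K.πD (K.p23' (K.s' x)) = ((1 : B) ⊗ₜ[A] K.πB x) ⊗ₜ[A] (1 : B) := by
  rw [← K.h2, K.πD_12, K.πC_t]

variable [IsScalarTower A B N]

/-- `PsiC : B ⊗[A] N → C'` -/
noncomputable def PsiC : B ⊗[A] N →+ C' := K.GC.Psi

/-- `PsiD : (B ⊗[A] B) ⊗[A] N → D'` -/
noncomputable def PsiD : (B ⊗[A] B) ⊗[A] N →+ D' := K.GD.Psi

theorem PsiC_tmul (x : B') (n : N) :
    K.PsiC (K.πB x ⊗ₜ[A] n) = K.s' x * algebraMap B' C' (K.ι n) :=
  K.GC.Psi_tmul_of (K.s' x) (K.πB x) n (K.πC_s x)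

theorem PsiC_one_tmul (n : N) : K.PsiC ((1 : B) ⊗ₜ[A] n) = algebraMap B' C' (K.ι n) := by
  have := K.PsiC_tmul 1 n
  rwa [map_one, map_one, one_mul] at this

theorem πC_PsiC (z : B ⊗[A] N) : K.πC (K.PsiC z) = 0 := K.GC.πQ_Psi z

theorem PsiC_injective [Module.Flat B' C'] : Function.Injective K.PsiC := K.GC.Psi_injective

theorem exists_PsiC_eq (c : C') (hc : K.πC c = 0) : ∃ z, K.PsiC z = c := K.GC.exists_Psi_eq c hc

theorem act_tmul_one (b : B) (z : B ⊗[A] N) : act A B B N (b ⊗ₜ[A] (1 : B)) z = b • z := by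
  induction z using TensorProduct.induction_on with
  | zero => simp only [map_zero, smul_zero]
  | tmul x n => rw [act_tmul, one_smul, TensorProduct.smul_tmul', smul_eq_mul]
  | add z z' hz hz' => simp only [map_add, smul_add, hz, hz']

theorem PsiC_smul (x : B') (z : B ⊗[A] N) : K.PsiC (K.πB x • z) = K.s' x * K.PsiC z := by
  have := K.GC.Psi_mul (K.s' x) z
  change K.PsiC (act A B B N (K.πC (K.s' x)) z) = _ at this
  rwa [K.πC_s, act_tmul_one] at this

theorem PsiD_tmul (x₁ x₂ : B') (n : N) :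
    K.PsiD ((K.πB x₁ ⊗ₜ[A] K.πB x₂) ⊗ₜ[A] n) =
      K.p13' (K.s' x₁) * K.p23' (K.s' x₂) * algebraMap B' D' (K.ι n) := by
  refine K.GD.Psi_tmul_of (K.p13' (K.s' x₁) * K.p23' (K.s' x₂)) _ n ?_
  change K.πD _ = _
  rw [map_mul, K.πD_q1, K.πD_q2, Algebra.TensorProduct.tmul_mul_tmul,
    Algebra.TensorProduct.tmul_mul_tmul, one_mul, mul_one, mul_one]

theorem PsiD_injective [Module.Flat B' D'] : Function.Injective K.PsiD := K.GD.Psi_injective

/-- `Θ : B ⊗ (B ⊗ N) → D'` -/
noncomputable def Theta : B ⊗[A] (B ⊗[A] N) →+ D' :=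
  K.PsiD.comp (TensorProduct.assoc A B B N).symm.toLinearMap.toAddMonoidHom

theorem Theta_apply (z : B ⊗[A] (B ⊗[A] N)) :
    K.Theta z = K.PsiD ((TensorProduct.assoc A B B N).symm z) := rfl

theorem Theta_tmul (x₁ x₂ : B') (n : N) :
    K.Theta (K.πB x₁ ⊗ₜ[A] (K.πB x₂ ⊗ₜ[A] n)) =
      K.p13' (K.s' x₁) * K.p23' (K.s' x₂) * algebraMap B' D' (K.ι n) := by
  rw [K.Theta_apply, TensorProduct.assoc_symm_tmul, K.PsiD_tmul]

theorem Theta_injective [Module.Flat B' D'] : Function.Injective K.Theta := by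
  intro z z' h
  exact (TensorProduct.assoc A B B N).symm.injective (K.PsiD_injective h)

/-- (C1) -/
theorem Theta_mk (z : B ⊗[A] N) :
    K.Theta (((TensorProduct.mk A B N 1).lTensor B) z) = K.p13' (K.PsiC z) := by
  induction z using TensorProduct.induction_on with
  | zero => simp only [map_zero]
  | tmul b n =>
    obtain ⟨x, rfl⟩ := K.πB_surj b
    have h := K.Theta_tmul x 1 n
    rw [map_one, map_one, map_one, mul_one] at h
    rw [LinearMap.lTensor_tmul, TensorProduct.mk_apply, h, K.PsiC_tmul, map_mul, K.h3]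
  | add z z' hz hz' => simp only [map_add, hz, hz']

/-- (C3) -/
theorem Theta_one_tmul (z : B ⊗[A] N) :
    K.Theta ((1 : B) ⊗ₜ[A] z) = K.p23' (K.PsiC z) := by
  induction z using TensorProduct.induction_on with
  | zero => simp only [TensorProduct.tmul_zero, map_zero]
  | tmul b n =>
    obtain ⟨x, rfl⟩ := K.πB_surj b
    have h := K.Theta_tmul 1 x n
    rw [map_one, map_one, map_one, one_mul] at h
    rw [h, K.PsiC_tmul, map_mul, K.h3']
  | add z z' hz hz' => simp only [TensorProduct.tmul_add, map_add, hz, hz']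

/-- (C2') -/
theorem Theta_tmul' (x : B') (w : B ⊗[A] N) :
    K.Theta (K.πB x ⊗ₜ[A] w) = K.p13' (K.s' x) * K.Theta ((1 : B) ⊗ₜ[A] w) := by
  induction w using TensorProduct.induction_on with
  | zero => simp only [TensorProduct.tmul_zero, map_zero, mul_zero]
  | tmul b n =>
    obtain ⟨x₂, rfl⟩ := K.πB_surj b
    rw [K.Theta_tmul]
    have h := K.Theta_tmul 1 x₂ n
    rw [map_one, map_one, map_one, one_mul] at h
    rw [h, mul_assoc]
  | add w w' hw hw' => simp only [TensorProduct.tmul_add, map_add, hw, hw', mul_add]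

section coaction

variable [Module.Flat B' C']

theorem πC_s_ι (n : N) : K.πC (K.s' (K.ι n)) = 0 := by
  rw [K.πC_s, K.πB_ι, TensorProduct.zero_tmul]

/-- the coaction, as a function -/
noncomputable def aFun (n : N) : B ⊗[A] N :=
  Classical.choose (K.exists_PsiC_eq (K.s' (K.ι n)) (K.πC_s_ι n))

theorem PsiC_aFun (n : N) : K.PsiC (K.aFun n) = K.s' (K.ι n) :=
  Classical.choose_spec (K.exists_PsiC_eq (K.s' (K.ι n)) (K.πC_s_ι n))

omit [Module.Flat B' C'] in
theorem smul_eq_of_πB (α : A) (x : B') (hx : K.πB x = algebraMap A B α) (n : N) :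
    α • n = x • n := by
  rw [← K.compat, hx, algebraMap_smul]

omit [Module.Flat B' C'] in
theorem PsiC_smulA (α : A) (x : B') (hx : K.πB x = algebraMap A B α) (z : B ⊗[A] N) :
    K.PsiC (α • z) = K.s' x * K.PsiC z := by
  rw [← K.PsiC_smul, hx, algebraMap_smul]

/-- the coaction `N → B ⊗[A] N` -/
noncomputable def a : N →ₗ[A] B ⊗[A] N where
  toFun := K.aFun
  map_add' n n' := by
    apply K.PsiC_injective
    rw [map_add, K.PsiC_aFun, K.PsiC_aFun, K.PsiC_aFun, map_add, map_add]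
  map_smul' α n := by
    apply K.PsiC_injective
    obtain ⟨x, hx⟩ := K.πB_surj (algebraMap A B α)
    rw [RingHom.id_apply, K.PsiC_smulA α x hx, K.PsiC_aFun, K.PsiC_aFun, K.smul_eq_of_πB α x hx,
      map_smul, smul_eq_mul, map_mul]

theorem PsiC_a (n : N) : K.PsiC (K.a n) = K.s' (K.ι n) := K.PsiC_aFun n

theorem a_smul (b : B) (n : N) : K.a (b • n) = b • K.a n := by
  obtain ⟨x, rfl⟩ := K.πB_surj b
  apply K.PsiC_injective
  rw [K.PsiC_a, K.PsiC_smul, K.PsiC_a, K.compat, map_smul, smul_eq_mul, map_mul]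

omit [Module.Flat B' C'] in
theorem ι_actMap (z : B ⊗[A] N) : K.ι (actMap (A := A) z) = K.e' (K.PsiC z) := by
  induction z using TensorProduct.induction_on with
  | zero => simp only [map_zero]
  | tmul b n =>
    obtain ⟨x, rfl⟩ := K.πB_surj b
    rw [actMap_tmul, K.compat, map_smul, smul_eq_mul, K.PsiC_tmul, map_mul, K.e_s, K.e_t]
  | add z z' hz hz' => simp only [map_add, hz, hz']

theorem counit (n : N) : actMap (A := A) (K.a n) = n := by
  apply K.ι_inj
  rw [K.ι_actMap, K.PsiC_a, K.e_s]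

theorem Theta_lTensor_a (z : B ⊗[A] N) :
    K.Theta ((K.a.lTensor B) z) = K.p12' (K.PsiC z) := by
  induction z using TensorProduct.induction_on with
  | zero => simp only [map_zero]
  | tmul b n =>
    obtain ⟨x, rfl⟩ := K.πB_surj b
    rw [LinearMap.lTensor_tmul, K.Theta_tmul', K.Theta_one_tmul, K.PsiC_a, K.PsiC_tmul, map_mul,
      K.h1, K.h2]
  | add z z' hz hz' => simp only [map_add, hz, hz']

theorem coassoc [Module.Flat B' D'] (n : N) :
    (K.a.lTensor B) (K.a n) = ((TensorProduct.mk A B N 1).lTensor B) (K.a n) := by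
  apply K.Theta_injective
  rw [K.Theta_lTensor_a, K.Theta_mk, K.PsiC_a, K.h1]

/-- **Descent**: `B ⊗[A] M ≃ N` for `M` the invariants of the coaction. -/
theorem descent [Module.Flat A B] [Module.Flat B' D'] :
    Function.Bijective
      (actMap ∘ₗ (LinearMap.ker (K.a - TensorProduct.mk A B N 1)).subtype.lTensor B) :=
  comodule_descent K.a K.a_smul K.counit K.coassoc

/-- the invariants -/
noncomputable def M : Submodule A N := LinearMap.ker (K.a - TensorProduct.mk A B N 1)

theorem mem_M_iff (n : N) : n ∈ K.M ↔ K.s' (K.ι n) = algebraMap B' C' (K.ι n) := by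
  rw [M, LinearMap.mem_ker, LinearMap.sub_apply, sub_eq_zero, TensorProduct.mk_apply,
    ← K.PsiC_a, ← K.PsiC_one_tmul]
  exact ⟨fun h => by rw [h], fun h => K.PsiC_injective h⟩

end coaction

section beta

variable [Module.Flat B' C'] [Module.Flat B' D'] [Module.FaithfullyFlat A B]

omit [Module.Flat B' C'] [Module.Flat B' D'] [Module.FaithfullyFlat A B] [IsScalarTower A B N] in
theorem πC_sub (b' : B') (α : A) (hb : K.πB b' = algebraMap A B α) :
    K.πC (K.s' b' - algebraMap B' C' b') = 0 := by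
  rw [map_sub, K.πC_s, K.πC_t, hb, Algebra.algebraMap_eq_smul_one, TensorProduct.smul_tmul,
    sub_self]

/-- **Surjectivity of `A' → A`**: every element of `A` lifts to an element of `B'` equalized by
`s'` and `t'`. -/
theorem exists_lift (α : A) :
    ∃ x : B', K.s' x = algebraMap B' C' x ∧ K.πB x = algebraMap A B α := by
  obtain ⟨b', hb⟩ := K.πB_surj (algebraMap A B α)
  obtain ⟨w, hw⟩ := K.exists_PsiC_eq _ (K.πC_sub b' α hb)
  -- the cocycle condition
  have hcoc : (TensorProduct.mk A B (B ⊗[A] N) 1 -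
      (TensorProduct.mk A B N 1 - K.a).lTensor B) w = 0 := by
    apply K.Theta_injective
    rw [map_zero, LinearMap.sub_apply, LinearMap.lTensor_sub, LinearMap.sub_apply, map_sub, map_sub,
      TensorProduct.mk_apply, K.Theta_one_tmul, K.Theta_mk, K.Theta_lTensor_a, hw, map_sub, map_sub,
      map_sub, K.h1, K.h2, K.h3, K.h3']
    ring
  obtain ⟨n, hn⟩ := amitsur_step A B (TensorProduct.mk A B N 1 - K.a) w hcoc
  refine ⟨b' + K.ι n, ?_, ?_⟩
  · have h1 : K.PsiC ((1 : B) ⊗ₜ[A] n) - K.PsiC (K.a n) = K.PsiC w := by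
      rw [← map_sub, ← hn, LinearMap.sub_apply, TensorProduct.mk_apply]
    rw [K.PsiC_one_tmul, K.PsiC_a, hw] at h1
    rw [map_add, map_add]
    linear_combination (-1 : C') * h1
  · rw [map_add, K.πB_ι, add_zero, hb]

end beta

end Core

end Groth.Agent.Lib.helper5.ThkAff
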