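import Mathlib
import Groth.Agent.Lib.Helper5.ThkAffC
import Groth.Agent.Lib.Helper8.LocalFlat

/-!
# Thickenings of affine schemes in algebraic spaces, algebra part D (helper5)

First order core, continued: the equalizer ring `A' = eq(B' ⇉ C')`, the surjection `πA : A' → A`, the equality
`ker (B' → B) = ker (A' → A) · B'` and the flatness of `B'` over `A'`.
-/

set_option autoImplicit false
universe u

namespace Groth.Agent.Lib.helper5.ThkAff

open TensorProduct

namespace Core

variable {A B B' C' D' N : Type u} [CommRing A] [CommRing B] [Algebra A B] [CommRing B']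
  [CommRing C'] [CommRing D'] [Algebra B' C'] [Algebra B' D'] [AddCommGroup N] [Module B' N]
  [Module B N] [Module A N] (K : Core A B B' C' D' N)

/-- the equalizer ring `A'` -/
def A' : Subring B' := RingHom.eqLocus K.s' (algebraMap B' C')

theorem mem_A'_iff (x : B') : x ∈ K.A' ↔ K.s' x = algebraMap B' C' x := Iff.rfl

variable [Module.FaithfullyFlat A B]

include K in
theorem algebraMap_injective : Function.Injective (algebraMap A B) :=
  FaithfulSMul.algebraMap_injective A B

theorem πB_mem_range (x : K.A') : K.πB x ∈ (algebraMap A B).range := by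
  apply mem_range_algebraMap_of_tmul_eq
  rw [← K.πC_s, ← K.πC_t, x.2]

/-- `A ≃ range (A → B)` -/
noncomputable def eA : A ≃+* (algebraMap A B).range :=
  RingEquiv.ofBijective (algebraMap A B).rangeRestrict
    ⟨fun a b h => K.algebraMap_injective (congrArg Subtype.val h),
      (algebraMap A B).rangeRestrict_surjective⟩

/-- the ring map `A' → A` -/
noncomputable def πA : K.A' →+* A :=
  K.eA.symm.toRingHom.comp ((K.πB.comp K.A'.subtype).codRestrict (algebraMap A B).range K.πB_mem_range)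

theorem algebraMap_πA (x : K.A') : algebraMap A B (K.πA x) = K.πB x := by
  have h : K.eA (K.πA x) = ((K.πB.comp K.A'.subtype).codRestrict (algebraMap A B).range
      K.πB_mem_range) x := K.eA.apply_symm_apply _
  exact congrArg Subtype.val h

theorem πA_eq_zero_iff (x : K.A') : K.πA x = 0 ↔ K.πB x = 0 := by
  rw [← K.algebraMap_πA]
  exact ⟨fun h => by rw [h, map_zero], fun h => K.algebraMap_injective (h.trans (map_zero _).symm)⟩

variable [IsScalarTower A B N] [Module.Flat B' C'] [Module.Flat B' D']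

theorem πA_surjective : Function.Surjective K.πA := by
  intro α
  obtain ⟨x, hx, hxα⟩ := K.exists_lift α
  refine ⟨⟨x, hx⟩, ?_⟩
  apply K.algebraMap_injective
  rw [K.algebraMap_πA]
  exact hxα

omit [Module.FaithfullyFlat A B] [Module.Flat B' C'] [Module.Flat B' D'] [IsScalarTower A B N] in
/-- the kernel of `B' → B` has square zero -/
theorem ι_mul_ι (n n' : N) : K.ι n * K.ι n' = 0 := by
  rw [← smul_eq_mul, ← map_smul, ← K.compat, K.πB_ι, zero_smul, map_zero]

omit [Module.FaithfullyFlat A B] [Module.Flat B' C'] [Module.Flat B' D'] [IsScalarTower A B N] in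
theorem mul_eq_zero_of_πB {x y : B'} (hx : K.πB x = 0) (hy : K.πB y = 0) : x * y = 0 := by
  obtain ⟨n, rfl⟩ := (K.range_ι x).mp hx
  obtain ⟨n', rfl⟩ := (K.range_ι y).mp hy
  exact K.ι_mul_ι n n'

/-- the ideal `I = ker (A' → A)` -/
noncomputable def I : Ideal K.A' := RingHom.ker K.πA

theorem mem_I_iff (x : K.A') : x ∈ K.I ↔ K.πB x = 0 := by
  rw [I, RingHom.mem_ker, K.πA_eq_zero_iff]

theorem I_mul_I : K.I * K.I = ⊥ := by
  rw [eq_bot_iff]
  apply Ideal.mul_le.mpr
  intro r hr s hs
  rw [Ideal.mem_bot]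
  apply Subtype.ext
  exact K.mul_eq_zero_of_πB ((K.mem_I_iff r).mp hr) ((K.mem_I_iff s).mp hs)

theorem isNilpotent_I : IsNilpotent K.I := ⟨2, by rw [pow_two, K.I_mul_I]; rfl⟩

omit [Module.Flat B' D'] [Module.FaithfullyFlat A B] in
theorem ι_mem_A' (m : K.M) : K.ι (m : N) ∈ K.A' := (K.mem_M_iff m).mp m.2

/-- the element of `I` attached to an invariant -/
noncomputable def iOf (m : K.M) : K.I :=
  ⟨⟨K.ι (m : N), K.ι_mem_A' m⟩, (K.mem_I_iff _).mpr (K.πB_ι _)⟩

theorem iOf_val (m : K.M) : ((K.iOf m : K.A') : B') = K.ι (m : N) := rfl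

/-- the descent map `B ⊗[A] M → N` -/
noncomputable def del : B ⊗[A] K.M →ₗ[A] N := actMap ∘ₗ (Submodule.subtype K.M).lTensor B

omit [Module.FaithfullyFlat A B] [Module.Flat B' D'] in
theorem del_tmul (b : B) (m : K.M) : K.del (b ⊗ₜ[A] m) = b • (m : N) := by
  rw [del, LinearMap.comp_apply, LinearMap.lTensor_tmul, Submodule.subtype_apply, actMap_tmul]

theorem del_bijective : Function.Bijective K.del := K.descent

/-- `ker (B' → B) = I B'` -/
theorem ker_πB_eq : RingHom.ker K.πB = K.I.map (algebraMap K.A' B') := by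
  apply le_antisymm
  · intro x hx
    obtain ⟨n, rfl⟩ := (K.range_ι x).mp hx
    obtain ⟨y, rfl⟩ := K.del_bijective.2 n
    induction y using TensorProduct.induction_on with
    | zero => rw [map_zero, map_zero]; exact Submodule.zero_mem _
    | tmul b m =>
      obtain ⟨x, rfl⟩ := K.πB_surj b
      rw [K.del_tmul, K.compat, map_smul, smul_eq_mul]
      apply Ideal.mul_mem_left
      exact Ideal.mem_map_of_mem _ (K.iOf m).2
    | add y y' hy hy' =>
      rw [map_add, map_add]
      exact Ideal.add_mem _ (hy (by rw [RingHom.mem_ker, K.πB_ι])) (hy' (by rw [RingHom.mem_ker, K.πB_ι]))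
  · rw [Ideal.map_le_iff_le_comap]
    intro x hx
    rw [Ideal.mem_comap, RingHom.mem_ker]
    exact (K.mem_I_iff x).mp hx

section flat

/-- the invariant attached to an element of `I` -/
noncomputable def mOf (i : K.I) : K.M :=
  ⟨Classical.choose ((K.range_ι ((i : K.A') : B')).mp ((K.mem_I_iff i).mp i.2)), by
    rw [K.mem_M_iff, Classical.choose_spec ((K.range_ι ((i : K.A') : B')).mp ((K.mem_I_iff i).mp i.2))]
    exact (i : K.A').2⟩

theorem ι_mOf (i : K.I) : K.ι (K.mOf i : N) = ((i : K.A') : B') :=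
  Classical.choose_spec ((K.range_ι ((i : K.A') : B')).mp ((K.mem_I_iff i).mp i.2))

theorem mOf_add (i i' : K.I) : K.mOf (i + i') = K.mOf i + K.mOf i' := by
  apply Subtype.ext
  apply K.ι_inj
  rw [Submodule.coe_add, map_add, K.ι_mOf, K.ι_mOf, K.ι_mOf]
  rfl

theorem mOf_smul (r : K.A') (i : K.I) : K.mOf (r • i) = K.πA r • K.mOf i := by
  apply Subtype.ext
  apply K.ι_inj
  rw [Submodule.coe_smul, K.smul_eq_of_πB (K.πA r) (r : B') (K.algebraMap_πA r).symm, map_smul,
    K.ι_mOf, K.ι_mOf]
  rfl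

theorem iOf_mOf (i : K.I) : K.iOf (K.mOf i) = i := by
  apply Subtype.ext
  apply Subtype.ext
  exact K.ι_mOf i

theorem iOf_add (m m' : K.M) : K.iOf (m + m') = K.iOf m + K.iOf m' := by
  apply Subtype.ext
  apply Subtype.ext
  change K.ι ((m + m' : K.M) : N) = K.ι (m : N) + K.ι (m' : N)
  rw [Submodule.coe_add, map_add]

theorem iOf_smul (r : K.A') (m : K.M) : K.iOf (K.πA r • m) = r • K.iOf m := by
  apply Subtype.ext
  apply Subtype.ext
  change K.ι ((K.πA r • m : K.M) : N) = (r : B') * K.ι (m : N)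
  rw [Submodule.coe_smul, K.smul_eq_of_πB (K.πA r) (r : B') (K.algebraMap_πA r).symm, map_smul,
    smul_eq_mul]

/-- `κ : B' ⊗[A'] I → B ⊗[A] M` -/
noncomputable def kap : B' ⊗[K.A'] K.I →+ B ⊗[A] K.M :=
  TensorProduct.liftAddHom
    (AddMonoidHom.mk' (fun b' : B' => AddMonoidHom.mk' (fun i : K.I => K.πB b' ⊗ₜ[A] K.mOf i)
      (fun i i' => by rw [K.mOf_add, TensorProduct.tmul_add]))
      (fun b b' => by
        ext i
        change K.πB (b + b') ⊗ₜ[A] K.mOf i = K.πB b ⊗ₜ[A] K.mOf i + K.πB b' ⊗ₜ[A] K.mOf i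
        rw [map_add, TensorProduct.add_tmul]))
    (by
      intro r b' i
      change K.πB (r • b') ⊗ₜ[A] K.mOf i = K.πB b' ⊗ₜ[A] K.mOf (r • i)
      have h1 : K.πB (r • b') = K.πA r • K.πB b' := by
        change K.πB ((r : B') * b') = _
        rw [map_mul, ← K.algebraMap_πA, Algebra.smul_def]
      rw [h1, K.mOf_smul, TensorProduct.smul_tmul])

theorem kap_tmul (b' : B') (i : K.I) : K.kap (b' ⊗ₜ[K.A'] i) = K.πB b' ⊗ₜ[A] K.mOf i := rfl

/-- elements of `I B'` kill `B' ⊗[A'] I` -/
theorem map_tmul_I (j : B') (hj : j ∈ K.I.map (algebraMap K.A' B')) (i : K.I) :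
    j ⊗ₜ[K.A'] i = 0 := by
  rw [Ideal.map] at hj
  induction hj using Submodule.span_induction with
  | mem x hx =>
    obtain ⟨i₀, hi₀, rfl⟩ := hx
    have h1 : algebraMap K.A' B' i₀ = i₀ • (1 : B') := by rw [Algebra.smul_def, mul_one]
    have h2 : i₀ • i = 0 := by
      apply Subtype.ext
      apply Subtype.ext
      exact K.mul_eq_zero_of_πB ((K.mem_I_iff i₀).mp hi₀) ((K.mem_I_iff i).mp i.2)
    rw [h1, TensorProduct.smul_tmul, h2, TensorProduct.tmul_zero]
  | zero => rw [TensorProduct.zero_tmul]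
  | add x y _ _ hx hy => rw [TensorProduct.add_tmul, hx, hy, add_zero]
  | smul c x _ hx =>
    rw [smul_eq_mul]
    have : (c * x) ⊗ₜ[K.A'] i = c • (x ⊗ₜ[K.A'] i) := by
      rw [TensorProduct.smul_tmul', smul_eq_mul]
    rw [this, hx, smul_zero]

theorem tmul_congr_I {x y : B'} (h : K.πB x = K.πB y) (i : K.I) : x ⊗ₜ[K.A'] i = y ⊗ₜ[K.A'] i := by
  have h0 : (x - y) ⊗ₜ[K.A'] i = 0 := by
    apply K.map_tmul_I
    rw [← K.ker_πB_eq, RingHom.mem_ker, map_sub, h, sub_self]
  rw [TensorProduct.sub_tmul, sub_eq_zero] at h0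
  exact h0

/-- a set-theoretic section of `πB` -/
noncomputable def tau (b : B) : B' := Function.surjInv K.πB_surj b

omit [Module.FaithfullyFlat A B] [IsScalarTower A B N] [Module.Flat B' C'] [Module.Flat B' D'] in
theorem πB_tau (b : B) : K.πB (K.tau b) = b := Function.surjInv_eq K.πB_surj b

/-- `κ' : B ⊗[A] M → B' ⊗[A'] I` -/
noncomputable def kap' : B ⊗[A] K.M →+ B' ⊗[K.A'] K.I :=
  TensorProduct.liftAddHom
    (AddMonoidHom.mk' (fun b : B => AddMonoidHom.mk' (fun m : K.M => K.tau b ⊗ₜ[K.A'] K.iOf m)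
      (fun m m' => by rw [K.iOf_add, TensorProduct.tmul_add]))
      (fun b b' => by
        ext m
        change K.tau (b + b') ⊗ₜ[K.A'] K.iOf m = K.tau b ⊗ₜ[K.A'] K.iOf m + K.tau b' ⊗ₜ[K.A'] K.iOf m
        rw [← TensorProduct.add_tmul]
        apply K.tmul_congr_I
        rw [map_add, K.πB_tau, K.πB_tau, K.πB_tau]))
    (by
      intro α b m
      change K.tau (α • b) ⊗ₜ[K.A'] K.iOf m = K.tau b ⊗ₜ[K.A'] K.iOf (α • m)
      obtain ⟨r, rfl⟩ := K.πA_surjective α
      rw [K.iOf_smul, ← TensorProduct.smul_tmul]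
      apply K.tmul_congr_I
      change _ = K.πB ((r : B') * K.tau b)
      rw [map_mul, K.πB_tau, K.πB_tau, ← K.algebraMap_πA, Algebra.smul_def])

theorem kap'_tmul (b : B) (m : K.M) : K.kap' (b ⊗ₜ[A] m) = K.tau b ⊗ₜ[K.A'] K.iOf m := rfl

theorem kap'_kap (v : B' ⊗[K.A'] K.I) : K.kap' (K.kap v) = v := by
  induction v using TensorProduct.induction_on with
  | zero => simp only [map_zero]
  | tmul b' i =>
    rw [kap_tmul, kap'_tmul, K.iOf_mOf]
    apply K.tmul_congr_I
    rw [K.πB_tau]
  | add v v' hv hv' => simp only [map_add, hv, hv']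

/-- the comparison with the multiplication map -/
theorem ι_del_kap (v : B' ⊗[K.A'] K.I) :
    K.ι (K.del (K.kap v)) = TensorProduct.rid K.A' B' (K.I.subtype.baseChange B' v) := by
  induction v using TensorProduct.induction_on with
  | zero => rw [map_zero, map_zero, map_zero, map_zero, map_zero]
  | tmul b' i =>
    rw [kap_tmul, K.del_tmul, K.compat, map_smul, smul_eq_mul,
      K.ι_mOf, LinearMap.baseChange_tmul, Submodule.subtype_apply, TensorProduct.rid_tmul]
    change _ = ((i : K.A') : B') * b'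
    rw [mul_comm]
  | add v v' hv hv' => rw [map_add, map_add, map_add, map_add, map_add, hv, hv']

theorem baseChange_injective : Function.Injective (K.I.subtype.baseChange B') := by
  rw [injective_iff_map_eq_zero]
  intro v hv
  have h1 := K.ι_del_kap v
  rw [hv, map_zero] at h1
  have h2 := K.ι_inj (h1.trans (map_zero K.ι).symm)
  have h3 : K.kap v = 0 := K.del_bijective.1 (h2.trans (map_zero _).symm)
  rw [← K.kap'_kap v, h3, map_zero]

/-- **Flatness of `B'` over `A'`.** -/
theorem flat : Module.Flat K.A' B' := by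
  letI : Algebra K.A' A := K.πA.toAlgebra
  letI : Algebra B' B := K.πB.toAlgebra
  letI : Algebra K.A' B := (K.πB.comp K.A'.subtype).toAlgebra
  haveI : IsScalarTower K.A' A B := IsScalarTower.of_algebraMap_eq (fun x => (K.algebraMap_πA x).symm)
  haveI : IsScalarTower K.A' B' B := IsScalarTower.of_algebraMap_eq (fun x => rfl)
  exact Groth.Agent.Lib.helper8.LocalFlat.flat_of_surjective_of_isNilpotent
    (A' := K.A') (A := A) (B' := B') (B := B) K.πA_surjective K.πB_surj K.ker_πB_eq K.isNilpotent_I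
    K.baseChange_injective

end flat

end Core

end Groth.Agent.Lib.helper5.ThkAff
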