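import Mathlib

/-!
# Thickenings of affine schemes in algebraic spaces, algebra part E (helper5)

Tensor products and quotients: for a surjective ring map `ρ : R' → R` with kernel `I`, and `ρ`-semilinear
surjections `p : M' → M`, `q : N' → N` with kernels `I M'`, `I N'`, the induced map
`M' ⊗[R'] N' → M ⊗[R] N` is surjective with kernel `I (M' ⊗ N')`.
-/

set_option autoImplicit false
universe u

namespace Groth.Agent.Lib.helper5.ThkAff

open TensorProduct

section TQ

variable {R' R : Type u} [CommRing R'] [CommRing R] (ρ : R' →+* R)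
  {M' N' M N : Type u} [AddCommGroup M'] [AddCommGroup N'] [AddCommGroup M] [AddCommGroup N]
  [Module R' M'] [Module R' N'] [Module R M] [Module R N]
  (p : M' →+ M) (q : N' →+ N)
  (hp : ∀ (r : R') (m : M'), p (r • m) = ρ r • p m) (hq : ∀ (r : R') (n : N'), q (r • n) = ρ r • q n)

/-- the map on tensor products -/
noncomputable def tqMap : M' ⊗[R'] N' →+ M ⊗[R] N :=
  TensorProduct.liftAddHom
    (AddMonoidHom.mk' (fun m : M' => AddMonoidHom.mk' (fun n : N' => p m ⊗ₜ[R] q n)
      (fun n n' => by rw [map_add, TensorProduct.tmul_add]))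
      (fun m m' => by
        ext n
        change p (m + m') ⊗ₜ[R] q n = p m ⊗ₜ[R] q n + p m' ⊗ₜ[R] q n
        rw [map_add, TensorProduct.add_tmul]))
    (by
      intro r m n
      change p (r • m) ⊗ₜ[R] q n = p m ⊗ₜ[R] q (r • n)
      rw [hp, hq, TensorProduct.smul_tmul])

theorem tqMap_tmul (m : M') (n : N') : tqMap ρ p q hp hq (m ⊗ₜ[R'] n) = p m ⊗ₜ[R] q n := rfl

include hp hq in
theorem tqMap_surjective (hps : Function.Surjective p) (hqs : Function.Surjective q) :
    Function.Surjective (tqMap ρ p q hp hq) := by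
  intro w
  induction w using TensorProduct.induction_on with
  | zero => exact ⟨0, map_zero _⟩
  | tmul m n =>
    obtain ⟨m', rfl⟩ := hps m
    obtain ⟨n', rfl⟩ := hqs n
    exact ⟨m' ⊗ₜ[R'] n', rfl⟩
  | add w w' hw hw' =>
    obtain ⟨v, rfl⟩ := hw
    obtain ⟨v', rfl⟩ := hw'
    exact ⟨v + v', map_add _ _ _⟩

variable (hpk : ∀ m : M', p m = 0 → m ∈ (RingHom.ker ρ) • (⊤ : Submodule R' M'))
  (hqk : ∀ n : N', q n = 0 → n ∈ (RingHom.ker ρ) • (⊤ : Submodule R' N'))

omit [CommRing R] in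
theorem tmul_mem_right (I : Ideal R') (m : M') (n : N') (hn : n ∈ I • (⊤ : Submodule R' N')) :
    m ⊗ₜ[R'] n ∈ I • (⊤ : Submodule R' (M' ⊗[R'] N')) := by
  refine Submodule.smul_induction_on hn ?_ ?_
  · intro i hi n₁ _
    rw [TensorProduct.tmul_smul]
    exact Submodule.smul_mem_smul hi Submodule.mem_top
  · intro x y hx hy
    rw [TensorProduct.tmul_add]
    exact Submodule.add_mem _ hx hy

omit [CommRing R] in
theorem tmul_mem_left (I : Ideal R') (m : M') (n : N') (hm : m ∈ I • (⊤ : Submodule R' M')) :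
    m ⊗ₜ[R'] n ∈ I • (⊤ : Submodule R' (M' ⊗[R'] N')) := by
  refine Submodule.smul_induction_on hm ?_ ?_
  · intro i hi m₁ _
    rw [← TensorProduct.smul_tmul']
    exact Submodule.smul_mem_smul hi Submodule.mem_top
  · intro x y hx hy
    rw [TensorProduct.add_tmul]
    exact Submodule.add_mem _ hx hy

include hpk hqk in
/-- the class of `x ⊗ y` modulo `I` only depends on `p x` and `q y` -/
theorem mkQ_tmul_congr {x x₁ : M'} {y y₁ : N'} (hx : p x = p x₁) (hy : q y = q y₁) :
    ((RingHom.ker ρ) • (⊤ : Submodule R' (M' ⊗[R'] N'))).mkQ (x ⊗ₜ[R'] y) =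
      ((RingHom.ker ρ) • (⊤ : Submodule R' (M' ⊗[R'] N'))).mkQ (x₁ ⊗ₜ[R'] y₁) := by
  rw [← sub_eq_zero, ← map_sub, Submodule.mkQ_apply, Submodule.Quotient.mk_eq_zero]
  have h1 : x ⊗ₜ[R'] y - x₁ ⊗ₜ[R'] y₁ = (x - x₁) ⊗ₜ[R'] y + x₁ ⊗ₜ[R'] (y - y₁) := by
    rw [TensorProduct.sub_tmul, TensorProduct.tmul_sub]
    abel
  rw [h1]
  refine Submodule.add_mem _ (tmul_mem_left _ _ _ (hpk _ ?_)) (tmul_mem_right _ _ _ (hqk _ ?_))
  · rw [map_sub, hx, sub_self]
  · rw [map_sub, hy, sub_self]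

variable (hρ : Function.Surjective ρ) (hps : Function.Surjective p) (hqs : Function.Surjective q)

/-- the inverse map modulo `I` -/
noncomputable def tqInv : M ⊗[R] N →+ (M' ⊗[R'] N') ⧸ ((RingHom.ker ρ) • (⊤ : Submodule R' (M' ⊗[R'] N'))) :=
  TensorProduct.liftAddHom
    (AddMonoidHom.mk' (fun m : M => AddMonoidHom.mk' (fun n : N =>
        ((RingHom.ker ρ) • (⊤ : Submodule R' (M' ⊗[R'] N'))).mkQ
          (Function.surjInv hps m ⊗ₜ[R'] Function.surjInv hqs n))
      (fun n n' => by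
        rw [← map_add, ← TensorProduct.tmul_add]
        apply mkQ_tmul_congr ρ p q hpk hqk rfl
        rw [map_add, Function.surjInv_eq hqs, Function.surjInv_eq hqs, Function.surjInv_eq hqs]))
      (fun m m' => by
        ext n
        change ((RingHom.ker ρ) • (⊤ : Submodule R' (M' ⊗[R'] N'))).mkQ _ =
          ((RingHom.ker ρ) • (⊤ : Submodule R' (M' ⊗[R'] N'))).mkQ _ +
          ((RingHom.ker ρ) • (⊤ : Submodule R' (M' ⊗[R'] N'))).mkQ _
        rw [← map_add, ← TensorProduct.add_tmul]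
        apply mkQ_tmul_congr ρ p q hpk hqk _ rfl
        rw [map_add, Function.surjInv_eq hps, Function.surjInv_eq hps, Function.surjInv_eq hps]))
    (by
      intro r m n
      obtain ⟨r', rfl⟩ := hρ r
      change ((RingHom.ker ρ) • (⊤ : Submodule R' (M' ⊗[R'] N'))).mkQ
          (Function.surjInv hps (ρ r' • m) ⊗ₜ[R'] Function.surjInv hqs n) =
        ((RingHom.ker ρ) • (⊤ : Submodule R' (M' ⊗[R'] N'))).mkQ
          (Function.surjInv hps m ⊗ₜ[R'] Function.surjInv hqs (ρ r' • n))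
      have h1 : ((RingHom.ker ρ) • (⊤ : Submodule R' (M' ⊗[R'] N'))).mkQ
          (Function.surjInv hps (ρ r' • m) ⊗ₜ[R'] Function.surjInv hqs n) =
          ((RingHom.ker ρ) • (⊤ : Submodule R' (M' ⊗[R'] N'))).mkQ
          ((r' • Function.surjInv hps m) ⊗ₜ[R'] Function.surjInv hqs n) := by
        apply mkQ_tmul_congr ρ p q hpk hqk _ rfl
        rw [hp, Function.surjInv_eq hps, Function.surjInv_eq hps]
      have h2 : ((RingHom.ker ρ) • (⊤ : Submodule R' (M' ⊗[R'] N'))).mkQ
          (Function.surjInv hps m ⊗ₜ[R'] Function.surjInv hqs (ρ r' • n)) =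
          ((RingHom.ker ρ) • (⊤ : Submodule R' (M' ⊗[R'] N'))).mkQ
          (Function.surjInv hps m ⊗ₜ[R'] (r' • Function.surjInv hqs n)) := by
        apply mkQ_tmul_congr ρ p q hpk hqk rfl
        rw [hq, Function.surjInv_eq hqs, Function.surjInv_eq hqs]
      rw [h1, h2, TensorProduct.smul_tmul])

theorem tqInv_tqMap (v : M' ⊗[R'] N') :
    tqInv ρ p q hp hq hpk hqk hρ hps hqs (tqMap ρ p q hp hq v) =
      ((RingHom.ker ρ) • (⊤ : Submodule R' (M' ⊗[R'] N'))).mkQ v := by
  induction v using TensorProduct.induction_on with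
  | zero => rw [map_zero, map_zero, map_zero]
  | tmul m n =>
    rw [tqMap_tmul]
    change ((RingHom.ker ρ) • (⊤ : Submodule R' (M' ⊗[R'] N'))).mkQ
      (Function.surjInv hps (p m) ⊗ₜ[R'] Function.surjInv hqs (q n)) = _
    apply mkQ_tmul_congr ρ p q hpk hqk
    · rw [Function.surjInv_eq hps]
    · rw [Function.surjInv_eq hqs]
  | add v v' hv hv' => rw [map_add, map_add, map_add, hv, hv']

include hpk hqk hρ hps hqs in
/-- the kernel of `M' ⊗[R'] N' → M ⊗[R] N` is `I (M' ⊗ N')` -/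
theorem mem_of_tqMap_eq_zero (v : M' ⊗[R'] N') (hv : tqMap ρ p q hp hq v = 0) :
    v ∈ (RingHom.ker ρ) • (⊤ : Submodule R' (M' ⊗[R'] N')) := by
  have h := tqInv_tqMap ρ p q hp hq hpk hqk hρ hps hqs v
  rw [hv, map_zero] at h
  rw [← Submodule.Quotient.mk_eq_zero]
  exact h.symm

end TQ

end Groth.Agent.Lib.helper5.ThkAff
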