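import Mathlib
import Groth.Agent.Lib.Helper5.ThkAffD
import Groth.Agent.Lib.Helper5.ThkAffE
import Groth.Agent.Lib.Helper15.NilFlat

/-!
# Thickenings of affine schemes in algebraic spaces, algebra part F (helper5)

First order core, conclusion: `B'` is faithfully flat over `A'`, and the comparison maps
`B' ⊗[A'] B' → C'`, `C' ⊗[A'] B' → D'` are bijective.
-/

set_option autoImplicit false
universe u

namespace Groth.Agent.Lib.helper5.ThkAff

open TensorProduct

section kappa

variable {B' C' D' : Type u} [CommRing B'] [CommRing C'] [CommRing D'] [Algebra B' C'] [Algebra B' D']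
  (S : Subring B')

/-- a ring map `B' → C'` agreeing with the structure map on `S`, as an `S`-algebra map -/
def sAlg (s' : B' →+* C') (hS : ∀ r : S, s' r = algebraMap B' C' r) : B' →ₐ[S] C' :=
  { s' with commutes' := hS }

/-- a ring map `C' → D'` compatible with the structure maps on `S`, as an `S`-algebra map -/
def pAlg (p : C' →+* D') (hp : ∀ r : S, p (algebraMap B' C' r) = algebraMap B' D' r) : C' →ₐ[S] D' :=
  { p with commutes' := hp }

/-- the comparison map `B' ⊗[S] B' → C'` -/
noncomputable def kC (s' : B' →+* C') (hS : ∀ r : S, s' r = algebraMap B' C' r) :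
    B' ⊗[S] B' →ₐ[S] C' :=
  Algebra.TensorProduct.productMap (sAlg S s' hS) (IsScalarTower.toAlgHom S B' C')

/-- the comparison map `C' ⊗[S] B' → D'` -/
noncomputable def kD (p : C' →+* D') (hp : ∀ r : S, p (algebraMap B' C' r) = algebraMap B' D' r) :
    C' ⊗[S] B' →ₐ[S] D' :=
  Algebra.TensorProduct.productMap (pAlg S p hp) (IsScalarTower.toAlgHom S B' D')

theorem kC_tmul (s' : B' →+* C') (hS : ∀ r : S, s' r = algebraMap B' C' r) (x y : B') :
    kC S s' hS (x ⊗ₜ[S] y) = s' x * algebraMap B' C' y := by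
  rw [kC, Algebra.TensorProduct.productMap_apply_tmul]
  rfl

theorem kD_tmul (p : C' →+* D') (hp : ∀ r : S, p (algebraMap B' C' r) = algebraMap B' D' r)
    (c : C') (y : B') : kD S p hp (c ⊗ₜ[S] y) = p c * algebraMap B' D' y := by
  rw [kD, Algebra.TensorProduct.productMap_apply_tmul]
  rfl

end kappa

namespace Core

variable {A B B' C' D' N : Type u} [CommRing A] [CommRing B] [Algebra A B] [CommRing B']
  [CommRing C'] [CommRing D'] [Algebra B' C'] [Algebra B' D'] [AddCommGroup N] [Module B' N]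
  [Module B N] [Module A N] (K : Core A B B' C' D' N)

theorem hS (r : K.A') : K.s' r = algebraMap B' C' r := r.2

theorem hp12 (r : K.A') : K.p12' (algebraMap B' C' r) = algebraMap B' D' r := by
  rw [K.h2, K.hS, K.h3']

variable [Module.FaithfullyFlat A B] [IsScalarTower A B N] [Module.Flat B' C'] [Module.Flat B' D']

omit [IsScalarTower A B N] [Module.Flat B' C'] [Module.Flat B' D'] in
theorem πB_smul (r : K.A') (m : B') : K.πB (r • m) = K.πA r • K.πB m := by
  change K.πB ((r : B') * m) = _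
  rw [map_mul, ← K.algebraMap_πA, Algebra.smul_def]

omit [IsScalarTower A B N] [Module.Flat B' C'] [Module.Flat B' D'] in
theorem πC_smul (r : K.A') (c : C') : K.πC (r • c) = K.πA r • K.πC c := by
  have h0 : r • c = algebraMap B' C' (r : B') * c := Algebra.smul_def r c
  rw [h0, map_mul, K.πC_t, ← K.algebraMap_πA, Algebra.smul_def (K.πA r) (K.πC c),
    Algebra.TensorProduct.algebraMap_apply, Algebra.algebraMap_eq_smul_one, TensorProduct.smul_tmul]

theorem mem_smul_top_of_πB (m : B') (hm : K.πB m = 0) :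
    m ∈ (RingHom.ker K.πA) • (⊤ : Submodule K.A' B') := by
  rw [Ideal.smul_top_eq_map]
  change m ∈ Ideal.map (algebraMap K.A' B') K.I
  rw [← K.ker_πB_eq]
  exact hm

theorem mem_smul_top_of_πC (c : C') (hc : K.πC c = 0) :
    c ∈ (RingHom.ker K.πA) • (⊤ : Submodule K.A' C') := by
  rw [Ideal.smul_top_eq_map]
  change c ∈ Ideal.map (algebraMap K.A' C') K.I
  rw [IsScalarTower.algebraMap_eq K.A' B' C', ← Ideal.map_map, ← K.ker_πB_eq, ← K.ker_πC]
  exact hc

theorem mem_smul_top_of_πD (d : D') (hd : K.πD d = 0) :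
    d ∈ (RingHom.ker K.πA) • (⊤ : Submodule K.A' D') := by
  rw [Ideal.smul_top_eq_map]
  change d ∈ Ideal.map (algebraMap K.A' D') K.I
  rw [IsScalarTower.algebraMap_eq K.A' B' D', ← Ideal.map_map, ← K.ker_πB_eq, ← K.ker_πD]
  exact hd

theorem I_pow_two : K.I ^ 2 = ⊥ := by rw [pow_two, K.I_mul_I]

/-- `B' ⊗[A'] B' → C'` is bijective -/
theorem kC_bijective : Function.Bijective (kC K.A' K.s' K.hS) := by
  haveI := K.flat
  haveI : Module.Flat K.A' C' := Module.Flat.trans K.A' B' C'
  refine Groth.Agent.Lib.helper15.NilFlat.bijective_of_flat_of_nilpotent K.I 2 K.I_pow_two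
    (kC K.A' K.s' K.hS).toLinearMap
    (tqMap K.πA K.πB.toAddMonoidHom K.πB.toAddMonoidHom K.πB_smul K.πB_smul)
    K.πC.toAddMonoidHom ?_ ?_ ?_ ?_
  · intro v
    induction v using TensorProduct.induction_on with
    | zero => rw [map_zero, map_zero, map_zero]
    | tmul x y =>
      rw [tqMap_tmul]
      change K.πC (kC K.A' K.s' K.hS (x ⊗ₜ y)) = K.πB x ⊗ₜ[A] K.πB y
      rw [kC_tmul, map_mul, K.πC_s, K.πC_t, Algebra.TensorProduct.tmul_mul_tmul, one_mul, mul_one]
    | add v v' hv hv' => rw [map_add, map_add, map_add, hv, hv']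
  · exact tqMap_surjective _ _ _ _ _ K.πB_surj K.πB_surj
  · exact mem_of_tqMap_eq_zero _ _ _ _ _ K.mem_smul_top_of_πB K.mem_smul_top_of_πB K.πA_surjective
      K.πB_surj K.πB_surj
  · exact K.mem_smul_top_of_πC

/-- `C' ⊗[A'] B' → D'` is bijective -/
theorem kD_bijective : Function.Bijective (kD K.A' K.p12' K.hp12) := by
  haveI := K.flat
  haveI : Module.Flat K.A' D' := Module.Flat.trans K.A' B' D'
  refine Groth.Agent.Lib.helper15.NilFlat.bijective_of_flat_of_nilpotent K.I 2 K.I_pow_two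
    (kD K.A' K.p12' K.hp12).toLinearMap
    (tqMap K.πA K.πC.toAddMonoidHom K.πB.toAddMonoidHom K.πC_smul K.πB_smul)
    K.πD.toAddMonoidHom ?_ ?_ ?_ ?_
  · intro v
    induction v using TensorProduct.induction_on with
    | zero => rw [map_zero, map_zero, map_zero]
    | tmul c y =>
      rw [tqMap_tmul]
      change K.πD (kD K.A' K.p12' K.hp12 (c ⊗ₜ y)) = K.πC c ⊗ₜ[A] K.πB y
      rw [kD_tmul, map_mul, K.πD_12, K.πD_q3, Algebra.TensorProduct.tmul_mul_tmul, one_mul, mul_one]
    | add v v' hv hv' => rw [map_add, map_add, map_add, hv, hv']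
  · exact tqMap_surjective _ _ _ _ _ K.πC_surj K.πB_surj
  · exact mem_of_tqMap_eq_zero _ _ _ _ _ K.mem_smul_top_of_πC K.mem_smul_top_of_πB K.πA_surjective
      K.πC_surj K.πB_surj
  · exact K.mem_smul_top_of_πD

/-- `B'` is faithfully flat over `A'` -/
theorem faithfullyFlat : Module.FaithfullyFlat K.A' B' := by
  haveI := K.flat
  apply Module.FaithfullyFlat.of_comap_surjective
  intro p'
  have hker : RingHom.ker K.πA ≤ p'.asIdeal := by
    have h2 : K.I ^ 2 ≤ p'.asIdeal := by rw [K.I_pow_two]; exact bot_le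
    exact (p'.isPrime.pow_le_iff two_ne_zero).mp h2
  haveI hp : (p'.asIdeal.map K.πA).IsPrime := Ideal.map_isPrime_of_surjective K.πA_surjective hker
  obtain ⟨P, hP⟩ := PrimeSpectrum.comap_surjective_of_faithfullyFlat (A := A) (B := B) ⟨_, hp⟩
  refine ⟨PrimeSpectrum.comap K.πB P, ?_⟩
  ext x
  have h1 : K.πA x ∈ p'.asIdeal.map K.πA ↔ x ∈ p'.asIdeal := by
    rw [← Ideal.mem_comap, Ideal.comap_map_of_surjective _ K.πA_surjective, sup_eq_left.mpr]
    rw [← RingHom.ker_eq_comap_bot]
    exact hker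
  have h2 : algebraMap A B (K.πA x) ∈ P.asIdeal ↔ K.πA x ∈ p'.asIdeal.map K.πA := by
    have := congrArg (fun q : PrimeSpectrum A => K.πA x ∈ q.asIdeal) hP
    simpa using this
  rw [← h1, ← h2, K.algebraMap_πA]
  rfl

end Core

end Groth.Agent.Lib.helper5.ThkAff
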