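import Mathlib
import Groth.Agent.Lib.Helper5.ThkAffF

/-!
# Thickenings of affine schemes in algebraic spaces, algebra part G (helper5)

Thick groupoid data of arbitrary (finite) nilpotency order with abstract thin rings, and the first order case.
-/

set_option autoImplicit false
universe u

namespace Groth.Agent.Lib.helper5.ThkAff

open TensorProduct

/-- flatness passes to quotients -/
theorem flat_quotient {R S : Type u} [CommRing R] [CommRing S] [Algebra R S] [Module.Flat R S]
    (I : Ideal R) : Module.Flat (R ⧸ I) (S ⧸ I.map (algebraMap R S)) := by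
  let f : (R ⧸ I) ⊗[R] S ≃ₗ[R] S ⧸ I.map (algebraMap R S) :=
    (TensorProduct.comm R (R ⧸ I) S) ≪≫ₗ
      ((Algebra.TensorProduct.quotIdealMapEquivTensorQuot S I).symm.toLinearEquiv.restrictScalars R)
  exact Groth.Agent.Lib.helper8.LocalFlat.flat_of_linearEquiv_of_surjective (R := R) (R₁ := R ⧸ I)
    (R₂ := R ⧸ I) Ideal.Quotient.mk_surjective Ideal.Quotient.mk_surjective le_rfl f

/-- Thick groupoid data over the Čech nerve of `A → B`, thin rings abstract. -/
structure Data (A B C D B' C' D' : Type u) [CommRing A] [CommRing B] [CommRing C] [CommRing D]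
    [CommRing B'] [CommRing C'] [CommRing D'] [Algebra A B] [Algebra B C] [Algebra B D]
    [Algebra A C] [Algebra A D] [IsScalarTower A B C] [IsScalarTower A B D]
    [Algebra B' C'] [Algebra B' D'] where
  πB : B' →+* B
  πB_surj : Function.Surjective πB
  πC : C' →+* C
  πC_surj : Function.Surjective πC
  ker_πC : RingHom.ker πC = (RingHom.ker πB).map (algebraMap B' C')
  πC_t : ∀ x : B', πC (algebraMap B' C' x) = algebraMap B C (πB x)
  πD : D' →+* D
  πD_surj : Function.Surjective πD
  ker_πD : RingHom.ker πD = (RingHom.ker πB).map (algebraMap B' D')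
  πD_q3 : ∀ x : B', πD (algebraMap B' D' x) = algebraMap B D (πB x)
  s' : B' →+* C'
  e' : C' →+* B'
  p12' : C' →+* D'
  p13' : C' →+* D'
  p23' : C' →+* D'
  e_s : ∀ x, e' (s' x) = x
  e_t : ∀ x, e' (algebraMap B' C' x) = x
  h1 : ∀ x, p12' (s' x) = p13' (s' x)
  h2 : ∀ x, p12' (algebraMap B' C' x) = p23' (s' x)
  h3 : ∀ x, p13' (algebraMap B' C' x) = algebraMap B' D' x
  h3' : ∀ x, p23' (algebraMap B' C' x) = algebraMap B' D' x
  s : B →ₐ[A] C
  p12 : C →ₐ[A] D
  πC_s : ∀ x, πC (s' x) = s (πB x)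
  πD_12 : ∀ c, πD (p12' c) = p12 (πC c)
  kC_bij : Function.Bijective (Algebra.TensorProduct.productMap s (IsScalarTower.toAlgHom A B C))
  kD_bij : Function.Bijective (Algebra.TensorProduct.productMap p12 (IsScalarTower.toAlgHom A B D))

namespace Data

variable {A B C D B' C' D' : Type u} [CommRing A] [CommRing B] [CommRing C] [CommRing D]
    [CommRing B'] [CommRing C'] [CommRing D'] [Algebra A B] [Algebra B C] [Algebra B D]
    [Algebra A C] [Algebra A D] [IsScalarTower A B C] [IsScalarTower A B D]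
    [Algebra B' C'] [Algebra B' D'] (K : Data A B C D B' C' D')

/-- the equalizer ring -/
def A' : Subring B' := RingHom.eqLocus K.s' (algebraMap B' C')

theorem hS (r : K.A') : K.s' r = algebraMap B' C' r := r.2

theorem hp12 (r : K.A') : K.p12' (algebraMap B' C' r) = algebraMap B' D' r := by
  rw [K.h2, K.hS, K.h3']

/-- the conclusion -/
structure Concl : Prop where
  ff : Module.FaithfullyFlat K.A' B'
  kC_bij : Function.Bijective (kC K.A' K.s' K.hS)
  kD_bij : Function.Bijective (kD K.A' K.p12' K.hp12)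
  πA_surj : ∀ α : A, ∃ x : K.A', K.πB x = algebraMap A B α
  ker_πB : RingHom.ker K.πB =
    (Ideal.comap K.A'.subtype (RingHom.ker K.πB)).map (algebraMap K.A' B')

section toCore

variable {N : Type u} [AddCommGroup N] [Module B' N] [Module B N] [Module A N]

/-- `B ⊗[A] B ≃ C` -/
noncomputable def eC : B ⊗[A] B ≃ₐ[A] C := AlgEquiv.ofBijective _ K.kC_bij

/-- `C ⊗[A] B ≃ D` -/
noncomputable def eD : C ⊗[A] B ≃ₐ[A] D := AlgEquiv.ofBijective _ K.kD_bij

/-- `(B ⊗[A] B) ⊗[A] B ≃ D` -/
noncomputable def eCD : (B ⊗[A] B) ⊗[A] B ≃ₐ[A] D :=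
  (Algebra.TensorProduct.congr K.eC AlgEquiv.refl).trans K.eD

theorem eC_tmul (b b' : B) : K.eC (b ⊗ₜ[A] b') = K.s b * algebraMap B C b' := by
  change Algebra.TensorProduct.productMap K.s (IsScalarTower.toAlgHom A B C) (b ⊗ₜ[A] b') = _
  rw [Algebra.TensorProduct.productMap_apply_tmul]
  rfl

theorem eD_tmul (c : C) (b : B) : K.eD (c ⊗ₜ[A] b) = K.p12 c * algebraMap B D b := by
  change Algebra.TensorProduct.productMap K.p12 (IsScalarTower.toAlgHom A B D) (c ⊗ₜ[A] b) = _
  rw [Algebra.TensorProduct.productMap_apply_tmul]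
  rfl

theorem eCD_tmul (w : B ⊗[A] B) (b : B) :
    K.eCD (w ⊗ₜ[A] b) = K.p12 (K.eC w) * algebraMap B D b := by
  change K.eD ((Algebra.TensorProduct.congr K.eC AlgEquiv.refl) (w ⊗ₜ[A] b)) = _
  rw [Algebra.TensorProduct.congr_apply, Algebra.TensorProduct.map_tmul, K.eD_tmul]
  rfl

/-- the concrete first order core attached to abstract data and a model `N` of the kernel -/
noncomputable def toCore (ι : N →ₗ[B'] B') (ι_inj : Function.Injective ι)
    (range_ι : ∀ x : B', K.πB x = 0 ↔ x ∈ Set.range ι)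
    (compat : ∀ (x : B') (n : N), K.πB x • n = x • n) : Core A B B' C' D' N where
  πB := K.πB
  πB_surj := K.πB_surj
  ι := ι
  ι_inj := ι_inj
  range_ι := range_ι
  compat := compat
  πC := (K.eC.symm : C →+* B ⊗[A] B).comp K.πC
  πC_surj := K.eC.symm.surjective.comp K.πC_surj
  ker_πC := by
    rw [← K.ker_πC]
    exact RingHom.ker_comp_of_injective K.πC (f := (K.eC.symm : C →+* B ⊗[A] B)) K.eC.symm.injective
  πC_t := fun x => by
    change K.eC.symm (K.πC (algebraMap B' C' x)) = _
    rw [AlgEquiv.symm_apply_eq, K.πC_t, K.eC_tmul, map_one, one_mul]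
  πD := (K.eCD.symm : D →+* (B ⊗[A] B) ⊗[A] B).comp K.πD
  πD_surj := K.eCD.symm.surjective.comp K.πD_surj
  ker_πD := by
    rw [← K.ker_πD]
    exact RingHom.ker_comp_of_injective K.πD (f := (K.eCD.symm : D →+* (B ⊗[A] B) ⊗[A] B))
      K.eCD.symm.injective
  πD_q3 := fun x => by
    change K.eCD.symm (K.πD (algebraMap B' D' x)) = _
    rw [AlgEquiv.symm_apply_eq, K.πD_q3, K.eCD_tmul, map_one, map_one, one_mul]
  s' := K.s'
  e' := K.e'
  p12' := K.p12'
  p13' := K.p13'
  p23' := K.p23'
  e_s := K.e_s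
  e_t := K.e_t
  h1 := K.h1
  h2 := K.h2
  h3 := K.h3
  h3' := K.h3'
  πC_s := fun x => by
    change K.eC.symm (K.πC (K.s' x)) = _
    rw [AlgEquiv.symm_apply_eq, K.πC_s, K.eC_tmul, map_one, mul_one]
  πD_12 := fun c => by
    change K.eCD.symm (K.πD (K.p12' c)) = K.eC.symm (K.πC c) ⊗ₜ[A] (1 : B)
    rw [AlgEquiv.symm_apply_eq, K.πD_12, K.eCD_tmul, map_one, mul_one, AlgEquiv.apply_symm_apply]

variable [Module.FaithfullyFlat A B] [Module.Flat B' C'] [Module.Flat B' D'] [IsScalarTower A B N]

/-- the conclusion holds as soon as the kernel of `B' → B` has a model as in `Core` -/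
theorem concl_of_model (ι : N →ₗ[B'] B') (ι_inj : Function.Injective ι)
    (range_ι : ∀ x : B', K.πB x = 0 ↔ x ∈ Set.range ι)
    (compat : ∀ (x : B') (n : N), K.πB x • n = x • n) : K.Concl := by
  let K' := K.toCore ι ι_inj range_ι compat
  refine ⟨K'.faithfullyFlat, K'.kC_bijective, K'.kD_bijective, ?_, ?_⟩
  · intro α
    obtain ⟨x, hx, hxα⟩ := K'.exists_lift α
    exact ⟨⟨x, hx⟩, hxα⟩
  · have h := K'.ker_πB_eq
    have hI : K'.I = Ideal.comap K.A'.subtype (RingHom.ker K.πB) := by
      ext x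
      rw [K'.mem_I_iff]
      rfl
    rw [hI] at h
    exact h

end toCore

section sqZero

variable [Module.FaithfullyFlat A B] [Module.Flat B' C'] [Module.Flat B' D']

/-- **The first order case.** -/
theorem concl_of_sq_zero (h : (RingHom.ker K.πB) ^ 2 = ⊥) : K.Concl := by
  have hmul : ∀ x y : B', x ∈ RingHom.ker K.πB → y ∈ RingHom.ker K.πB → x * y = 0 := by
    intro x y hx hy
    have h1 : x * y ∈ (RingHom.ker K.πB) ^ 2 := by
      rw [pow_two]
      exact Ideal.mul_mem_mul hx hy
    rw [h] at h1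
    exact h1
  have htors : Module.IsTorsionBySet B' (RingHom.ker K.πB) ((RingHom.ker K.πB : Ideal B') : Set B') := by
    intro x a
    apply Subtype.ext
    exact hmul _ _ a.2 x.2
  letI mq : Module (B' ⧸ RingHom.ker K.πB) (RingHom.ker K.πB) := htors.module
  let e : B' ⧸ RingHom.ker K.πB ≃+* B := RingHom.quotientKerEquivOfSurjective K.πB_surj
  letI mB : Module B (RingHom.ker K.πB) := Module.compHom _ (e.symm : B →+* B' ⧸ RingHom.ker K.πB)
  letI mA : Module A (RingHom.ker K.πB) := Module.compHom _ (algebraMap A B)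
  haveI : IsScalarTower A B (RingHom.ker K.πB) := by
    refine ⟨fun a b n => ?_⟩
    change (a • b) • n = (algebraMap A B a) • (b • n)
    rw [← mul_smul, ← Algebra.smul_def]
  have hcompat : ∀ (x : B') (n : RingHom.ker K.πB), K.πB x • n = x • n := by
    intro x n
    change (e.symm (K.πB x)) • n = x • n
    have h1 : e.symm (K.πB x) = Ideal.Quotient.mk _ x := by
      rw [RingEquiv.symm_apply_eq]
      rfl
    rw [h1]
    exact Module.IsTorsionBySet.mk_smul htors x n
  refine K.concl_of_model (N := RingHom.ker K.πB) (Submodule.subtype _) Subtype.val_injective ?_ hcompat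
  intro x
  rw [← RingHom.mem_ker]
  constructor
  · intro hx
    exact ⟨⟨x, hx⟩, rfl⟩
  · rintro ⟨n, rfl⟩
    exact n.2

end sqZero

end Data

end Groth.Agent.Lib.helper5.ThkAff
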