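import Mathlib
import Groth.Agent.Lib.Helper5.ThkAffG

/-!
# Thickenings of affine schemes in algebraic spaces, algebra part H (helper5)

Quotient data and the induction on the order of nilpotency.
-/

set_option autoImplicit false
universe u

namespace Groth.Agent.Lib.helper5.ThkAff

open TensorProduct

namespace Data

variable {A B C D B' C' D' : Type u} [CommRing A] [CommRing B] [CommRing C] [CommRing D]
    [CommRing B'] [CommRing C'] [CommRing D'] [Algebra A B] [Algebra B C] [Algebra B D]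
    [Algebra A C] [Algebra A D] [IsScalarTower A B C] [IsScalarTower A B D]
    [Algebra B' C'] [Algebra B' D'] (K : Data A B C D B' C' D')
    (J₁ : Ideal B') (hJ₁ : J₁ ≤ RingHom.ker K.πB)
    (hs : J₁.map K.s' ≤ J₁.map (algebraMap B' C'))

include hJ₁ in
theorem map_t_le_ker : J₁.map (algebraMap B' C') ≤ RingHom.ker K.πC := by
  rw [K.ker_πC]
  exact Ideal.map_mono hJ₁

include hJ₁ in
theorem map_q3_le_ker : J₁.map (algebraMap B' D') ≤ RingHom.ker K.πD := by
  rw [K.ker_πD]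
  exact Ideal.map_mono hJ₁

include hs in
theorem le_comap_s : J₁ ≤ Ideal.comap K.s' (J₁.map (algebraMap B' C')) :=
  Ideal.map_le_iff_le_comap.mp hs

theorem le_comap_e : J₁.map (algebraMap B' C') ≤ Ideal.comap K.e' J₁ := by
  rw [Ideal.map_le_iff_le_comap]
  intro x hx
  rw [Ideal.mem_comap, Ideal.mem_comap, K.e_t]
  exact hx

theorem le_comap_p13 : J₁.map (algebraMap B' C') ≤ Ideal.comap K.p13' (J₁.map (algebraMap B' D')) := by
  rw [Ideal.map_le_iff_le_comap]
  intro x hx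
  rw [Ideal.mem_comap, Ideal.mem_comap, K.h3]
  exact Ideal.mem_map_of_mem _ hx

theorem le_comap_p23 : J₁.map (algebraMap B' C') ≤ Ideal.comap K.p23' (J₁.map (algebraMap B' D')) := by
  rw [Ideal.map_le_iff_le_comap]
  intro x hx
  rw [Ideal.mem_comap, Ideal.mem_comap, K.h3']
  exact Ideal.mem_map_of_mem _ hx

include hs in
theorem le_comap_p12 : J₁.map (algebraMap B' C') ≤ Ideal.comap K.p12' (J₁.map (algebraMap B' D')) := by
  rw [Ideal.map_le_iff_le_comap]
  intro x hx
  rw [Ideal.mem_comap, Ideal.mem_comap, K.h2]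
  exact K.le_comap_p23 J₁ (K.le_comap_s J₁ hs hx)

/-- the quotient data -/
noncomputable def quot : Data A B C D (B' ⧸ J₁) (C' ⧸ J₁.map (algebraMap B' C'))
    (D' ⧸ J₁.map (algebraMap B' D')) where
  πB := Ideal.Quotient.lift J₁ K.πB (fun a ha => hJ₁ ha)
  πB_surj := Ideal.Quotient.lift_surjective_of_surjective J₁ _ K.πB_surj
  πC := Ideal.Quotient.lift (J₁.map (algebraMap B' C')) K.πC (fun a ha => K.map_t_le_ker J₁ hJ₁ ha)
  πC_surj := Ideal.Quotient.lift_surjective_of_surjective _ _ K.πC_surj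
  ker_πC := by
    rw [Ideal.ker_quotient_lift, Ideal.ker_quotient_lift, K.ker_πC, Ideal.map_map, Ideal.map_map]
    rfl
  πC_t := fun x => by
    obtain ⟨x, rfl⟩ := Ideal.Quotient.mk_surjective x
    change Ideal.Quotient.lift _ K.πC _ (Ideal.Quotient.mk _ (algebraMap B' C' x)) = _
    rw [Ideal.Quotient.lift_mk, Ideal.Quotient.lift_mk, K.πC_t]
  πD := Ideal.Quotient.lift (J₁.map (algebraMap B' D')) K.πD (fun a ha => K.map_q3_le_ker J₁ hJ₁ ha)
  πD_surj := Ideal.Quotient.lift_surjective_of_surjective _ _ K.πD_surj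
  ker_πD := by
    rw [Ideal.ker_quotient_lift, Ideal.ker_quotient_lift, K.ker_πD, Ideal.map_map, Ideal.map_map]
    rfl
  πD_q3 := fun x => by
    obtain ⟨x, rfl⟩ := Ideal.Quotient.mk_surjective x
    change Ideal.Quotient.lift _ K.πD _ (Ideal.Quotient.mk _ (algebraMap B' D' x)) = _
    rw [Ideal.Quotient.lift_mk, Ideal.Quotient.lift_mk, K.πD_q3]
  s' := Ideal.quotientMap _ K.s' (K.le_comap_s J₁ hs)
  e' := Ideal.quotientMap _ K.e' (K.le_comap_e J₁)
  p12' := Ideal.quotientMap _ K.p12' (K.le_comap_p12 J₁ hs)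
  p13' := Ideal.quotientMap _ K.p13' (K.le_comap_p13 J₁)
  p23' := Ideal.quotientMap _ K.p23' (K.le_comap_p23 J₁)
  e_s := fun x => by
    obtain ⟨x, rfl⟩ := Ideal.Quotient.mk_surjective x
    rw [Ideal.quotientMap_mk, Ideal.quotientMap_mk, K.e_s]
  e_t := fun x => by
    obtain ⟨x, rfl⟩ := Ideal.Quotient.mk_surjective x
    change Ideal.quotientMap _ K.e' _ (Ideal.Quotient.mk _ (algebraMap B' C' x)) = _
    rw [Ideal.quotientMap_mk, K.e_t]
  h1 := fun x => by
    obtain ⟨x, rfl⟩ := Ideal.Quotient.mk_surjective x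
    rw [Ideal.quotientMap_mk, Ideal.quotientMap_mk, Ideal.quotientMap_mk, K.h1]
  h2 := fun x => by
    obtain ⟨x, rfl⟩ := Ideal.Quotient.mk_surjective x
    change Ideal.quotientMap _ K.p12' _ (Ideal.Quotient.mk _ (algebraMap B' C' x)) = _
    rw [Ideal.quotientMap_mk, Ideal.quotientMap_mk, Ideal.quotientMap_mk, K.h2]
  h3 := fun x => by
    obtain ⟨x, rfl⟩ := Ideal.Quotient.mk_surjective x
    change Ideal.quotientMap _ K.p13' _ (Ideal.Quotient.mk _ (algebraMap B' C' x)) =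
      Ideal.Quotient.mk _ (algebraMap B' D' x)
    rw [Ideal.quotientMap_mk, K.h3]
  h3' := fun x => by
    obtain ⟨x, rfl⟩ := Ideal.Quotient.mk_surjective x
    change Ideal.quotientMap _ K.p23' _ (Ideal.Quotient.mk _ (algebraMap B' C' x)) =
      Ideal.Quotient.mk _ (algebraMap B' D' x)
    rw [Ideal.quotientMap_mk, K.h3']
  s := K.s
  p12 := K.p12
  πC_s := fun x => by
    obtain ⟨x, rfl⟩ := Ideal.Quotient.mk_surjective x
    rw [Ideal.quotientMap_mk, Ideal.Quotient.lift_mk, Ideal.Quotient.lift_mk, K.πC_s]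
  πD_12 := fun c => by
    obtain ⟨c, rfl⟩ := Ideal.Quotient.mk_surjective c
    rw [Ideal.quotientMap_mk, Ideal.Quotient.lift_mk, Ideal.Quotient.lift_mk, K.πD_12]
  kC_bij := K.kC_bij
  kD_bij := K.kD_bij

section step

variable [Module.FaithfullyFlat A B] [Module.Flat B' C'] [Module.Flat B' D']

/-- the data `(B', C', D')` over the quotient data -/
noncomputable def overQ (hq : (K.quot J₁ hJ₁ hs).Concl) :
    Data (K.quot J₁ hJ₁ hs).A' (B' ⧸ J₁) (C' ⧸ J₁.map (algebraMap B' C'))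
      (D' ⧸ J₁.map (algebraMap B' D')) B' C' D' where
  πB := Ideal.Quotient.mk J₁
  πB_surj := Ideal.Quotient.mk_surjective
  πC := Ideal.Quotient.mk _
  πC_surj := Ideal.Quotient.mk_surjective
  ker_πC := by rw [Ideal.mk_ker, Ideal.mk_ker]
  πC_t := fun x => rfl
  πD := Ideal.Quotient.mk _
  πD_surj := Ideal.Quotient.mk_surjective
  ker_πD := by rw [Ideal.mk_ker, Ideal.mk_ker]
  πD_q3 := fun x => rfl
  s' := K.s'
  e' := K.e'
  p12' := K.p12'
  p13' := K.p13'
  p23' := K.p23'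
  e_s := K.e_s
  e_t := K.e_t
  h1 := K.h1
  h2 := K.h2
  h3 := K.h3
  h3' := K.h3'
  s := sAlg (K.quot J₁ hJ₁ hs).A' (K.quot J₁ hJ₁ hs).s' (K.quot J₁ hJ₁ hs).hS
  p12 := pAlg (K.quot J₁ hJ₁ hs).A' (K.quot J₁ hJ₁ hs).p12' (K.quot J₁ hJ₁ hs).hp12
  πC_s := fun x => rfl
  πD_12 := fun c => rfl
  kC_bij := hq.kC_bij
  kD_bij := hq.kD_bij

/-- **The induction step.** -/
theorem concl_step (hsq : J₁ ^ 2 = ⊥) (hq : (K.quot J₁ hJ₁ hs).Concl) : K.Concl := by
  haveI := hq.ff
  haveI : Module.Flat (B' ⧸ J₁) (C' ⧸ J₁.map (algebraMap B' C')) := flat_quotient J₁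
  haveI : Module.Flat (B' ⧸ J₁) (D' ⧸ J₁.map (algebraMap B' D')) := flat_quotient J₁
  have h2 : (K.overQ J₁ hJ₁ hs hq).Concl := by
    apply concl_of_sq_zero
    change (RingHom.ker (Ideal.Quotient.mk J₁)) ^ 2 = ⊥
    rw [Ideal.mk_ker, hsq]
  have h2surj : ∀ α₁ : (K.quot J₁ hJ₁ hs).A', ∃ x : K.A',
      Ideal.Quotient.mk J₁ (x : B') = (α₁ : B' ⧸ J₁) := fun α₁ => h2.πA_surj α₁
  have h2ker : J₁ = (Ideal.comap K.A'.subtype J₁).map (algebraMap K.A' B') := by
    have h5 := h2.ker_πB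
    have h6 : RingHom.ker (K.overQ J₁ hJ₁ hs hq).πB = J₁ := Ideal.mk_ker
    rw [h6] at h5
    exact h5
  refine ⟨h2.ff, h2.kC_bij, h2.kD_bij, ?_, ?_⟩
  · intro α
    obtain ⟨x₁, hx₁⟩ := hq.πA_surj α
    obtain ⟨x, hx⟩ := h2surj x₁
    refine ⟨x, ?_⟩
    have h3 : K.πB x = (K.quot J₁ hJ₁ hs).πB (Ideal.Quotient.mk J₁ x) := rfl
    rw [h3]
    have h4 : Ideal.Quotient.mk J₁ (x : B') = (x₁ : B' ⧸ J₁) := hx
    rw [h4, hx₁]
  · apply le_antisymm
    · -- `J₁ ≤ (J ∩ A') B'`
      have hJ₁' : J₁ ≤ (Ideal.comap K.A'.subtype (RingHom.ker K.πB)).map (algebraMap K.A' B') := by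
        rw [h2ker]
        apply Ideal.map_mono
        intro x hx
        exact hJ₁ hx
      -- `J ≤ (J ∩ A') B' + J₁`
      have hJ : RingHom.ker K.πB ≤
          (Ideal.comap K.A'.subtype (RingHom.ker K.πB)).map (algebraMap K.A' B') ⊔ J₁ := by
        intro j hj
        have h7 : Ideal.Quotient.mk J₁ j ∈ RingHom.ker (K.quot J₁ hJ₁ hs).πB := hj
        rw [hq.ker_πB] at h7
        have h8 : (Ideal.comap (K.quot J₁ hJ₁ hs).A'.subtype (RingHom.ker (K.quot J₁ hJ₁ hs).πB)).map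
            (algebraMap (K.quot J₁ hJ₁ hs).A' (B' ⧸ J₁)) ≤
            ((Ideal.comap K.A'.subtype (RingHom.ker K.πB)).map (algebraMap K.A' B')).map
              (Ideal.Quotient.mk J₁) := by
          rw [Ideal.map_le_iff_le_comap]
          intro i₁ hi₁
          rw [Ideal.mem_comap]
          obtain ⟨x, hx'⟩ := h2surj i₁
          have hxJ : x ∈ Ideal.comap K.A'.subtype (RingHom.ker K.πB) := by
            rw [Ideal.mem_comap, RingHom.mem_ker]
            have h9 : K.πB (x : B') = (K.quot J₁ hJ₁ hs).πB (Ideal.Quotient.mk J₁ (x : B')) := rfl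
            change K.πB (x : B') = 0
            rw [h9, hx']
            exact hi₁
          have h10 : algebraMap (K.quot J₁ hJ₁ hs).A' (B' ⧸ J₁) i₁ =
              Ideal.Quotient.mk J₁ (algebraMap K.A' B' x) := hx'.symm
          rw [h10]
          exact Ideal.mem_map_of_mem _ (Ideal.mem_map_of_mem _ hxJ)
        have h11 := h8 h7
        rw [← Ideal.mem_comap, Ideal.comap_map_of_surjective _ Ideal.Quotient.mk_surjective,
          ← RingHom.ker_eq_comap_bot, Ideal.mk_ker] at h11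
        exact h11
      exact hJ.trans (sup_le le_rfl hJ₁')
    · rw [Ideal.map_le_iff_le_comap]
      intro x hx
      exact hx

end step

end Data

section main

/-- **Main algebraic theorem**: the conclusion holds for thick groupoid data of finite nilpotency order. -/
theorem Data.concl_of_pow (m : ℕ) : ∀ {A B C D B' C' D' : Type u} [CommRing A] [CommRing B] [CommRing C]
    [CommRing D] [CommRing B'] [CommRing C'] [CommRing D'] [Algebra A B] [Algebra B C] [Algebra B D]
    [Algebra A C] [Algebra A D] [IsScalarTower A B C] [IsScalarTower A B D]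
    [Algebra B' C'] [Algebra B' D'] (K : Data A B C D B' C' D')
    [Module.FaithfullyFlat A B] [Module.Flat B' C'] [Module.Flat B' D'],
    (RingHom.ker K.πB) ^ (m + 1) = ⊥ → K.Concl := by
  induction m with
  | zero =>
    intro A B C D B' C' D' _ _ _ _ _ _ _ _ _ _ _ _ _ _ _ _ K _ _ _ h
    apply K.concl_of_sq_zero
    rw [zero_add, pow_one] at h
    rw [h]
    exact Ideal.bot_pow two_ne_zero
  | succ m ih =>
    intro A B C D B' C' D' _ _ _ _ _ _ _ _ _ _ _ _ _ _ _ _ K _ _ _ h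
    have hJ₁ : (RingHom.ker K.πB) ^ (m + 1) ≤ RingHom.ker K.πB := Ideal.pow_le_self (Nat.succ_ne_zero m)
    have hs0 : (RingHom.ker K.πB).map K.s' ≤ (RingHom.ker K.πB).map (algebraMap B' C') := by
      rw [← K.ker_πC, Ideal.map_le_iff_le_comap]
      intro x hx
      rw [Ideal.mem_comap, RingHom.mem_ker, K.πC_s, (RingHom.mem_ker).mp hx, map_zero]
    have hs : ((RingHom.ker K.πB) ^ (m + 1)).map K.s' ≤
        ((RingHom.ker K.πB) ^ (m + 1)).map (algebraMap B' C') := by
      rw [Ideal.map_pow, Ideal.map_pow]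
      exact Ideal.pow_right_mono hs0 _
    have hsq : ((RingHom.ker K.πB) ^ (m + 1)) ^ 2 = ⊥ := by
      rw [← pow_mul, eq_bot_iff, ← h]
      exact Ideal.pow_le_pow_right (by omega)
    haveI : Module.Flat (B' ⧸ (RingHom.ker K.πB) ^ (m + 1))
        (C' ⧸ ((RingHom.ker K.πB) ^ (m + 1)).map (algebraMap B' C')) := flat_quotient _
    haveI : Module.Flat (B' ⧸ (RingHom.ker K.πB) ^ (m + 1))
        (D' ⧸ ((RingHom.ker K.πB) ^ (m + 1)).map (algebraMap B' D')) := flat_quotient _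
    have hq : (K.quot _ hJ₁ hs).Concl := by
      apply ih
      change (RingHom.ker (Ideal.Quotient.lift _ K.πB _)) ^ (m + 1) = ⊥
      rw [Ideal.ker_quotient_lift, ← Ideal.map_pow, Ideal.map_quotient_self]
    exact K.concl_step _ hJ₁ hs hsq hq

end main

end Groth.Agent.Lib.helper5.ThkAff
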