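import Mathlib
import Groth.Agent.Lib.Helper5.ThkAffH

/-!
# Thickenings of affine schemes in algebraic spaces, algebra part I (helper5)

Bridges between categorical pushouts of commutative rings and bijectivity of product maps, and the ring map
`A' → A` for thick groupoid data.
-/

set_option autoImplicit false
universe u

namespace Groth.Agent.Lib.helper5.ThkAff

open TensorProduct CategoryTheory CategoryTheory.Limits

section bridge

variable {A B B₂ P : Type u} [CommRing A] [CommRing B] [CommRing B₂] [CommRing P] [Algebra A B]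
  [Algebra A B₂] [Algebra A P] (s : B →ₐ[A] P) (t : B₂ →ₐ[A] P)

/-- a categorical pushout square of rings gives a bijective product map -/
theorem productMap_bijective_of_isPushout
    (h : IsPushout (CommRingCat.ofHom (algebraMap A B)) (CommRingCat.ofHom (algebraMap A B₂))
      (CommRingCat.ofHom s.toRingHom) (CommRingCat.ofHom t.toRingHom)) :
    Function.Bijective (Algebra.TensorProduct.productMap s t) := by
  let e := (CommRingCat.isPushout_tensorProduct A B B₂).isoIsPushout _ _ h
  have h1 : ∀ b : B, e.hom.hom (b ⊗ₜ[A] (1 : B₂)) = s b := by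
    intro b
    have := (CommRingCat.isPushout_tensorProduct A B B₂).inl_isoIsPushout_hom _ _ h
    exact congr($(this).hom b)
  have h2 : ∀ b : B₂, e.hom.hom ((1 : B) ⊗ₜ[A] b) = t b := by
    intro b
    have := (CommRingCat.isPushout_tensorProduct A B B₂).inr_isoIsPushout_hom _ _ h
    exact congr($(this).hom b)
  have he : ∀ z : B ⊗[A] B₂, e.hom.hom z = Algebra.TensorProduct.productMap s t z := by
    intro z
    induction z using TensorProduct.induction_on with
    | zero => rw [map_zero, map_zero]
    | tmul b b' =>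
      have h3 : b ⊗ₜ[A] b' = (b ⊗ₜ[A] (1 : B₂)) * ((1 : B) ⊗ₜ[A] b') := by
        rw [Algebra.TensorProduct.tmul_mul_tmul, mul_one, one_mul]
      rw [h3, map_mul, h1, h2, map_mul, Algebra.TensorProduct.productMap_apply_tmul,
        Algebra.TensorProduct.productMap_apply_tmul, map_one, map_one, mul_one, one_mul]
    | add z z' hz hz' => rw [map_add, map_add, hz, hz']
  have hb : Function.Bijective e.hom.hom := ConcreteCategory.bijective_of_isIso e.hom
  have hfun : (Algebra.TensorProduct.productMap s t : B ⊗[A] B₂ → P) = e.hom.hom := by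
    funext z
    exact (he z).symm
  rw [hfun]
  exact hb

/-- a bijective product map gives a categorical pushout square of rings -/
theorem isPushout_of_productMap_bijective
    (h : Function.Bijective (Algebra.TensorProduct.productMap s t)) :
    IsPushout (CommRingCat.ofHom (algebraMap A B)) (CommRingCat.ofHom (algebraMap A B₂))
      (CommRingCat.ofHom s.toRingHom) (CommRingCat.ofHom t.toRingHom) := by
  let e : B ⊗[A] B₂ ≃+* P := RingEquiv.ofBijective (Algebra.TensorProduct.productMap s t) h
  refine (CommRingCat.isPushout_tensorProduct A B B₂).of_iso (Iso.refl _) (Iso.refl _) (Iso.refl _)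
    e.toCommRingCatIso (by simp) (by simp) ?_ ?_
  · ext b
    change Algebra.TensorProduct.productMap s t (b ⊗ₜ[A] (1 : B₂)) = s b
    rw [Algebra.TensorProduct.productMap_apply_tmul, map_one, mul_one]
  · ext b
    change Algebra.TensorProduct.productMap s t ((1 : B) ⊗ₜ[A] b) = t b
    rw [Algebra.TensorProduct.productMap_apply_tmul, map_one, one_mul]

end bridge

/-- a commutative square of rings with two parallel surjections, the kernel of the second generated by the
kernel of the first, is a pushout square -/
theorem isPushout_of_surjective {A' B' A B : CommRingCat.{u}} (φ : A' ⟶ B') (γ : A' ⟶ A) (α : B' ⟶ B)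
    (β : A ⟶ B) (w : φ ≫ α = γ ≫ β) (hγ : Function.Surjective γ.hom)
    (hα : Function.Surjective α.hom)
    (hker : RingHom.ker α.hom = (RingHom.ker γ.hom).map φ.hom) : IsPushout φ γ α β := by
  have hk : ∀ c : PushoutCocone φ γ, RingHom.ker α.hom ≤ RingHom.ker c.inl.hom := by
    intro c
    rw [hker, Ideal.map_le_iff_le_comap]
    intro x hx
    rw [Ideal.mem_comap, RingHom.mem_ker]
    have h1 : c.inl.hom (φ.hom x) = c.inr.hom (γ.hom x) := congr($(c.condition).hom x)
    rw [h1, (RingHom.mem_ker).mp hx, map_zero]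
  have hd : ∀ (c : PushoutCocone φ γ) (b' : B'),
      (RingHom.liftOfSurjective α.hom hα ⟨c.inl.hom, hk c⟩) (α.hom b') = c.inl.hom b' := fun c b' =>
    RingHom.liftOfRightInverse_comp_apply α.hom _ (Function.rightInverse_surjInv hα)
      ⟨c.inl.hom, hk c⟩ b'
  refine ⟨⟨w⟩, ⟨PushoutCocone.IsColimit.mk w
    (fun c => CommRingCat.ofHom (RingHom.liftOfSurjective α.hom hα ⟨c.inl.hom, hk c⟩))
    (fun c => ?_) (fun c => ?_) (fun c m hm1 hm2 => ?_)⟩⟩
  · ext x
    exact hd c x
  · ext a
    obtain ⟨a', rfl⟩ := hγ a
    have h1 : β.hom (γ.hom a') = α.hom (φ.hom a') := congr($(w.symm).hom a')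
    change (RingHom.liftOfSurjective α.hom hα ⟨c.inl.hom, hk c⟩) (β.hom (γ.hom a')) = _
    rw [h1, hd]
    exact congr($(c.condition).hom a')
  · ext b
    obtain ⟨b', rfl⟩ := hα b
    change m.hom (α.hom b') = (RingHom.liftOfSurjective α.hom hα ⟨c.inl.hom, hk c⟩) (α.hom b')
    rw [hd]
    exact congr($(hm1).hom b')

namespace Data

variable {A B C D B' C' D' : Type u} [CommRing A] [CommRing B] [CommRing C] [CommRing D]
    [CommRing B'] [CommRing C'] [CommRing D'] [Algebra A B] [Algebra B C] [Algebra B D]
    [Algebra A C] [Algebra A D] [IsScalarTower A B C] [IsScalarTower A B D]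
    [Algebra B' C'] [Algebra B' D'] (K : Data A B C D B' C' D') [Module.FaithfullyFlat A B]

theorem πB_mem_range (x : K.A') : K.πB x ∈ (algebraMap A B).range := by
  apply mem_range_algebraMap_of_tmul_eq
  apply K.kC_bij.1
  rw [Algebra.TensorProduct.productMap_apply_tmul, Algebra.TensorProduct.productMap_apply_tmul,
    map_one, map_one, mul_one, one_mul]
  change K.s (K.πB x) = algebraMap B C (K.πB x)
  rw [← K.πC_s, ← K.πC_t, K.hS]

include K in
theorem algebraMap_injective : Function.Injective (algebraMap A B) :=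
  FaithfulSMul.algebraMap_injective A B

/-- `A ≃ range (A → B)` -/
noncomputable def eA : A ≃+* (algebraMap A B).range :=
  RingEquiv.ofBijective (algebraMap A B).rangeRestrict
    ⟨fun a b h => K.algebraMap_injective (congrArg Subtype.val h),
      (algebraMap A B).rangeRestrict_surjective⟩

/-- the ring map `A' → A` -/
noncomputable def πA : K.A' →+* A :=
  K.eA.symm.toRingHom.comp ((K.πB.comp K.A'.subtype).codRestrict (algebraMap A B).range K.πB_mem_range)

theorem algebraMap_πA (x : K.A') : algebraMap A B (K.πA x) = K.πB x := by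
  have h : K.eA (K.πA x) = ((K.πB.comp K.A'.subtype).codRestrict (algebraMap A B).range
      K.πB_mem_range) x := K.eA.apply_symm_apply _
  exact congrArg Subtype.val h

theorem πA_eq_zero_iff (x : K.A') : K.πA x = 0 ↔ K.πB x = 0 := by
  rw [← K.algebraMap_πA]
  exact ⟨fun h => by rw [h, map_zero], fun h => K.algebraMap_injective (h.trans (map_zero _).symm)⟩

theorem ker_πA : RingHom.ker K.πA = Ideal.comap K.A'.subtype (RingHom.ker K.πB) := by
  ext x
  rw [RingHom.mem_ker, K.πA_eq_zero_iff]
  rfl

theorem πA_surjective (h : K.Concl) : Function.Surjective K.πA := by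
  intro α
  obtain ⟨x, hx⟩ := h.πA_surj α
  refine ⟨x, ?_⟩
  apply K.algebraMap_injective
  rw [K.algebraMap_πA, hx]

theorem ker_πB_eq_map (h : K.Concl) :
    RingHom.ker K.πB = (RingHom.ker K.πA).map (algebraMap K.A' B') := by
  rw [K.ker_πA]
  exact h.ker_πB

theorem isNilpotent_ker_πA (n : ℕ) (hn : (RingHom.ker K.πB) ^ (n + 1) = ⊥) :
    IsNilpotent (RingHom.ker K.πA) := by
  refine ⟨n + 1, ?_⟩
  rw [Ideal.zero_eq_bot, eq_bot_iff, K.ker_πA]
  intro x hx
  have h1 : K.A'.subtype x ∈ (RingHom.ker K.πB) ^ (n + 1) := by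
    have h2 : (Ideal.comap K.A'.subtype (RingHom.ker K.πB)) ^ (n + 1) ≤
        Ideal.comap K.A'.subtype ((RingHom.ker K.πB) ^ (n + 1)) := Ideal.le_comap_pow _ _
    exact h2 hx
  rw [hn, Ideal.mem_bot] at h1
  rw [Ideal.mem_bot]
  exact Subtype.ext h1

end Data

end Groth.Agent.Lib.helper5.ThkAff
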