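import Mathlib
import Groth.Agent.Lib.Helper5.ThkAffI
import Groth.Agent.Lib.Helper18.NilBaseFP
import Groth.Agent.Lib.Helper18.NilBaseUnram
import Groth.Agent.Lib.Helper18.NilBaseScheme

/-!
# Thickenings of affine schemes in algebraic spaces: the scheme level (helper5)

An étale groupoid-like pair `R' ⇉ U'` of affine schemes (with unit and composition) which is a finite order
thickening of the Čech pair `R = U ×_W U ⇉ U` of an étale surjective morphism `u : U ⟶ W` of affine schemes is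
itself the Čech pair of an étale surjective morphism `q : U' ⟶ Y` onto an affine scheme.
-/

set_option autoImplicit false
universe u

namespace Groth.Agent.Lib.helper5.ThkAff

open AlgebraicGeometry CategoryTheory CategoryTheory.Limits TensorProduct

theorem appTop_comp_apply {X Y Z : Scheme.{u}} (f : X ⟶ Y) (g : Y ⟶ Z) (x : Γ(Z, ⊤)) :
    (f ≫ g).appTop.hom x = f.appTop.hom (g.appTop.hom x) := by
  rw [Scheme.Hom.comp_appTop]
  rfl

theorem appTop_congr {X Y Y' Z : Scheme.{u}} {f : X ⟶ Y} {g : Y ⟶ Z} {f' : X ⟶ Y'} {g' : Y' ⟶ Z}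
    (h : f ≫ g = f' ≫ g') (x : Γ(Z, ⊤)) :
    f.appTop.hom (g.appTop.hom x) = f'.appTop.hom (g'.appTop.hom x) := by
  rw [← appTop_comp_apply, ← appTop_comp_apply, h]

theorem appTop_id_apply {X Y : Scheme.{u}} {f : X ⟶ Y} {g : Y ⟶ X} (h : f ≫ g = 𝟙 X) (x : Γ(X, ⊤)) :
    f.appTop.hom (g.appTop.hom x) = x := by
  rw [← appTop_comp_apply, h]
  simp

/-- transport a pullback square of spectra to affine schemes -/
theorem isPullback_of_isPullback_SpecMap {P X Y : Scheme.{u}} [IsAffine P] [IsAffine X] [IsAffine Y]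
    {A : CommRingCat.{u}} (fst : P ⟶ X) (snd : P ⟶ Y) (φ : A ⟶ Γ(X, ⊤)) (ψ : A ⟶ Γ(Y, ⊤))
    (h : IsPullback (Spec.map fst.appTop) (Spec.map snd.appTop) (Spec.map φ) (Spec.map ψ)) :
    IsPullback fst snd (X.isoSpec.hom ≫ Spec.map φ) (Y.isoSpec.hom ≫ Spec.map ψ) := by
  refine IsPullback.of_iso h P.isoSpec.symm X.isoSpec.symm Y.isoSpec.symm (Iso.refl _) ?_ ?_ ?_ ?_
  · rw [Iso.symm_hom, Iso.symm_hom, Iso.comp_inv_eq, Category.assoc, ← Scheme.isoSpec_hom_naturality,
      Iso.inv_hom_id_assoc]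
  · rw [Iso.symm_hom, Iso.symm_hom, Iso.comp_inv_eq, Category.assoc, ← Scheme.isoSpec_hom_naturality,
      Iso.inv_hom_id_assoc]
  · simp
  · simp

set_option maxHeartbeats 1600000 in
/-- **Scheme level theorem.** -/
theorem exists_affine_quotient {W U R U' R' T' : Scheme.{u}} [IsAffine W] [IsAffine U'] [IsAffine R']
    (u : U ⟶ W) [Etale u] [Surjective u]
    (r1 r2 : R ⟶ U) (H1 : IsPullback r1 r2 u u)
    (r1' r2' : R' ⟶ U') [Flat r2']
    (a12' a23' : T' ⟶ R') (hT' : IsPullback a12' a23' r2' r1') [Flat (a23' ≫ r2')]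
    (e' : U' ⟶ R') (he1 : e' ≫ r1' = 𝟙 U') (he2 : e' ≫ r2' = 𝟙 U')
    (c' : T' ⟶ R') (hc1 : c' ≫ r1' = a12' ≫ r1') (hc2 : c' ≫ r2' = a23' ≫ r2')
    (jU : U ⟶ U') [IsClosedImmersion jU] (jR : R ⟶ R')
    (H2 : IsPullback jR r2 r2' jU) (H3 : jR ≫ r1' = r1 ≫ jU)
    (n : ℕ) (hn : (RingHom.ker jU.appTop.hom) ^ (n + 1) = ⊥) :
    ∃ (Y : Scheme.{u}) (q : U' ⟶ Y), IsAffine Y ∧ Etale q ∧ Surjective q ∧
      IsPullback r1' r2' q q := by
  -- affineness and closed immersions
  haveI hUaff : IsAffine U := isAffine_of_isAffineHom jU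
  haveI hRaff : IsAffine R := IsAffine.of_isPullback H1
  haveI hjR : IsClosedImmersion jR := MorphismProperty.of_isPullback H2.flip inferInstance
  -- the triple overlaps
  obtain ⟨T, a12, a23, hT⟩ : ∃ (T : Scheme.{u}) (a12 a23 : T ⟶ R), IsPullback a12 a23 r2 r1 :=
    ⟨_, _, _, IsPullback.of_hasPullback r2 r1⟩
  let jT : T ⟶ T' := hT'.lift (a12 ≫ jR) (a23 ≫ jR) (by
    rw [Category.assoc, H2.w, ← Category.assoc, hT.w, Category.assoc, Category.assoc, H3])
  have hjT1 : jT ≫ a12' = a12 ≫ jR := hT'.lift_fst _ _ _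
  have hjT2 : jT ≫ a23' = a23 ≫ jR := hT'.lift_snd _ _ _
  have Q0 : IsPullback jT a23 a23' jR := by
    have hbig := hT.paste_horiz H2
    rw [← hjT1, ← H3] at hbig
    exact IsPullback.of_right hbig hjT2 hT'
  have H5 : IsPullback jT (a23 ≫ r2) (a23' ≫ r2') jU := Q0.paste_vert H2
  have H4 : IsPullback a12 (a23 ≫ r2) (r2 ≫ u) u := hT.paste_vert H1
  haveI hTaff : IsAffine T := IsAffine.of_isPullback hT
  haveI hT'aff : IsAffine T' := IsAffine.of_isPullback hT'
  haveI hjT : IsClosedImmersion jT := MorphismProperty.of_isPullback H5.flip inferInstance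
  -- the rings
  letI algAB : Algebra Γ(W, ⊤) Γ(U, ⊤) := u.appTop.hom.toAlgebra
  letI algBC : Algebra Γ(U, ⊤) Γ(R, ⊤) := r2.appTop.hom.toAlgebra
  letI algBD : Algebra Γ(U, ⊤) Γ(T, ⊤) := (a23 ≫ r2).appTop.hom.toAlgebra
  letI algAC : Algebra Γ(W, ⊤) Γ(R, ⊤) := (r2 ≫ u).appTop.hom.toAlgebra
  letI algAD : Algebra Γ(W, ⊤) Γ(T, ⊤) := ((a23 ≫ r2) ≫ u).appTop.hom.toAlgebra
  haveI tABC : IsScalarTower Γ(W, ⊤) Γ(U, ⊤) Γ(R, ⊤) := IsScalarTower.of_algebraMap_eq (fun x => by
    change (r2 ≫ u).appTop.hom x = r2.appTop.hom (u.appTop.hom x)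
    exact appTop_comp_apply _ _ _)
  haveI tABD : IsScalarTower Γ(W, ⊤) Γ(U, ⊤) Γ(T, ⊤) :=
    IsScalarTower.of_algebraMap_eq (fun x => by
      change ((a23 ≫ r2) ≫ u).appTop.hom x = (a23 ≫ r2).appTop.hom (u.appTop.hom x)
      exact appTop_comp_apply _ _ _)
  letI algB'C' : Algebra Γ(U', ⊤) Γ(R', ⊤) := r2'.appTop.hom.toAlgebra
  letI algB'D' : Algebra Γ(U', ⊤) Γ(T', ⊤) := (a23' ≫ r2').appTop.hom.toAlgebra
  -- surjectivity and kernels
  have hπB : Function.Surjective jU.appTop.hom :=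
    (IsClosedImmersion.isAffine_surjective_of_isAffine jU).2
  have hC := Groth.Agent.Lib.Helper18.NilBase.surjective_and_ker_of_isPushout_cat
    (isPushout_appTop_of_isPullback H2) hπB
  have hD := Groth.Agent.Lib.Helper18.NilBase.surjective_and_ker_of_isPushout_cat
    (isPushout_appTop_of_isPullback H5) hπB
  -- the thin algebra maps
  let sA : Γ(U, ⊤) →ₐ[Γ(W, ⊤)] Γ(R, ⊤) :=
    { r1.appTop.hom with
      commutes' := fun a => by
        change r1.appTop.hom (u.appTop.hom a) = (r2 ≫ u).appTop.hom a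
        rw [appTop_comp_apply]
        exact appTop_congr H1.w a }
  let p12A : Γ(R, ⊤) →ₐ[Γ(W, ⊤)] Γ(T, ⊤) :=
    { a12.appTop.hom with
      commutes' := fun a => by
        change a12.appTop.hom ((r2 ≫ u).appTop.hom a) = ((a23 ≫ r2) ≫ u).appTop.hom a
        rw [← appTop_comp_apply]
        congr 3
        rw [← Category.assoc, hT.w, Category.assoc, H1.w, Category.assoc] }
  have hkC : Function.Bijective
      (Algebra.TensorProduct.productMap sA (IsScalarTower.toAlgHom Γ(W, ⊤) Γ(U, ⊤) Γ(R, ⊤))) := by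
    apply productMap_bijective_of_isPushout
    exact isPushout_appTop_of_isPullback H1
  have hkD : Function.Bijective
      (Algebra.TensorProduct.productMap p12A (IsScalarTower.toAlgHom Γ(W, ⊤) Γ(U, ⊤) Γ(T, ⊤))) := by
    apply productMap_bijective_of_isPushout
    have h4 := isPushout_appTop_of_isPullback H4
    have e1 : CommRingCat.ofHom (algebraMap Γ(W, ⊤) Γ(R, ⊤)) = (r2 ≫ u).appTop := rfl
    have e2 : CommRingCat.ofHom (algebraMap Γ(W, ⊤) Γ(U, ⊤)) = u.appTop := rfl
    have e3 : CommRingCat.ofHom p12A.toRingHom = a12.appTop := rfl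
    have e4 : CommRingCat.ofHom (IsScalarTower.toAlgHom Γ(W, ⊤) Γ(U, ⊤) Γ(T, ⊤)).toRingHom =
      (a23 ≫ r2).appTop := rfl
    rw [e1, e2, e3, e4]
    exact h4
  -- the data
  let K : Data Γ(W, ⊤) Γ(U, ⊤) Γ(R, ⊤) Γ(T, ⊤) Γ(U', ⊤) Γ(R', ⊤) Γ(T', ⊤) :=
    { πB := jU.appTop.hom
      πB_surj := hπB
      πC := jR.appTop.hom
      πC_surj := hC.1
      ker_πC := hC.2
      πC_t := fun x => appTop_congr H2.w x
      πD := jT.appTop.hom
      πD_surj := hD.1
      ker_πD := hD.2
      πD_q3 := fun x => appTop_congr H5.w x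
      s' := r1'.appTop.hom
      e' := e'.appTop.hom
      p12' := a12'.appTop.hom
      p13' := c'.appTop.hom
      p23' := a23'.appTop.hom
      e_s := fun x => appTop_id_apply he1 x
      e_t := fun x => appTop_id_apply he2 x
      h1 := fun x => (appTop_congr hc1 x).symm
      h2 := fun x => appTop_congr hT'.w x
      h3 := fun x => by
        change c'.appTop.hom (r2'.appTop.hom x) = (a23' ≫ r2').appTop.hom x
        rw [appTop_comp_apply]
        exact appTop_congr hc2 x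
      h3' := fun x => by
        change a23'.appTop.hom (r2'.appTop.hom x) = (a23' ≫ r2').appTop.hom x
        rw [appTop_comp_apply]
      s := sA
      p12 := p12A
      πC_s := fun x => appTop_congr H3 x
      πD_12 := fun c => appTop_congr hjT1 c
      kC_bij := hkC
      kD_bij := hkD }
  haveI ffAB : Module.FaithfullyFlat Γ(W, ⊤) Γ(U, ⊤) :=
    (Flat.flat_and_surjective_iff_faithfullyFlat_of_isAffine (f := u)).mp ⟨inferInstance, inferInstance⟩
  haveI flB'C' : Module.Flat Γ(U', ⊤) Γ(R', ⊤) := Scheme.Hom.flat_appTop r2'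
  haveI flB'D' : Module.Flat Γ(U', ⊤) Γ(T', ⊤) := Scheme.Hom.flat_appTop (a23' ≫ r2')
  have hK : K.Concl := K.concl_of_pow n hn
  -- the quotient
  let φ : CommRingCat.of K.A' ⟶ Γ(U', ⊤) := CommRingCat.ofHom K.A'.subtype
  let γ : CommRingCat.of K.A' ⟶ Γ(W, ⊤) := CommRingCat.ofHom K.πA
  have hγs : Function.Surjective γ.hom := K.πA_surjective hK
  have hγn : IsNilpotent (RingHom.ker γ.hom) := K.isNilpotent_ker_πA n hn
  have hw : φ ≫ jU.appTop = γ ≫ u.appTop := by
    ext x
    exact (K.algebraMap_πA x).symm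
  have hPO : IsPushout φ γ jU.appTop u.appTop :=
    isPushout_of_surjective φ γ jU.appTop u.appTop hw hγs hπB (K.ker_πB_eq_map hK)
  have hff : φ.hom.FaithfullyFlat := hK.ff
  have hfl : φ.hom.Flat := hff.flat
  have hu_unr : u.appTop.hom.FormallyUnramified :=
    HasRingHomProperty.appTop (P := @FormallyUnramified) u inferInstance
  have hu_fp : u.appTop.hom.FinitePresentation :=
    HasRingHomProperty.appTop (P := @LocallyOfFinitePresentation) u inferInstance
  have hun : φ.hom.FormallyUnramified :=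
    RingHom.FormallyUnramified.of_isPushout_nilpotent hPO hγs hγn hu_unr
  have hfp : φ.hom.FinitePresentation := by
    refine Groth.Agent.Lib.Helper18.NilBase.finitePresentation_of_thickening_base
      (RingHom.id _) φ.hom γ.hom jU.appTop.hom u.appTop.hom ?_ (RingHom.ker γ.hom) hγn hγs ?_ hπB ?_ ?_
      hu_fp
    · ext x
      exact (K.algebraMap_πA x).symm
    · rw [Ideal.map_id]
    · rw [RingHom.comp_id]
      exact K.ker_πB_eq_map hK
    · rw [RingHom.comp_id]
      exact hfl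
  have het : φ.hom.Etale := RingHom.Etale.iff_flat_and_formallyUnramified.mpr ⟨hfl, hun, hfp⟩
  haveI hE : Etale (Spec.map φ) := (HasRingHomProperty.Spec_iff (P := @Etale)).mpr het
  obtain ⟨_, hS⟩ := (flat_and_surjective_SpecMap_iff φ).mpr hff
  refine ⟨Spec (CommRingCat.of K.A'), U'.isoSpec.hom ≫ Spec.map φ, inferInstance, inferInstance,
    inferInstance, ?_⟩
  -- the kernel pair
  have hPO2 := isPushout_of_productMap_bijective _ _ hK.kC_bij
  have hpb := isPullback_SpecMap_of_isPushout _ _ _ _ hPO2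
  exact isPullback_of_isPullback_SpecMap r1' r2' φ φ hpb

end Groth.Agent.Lib.helper5.ThkAff
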