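import Groth.Prelude.Def_AlgSpInf
import Groth.Agent.Lib.Helper5.ThkAffJ
import Groth.Agent.Lib.Helper5.AlgSpAffDesc2
import Groth.Agent.Lib.Helper5.AlgSpThkTop
import Groth.Agent.Lib.Helper5.AlgSpInfNbhd
import Groth.Agent.Lib.Helper7.ThickAff5
import Groth.Agent.Lib.Helper7.AlgSpFibre
import Groth.Agent.Lib.Helper11.AlgSpBasic

/-!
# A finite order thickening of an affine scheme in algebraic spaces is an affine scheme (helper5)

`exists_affine_iso_of_isNThickMor`: if `i : h_W ⟶ X'` is an `n`-th order thickening of algebraic spaces over `S`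
with `W` an affine scheme, then `X'` is (represented by) an affine scheme.
-/

set_option autoImplicit false
universe u
open CategoryTheory CategoryTheory.Limits AlgebraicGeometry Opposite
open AlgSp

namespace Groth.Agent.Lib.helper5.ThkAff

variable {S : Scheme.{u}}

open Groth.Agent.Lib.helper5.AffDesc in
set_option maxHeartbeats 1600000 in
/-- **A finite order thickening of an affine scheme in algebraic spaces is an affine scheme.** -/
theorem exists_affine_iso_of_isNThickMor {X' : Sp S} (hX' : IsAlgSpace X') {W : Over S}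
    [IsAffine W.left] (i : (yon S).obj W ⟶ X') (n : ℕ) (hi : IsNThickMor n i) :
    ∃ (Y : Over S) (_ : (yon S).obj Y ≅ X'), IsAffine Y.left := by
  -- compactness
  have hhomeo := Groth.Agent.Lib.helper5.ThkTop.isHomeomorph_map hi.1 hX'
  haveI hcW : CompactSpace (Points ((yon S).obj W)) :=
    Groth.Agent.Lib.helper7.AlgSpFibre.compactSpace_of_isQuasiCompactSp
      (Groth.Agent.Lib.helper7.AlgSpQC.isQuasiCompactSp_yon W)
  haveI hcX' : CompactSpace (Points X') := hhomeo.surjective.compactSpace hhomeo.continuous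
  obtain ⟨U₀, p₀, hp₀e, hp₀s⟩ := hX'.atlas
  obtain ⟨U', p', hU'a, hpe, hps⟩ :=
    Groth.Agent.Lib.helper11.exists_affine_chart_of_compactSpace p₀ hp₀e hp₀s
  -- base change of the chart
  obtain ⟨U, jU, uW, sqU⟩ := hi.1.rep p'
  obtain ⟨u, rfl⟩ := (yon S).map_surjective uW
  have hjU : thick jU.left := hi.1.2 p' _ jU sqU
  have hpow : powZero n jU.left := hi.2 p' _ jU hU'a hpe sqU
  have hue : Etale u.left := hpe.2 i _ u sqU.flip
  have hus : Surjective u.left := hps.2 i _ u sqU.flip
  haveI hjUci : IsClosedImmersion jU.left := hjU.1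
  haveI hUa : IsAffine U.left := isAffine_of_isAffineHom jU.left
  -- the kernel pair
  obtain ⟨R', r2', r1'', hKP'⟩ := hX'.representable_from_yon p' p'
  obtain ⟨r1', rfl⟩ := (yon S).map_surjective r1''
  have hr2e : Etale r2'.left := hpe.2 p' _ r2' hKP'
  -- its base change
  have sqR : IsPullback (pullback.fst r2' jU) (pullback.snd r2' jU) r2' jU :=
    IsPullback.of_hasPullback _ _
  have hcomp : (yon S).map (pullback.snd r2' jU ≫ u) ≫ i =
      (yon S).map (pullback.fst r2' jU ≫ r1') ≫ p' := by
    rw [Functor.map_comp, Functor.map_comp, Category.assoc, Category.assoc, sqU.w, hKP'.w,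
      ← Category.assoc, ← Category.assoc, ← Functor.map_comp, ← Functor.map_comp, sqR.w]
  obtain ⟨r1, hr1⟩ := (yon S).map_surjective (sqU.lift _ _ hcomp)
  have hr1u : r1 ≫ u = pullback.snd r2' jU ≫ u := (yon S).map_injective (by
    rw [Functor.map_comp, hr1, sqU.lift_fst])
  have hr1j : r1 ≫ jU = pullback.fst r2' jU ≫ r1' := (yon S).map_injective (by
    rw [Functor.map_comp, hr1, sqU.lift_snd])
  have hK₁ : IsPullback ((yon S).map (pullback.fst r2' jU))
      ((yon S).map (pullback.snd r2' jU ≫ u)) ((yon S).map r1' ≫ p') i := by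
    have := (sqR.map (yon S)).paste_vert sqU.flip
    rw [← Functor.map_comp, ← hKP'.w] at this
    exact this
  have hKP : IsPullback ((yon S).map r1) ((yon S).map (pullback.snd r2' jU)) ((yon S).map u)
      ((yon S).map u) :=
    isPullback_kernelPair_baseChange hKP' sqU.flip hK₁
      (by rw [← Functor.map_comp, ← Functor.map_comp, hr1j])
      (by rw [← Functor.map_comp, hr1u])
      (by rw [← Functor.map_comp, ← Functor.map_comp, sqR.w])
      (by rw [← Functor.map_comp])
  have H1 : IsPullback r1.left (pullback.snd r2' jU).left u.left u.left :=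
    (isPullback_of_yon hKP).map (Over.forget S)
  have H2 : IsPullback (pullback.fst r2' jU).left (pullback.snd r2' jU).left r2'.left jU.left :=
    sqR.map (Over.forget S)
  haveI hRa : IsAffine (pullback r2' jU).left := IsAffine.of_isPullback H1
  have hjR : thick (pullback.fst r2' jU).left :=
    MorphismProperty.of_isPullback (P := thick) H2.flip hjU
  haveI hjRci : IsClosedImmersion (pullback.fst r2' jU).left := hjR.1
  haveI hR'a : IsAffine R'.left :=
    Groth.Agent.Lib.helper7.ThickAff.isAffine_of_thickening (pullback.fst r2' jU).left hjR.2.surj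
  -- triple overlaps, composition and unit
  have sqT : IsPullback (pullback.fst r2' r1') (pullback.snd r2' r1') r2' r1' :=
    IsPullback.of_hasPullback _ _
  have hTcomp : (yon S).map (pullback.fst r2' r1' ≫ r1') ≫ p' =
      (yon S).map (pullback.snd r2' r1' ≫ r2') ≫ p' := by
    have h1 : (yon S).map (pullback.fst r2' r1') ≫ (yon S).map r2' =
        (yon S).map (pullback.snd r2' r1') ≫ (yon S).map r1' := by
      rw [← Functor.map_comp, ← Functor.map_comp, sqT.w]
    calc (yon S).map (pullback.fst r2' r1' ≫ r1') ≫ p'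
        = (yon S).map (pullback.fst r2' r1') ≫ (yon S).map r1' ≫ p' := by
          rw [Functor.map_comp, Category.assoc]
      _ = ((yon S).map (pullback.fst r2' r1') ≫ (yon S).map r2') ≫ p' := by
          rw [hKP'.w, Category.assoc]
      _ = (yon S).map (pullback.snd r2' r1') ≫ (yon S).map r1' ≫ p' := by
          rw [h1, Category.assoc]
      _ = (yon S).map (pullback.snd r2' r1' ≫ r2') ≫ p' := by
          rw [hKP'.w, Functor.map_comp, Category.assoc]
  obtain ⟨c', hc'⟩ := (yon S).map_surjective (hKP'.lift _ _ hTcomp)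
  have hc1 : c' ≫ r1' = pullback.fst r2' r1' ≫ r1' := (yon S).map_injective (by
    rw [Functor.map_comp, hc', hKP'.lift_fst])
  have hc2 : c' ≫ r2' = pullback.snd r2' r1' ≫ r2' := (yon S).map_injective (by
    rw [Functor.map_comp, hc', hKP'.lift_snd])
  obtain ⟨e', he'⟩ := (yon S).map_surjective (hKP'.lift (𝟙 _) (𝟙 _) rfl)
  have he1 : e' ≫ r1' = 𝟙 U' := (yon S).map_injective (by
    rw [Functor.map_comp, he', hKP'.lift_fst, (yon S).map_id])
  have he2 : e' ≫ r2' = 𝟙 U' := (yon S).map_injective (by
    rw [Functor.map_comp, he', hKP'.lift_snd, (yon S).map_id])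
  -- ring-level nilpotency
  haveI := hU'a
  have hn : (RingHom.ker jU.left.appTop.hom) ^ (n + 1) = ⊥ := by
    have h := congrArg (Scheme.IdealSheafData.equivOfIsAffine (X := U'.left)) hpow
    rw [map_pow, Groth.Agent.Lib.helper5.ideal_ker_eq_of_affine, map_bot] at h
    exact h
  -- instances
  haveI := hue
  haveI := hus
  haveI := hr2e
  have hr1e : Etale r1'.left := hpe.2 p' _ r1' hKP'.flip
  haveI ha23e : Etale (pullback.snd r2' r1').left :=
    MorphismProperty.of_isPullback (P := @Etale) (sqT.map (Over.forget S)) hr2e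
  haveI : Flat r2'.left := inferInstance
  haveI : Flat ((pullback.snd r2' r1').left ≫ r2'.left) := inferInstance
  obtain ⟨Y₀, q₀, hYa, hqe, hqs, hKPq⟩ := exists_affine_quotient u.left r1.left
    (pullback.snd r2' jU).left H1 r1'.left r2'.left (pullback.fst r2' r1').left
    (pullback.snd r2' r1').left (sqT.map (Over.forget S)) e'.left
    (by rw [← Over.comp_left, he1]; rfl) (by rw [← Over.comp_left, he2]; rfl) c'.left
    (by rw [← Over.comp_left, hc1]; rfl) (by rw [← Over.comp_left, hc2]; rfl)
    jU.left (pullback.fst r2' jU).left H2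
    (by rw [← Over.comp_left, ← Over.comp_left, hr1j]) n hn
  -- the structure morphism of the quotient
  haveI := hqe
  haveI := hqs
  have hdesc : ∀ {Z : Scheme.{u}} (g₁ g₂ : Z ⟶ U'.left), g₁ ≫ q₀ = g₂ ≫ q₀ →
      g₁ ≫ U'.hom = g₂ ≫ U'.hom := by
    intro Z g₁ g₂ hg
    have h1 : hKPq.lift g₁ g₂ hg ≫ r1'.left = g₁ := hKPq.lift_fst _ _ _
    have h2 : hKPq.lift g₁ g₂ hg ≫ r2'.left = g₂ := hKPq.lift_snd _ _ _
    rw [← h1, Category.assoc, Over.w r1', ← Over.w r2', ← Category.assoc, h2]
  let Y : Over S := Over.mk (EffectiveEpi.desc q₀ U'.hom hdesc)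
  let q : U' ⟶ Y := Over.homMk q₀ (EffectiveEpi.fac q₀ U'.hom hdesc)
  have hqw : r1' ≫ q = r2' ≫ q := by
    ext1
    exact hKPq.w
  have hKPY : IsPullback r1' r2' q q :=
    IsPullback.of_map (Over.forget S) hqw hKPq
  have hKPY' := hKPY.map (yon S)
  have hqe' : RepWith @Etale ((yon S).map q) := (repWith_yon_map_iff @Etale q).2 hqe
  have hqs' : RepWith @Surjective ((yon S).map q) := (repWith_yon_map_iff @Surjective q).2 hqs
  haveI : Epi ((yon S).map q) := Groth.Agent.Lib.helper5.epi_of_etale_surjective _ hqe' hqs'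
  haveI : Epi p' := Groth.Agent.Lib.helper5.epi_of_etale_surjective _ hpe hps
  obtain ⟨α, hα⟩ := exists_desc_of_epi ((yon S).map q) hKPY' p' hKP'.w
  obtain ⟨β, hβ⟩ := exists_desc_of_epi p' hKP' ((yon S).map q) hKPY'.w
  refine ⟨Y, ⟨α, β, ?_, ?_⟩, hYa⟩
  · rw [← cancel_epi ((yon S).map q), ← Category.assoc, hα, hβ, Category.comp_id]
  · rw [← cancel_epi p', ← Category.assoc, hβ, hα, Category.comp_id]

end Groth.Agent.Lib.helper5.ThkAff
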