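import Groth.Agent.Lib.Helper5.ThkAffK

/-!
# Base change of `n`-th order thickenings of algebraic spaces along arbitrary maps (helper5)

* `powZero_of_ker_pow`, `ker_pow_of_powZero`: `powZero n t` for an affine target is the ring statement;
* `powZero_of_isPullback_affine`: affine base change of a closed immersion of affine schemes with `powZero n`;
* `powZero_of_flat_cover`: `powZero n` descends along jointly surjective flat families of affine schemes;
* `powZero_of_isPullback_of_isNThickMor`: the pullback of an `n`-th order thickening of algebraic spaces along ANY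
  map from an affine scheme has `powZero n`;
* `isNThickMor_of_isPullback_any`: base change of an `n`-th order thickening along any morphism.
-/

set_option autoImplicit false
universe u

open CategoryTheory CategoryTheory.Limits AlgebraicGeometry Opposite

namespace Groth.Agent.Lib.helper5.ThkAff

open AlgSp

variable {S : Scheme.{u}}

theorem powZero_of_ker_pow {W V : Scheme.{u}} [IsAffine V] (t : W ⟶ V) (n : ℕ)
    (h : RingHom.ker t.appTop.hom ^ (n + 1) = ⊥) : powZero n t := by
  change t.ker ^ (n + 1) = ⊥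
  have h1 : Scheme.IdealSheafData.equivOfIsAffine (X := V) (t.ker ^ (n + 1)) =
      Scheme.IdealSheafData.equivOfIsAffine (X := V) ⊥ := by
    rw [map_pow, Groth.Agent.Lib.helper5.ideal_ker_eq_of_affine, map_bot, h]
  exact (Scheme.IdealSheafData.equivOfIsAffine (X := V)).injective h1

theorem ker_pow_of_powZero {W V : Scheme.{u}} [IsAffine V] (t : W ⟶ V) (n : ℕ)
    (h : powZero n t) : RingHom.ker t.appTop.hom ^ (n + 1) = ⊥ := by
  have h' := congrArg (Scheme.IdealSheafData.equivOfIsAffine (X := V)) h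
  rw [map_pow, Groth.Agent.Lib.helper5.ideal_ker_eq_of_affine, map_bot] at h'
  exact h'

/-- Affine base change of a closed immersion of affine schemes whose ideal has vanishing `(n+1)`-st power. -/
theorem powZero_of_isPullback_affine {W V P V₂ : Scheme.{u}} [IsAffine V] [IsAffine V₂] (t : W ⟶ V)
    [IsClosedImmersion t] (p : P ⟶ W) (s : P ⟶ V₂) (β : V₂ ⟶ V) (sq : IsPullback p s t β) (n : ℕ)
    (h : powZero n t) : powZero n s := by
  haveI : IsAffine W := isAffine_of_isAffineHom t
  haveI : IsAffine P := IsAffine.of_isPullback sq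
  have hπ : Function.Surjective t.appTop.hom :=
    (IsClosedImmersion.isAffine_surjective_of_isAffine t).2
  have hC := Groth.Agent.Lib.Helper18.NilBase.surjective_and_ker_of_isPushout_cat
    (isPushout_appTop_of_isPullback sq.flip) hπ
  apply powZero_of_ker_pow
  rw [hC.2, ← Ideal.map_pow, ker_pow_of_powZero t n h, Ideal.map_bot]

/-- `powZero n` descends along jointly surjective flat families of affine schemes. -/
theorem powZero_of_flat_cover {W V : Scheme.{u}} [IsAffine V] (s : W ⟶ V) {κ : Type*}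
    (Vk Pk : κ → Scheme.{u}) (hVk : ∀ k, IsAffine (Vk k)) (c : ∀ k, Vk k ⟶ V)
    (hc : ∀ k, Flat (c k)) (hsurj : ∀ x : ↥V, ∃ k, x ∈ Set.range (c k))
    (p : ∀ k, Pk k ⟶ W) (sk : ∀ k, Pk k ⟶ Vk k) (w : ∀ k, p k ≫ s = sk k ≫ c k) (n : ℕ)
    (h : ∀ k, powZero n (sk k)) : powZero n s := by
  apply powZero_of_ker_pow
  rw [eq_bot_iff]
  intro x hx
  rw [Ideal.mem_bot]
  apply Groth.Agent.Lib.helper5.eq_zero_of_flat_cover Vk c hc hsurj
  intro k
  have := hVk k
  have hk := ker_pow_of_powZero (sk k) n (h k)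
  have hmem : (RingHom.ker s.appTop.hom).map (c k).appTop.hom ≤ RingHom.ker (sk k).appTop.hom := by
    rw [Ideal.map_le_iff_le_comap]
    intro z hz
    rw [Ideal.mem_comap, RingHom.mem_ker] at *
    have e1 : (sk k ≫ c k).appTop.hom z = (p k ≫ s).appTop.hom z := by rw [w k]
    rw [Scheme.Hom.comp_appTop, Scheme.Hom.comp_appTop] at e1
    have e2 : (sk k).appTop.hom ((c k).appTop.hom z) = (p k).appTop.hom (s.appTop.hom z) := e1
    rw [e2, hz, map_zero]
  have h1 : (c k).appTop.hom x ∈ ((RingHom.ker s.appTop.hom) ^ (n + 1)).map (c k).appTop.hom :=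
    Ideal.mem_map_of_mem _ hx
  rw [Ideal.map_pow] at h1
  have h2 := Ideal.pow_right_mono hmem (n + 1) h1
  rw [hk, Ideal.mem_bot] at h2
  exact h2

/-- The pullback of an `n`-th order thickening of algebraic spaces along ANY map from an affine
scheme has `powZero n`. -/
theorem powZero_of_isPullback_of_isNThickMor {Z Z' : Sp S} {i : Z ⟶ Z'} {n : ℕ}
    (hi : IsNThickMor n i)
    (hZ' : IsAlgSpace Z') {V W : Over S} (b : (yon S).obj V ⟶ Z') (fst : (yon S).obj W ⟶ Z)
    (snd : W ⟶ V) (hV : IsAffine V.left) (sq : IsPullback fst ((yon S).map snd) i b) :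
    powZero n snd.left := by
  obtain ⟨κ, Vk, c, Uk, βk, wk, hVk, hUk, hβk, hcf, -, hcs, hcw⟩ :=
    Groth.Agent.Lib.helper5.exists_affine_refinement hZ' b
  -- pullbacks of `i` along the affine étale charts `βk`
  have hWk : ∀ k, ∃ (Wk : Over S) (sndk : Wk ⟶ Uk k) (fstk : (yon S).obj Wk ⟶ Z),
      IsPullback fstk ((yon S).map sndk) i (βk k) := fun k => hi.1.rep (βk k)
  choose Wk sndk fstk sqk using hWk
  -- pullbacks of `i` along `h_{c k} ≫ b`
  have hPk : ∀ k, ∃ (Pk : Over S) (sk : Pk ⟶ Vk k) (gk : (yon S).obj Pk ⟶ Z),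
      IsPullback gk ((yon S).map sk) i ((yon S).map (c k) ≫ b) :=
    fun k => hi.1.rep ((yon S).map (c k) ≫ b)
  choose Pk sk gk sqP using hPk
  -- the maps `Pk ⟶ W`
  have hp : ∀ k, ∃ p : Pk k ⟶ W, p ≫ snd = sk k ≫ c k := by
    intro k
    obtain ⟨p', -, hp2⟩ := sq.exists_lift (gk k) ((yon S).map (sk k) ≫ (yon S).map (c k))
      (by rw [(sqP k).w, Category.assoc])
    obtain ⟨p, rfl⟩ := (yon S).map_surjective p'
    refine ⟨p, (yon S).map_injective ?_⟩
    rw [Functor.map_comp, Functor.map_comp, hp2]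
  choose p hp using hp
  -- the maps `Pk ⟶ Wk` and the scheme level pullback squares
  have hq : ∀ k, ∃ q : Pk k ⟶ Wk k, IsPullback q.left (sk k).left (sndk k).left (wk k).left := by
    intro k
    have sqP' : IsPullback (gk k) ((yon S).map (sk k)) i ((yon S).map (wk k) ≫ βk k) := by
      rw [← hcw k]; exact sqP k
    obtain ⟨q', hq1, hq2⟩ := (sqk k).exists_lift (gk k) ((yon S).map (sk k) ≫ (yon S).map (wk k))
      (by rw [sqP'.w, Category.assoc])
    obtain ⟨q, rfl⟩ := (yon S).map_surjective q'
    refine ⟨q, Groth.Agent.Lib.helper7.AlgSpChartSq.isPullback_left_of_yon ?_⟩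
    have big : IsPullback ((yon S).map q ≫ fstk k) ((yon S).map (sk k)) i
        ((yon S).map (wk k) ≫ βk k) := by
      rw [hq1]; exact sqP'
    exact IsPullback.of_right big hq2 (sqk k)
  choose q hq using hq
  have : IsAffine V.left := hV
  refine powZero_of_flat_cover snd.left (fun k => (Vk k).left) (fun k => (Pk k).left) hVk
    (fun k => (c k).left) hcf hcs (fun k => (p k).left) (fun k => (sk k).left) ?_ n ?_
  · intro k
    have := congrArg (fun m => m.left) (hp k)
    simpa using this
  · intro k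
    have hthick : thick (sndk k).left := hi.1.2 (βk k) (fstk k) (sndk k) (sqk k)
    have hpow : powZero n (sndk k).left :=
      hi.2 (βk k) (fstk k) (sndk k) (hUk k) (hβk k) (sqk k)
    haveI : IsAffine (Vk k).left := hVk k
    haveI : IsAffine (Uk k).left := hUk k
    haveI : IsClosedImmersion (sndk k).left := hthick.1
    exact powZero_of_isPullback_affine (sndk k).left (q k).left (sk k).left (wk k).left (hq k) n hpow

/-- Base change of an `n`-th order thickening of algebraic spaces along any morphism. -/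
theorem isNThickMor_of_isPullback_any {Z Z' P Q : Sp S} {i : Z ⟶ Z'} {n : ℕ} (hi : IsNThickMor n i)
    (hZ' : IsAlgSpace Z') {β : P ⟶ Z'} {fst : Q ⟶ Z} {t : Q ⟶ P}
    (sq : IsPullback fst t i β) : IsNThickMor n t := by
  refine ⟨(repWith_isStableUnderBaseChange (S := S) thick).of_isPullback sq hi.1, ?_⟩
  intro V₂ W₂ b₂ fst₂ snd₂ hV₂ _ sq₂
  have sq₃ : IsPullback (fst₂ ≫ fst) ((yon S).map snd₂) i (b₂ ≫ β) :=
    (sq₂.flip.paste_vert sq.flip).flip
  exact powZero_of_isPullback_of_isNThickMor hi hZ' (b₂ ≫ β) (fst₂ ≫ fst) snd₂ hV₂ sq₃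

/-- `powZero n` implies the nilpotency hypothesis of helper18's `NilBase` library. -/
theorem isNilpotent_ideal_of_powZero {X X' : Scheme.{u}} (t : X ⟶ X') (n : ℕ) (h : powZero n t)
    (U : X'.affineOpens) : IsNilpotent (t.ker.ideal U) := by
  refine ⟨n + 1, ?_⟩
  have h' : t.ker ^ (n + 1) = ⊥ := h
  have := congrArg (fun I => Scheme.IdealSheafData.ideal I U) h'
  simpa using this

end Groth.Agent.Lib.helper5.ThkAff
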