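import Groth.Agent.Lib.Helper5.AlgSpWhereIso
import Groth.Agent.Lib.Helper5.AlgSpFibreProduct
import Groth.Agent.Lib.Helper5.AlgSpThkTop
import Groth.Agent.Lib.Helper5.AlgSpAffDesc
import Groth.Agent.Lib.Helper18.AlgSp
import Groth.Agent.Lib.Helper1.MonoSp
import Groth.Agent.S10587
import Groth.Agent.S9928
import Groth.Prelude.Def_AlgSpMor5

/-!
# Isomorphisms, open immersions, monomorphisms and degrees along cartesian morphisms of thickenings (helper5)

Generic steps for the "deformation" rows: given a morphism of thickenings `(f, f')` of algebraic spaces for which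
etaleness of `f` lifts to `f'`,
* `isIso_of_thick`: `f` an isomorphism implies `f'` an isomorphism;
* `repWith_oi_of_thick`: `f` an open immersion implies `f'` an open immersion;
* `exists_diag_data`: the diagonal of a base change diagram is again a base change diagram (for monomorphisms);
* `finLocFreeOfDeg_of_thick`: degrees of finite locally free morphisms.
-/

set_option autoImplicit false
universe u
open CategoryTheory CategoryTheory.Limits AlgebraicGeometry Opposite
open AlgSp

namespace Groth.Agent.Lib.helper5.ThkDeform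

variable {S : Scheme.{u}}

/-- The kernel pair of a base change is the base change of the kernel pair. -/
theorem isPullback_map_fst {C : Type*} [Category C] [HasPullbacks C] {X X' Y Y' : C} {i : X ⟶ X'}
    {j : Y ⟶ Y'} {f : X ⟶ Y} {f' : X' ⟶ Y'} (h : IsPullback i f f' j) :
    IsPullback (pullback.map f f f' f' i i j h.w.symm h.w.symm) (pullback.fst f f)
      (pullback.fst f' f') i := by
  have hk1 : pullback.map f f f' f' i i j h.w.symm h.w.symm ≫ pullback.fst f' f' =
      pullback.fst f f ≫ i := pullback.lift_fst _ _ _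
  have hk2 : pullback.map f f f' f' i i j h.w.symm h.w.symm ≫ pullback.snd f' f' =
      pullback.snd f f ≫ i := pullback.lift_snd _ _ _
  have sqL : IsPullback (pullback.snd f f) (pullback.fst f f) f f :=
    (IsPullback.of_hasPullback f f).flip
  have sqR : IsPullback (pullback.snd f' f') (pullback.fst f' f') f' f' :=
    (IsPullback.of_hasPullback f' f').flip
  have big : IsPullback (pullback.snd f f ≫ i) (pullback.fst f f) f' (f ≫ j) := sqL.paste_horiz h
  rw [← h.w, ← hk2] at big
  exact IsPullback.of_right big hk1 sqR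

/-- Isomorphisms lift along a morphism of thickenings as soon as etaleness does. -/
theorem isIso_of_thick {X X' Y Y' : AlgSp.Space S} (iX : X ⟶ X') (iY : Y ⟶ Y') (f : X ⟶ Y)
    (f' : X' ⟶ Y') (hX : IsThickMor iX.hom) (hY : IsThickMor iY.hom) (w : iX ≫ f' = f ≫ iY)
    (het : IsEtaleMor f.hom → IsEtaleMor f'.hom) (hf : IsIso f.hom) : IsIso f'.hom := by
  have h87 := Groth.Agent.S10587.result iX iY f f' hX hY w
  have h1 : IsEtaleMor f.hom := fun _ φ hφ =>
    MorphismProperty.RespectsIso.postcomp (RepWith (S := S) @Etale) f.hom φ hφ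
  have h2 : IsUnivInjectiveMor f'.hom :=
    h87.2.2.2.1.1 (Groth.Agent.Lib.helper5.AlgSpWhereIso.isUnivInjectiveMor_of_isIso f.hom)
  have h3 : IsSurjectiveMor f'.hom :=
    h87.1.1 (Groth.Agent.Lib.helper5.AlgSpWhereIso.isSurjectiveMor_of_isIso f.hom)
  have hoi : RepWith @IsOpenImmersion f'.hom := Groth.Agent.S10261.result f' (het h1) h2
  exact Groth.Agent.S10194.isIso_of_openImmersion_of_surjective f'.hom hoi h3

theorem isOpenImmersion_le_isImmersion : (@IsOpenImmersion : MorphismProperty Scheme.{u}) ≤ @IsImmersion :=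
  fun _ _ f hf => by
    have : IsOpenImmersion f := hf
    exact (inferInstance : IsImmersion f)

theorem isOpenImmersion_le_etale : (@IsOpenImmersion : MorphismProperty Scheme.{u}) ≤ @Etale :=
  fun _ _ f hf => by
    have : IsOpenImmersion f := hf
    exact (inferInstance : Etale f)

/-- Open immersions lift along a morphism of thickenings as soon as etaleness does. -/
theorem repWith_oi_of_thick {X X' Y Y' : AlgSp.Space S} (iX : X ⟶ X') (iY : Y ⟶ Y') (f : X ⟶ Y)
    (f' : X' ⟶ Y') (hX : IsThickMor iX.hom) (hY : IsThickMor iY.hom) (w : iX ≫ f' = f ≫ iY)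
    (het : IsEtaleMor f.hom → IsEtaleMor f'.hom) (hf : RepWith @IsOpenImmersion f.hom) :
    RepWith @IsOpenImmersion f'.hom := by
  have h87 := Groth.Agent.S10587.result iX iY f f' hX hY w
  have h1 : IsEtaleMor f.hom := fun _ φ hφ => (RepWith (S := S) @Etale).comp_mem _ _ hφ
    (Groth.Agent.Lib.helper18.repWith_mono isOpenImmersion_le_etale hf)
  haveI : Mono f.hom := Groth.Agent.S9928.result f
    (Groth.Agent.Lib.helper18.repWith_mono isOpenImmersion_le_isImmersion hf)
  have h2 : IsUnivInjectiveMor f'.hom :=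
    h87.2.2.2.1.1 (Groth.Agent.H1.MonoSp.isUnivInjectiveMor_of_mono f.hom)
  exact Groth.Agent.S10261.result f' (het h1) h2

/-- The diagonal of a base change diagram `X ⟶ Y ⟶ B` over `X' ⟶ Y' ⟶ B'` is again a base change diagram
`X ⟶ X ×_Y X ⟶ B` over `X' ⟶ X' ×_{Y'} X' ⟶ B'`. -/
theorem exists_diag_data {X X' Y Y' B B' : AlgSp.Space S} (iX : X ⟶ X') (iY : Y ⟶ Y') (iB : B ⟶ B')
    (f : X ⟶ Y) (f' : X' ⟶ Y') (g : Y ⟶ B) (g' : Y' ⟶ B')
    (hcX : IsPullback iX.hom (f ≫ g).hom (f' ≫ g').hom iB.hom)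
    (hcY : IsPullback iY.hom g.hom g'.hom iB.hom) (w : iX ≫ f' = f ≫ iY) :
    ∃ (D D' : AlgSp.Space S) (iD : D ⟶ D') (Δ : X ⟶ D) (Δ' : X' ⟶ D') (gD : D ⟶ B) (gD' : D' ⟶ B'),
      (IsIso Δ.hom ↔ Mono f.hom) ∧ (IsIso Δ'.hom ↔ Mono f'.hom) ∧ Δ ≫ gD = f ≫ g ∧
      Δ' ≫ gD' = f' ≫ g' ∧ IsPullback iD.hom gD.hom gD'.hom iB.hom ∧ iX ≫ Δ' = Δ ≫ iD ∧
      ∃ (pr pr2 : D' ⟶ X'), gD' = pr ≫ f' ≫ g' ∧ IsPullback pr2.hom pr.hom f'.hom f'.hom := by
  have hw : iX.hom ≫ f'.hom = f.hom ≫ iY.hom := congr($(w).hom)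
  have hcXY : IsPullback iX.hom f.hom f'.hom iY.hom := IsPullback.of_bot hcX hw hcY
  have hD : IsAlgSpace (pullback f.hom f.hom) :=
    Groth.Agent.Lib.helper5.isAlgSpace_of_isPullback Y.property.diag X.property X.property
      (IsPullback.of_hasPullback f.hom f.hom)
  have hD' : IsAlgSpace (pullback f'.hom f'.hom) :=
    Groth.Agent.Lib.helper5.isAlgSpace_of_isPullback Y'.property.diag X'.property X'.property
      (IsPullback.of_hasPullback f'.hom f'.hom)
  have sqD := isPullback_map_fst hcXY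
  refine ⟨⟨_, hD⟩, ⟨_, hD'⟩,
    ObjectProperty.homMk (pullback.map f.hom f.hom f'.hom f'.hom iX.hom iX.hom iY.hom hcXY.w.symm
      hcXY.w.symm),
    ObjectProperty.homMk (pullback.diagonal f.hom), ObjectProperty.homMk (pullback.diagonal f'.hom),
    ObjectProperty.homMk (pullback.fst f.hom f.hom ≫ (f ≫ g).hom),
    ObjectProperty.homMk (pullback.fst f'.hom f'.hom ≫ (f' ≫ g').hom),
    pullback.isIso_diagonal_iff f.hom, pullback.isIso_diagonal_iff f'.hom, ?_, ?_, ?_, ?_,
    ObjectProperty.homMk (pullback.fst f'.hom f'.hom), ObjectProperty.homMk (pullback.snd f'.hom f'.hom),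
    rfl, (IsPullback.of_hasPullback f'.hom f'.hom).flip⟩
  · apply ObjectProperty.hom_ext
    change pullback.diagonal f.hom ≫ pullback.fst f.hom f.hom ≫ (f ≫ g).hom = (f ≫ g).hom
    rw [pullback.diagonal_fst_assoc]
  · apply ObjectProperty.hom_ext
    change pullback.diagonal f'.hom ≫ pullback.fst f'.hom f'.hom ≫ (f' ≫ g').hom = (f' ≫ g').hom
    rw [pullback.diagonal_fst_assoc]
  · exact sqD.paste_vert hcX
  · apply ObjectProperty.hom_ext
    change iX.hom ≫ pullback.diagonal f'.hom = pullback.diagonal f.hom ≫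
      pullback.map f.hom f.hom f'.hom f'.hom iX.hom iX.hom iY.hom hcXY.w.symm hcXY.w.symm
    apply pullback.hom_ext
    · rw [Category.assoc, Category.assoc, pullback.diagonal_fst, pullback.lift_fst,
        pullback.diagonal_fst_assoc, Category.comp_id]
    · rw [Category.assoc, Category.assoc, pullback.diagonal_snd, pullback.lift_snd,
        pullback.diagonal_snd_assoc, Category.comp_id]

/-- Degrees of finite locally free morphisms along a cartesian morphism of thickenings. -/
theorem finLocFreeOfDeg_of_thick {X X' Y Y' : AlgSp.Space S} (iX : X ⟶ X') (iY : Y ⟶ Y') (f : X ⟶ Y)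
    (f' : X' ⟶ Y') (hY : IsThickMor iY.hom) (hcXY : IsPullback iX.hom f.hom f'.hom iY.hom) (d : ℕ)
    (h : IsFinLocFreeOfDegMor d f.hom) (h' : IsFinLocFreeMor f'.hom) :
    IsFinLocFreeOfDegMor d f'.hom := by
  refine ⟨h'.1, ?_⟩
  intro Z' W' gZ' fst snd sq
  have hflf : Mor2.IsFinLocFree snd.left := h'.2 gZ' fst snd sq
  refine ⟨hflf, ?_⟩
  obtain ⟨Z, jZ, gZ, sqZ⟩ := hY.rep gZ'
  have hjZ : thick jZ.left := hY.2 gZ' _ jZ sqZ
  obtain ⟨W, pW, fstW, sqW⟩ := h.rep gZ
  have hdeg := (h.2 gZ fstW pW sqW).2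
  have hbig : IsPullback (fstW ≫ iX.hom) ((yon S).map pW) f'.hom ((yon S).map jZ ≫ gZ') := by
    have := sqW.paste_horiz hcXY
    rw [sqZ.w] at this
    exact this
  have hcomm : (fstW ≫ iX.hom) ≫ f'.hom = ((yon S).map pW ≫ (yon S).map jZ) ≫ gZ' := by
    rw [hbig.w, Category.assoc]
  have sqT : IsPullback (sq.lift _ _ hcomm) ((yon S).map pW) ((yon S).map snd) ((yon S).map jZ) := by
    refine IsPullback.of_right ?_ (sq.lift_snd _ _ hcomm) sq
    rw [sq.lift_fst]
    exact hbig
  obtain ⟨tW, htW⟩ := (yon S).map_surjective (sq.lift _ _ hcomm)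
  rw [← htW] at sqT
  have sqT' : IsPullback tW.left pW.left snd.left jZ.left :=
    (Groth.Agent.Lib.helper5.AffDesc.isPullback_of_yon sqT).map (Over.forget S)
  intro z'
  obtain ⟨z, rfl⟩ := hjZ.2.surj z'
  haveI : IsFinite snd.left := hflf.1
  haveI : Flat snd.left := hflf.2.1
  have h1 := Scheme.Hom.finrank_of_isPullback tW.left pW.left snd.left jZ.left sqT' z
  have h2 : Scheme.Hom.finrank pW.left z = d := hdeg z
  exact h1.symm.trans h2

end Groth.Agent.Lib.helper5.ThkDeform
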