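import Groth.Agent.S10583
import Groth.Agent.S10587
import Groth.Agent.S10614
import Groth.Agent.S9931
import Groth.Agent.S9928
import Groth.Agent.S10264
import Groth.Agent.Lib.Helper5.AlgSpEtaleMono
import Groth.Agent.Lib.Helper5.AlgSpLocPInst
import Groth.Agent.Lib.Helper5.AlgSpFibreProduct
import Groth.Agent.Lib.Helper5.AlgSpThkTop

/-!
# Immersions lift along cartesian morphisms of thickenings when the thick morphism is unramified (helper5)

`repWith_isImmersion_of_thick`: for a cartesian morphism of thickenings `(f, f') : (X ⊂ X') ⟶ (Y ⊂ Y')` of algebraic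
spaces, if `f` is an immersion and `f'` is unramified then `f'` is an immersion.
-/

set_option autoImplicit false
universe u
open CategoryTheory CategoryTheory.Limits AlgebraicGeometry Opposite
open AlgSp

namespace Groth.Agent.Lib.helper5.ThkImm

variable {S : Scheme.{u}}

theorem isOpenImmersion_le_isImmersion : (@IsOpenImmersion : MorphismProperty Scheme.{u}) ≤ @IsImmersion :=
  fun _ _ f hf => by
    have : IsOpenImmersion f := hf
    exact (inferInstance : IsImmersion f)

theorem isClosedImmersion_le_isImmersion :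
    (@IsClosedImmersion : MorphismProperty Scheme.{u}) ≤ @IsImmersion :=
  fun _ _ f hf => by
    have : IsClosedImmersion f := hf
    exact (inferInstance : IsImmersion f)

theorem isOpenImmersion_le_etale : (@IsOpenImmersion : MorphismProperty Scheme.{u}) ≤ @Etale :=
  fun _ _ f hf => by
    have : IsOpenImmersion f := hf
    exact (inferInstance : Etale f)

set_option maxHeartbeats 1600000 in
/-- The affine-local (indeed scheme-local) step. -/
theorem repWith_isImmersion_snd {P₀ : Sp S} (hP₀ : IsAlgSpace P₀) {Z Z' P : Over S} (jZ : Z ⟶ Z')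
    (hjZ : thick jZ.left) (pZ : P ⟶ Z) (hpZ : IsImmersion pZ.left) (t : (yon S).obj P ⟶ P₀)
    (snd : P₀ ⟶ (yon S).obj Z') (sqT : IsPullback t ((yon S).map pZ) snd ((yon S).map jZ))
    (hun : LocP (@LocallyOfFiniteType ⊓ @FormallyUnramified) snd) : RepWith @IsImmersion snd := by
  obtain ⟨Z₁₀, g₁₀, g₂₀, hg₁, hg₂, hg⟩ := IsImmersion.isImmersion_iff_exists.mp hpZ
  let Z₁ : Over S := Over.mk (g₂₀ ≫ Z.hom)
  let g₂ : Z₁ ⟶ Z := Over.homMk g₂₀ rfl
  let g₁ : P ⟶ Z₁ := Over.homMk g₁₀ (by
    change g₁₀ ≫ g₂₀ ≫ Z.hom = P.hom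
    rw [← Category.assoc, hg, Over.w])
  have hg12 : g₁ ≫ g₂ = pZ := by
    ext1
    exact hg
  have hjZ' : IsThickMor ((yon S).map jZ) := (isThickMor_yon_map_iff jZ).2 hjZ
  have hg₂' : RepWith @IsOpenImmersion ((yon S).map g₂) :=
    (repWith_yon_map_iff @IsOpenImmersion g₂).2 hg₂
  have hg₁' : RepWith @IsClosedImmersion ((yon S).map g₁) :=
    (repWith_yon_map_iff @IsClosedImmersion g₁).2 hg₁
  obtain ⟨⟨U', u', k, hu', sqU⟩, -⟩ := Groth.Agent.S10583.result
    (X := ⟨(yon S).obj Z, IsAlgSpace.yon_obj Z⟩) (X' := ⟨(yon S).obj Z', IsAlgSpace.yon_obj Z'⟩)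
    (U := ⟨(yon S).obj Z₁, IsAlgSpace.yon_obj Z₁⟩)
    (ObjectProperty.homMk ((yon S).map jZ)) hjZ' (ObjectProperty.homMk ((yon S).map g₂)) hg₂'
  have sqU' : IsPullback ((yon S).map g₂) k.hom ((yon S).map jZ) u'.hom := sqU
  haveI hu'mono : Mono u'.hom :=
    Groth.Agent.S9928.result u' (Groth.Agent.Lib.helper18.repWith_mono isOpenImmersion_le_isImmersion hu')
  have hkthick : IsThickMor k.hom :=
    (repWith_isStableUnderBaseChange (S := S) thick).of_isPullback sqU' hjZ'
  have htthick : IsThickMor t :=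
    (repWith_isStableUnderBaseChange (S := S) thick).of_isPullback sqT.flip hjZ'
  -- the open subspace of `P₀`
  have sqO : IsPullback (pullback.fst snd u'.hom) (pullback.snd snd u'.hom) snd u'.hom :=
    IsPullback.of_hasPullback _ _
  have hO : IsAlgSpace (pullback snd u'.hom) :=
    Groth.Agent.Lib.helper5.isAlgSpace_of_isPullback (IsAlgSpace.yon_obj Z').diag hP₀ U'.property sqO
  have hoOI : RepWith @IsOpenImmersion (pullback.fst snd u'.hom) :=
    (repWith_isStableUnderBaseChange (S := S) @IsOpenImmersion).of_isPullback sqO.flip hu'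
  haveI : Mono (pullback.fst snd u'.hom) := inferInstance
  have hoet : IsEtaleMor (pullback.fst snd u'.hom) :=
    fun _ _ hφ => (RepWith (S := S) @Etale).comp_mem _ _ hφ
      (Groth.Agent.Lib.helper18.repWith_mono isOpenImmersion_le_etale hoOI)
  have hcomm : t ≫ snd = ((yon S).map g₁ ≫ k.hom) ≫ u'.hom := by
    rw [sqT.w, ← hg12, Functor.map_comp, Category.assoc, Category.assoc, sqU'.w]
  have hosurj : Function.Surjective (Points.map (pullback.fst snd u'.hom)) := by
    have hts : Function.Surjective (Points.map t) :=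
      (Groth.Agent.Lib.helper5.ThkTop.isHomeomorph_map htthick hP₀).surjective
    intro x
    obtain ⟨y, rfl⟩ := hts x
    refine ⟨Points.map (pullback.lift t ((yon S).map g₁ ≫ k.hom) hcomm) y, ?_⟩
    rw [← Points.map_comp, pullback.lift_fst]
  haveI : IsIso (pullback.fst snd u'.hom) :=
    Groth.Agent.Lib.helper5.EtMono.isIso_of_etale_mono_surjective hO _ hoet hosurj
  -- the factorisation of `snd` through `U'`
  let s' : P₀ ⟶ U'.obj := inv (pullback.fst snd u'.hom) ≫ pullback.snd snd u'.hom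
  have hs' : s' ≫ u'.hom = snd := by
    change (inv (pullback.fst snd u'.hom) ≫ pullback.snd snd u'.hom) ≫ u'.hom = snd
    rw [Category.assoc, ← sqO.w, IsIso.inv_hom_id_assoc]
  have hw' : t ≫ s' = (yon S).map g₁ ≫ k.hom := by
    rw [← cancel_mono u'.hom, Category.assoc, hs', hcomm]
  -- properties of the closed immersion `g₁`
  obtain ⟨huc, -, hui⟩ := ((Groth.Agent.S10614.result
    (X := ⟨(yon S).obj P, IsAlgSpace.yon_obj P⟩) (Y := ⟨(yon S).obj Z₁, IsAlgSpace.yon_obj Z₁⟩)
    (ObjectProperty.homMk ((yon S).map g₁))).2.1).1 hg₁'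
  have h87 := Groth.Agent.S10587.result
    (X := ⟨(yon S).obj P, IsAlgSpace.yon_obj P⟩) (X' := ⟨P₀, hP₀⟩)
    (Y := ⟨(yon S).obj Z₁, IsAlgSpace.yon_obj Z₁⟩) (Y' := U')
    (ObjectProperty.homMk t) k (ObjectProperty.homMk ((yon S).map g₁)) (ObjectProperty.homMk s')
    htthick hkthick (ObjectProperty.hom_ext _ hw')
  have huc' : IsUnivClosedMor s' := h87.2.2.1.1 huc
  have hui' : IsUnivInjectiveMor s' := h87.2.2.2.1.1 hui
  have sqS : IsPullback (𝟙 P₀) s' snd u'.hom :=
    IsPullback.of_iso sqO (asIso (pullback.fst snd u'.hom)) (Iso.refl _) (Iso.refl _) (Iso.refl _)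
      (by simp) (by simp [s']) (by simp) (by simp)
  have hun' : LocP (@LocallyOfFiniteType ⊓ @FormallyUnramified) s' :=
    Groth.Agent.Lib.helper5.LocPBC.locP_of_isPullback Groth.Agent.Lib.helper5.LocPBC.locPData_unramified hP₀
      (IsAlgSpace.yon_obj Z') U'.property sqS hun
  have hCI : RepWith @IsClosedImmersion s' := ((Groth.Agent.S10614.result
    (X := ⟨P₀, hP₀⟩) (Y := U') (ObjectProperty.homMk s')).2.1).2 ⟨huc', hun', hui'⟩
  rw [← hs']
  exact (repWith_isMultiplicative (S := S) @IsImmersion).comp_mem _ _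
    (Groth.Agent.Lib.helper18.repWith_mono isClosedImmersion_le_isImmersion hCI)
    (Groth.Agent.Lib.helper18.repWith_mono isOpenImmersion_le_isImmersion hu')

/-- **Immersions lift along a cartesian morphism of thickenings with `f'` unramified.** -/
theorem repWith_isImmersion_of_thick {X X' Y Y' : AlgSp.Space S} (i : X ⟶ X') (j : Y ⟶ Y')
    (f : X ⟶ Y) (f' : X' ⟶ Y') (hj : IsThickMor j.hom)
    (hcart : IsPullback i.hom f.hom f'.hom j.hom) (hf : RepWith @IsImmersion f.hom)
    (hun : LocP (@LocallyOfFiniteType ⊓ @FormallyUnramified) f'.hom) :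
    RepWith @IsImmersion f'.hom := by
  refine Groth.Agent.S9931.result @IsImmersion (Or.inr (Or.inr rfl)) f' ?_
  intro Z' _ g P₀ fst snd sq
  have hP₀ : IsAlgSpace P₀ :=
    Groth.Agent.Lib.helper5.isAlgSpace_of_isPullback Y'.property.diag X'.property
      (IsAlgSpace.yon_obj Z') sq
  obtain ⟨Z, jZ, gZ, sqZ⟩ := hj.rep g
  have hjZ : thick jZ.left := hj.2 g _ jZ sqZ
  obtain ⟨P, pZ, fstP, sqP⟩ := hf.rep gZ
  have hpZ : IsImmersion pZ.left := hf.2 gZ _ pZ sqP
  have hbig : IsPullback (fstP ≫ i.hom) ((yon S).map pZ) f'.hom ((yon S).map jZ ≫ g) := by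
    have := sqP.paste_horiz hcart
    rw [sqZ.w] at this
    exact this
  have hcomm : (fstP ≫ i.hom) ≫ f'.hom = ((yon S).map pZ ≫ (yon S).map jZ) ≫ g := by
    rw [hbig.w, Category.assoc]
  have sqT : IsPullback (sq.lift _ _ hcomm) ((yon S).map pZ) snd ((yon S).map jZ) := by
    refine IsPullback.of_right ?_ (sq.lift_snd _ _ hcomm) sq
    rw [sq.lift_fst]
    exact hbig
  have hun' : LocP (@LocallyOfFiniteType ⊓ @FormallyUnramified) snd :=
    Groth.Agent.Lib.helper5.LocPBC.locP_of_isPullback Groth.Agent.Lib.helper5.LocPBC.locPData_unramified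
      X'.property Y'.property (IsAlgSpace.yon_obj Z') sq hun
  exact repWith_isImmersion_snd hP₀ jZ hjZ pZ hpZ _ snd sqT hun'

end Groth.Agent.Lib.helper5.ThkImm
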