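import Mathlib

/-!
# Universally closed morphisms via affine spaces: the algebra (helper5)

`exists_decomp`: let `X` be a ring generated by the images of `a : A → X` and `b : B → X` (e.g. a pushout), `I` an ideal
of `X` and `p` a prime of `B` such that no prime of `X` containing `I` lies over `p`. Then there are `s ∉ p` and finitely
many `αₗ ∈ A`, `πₗ ∈ p` with `b s - ∑ a αₗ * b πₗ ∈ I`.
-/

set_option autoImplicit false

namespace Groth.Agent.Lib.helper5.UCAff

variable {A B X : Type*} [CommRing A] [CommRing B] [CommRing X]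

/-- The additive subgroup generated by the products `a α * b π`, `π ∈ p`. -/
def genGroup (a : A →+* X) (b : B →+* X) (p : Ideal B) : AddSubgroup X :=
  AddSubgroup.closure {x | ∃ α π, π ∈ p ∧ x = a α * b π}

theorem mul_mem_genGroup (a : A →+* X) (b : B →+* X) (p : Ideal B)
    (hgen : Subring.closure (Set.range a ∪ Set.range b) = ⊤) (x : X) {y : X}
    (hy : y ∈ genGroup a b p) : x * y ∈ genGroup a b p := by
  have hx : x ∈ Subring.closure (Set.range a ∪ Set.range b) := by rw [hgen]; trivial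
  induction hx using Subring.closure_induction generalizing y with
  | mem x hx =>
    induction hy using AddSubgroup.closure_induction with
    | mem y hy =>
      obtain ⟨α, π, hπ, rfl⟩ := hy
      rcases hx with ⟨α', rfl⟩ | ⟨r, rfl⟩
      · refine AddSubgroup.subset_closure ⟨α' * α, π, hπ, ?_⟩
        rw [map_mul]; ring
      · refine AddSubgroup.subset_closure ⟨α, r * π, p.mul_mem_left r hπ, ?_⟩
        rw [map_mul]; ring
    | zero => rw [mul_zero]; exact zero_mem _
    | add y z _ _ h1 h2 => rw [mul_add]; exact add_mem h1 h2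
    | neg y _ h1 => rw [mul_neg]; exact neg_mem h1
  | zero => rw [zero_mul]; exact zero_mem _
  | one => rwa [one_mul]
  | add x z _ _ h1 h2 => rw [add_mul]; exact add_mem (h1 hy) (h2 hy)
  | neg x _ h1 => rw [neg_mul]; exact neg_mem (h1 hy)
  | mul x z _ _ h1 h2 => rw [mul_assoc]; exact h1 (h2 hy)

theorem neg_sum_map (a : A →+* X) (b : B →+* X) (L : List (A × B)) :
    -(L.map fun x => a x.1 * b x.2).sum =
      ((L.map fun x => (-x.1, x.2)).map fun x => a x.1 * b x.2).sum := by
  induction L with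
  | nil => simp
  | cons x L ih =>
    simp only [List.map_cons, List.sum_cons, neg_add, map_neg, neg_mul]
    rw [ih]

theorem exists_list_of_mem_genGroup (a : A →+* X) (b : B →+* X) (p : Ideal B) {y : X}
    (hy : y ∈ genGroup a b p) :
    ∃ L : List (A × B), (∀ x ∈ L, x.2 ∈ p) ∧ y = (L.map fun x => a x.1 * b x.2).sum := by
  induction hy using AddSubgroup.closure_induction with
  | mem y hy =>
    obtain ⟨α, π, hπ, rfl⟩ := hy
    exact ⟨[(α, π)], by simpa using hπ, by simp⟩
  | zero => exact ⟨[], by simp, by simp⟩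
  | add y z _ _ h1 h2 =>
    obtain ⟨L1, hL1, rfl⟩ := h1
    obtain ⟨L2, hL2, rfl⟩ := h2
    refine ⟨L1 ++ L2, ?_, by simp⟩
    intro x hx
    rcases List.mem_append.1 hx with h | h
    · exact hL1 x h
    · exact hL2 x h
  | neg y _ h1 =>
    obtain ⟨L, hL, rfl⟩ := h1
    refine ⟨L.map fun x => (-x.1, x.2), ?_, ?_⟩
    · intro x hx
      obtain ⟨x', hx', rfl⟩ := List.mem_map.1 hx
      exact hL x' hx'
    · exact neg_sum_map a b L

theorem exists_decomp (a : A →+* X) (b : B →+* X)
    (hgen : Subring.closure (Set.range a ∪ Set.range b) = ⊤) (I : Ideal X) (p : Ideal B)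
    [hp : p.IsPrime] (h : ∀ Q : Ideal X, Q.IsPrime → I ≤ Q → Q.comap b ≠ p) :
    ∃ (s : B) (L : List (A × B)), s ∉ p ∧ (∀ x ∈ L, x.2 ∈ p) ∧
      b s - (L.map fun x => a x.1 * b x.2).sum ∈ I := by
  -- the ideal with underlying group `genGroup`
  let N : Ideal X :=
    { carrier := genGroup a b p
      add_mem' := fun h1 h2 => add_mem h1 h2
      zero_mem' := zero_mem _
      smul_mem' := fun c y hy => mul_mem_genGroup a b p hgen c hy }
  have hN : p.map b ≤ N := by
    rw [Ideal.map_le_iff_le_comap]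
    intro π hπ
    exact AddSubgroup.subset_closure ⟨1, π, hπ, by simp⟩
  -- step 2
  have h2 : ∃ s, s ∉ p ∧ b s ∈ I ⊔ p.map b := by
    by_contra hcon
    push Not at hcon
    have hdisj : Disjoint ((I ⊔ p.map b : Ideal X) : Set X) (p.primeCompl.map b : Submonoid X) := by
      rw [Set.disjoint_left]
      rintro x hx ⟨s, hs, rfl⟩
      exact hcon s hs hx
    obtain ⟨Q, hQ, hIQ, hQd⟩ := Ideal.exists_le_prime_disjoint _ _ hdisj
    refine h Q hQ (le_sup_left.trans hIQ) (le_antisymm ?_ ?_)
    · intro x hx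
      by_contra hxp
      exact Set.disjoint_left.1 hQd hx ⟨x, hxp, rfl⟩
    · rw [← Ideal.map_le_iff_le_comap]
      exact le_sup_right.trans hIQ
  obtain ⟨s, hs, hbs⟩ := h2
  obtain ⟨i, hi, y, hy, hiy⟩ := Submodule.mem_sup.1 hbs
  obtain ⟨L, hL, rfl⟩ := exists_list_of_mem_genGroup a b p (hN hy)
  refine ⟨s, L, hs, hL, ?_⟩
  rw [← hiy, add_sub_cancel_right]
  exact hi

theorem exists_decomp_fin (a : A →+* X) (b : B →+* X)
    (hgen : Subring.closure (Set.range a ∪ Set.range b) = ⊤) (I : Ideal X) (p : Ideal B)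
    [hp : p.IsPrime] (h : ∀ Q : Ideal X, Q.IsPrime → I ≤ Q → Q.comap b ≠ p) :
    ∃ (m : ℕ) (s : B) (α : Fin m → A) (π : Fin m → B), s ∉ p ∧ (∀ l, π l ∈ p) ∧
      b s - ∑ l, a (α l) * b (π l) ∈ I := by
  obtain ⟨s, L, hs, hL, hI⟩ := exists_decomp a b hgen I p h
  refine ⟨L.length, s, fun l => L[l.1].1, fun l => L[l.1].2, hs, fun l => hL _ (List.getElem_mem _), ?_⟩
  rw [Fin.sum_univ_fun_getElem L (fun x => a x.1 * b x.2)]
  exact hI

end Groth.Agent.Lib.helper5.UCAff
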