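import Groth.Agent.Lib.Helper5.UCAffA

/-!
# Universally closed morphisms via affine spaces: the scheme level (helper5)

`exists_closed_separating`: for a pullback square `W = U ×_{Vi} T` of affine schemes, a closed subset `C'` of `W` and a point
`t` of `T` not in the image of `C'`, there are finitely many functions `v` on `T` such that, for the induced morphisms
`Ψ : W ⟶ 𝔸ⁿ_U`, `ψ : T ⟶ 𝔸ⁿ_V`, some closed subset `D` of `𝔸ⁿ_U` containing `Ψ(C')` has no point over `ψ(t)`.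
-/

set_option autoImplicit false
universe u
open CategoryTheory CategoryTheory.Limits AlgebraicGeometry

namespace Groth.Agent.Lib.helper5.UCAff

theorem mem_toSpecΓ_asIdeal {X : Scheme.{u}} (x : X) (r : Γ(X, ⊤)) :
    r ∈ (X.toSpecΓ x).asIdeal ↔ x ∉ X.basicOpen r := by
  rw [← Scheme.toSpecΓ_preimage_basicOpen]
  change _ ↔ ¬ (r ∉ (X.toSpecΓ x).asIdeal)
  exact not_not.symm

theorem apply_mem_basicOpen_iff {X Y : Scheme.{u}} (f : X ⟶ Y) (x : X) (r : Γ(Y, ⊤)) :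
    f x ∈ Y.basicOpen r ↔ x ∈ X.basicOpen (f.appTop r) := by
  rw [← Scheme.preimage_basicOpen_top]
  rfl

theorem eq_of_forall_basicOpen {T : Scheme.{u}} [IsAffine T] (t₁ t₂ : T)
    (h : ∀ r : Γ(T, ⊤), t₁ ∈ T.basicOpen r ↔ t₂ ∈ T.basicOpen r) : t₁ = t₂ := by
  have hinj : Function.Injective T.toSpecΓ := T.toSpecΓ.homeomorph.injective
  apply hinj
  apply PrimeSpectrum.ext
  ext r
  rw [mem_toSpecΓ_asIdeal, mem_toSpecΓ_asIdeal, h r]

open AffineSpace in
theorem exists_closed_separating {U Vi T W V : Scheme.{u}} [IsAffine U] [IsAffine Vi] [IsAffine T]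
    {pU : W ⟶ U} {h : W ⟶ T} {g : U ⟶ Vi} {τ : T ⟶ Vi} (sq : IsPullback pU h g τ)
    (ι : Vi ⟶ V) (C' : Set W) (hC' : IsClosed C') (t : T) (ht : ∀ w ∈ C', h w ≠ t) :
    ∃ (n : ℕ) (v : ULift.{u} (Fin n) → Γ(T, ⊤)) (D : Set ↥(𝔸(ULift.{u} (Fin n); U))),
      IsClosed D ∧
      (homOfVector pU (fun i => h.appTop (v i))) '' C' ⊆ D ∧
      ∀ u' ∈ D, map (ULift.{u} (Fin n)) (g ≫ ι) u' ≠ homOfVector (τ ≫ ι) v t := by
  have hW : IsAffine W := IsAffine.of_isPullback sq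
  have hpo : IsPushout g.appTop τ.appTop pU.appTop h.appTop := isPushout_appTop_of_isPullback sq
  have hgen := CommRingCat.closure_range_union_range_eq_top_of_isPushout hpo
  obtain ⟨I, rfl⟩ := (Scheme.eq_zeroLocus_of_isClosed_of_isAffine W C').1 hC'
  obtain ⟨m, s, α, π, hs, hπ, hI⟩ := exists_decomp_fin pU.appTop.hom h.appTop.hom hgen I
    (T.toSpecΓ t).asIdeal (by
      intro Q hQ hIQ hQp
      let w : W := W.isoSpec.inv ⟨Q, hQ⟩
      have hw : w ∈ W.zeroLocus (U := ⊤) I := by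
        change (⟨Q, hQ⟩ : PrimeSpectrum _) ∈ W.isoSpec.inv ⁻¹' W.zeroLocus (U := ⊤) I
        rw [Scheme.isoSpec_inv_preimage_zeroLocus]
        exact hIQ
      have hwQ : ∀ r : Γ(W, ⊤), w ∈ W.basicOpen r ↔ r ∉ Q := by
        intro r
        rw [← not_iff_not, not_not, ← mem_toSpecΓ_asIdeal]
        have : W.toSpecΓ w = ⟨Q, hQ⟩ := by
          change (W.isoSpec.inv ≫ W.isoSpec.hom) ⟨Q, hQ⟩ = _
          rw [Iso.inv_hom_id]; rfl
        rw [this]
      refine ht w hw (eq_of_forall_basicOpen _ _ fun r => ?_)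
      rw [apply_mem_basicOpen_iff, hwQ, ← not_iff_not, not_not, ← mem_toSpecΓ_asIdeal, ← hQp]
      rfl)
  -- the data
  let v : ULift.{u} (Fin (m + 1)) → Γ(T, ⊤) := fun j => Fin.cons (α := fun _ => Γ(T, ⊤)) s π j.down
  let it : Γ(𝔸(ULift.{u} (Fin (m + 1)); U), ⊤) :=
    coord U ⟨0⟩ - ∑ l : Fin m, (𝔸(ULift.{u} (Fin (m + 1)); U) ↘ U).appTop (α l) * coord U ⟨l.succ⟩
  refine ⟨m + 1, v, (𝔸(ULift.{u} (Fin (m + 1)); U)).zeroLocus (U := ⊤) {it},
    Scheme.zeroLocus_isClosed _ _, ?_, ?_⟩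
  · rintro _ ⟨w, hw, rfl⟩
    rw [Scheme.mem_zeroLocus_iff]
    rintro f rfl
    rw [apply_mem_basicOpen_iff]
    rw [Scheme.mem_zeroLocus_iff] at hw
    have key : (homOfVector pU fun i => h.appTop (v i)).appTop it =
        h.appTop.hom s - ∑ l, pU.appTop.hom (α l) * h.appTop.hom (π l) := by
      simp only [it, map_sub, map_sum, map_mul, homOfVector_appTop_coord]
      refine congrArg₂ _ rfl (Finset.sum_congr rfl fun l _ => ?_)
      refine congrArg₂ _ ?_ rfl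
      rw [← CommRingCat.comp_apply, ← Scheme.Hom.comp_appTop, homOfVector_over]
    rw [key]
    exact hw _ hI
  · intro u' hu' hGu
    rw [Scheme.mem_zeroLocus_iff] at hu'
    have h0 := hu' it rfl
    rw [← mem_toSpecΓ_asIdeal] at h0
    have hc : ∀ j : ULift.{u} (Fin (m + 1)),
        (coord U j ∈ ((𝔸(ULift.{u} (Fin (m + 1)); U)).toSpecΓ u').asIdeal ↔
          v j ∈ (T.toSpecΓ t).asIdeal) := by
      intro j
      rw [mem_toSpecΓ_asIdeal, mem_toSpecΓ_asIdeal, not_iff_not,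
        ← map_appTop_coord (g ≫ ι) j, ← apply_mem_basicOpen_iff, hGu, apply_mem_basicOpen_iff,
        homOfVector_appTop_coord]
    have h1 : coord U ⟨0⟩ ∈ ((𝔸(ULift.{u} (Fin (m + 1)); U)).toSpecΓ u').asIdeal := by
      have : coord U ⟨0⟩ = it +
          ∑ l : Fin m, (𝔸(ULift.{u} (Fin (m + 1)); U) ↘ U).appTop (α l) * coord U ⟨l.succ⟩ := by
        simp only [it]; ring
      rw [this]
      refine Ideal.add_mem _ h0 (sum_mem fun l _ => Ideal.mul_mem_left _ _ ?_)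
      rw [hc]
      exact hπ l
    rw [hc] at h1
    exact hs h1

end Groth.Agent.Lib.helper5.UCAff
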