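import Groth.Agent.Lib.Helper5.UCAffB
import Groth.Agent.Lib.Helper5.AlgSpFpqcBase
import Groth.Agent.Lib.Helper7.AlgSpQC
import Groth.Agent.Lib.Helper7.AlgSpFibre
import Groth.Agent.Lib.Helper11.AlgSpBasic

/-!
# Universally closed morphisms via affine spaces: the core for algebraic spaces (helper5)

`isClosedMap_of_affine`: let `f' : X' ⟶ h_V` be a quasi-compact morphism of sheaves such that the base changes
`X' ×_V 𝔸ⁿ_V ⟶ 𝔸ⁿ_V` are closed on points for all `n`. Then the base change of `f'` to any affine scheme mapping into an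
affine open of `V` is closed on points.
-/

set_option autoImplicit false
universe u
open CategoryTheory CategoryTheory.Limits AlgebraicGeometry Opposite Topology

namespace Groth.Agent.Lib.helper5.UCAff

open AlgSp Groth.Agent.Lib.helper11 Groth.Agent.Lib.helper7.AlgSpQC Groth.Agent.Lib.helper7.AlgSpFibre
  Groth.Agent.Lib.helper10

theorem isPullback_comp_mono' {C : Type*} [Category C] {W X Y P V : C} {a : W ⟶ X} {b : W ⟶ Y}
    {f : X ⟶ P} {g : Y ⟶ P} (h : IsPullback a b f g) (m : P ⟶ V) [Mono m] :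
    IsPullback a b (f ≫ m) (g ≫ m) := by
  refine Groth.Agent.Lib.helper5.isPullback_of_exists_lift
    (by rw [← Category.assoc, h.w, Category.assoc]) (fun x y hxy => ?_)
    (fun l l' h1 h2 => h.hom_ext h1 h2)
  exact h.exists_lift x y (by rw [← cancel_mono m, Category.assoc, Category.assoc, hxy])

variable {S : Scheme.{u}}

open AffineSpace in
theorem isClosedMap_of_affine {V : Over S} {X' : Sp S} (f' : X' ⟶ (yon S).obj V)
    (hqc : IsQuasiCompactMor f')
    (hcl : ∀ (n : ℕ) (P : Sp S) (fst : P ⟶ X')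
      (snd : P ⟶ (yon S).obj (Over.mk ((𝔸(ULift.{u} (Fin n); V.left) ↘ V.left) ≫ V.hom))),
      IsPullback fst snd f' ((yon S).map (Over.homMk (𝔸(ULift.{u} (Fin n); V.left) ↘ V.left))) →
        IsClosedMap (Points.map snd))
    (Vi : V.left.Opens) (hVi : IsAffineOpen Vi)
    (T : Over S) [IsAffine T.left] (m : T ⟶ V) (hm : Set.range m.left ⊆ Vi)
    {P : Sp S} (fst : P ⟶ X') (snd : P ⟶ (yon S).obj T)
    (sq : IsPullback fst snd f' ((yon S).map m)) :
    IsClosedMap (Points.map snd) := by
  classical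
  -- the affine open as an object over `S`
  let Vio : Over S := Over.mk (Vi.ι ≫ V.hom)
  let ji : Vio ⟶ V := Over.homMk Vi.ι rfl
  haveI hVioAff : IsAffine Vio.left := hVi
  haveI : Mono ji.left := inferInstanceAs (Mono Vi.ι)
  have hjie : RepWith @Etale ((yon S).map ji) :=
    (repWith_yon_map_iff @Etale ji).2 (inferInstanceAs (Etale Vi.ι))
  -- base change to `Vi`
  have sqi : IsPullback (pullback.fst f' ((yon S).map ji)) (pullback.snd f' ((yon S).map ji)) f'
      ((yon S).map ji) := IsPullback.of_hasPullback _ _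
  have hXi : IsQuasiCompactSp (pullback f' ((yon S).map ji)) :=
    hqc (IsAlgSpace.yon_obj Vio) (isQuasiCompactSp_yon Vio) _ _ _ sqi
  haveI := compactSpace_of_isQuasiCompactSp hXi
  obtain ⟨U₀, p₀, hp₀e, hp₀s, -⟩ := hXi
  obtain ⟨U, ai, hUaff, haie, hais⟩ := exists_affine_chart_of_compactSpace p₀ hp₀e hp₀s
  haveI : IsAffine U.left := hUaff
  have hfste : RepWith @Etale (pullback.fst f' ((yon S).map ji)) :=
    MorphismProperty.of_isPullback sqi.flip hjie
  let a : (yon S).obj U ⟶ X' := ai ≫ pullback.fst f' ((yon S).map ji)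
  have hae : RepWith @Etale a := (repWith_isMultiplicative (S := S) @Etale).comp_mem _ _ haie hfste
  obtain ⟨g, hg⟩ := (yon S).map_surjective (ai ≫ pullback.snd f' ((yon S).map ji))
  have hak : a ≫ f' = (yon S).map (g ≫ ji) := by
    rw [Functor.map_comp, hg, Category.assoc, Category.assoc, sqi.w]
  -- `T ⟶ Vi`
  have hm' : Set.range m.left ⊆ Set.range Vi.ι := by
    rw [Scheme.Opens.range_ι]; exact hm
  let τl : T.left ⟶ Vio.left := IsOpenImmersion.lift Vi.ι m.left hm'
  have hτl : τl ≫ Vi.ι = m.left := IsOpenImmersion.lift_fac _ _ _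
  let τ : T ⟶ Vio := Over.homMk τl (by
    change τl ≫ Vi.ι ≫ V.hom = T.hom
    rw [← Category.assoc, hτl]; exact Over.w m)
  have hτ : τ ≫ ji = m := by
    apply Over.OverMorphism.ext
    exact hτl
  -- the fibre product `W = U ×_{Vi} T`
  let Wo : Over S := Over.mk (pullback.fst g.left τ.left ≫ U.hom)
  let pU : Wo ⟶ U := Over.homMk (pullback.fst g.left τ.left) rfl
  let h : Wo ⟶ T := Over.homMk (pullback.snd g.left τ.left) (by
    change pullback.snd g.left τ.left ≫ T.hom = pullback.fst g.left τ.left ≫ U.hom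
    rw [← Over.w τ, ← Over.w g, ← Category.assoc, ← Category.assoc, pullback.condition])
  have sqW0 : IsPullback pU.left h.left g.left τ.left := IsPullback.of_hasPullback _ _
  have hWw : pU ≫ (g ≫ ji) = h ≫ m := by
    apply Over.OverMorphism.ext
    rw [← hτ]
    simp only [Over.comp_left]
    rw [← Category.assoc, sqW0.w, Category.assoc]
  have sqW : IsPullback pU h (g ≫ ji) m := by
    refine IsPullback.of_map (Over.forget S) hWw ?_
    have := isPullback_comp_mono' sqW0 ji.left
    rw [← hτ]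
    exact this
  intro C hC
  rw [← isOpen_compl_iff, isOpen_iff_forall_mem_open]
  intro y hy
  obtain ⟨t, rfl⟩ := (Points.schemeHomeo T).surjective y
  -- `κ : h_W ⟶ P`
  have hκw : ((yon S).map pU ≫ a) ≫ f' = (yon S).map h ≫ (yon S).map m := by
    rw [Category.assoc, hak, ← Functor.map_comp, ← Functor.map_comp, hWw]
  let κ : (yon S).obj Wo ⟶ P := sq.lift _ _ hκw
  have hκ1 : κ ≫ fst = (yon S).map pU ≫ a := sq.lift_fst _ _ _
  have hκ2 : κ ≫ snd = (yon S).map h := sq.lift_snd _ _ _
  have sqκ : IsPullback κ ((yon S).map pU) fst a := by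
    refine IsPullback.of_right ?_ hκ1 sq.flip
    rw [hκ2, hak]
    exact (sqW.map (yon S)).flip
  -- the closed subset of `W`
  let C' : Set ↥Wo.left := (Points.schemeHomeo Wo) ⁻¹' (Points.map κ ⁻¹' C)
  have hC'cl : IsClosed C' :=
    (hC.preimage (Points.continuous_map κ)).preimage (Points.schemeHomeo Wo).continuous
  have hC't : ∀ w ∈ C', h.left w ≠ t := by
    intro w hw hwt
    apply hy
    refine ⟨Points.map κ (Points.schemeHomeo Wo w), hw, ?_⟩
    rw [← Points.map_comp, hκ2, Points.map_yon_map_apply, hwt]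
  obtain ⟨n, v, D, hDcl, hΨD, hD⟩ := exists_closed_separating sqW0 ji.left C' hC'cl t hC't
  -- affine spaces as objects over `S`
  let AV : Over S := Over.mk ((𝔸(ULift.{u} (Fin n); V.left) ↘ V.left) ≫ V.hom)
  let prV : AV ⟶ V := Over.homMk (𝔸(ULift.{u} (Fin n); V.left) ↘ V.left)
  let AU : Over S := Over.mk ((𝔸(ULift.{u} (Fin n); U.left) ↘ U.left) ≫ U.hom)
  let prU : AU ⟶ U := Over.homMk (𝔸(ULift.{u} (Fin n); U.left) ↘ U.left)
  let Go : AU ⟶ AV := Over.homMk (map (ULift.{u} (Fin n)) (g.left ≫ ji.left)) (by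
    change map (ULift.{u} (Fin n)) (g.left ≫ ji.left) ≫ (𝔸(ULift.{u} (Fin n); V.left) ↘ V.left) ≫ V.hom =
      (𝔸(ULift.{u} (Fin n); U.left) ↘ U.left) ≫ U.hom
    rw [← Category.assoc, map_over, Category.assoc, ← Over.comp_left, Over.w])
  let ψo : T ⟶ AV := Over.homMk (homOfVector (τ.left ≫ ji.left) v) (by
    change homOfVector (τ.left ≫ ji.left) v ≫ (𝔸(ULift.{u} (Fin n); V.left) ↘ V.left) ≫ V.hom = T.hom
    rw [← Category.assoc, homOfVector_over, ← Over.comp_left, Over.w])
  let Ψo : Wo ⟶ AU := Over.homMk (homOfVector pU.left (fun i => h.left.appTop (v i))) (by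
    change homOfVector pU.left (fun i => h.left.appTop (v i)) ≫
      (𝔸(ULift.{u} (Fin n); U.left) ↘ U.left) ≫ U.hom = Wo.hom
    rw [← Category.assoc, homOfVector_over]; rfl)
  have hψpr : ψo ≫ prV = m := by
    apply Over.OverMorphism.ext
    change homOfVector (τ.left ≫ ji.left) v ≫ (𝔸(ULift.{u} (Fin n); V.left) ↘ V.left) = m.left
    rw [homOfVector_over]
    exact hτl
  have hΨpr : Ψo ≫ prU = pU := by
    apply Over.OverMorphism.ext
    change homOfVector pU.left (fun i => h.left.appTop (v i)) ≫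
      (𝔸(ULift.{u} (Fin n); U.left) ↘ U.left) = pU.left
    rw [homOfVector_over]
  have hGpr : Go ≫ prV = prU ≫ (g ≫ ji) := by
    apply Over.OverMorphism.ext
    change map (ULift.{u} (Fin n)) (g.left ≫ ji.left) ≫ (𝔸(ULift.{u} (Fin n); V.left) ↘ V.left) =
      (𝔸(ULift.{u} (Fin n); U.left) ↘ U.left) ≫ (g.left ≫ ji.left)
    rw [map_over]
  have hΨG : Ψo ≫ Go = h ≫ ψo := by
    apply Over.OverMorphism.ext
    change homOfVector pU.left (fun i => h.left.appTop (v i)) ≫ map (ULift.{u} (Fin n)) (g.left ≫ ji.left) =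
      h.left ≫ homOfVector (τ.left ≫ ji.left) v
    apply AffineSpace.hom_ext
    · rw [Category.assoc, map_over, homOfVector_over_assoc, Category.assoc, homOfVector_over,
        ← Category.assoc, sqW0.w, Category.assoc]
    · intro i
      rw [Scheme.Hom.comp_appTop, Scheme.Hom.comp_appTop, CommRingCat.comp_apply,
        CommRingCat.comp_apply, map_appTop_coord, homOfVector_appTop_coord, homOfVector_appTop_coord]
  have sqA : IsPullback Go prU prV (g ≫ ji) :=
    IsPullback.of_map (Over.forget S) hGpr (isPullback_map (g.left ≫ ji.left))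
  -- the base change to `𝔸ⁿ_V`
  have sqn : IsPullback (pullback.fst f' ((yon S).map prV)) (pullback.snd f' ((yon S).map prV)) f'
      ((yon S).map prV) := IsPullback.of_hasPullback _ _
  have hcln : IsClosedMap (Points.map (pullback.snd f' ((yon S).map prV))) := hcl n _ _ _ sqn
  let ρ : P ⟶ pullback f' ((yon S).map prV) := sqn.lift fst (snd ≫ (yon S).map ψo) (by
    rw [sq.w, Category.assoc, ← Functor.map_comp, hψpr])
  have hρ1 : ρ ≫ pullback.fst f' ((yon S).map prV) = fst := sqn.lift_fst _ _ _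
  have hρ2 : ρ ≫ pullback.snd f' ((yon S).map prV) = snd ≫ (yon S).map ψo := sqn.lift_snd _ _ _
  let π : (yon S).obj AU ⟶ pullback f' ((yon S).map prV) :=
    sqn.lift ((yon S).map prU ≫ a) ((yon S).map Go) (by
      rw [Category.assoc, hak, ← Functor.map_comp, ← Functor.map_comp, hGpr])
  have hπ1 : π ≫ pullback.fst f' ((yon S).map prV) = (yon S).map prU ≫ a := sqn.lift_fst _ _ _
  have hπ2 : π ≫ pullback.snd f' ((yon S).map prV) = (yon S).map Go := sqn.lift_snd _ _ _
  have sqπ : IsPullback π ((yon S).map prU) (pullback.fst f' ((yon S).map prV)) a := by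
    refine IsPullback.of_right ?_ hπ1 sqn.flip
    rw [hπ2, hak]
    exact sqA.map (yon S)
  have hπe : RepWith @Etale π := MorphismProperty.of_isPullback sqπ.flip hae
  have hπopen : IsOpenMap (Points.map π) := isOpenMap_map_of_repWith_etale π hπe
  have hsq4 : (yon S).map Ψo ≫ π = κ ≫ ρ := by
    apply sqn.hom_ext
    · rw [Category.assoc, hπ1, Category.assoc, hρ1, hκ1, ← Category.assoc, ← Functor.map_comp, hΨpr]
    · rw [Category.assoc, hπ2, Category.assoc, hρ2, ← Category.assoc, hκ2, ← Functor.map_comp,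
        ← Functor.map_comp, hΨG]
  have sq4 : IsPullback ((yon S).map Ψo) κ π ρ := by
    refine IsPullback.of_right ?_ hsq4 sqπ.flip
    rw [← Functor.map_comp, hΨpr, hρ1]
    exact sqκ.flip
  -- the topological argument
  let C0 : Set (Points (pullback f' ((yon S).map prV))) := closure (Points.map ρ '' C)
  have hE : IsClosed (Points.map (pullback.snd f' ((yon S).map prV)) '' C0) :=
    hcln _ isClosed_closure
  refine ⟨Points.map ((yon S).map ψo) ⁻¹' (Points.map (pullback.snd f' ((yon S).map prV)) '' C0)ᶜ,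
    ?_, hE.isOpen_compl.preimage (Points.continuous_map _), ?_⟩
  · rintro y hy1 ⟨c, hc, rfl⟩
    apply hy1
    refine ⟨Points.map ρ c, subset_closure ⟨c, hc, rfl⟩, ?_⟩
    rw [← Points.map_comp, ← Points.map_comp, hρ2]
  · rintro ⟨c0, hc0, hc0t⟩
    -- `c0` lies over `Vi`
    have hx : Points.map f' (Points.map (pullback.fst f' ((yon S).map prV)) c0) =
        Points.map ((yon S).map ji) (Points.map ((yon S).map τ) (Points.schemeHomeo T t)) := by
      rw [← Points.map_comp, sqn.w, Points.map_comp, hc0t, ← Points.map_comp, ← Points.map_comp,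
        ← Functor.map_comp, ← Functor.map_comp, hψpr, hτ]
    obtain ⟨xi, hxi1, -⟩ := exists_point_of_isPullback sqi _ _ hx
    obtain ⟨u, rfl⟩ := surjective_ofPt ai hais xi
    have hu : Points.map (pullback.fst f' ((yon S).map prV)) c0 =
        Points.map a (Points.schemeHomeo U u) := by
      rw [← hxi1, Points.ofPt_eq_map_ofScheme, ← Points.map_comp]
      rfl
    obtain ⟨u'', hu''1, -⟩ := exists_point_of_isPullback sqπ c0 _ hu
    have hmem : u'' ∈ closure (Points.map π ⁻¹' (Points.map ρ '' C)) := by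
      rw [← hπopen.preimage_closure_eq_closure_preimage (Points.continuous_map π)]
      change Points.map π u'' ∈ C0
      rw [hu''1]; exact hc0
    have hsub : Points.map π ⁻¹' (Points.map ρ '' C) ⊆ (Points.schemeHomeo AU) '' D := by
      rintro z ⟨c, hc, hcz⟩
      obtain ⟨w, hw1, hw2⟩ := exists_point_of_isPullback sq4 z c hcz.symm
      obtain ⟨w', rfl⟩ := (Points.schemeHomeo Wo).surjective w
      refine ⟨Ψo.left w', hΨD ⟨w', ?_, rfl⟩, ?_⟩
      · change Points.map κ (Points.schemeHomeo Wo w') ∈ C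
        rw [hw2]; exact hc
      · rw [← Points.map_yon_map_apply, hw1]
    have hclD : IsClosed ((Points.schemeHomeo AU) '' D) :=
      (Points.schemeHomeo AU).isClosedMap _ hDcl
    obtain ⟨d, hd, rfl⟩ := (closure_minimal hsub hclD) hmem
    refine hD d hd ?_
    apply (Points.schemeHomeo AV).injective
    have h1 := Points.map_yon_map_apply Go d
    have h2 := Points.map_yon_map_apply ψo t
    change Points.schemeHomeo AV (Go.left d) = Points.schemeHomeo AV (ψo.left t)
    rw [← h1, ← h2, ← hπ2, Points.map_comp, hu''1, hc0t]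

end Groth.Agent.Lib.helper5.UCAff
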