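import Groth.Agent.Lib.Helper5.UCAffD

/-!
# Universally closed morphisms via affine spaces: separating a point from a closed set (helper5)

`exists_separating`: the core of `UCAff.isClosedMap_of_affine`, stated without the closedness hypothesis: for a quasi-compact
`f' : X' ⟶ h_V`, an affine `T` mapping to an affine open `Vi` of `V`, a closed subset `C` of the points of `X' ×_V T` and a
point `t` of `T` not in its image, there are finitely many functions `v` on `T` such that, for the induced morphism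
`ψ : T ⟶ 𝔸ⁿ_V`, the closure of the image of `C` in `X' ×_V 𝔸ⁿ_V` has no point over `ψ(t)`.
-/

set_option autoImplicit false
universe u
open CategoryTheory CategoryTheory.Limits AlgebraicGeometry Opposite Topology

namespace Groth.Agent.Lib.helper5.UCAff

open AlgSp Groth.Agent.Lib.helper11 Groth.Agent.Lib.helper7.AlgSpQC Groth.Agent.Lib.helper7.AlgSpFibre
  Groth.Agent.Lib.helper10

variable {S : Scheme.{u}}

/-- `𝔸ⁿ_V` as an object over `S`. -/
noncomputable abbrev AV (n : ℕ) (V : Over S) : Over S :=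
  Over.mk ((𝔸(ULift.{u} (Fin n); V.left) ↘ V.left) ≫ V.hom)

/-- The projection `𝔸ⁿ_V ⟶ V`. -/
noncomputable abbrev prV (n : ℕ) (V : Over S) : AV n V ⟶ V :=
  Over.homMk (𝔸(ULift.{u} (Fin n); V.left) ↘ V.left)

open AffineSpace in
/-- The morphism `T ⟶ 𝔸ⁿ_V` over `S` given by `m : T ⟶ V` and functions on `T`. -/
noncomputable def vecHom {T V : Over S} (m : T ⟶ V) {n : ℕ} (v : ULift.{u} (Fin n) → Γ(T.left, ⊤)) :
    T ⟶ AV n V :=
  Over.homMk (homOfVector m.left v) (by
    change homOfVector m.left v ≫ (𝔸(ULift.{u} (Fin n); V.left) ↘ V.left) ≫ V.hom = T.hom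
    rw [← Category.assoc, homOfVector_over, Over.w])

open AffineSpace in
@[simp] theorem vecHom_left {T V : Over S} (m : T ⟶ V) {n : ℕ} (v : ULift.{u} (Fin n) → Γ(T.left, ⊤)) :
    (vecHom m v).left = homOfVector m.left v := rfl

open AffineSpace in
theorem vecHom_prV {T V : Over S} (m : T ⟶ V) {n : ℕ} (v : ULift.{u} (Fin n) → Γ(T.left, ⊤)) :
    vecHom m v ≫ prV n V = m := by
  apply Over.OverMorphism.ext
  change homOfVector m.left v ≫ (𝔸(ULift.{u} (Fin n); V.left) ↘ V.left) = m.left
  rw [homOfVector_over]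

open AffineSpace in
theorem exists_separating {V : Over S} {X' : Sp S} (f' : X' ⟶ (yon S).obj V)
    (hqc : IsQuasiCompactMor f')
    (Vi : V.left.Opens) (hVi : IsAffineOpen Vi)
    (T : Over S) [IsAffine T.left] (τ : T ⟶ Over.mk (Vi.ι ≫ V.hom))
    {P : Sp S} (fst : P ⟶ X') (snd : P ⟶ (yon S).obj T)
    (sq : IsPullback fst snd f'
      ((yon S).map (τ ≫ (Over.homMk Vi.ι rfl : Over.mk (Vi.ι ≫ V.hom) ⟶ V))))
    (C : Set (Points P)) (hC : IsClosed C) (t : ↥T.left)
    (ht : Points.schemeHomeo T t ∉ Points.map snd '' C) :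
    ∃ (n : ℕ) (v : ULift.{u} (Fin n) → Γ(T.left, ⊤)),
      ∀ (Pn : Sp S) (fstn : Pn ⟶ X') (sndn : Pn ⟶ (yon S).obj (AV n V)),
        IsPullback fstn sndn f' ((yon S).map (prV n V)) →
        ∀ ρ : P ⟶ Pn, ρ ≫ fstn = fst →
          ρ ≫ sndn = snd ≫ (yon S).map
            (vecHom (τ ≫ (Over.homMk Vi.ι rfl : Over.mk (Vi.ι ≫ V.hom) ⟶ V)) v) →
          Points.schemeHomeo (AV n V)
            ((vecHom (τ ≫ (Over.homMk Vi.ι rfl : Over.mk (Vi.ι ≫ V.hom) ⟶ V)) v).left t) ∉
            Points.map sndn '' closure (Points.map ρ '' C) := by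
  classical
  -- the affine open as an object over `S`
  let Vio : Over S := Over.mk (Vi.ι ≫ V.hom)
  let ji : Vio ⟶ V := Over.homMk Vi.ι rfl
  let m : T ⟶ V := τ ≫ ji
  haveI hVioAff : IsAffine Vio.left := hVi
  haveI : Mono ji.left := inferInstanceAs (Mono Vi.ι)
  have hjie : RepWith @Etale ((yon S).map ji) :=
    (repWith_yon_map_iff @Etale ji).2 (inferInstanceAs (Etale Vi.ι))
  -- base change to `Vi`
  have sqi : IsPullback (pullback.fst f' ((yon S).map ji)) (pullback.snd f' ((yon S).map ji)) f'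
      ((yon S).map ji) := IsPullback.of_hasPullback _ _
  have hXi : IsQuasiCompactSp (pullback f' ((yon S).map ji)) :=
    hqc (IsAlgSpace.yon_obj Vio) (isQuasiCompactSp_yon Vio) _ _ _ sqi
  haveI := compactSpace_of_isQuasiCompactSp hXi
  obtain ⟨U₀, p₀, hp₀e, hp₀s, -⟩ := hXi
  obtain ⟨U, ai, hUaff, haie, hais⟩ := exists_affine_chart_of_compactSpace p₀ hp₀e hp₀s
  haveI : IsAffine U.left := hUaff
  have hfste : RepWith @Etale (pullback.fst f' ((yon S).map ji)) :=
    MorphismProperty.of_isPullback sqi.flip hjie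
  let a : (yon S).obj U ⟶ X' := ai ≫ pullback.fst f' ((yon S).map ji)
  have hae : RepWith @Etale a := (repWith_isMultiplicative (S := S) @Etale).comp_mem _ _ haie hfste
  obtain ⟨g, hg⟩ := (yon S).map_surjective (ai ≫ pullback.snd f' ((yon S).map ji))
  have hak : a ≫ f' = (yon S).map (g ≫ ji) := by
    rw [Functor.map_comp, hg, Category.assoc, Category.assoc, sqi.w]
  have hτ : τ ≫ ji = m := rfl
  -- the fibre product `W = U ×_{Vi} T`
  let Wo : Over S := Over.mk (pullback.fst g.left τ.left ≫ U.hom)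
  let pU : Wo ⟶ U := Over.homMk (pullback.fst g.left τ.left) rfl
  let h : Wo ⟶ T := Over.homMk (pullback.snd g.left τ.left) (by
    change pullback.snd g.left τ.left ≫ T.hom = pullback.fst g.left τ.left ≫ U.hom
    rw [← Over.w τ, ← Over.w g, ← Category.assoc, ← Category.assoc, pullback.condition])
  have sqW0 : IsPullback pU.left h.left g.left τ.left := IsPullback.of_hasPullback _ _
  have hWw : pU ≫ (g ≫ ji) = h ≫ m := by
    apply Over.OverMorphism.ext
    rw [← hτ]
    simp only [Over.comp_left]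
    rw [← Category.assoc, sqW0.w, Category.assoc]
  have sqW : IsPullback pU h (g ≫ ji) m := by
    refine IsPullback.of_map (Over.forget S) hWw ?_
    have := isPullback_comp_mono' sqW0 ji.left
    rw [← hτ]
    exact this
  -- `κ : h_W ⟶ P`
  have hκw : ((yon S).map pU ≫ a) ≫ f' = (yon S).map h ≫ (yon S).map m := by
    rw [Category.assoc, hak, ← Functor.map_comp, ← Functor.map_comp, hWw]
  let κ : (yon S).obj Wo ⟶ P := sq.lift _ _ hκw
  have hκ1 : κ ≫ fst = (yon S).map pU ≫ a := sq.lift_fst _ _ _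
  have hκ2 : κ ≫ snd = (yon S).map h := sq.lift_snd _ _ _
  have sqκ : IsPullback κ ((yon S).map pU) fst a := by
    refine IsPullback.of_right ?_ hκ1 sq.flip
    rw [hκ2, hak]
    exact (sqW.map (yon S)).flip
  -- the closed subset of `W`
  let C' : Set ↥Wo.left := (Points.schemeHomeo Wo) ⁻¹' (Points.map κ ⁻¹' C)
  have hC'cl : IsClosed C' :=
    (hC.preimage (Points.continuous_map κ)).preimage (Points.schemeHomeo Wo).continuous
  have hC't : ∀ w ∈ C', h.left w ≠ t := by
    intro w hw hwt
    apply ht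
    refine ⟨Points.map κ (Points.schemeHomeo Wo w), hw, ?_⟩
    rw [← Points.map_comp, hκ2, Points.map_yon_map_apply, hwt]
  obtain ⟨n, v, D, hDcl, hΨD, hD⟩ := exists_closed_separating sqW0 ji.left C' hC'cl t hC't
  refine ⟨n, v, ?_⟩
  intro Pn fstn sndn sqn ρ hρ1 hρ2
  -- affine spaces as objects over `S`
  let AU : Over S := Over.mk ((𝔸(ULift.{u} (Fin n); U.left) ↘ U.left) ≫ U.hom)
  let prU : AU ⟶ U := Over.homMk (𝔸(ULift.{u} (Fin n); U.left) ↘ U.left)
  let Go : AU ⟶ AV n V := Over.homMk (map (ULift.{u} (Fin n)) (g.left ≫ ji.left)) (by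
    change map (ULift.{u} (Fin n)) (g.left ≫ ji.left) ≫ (𝔸(ULift.{u} (Fin n); V.left) ↘ V.left) ≫ V.hom =
      (𝔸(ULift.{u} (Fin n); U.left) ↘ U.left) ≫ U.hom
    rw [← Category.assoc, map_over, Category.assoc, ← Over.comp_left, Over.w])
  let ψo : T ⟶ AV n V := vecHom m v
  let Ψo : Wo ⟶ AU := Over.homMk (homOfVector pU.left (fun i => h.left.appTop (v i))) (by
    change homOfVector pU.left (fun i => h.left.appTop (v i)) ≫
      (𝔸(ULift.{u} (Fin n); U.left) ↘ U.left) ≫ U.hom = Wo.hom
    rw [← Category.assoc, homOfVector_over]; rfl)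
  have hψpr : ψo ≫ prV n V = m := vecHom_prV m v
  have hΨpr : Ψo ≫ prU = pU := by
    apply Over.OverMorphism.ext
    change homOfVector pU.left (fun i => h.left.appTop (v i)) ≫
      (𝔸(ULift.{u} (Fin n); U.left) ↘ U.left) = pU.left
    rw [homOfVector_over]
  have hGpr : Go ≫ prV n V = prU ≫ (g ≫ ji) := by
    apply Over.OverMorphism.ext
    change map (ULift.{u} (Fin n)) (g.left ≫ ji.left) ≫ (𝔸(ULift.{u} (Fin n); V.left) ↘ V.left) =
      (𝔸(ULift.{u} (Fin n); U.left) ↘ U.left) ≫ (g.left ≫ ji.left)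
    rw [map_over]
  have hΨG : Ψo ≫ Go = h ≫ ψo := by
    apply Over.OverMorphism.ext
    change homOfVector pU.left (fun i => h.left.appTop (v i)) ≫ map (ULift.{u} (Fin n)) (g.left ≫ ji.left) =
      h.left ≫ homOfVector (τ.left ≫ ji.left) v
    apply AffineSpace.hom_ext
    · rw [Category.assoc, map_over, homOfVector_over_assoc, Category.assoc, homOfVector_over,
        ← Category.assoc, sqW0.w, Category.assoc]
    · intro i
      rw [Scheme.Hom.comp_appTop, Scheme.Hom.comp_appTop, CommRingCat.comp_apply,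
        CommRingCat.comp_apply, map_appTop_coord, homOfVector_appTop_coord, homOfVector_appTop_coord]
  have sqA : IsPullback Go prU (prV n V) (g ≫ ji) :=
    IsPullback.of_map (Over.forget S) hGpr (isPullback_map (g.left ≫ ji.left))
  let π : (yon S).obj AU ⟶ Pn :=
    sqn.lift ((yon S).map prU ≫ a) ((yon S).map Go) (by
      rw [Category.assoc, hak, ← Functor.map_comp, ← Functor.map_comp, hGpr])
  have hπ1 : π ≫ fstn = (yon S).map prU ≫ a := sqn.lift_fst _ _ _
  have hπ2 : π ≫ sndn = (yon S).map Go := sqn.lift_snd _ _ _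
  have sqπ : IsPullback π ((yon S).map prU) fstn a := by
    refine IsPullback.of_right ?_ hπ1 sqn.flip
    rw [hπ2, hak]
    exact sqA.map (yon S)
  have hπe : RepWith @Etale π := MorphismProperty.of_isPullback sqπ.flip hae
  have hπopen : IsOpenMap (Points.map π) := isOpenMap_map_of_repWith_etale π hπe
  have hsq4 : (yon S).map Ψo ≫ π = κ ≫ ρ := by
    apply sqn.hom_ext
    · rw [Category.assoc, hπ1, Category.assoc, hρ1, hκ1, ← Category.assoc, ← Functor.map_comp, hΨpr]
    · rw [Category.assoc, hπ2, Category.assoc, hρ2, ← Category.assoc, hκ2, ← Functor.map_comp,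
        ← Functor.map_comp, hΨG]
  have sq4 : IsPullback ((yon S).map Ψo) κ π ρ := by
    refine IsPullback.of_right ?_ hsq4 sqπ.flip
    rw [← Functor.map_comp, hΨpr, hρ1]
    exact sqκ.flip
  -- the topological argument
  rintro ⟨c0, hc0, hc0t⟩
  have hc0t' : Points.map sndn c0 = Points.map ((yon S).map ψo) (Points.schemeHomeo T t) := by
    rw [hc0t, Points.map_yon_map_apply]
  have hx : Points.map f' (Points.map fstn c0) =
      Points.map ((yon S).map ji) (Points.map ((yon S).map τ) (Points.schemeHomeo T t)) := by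
    rw [← Points.map_comp, sqn.w, Points.map_comp, hc0t', ← Points.map_comp, ← Points.map_comp,
      ← Functor.map_comp, ← Functor.map_comp, hψpr]
  obtain ⟨xi, hxi1, -⟩ := exists_point_of_isPullback sqi _ _ hx
  obtain ⟨u, rfl⟩ := surjective_ofPt ai hais xi
  have hu : Points.map fstn c0 = Points.map a (Points.schemeHomeo U u) := by
    rw [← hxi1, Points.ofPt_eq_map_ofScheme, ← Points.map_comp]
    rfl
  obtain ⟨u'', hu''1, -⟩ := exists_point_of_isPullback sqπ c0 _ hu
  have hmem : u'' ∈ closure (Points.map π ⁻¹' (Points.map ρ '' C)) := by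
    rw [← hπopen.preimage_closure_eq_closure_preimage (Points.continuous_map π)]
    change Points.map π u'' ∈ closure (Points.map ρ '' C)
    rw [hu''1]; exact hc0
  have hsub : Points.map π ⁻¹' (Points.map ρ '' C) ⊆ (Points.schemeHomeo AU) '' D := by
    rintro z ⟨c, hc, hcz⟩
    obtain ⟨w, hw1, hw2⟩ := exists_point_of_isPullback sq4 z c hcz.symm
    obtain ⟨w', rfl⟩ := (Points.schemeHomeo Wo).surjective w
    refine ⟨Ψo.left w', hΨD ⟨w', ?_, rfl⟩, ?_⟩
    · change Points.map κ (Points.schemeHomeo Wo w') ∈ C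
      rw [hw2]; exact hc
    · rw [← Points.map_yon_map_apply, hw1]
  have hclD : IsClosed ((Points.schemeHomeo AU) '' D) :=
    (Points.schemeHomeo AU).isClosedMap _ hDcl
  obtain ⟨d, hd, rfl⟩ := (closure_minimal hsub hclD) hmem
  refine hD d hd ?_
  apply (Points.schemeHomeo (AV n V)).injective
  have h1 := Points.map_yon_map_apply Go d
  have h2 := Points.map_yon_map_apply ψo t
  change Points.schemeHomeo (AV n V) (Go.left d) = Points.schemeHomeo (AV n V) (ψo.left t)
  rw [← h1, ← h2, ← hπ2, Points.map_comp, hu''1, hc0t']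

end Groth.Agent.Lib.helper5.UCAff
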