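import Groth.Agent.Lib.Helper5.UCAffE
import Groth.Agent.Lib.Helper5.SchemeBridge
import Groth.Agent.Lib.Helper5.FppfBoot2
import Groth.Agent.Lib.Helper1.LocPStable

/-!
# Separating a point from a closed subset after an lfp change of base (helper5)

`exists_etale_nbhd_separating`: for a quasi-compact `f : X ⟶ Y`, `g : Z ⟶ Y` with `Y`, `Z` algebraic spaces, a closed subset
`T` of `|X ×_Y Z|` and a point `z` of `Z` not in its image, there are an affine etale neighbourhood `(V, v)` of `z`, an affine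
`Z'` locally of finite presentation over `Y` and `a : V ⟶ Z'` over `Y` such that in every `X ×_Y Z'` there is a closed
subset containing the image of the inverse image of `T` and having no point over `a(v)`.
-/

set_option autoImplicit false
universe u
open CategoryTheory CategoryTheory.Limits AlgebraicGeometry Opposite Topology

namespace Groth.Agent.Lib.helper5.UCAff

open AlgSp Groth.Agent.Lib.helper11 Groth.Agent.Lib.helper10 Groth.Agent.Lib.helper5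

variable {S : Scheme.{u}}

open AffineSpace in
theorem exists_etale_nbhd_separating {X Y Z : Sp S} (hY : IsAlgSpace Y) (hZ : IsAlgSpace Z)
    (f : X ⟶ Y) (g : Z ⟶ Y) (hf : IsQuasiCompactMor f)
    (P : Sp S) (p₁ : P ⟶ X) (p₂ : P ⟶ Z) (hP : IsPullback p₁ p₂ f g)
    (z : Points Z) (T : Set (Points P)) (hT : IsClosed T) (hz : z ∉ Points.map p₂ '' T) :
    ∃ (V : Over S) (_ : IsAffine V.left) (e : (yon S).obj V ⟶ Z) (_ : RepWith @Etale e) (v : ↥V.left)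
      (_ : Points.map e (Points.schemeEquiv V v) = z)
      (Z' : Over S) (_ : IsAffine Z'.left) (b : (yon S).obj Z' ⟶ Y)
      (_ : LocP @LocallyOfFinitePresentation b)
      (a : V ⟶ Z') (_ : (yon S).map a ≫ b = e ≫ g),
      ∀ (P' : Sp S) (q₁ : P' ⟶ X) (q₂ : P' ⟶ (yon S).obj Z'), IsPullback q₁ q₂ f b →
        ∃ T' : Set (Points P'), IsClosed T' ∧
          Points.schemeEquiv Z' (a.left v) ∉ Points.map q₂ '' T' ∧
          ∀ (PV : Sp S) (r₁ : PV ⟶ X) (r₂ : PV ⟶ (yon S).obj V), IsPullback r₁ r₂ f (e ≫ g) →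
            ∀ (κ₁ : PV ⟶ P) (κ₂ : PV ⟶ P'), κ₁ ≫ p₁ = r₁ → κ₁ ≫ p₂ = r₂ ≫ e → κ₂ ≫ q₁ = r₁ →
              κ₂ ≫ q₂ = r₂ ≫ (yon S).map a →
              ∀ w : Points PV, Points.map κ₁ w ∈ T → Points.map κ₂ w ∈ T' := by
  classical
  obtain ⟨W, p, hpe, hps⟩ := hY.atlas
  obtain ⟨Z₀, pz, hpze, hpzs⟩ := hZ.atlas
  obtain ⟨Z₁, s₁, m₁', sq₁⟩ := hpe.rep (pz ≫ g)
  obtain ⟨φ, rfl⟩ := (yon S).map_surjective m₁'
  have hs₁e : Etale s₁.left := hpe.2 (pz ≫ g) _ s₁ sq₁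
  have hs₁s : Surjective s₁.left := hps.2 (pz ≫ g) _ s₁ sq₁
  -- points
  obtain ⟨z₀, hz₀⟩ := surjective_ofPt pz hpzs z
  obtain ⟨z₁, hz₁⟩ := hs₁s.surj z₀
  -- affine opens
  obtain ⟨_, ⟨W₀', hW₀, rfl⟩, hw, -⟩ :=
    (W.left.isBasis_affineOpens).exists_subset_of_mem_open (Set.mem_univ (φ.left z₁)) isOpen_univ
  obtain ⟨W₀, rfl⟩ : ∃ W₀ : W.left.Opens, W₀ = W₀' := ⟨W₀', rfl⟩
  obtain ⟨_, ⟨V₀', hV₀, rfl⟩, hv, hVW⟩ :=
    (Z₁.left.isBasis_affineOpens).exists_subset_of_mem_open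
      (show z₁ ∈ (φ.left ⁻¹ᵁ W₀ : Z₁.left.Opens) from hw) (φ.left ⁻¹ᵁ W₀).2
  obtain ⟨V₀, rfl⟩ : ∃ V₀ : Z₁.left.Opens, V₀ = V₀' := ⟨V₀', rfl⟩
  let Vo : Over S := Over.mk (V₀.ι ≫ Z₁.hom)
  let ei : Vo ⟶ Z₁ := Over.homMk V₀.ι rfl
  haveI hVaff : IsAffine Vo.left := hV₀
  obtain ⟨e, he⟩ : ∃ e : (yon S).obj Vo ⟶ Z, e = (yon S).map (ei ≫ s₁) ≫ pz := ⟨_, rfl⟩
  have hee : RepWith @Etale e := by
    rw [he]
    refine (repWith_isMultiplicative (S := S) @Etale).comp_mem _ _ ?_ hpze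
    rw [repWith_yon_map_iff]
    change Etale (V₀.ι ≫ s₁.left)
    infer_instance
  let v : ↥Vo.left := ⟨z₁, hv⟩
  have hev : Points.map e (Points.schemeEquiv Vo v) = z := by
    change Points.map e (Points.schemeHomeo Vo v) = z
    rw [he, Points.map_comp, Points.map_yon_map_apply, ← hz₀, Points.ofPt_eq_map_ofScheme, ← hz₁]
    rfl
  -- the factorisation through the affine open of `W`
  let Wio : Over S := Over.mk (W₀.ι ≫ W.hom)
  let ji : Wio ⟶ W := Over.homMk W₀.ι rfl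
  haveI hWioaff : IsAffine Wio.left := hW₀
  have hm' : Set.range (V₀.ι ≫ φ.left) ⊆ Set.range W₀.ι := by
    rw [Scheme.Opens.range_ι]
    rintro _ ⟨x, rfl⟩
    exact hVW x.2
  let τl : Vo.left ⟶ Wio.left := IsOpenImmersion.lift W₀.ι (V₀.ι ≫ φ.left) hm'
  have hτl : τl ≫ W₀.ι = V₀.ι ≫ φ.left := IsOpenImmersion.lift_fac _ _ _
  let τ : Vo ⟶ Wio := Over.homMk τl (by
    change τl ≫ W₀.ι ≫ W.hom = V₀.ι ≫ Z₁.hom
    rw [← Category.assoc, hτl, Category.assoc, Over.w φ])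
  have hτ : τ ≫ ji = ei ≫ φ := by
    apply Over.OverMorphism.ext
    exact hτl
  -- base change of `f` to `W`
  have sqX' : IsPullback (pullback.fst f p) (pullback.snd f p) f p := IsPullback.of_hasPullback _ _
  have hqc' : IsQuasiCompactMor (pullback.snd f p) := isQuasiCompactMor_of_isPullback sqX' hf
  have heg : e ≫ g = (yon S).map (τ ≫ ji) ≫ p := by
    rw [hτ, he]
    simp only [Functor.map_comp, Category.assoc]
    rw [sq₁.w]
  -- a pullback over `V`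
  obtain ⟨PV0, s1, s2, sqV⟩ : ∃ (PV0 : Sp S) (s1 : PV0 ⟶ X) (s2 : PV0 ⟶ (yon S).obj Vo),
      IsPullback s1 s2 f (e ≫ g) := ⟨_, _, _, IsPullback.of_hasPullback f (e ≫ g)⟩
  have sqV2 : IsPullback s1 s2 f ((yon S).map (τ ≫ ji) ≫ p) := heg ▸ sqV
  obtain ⟨r, hr, sqr⟩ := isPullback_of_lift sqX' sqV2
  let k1 : PV0 ⟶ P := hP.lift s1 (s2 ≫ e) (by rw [sqV.w, Category.assoc])
  have hk11 : k1 ≫ p₁ = s1 := hP.lift_fst _ _ _
  have hk12 : k1 ≫ p₂ = s2 ≫ e := hP.lift_snd _ _ _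
  let C : Set (Points PV0) := Points.map k1 ⁻¹' T
  have hC : IsClosed C := hT.preimage (Points.continuous_map k1)
  have hvC : Points.schemeHomeo Vo v ∉ Points.map s2 '' C := by
    rintro ⟨c, hc, hcv⟩
    apply hz
    refine ⟨Points.map k1 c, hc, ?_⟩
    rw [← Points.map_comp, hk12, Points.map_comp, hcv]
    exact hev
  obtain ⟨n, vec, hsep⟩ := exists_separating (pullback.snd f p) hqc' W₀ hW₀ Vo τ r s2 sqr C hC v hvC
  -- the affine space
  let Z' : Over S := AV n Wio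
  haveI hZ'aff : IsAffine Z'.left := inferInstanceAs (IsAffine 𝔸(ULift.{u} (Fin n); Wio.left))
  obtain ⟨a, ha⟩ : ∃ a : Vo ⟶ Z', a = vecHom τ vec := ⟨_, rfl⟩
  obtain ⟨b, hbdef⟩ : ∃ b : (yon S).obj Z' ⟶ Y, b = (yon S).map (prV n Wio ≫ ji) ≫ p := ⟨_, rfl⟩
  have hb : LocP @LocallyOfFinitePresentation b := by
    rw [hbdef]
    refine Groth.Agent.H1.LocPStable.locP_comp LocPBC.locPData_lfp.descend (IsAlgSpace.yon_obj W) _ _
      (Bridge.locP_yon_map LocPBC.locPData_lfp _ ?_)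
      (FppfBoot.locP_of_repWith_etale _ (fun f hf => by haveI := hf; infer_instance) p hpe)
    change LocallyOfFinitePresentation ((𝔸(ULift.{u} (Fin n); Wio.left) ↘ Wio.left) ≫ W₀.ι)
    infer_instance
  have hapr : a ≫ prV n Wio ≫ ji = τ ≫ ji := by
    rw [ha, ← Category.assoc, vecHom_prV]
  have hab : (yon S).map a ≫ b = e ≫ g := by
    rw [heg, hbdef, ← Category.assoc, ← Functor.map_comp, hapr]
  refine ⟨Vo, hVaff, e, hee, v, hev, Z', hZ'aff, b, hb, a, hab, ?_⟩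
  intro P' q₁ q₂ sq'
  -- the map `𝔸ⁿ_{W₀} ⟶ 𝔸ⁿ_W`
  let Gm : AV n Wio ⟶ AV n W := Over.homMk (map (ULift.{u} (Fin n)) W₀.ι) (by
    change map (ULift.{u} (Fin n)) W₀.ι ≫ (𝔸(ULift.{u} (Fin n); W.left) ↘ W.left) ≫ W.hom =
      (𝔸(ULift.{u} (Fin n); Wio.left) ↘ Wio.left) ≫ W₀.ι ≫ W.hom
    rw [← Category.assoc, map_over, Category.assoc]
    rfl)
  have hGpr : Gm ≫ prV n W = prV n Wio ≫ ji := by
    apply Over.OverMorphism.ext
    change map (ULift.{u} (Fin n)) W₀.ι ≫ (𝔸(ULift.{u} (Fin n); W.left) ↘ W.left) =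
      (𝔸(ULift.{u} (Fin n); Wio.left) ↘ Wio.left) ≫ W₀.ι
    rw [map_over]
    rfl
  have haG : a ≫ Gm = vecHom (τ ≫ ji) vec := by
    rw [ha]
    apply Over.OverMorphism.ext
    change homOfVector τ.left vec ≫ map (ULift.{u} (Fin n)) W₀.ι = homOfVector (τ.left ≫ W₀.ι) vec
    apply AffineSpace.hom_ext
    · rw [Category.assoc, map_over, homOfVector_over_assoc, homOfVector_over]
    · intro i
      rw [Scheme.Hom.comp_appTop, CommRingCat.comp_apply, map_appTop_coord, homOfVector_appTop_coord,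
        homOfVector_appTop_coord]
  obtain ⟨Pn, fstn, sndn, sqn⟩ : ∃ (Pn : Sp S) (fstn : Pn ⟶ pullback f p)
      (sndn : Pn ⟶ (yon S).obj (AV n W)),
      IsPullback fstn sndn (pullback.snd f p) ((yon S).map (prV n W)) :=
    ⟨_, _, _, IsPullback.of_hasPullback (pullback.snd f p) ((yon S).map (prV n W))⟩
  let q₁' : P' ⟶ pullback f p := sqX'.lift q₁ (q₂ ≫ (yon S).map (prV n Wio ≫ ji))
    (by rw [sq'.w, hbdef, Category.assoc])
  have hq₁'1 : q₁' ≫ pullback.fst f p = q₁ := sqX'.lift_fst _ _ _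
  have hq₁'2 : q₁' ≫ pullback.snd f p = q₂ ≫ (yon S).map (prV n Wio ≫ ji) := sqX'.lift_snd _ _ _
  let μ : P' ⟶ Pn := sqn.lift q₁' (q₂ ≫ (yon S).map Gm)
    (by rw [hq₁'2, Category.assoc, ← Functor.map_comp, hGpr])
  have hμ1 : μ ≫ fstn = q₁' := sqn.lift_fst _ _ _
  have hμ2 : μ ≫ sndn = q₂ ≫ (yon S).map Gm := sqn.lift_snd _ _ _
  let k2 : PV0 ⟶ P' := sq'.lift s1 (s2 ≫ (yon S).map a) (by rw [sqV.w, Category.assoc, hab])
  have hk21 : k2 ≫ q₁ = s1 := sq'.lift_fst _ _ _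
  have hk22 : k2 ≫ q₂ = s2 ≫ (yon S).map a := sq'.lift_snd _ _ _
  have hρ1 : (k2 ≫ μ) ≫ fstn = r := by
    rw [Category.assoc, hμ1]
    apply sqX'.hom_ext
    · rw [Category.assoc, hq₁'1, hk21, hr]
    · rw [Category.assoc, hq₁'2, ← Category.assoc, hk22, Category.assoc, ← Functor.map_comp, sqr.w,
        hapr]
  have hρ2 : (k2 ≫ μ) ≫ sndn = s2 ≫ (yon S).map (vecHom (τ ≫ ji) vec) := by
    rw [Category.assoc, hμ2, ← Category.assoc, hk22, Category.assoc, ← Functor.map_comp, haG]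
  have hsep' := hsep Pn fstn sndn sqn (k2 ≫ μ) hρ1 hρ2
  refine ⟨Points.map μ ⁻¹' closure (Points.map (k2 ≫ μ) '' C),
    isClosed_closure.preimage (Points.continuous_map μ), ?_, ?_⟩
  · rintro ⟨t', ht', ht'v⟩
    apply hsep'
    refine ⟨Points.map μ t', ht', ?_⟩
    rw [← Points.map_comp, hμ2, Points.map_comp, ht'v]
    change Points.map ((yon S).map Gm) (Points.schemeHomeo Z' (a.left v)) = _
    rw [Points.map_yon_map_apply, ← haG]
    rfl
  · intro PV r₁ r₂ sqPV κ₁ κ₂ h1 h2 h3 h4 w hw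
    let θ : PV ⟶ PV0 := sqV.lift r₁ r₂ sqPV.w
    have hθ1 : θ ≫ s1 = r₁ := sqV.lift_fst _ _ _
    have hθ2 : θ ≫ s2 = r₂ := sqV.lift_snd _ _ _
    have hκ₁ : κ₁ = θ ≫ k1 := by
      apply hP.hom_ext
      · rw [h1, Category.assoc, hk11, hθ1]
      · rw [h2, Category.assoc, hk12, ← Category.assoc, hθ2]
    have hκ₂ : κ₂ = θ ≫ k2 := by
      apply sq'.hom_ext
      · rw [h3, Category.assoc, hk21, hθ1]
      · rw [h4, Category.assoc, hk22, ← Category.assoc, hθ2]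
    change Points.map μ (Points.map κ₂ w) ∈ closure _
    apply subset_closure
    refine ⟨Points.map θ w, ?_, ?_⟩
    · change Points.map k1 (Points.map θ w) ∈ T
      rw [← Points.map_comp, ← hκ₁]; exact hw
    · rw [hκ₂, Points.map_comp, Points.map_comp]

end Groth.Agent.Lib.helper5.UCAff
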