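import Groth.Agent.Lib.Helper5.AlgSpThk3
import Groth.Agent.Lib.Helper7.UnivThick10
import Groth.Agent.S10630
import Groth.Agent.S10638

/-!
# Existence of universal first order thickenings of algebraic spaces, part 1 (helper5)

* `isFOThickMor_yon_map`: a first order thickening of schemes over `S` is a first order thickening
  of sheaves (no affineness).
* `isUnivFOThick_of_isUnivThickening`: a universal first order thickening of schemes is a universal
  first order thickening of algebraic spaces.
* `exists_univ_of_chart`: for a formally unramified morphism of schemes `ψ : V₀ ⟶ U₀` over `S` and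
  an étale map `w : h_{U₀} ⟶ X` to an algebraic space, `V₀` has a universal first order thickening
  over `X`.
-/

set_option autoImplicit false
universe u

open CategoryTheory CategoryTheory.Limits AlgebraicGeometry Opposite

namespace Groth.Agent.Lib.helper5.UnivThkEx

open AlgSp Groth.Agent.Lib.helper5

variable {S : Scheme.{u}}

/-- a first order thickening of schemes over `S` is a first order thickening of sheaves -/
theorem isFOThickMor_yon_map {W W' : Over S} (t : W ⟶ W')
    (ht : MoreMor.IsFirstOrderThickening t.left) : IsFOThickMor ((yon S).map t) := by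
  refine ⟨(isThickMor_yon_map_iff t).2 ht.1, ?_⟩
  intro V W₂ b fst snd hV hb sq
  obtain ⟨β, rfl⟩ := (yon S).map_surjective b
  obtain ⟨fst', rfl⟩ := (yon S).map_surjective fst
  have sq' : IsPullback fst'.left snd.left t.left β.left :=
    Groth.Agent.Lib.helper7.AlgSpChartSq.isPullback_left_of_yon sq
  exact (Groth.Agent.Lib.helper7.UnivThick.thickening_of_isPullback t.left snd.left β.left
    fst'.left sq'.flip ht).2

/-- a universal first order thickening of schemes over `S` is a universal first order thickening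
of algebraic spaces -/
theorem isUnivFOThick_of_isUnivThickening {V₀ U₀ V₀' : Over S} (ψ : V₀ ⟶ U₀) (iV : V₀ ⟶ V₀')
    (hV' : V₀' ⟶ U₀) (hu : OmegaSh.IsUnivThickening ψ.left iV.left hV'.left) :
    IsUnivFOThick ((yon S).map ψ) ((yon S).map iV) ((yon S).map hV') := by
  have hi : IsFOThickMor ((yon S).map iV) := isFOThickMor_yon_map iV hu.1
  have w : iV ≫ hV' = ψ := by
    ext
    exact hu.2.1
  refine (Groth.Agent.S10630.result (Z := ⟨_, IsAlgSpace.yon_obj V₀⟩)
    (Z' := ⟨_, IsAlgSpace.yon_obj V₀'⟩) (X := ⟨_, IsAlgSpace.yon_obj U₀⟩)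
    (ObjectProperty.homMk ((yon S).map ψ)) (ObjectProperty.homMk ((yon S).map iV))
    (ObjectProperty.homMk ((yon S).map hV')) hi (by
      ext : 1
      show (yon S).map iV ≫ (yon S).map hV' = (yon S).map ψ
      rw [← Functor.map_comp, w])).2 ?_
  intro T T' j hT' hj a b hab
  obtain ⟨a₀, rfl⟩ := (yon S).map_surjective a
  obtain ⟨b₀, rfl⟩ := (yon S).map_surjective b
  have hj' := isFirstOrderThickening_of_isFOThickMor_yon_map hT' hj
  have hab₀ : j ≫ b₀ = a₀ ≫ ψ := (yon S).map_injective (by
    rw [Functor.map_comp, Functor.map_comp]; exact hab)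
  have hab' : j.left ≫ b₀.left = a₀.left ≫ ψ.left := by
    rw [← Over.comp_left, hab₀, Over.comp_left]
  obtain ⟨a', ⟨h1, h2⟩, huniq⟩ := hu.2.2 T.left T'.left j.left b₀.left a₀.left hj' hab'
  have hov : a' ≫ V₀'.hom = T'.hom := by
    rw [← Over.w hV', ← Category.assoc, h2, Over.w]
  refine ⟨(yon S).map (Over.homMk a' hov), ⟨?_, ?_⟩, ?_⟩
  · show (yon S).map j ≫ (yon S).map (Over.homMk a' hov) = (yon S).map a₀ ≫ (yon S).map iV
    rw [← Functor.map_comp, ← Functor.map_comp]
    congr 1
    ext
    exact h1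
  · show (yon S).map (Over.homMk a' hov) ≫ (yon S).map hV' = (yon S).map b₀
    rw [← Functor.map_comp]
    congr 1
    ext
    exact h2
  · rintro c ⟨hc1, hc2⟩
    obtain ⟨c₀, rfl⟩ := (yon S).map_surjective c
    congr 1
    ext
    refine huniq c₀.left ⟨?_, ?_⟩
    · have : j ≫ c₀ = a₀ ≫ iV := (yon S).map_injective (by
        rw [Functor.map_comp, Functor.map_comp]; exact hc1)
      rw [← Over.comp_left, this, Over.comp_left]
    · have : c₀ ≫ hV' = b₀ := (yon S).map_injective (by
        rw [Functor.map_comp]; exact hc2)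
      rw [← Over.comp_left, this]

/-- a formally unramified morphism of schemes `ψ : V₀ ⟶ U₀` over `S` followed by an étale map to an
algebraic space has a universal first order thickening -/
theorem exists_univ_of_chart {X : Sp S} (hX : IsAlgSpace X) {V₀ U₀ : Over S} (ψ : V₀ ⟶ U₀)
    (hψ : FormallyUnramified ψ.left) (w : (yon S).obj U₀ ⟶ X) (hw : RepWith @Etale w) :
    ∃ (V₀' : Over S) (iV : V₀ ⟶ V₀') (hV' : (yon S).obj V₀' ⟶ X),
      IsUnivFOThick ((yon S).map ψ ≫ w) ((yon S).map iV) hV' := by
  obtain ⟨T₀', i', h', hu⟩ := Groth.Agent.Lib.helper7.UnivThick.exists_isUnivThickening ψ.left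
  let V₀' : Over S := Over.mk (h' ≫ U₀.hom)
  let iV : V₀ ⟶ V₀' := Over.homMk i' (by
    show i' ≫ h' ≫ U₀.hom = V₀.hom
    rw [← Category.assoc, hu.2.1, Over.w])
  let hV' : V₀' ⟶ U₀ := Over.homMk h' rfl
  have H := isUnivFOThick_of_isUnivThickening ψ iV hV' hu
  refine ⟨V₀', iV, (yon S).map hV' ≫ w, ?_⟩
  exact Groth.Agent.S10638.univ_post (IsAlgSpace.yon_obj _) (IsAlgSpace.yon_obj _)
    (IsAlgSpace.yon_obj _) hX _ w _ _ H (isFormallyEtaleMor_of_repWith_etale hw)

end Groth.Agent.Lib.helper5.UnivThkEx
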