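import Groth.Agent.Lib.Helper5.UnivThkEx1
import Groth.Agent.Lib.Helper5.AlgSpEtaleMono
import Groth.Agent.Lib.Helper5.AlgSpEtFpqc
import Groth.Agent.S10210
import Groth.Agent.S10544
import Groth.Agent.S10605
import Groth.Agent.S10505

/-!
# Existence of universal first order thickenings of algebraic spaces, part 2 (helper5)

General lemmas:
* `IsUnivFOThick.exists_lift'`, `IsUnivFOThick.hom_ext'`: the two halves of the universal property.
* `isIso_of_thick_comp`: an étale morphism between two thickenings inside the same space is an iso.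
* `isFpqcCover_single`: a flat, locally finitely presented, surjective morphism is an fpqc covering.
* `isEtaleMor_of_single_cover`, `isThickMor_of_single_cover`, `isFOThickMor_of_single_cover`:
  descent of étaleness and (first order) thickenings along a single fpqc covering morphism.
-/

set_option autoImplicit false
universe u

open CategoryTheory CategoryTheory.Limits AlgebraicGeometry Opposite

namespace Groth.Agent.Lib.helper5.UnivThkEx

open AlgSp Groth.Agent.Lib.helper5

variable {S : Scheme.{u}}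

theorem IsUnivFOThick.exists_lift' {Z Z' X : Sp S} {h : Z ⟶ X} {i : Z ⟶ Z'} {h' : Z' ⟶ X}
    (H : IsUnivFOThick h i h') {T T' : Sp S} (hT : IsAlgSpace T) (hT' : IsAlgSpace T')
    {j : T ⟶ T'} (hj : IsFOThickMor j) (a : T ⟶ Z) (b : T' ⟶ X) (w : j ≫ b = a ≫ h) :
    ∃ a' : T' ⟶ Z', j ≫ a' = a ≫ i ∧ a' ≫ h' = b :=
  (H.2.2 hT hT' j a b hj w).exists

theorem IsUnivFOThick.hom_ext' {Z Z' X : Sp S} {h : Z ⟶ X} {i : Z ⟶ Z'} {h' : Z' ⟶ X}
    (H : IsUnivFOThick h i h') {T T' : Sp S} (hT : IsAlgSpace T) (hT' : IsAlgSpace T')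
    {j : T ⟶ T'} (hj : IsFOThickMor j) (a : T ⟶ Z) {a₁ a₂ : T' ⟶ Z'}
    (h1 : j ≫ a₁ = a ≫ i) (h2 : j ≫ a₂ = a ≫ i) (h3 : a₁ ≫ h' = a₂ ≫ h') : a₁ = a₂ := by
  have w : j ≫ (a₂ ≫ h') = a ≫ h := by
    rw [← Category.assoc, h2, Category.assoc, H.2.1]
  exact (H.2.2 hT hT' j a (a₂ ≫ h') hj w).unique ⟨h1, h3⟩ ⟨h2, rfl⟩

theorem mono_of_isThickMor {F G : Sp S} {f : F ⟶ G} (hf : IsThickMor f) : Mono f :=
  Groth.Agent.Lib.helper7.mono_of_repWith (fun _ _ g hg => by
    have : IsClosedImmersion g := hg.1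
    exact MorphismProperty.monomorphisms.infer_property g) hf

theorem surjective_of_isThickMor {F G : Sp S} {f : F ⟶ G} (hf : IsThickMor f) :
    Function.Surjective (Points.map f) :=
  surjective_map_of_repWith_surjective f
    (Groth.Agent.S10194.repWith_mono (fun _ _ g hg => hg.2) hf)

/-- Lemma C: an étale morphism `k : R ⟶ P` of algebraic spaces such that `p ≫ _` and `k ≫ p` are
thickenings is an isomorphism. -/
theorem isIso_of_thick_comp {R P R' : Sp S} (hR : IsAlgSpace R) (k : R ⟶ P) (p : P ⟶ R')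
    (hp : IsThickMor p) (hkp : IsThickMor (k ≫ p)) (hk : IsEtaleMor k) : IsIso k := by
  have hpm : Mono p := mono_of_isThickMor hp
  have hkpm : Mono (k ≫ p) := mono_of_isThickMor hkp
  have hkm : Mono k := mono_of_mono k p
  refine EtMono.isIso_of_etale_mono_surjective hR k hk ?_
  intro y
  obtain ⟨x, hx⟩ := surjective_of_isThickMor hkp (Points.map p y)
  refine ⟨x, FpqcIso.injective_map_of_mono p ?_⟩
  rw [← Points.map_comp]
  exact hx

/-- a flat, locally finitely presented, surjective morphism of algebraic spaces is an fpqc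
covering. -/
theorem isFpqcCover_single {Y Y' : Sp S} (hY : IsAlgSpace Y) (hY' : IsAlgSpace Y') (g : Y' ⟶ Y)
    (hfl : LocP @Flat g) (hlfp : LocP @LocallyOfFinitePresentation g)
    (hs : IsSurjectiveMor g) :
    IsFpqcCover (S := S) (ι := PUnit.{u + 1}) (fun _ => Y') (fun _ => g) :=
  Groth.Agent.S10505.result (S := S) ⟨Y, hY⟩ (ι := PUnit.{u + 1})
    (fun _ => ⟨Y', hY'⟩) (fun _ => ObjectProperty.homMk g)
    ⟨fun _ => ⟨hfl, hlfp⟩, fun x => ⟨PUnit.unit, hs x⟩⟩

theorem iff_of_single_fpqcCover {P : MorphismProperty (Sp S)}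
    (hP : IsLocalOnBase IsFpqcCover P) {X Y X' Y' : Sp S}
    (hX : IsAlgSpace X) (hY : IsAlgSpace Y) (hX' : IsAlgSpace X') (hY' : IsAlgSpace Y')
    {f : X ⟶ Y} {g : Y' ⟶ Y} {p : X' ⟶ Y'} {q : X' ⟶ X} (sq : IsPullback q p f g)
    (hg : IsFpqcCover (S := S) (ι := PUnit.{u + 1}) (fun _ => Y') (fun _ => g)) : P f ↔ P p := by
  have := hP (ι := PUnit.{u + 1}) (fun _ => Y') (fun _ => g) hY (fun _ => hY') hg f hX
    (fun _ => X') (fun _ => p) (fun _ => q) (fun _ => hX') (fun _ => sq)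
  exact this.trans ⟨fun h => h PUnit.unit, fun h _ => h⟩

/-- descent of first order thickenings along a single fpqc covering morphism -/
theorem isFOThickMor_of_single_cover {X Y X' Y' : Sp S}
    (hX : IsAlgSpace X) (hY : IsAlgSpace Y) (hX' : IsAlgSpace X') (hY' : IsAlgSpace Y')
    {f : X ⟶ Y} {g : Y' ⟶ Y} {p : X' ⟶ Y'} {q : X' ⟶ X} (sq : IsPullback q p f g)
    (hg : IsFpqcCover (S := S) (ι := PUnit.{u + 1}) (fun _ => Y') (fun _ => g))
    (hp : IsFOThickMor p) : IsFOThickMor f := by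
  have hthick : IsThickMor f :=
    (iff_of_single_fpqcCover Groth.Agent.S10605.result hX hY hX' hY' sq hg).2 hp.1
  refine ⟨hthick, ?_⟩
  intro B W b fst snd hB hb sqB
  obtain ⟨m, Wj, c, hWj, hcf, hcs, hl⟩ := hg.2 B hB b
  have hl' : ∀ j, ∃ l : (yon S).obj (Wj j) ⟶ Y', l ≫ g = (yon S).map (c j) ≫ b := by
    intro j
    obtain ⟨_, l, hl⟩ := hl j
    exact ⟨l, hl⟩
  choose l hl using hl'
  -- pullbacks of `f` along `h_{c j} ≫ b`
  have hPk : ∀ j, ∃ (Pk : Over S) (sk : Pk ⟶ Wj j) (gk : (yon S).obj Pk ⟶ X),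
      IsPullback gk ((yon S).map sk) f ((yon S).map (c j) ≫ b) :=
    fun j => hthick.rep ((yon S).map (c j) ≫ b)
  choose Pk sk gk sqP using hPk
  -- the maps `Pk ⟶ W`
  have hpk : ∀ j, ∃ pk : Pk j ⟶ W, pk ≫ snd = sk j ≫ c j := by
    intro j
    obtain ⟨p', -, hp2⟩ := sqB.exists_lift (gk j) ((yon S).map (sk j) ≫ (yon S).map (c j))
      (by rw [(sqP j).w, Category.assoc])
    obtain ⟨pk, rfl⟩ := (yon S).map_surjective p'
    refine ⟨pk, (yon S).map_injective ?_⟩
    rw [Functor.map_comp, Functor.map_comp, hp2]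
  choose pk hpk using hpk
  have : IsAffine B.left := hB
  refine sqZero_of_flat_cover snd.left (fun j => (Wj j).left) (fun j => (Pk j).left) hWj
    (fun j => (c j).left) hcf hcs (fun j => (pk j).left) (fun j => (sk j).left) ?_ ?_
  · intro j
    have := congrArg (fun m => m.left) (hpk j)
    simpa using this
  · intro j
    -- `Pk j` is the pullback of `p` along `l j`
    have sqP' : IsPullback (gk j) ((yon S).map (sk j)) f (l j ≫ g) := by
      rw [hl j]; exact sqP j
    obtain ⟨r, hr1, hr2⟩ := sq.exists_lift (gk j) ((yon S).map (sk j) ≫ l j)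
      (by rw [sqP'.w, Category.assoc])
    have big : IsPullback (r ≫ q) ((yon S).map (sk j)) f (l j ≫ g) := by
      rw [hr1]; exact sqP'
    have sqr : IsPullback r ((yon S).map (sk j)) p (l j) := IsPullback.of_right big hr2 sq
    exact sqZero_of_isPullback_of_isFOThickMor hp hY' (l j) r (sk j) (hWj j) sqr

end Groth.Agent.Lib.helper5.UnivThkEx
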