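import Groth.Agent.Lib.Helper5.UnivThkEx2
import Groth.Agent.S10627

/-!
# Existence of universal first order thickenings of algebraic spaces, part 3 (helper5)

Setting: `h : Z ⟶ X` formally unramified, `v : V ⟶ Z` étale, `R = V ×_Z V`, universal first order
thickenings `V ⊂ V'` and `R ⊂ R'` over `X`.  We construct the maps `R' ⟶ V'` induced by the
projections, show that they are étale and that the squares `R = V ×_{V'} R'` are cartesian.
-/

set_option autoImplicit false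
universe u

open CategoryTheory CategoryTheory.Limits AlgebraicGeometry Opposite

namespace Groth.Agent.Lib.helper5.UnivThkEx

open AlgSp Groth.Agent.Lib.helper5

variable {S : Scheme.{u}}

theorem isFormallyUnramifiedMor_comp_of_isEtaleMor {V Z X : Sp S} (hVa : IsAlgSpace V)
    {v : V ⟶ Z} (hv : IsEtaleMor v) {h : Z ⟶ X} (hh : IsFormallyUnramifiedMor h) :
    IsFormallyUnramifiedMor (v ≫ h) := by
  have hve := Groth.Agent.S10627.isFormallyEtaleMor_of_isEtaleMor hVa v hv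
  have hvu := ((isFormallyEtaleMor_iff v).1 hve).2
  rw [isFormallyUnramifiedMor_iff] at hh hvu ⊢
  exact fun D => (hvu D).comp (hh D)

section Q

variable {Z X V R V' R' : Sp S}
  {h : Z ⟶ X} {v : V ⟶ Z} {s : R ⟶ V}
  {iV : V ⟶ V'} {hV' : V' ⟶ X} {iR : R ⟶ R'} {hR' : R' ⟶ X}

/-- the map `R' ⟶ V'` induced by a map `x : R ⟶ V` over `Z` -/
theorem exists_thick_map (hRa : IsAlgSpace R) (hR'a : IsAlgSpace R')
    (HV : IsUnivFOThick (v ≫ h) iV hV') (HR : IsUnivFOThick (s ≫ v ≫ h) iR hR')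
    (x : R ⟶ V) (hx : x ≫ v = s ≫ v) :
    ∃ x' : R' ⟶ V', iR ≫ x' = x ≫ iV ∧ x' ≫ hV' = hR' := by
  refine IsUnivFOThick.exists_lift' HV hRa hR'a HR.1 x hR' ?_
  rw [HR.2.1, ← Category.assoc, ← hx, Category.assoc]

/-- the induced maps `R' ⟶ V'` are étale -/
theorem isEtaleMor_thick_map (hXa : IsAlgSpace X) (hVa : IsAlgSpace V) (hRa : IsAlgSpace R)
    (hV'a : IsAlgSpace V') (hR'a : IsAlgSpace R')
    (hvh : IsFormallyUnramifiedMor (v ≫ h))
    (HV : IsUnivFOThick (v ≫ h) iV hV') (HR : IsUnivFOThick (s ≫ v ≫ h) iR hR')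
    (x : R ⟶ V) (hxe : IsEtaleMor x) (hx : x ≫ v = s ≫ v)
    (x' : R' ⟶ V') (hx1 : iR ≫ x' = x ≫ iV) (hx2 : x' ≫ hV' = hR') : IsEtaleMor x' := by
  refine (Groth.Agent.S10638.result (Z := ⟨V, hVa⟩) (X := ⟨X, hXa⟩) (Z' := ⟨V', hV'a⟩)
    (V := ⟨R, hRa⟩) (U := ⟨X, hXa⟩) (V' := ⟨R', hR'a⟩)
    (ObjectProperty.homMk (v ≫ h)) hvh (ObjectProperty.homMk iV) (ObjectProperty.homMk hV') HV
    (ObjectProperty.homMk x) (𝟙 _) hxe (SmLocal.isEtaleMor_id X)
    (ObjectProperty.homMk (s ≫ v ≫ h)) ?_).2 (ObjectProperty.homMk iR) (ObjectProperty.homMk hR')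
    HR (ObjectProperty.homMk x') ?_ ?_
  · ext : 1
    show (s ≫ v ≫ h) ≫ 𝟙 X = x ≫ v ≫ h
    rw [Category.comp_id, ← Category.assoc, ← hx, Category.assoc]
  · ext : 1
    exact hx1
  · ext : 1
    show x' ≫ hV' = hR' ≫ 𝟙 X
    rw [Category.comp_id, hx2]

/-- the squares `R = V ×_{V'} R'` are cartesian -/
theorem isPullback_thick_map (hVa : IsAlgSpace V) (hRa : IsAlgSpace R)
    (hV'a : IsAlgSpace V') (hR'a : IsAlgSpace R')
    (hiV : IsFOThickMor iV) (hiR : IsFOThickMor iR)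
    (x : R ⟶ V) (hxe : IsEtaleMor x)
    (x' : R' ⟶ V') (hx'e : IsEtaleMor x') (hx1 : iR ≫ x' = x ≫ iV) :
    IsPullback x iR iV x' := by
  have sqP : IsPullback (pullback.fst iV x') (pullback.snd iV x') iV x' :=
    IsPullback.of_hasPullback iV x'
  have hPa : IsAlgSpace (pullback iV x') := isAlgSpace_of_isPullback hV'a.diag hVa hR'a sqP
  let k : R ⟶ pullback iV x' := pullback.lift x iR hx1.symm
  have hk1 : k ≫ pullback.fst iV x' = x := pullback.lift_fst _ _ _
  have hk2 : k ≫ pullback.snd iV x' = iR := pullback.lift_snd _ _ _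
  have hp1 : IsEtaleMor (pullback.fst iV x') :=
    SmLocal.isEtaleMor_of_isPullback hR'a hV'a hVa sqP.flip hx'e
  have hke : IsEtaleMor k :=
    Groth.Agent.S10210.result (X := ⟨R, hRa⟩) (Y := ⟨pullback iV x', hPa⟩) (Z := ⟨V, hVa⟩)
      (ObjectProperty.homMk k) (ObjectProperty.homMk (pullback.fst iV x')) (ObjectProperty.homMk x)
      (by ext : 1; exact hk1) hxe hp1
  have hp2 : IsThickMor (pullback.snd iV x') :=
    (repWith_isStableUnderBaseChange (S := S) thick).of_isPullback sqP hiV.1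
  have hiso : IsIso k := isIso_of_thick_comp hRa k (pullback.snd iV x') hp2 (by rw [hk2]; exact hiR.1) hke
  exact IsPullback.of_iso sqP (asIso k).symm (Iso.refl _) (Iso.refl _) (Iso.refl _)
    (by simp [hk1]) (by simp [hk2]) (by simp) (by simp)

end Q

end Groth.Agent.Lib.helper5.UnivThkEx
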