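import Groth.Agent.Lib.Helper5.UnivThkEx3
import Groth.Agent.S10102

/-!
# Existence of universal first order thickenings of algebraic spaces, part 4 (helper5)

In the setting of part 3, the induced maps `s', t' : R' ⟶ V'` form an equivalence relation.
-/

set_option autoImplicit false
universe u

open CategoryTheory CategoryTheory.Limits AlgebraicGeometry Opposite

namespace Groth.Agent.Lib.helper5.UnivThkEx

open AlgSp Groth.Agent.Lib.helper5

variable {S : Scheme.{u}}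

section Q

variable {Z X V R V' R' : Sp S}
  {h : Z ⟶ X} {v : V ⟶ Z} {s t : R ⟶ V}
  {iV : V ⟶ V'} {hV' : V' ⟶ X} {iR : R ⟶ R'} {hR' : R' ⟶ X}

/-- E1: extending a point of `R` on the thickening to a point of `R'` -/
theorem exists_point_ext (hV'a : IsAlgSpace V')
    (HV : IsUnivFOThick (v ≫ h) iV hV') (HR : IsUnivFOThick (s ≫ v ≫ h) iR hR')
    {x : R ⟶ V} (hx : x ≫ v = s ≫ v) {x' : R' ⟶ V'} (hx1 : iR ≫ x' = x ≫ iV)
    (hx2 : x' ≫ hV' = hR')
    {T T₀ : Over S} {j : T₀ ⟶ T} {a₀ : (yon S).obj T₀ ⟶ V} {α : (yon S).obj T ⟶ V'}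
    (sqα : IsPullback a₀ ((yon S).map j) iV α) (ρ₀ : (yon S).obj T₀ ⟶ R) (hρ₀ : ρ₀ ≫ x = a₀) :
    ∃ ρ : (yon S).obj T ⟶ R', (yon S).map j ≫ ρ = ρ₀ ≫ iR ∧ ρ ≫ x' = α ∧
      ρ ≫ hR' = α ≫ hV' := by
  have hj : IsFOThickMor ((yon S).map j) := isFOThickMor_of_isPullback_any HV.1 hV'a sqα
  have w : (yon S).map j ≫ α ≫ hV' = ρ₀ ≫ s ≫ v ≫ h := by
    rw [← Category.assoc, ← sqα.w, Category.assoc, HV.2.1, ← hρ₀, Category.assoc,
      ← Category.assoc x, hx, Category.assoc]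
  obtain ⟨ρ, hρ1, hρ2⟩ := IsUnivFOThick.exists_lift' HR (IsAlgSpace.yon_obj T₀)
    (IsAlgSpace.yon_obj T) hj ρ₀ (α ≫ hV') w
  refine ⟨ρ, hρ1, ?_, hρ2⟩
  refine IsUnivFOThick.hom_ext' HV (IsAlgSpace.yon_obj T₀) (IsAlgSpace.yon_obj T) hj a₀ ?_
    sqα.w.symm ?_
  · rw [← Category.assoc, hρ1, Category.assoc, hx1, ← Category.assoc, hρ₀]
  · rw [Category.assoc, hx2, hρ2]

/-- E2: restricting a point of `R'` to the thickening -/
theorem exists_point_res {x : R ⟶ V} {x' : R' ⟶ V'} (sqx : IsPullback x iR iV x')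
    {T T₀ : Over S} {j : T₀ ⟶ T} {a₀ : (yon S).obj T₀ ⟶ V} (ρ : (yon S).obj T ⟶ R')
    {α : (yon S).obj T ⟶ V'} (hα : ρ ≫ x' = α)
    (sqα : IsPullback a₀ ((yon S).map j) iV α) :
    ∃ ρ₀ : (yon S).obj T₀ ⟶ R, ρ₀ ≫ x = a₀ ∧ IsPullback ρ₀ ((yon S).map j) iR ρ := by
  subst hα
  obtain ⟨ρ₀, h1, h2⟩ := sqx.exists_lift a₀ ((yon S).map j ≫ ρ)
    (by rw [sqα.w, Category.assoc])
  refine ⟨ρ₀, h1, ?_⟩
  have big : IsPullback (ρ₀ ≫ x) ((yon S).map j) iV (ρ ≫ x') := by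
    rw [h1]; exact sqα
  exact IsPullback.of_right big h2 sqx

variable {s' t' : R' ⟶ V'}

theorem isEqvRelSp_thick (hVa : IsAlgSpace V) (hRa : IsAlgSpace R) (hV'a : IsAlgSpace V')
    (hR'a : IsAlgSpace R') (sq : IsPullback s t v v)
    (HV : IsUnivFOThick (v ≫ h) iV hV') (HR : IsUnivFOThick (s ≫ v ≫ h) iR hR')
    (hs1 : iR ≫ s' = s ≫ iV) (hs2 : s' ≫ hV' = hR')
    (ht1 : iR ≫ t' = t ≫ iV) (ht2 : t' ≫ hV' = hR')
    (sqs : IsPullback s iR iV s') (sqt : IsPullback t iR iV t') : IsEqvRelSp s' t' := by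
  have hiVm : Mono iV := mono_of_isThickMor HV.1.1
  refine ⟨?_, ?_⟩
  · -- injectivity
    intro T ρ ρ' h1 h2
    obtain ⟨T₀, j, a₀, sqα⟩ := HV.1.1.rep (ρ ≫ s')
    have hj : IsFOThickMor ((yon S).map j) := isFOThickMor_of_isPullback_any HV.1 hV'a sqα
    obtain ⟨ρ₀, e1, sq₁⟩ := exists_point_res sqs ρ rfl sqα
    obtain ⟨ρ₀', e1', sq₂⟩ := exists_point_res sqs ρ' h2.symm sqα
    have e2 : ρ₀ ≫ t = ρ₀' ≫ t := by
      rw [← cancel_mono iV, Category.assoc, Category.assoc, ← ht1, ← Category.assoc,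
        ← Category.assoc, sq₁.w, sq₂.w, Category.assoc, Category.assoc, h1]
    have e3 : ρ₀ = ρ₀' := sq.hom_ext (e1.trans e1'.symm) e2
    refine IsUnivFOThick.hom_ext' HR (IsAlgSpace.yon_obj T₀) (IsAlgSpace.yon_obj T) hj ρ₀
      sq₁.w.symm (by rw [e3]; exact sq₂.w.symm) ?_
    rw [← hs2, ← Category.assoc, ← Category.assoc, h2]
  · intro T
    refine ⟨?_, ?_, ?_⟩
    · -- reflexivity
      intro a
      obtain ⟨e, he1, he2⟩ := sq.exists_lift (𝟙 V) (𝟙 V) rfl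
      obtain ⟨e', he'1, he'2⟩ := IsUnivFOThick.exists_lift' HR hVa hV'a HV.1 e hV' (by
        rw [HV.2.1, ← Category.assoc e, he1, Category.id_comp])
      have es : e' ≫ s' = 𝟙 V' := by
        refine IsUnivFOThick.hom_ext' HV hVa hV'a HV.1 (𝟙 V) ?_ (by simp) ?_
        · rw [← Category.assoc, he'1, Category.assoc, hs1, ← Category.assoc, he1]
        · rw [Category.assoc, hs2, he'2, Category.id_comp]
      have et : e' ≫ t' = 𝟙 V' := by
        refine IsUnivFOThick.hom_ext' HV hVa hV'a HV.1 (𝟙 V) ?_ (by simp) ?_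
        · rw [← Category.assoc, he'1, Category.assoc, ht1, ← Category.assoc, he2]
        · rw [Category.assoc, ht2, he'2, Category.id_comp]
      exact ⟨a ≫ e', by rw [Category.assoc, et, Category.comp_id],
        by rw [Category.assoc, es, Category.comp_id]⟩
    · -- symmetry
      rintro a b ⟨r, hr1, hr2⟩
      obtain ⟨inv, hinv1, hinv2⟩ := sq.exists_lift t s sq.w.symm
      obtain ⟨inv', hi1, hi2⟩ := IsUnivFOThick.exists_lift' HR hRa hR'a HR.1 inv hR' (by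
        rw [HR.2.1, ← Category.assoc inv, hinv1, ← Category.assoc, sq.w, Category.assoc])
      have is : inv' ≫ s' = t' := by
        refine IsUnivFOThick.hom_ext' HV hRa hR'a HR.1 t ?_ ht1 ?_
        · rw [← Category.assoc, hi1, Category.assoc, hs1, ← Category.assoc, hinv1]
        · rw [Category.assoc, hs2, hi2, ht2]
      have it : inv' ≫ t' = s' := by
        refine IsUnivFOThick.hom_ext' HV hRa hR'a HR.1 s ?_ hs1 ?_
        · rw [← Category.assoc, hi1, Category.assoc, ht1, ← Category.assoc, hinv2]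
        · rw [Category.assoc, ht2, hi2, hs2]
      exact ⟨r ≫ inv', by rw [Category.assoc, it, hr2], by rw [Category.assoc, is, hr1]⟩
    · -- transitivity
      rintro a b c ⟨r₁, hr1, hr2⟩ ⟨r₂, hr3, hr4⟩
      obtain ⟨T₀, j, a₀, sqa⟩ := HV.1.1.rep a
      have hj : IsFOThickMor ((yon S).map j) := isFOThickMor_of_isPullback_any HV.1 hV'a sqa
      obtain ⟨ρ₁, e1, sq₁⟩ := exists_point_res sqt r₁ hr1 sqa
      have sqb : IsPullback (ρ₁ ≫ s) ((yon S).map j) iV b := by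
        have := sq₁.paste_horiz sqs
        rwa [hr2] at this
      obtain ⟨ρ₂, e2, sq₂⟩ := exists_point_res sqt r₂ hr3 sqb
      have sqc : IsPullback (ρ₂ ≫ s) ((yon S).map j) iV c := by
        have := sq₂.paste_horiz sqs
        rwa [hr4] at this
      obtain ⟨ρ₃₀, e3, e4⟩ := sq.exists_lift (ρ₂ ≫ s) (ρ₁ ≫ t) (by
        rw [Category.assoc, sq.w, ← Category.assoc, e2, Category.assoc, sq.w, Category.assoc])
      obtain ⟨ρ₃, f1, f2, f3⟩ := exists_point_ext hV'a HV HR sq.w.symm ht1 ht2 sqa ρ₃₀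
        (by rw [e4, e1])
      refine ⟨ρ₃, f2, ?_⟩
      refine IsUnivFOThick.hom_ext' HV (IsAlgSpace.yon_obj T₀) (IsAlgSpace.yon_obj T) hj (ρ₂ ≫ s)
        ?_ sqc.w.symm ?_
      · rw [← Category.assoc, f1, Category.assoc, hs1, ← Category.assoc, e3]
      · rw [Category.assoc, hs2, f3, ← hr4, Category.assoc, hs2, ← ht2, ← Category.assoc, hr3,
          ← hr2, Category.assoc, hs2, ← ht2, ← Category.assoc, hr1]

end Q

end Groth.Agent.Lib.helper5.UnivThkEx
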