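import Groth.Agent.Lib.Helper5.UnivThkEx4
import Groth.Agent.Lib.Helper5.AlgSpAffDesc
import Groth.Agent.Lib.Helper5.FppfBoot2
import Groth.Agent.Lib.Helper5.AlgSpEpi
import Groth.Agent.S10107
import Groth.Agent.S10633

/-!
# Existence of universal first order thickenings of algebraic spaces, part 5 (helper5)

`exists_univ_of_presentation`: if `h : Z ⟶ X` is formally unramified, `v : V ⟶ Z` is étale
surjective with kernel pair `R`, and `V`, `R` have universal first order thickenings over `X`,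
then `Z` has a universal first order thickening over `X` (the quotient `V'/R'`).
-/

set_option autoImplicit false
universe u

open CategoryTheory CategoryTheory.Limits AlgebraicGeometry Opposite

namespace Groth.Agent.Lib.helper5.UnivThkEx

open AlgSp Groth.Agent.Lib.helper5

variable {S : Scheme.{u}}

section Q

variable {Z X V R V' R' : Sp S}
  {h : Z ⟶ X} {v : V ⟶ Z} {s t : R ⟶ V}
  {iV : V ⟶ V'} {hV' : V' ⟶ X} {iR : R ⟶ R'} {hR' : R' ⟶ X}

theorem locP_flat_lfp_of_isEtaleMor {F G : Sp S} (f : F ⟶ G) (hf : IsEtaleMor f) :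
    LocP @Flat f ∧ LocP @LocallyOfFinitePresentation f := by
  have h2 : LocP @Etale f := Groth.Agent.S10265.locP_etale_of_isEtaleMor f hf
  exact ⟨Groth.Agent.S10265.locP_mono (fun X Y g hg => by
      have : Etale g := hg
      exact inferInstanceAs (Flat g)) h2,
    Groth.Agent.S10265.locP_mono (fun X Y g hg => by
      have : Etale g := hg
      exact inferInstanceAs (LocallyOfFinitePresentation g)) h2⟩

/-- the square `V = Z ×_{Z'} V'` is cartesian -/
theorem isPullback_quot {Z' : Sp S} {s' t' : R' ⟶ V'} {π' : V' ⟶ Z'} {i : Z ⟶ Z'}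
    [Epi v] (hiVm : Mono iV)
    (sq : IsPullback s t v v) (hs1 : iR ≫ s' = s ≫ iV)
    (sqt : IsPullback t iR iV t') (hpb : IsPullback t' s' π' π') (hi : v ≫ i = iV ≫ π') :
    IsPullback v iV i π' := by
  have sqQ : IsPullback (pullback.fst i π') (pullback.snd i π') i π' :=
    IsPullback.of_hasPullback i π'
  let m : V ⟶ pullback i π' := pullback.lift v iV hi
  have hm1 : m ≫ pullback.fst i π' = v := pullback.lift_fst _ _ _
  have hm2 : m ≫ pullback.snd i π' = iV := pullback.lift_snd _ _ _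
  have hmm : Mono m := by
    have : Mono (m ≫ pullback.snd i π') := by rw [hm2]; exact hiVm
    exact mono_of_mono m (pullback.snd i π')
  have hvls : Sheaf.IsLocallySurjective v := (Sheaf.isLocallySurjective_iff_epi v).2 inferInstance
  have hiso : IsIso m := by
    refine Epi.isIso_of_mono_of_liftSieve m (fun T η => ?_)
    refine (AlgSp.J S).superset_covering ?_
      ((Epi.isLocallySurjective_iff v).1 hvls T (η ≫ pullback.fst i π'))
    rintro T' τ ⟨β, hβ⟩
    have hcond : (β ≫ iV) ≫ π' = ((yon S).map τ ≫ η ≫ pullback.snd i π') ≫ π' := by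
      rw [Category.assoc, ← hi, ← Category.assoc, hβ, Category.assoc, Category.assoc,
        Category.assoc, Category.assoc, pullback.condition]
    obtain ⟨ρ, hρ1, hρ2⟩ := hpb.exists_lift (β ≫ iV) ((yon S).map τ ≫ η ≫ pullback.snd i π') hcond
    obtain ⟨ρ₀, hρ₀1, hρ₀2⟩ := sqt.exists_lift β ρ hρ1.symm
    refine ⟨ρ₀ ≫ s, ?_⟩
    apply pullback.hom_ext
    · rw [Category.assoc, hm1, Category.assoc, sq.w, ← Category.assoc, hρ₀1, hβ, Category.assoc]
    · rw [Category.assoc, hm2, Category.assoc, ← hs1, ← Category.assoc, hρ₀2, hρ2, Category.assoc]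
  exact IsPullback.of_iso sqQ (asIso m).symm (Iso.refl _) (Iso.refl _) (Iso.refl _)
    (by simp [hm1]) (by simp [hm2]) (by simp) (by simp)

theorem exists_univ_of_presentation (hZa : IsAlgSpace Z) (hXa : IsAlgSpace X)
    (hVa : IsAlgSpace V) (hRa : IsAlgSpace R) (hV'a : IsAlgSpace V') (hR'a : IsAlgSpace R')
    (hh : IsFormallyUnramifiedMor h) (hv : IsEtaleMor v) (hvs : IsSurjectiveMor v)
    (sq : IsPullback s t v v)
    (HV : IsUnivFOThick (v ≫ h) iV hV') (HR : IsUnivFOThick (s ≫ v ≫ h) iR hR') :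
    ∃ (Z' : Sp S) (_ : IsAlgSpace Z') (i : Z ⟶ Z') (h' : Z' ⟶ X), IsUnivFOThick h i h' := by
  have hvh : IsFormallyUnramifiedMor (v ≫ h) := isFormallyUnramifiedMor_comp_of_isEtaleMor hVa hv hh
  have hte : IsEtaleMor t := SmLocal.isEtaleMor_of_isPullback hVa hZa hVa sq hv
  have hse : IsEtaleMor s := SmLocal.isEtaleMor_of_isPullback hVa hZa hVa sq.flip hv
  obtain ⟨s', hs1, hs2⟩ := exists_thick_map hRa hR'a HV HR s rfl
  obtain ⟨t', ht1, ht2⟩ := exists_thick_map hRa hR'a HV HR t sq.w.symm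
  have hs'e : IsEtaleMor s' :=
    isEtaleMor_thick_map hXa hVa hRa hV'a hR'a hvh HV HR s hse rfl s' hs1 hs2
  have ht'e : IsEtaleMor t' :=
    isEtaleMor_thick_map hXa hVa hRa hV'a hR'a hvh HV HR t hte sq.w.symm t' ht1 ht2
  have sqs : IsPullback s iR iV s' :=
    isPullback_thick_map hVa hRa hV'a hR'a HV.1 HR.1 s hse s' hs'e hs1
  have sqt : IsPullback t iR iV t' :=
    isPullback_thick_map hVa hRa hV'a hR'a HV.1 HR.1 t hte t' ht'e ht1
  have hj : IsEqvRelSp s' t' :=
    isEqvRelSp_thick hVa hRa hV'a hR'a sq HV HR hs1 hs2 ht1 ht2 sqs sqt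
  have hZ' : IsAlgSpace (quotSp s' t') :=
    Groth.Agent.S10102.result S R' V' hR'a hV'a s' t' hj (locP_flat_lfp_of_isEtaleMor s' hs'e)
      (locP_flat_lfp_of_isEtaleMor t' ht'e)
  obtain ⟨hπs, hπfl, hπlfp⟩ := Groth.Agent.S10107.result S R' V' hR'a hV'a s' t' hj
    (locP_flat_lfp_of_isEtaleMor s' hs'e) (locP_flat_lfp_of_isEtaleMor t' ht'e) hZ'
  have hcov := isFpqcCover_single hZ' hV'a (quotSpπ s' t') hπfl hπlfp hπs
  have hpb : IsPullback t' s' (quotSpπ s' t') (quotSpπ s' t') := FppfBoot.isPullback_quotSpπ s' t' hj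
  have hπe : IsEtaleMor (quotSpπ s' t') :=
    (iff_of_single_fpqcCover (Groth.Agent.S10544.result S) hV'a hZ' hR'a hV'a hpb hcov).2 hs'e
  haveI hvepi : Epi v := EtMono.epi_of_etale_surjective hVa v hv hvs
  obtain ⟨i, hi⟩ := AffDesc.exists_desc_of_epi v sq (iV ≫ quotSpπ s' t') (by
    rw [← Category.assoc, ← hs1, Category.assoc, quotSp_condition, ← Category.assoc, ht1,
      Category.assoc])
  let h' : quotSp s' t' ⟶ X := quotSpDesc hV' (by rw [hs2, ht2])
  have hπh' : quotSpπ s' t' ≫ h' = hV' := quotSpπ_desc s' t' hV' _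
  have hih' : i ≫ h' = h := by
    rw [← cancel_epi v, ← Category.assoc, hi, Category.assoc, hπh', HV.2.1]
  have sqZ : IsPullback v iV i (quotSpπ s' t') :=
    isPullback_quot (mono_of_isThickMor HV.1.1) sq hs1 sqt hpb hi
  have hiFO : IsFOThickMor i := isFOThickMor_of_single_cover hZa hZ' hVa hV'a sqZ hcov HV.1
  refine ⟨quotSp s' t', hZ', i, h', ?_⟩
  refine Groth.Agent.S10633.result (Z := ⟨V, hVa⟩) (Y := ⟨Z, hZa⟩) (Z' := ⟨V', hV'a⟩)
    (Y' := ⟨quotSp s' t', hZ'⟩) (X := ⟨X, hXa⟩) (ObjectProperty.homMk v) hv hvs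
    (ObjectProperty.homMk h) (ObjectProperty.homMk iV) (ObjectProperty.homMk i) HV.1 hiFO
    (ObjectProperty.homMk (quotSpπ s' t')) hπe (by ext : 1; exact hi.symm)
    (ObjectProperty.homMk h') (by ext : 1; exact hih') ?_
  show IsUnivFOThick (v ≫ h) iV (quotSpπ s' t' ≫ h')
  rw [hπh']
  exact HV

end Q

end Groth.Agent.Lib.helper5.UnivThkEx
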