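import Mathlib

/-!
# Noetherian descent of formal unramifiedness (helper5)

* `exists_fg_forall_tmul_D_eq_zero`, `exists_fg_formallyUnramified`: if `A` is a finite type
  `K`-algebra and `R ⊗[K] A` is formally unramified over the `K`-algebra `R`, then
  `B ⊗[K] A` is formally unramified over `B` for some finitely generated `K`-subalgebra `B ⊆ R`.
* `exists_gUnramified_int_model` (S12085).
-/

set_option autoImplicit false
universe u

namespace Groth.Agent.Lib.helper5.UnramDescent

open TensorProduct KaehlerDifferential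

attribute [local instance] Algebra.TensorProduct.rightAlgebra

variable (K : Type*) [CommRing K] (R : Type*) [CommRing R] [Algebra K R]
  (A : Type*) [CommRing A] [Algebra K A]

/-- The element `1 ⊗ d a` of `B ⊗[K] Ω[A⁄K]`. -/
noncomputable abbrev oneD (B : Subalgebra K R) (a : A) : B ⊗[K] Ω[A⁄K] :=
  (1 : B) ⊗ₜ[K] (D K A a)

theorem oneD_eq_zero_top [Algebra.FormallyUnramified R (R ⊗[K] A)] (a : A) :
    (1 : R) ⊗ₜ[K] (D K A a) = (0 : R ⊗[K] Ω[A⁄K]) := by
  apply (tensorKaehlerEquivBase K R A (R ⊗[K] A)).injective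
  exact Subsingleton.elim _ _

theorem exists_fg_forall_tmul_D_eq_zero [Algebra.FormallyUnramified R (R ⊗[K] A)]
    (s : Finset A) :
    ∃ B : Subalgebra K R, B.FG ∧ ∀ a ∈ s, oneD K R A B a = 0 := by
  classical
  induction s using Finset.induction_on with
  | empty => exact ⟨⊥, Subalgebra.fg_bot, by simp⟩
  | insert a s _ ih =>
    obtain ⟨B, hB, h⟩ := ih
    have h0 : LinearMap.rTensor Ω[A⁄K] B.val.toLinearMap (oneD K R A B a) =
        LinearMap.rTensor Ω[A⁄K] B.val.toLinearMap 0 := by
      simp only [oneD, LinearMap.rTensor_tmul, map_zero]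
      exact oneD_eq_zero_top K R A a
    obtain ⟨B', hBB', hB', h'⟩ := TensorProduct.Algebra.eq_of_fg_of_subtype_eq hB h0
    refine ⟨B', hB', fun b hb => ?_⟩
    rw [Finset.mem_insert] at hb
    rcases hb with rfl | hb
    · simpa [oneD] using h'
    · have := congrArg (LinearMap.rTensor Ω[A⁄K] (Subalgebra.inclusion hBB').toLinearMap) (h b hb)
      simpa [oneD] using this

theorem formallyUnramified_of_forall_tmul_D_eq_zero (B : Subalgebra K R) (s : Set A)
    (hs : Algebra.adjoin K s = ⊤) (h : ∀ a ∈ s, oneD K R A B a = 0) :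
    Algebra.FormallyUnramified B (B ⊗[K] A) := by
  constructor
  -- the derivation `A → Ω[(B ⊗ A)⁄B]`
  let T := B ⊗[K] A
  let d : Derivation K A Ω[T⁄B] :=
    ((D B T).restrictScalars K).compAlgebraMap A
  have hd : ∀ a, d a = D B T ((1 : B) ⊗ₜ[K] a) := fun a => rfl
  have hd0 : ∀ a ∈ s, d a = 0 := by
    intro a ha
    have := congrArg (tensorKaehlerEquivBase K B A T) (h a ha)
    rw [hd]
    have e : algebraMap A T a = (1 : B) ⊗ₜ[K] a := rfl
    simpa [oneD, e] using this
  have hd' : d = 0 := by
    apply Derivation.ext_of_adjoin_eq_top s hs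
    intro a ha
    simpa using hd0 a ha
  have hD : ∀ t : T, D B T t = 0 := by
    intro t
    induction t using TensorProduct.induction_on with
    | zero => simp
    | add x y hx hy => rw [map_add, hx, hy, add_zero]
    | tmul b a =>
      have : b ⊗ₜ[K] a = b • ((1 : B) ⊗ₜ[K] a : T) := by
        simp [TensorProduct.smul_tmul']
      rw [this, Derivation.map_smul, ← hd, hd']
      simp
  have htop : (⊤ : Submodule T Ω[T⁄B]) = ⊥ := by
    rw [eq_bot_iff, ← KaehlerDifferential.span_range_derivation B T, Submodule.span_le]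
    rintro _ ⟨t, rfl⟩
    simpa using hD t
  refine ⟨fun x y => ?_⟩
  have hx : x ∈ (⊤ : Submodule T Ω[T⁄B]) := trivial
  have hy : y ∈ (⊤ : Submodule T Ω[T⁄B]) := trivial
  rw [htop, Submodule.mem_bot] at hx hy
  rw [hx, hy]

theorem exists_fg_formallyUnramified [Algebra.FiniteType K A]
    [Algebra.FormallyUnramified R (R ⊗[K] A)] :
    ∃ B : Subalgebra K R, B.FG ∧ Algebra.FormallyUnramified B (B ⊗[K] A) := by
  obtain ⟨s, hs⟩ := (inferInstance : Algebra.FiniteType K A).out
  obtain ⟨B, hB, h⟩ := exists_fg_forall_tmul_D_eq_zero K R A s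
  exact ⟨B, hB, formallyUnramified_of_forall_tmul_D_eq_zero K R A B s hs h⟩

end Groth.Agent.Lib.helper5.UnramDescent
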