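import Mathlib

/-!
# Finite type formally unramified algebras are quotients of finitely presented ones (helper5)

* `formallyUnramified_of_adjoin_eq_top`: if `D a = 0` for generators `a` of `S` over `R` then
  `S` is formally unramified over `R`.
* `exists_fg_le_ker_formallyUnramified`: for `J` an ideal of `P = R[x₁..xₙ]` with `P ⧸ J`
  formally unramified, there is a finitely generated `J' ≤ J` with `P ⧸ J'` formally unramified.
* `exists_finitePresentation_formallyUnramified_surjective`.
-/

set_option autoImplicit false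
universe u

namespace Groth.Agent.Lib.helper5.UnramQuot

open TensorProduct KaehlerDifferential

theorem formallyUnramified_of_adjoin_eq_top (R S : Type*) [CommRing R] [CommRing S] [Algebra R S]
    (s : Set S) (hs : Algebra.adjoin R s = ⊤) (h : ∀ a ∈ s, D R S a = 0) :
    Algebra.FormallyUnramified R S := by
  constructor
  have hd' : D R S = 0 := by
    apply Derivation.ext_of_adjoin_eq_top s hs
    intro a ha
    simpa using h a ha
  have htop : (⊤ : Submodule S Ω[S⁄R]) = ⊥ := by
    rw [eq_bot_iff, ← KaehlerDifferential.span_range_derivation R S, Submodule.span_le]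
    rintro _ ⟨t, rfl⟩
    simp [hd']
  refine ⟨fun x y => ?_⟩
  have hx : x ∈ (⊤ : Submodule S Ω[S⁄R]) := trivial
  have hy : y ∈ (⊤ : Submodule S Ω[S⁄R]) := trivial
  rw [htop, Submodule.mem_bot] at hx hy
  rw [hx, hy]

theorem exists_fg_le_ker_formallyUnramified (R : Type*) [CommRing R] (n : ℕ)
    (J : Ideal (MvPolynomial (Fin n) R))
    [Algebra.FormallyUnramified R (MvPolynomial (Fin n) R ⧸ J)] :
    ∃ J' : Ideal (MvPolynomial (Fin n) R), J' ≤ J ∧ J'.FG ∧
      Algebra.FormallyUnramified R (MvPolynomial (Fin n) R ⧸ J') := by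
  classical
  let P := MvPolynomial (Fin n) R
  let S := P ⧸ J
  have hsurj : Function.Surjective (algebraMap P S) := Ideal.Quotient.mk_surjective
  have hker : RingHom.ker (algebraMap P S) = J := Ideal.mk_ker
  -- Step 1: elements `j k ∈ J` with `1 ⊗ D (j k) = 1 ⊗ D (X k)`.
  have h1 : ∀ k : Fin n, ∃ j : P, j ∈ J ∧
      (1 : S) ⊗ₜ[P] (D R P j) = (1 : S) ⊗ₜ[P] (D R P (MvPolynomial.X k)) := by
    intro k
    have hex := KaehlerDifferential.exact_kerCotangentToTensor_mapBaseChange R P S hsurj
    have hmem : KaehlerDifferential.mapBaseChange R P S ((1 : S) ⊗ₜ[P] (D R P (MvPolynomial.X k)))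
        = 0 := Subsingleton.elim _ _
    obtain ⟨c, hc⟩ := (hex _).mp hmem
    obtain ⟨j, rfl⟩ := Ideal.toCotangent_surjective _ c
    refine ⟨j.1, by simpa [hker] using j.2, ?_⟩
    rw [← hc, KaehlerDifferential.kerCotangentToTensor_toCotangent]
  choose j hjJ hj using h1
  -- Step 2: `D (j k - X k) ∈ J • ⊤`.
  have h2 : ∀ k : Fin n, D R P (j k - MvPolynomial.X k) ∈ J • (⊤ : Submodule P Ω[P⁄R]) := by
    intro k
    have h0 : (1 : S) ⊗ₜ[P] (D R P (j k - MvPolynomial.X k)) = 0 := by
      rw [map_sub, TensorProduct.tmul_sub, hj k, sub_self]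
    have := congrArg (TensorProduct.quotTensorEquivQuotSMul Ω[P⁄R] J) h0
    rw [TensorProduct.quotTensorEquivQuotSMul_mk_one_tmul, map_zero,
      Submodule.Quotient.mk_eq_zero] at this
    exact this
  have hspan : (⊤ : Submodule P Ω[P⁄R]) =
      Submodule.span P (Set.range fun i : Fin n => D R P (MvPolynomial.X i)) := by
    rw [← (KaehlerDifferential.mvPolynomialBasis R (Fin n)).span_eq]
    congr 1
    ext x
    simp only [KaehlerDifferential.mvPolynomialBasis_apply, Set.mem_range]
    rfl
  have h3 : ∀ k : Fin n, ∃ a : Fin n →₀ P, (∀ i, a i ∈ J) ∧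
      (a.sum fun i c => c • D R P (MvPolynomial.X i)) = D R P (j k - MvPolynomial.X k) := by
    intro k
    have := h2 k
    rw [hspan, Submodule.mem_ideal_smul_span_iff_exists_sum] at this
    obtain ⟨a, ha, h⟩ := this
    exact ⟨a, ha, h⟩
  choose a haJ ha using h3
  let J' : Ideal P := Ideal.span (Set.range j ∪ Set.range fun kl : Fin n × Fin n => a kl.1 kl.2)
  have hJ'J : J' ≤ J := by
    rw [Ideal.span_le]
    rintro x (⟨k, rfl⟩ | ⟨kl, rfl⟩)
    · exact hjJ k
    · exact haJ _ _
  have hJ'fg : J'.FG := Submodule.fg_span ((Set.finite_range _).union (Set.finite_range _))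
  refine ⟨J', hJ'J, hJ'fg, ?_⟩
  let S' := P ⧸ J'
  have hjJ' : ∀ k, Ideal.Quotient.mk J' (j k) = 0 := fun k =>
    Ideal.Quotient.eq_zero_iff_mem.mpr (Ideal.subset_span (Or.inl ⟨k, rfl⟩))
  have haJ' : ∀ k l, Ideal.Quotient.mk J' (a k l) = 0 := fun k l =>
    Ideal.Quotient.eq_zero_iff_mem.mpr (Ideal.subset_span (Or.inr ⟨(k, l), rfl⟩))
  have hDX : ∀ k : Fin n, D R S' (Ideal.Quotient.mk J' (MvPolynomial.X k)) = 0 := by
    intro k
    have e1 := congrArg (KaehlerDifferential.map R R P S') (ha k)
    rw [KaehlerDifferential.map_D, map_sub] at e1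
    have e2 : algebraMap P S' (j k) = 0 := hjJ' k
    rw [e2, zero_sub, map_neg] at e1
    rw [Finsupp.sum, map_sum] at e1
    have e3 : ∀ i ∈ (a k).support,
        (KaehlerDifferential.map R R P S') ((a k) i • D R P (MvPolynomial.X i)) = 0 := by
      intro i _
      rw [LinearMap.map_smul, algebra_compatible_smul S' ((a k) i)]
      have : algebraMap P S' (a k i) = 0 := haJ' k i
      rw [this]
      exact zero_smul S' (A := Ω[S'⁄R]) _
    rw [Finset.sum_eq_zero e3] at e1
    have := neg_eq_zero.mp e1.symm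
    exact this
  apply formallyUnramified_of_adjoin_eq_top R S'
    (Set.range fun k : Fin n => Ideal.Quotient.mk J' (MvPolynomial.X k))
  · have h := MvPolynomial.adjoin_range_X (R := R) (σ := Fin n)
    have h' := congrArg (Subalgebra.map (Ideal.Quotient.mkₐ R J')) h
    rw [Algebra.map_top, AlgHom.map_adjoin, ← Set.range_comp] at h'
    rw [(AlgHom.range_eq_top _).mpr (Ideal.Quotient.mkₐ_surjective R J')] at h'
    exact h'
  · rintro _ ⟨k, rfl⟩
    exact hDX k

theorem exists_finitePresentation_formallyUnramified_surjective (R : Type u) [CommRing R]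
    (S : Type u) [CommRing S] [Algebra R S] [Algebra.FiniteType R S]
    [Algebra.FormallyUnramified R S] :
    ∃ (S' : Type u) (_ : CommRing S') (_ : Algebra R S') (_ : Algebra.FinitePresentation R S')
      (_ : Algebra.FormallyUnramified R S') (φ : S' →ₐ[R] S), Function.Surjective φ := by
  obtain ⟨n, f, hf⟩ := Algebra.FiniteType.iff_quotient_mvPolynomial''.mp
    (inferInstance : Algebra.FiniteType R S)
  let J : Ideal (MvPolynomial (Fin n) R) := RingHom.ker f.toRingHom
  let e : (MvPolynomial (Fin n) R ⧸ J) ≃ₐ[R] S := Ideal.quotientKerAlgEquivOfSurjective hf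
  have : Algebra.FormallyUnramified R (MvPolynomial (Fin n) R ⧸ J) :=
    Algebra.FormallyUnramified.of_equiv e.symm
  obtain ⟨J', hJ'J, hJ'fg, hJ'u⟩ := exists_fg_le_ker_formallyUnramified R n J
  refine ⟨MvPolynomial (Fin n) R ⧸ J', inferInstance, inferInstance,
    Algebra.FinitePresentation.quotient hJ'fg, hJ'u,
    e.toAlgHom.comp (Ideal.Quotient.factorₐ R hJ'J), ?_⟩
  exact e.surjective.comp (Ideal.Quotient.factor_surjective hJ'J)

end Groth.Agent.Lib.helper5.UnramQuot
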