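/-
Alternating edge labellings along walks in a simple graph (helper5).
Used by S13409, S13410.
-/
import Mathlib.Combinatorics.SimpleGraph.Finite
import Mathlib.Combinatorics.SimpleGraph.Connectivity.Connected
import Mathlib.Algebra.Group.Pi.Lemmas
import Mathlib.Algebra.BigOperators.Group.Finset.Basic
import Mathlib.Algebra.BigOperators.Pi
import Mathlib.Algebra.BigOperators.Ring.Finset
import Mathlib.Algebra.Ring.Parity
import Mathlib.Tactic

set_option autoImplicit false
universe u v

namespace Groth.Agent.Lib.helper5

open SimpleGraph

variable {V : Type u} [DecidableEq V]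

/-- The alternating labelling of the edges along a walk: the `i`-th edge gets `(-1)^i`. -/
def chi {H : SimpleGraph V} : ∀ {u v : V}, H.Walk u v → Sym2 V → ℤ
  | _, _, .nil => 0
  | u, _, .cons (v := v') _ p => Pi.single s(u, v') 1 - chi p

lemma chi_eq_zero_of_not_mem_edgeSet {H : SimpleGraph V} {u v : V} (p : H.Walk u v) (e : Sym2 V)
    (he : e ∉ H.edgeSet) : chi p e = 0 := by
  induction p with
  | nil => rfl
  | cons h p ih =>
    rename_i a b c
    have hne : e ≠ s(a, b) := by
      rintro rfl
      exact he ((SimpleGraph.mem_edgeSet H).mpr h)
    simp [chi, ih, Pi.single_apply, hne]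

/-- In a graph with a proper two-colouring, the parity of the length of a walk is determined by the
colours of its end points. -/
lemma even_length_iff {H : SimpleGraph V} (c : V → Bool) (hbip : ∀ v w : V, H.Adj v w → c v ≠ c w)
    {u v : V} (p : H.Walk u v) : Even p.length ↔ c u = c v := by
  induction p with
  | nil => simp
  | cons h p ih =>
    rename_i a b d
    rw [SimpleGraph.Walk.length_cons, Nat.even_add_one, ih]
    have := hbip a b h
    revert this
    cases c a <;> cases c b <;> cases c d <;> simp

variable [Fintype V]

/-- The incidence sums of the alternating labelling along a walk. -/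
lemma sum_incidence_chi (G : SimpleGraph V) [DecidableRel G.Adj] {H : SimpleGraph V} (hle : H ≤ G)
    {u v : V} (p : H.Walk u v) (w : V) :
    ∑ e ∈ G.incidenceFinset w, chi p e =
      (if u = w then 1 else 0) - (-1) ^ p.length * (if v = w then 1 else 0) := by
  induction p with
  | nil => simp [chi]
  | cons h p ih =>
    rename_i a b d
    have hadj : G.Adj a b := hle h
    have hab : a ≠ b := G.ne_of_adj hadj
    simp only [chi, Pi.sub_apply, Finset.sum_sub_distrib, ih, SimpleGraph.Walk.length_cons]
    have hsingle : ∑ e ∈ G.incidenceFinset w, (Pi.single s(a, b) (1 : ℤ) : Sym2 V → ℤ) e =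
        (if a = w then 1 else 0) + (if b = w then 1 else 0) := by
      simp only [Pi.single_apply, Finset.sum_ite_eq', SimpleGraph.mem_incidenceFinset,
        SimpleGraph.mk'_mem_incidenceSet_iff, hadj, true_and]
      by_cases h1 : a = w
      · subst h1
        have : ¬ b = a := fun h => hab h.symm
        simp [this]
      · by_cases h2 : b = w
        · subst h2
          simp [h1]
        · have h1' : ¬ w = a := fun h => h1 h.symm
          have h2' : ¬ w = b := fun h => h2 h.symm
          simp [h1, h2, h1', h2']
    rw [hsingle, pow_succ]
    ring

end Groth.Agent.Lib.helper5
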